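import Mathlib
import Cfsg.Prelude.Def_Blocks

/-!
# The p-adic place of ℂ attached to a maximal ideal of the algebraic integers

For a proper ideal `M` of the algebraic integers, `place M` is a valuation subring of ℂ whose
maximal ideal contains `M`. On algebraic numbers it cuts out exactly `MemLocalRing M` and
`MemLocalIdeal M`. All congruences "modulo the local ideal" are computed in its residue field
through the map `res M`.
-/

set_option autoImplicit false
set_option linter.unusedSectionVars false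

namespace Cfsg.Lib.Blocks

open Polynomial IsLocalRing

variable {p : ℕ} {M : Ideal AlgInt}

/-- A valuation subring of ℂ whose maximal ideal contains `M`. -/
noncomputable def place (M : Ideal AlgInt) : ValuationSubring ℂ := by
  classical
  exact if h : M ≠ ⊤ then
    Classical.choose (Ideal.image_subset_nonunits_valuationSubring
      (A := (integralClosure ℤ ℂ).toSubring) M h)
  else ⊤

lemma place_spec (hM : IsPModular p M) :
    (∀ a : AlgInt, (a : ℂ) ∈ place M) ∧ ∀ a ∈ M, (a : ℂ) ∈ (place M).nonunits := by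
  have hne : M ≠ ⊤ := hM.2.1.ne_top
  have h := Classical.choose_spec (Ideal.image_subset_nonunits_valuationSubring
      (A := (integralClosure ℤ ℂ).toSubring) M hne)
  have hp : place M = Classical.choose (Ideal.image_subset_nonunits_valuationSubring
      (A := (integralClosure ℤ ℂ).toSubring) M hne) := by
    rw [place]; exact dif_pos hne
  rw [hp]
  exact ⟨fun a => h.1 a.2, fun a ha => h.2 ⟨a, ha, rfl⟩⟩

/-- `Small M z` : `z` lies in the maximal ideal of `place M`. -/
def Small (M : Ideal AlgInt) (z : ℂ) : Prop := z ∈ (place M).nonunits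

lemma isIntegral_mem_place (hM : IsPModular p M) {z : ℂ} (hz : IsIntegral ℤ z) : z ∈ place M :=
  (place_spec hM).1 ⟨z, hz⟩

lemma natCast_mem_place (n : ℕ) : (n : ℂ) ∈ place M :=
  natCast_mem (place M) n

lemma intCast_mem_place (n : ℤ) : (n : ℂ) ∈ place M :=
  intCast_mem (place M) n

lemma Small.mem_place {z : ℂ} (h : Small M z) : z ∈ place M :=
  ValuationSubring.nonunits_subset h

lemma small_zero : Small M (0 : ℂ) := (place M).nonunits.zero_mem

lemma Small.add {x y : ℂ} (hx : Small M x) (hy : Small M y) : Small M (x + y) :=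
  (place M).nonunits.add_mem hx hy

lemma Small.neg {x : ℂ} (hx : Small M x) : Small M (-x) := (place M).nonunits.neg_mem hx

lemma Small.sub {x y : ℂ} (hx : Small M x) (hy : Small M y) : Small M (x - y) :=
  (place M).nonunits.sub_mem hx hy

lemma small_iff {z : ℂ} : Small M z ↔ (place M).valuation z < 1 :=
  (place M).mem_nonunits_iff

lemma Small.mul_mem {x y : ℂ} (hx : Small M x) (hy : y ∈ place M) : Small M (x * y) := by
  rw [small_iff, map_mul]
  exact mul_lt_one_of_lt_of_le (small_iff.1 hx) (((place M).valuation_le_one_iff y).2 hy)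

lemma Small.mem_mul {x y : ℂ} (hy : Small M y) (hx : x ∈ place M) : Small M (x * y) := by
  rw [mul_comm]; exact hy.mul_mem hx

lemma small_sum {ι : Type*} (s : Finset ι) (f : ι → ℂ) (h : ∀ i ∈ s, Small M (f i)) :
    Small M (∑ i ∈ s, f i) :=
  sum_mem (B := NonUnitalSubring ℂ) (S := (place M).nonunits) h

lemma not_small_one : ¬ Small M (1 : ℂ) := by simp [small_iff]

/-- `IsUnitAt M z` : `z` has valuation one at the place. -/
def IsUnitAt (M : Ideal AlgInt) (z : ℂ) : Prop := (place M).valuation z = 1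

lemma isUnitAt_iff {z : ℂ} : IsUnitAt M z ↔ z ∈ place M ∧ ¬ Small M z := by
  rw [IsUnitAt, small_iff, not_lt, ← ValuationSubring.valuation_le_one_iff]
  exact ⟨fun h => ⟨h.le, h.ge⟩, fun h => le_antisymm h.1 h.2⟩

lemma IsUnitAt.ne_zero {z : ℂ} (h : IsUnitAt M z) : z ≠ 0 := by
  rintro rfl; simp [IsUnitAt] at h

lemma IsUnitAt.mul {x y : ℂ} (hx : IsUnitAt M x) (hy : IsUnitAt M y) : IsUnitAt M (x * y) := by
  unfold IsUnitAt at *; rw [map_mul, hx, hy, one_mul]

lemma IsUnitAt.inv {x : ℂ} (hx : IsUnitAt M x) : IsUnitAt M x⁻¹ := by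
  unfold IsUnitAt at *; rw [map_inv₀, hx, inv_one]

lemma IsUnitAt.mem_place {x : ℂ} (hx : IsUnitAt M x) : x ∈ place M := (isUnitAt_iff.1 hx).1

lemma IsUnitAt.not_small {x : ℂ} (hx : IsUnitAt M x) : ¬ Small M x := (isUnitAt_iff.1 hx).2

/-! ### Integers -/

lemma int_mem_M_iff (hM : IsPModular p M) (n : ℤ) : (n : AlgInt) ∈ M ↔ (p : ℤ) ∣ n := by
  have hp := hM.1
  haveI := Fact.mk hp
  refine ⟨fun h => ?_, fun ⟨k, hk⟩ => by subst hk; push_cast; exact M.mul_mem_right _ hM.2.2⟩
  by_contra hnd
  obtain ⟨a, b, hab⟩ : IsCoprime (p : ℤ) n :=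
    (Nat.prime_iff_prime_int.mp hp).coprime_iff_not_dvd.2 hnd
  apply hM.2.1.ne_top
  rw [Ideal.eq_top_iff_one]
  have : ((a * (p : ℤ) + b * n : ℤ) : AlgInt) ∈ M := by
    push_cast
    exact M.add_mem (M.mul_mem_left _ hM.2.2) (M.mul_mem_left _ h)
  rw [hab] at this
  simpa using this

lemma small_prime (hM : IsPModular p M) : Small M (p : ℂ) := by
  have := (place_spec hM).2 (p : AlgInt) hM.2.2
  simpa [Small] using this

lemma small_intCast (hM : IsPModular p M) {n : ℤ} (h : (p : ℤ) ∣ n) : Small M (n : ℂ) := by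
  obtain ⟨k, rfl⟩ := h
  push_cast
  exact (small_prime hM).mul_mem (intCast_mem_place k)

lemma small_natCast (hM : IsPModular p M) {n : ℕ} (h : p ∣ n) : Small M (n : ℂ) := by
  simpa using small_intCast hM (n := (n : ℤ)) (Int.natCast_dvd_natCast.2 h)

lemma not_small_intCast (hM : IsPModular p M) {n : ℤ} (h : ¬ (p : ℤ) ∣ n) :
    ¬ Small M (n : ℂ) := by
  intro hn
  obtain ⟨a, b, hab⟩ : IsCoprime (p : ℤ) n :=
    (Nat.prime_iff_prime_int.mp hM.1).coprime_iff_not_dvd.2 h
  refine not_small_one (M := M) ?_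
  have : ((1 : ℤ) : ℂ) = (a : ℂ) * (p : ℂ) + (b : ℂ) * (n : ℂ) := by
    rw [← hab]; push_cast; ring
  rw [← Int.cast_one, this]
  exact ((small_prime hM).mem_mul (intCast_mem_place a)).add (hn.mem_mul (intCast_mem_place b))

lemma small_intCast_iff (hM : IsPModular p M) (n : ℤ) : Small M (n : ℂ) ↔ (p : ℤ) ∣ n :=
  ⟨fun h => by_contra fun hn => not_small_intCast hM hn h, small_intCast hM⟩

lemma small_natCast_iff (hM : IsPModular p M) (n : ℕ) : Small M (n : ℂ) ↔ p ∣ n := by
  have := small_intCast_iff hM (n : ℤ)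
  simpa [Int.natCast_dvd_natCast] using this

lemma isUnitAt_natCast (hM : IsPModular p M) {n : ℕ} (h : ¬ p ∣ n) : IsUnitAt M (n : ℂ) :=
  isUnitAt_iff.2 ⟨natCast_mem_place n, fun hs => h ((small_natCast_iff hM n).1 hs)⟩

/-- The valuation of a positive natural number is that of the `p`-power in it. -/
lemma valuation_natCast (hM : IsPModular p M) {n : ℕ} (hn : n ≠ 0) :
    (place M).valuation (n : ℂ) = (place M).valuation (p : ℂ) ^ n.factorization p := by
  conv_lhs => rw [← Nat.ordProj_mul_ordCompl_eq_self n p]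
  rw [Nat.cast_mul, map_mul, Nat.cast_pow, map_pow,
    (isUnitAt_natCast hM (Nat.not_dvd_ordCompl hM.1 hn) : (place M).valuation _ = 1), mul_one]

lemma valuation_prime_lt_one (hM : IsPModular p M) : (place M).valuation (p : ℂ) < 1 :=
  small_iff.1 (small_prime hM)

lemma valuation_prime_pos (hM : IsPModular p M) : 0 < (place M).valuation (p : ℂ) :=
  zero_lt_iff.2 ((Valuation.ne_zero_iff _).2 (Nat.cast_ne_zero.2 hM.1.ne_zero))

lemma valuation_prime_pow_le_iff (hM : IsPModular p M) (a b : ℕ) :
    (place M).valuation (p : ℂ) ^ a ≤ (place M).valuation (p : ℂ) ^ b ↔ b ≤ a :=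
  pow_le_pow_iff_right_of_lt_one₀ (valuation_prime_pos hM) (valuation_prime_lt_one hM)

lemma valuation_prime_pow_lt_iff (hM : IsPModular p M) (a b : ℕ) :
    (place M).valuation (p : ℂ) ^ a < (place M).valuation (p : ℂ) ^ b ↔ b < a :=
  pow_lt_pow_iff_right_of_lt_one₀ (valuation_prime_pos hM) (valuation_prime_lt_one hM)

/-! ### Comparison with `MemLocalRing` and `MemLocalIdeal` -/

lemma mem_M_iff_small (hM : IsPModular p M) (a : AlgInt) : a ∈ M ↔ Small M (a : ℂ) := by
  refine ⟨(place_spec hM).2 a, fun h => ?_⟩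
  by_contra ha
  obtain ⟨x, m, hm, hxm⟩ := hM.2.1.exists_inv ha
  refine not_small_one (M := M) ?_
  have := congrArg (fun z : AlgInt => (z : ℂ)) hxm
  push_cast at this
  rw [← this]
  exact (h.mem_mul ((place_spec hM).1 x)).add ((place_spec hM).2 m hm)

lemma isUnitAt_of_not_mem (hM : IsPModular p M) {b : AlgInt} (hb : b ∉ M) :
    IsUnitAt M (b : ℂ) :=
  isUnitAt_iff.2 ⟨(place_spec hM).1 b, fun h => hb ((mem_M_iff_small hM b).2 h)⟩

lemma mem_place_of_memLocalRing (hM : IsPModular p M) {z : ℂ} (h : MemLocalRing M z) :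
    z ∈ place M := by
  obtain ⟨a, b, hb, rfl⟩ := h
  rw [div_eq_mul_inv]
  exact mul_mem ((place_spec hM).1 a) (isUnitAt_of_not_mem hM hb).inv.mem_place

lemma small_of_memLocalIdeal (hM : IsPModular p M) {z : ℂ} (h : MemLocalIdeal M z) :
    Small M z := by
  obtain ⟨a, b, ha, hb, rfl⟩ := h
  rw [div_eq_mul_inv]
  exact Small.mul_mem ((place_spec hM).2 a ha) (isUnitAt_of_not_mem hM hb).inv.mem_place

/-- A complex number lying in every valuation subring is an algebraic integer. -/
lemma isIntegral_of_forall_valuationSubring {x : ℂ} (h : ∀ W : ValuationSubring ℂ, x ∈ W) :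
    IsIntegral ℤ x := by
  by_contra hx
  have key := @iInf_valuationSubring_superset ℂ _ (∅ : Set ℂ)
  have hxmem : x ∈ (⨅ V : {V : ValuationSubring ℂ // (∅ : Set ℂ) ⊆ V.toSubring},
      V.1.toSubring) := Subring.mem_iInf.2 fun V => h V.1
  rw [key] at hxmem
  apply hx
  have hint : IsIntegral (Subring.closure (∅ : Set ℂ)) x := hxmem
  obtain ⟨q, hq1, hq2⟩ := hint
  -- the prime subring is the image of `ℤ`
  have hbot : Subring.closure (∅ : Set ℂ) = (Int.castRingHom ℂ).range := by
    rw [Subring.closure_empty]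
    ext y
    simp [Subring.mem_bot]
  have hl : q.map (algebraMap _ ℂ) ∈ Polynomial.lifts (Int.castRingHom ℂ) := by
    rw [Polynomial.lifts_iff_coeff_lifts]
    intro n
    rw [Polynomial.coeff_map]
    have : ((q.coeff n : Subring.closure (∅ : Set ℂ)) : ℂ) ∈ (Int.castRingHom ℂ).range :=
      hbot ▸ (q.coeff n).2
    exact RingHom.mem_range.1 this
  obtain ⟨r, hr1, _, hr3⟩ := Polynomial.lifts_and_degree_eq_and_monic hl (hq1.map _)
  refine ⟨r, hr3, ?_⟩
  rw [← Polynomial.eval_map, show algebraMap ℤ ℂ = Int.castRingHom ℂ from algebraMap_int_eq ℂ,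
    hr1, Polynomial.eval_map]
  exact hq2

/-- An algebraic number in the place is a quotient of algebraic integers with denominator
outside `M`. -/
lemma memLocalRing_of_mem_place (hM : IsPModular p M) {z : ℂ} (hz : IsAlgebraic ℚ z)
    (hV : z ∈ place M) : MemLocalRing M z := by
  obtain ⟨q, hq0, hq⟩ : IsAlgebraic ℤ z := (IsFractionRing.isAlgebraic_iff ℤ ℚ ℂ).2 hz
  set q' := q.primPart with hq'
  have hz' : aeval z q' = 0 := aeval_primPart_eq_zero hq0 hq
  set n := q'.natDegree with hn
  -- c i = a_n z^i + a_{n-1} z^(i-1) + ... + a_{n-i}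
  let c : ℕ → ℂ := fun i => ∑ j ∈ Finset.range (i + 1), (q'.coeff (n - j) : ℂ) * z ^ (i - j)
  have hc0 : c 0 = (q'.coeff n : ℂ) := by simp [c]
  have hsucc : ∀ i, c (i + 1) = c i * z + (q'.coeff (n - (i + 1)) : ℂ) := by
    intro i
    simp only [c]
    rw [Finset.sum_range_succ, Nat.sub_self, pow_zero, mul_one, Finset.sum_mul]
    congr 1
    refine Finset.sum_congr rfl fun j hj => ?_
    rw [Finset.mem_range] at hj
    rw [mul_assoc, ← pow_succ]
    congr 2
    omega
  have hlast : c n = 0 := by
    simp only [c]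
    rw [aeval_eq_sum_range, ← hn] at hz'
    rw [← Finset.sum_range_reflect] at hz'
    rw [← hz']
    refine Finset.sum_congr rfl fun j hj => ?_
    rw [Finset.mem_range] at hj
    simp only [zsmul_eq_mul, Nat.add_sub_cancel]
  -- each `c i` and `c i * z` is integral: test at every valuation subring
  have hint : ∀ i, i < n → IsIntegral ℤ (c i) ∧ IsIntegral ℤ (c i * z) := by
    intro i hi
    have key : ∀ W : ValuationSubring ℂ, c i ∈ W ∧ c i * z ∈ W := by
      intro W
      by_cases hW : z ∈ W
      · have hci : c i ∈ W := sum_mem fun j _ =>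
          mul_mem (intCast_mem W _) (pow_mem hW _)
        exact ⟨hci, mul_mem hci hW⟩
      · have hW' : z⁻¹ ∈ W := (W.mem_or_inv_mem z).resolve_left hW
        have hz0 : z ≠ 0 := fun h => hW (h ▸ zero_mem W)
        -- descending from `c n = 0`
        have down : ∀ k, k ≤ n → c (n - k) ∈ W ∧ (0 < k → c (n - k) * z ∈ W) := by
          intro k
          induction k with
          | zero => exact fun _ => ⟨by simp [hlast, zero_mem], fun h => absurd h (by simp)⟩
          | succ k ih =>
            intro hk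
            obtain ⟨h1, _⟩ := ih (by omega)
            have e := hsucc (n - (k + 1))
            rw [show n - (k + 1) + 1 = n - k by omega] at e
            have h2 : c (n - (k + 1)) * z ∈ W := by
              rw [eq_sub_of_add_eq e.symm]; exact sub_mem h1 (intCast_mem W _)
            refine ⟨?_, fun _ => h2⟩
            have := mul_mem h2 hW'
            rwa [mul_assoc, mul_inv_cancel₀ hz0, mul_one] at this
        obtain ⟨h1, h2⟩ := down (n - i) (Nat.sub_le _ _)
        rw [Nat.sub_sub_self hi.le] at h1 h2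
        exact ⟨h1, h2 (by omega)⟩
    exact ⟨isIntegral_of_forall_valuationSubring fun W => (key W).1,
      isIntegral_of_forall_valuationSubring fun W => (key W).2⟩
  by_cases hall : ∀ i, i < n → Small M (c i)
  · exfalso
    have hs : ∀ j, j ≤ n → Small M (c j) := fun j hj => by
      rcases hj.lt_or_eq with h | h
      · exact hall j h
      · rw [h, hlast]; exact small_zero
    have hall' : ∀ j, j ≤ n → (p : ℤ) ∣ q'.coeff (n - j) := by
      intro j hj
      rw [← small_intCast_iff hM]
      rcases j with _ | j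
      · simpa [hc0] using hs 0 hj
      · have h1 : (q'.coeff (n - (j + 1)) : ℂ) = c (j + 1) - c j * z := by rw [hsucc]; ring
        rw [h1]
        exact (hs _ hj).sub ((hs j (by omega)).mul_mem hV)
    have hdvd : (p : ℤ) ∣ q'.content := by
      refine Polynomial.dvd_content_iff_C_dvd.2 ((C_dvd_iff_dvd_coeff _ _).2 fun i => ?_)
      by_cases hi : i ≤ n
      · have := hall' (n - i) (Nat.sub_le _ _)
        rwa [Nat.sub_sub_self hi] at this
      · rw [Polynomial.coeff_eq_zero_of_natDegree_lt (by omega)]; exact dvd_zero _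
    rw [(isPrimitive_primPart q).content_eq_one] at hdvd
    exact hM.1.one_lt.ne' (by exact_mod_cast Int.eq_one_of_dvd_one (by positivity) hdvd)
  · push Not at hall
    obtain ⟨i, hi, hns⟩ := hall
    refine ⟨⟨c i * z, (hint i hi).2⟩, ⟨c i, (hint i hi).1⟩,
      fun h => hns ((mem_M_iff_small hM _).1 h), ?_⟩
    have : c i ≠ 0 := fun h => hns (h ▸ small_zero)
    show c i * z / c i = z
    field_simp

lemma memLocalIdeal_of_small (hM : IsPModular p M) {z : ℂ} (hz : IsAlgebraic ℚ z)
    (hs : Small M z) : MemLocalIdeal M z := by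
  obtain ⟨a, b, hb, rfl⟩ := memLocalRing_of_mem_place hM hz hs.mem_place
  refine ⟨a, b, (mem_M_iff_small hM a).2 ?_, hb, rfl⟩
  have hb0 : (b : ℂ) ≠ 0 := (isUnitAt_of_not_mem hM hb).ne_zero
  have := hs.mul_mem ((place_spec hM).1 b)
  rwa [div_mul_cancel₀ _ hb0] at this

/-! ### The residue field -/

/-- The residue field of the place. -/
abbrev Res (M : Ideal AlgInt) : Type := IsLocalRing.ResidueField (place M)

/-- The residue of an element of the place (zero off the place). -/
noncomputable def res (M : Ideal AlgInt) (z : ℂ) : Res M := by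
  classical
  exact if h : z ∈ place M then IsLocalRing.residue (place M) ⟨z, h⟩ else 0

lemma res_coe (x : place M) : res M (x : ℂ) = IsLocalRing.residue (place M) x := by
  simp [res]

@[simp] lemma res_zero : res M 0 = 0 := by
  rw [← ZeroMemClass.coe_zero (place M), res_coe, map_zero]

@[simp] lemma res_one : res M 1 = 1 := by
  rw [← OneMemClass.coe_one (place M), res_coe, map_one]

lemma res_add {x y : ℂ} (hx : x ∈ place M) (hy : y ∈ place M) :
    res M (x + y) = res M x + res M y := by
  show res M (((⟨x, hx⟩ + ⟨y, hy⟩ : place M)) : ℂ) = _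
  rw [res_coe, map_add, ← res_coe, ← res_coe]

lemma res_mul {x y : ℂ} (hx : x ∈ place M) (hy : y ∈ place M) :
    res M (x * y) = res M x * res M y := by
  show res M (((⟨x, hx⟩ * ⟨y, hy⟩ : place M)) : ℂ) = _
  rw [res_coe, map_mul, ← res_coe, ← res_coe]

lemma res_sub {x y : ℂ} (hx : x ∈ place M) (hy : y ∈ place M) :
    res M (x - y) = res M x - res M y := by
  show res M (((⟨x, hx⟩ - ⟨y, hy⟩ : place M)) : ℂ) = _
  rw [res_coe, map_sub, ← res_coe, ← res_coe]

lemma res_sum {ι : Type*} (s : Finset ι) (f : ι → ℂ) (h : ∀ i ∈ s, f i ∈ place M) :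
    res M (∑ i ∈ s, f i) = ∑ i ∈ s, res M (f i) := by
  classical
  induction s using Finset.induction with
  | empty => simp
  | insert a s ha ih =>
    rw [Finset.sum_insert ha, Finset.sum_insert ha,
      res_add (h a (Finset.mem_insert_self a s))
        (sum_mem fun i hi => h i (Finset.mem_insert_of_mem hi)),
      ih fun i hi => h i (Finset.mem_insert_of_mem hi)]

lemma res_eq_zero_iff {z : ℂ} (h : z ∈ place M) : res M z = 0 ↔ Small M z := by
  rw [show res M z = IsLocalRing.residue (place M) ⟨z, h⟩ from res_coe ⟨z, h⟩,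
    IsLocalRing.residue_eq_zero_iff]
  exact (ValuationSubring.coe_mem_nonunits_iff (A := place M) (a := ⟨z, h⟩)).symm

lemma res_eq_iff {x y : ℂ} (hx : x ∈ place M) (hy : y ∈ place M) :
    res M x = res M y ↔ Small M (x - y) := by
  rw [← res_eq_zero_iff (sub_mem hx hy), res_sub hx hy, sub_eq_zero]

lemma res_natCast (n : ℕ) : res M (n : ℂ) = (n : Res M) := by
  have : ((n : place M) : ℂ) = (n : ℂ) := by simp
  rw [← this, res_coe, map_natCast]

lemma res_intCast (n : ℤ) : res M (n : ℂ) = (n : Res M) := by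
  have : ((n : place M) : ℂ) = (n : ℂ) := by simp
  rw [← this, res_coe, map_intCast]

lemma res_natCast_eq_zero_iff (hM : IsPModular p M) (n : ℕ) : (n : Res M) = 0 ↔ p ∣ n := by
  rw [← res_natCast, res_eq_zero_iff (natCast_mem_place n), small_natCast_iff hM]

lemma charP_res (hM : IsPModular p M) : CharP (Res M) p :=
  ⟨fun n => res_natCast_eq_zero_iff hM n⟩

end Cfsg.Lib.Blocks
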