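import Mathlib
import Cfsg.Agent.Chars.Core
import Cfsg.Agent.Blocks.LocalRing

/-!
# The group algebra, central characters

Elements of `MonoidAlgebra R G` are handled through their coefficient functions `fn`.
For a central element `a` and an irreducible character `χ`, `omega χ a` is the scalar by which
`a` acts.
-/

set_option autoImplicit false
set_option linter.unusedSectionVars false

namespace Cfsg.Lib.Blocks

open scoped ComplexConjugate
open Cfsg.Lib.Chars

universe u

section General

variable {G : Type u} [Group G] {R : Type*} [CommRing R]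

/-- The coefficient function. -/
noncomputable def fn (a : MonoidAlgebra R G) : G → R := fun g => a.coeff g

/-- The group algebra element with given coefficient function. -/
noncomputable def ofFn [Finite G] (f : G → R) : MonoidAlgebra R G :=
  MonoidAlgebra.ofCoeff (Finsupp.equivFunOnFinite.symm f)

@[simp] lemma fn_ofFn [Finite G] (f : G → R) : fn (ofFn f) = f := by
  funext g; simp [fn, ofFn]

lemma fn_ext {a b : MonoidAlgebra R G} (h : ∀ g, fn a g = fn b g) : a = b :=
  MonoidAlgebra.ext (Finsupp.ext h)

@[simp] lemma fn_zero (g : G) : fn (0 : MonoidAlgebra R G) g = 0 := rfl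

@[simp] lemma fn_add (a b : MonoidAlgebra R G) (g : G) : fn (a + b) g = fn a g + fn b g := rfl

@[simp] lemma fn_neg (a : MonoidAlgebra R G) (g : G) : fn (-a) g = -fn a g := by
  have := congrArg (fun f : G →₀ R => f g) (MonoidAlgebra.coeff_add a (-a))
  simp only [add_neg_cancel, MonoidAlgebra.coeff_zero, Finsupp.coe_zero, Pi.zero_apply,
    Finsupp.coe_add, Pi.add_apply] at this
  exact eq_neg_of_add_eq_zero_right this.symm

@[simp] lemma fn_sub (a b : MonoidAlgebra R G) (g : G) : fn (a - b) g = fn a g - fn b g := by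
  rw [sub_eq_add_neg, fn_add, fn_neg, sub_eq_add_neg]

@[simp] lemma fn_smul (c : R) (a : MonoidAlgebra R G) (g : G) : fn (c • a) g = c * fn a g := by
  simp [fn]

lemma fn_sum {ι : Type*} (s : Finset ι) (a : ι → MonoidAlgebra R G) (g : G) :
    fn (∑ i ∈ s, a i) g = ∑ i ∈ s, fn (a i) g := by
  simp [fn]

lemma fn_single [DecidableEq G] (x g : G) (r : R) :
    fn (MonoidAlgebra.single x r) g = if x = g then r else 0 := by
  simp [fn, Finsupp.single_apply]

lemma fn_one [DecidableEq G] (g : G) : fn (1 : MonoidAlgebra R G) g = if 1 = g then 1 else 0 := by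
  rw [MonoidAlgebra.one_def, fn_single]

lemma fn_single_mul (x g : G) (r : R) (a : MonoidAlgebra R G) :
    fn (MonoidAlgebra.single x r * a) g = r * fn a (x⁻¹ * g) := by
  have := MonoidAlgebra.coeff_single_mul_eq_mul_coeff (x := a) (r := r) (m := x) (m₁ := g)
    (x⁻¹ * g) (fun m' _ => by
      constructor
      · rintro rfl; simp
      · rintro rfl; simp)
  exact this

lemma fn_mul_single (x g : G) (r : R) (a : MonoidAlgebra R G) :
    fn (a * MonoidAlgebra.single x r) g = fn a (g * x⁻¹) * r := by
  have := MonoidAlgebra.coeff_mul_single_eq_coeff_mul (x := a) (r := r) (m := x) (m₁ := g)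
    (g * x⁻¹) (fun m' _ => by
      constructor
      · rintro rfl; simp
      · rintro rfl; simp)
  exact this

section Fintype

variable [Fintype G]

lemma eq_sum_single (a : MonoidAlgebra R G) : a = ∑ g, MonoidAlgebra.single g (fn a g) := by
  classical
  refine fn_ext fun g => ?_
  rw [fn_sum]
  simp [fn_single]

lemma fn_mul (a b : MonoidAlgebra R G) (g : G) :
    fn (a * b) g = ∑ h, fn a h * fn b (h⁻¹ * g) := by
  conv_lhs => rw [eq_sum_single a, Finset.sum_mul, fn_sum]
  simp only [fn_single_mul]

lemma fn_mul' (a b : MonoidAlgebra R G) (g : G) :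
    fn (a * b) g = ∑ h, fn a (g * h⁻¹) * fn b h := by
  conv_lhs => rw [eq_sum_single b, Finset.mul_sum, fn_sum]
  simp only [fn_mul_single]

end Fintype

/-- Coefficients constant on conjugacy classes. -/
def IsCentralFn (a : MonoidAlgebra R G) : Prop := ∀ g h : G, fn a (h * g * h⁻¹) = fn a g

lemma IsCentralFn.mul_comm' {a : MonoidAlgebra R G} (ha : IsCentralFn a) (g h : G) :
    fn a (g * h) = fn a (h * g) := by
  rw [← ha (g * h) h]; congr 1; group

lemma IsCentralFn.apply_isConj {a : MonoidAlgebra R G} (ha : IsCentralFn a) {g h : G}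
    (hgh : IsConj g h) : fn a g = fn a h := by
  obtain ⟨c, rfl⟩ := isConj_iff.1 hgh
  exact (ha g c).symm

lemma isCentralFn_zero : IsCentralFn (0 : MonoidAlgebra R G) := fun _ _ => by simp

lemma isCentralFn_one : IsCentralFn (1 : MonoidAlgebra R G) := fun g h => by
  classical
  simp only [fn_one]
  by_cases h1 : g = 1
  · simp [h1]
  · rw [if_neg, if_neg (Ne.symm h1)]
    intro hc
    exact h1 (by simpa using hc.symm)

lemma IsCentralFn.add {a b : MonoidAlgebra R G} (ha : IsCentralFn a) (hb : IsCentralFn b) :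
    IsCentralFn (a + b) := fun g h => by simp [ha g h, hb g h]

lemma IsCentralFn.sub {a b : MonoidAlgebra R G} (ha : IsCentralFn a) (hb : IsCentralFn b) :
    IsCentralFn (a - b) := fun g h => by simp [ha g h, hb g h]

lemma IsCentralFn.smul {a : MonoidAlgebra R G} (ha : IsCentralFn a) (c : R) :
    IsCentralFn (c • a) := fun g h => by simp [ha g h]

lemma IsCentralFn.sum {ι : Type*} (s : Finset ι) (a : ι → MonoidAlgebra R G)
    (h : ∀ i ∈ s, IsCentralFn (a i)) : IsCentralFn (∑ i ∈ s, a i) :=
  Finset.sum_induction a IsCentralFn (fun _ _ => IsCentralFn.add) isCentralFn_zero h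

lemma IsCentralFn.single_comm {a : MonoidAlgebra R G} (ha : IsCentralFn a) (x : G) :
    MonoidAlgebra.single x (1 : R) * a = a * MonoidAlgebra.single x 1 := by
  refine fn_ext fun g => ?_
  rw [fn_single_mul, fn_mul_single, one_mul, mul_one, ha.mul_comm']

lemma IsCentralFn.comm [Fintype G] {a : MonoidAlgebra R G} (ha : IsCentralFn a)
    (b : MonoidAlgebra R G) : a * b = b * a := by
  refine fn_ext fun g => ?_
  rw [fn_mul, fn_mul]
  refine Fintype.sum_equiv (Equiv.mk (fun h => h⁻¹ * g) (fun h => g * h⁻¹)
    (fun h => by simp) (fun h => by simp)) _ _ fun h => ?_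
  simp only [Equiv.coe_fn_mk]
  rw [mul_comm, ← ha h g⁻¹, inv_inv, show (h⁻¹ * g)⁻¹ * g = g⁻¹ * h * g by group]

lemma IsCentralFn.mul [Fintype G] {a b : MonoidAlgebra R G} (ha : IsCentralFn a)
    (hb : IsCentralFn b) : IsCentralFn (a * b) := fun g h => by
  rw [fn_mul, fn_mul]
  refine Fintype.sum_equiv (MulAut.conj h⁻¹).toEquiv _ _ fun x => ?_
  simp only [MulEquiv.toEquiv_eq_coe, MulEquiv.coe_toEquiv, MulAut.conj_apply, inv_inv]
  rw [← ha x h⁻¹, inv_inv]
  congr 1
  rw [← hb _ h⁻¹]
  congr 1
  group

lemma isCentralFn_ofFn [Finite G] {f : G → R} (hf : ∀ g h : G, f (h * g * h⁻¹) = f g) :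
    IsCentralFn (ofFn f) := fun g h => by simp [hf g h]

/-- The sum of the conjugacy class of `g`. -/
noncomputable def cls (R : Type*) [CommRing R] [Finite G] (g : G) : MonoidAlgebra R G := by
  classical
  exact ofFn fun x => if IsConj g x then 1 else 0

lemma fn_cls [Finite G] (g x : G) [Decidable (IsConj g x)] :
    fn (cls R g) x = if IsConj g x then 1 else 0 := by
  rw [cls, fn_ofFn]; congr

lemma isCentralFn_cls [Finite G] (g : G) : IsCentralFn (cls R g) := fun x h => by
  classical
  rw [fn_cls, fn_cls]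
  have : IsConj x (h * x * h⁻¹) := isConj_iff.2 ⟨h, rfl⟩
  by_cases hg : IsConj g x
  · rw [if_pos hg, if_pos (hg.trans this)]
  · rw [if_neg hg, if_neg fun h' => hg (h'.trans this.symm)]

end General

variable {G : Type u} [Group G] [Fintype G] {M : Ideal AlgInt} {p : ℕ}

/-- A representative of a conjugacy class. -/
noncomputable def crep {H : Type*} [Group H] (C : ConjClasses H) : H :=
  Quotient.out (s := IsConj.setoid H) C

lemma mk_crep {H : Type*} [Group H] (C : ConjClasses H) : ConjClasses.mk (crep C) = C :=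
  Quotient.out_eq (s := IsConj.setoid H) C

lemma isConj_crep_mk {H : Type*} [Group H] (x : H) : IsConj (crep (ConjClasses.mk x)) x :=
  ConjClasses.mk_eq_mk_iff_isConj.1 (mk_crep _)

/-- The linear extension of a function to the group algebra. -/
noncomputable def chiEval (χ : G → ℂ) (a : MonoidAlgebra ℂ G) : ℂ := ∑ g, fn a g * χ g

/-- The central character evaluated at a group algebra element. -/
noncomputable def omega (χ : G → ℂ) (a : MonoidAlgebra ℂ G) : ℂ := chiEval χ a / χ 1

lemma chiEval_add (χ : G → ℂ) (a b : MonoidAlgebra ℂ G) :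
    chiEval χ (a + b) = chiEval χ a + chiEval χ b := by
  simp [chiEval, add_mul, Finset.sum_add_distrib]

lemma chiEval_sub (χ : G → ℂ) (a b : MonoidAlgebra ℂ G) :
    chiEval χ (a - b) = chiEval χ a - chiEval χ b := by
  simp [chiEval, sub_mul, Finset.sum_sub_distrib]

lemma chiEval_smul (χ : G → ℂ) (c : ℂ) (a : MonoidAlgebra ℂ G) :
    chiEval χ (c • a) = c * chiEval χ a := by
  simp [chiEval, Finset.mul_sum, mul_assoc]

lemma chiEval_sum {ι : Type*} (χ : G → ℂ) (s : Finset ι) (a : ι → MonoidAlgebra ℂ G) :
    chiEval χ (∑ i ∈ s, a i) = ∑ i ∈ s, chiEval χ (a i) := by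
  simp only [chiEval, fn_sum, Finset.sum_mul]
  exact Finset.sum_comm

lemma chiEval_single [DecidableEq G] (χ : G → ℂ) (x : G) (r : ℂ) :
    chiEval χ (MonoidAlgebra.single x r) = r * χ x := by
  simp [chiEval, fn_single]

lemma chiEval_one (χ : G → ℂ) : chiEval χ 1 = χ 1 := by
  classical
  rw [MonoidAlgebra.one_def, chiEval_single, one_mul]

lemma omega_add (χ : G → ℂ) (a b : MonoidAlgebra ℂ G) :
    omega χ (a + b) = omega χ a + omega χ b := by simp [omega, chiEval_add, add_div]

lemma omega_sub (χ : G → ℂ) (a b : MonoidAlgebra ℂ G) :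
    omega χ (a - b) = omega χ a - omega χ b := by simp [omega, chiEval_sub, sub_div]

lemma omega_smul (χ : G → ℂ) (c : ℂ) (a : MonoidAlgebra ℂ G) :
    omega χ (c • a) = c * omega χ a := by simp [omega, chiEval_smul, mul_div_assoc]

lemma omega_sum {ι : Type*} (χ : G → ℂ) (s : Finset ι) (a : ι → MonoidAlgebra ℂ G) :
    omega χ (∑ i ∈ s, a i) = ∑ i ∈ s, omega χ (a i) := by
  simp [omega, chiEval_sum, Finset.sum_div]

lemma omega_zero (χ : G → ℂ) : omega χ 0 = 0 := by simp [omega, chiEval]

lemma omega_one (χ : IrrCharacter G) : omega (χ : G → ℂ) 1 = 1 := by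
  rw [omega, chiEval_one, div_self (IsIrrCharacter.apply_one_ne_zero χ.2)]

lemma trace_asAlgebraHom {V : Type*} [AddCommGroup V] [Module ℂ V] [FiniteDimensional ℂ V]
    (ρ : Representation ℂ G V) (a : MonoidAlgebra ℂ G) :
    LinearMap.trace ℂ V (ρ.asAlgebraHom a) = chiEval ρ.character a := by
  conv_lhs => rw [eq_sum_single a, map_sum, map_sum]
  exact Finset.sum_congr rfl fun g _ => by
    rw [Representation.asAlgebraHom_single, map_smul, smul_eq_mul]; rfl

/-- A central element acts as a scalar, so `chiEval` is multiplicative on it. -/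
lemma chiEval_central_mul (χ : IrrCharacter G) {a : MonoidAlgebra ℂ G} (ha : IsCentralFn a)
    (b : MonoidAlgebra ℂ G) :
    chiEval (χ : G → ℂ) (a * b) = omega (χ : G → ℂ) a * chiEval (χ : G → ℂ) b := by
  obtain ⟨n, ρ, hirr, hρ⟩ := χ.2
  obtain ⟨c, hc⟩ := schur_scalar ρ (ρ.asAlgebraHom a) fun g v => by
    have := congrArg (fun z => ρ.asAlgebraHom z v) (ha.single_comm g)
    simp only [map_mul, Module.End.mul_apply, Representation.asAlgebraHom_single_one] at this
    exact this.symm
  have h1 : chiEval (χ : G → ℂ) a = c * (χ : G → ℂ) 1 := by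
    rw [← hρ, ← trace_asAlgebraHom, hc, map_smul, LinearMap.trace_id, Representation.char_one,
      smul_eq_mul]
  rw [omega, h1, mul_div_assoc, div_self (IsIrrCharacter.apply_one_ne_zero χ.2), mul_one, ← hρ,
    ← trace_asAlgebraHom, ← trace_asAlgebraHom, map_mul, hc, smul_mul_assoc, map_smul, smul_eq_mul]
  congr 2

lemma omega_mul (χ : IrrCharacter G) {a : MonoidAlgebra ℂ G} (ha : IsCentralFn a)
    (b : MonoidAlgebra ℂ G) :
    omega (χ : G → ℂ) (a * b) = omega (χ : G → ℂ) a * omega (χ : G → ℂ) b := by
  rw [omega, chiEval_central_mul χ ha, mul_div_assoc]; rfl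

/-- A central element is determined by its central characters. -/
lemma eq_zero_of_omega_eq_zero {a : MonoidAlgebra ℂ G} (ha : IsCentralFn a)
    (h : ∀ χ : IrrCharacter G, omega (χ : G → ℂ) a = 0) : a = 0 := by
  refine fn_ext fun g => ?_
  have := eq_zero_of_classInner_eq_zero (f := fn a) (fun g h => ha g h) fun χ => ?_
  · rw [this]; rfl
  · have h' := h ⟨_, IsIrrCharacter.conjugate χ.2⟩
    rw [omega, div_eq_zero_iff] at h'
    have h'' := h'.resolve_right (IsIrrCharacter.apply_one_ne_zero (IsIrrCharacter.conjugate χ.2))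
    rw [classInner_def]
    simp only [chiEval] at h''
    rw [h'', mul_zero]

lemma eq_of_omega_eq {a b : MonoidAlgebra ℂ G} (ha : IsCentralFn a) (hb : IsCentralFn b)
    (h : ∀ χ : IrrCharacter G, omega (χ : G → ℂ) a = omega (χ : G → ℂ) b) : a = b :=
  sub_eq_zero.1 (eq_zero_of_omega_eq_zero (ha.sub hb) fun χ => by rw [omega_sub, h, sub_self])

lemma chiEval_cls (χ : G → ℂ) (hχ : IsClassFunction G χ) (g : G) :
    chiEval χ (cls ℂ g) = (Nat.card {x : G // IsConj g x} : ℂ) * χ g := by
  classical
  rw [chiEval, ← sum_isConj hχ g, Finset.sum_filter]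
  exact Finset.sum_congr rfl fun x _ => by rw [fn_cls]; split_ifs <;> simp

lemma omega_cls (χ : G → ℂ) (hχ : IsClassFunction G χ) (g : G) :
    omega χ (cls ℂ g) = centralChar χ g := by
  rw [omega, chiEval_cls χ hχ, centralChar, card_isConj]

lemma omega_cls_irr (χ : IrrCharacter G) (g : G) :
    omega (χ : G → ℂ) (cls ℂ g) = centralChar (χ : G → ℂ) g :=
  omega_cls _ (isClassFunction_irr χ) g

lemma isIntegral_centralChar_irrChar (χ : IrrCharacter G) (g : G) :
    IsIntegral ℤ (centralChar (χ : G → ℂ) g) := by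
  have := isIntegral_centralChar_irr χ.2 g
  rwa [card_isConj] at this

/-- Expansion of the central character of a central element along the classes. -/
lemma omega_eq_sum_classes [Fintype (ConjClasses G)] (χ : G → ℂ) (hχ : IsClassFunction G χ)
    {a : MonoidAlgebra ℂ G} (ha : IsCentralFn a) :
    omega χ a = ∑ C : ConjClasses G, fn a (crep C) * centralChar χ (crep C) := by
  classical
  have hdec : a = ∑ C : ConjClasses G, fn a (crep C) • cls ℂ (crep C) := by
    refine fn_ext fun x => ?_
    rw [fn_sum]
    simp only [fn_smul, fn_cls, mul_ite, mul_one, mul_zero]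
    rw [Finset.sum_eq_single (ConjClasses.mk x)]
    · have hx := isConj_crep_mk x
      rw [if_pos hx, ha.apply_isConj hx]
    · intro C _ hC
      rw [if_neg]
      intro hx
      exact hC (by rw [← ConjClasses.mk_eq_mk_iff_isConj.2 hx, mk_crep])
    · intro h; exact absurd (Finset.mem_univ _) h
  conv_lhs => rw [hdec, omega_sum]
  exact Finset.sum_congr rfl fun C _ => by rw [omega_smul, omega_cls _ hχ]

/-! ### Integrality at the place -/

/-- All coefficients lie in the place. -/
def Integral (M : Ideal AlgInt) (a : MonoidAlgebra ℂ G) : Prop := ∀ g, fn a g ∈ place M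

lemma integral_zero : Integral M (0 : MonoidAlgebra ℂ G) := fun _ => by simp [zero_mem]

lemma integral_one : Integral M (1 : MonoidAlgebra ℂ G) := fun g => by
  classical
  rw [fn_one]; split_ifs <;> simp [zero_mem, one_mem]

lemma integral_single {x : G} {r : ℂ} (hr : r ∈ place M) :
    Integral M (MonoidAlgebra.single x r) := fun g => by
  classical
  rw [fn_single]; split_ifs <;> simp [hr, zero_mem]

lemma integral_cls (g : G) : Integral M (cls ℂ g) := fun x => by
  classical
  rw [fn_cls]; split_ifs <;> simp [zero_mem, one_mem]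

lemma Integral.add {a b : MonoidAlgebra ℂ G} (ha : Integral M a) (hb : Integral M b) :
    Integral M (a + b) := fun g => by rw [fn_add]; exact add_mem (ha g) (hb g)

lemma Integral.sub {a b : MonoidAlgebra ℂ G} (ha : Integral M a) (hb : Integral M b) :
    Integral M (a - b) := fun g => by rw [fn_sub]; exact sub_mem (ha g) (hb g)

lemma Integral.smul {a : MonoidAlgebra ℂ G} (ha : Integral M a) {c : ℂ} (hc : c ∈ place M) :
    Integral M (c • a) := fun g => by rw [fn_smul]; exact mul_mem hc (ha g)

lemma Integral.mul {a b : MonoidAlgebra ℂ G} (ha : Integral M a) (hb : Integral M b) :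
    Integral M (a * b) := fun g => by
  rw [fn_mul]; exact sum_mem fun h _ => mul_mem (ha h) (hb _)

lemma omega_mem_place (hM : IsPModular p M) (χ : IrrCharacter G) {a : MonoidAlgebra ℂ G}
    (hc : IsCentralFn a) (hi : Integral M a) : omega (χ : G → ℂ) a ∈ place M := by
  classical
  rw [omega_eq_sum_classes _ (isClassFunction_irr χ) hc]
  exact sum_mem fun C _ =>
    mul_mem (hi _) (isIntegral_mem_place hM (isIntegral_centralChar_irrChar χ _))

/-- Reduction of the coefficients to the residue field. -/
noncomputable def red (M : Ideal AlgInt) (a : MonoidAlgebra ℂ G) : MonoidAlgebra (Res M) G :=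
  ofFn fun g => res M (fn a g)

@[simp] lemma fn_red (a : MonoidAlgebra ℂ G) (g : G) : fn (red M a) g = res M (fn a g) := by
  simp [red]

lemma red_add {a b : MonoidAlgebra ℂ G} (ha : Integral M a) (hb : Integral M b) :
    red M (a + b) = red M a + red M b :=
  fn_ext fun g => by simp [res_add (ha g) (hb g)]

lemma red_sub {a b : MonoidAlgebra ℂ G} (ha : Integral M a) (hb : Integral M b) :
    red M (a - b) = red M a - red M b :=
  fn_ext fun g => by simp [res_sub (ha g) (hb g)]

lemma red_smul {a : MonoidAlgebra ℂ G} (ha : Integral M a) {c : ℂ} (hc : c ∈ place M) :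
    red M (c • a) = res M c • red M a :=
  fn_ext fun g => by simp [res_mul hc (ha g)]

lemma red_mul {a b : MonoidAlgebra ℂ G} (ha : Integral M a) (hb : Integral M b) :
    red M (a * b) = red M a * red M b :=
  fn_ext fun g => by
    simp only [fn_red, fn_mul]
    rw [res_sum _ _ fun h _ => mul_mem (ha h) (hb _)]
    exact Finset.sum_congr rfl fun h _ => res_mul (ha h) (hb _)

lemma red_zero : red M (0 : MonoidAlgebra ℂ G) = 0 := fn_ext fun g => by simp

lemma red_one : red M (1 : MonoidAlgebra ℂ G) = 1 := fn_ext fun g => by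
  classical
  rw [fn_red, fn_one, fn_one]; split_ifs <;> simp

lemma red_cls (g : G) : red M (cls ℂ g) = cls (Res M) g := fn_ext fun x => by
  classical
  rw [fn_red, fn_cls, fn_cls]; split_ifs <;> simp

lemma IsCentralFn.red {a : MonoidAlgebra ℂ G} (ha : IsCentralFn a) :
    IsCentralFn (red M a) := fun g h => by simp [ha g h]

lemma red_eq_zero_iff {a : MonoidAlgebra ℂ G} (ha : Integral M a) :
    red M a = 0 ↔ ∀ g, Small M (fn a g) := by
  refine ⟨fun h g => (res_eq_zero_iff (ha g)).1 ?_, fun h => fn_ext fun g => ?_⟩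
  · rw [← fn_red, h, fn_zero]
  · rw [fn_red, fn_zero, (res_eq_zero_iff (ha g)).2 (h g)]

end Cfsg.Lib.Blocks
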