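import Mathlib
import Cfsg.Prelude.Def_Blocks
import Cfsg.Agent.Blocks.GroupAlg

/-!
# Blocks and their idempotents

Two irreducible characters lie in the same block iff their central characters agree in the
residue field; the block idempotent has integral coefficients.
-/

set_option autoImplicit false
set_option linter.unusedSectionVars false

namespace Cfsg.Lib.Blocks

open scoped ComplexConjugate
open Cfsg.Lib.Chars

universe u

variable {G : Type u} [Group G] [Fintype G] {M : Ideal AlgInt} {p : ℕ}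

lemma isAlgebraic_of_isIntegral {z : ℂ} (h : IsIntegral ℤ z) : IsAlgebraic ℚ z :=
  (h.tower_top (A := ℚ)).isAlgebraic

lemma isAlgebraic_centralChar (χ : IrrCharacter G) (g : G) :
    IsAlgebraic ℚ (centralChar (χ : G → ℂ) g) :=
  isAlgebraic_of_isIntegral (isIntegral_centralChar_irrChar χ g)

lemma isAlgebraic_centralChar_sub (χ ψ : IrrCharacter G) (g : G) :
    IsAlgebraic ℚ (centralChar (χ : G → ℂ) g - centralChar (ψ : G → ℂ) g) :=
  isAlgebraic_of_isIntegral
    ((isIntegral_centralChar_irrChar χ g).sub (isIntegral_centralChar_irrChar ψ g))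

lemma centralChar_mem_place (hM : IsPModular p M) (χ : IrrCharacter G) (g : G) :
    centralChar (χ : G → ℂ) g ∈ place M :=
  isIntegral_mem_place hM (isIntegral_centralChar_irrChar χ g)

lemma memLocalIdeal_iff_small (hM : IsPModular p M) {z : ℂ} (hz : IsAlgebraic ℚ z) :
    MemLocalIdeal M z ↔ Small M z :=
  ⟨small_of_memLocalIdeal hM, memLocalIdeal_of_small hM hz⟩

lemma memLocalRing_iff_mem_place (hM : IsPModular p M) {z : ℂ} (hz : IsAlgebraic ℚ z) :
    MemLocalRing M z ↔ z ∈ place M :=
  ⟨mem_place_of_memLocalRing hM, memLocalRing_of_mem_place hM hz⟩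

lemma sameBlock_iff (hM : IsPModular p M) (χ ψ : IrrCharacter G) :
    SameBlock M (χ : G → ℂ) ψ ↔
      ∀ g : G, Small M (centralChar (χ : G → ℂ) g - centralChar (ψ : G → ℂ) g) :=
  forall_congr' fun g => memLocalIdeal_iff_small hM (isAlgebraic_centralChar_sub χ ψ g)

lemma sameBlock_iff_res (hM : IsPModular p M) (χ ψ : IrrCharacter G) :
    SameBlock M (χ : G → ℂ) ψ ↔
      ∀ g : G, res M (centralChar (χ : G → ℂ) g) = res M (centralChar (ψ : G → ℂ) g) := by
  rw [sameBlock_iff hM]
  exact forall_congr' fun g =>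
    (res_eq_iff (centralChar_mem_place hM χ g) (centralChar_mem_place hM ψ g)).symm

lemma mem_blockOf_iff {χ : G → ℂ} {ψ : IrrCharacter G} :
    ψ ∈ blockOf M χ ↔ SameBlock M χ (ψ : G → ℂ) := Iff.rfl

lemma mem_blockOf_self (hM : IsPModular p M) (χ : IrrCharacter G) :
    χ ∈ blockOf M (χ : G → ℂ) :=
  (sameBlock_iff_res hM χ χ).2 fun _ => rfl

lemma blockOf_eq_of_mem (hM : IsPModular p M) {χ ψ : IrrCharacter G}
    (h : ψ ∈ blockOf M (χ : G → ℂ)) : blockOf M (ψ : G → ℂ) = blockOf M (χ : G → ℂ) := by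
  have h' := (sameBlock_iff_res hM χ ψ).1 h
  ext θ
  rw [mem_blockOf_iff, mem_blockOf_iff, sameBlock_iff_res hM, sameBlock_iff_res hM]
  exact forall_congr' fun g => by rw [h' g]

lemma IsPBlock.eq_blockOf (hM : IsPModular p M) {B : Set (IrrCharacter G)} (hB : IsPBlock M B)
    {ψ : IrrCharacter G} (hψ : ψ ∈ B) : B = blockOf M (ψ : G → ℂ) := by
  obtain ⟨χ, rfl⟩ := hB
  exact (blockOf_eq_of_mem hM hψ).symm

lemma IsPBlock.nonempty (hM : IsPModular p M) {B : Set (IrrCharacter G)} (hB : IsPBlock M B) :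
    B.Nonempty := by
  obtain ⟨χ, rfl⟩ := hB
  exact ⟨χ, mem_blockOf_self hM χ⟩

lemma isPBlock_blockOf (χ : IrrCharacter G) : IsPBlock M (blockOf M (χ : G → ℂ)) := ⟨χ, rfl⟩

lemma IsPBlock.sameBlock (hM : IsPModular p M) {B : Set (IrrCharacter G)} (hB : IsPBlock M B)
    {χ ψ : IrrCharacter G} (hχ : χ ∈ B) (hψ : ψ ∈ B) : SameBlock M (χ : G → ℂ) ψ := by
  rw [IsPBlock.eq_blockOf hM hB hχ] at hψ
  exact hψ

lemma IsPBlock.res_centralChar_eq (hM : IsPModular p M) {B : Set (IrrCharacter G)}
    (hB : IsPBlock M B) {χ ψ : IrrCharacter G} (hχ : χ ∈ B) (hψ : ψ ∈ B) (g : G) :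
    res M (centralChar (χ : G → ℂ) g) = res M (centralChar (ψ : G → ℂ) g) :=
  (sameBlock_iff_res hM χ ψ).1 (IsPBlock.sameBlock hM hB hχ hψ) g

lemma IsPBlock.eq_of_mem_inter (hM : IsPModular p M) {B B' : Set (IrrCharacter G)}
    (hB : IsPBlock M B) (hB' : IsPBlock M B') {χ : IrrCharacter G} (h : χ ∈ B) (h' : χ ∈ B') :
    B = B' := by
  rw [IsPBlock.eq_blockOf hM hB h, IsPBlock.eq_blockOf hM hB' h']

/-- Central characters of one block agree on integral central elements. -/
lemma res_omega_eq_of_sameBlock (hM : IsPModular p M) {χ ψ : IrrCharacter G}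
    (h : SameBlock M (χ : G → ℂ) ψ) {a : MonoidAlgebra ℂ G} (hc : IsCentralFn a)
    (hi : Integral M a) : res M (omega (χ : G → ℂ) a) = res M (omega (ψ : G → ℂ) a) := by
  classical
  rw [omega_eq_sum_classes _ (isClassFunction_irr χ) hc,
    omega_eq_sum_classes _ (isClassFunction_irr ψ) hc,
    res_sum _ _ fun C _ => mul_mem (hi _) (centralChar_mem_place hM χ _),
    res_sum _ _ fun C _ => mul_mem (hi _) (centralChar_mem_place hM ψ _)]
  refine Finset.sum_congr rfl fun C _ => ?_
  rw [res_mul (hi _) (centralChar_mem_place hM χ _), res_mul (hi _) (centralChar_mem_place hM ψ _),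
    (sameBlock_iff_res hM χ ψ).1 h]

/-! ### The idempotent of a set of characters -/

lemma blockCoeff_eq_sum (B : Set (IrrCharacter G)) [DecidablePred (· ∈ B)] (g : G) :
    blockCoeff B g = (Nat.card G : ℂ)⁻¹ *
      ∑ χ ∈ Finset.univ.filter (· ∈ B), (χ : G → ℂ) 1 * conj ((χ : G → ℂ) g) := by
  rw [blockCoeff]; congr 1
  exact finsum_mem_eq_sum_of_inter_support_eq _ (by simp)

lemma blockCoeff_conj (B : Set (IrrCharacter G)) (g h : G) :
    blockCoeff B (h * g * h⁻¹) = blockCoeff B g := by
  classical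
  rw [blockCoeff_eq_sum, blockCoeff_eq_sum]
  congr 1
  exact Finset.sum_congr rfl fun χ _ => by rw [isClassFunction_irr χ g h]

lemma isAlgebraic_blockCoeff (B : Set (IrrCharacter G)) (g : G) :
    IsAlgebraic ℚ (blockCoeff B g) := by
  classical
  rw [blockCoeff_eq_sum]
  refine IsAlgebraic.mul ?_ (isAlgebraic_of_isIntegral ?_)
  · exact (isAlgebraic_natCast (R := ℚ) (A := ℂ) (Nat.card G)).inv
  · refine IsIntegral.sum _ fun χ _ => ?_
    have h := fun x => IsCharacter.isIntegral (isCharacter_of_irr χ.2) x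
    rw [← IsCharacter.conj_inv (isCharacter_of_irr χ.2)]
    exact (h 1).mul (h g⁻¹)

/-- The sum of the central idempotents of the characters in `B`. -/
noncomputable def blockElem (B : Set (IrrCharacter G)) : MonoidAlgebra ℂ G :=
  ofFn (blockCoeff B)

lemma fn_blockElem (B : Set (IrrCharacter G)) (g : G) : fn (blockElem B) g = blockCoeff B g := by
  simp [blockElem]

lemma isCentralFn_blockElem (B : Set (IrrCharacter G)) : IsCentralFn (blockElem B) :=
  isCentralFn_ofFn fun g h => blockCoeff_conj B g h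

lemma omega_blockElem (B : Set (IrrCharacter G)) (χ : IrrCharacter G) [Decidable (χ ∈ B)] :
    omega (χ : G → ℂ) (blockElem B) = if χ ∈ B then 1 else 0 := by
  classical
  have h : chiEval (χ : G → ℂ) (blockElem B)
      = ∑ ψ ∈ Finset.univ.filter (· ∈ B), (ψ : G → ℂ) 1 * classInner (χ : G → ℂ) ψ := by
    simp only [chiEval, fn_blockElem, blockCoeff_eq_sum, classInner_def, Finset.mul_sum,
      Finset.sum_mul]
    rw [Finset.sum_comm]
    exact Finset.sum_congr rfl fun ψ _ => Finset.sum_congr rfl fun g _ => by ring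
  rw [omega, h]
  simp only [classInner_irrCharacter, mul_ite, mul_one, mul_zero, Finset.sum_ite_eq,
    Finset.mem_filter, Finset.mem_univ, true_and]
  split_ifs with hB
  · rw [div_self (IsIrrCharacter.apply_one_ne_zero χ.2)]
  · rw [zero_div]

lemma blockElem_mul_self (B : Set (IrrCharacter G)) : blockElem B * blockElem B = blockElem B := by
  classical
  refine eq_of_omega_eq ((isCentralFn_blockElem B).mul (isCentralFn_blockElem B))
    (isCentralFn_blockElem B) fun χ => ?_
  rw [omega_mul χ (isCentralFn_blockElem B), omega_blockElem]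
  split_ifs <;> simp

/-- For a character outside the block, an integral central element separating it. -/
lemma exists_separating (hM : IsPModular p M) {φ ψ : IrrCharacter G}
    (h : ¬ SameBlock M (φ : G → ℂ) ψ) :
    ∃ w : MonoidAlgebra ℂ G, IsCentralFn w ∧ Integral M w ∧ omega (ψ : G → ℂ) w = 0 ∧
      IsUnitAt M (omega (φ : G → ℂ) w) := by
  rw [sameBlock_iff hM] at h
  push Not at h
  obtain ⟨g, hg⟩ := h
  refine ⟨cls ℂ g - centralChar (ψ : G → ℂ) g • 1,
    (isCentralFn_cls g).sub (isCentralFn_one.smul _),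
    (integral_cls g).sub (integral_one.smul (centralChar_mem_place hM ψ g)), ?_, ?_⟩
  · rw [omega_sub, omega_cls_irr, omega_smul, omega_one, mul_one, sub_self]
  · rw [omega_sub, omega_cls_irr, omega_smul, omega_one, mul_one]
    exact isUnitAt_iff.2
      ⟨sub_mem (centralChar_mem_place hM φ g) (centralChar_mem_place hM ψ g), hg⟩

lemma isUnitAt_omega_of_sameBlock (hM : IsPModular p M) {χ ψ : IrrCharacter G}
    (h : SameBlock M (χ : G → ℂ) ψ) {a : MonoidAlgebra ℂ G} (hc : IsCentralFn a)
    (hi : Integral M a) (hu : IsUnitAt M (omega (χ : G → ℂ) a)) :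
    IsUnitAt M (omega (ψ : G → ℂ) a) := by
  have hχ := omega_mem_place hM χ hc hi
  have hψ := omega_mem_place hM ψ hc hi
  refine isUnitAt_iff.2 ⟨hψ, fun hs => hu.not_small ?_⟩
  rw [← res_eq_zero_iff hχ, res_omega_eq_of_sameBlock hM h hc hi, res_eq_zero_iff hψ]
  exact hs

/-- An integral central element which is a unit on the block and zero elsewhere. -/
lemma exists_block_unit (hM : IsPModular p M) {B : Set (IrrCharacter G)} (hB : IsPBlock M B) :
    ∃ w : MonoidAlgebra ℂ G, IsCentralFn w ∧ Integral M w ∧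
      (∀ χ ∈ B, IsUnitAt M (omega (χ : G → ℂ) w)) ∧
      ∀ χ ∉ B, omega (χ : G → ℂ) w = 0 := by
  classical
  obtain ⟨φ, rfl⟩ := hB
  suffices H : ∀ S : Finset (IrrCharacter G), ∃ w : MonoidAlgebra ℂ G, IsCentralFn w ∧
      Integral M w ∧ IsUnitAt M (omega (φ : G → ℂ) w) ∧
      ∀ ψ ∈ S, ψ ∉ blockOf M (φ : G → ℂ) → omega (ψ : G → ℂ) w = 0 by
    obtain ⟨w, h1, h2, h3, h4⟩ := H Finset.univ
    exact ⟨w, h1, h2, fun χ hχ => isUnitAt_omega_of_sameBlock hM hχ h1 h2 h3,
      fun χ hχ => h4 χ (Finset.mem_univ _) hχ⟩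
  intro S
  induction S using Finset.induction with
  | empty =>
    refine ⟨1, isCentralFn_one, integral_one, ?_, by simp⟩
    rw [omega_one]
    exact isUnitAt_iff.2 ⟨one_mem _, not_small_one⟩
  | @insert ψ S hψ ih =>
    obtain ⟨w, h1, h2, h3, h4⟩ := ih
    by_cases hψB : ψ ∈ blockOf M (φ : G → ℂ)
    · exact ⟨w, h1, h2, h3, fun θ hθ hθB => h4 θ
        ((Finset.mem_insert.1 hθ).resolve_left fun e => hθB (e ▸ hψB)) hθB⟩
    · obtain ⟨v, v1, v2, v3, v4⟩ := exists_separating hM hψB
      refine ⟨w * v, h1.mul v1, h2.mul v2, ?_, fun θ hθ hθB => ?_⟩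
      · rw [omega_mul φ h1]
        exact h3.mul v4
      · rw [omega_mul θ h1]
        rcases Finset.mem_insert.1 hθ with rfl | hθ
        · rw [v3, mul_zero]
        · rw [h4 θ hθ hθB, zero_mul]

/-- **Integrality of the block idempotent.** -/
theorem integral_blockElem (hM : IsPModular p M) {B : Set (IrrCharacter G)} (hB : IsPBlock M B) :
    Integral M (blockElem B) := by
  classical
  obtain ⟨w, w1, w2, w3, w4⟩ := exists_block_unit hM hB
  suffices H : ∀ S : Finset (IrrCharacter G), ∃ e : MonoidAlgebra ℂ G, IsCentralFn e ∧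
      Integral M e ∧ (∀ χ ∈ S, χ ∈ B → omega (χ : G → ℂ) e = 1) ∧
      ∀ χ ∉ B, omega (χ : G → ℂ) e = 0 by
    obtain ⟨e, e1, e2, e3, e4⟩ := H Finset.univ
    have : blockElem B = e := eq_of_omega_eq (isCentralFn_blockElem B) e1 fun χ => by
      rw [omega_blockElem]
      split_ifs with h
      · exact (e3 χ (Finset.mem_univ _) h).symm
      · exact (e4 χ h).symm
    rwa [this]
  intro S
  induction S using Finset.induction with
  | empty => exact ⟨0, isCentralFn_zero, integral_zero, by simp, fun χ _ => omega_zero _⟩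
  | @insert φ S hφ ih =>
    obtain ⟨e, e1, e2, e3, e4⟩ := ih
    by_cases hφB : φ ∈ B
    · have hc := (w3 φ hφB).inv
      refine ⟨e + (omega (φ : G → ℂ) w)⁻¹ • w - (omega (φ : G → ℂ) w)⁻¹ • (e * w),
        (e1.add (w1.smul _)).sub ((e1.mul w1).smul _),
        (e2.add (w2.smul hc.mem_place)).sub ((e2.mul w2).smul hc.mem_place), ?_, ?_⟩
      · intro χ hχ hχB
        rw [omega_sub, omega_add, omega_smul, omega_smul, omega_mul χ e1]
        rcases Finset.mem_insert.1 hχ with rfl | hχ
        · have := (w3 χ hχB).ne_zero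
          field_simp
          ring
        · rw [e3 χ hχ hχB]; ring
      · intro χ hχ
        rw [omega_sub, omega_add, omega_smul, omega_smul, omega_mul χ e1, e4 χ hχ, w4 χ hχ]
        ring
    · exact ⟨e, e1, e2, fun χ hχ hχB => e3 χ
        ((Finset.mem_insert.1 hχ).resolve_left fun h => hφB (h ▸ hχB)) hχB, e4⟩

lemma blockCoeff_mem_place (hM : IsPModular p M) {B : Set (IrrCharacter G)} (hB : IsPBlock M B)
    (g : G) : blockCoeff B g ∈ place M := by
  rw [← fn_blockElem]; exact integral_blockElem hM hB g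

lemma memLocalRing_blockCoeff (hM : IsPModular p M) {B : Set (IrrCharacter G)}
    (hB : IsPBlock M B) (g : G) : MemLocalRing M (blockCoeff B g) :=
  (memLocalRing_iff_mem_place hM (isAlgebraic_blockCoeff B g)).2 (blockCoeff_mem_place hM hB g)

/-- A set of characters with integral idempotent is a union of blocks. -/
lemma blockOf_subset_of_integral (hM : IsPModular p M) {A : Set (IrrCharacter G)}
    (hA : Integral M (blockElem A)) {χ : IrrCharacter G} (hχ : χ ∈ A) :
    blockOf M (χ : G → ℂ) ⊆ A := by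
  classical
  intro ψ hψ
  have h := res_omega_eq_of_sameBlock hM hψ (isCentralFn_blockElem A) hA
  rw [omega_blockElem, omega_blockElem, if_pos hχ] at h
  by_contra hc
  rw [if_neg hc, res_eq_iff (one_mem _) (zero_mem _), sub_zero] at h
  exact not_small_one h

/-- Each block has a defect class. -/
lemma exists_defectClass (hM : IsPModular p M) {B : Set (IrrCharacter G)} (hB : IsPBlock M B) :
    ∃ g : G, IsDefectClass M B g := by
  classical
  obtain ⟨φ, hφ⟩ := IsPBlock.nonempty hM hB
  have h1 : omega (φ : G → ℂ) (blockElem B) = 1 := by rw [omega_blockElem, if_pos hφ]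
  rw [omega_eq_sum_classes _ (isClassFunction_irr φ) (isCentralFn_blockElem B)] at h1
  have : ∃ C : ConjClasses G, ¬ Small M
      (fn (blockElem B) (crep C) * centralChar (φ : G → ℂ) (crep C)) := by
    by_contra hc
    push Not at hc
    exact not_small_one (h1 ▸ small_sum Finset.univ _ fun C _ => hc C)
  obtain ⟨C, hC⟩ := this
  set g := crep C with hg
  rw [fn_blockElem] at hC
  refine ⟨g, memLocalRing_blockCoeff hM hB g, fun h => hC ?_, fun χ hχ h => hC ?_⟩
  · exact (small_of_memLocalIdeal hM h).mul_mem (centralChar_mem_place hM φ g)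
  · refine Small.mem_mul ?_ (blockCoeff_mem_place hM hB g)
    rw [← res_eq_zero_iff (centralChar_mem_place hM φ g),
      IsPBlock.res_centralChar_eq hM hB hφ hχ, res_eq_zero_iff (centralChar_mem_place hM χ g)]
    exact small_of_memLocalIdeal hM h

/-! ### Kernels of blocks -/

lemma sum_invariant {H : Type*} [AddCommMonoid H] (K : Subgroup G) [Fintype (G ⧸ K)] (F : G → H)
    (hF : ∀ g : G, ∀ k ∈ K, F (g * k) = F g) :
    ∑ g : G, F g = Nat.card K • ∑ q : G ⧸ K, F q.out := by
  classical
  rw [← Finset.sum_fiberwise Finset.univ (QuotientGroup.mk : G → G ⧸ K) F, Finset.smul_sum]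
  refine Finset.sum_congr rfl fun q _ => ?_
  rw [Finset.sum_congr rfl (g := fun _ => F q.out) ?_, Finset.sum_const]
  · congr 1
    rw [← Fintype.card_subtype, ← Nat.card_eq_fintype_card]
    refine Nat.card_congr
      { toFun := fun x => ⟨q.out⁻¹ * x.1, by
          rw [← QuotientGroup.eq, QuotientGroup.out_eq', x.2]⟩
        invFun := fun k => ⟨q.out * k.1, by
          rw [QuotientGroup.mk_mul_of_mem _ k.2, QuotientGroup.out_eq']⟩
        left_inv := fun x => by simp
        right_inv := fun k => by simp }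
  · intro x hx
    rw [Finset.mem_filter] at hx
    have : q.out⁻¹ * x ∈ K := by rw [← QuotientGroup.eq, QuotientGroup.out_eq', hx.2]
    rw [← hF q.out _ this, mul_inv_cancel_left]

/-- The block idempotent is not invariant under a subgroup of order divisible by `p`. -/
lemma not_dvd_card_of_blockCoeff_invariant (hM : IsPModular p M) {B : Set (IrrCharacter G)}
    (hB : IsPBlock M B) (K : Subgroup G)
    (hK : ∀ g : G, ∀ k ∈ K, blockCoeff B (g * k) = blockCoeff B g) : ¬ p ∣ Nat.card K := by
  classical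
  intro hd
  have := Fintype.ofFinite (G ⧸ K)
  obtain ⟨φ, hφ⟩ := IsPBlock.nonempty hM hB
  have hleft : ∀ g : G, ∀ k ∈ K, blockCoeff B (k * g) = blockCoeff B g := fun g k hk => by
    rw [← hK g k hk, ← blockCoeff_conj B (g * k) k]; congr 1; group
  have hsmall : ∀ g : G, Small M (fn (blockElem B) g) := fun g => by
    rw [← blockElem_mul_self, fn_mul, sum_invariant K, nsmul_eq_mul]
    · exact (small_natCast hM hd).mul_mem
        (sum_mem fun q _ => mul_mem (integral_blockElem hM hB _) (integral_blockElem hM hB _))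
    · intro x k hk
      simp only [fn_blockElem]
      rw [hK x k hk, mul_inv_rev, mul_assoc, hleft _ _ (K.inv_mem hk)]
  have h1 : omega (φ : G → ℂ) (blockElem B) = 1 := by rw [omega_blockElem, if_pos hφ]
  rw [omega_eq_sum_classes _ (isClassFunction_irr φ) (isCentralFn_blockElem B)] at h1
  exact not_small_one (h1 ▸ small_sum Finset.univ _ fun C _ =>
    (hsmall _).mul_mem (centralChar_mem_place hM φ _))

end Cfsg.Lib.Blocks
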