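import Mathlib
import Cfsg.Prelude.Def_Blocks
import Cfsg.Agent.Blocks.Idem

/-!
# The Brauer homomorphism on central elements, locality of blocks
-/

set_option autoImplicit false
set_option linter.unusedSectionVars false

namespace Cfsg.Lib.Blocks

open Cfsg.Lib.Chars

universe u

section Orbit

variable {p : ℕ} [Fact p.Prime] {P : Type*} [Group P] {α : Type*} [MulAction P α] [Fintype α]
  {R : Type*} [AddCommMonoid R]

/-- In characteristic `p`, a sum invariant under a `p`-group is the sum over the fixed points. -/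
lemma sum_eq_sum_fixed (hP : IsPGroup p P) [Finite P] (hR : ∀ r : R, p • r = 0) (F : α → R)
    (hF : ∀ (k : P) (a : α), F (k • a) = F a) [DecidablePred (· ∈ MulAction.fixedPoints P α)] :
    ∑ a, F a = ∑ a ∈ Finset.univ.filter (· ∈ MulAction.fixedPoints P α), F a := by
  classical
  have hrest : ∑ a ∈ Finset.univ.filter (· ∉ MulAction.fixedPoints P α), F a = 0 := by
    rw [← Finset.sum_fiberwise_of_maps_to (t := Finset.univ)
      (g := fun a : α => (Quotient.mk'' a : MulAction.orbitRel.Quotient P α))
      (fun a _ => Finset.mem_univ _)]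
    refine Finset.sum_eq_zero fun q _ => ?_
    induction q using Quotient.inductionOn' with
    | _ a₀ =>
      by_cases h0 : a₀ ∈ MulAction.fixedPoints P α
      · refine Finset.sum_eq_zero fun a ha => ?_
        simp only [Finset.mem_filter, Finset.mem_univ, true_and, Quotient.eq''] at ha
        obtain ⟨k, hk⟩ := ha.2
        exact absurd (by rw [← hk]; show k • a₀ ∈ _; rw [h0 k]; exact h0) ha.1
      · have hset : ((Finset.univ.filter (· ∉ MulAction.fixedPoints P α)).filter
            fun a => (Quotient.mk'' a : MulAction.orbitRel.Quotient P α) = Quotient.mk'' a₀)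
            = (MulAction.orbit P a₀).toFinset := by
          ext a
          simp only [Finset.mem_filter, Finset.mem_univ, true_and, Quotient.eq'', Set.mem_toFinset]
          refine ⟨fun h => h.2, fun h => ⟨fun ha => h0 ?_, h⟩⟩
          obtain ⟨k, rfl⟩ := h
          have := ha k⁻¹
          rw [inv_smul_smul] at this
          rw [this]; exact ha
        rw [hset, Finset.sum_congr rfl (g := fun _ => F a₀) fun a ha => by
          obtain ⟨k, rfl⟩ := Set.mem_toFinset.1 ha; exact hF k a₀, Finset.sum_const]
        obtain ⟨n, hn⟩ := hP.card_orbit a₀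
        rw [Set.toFinset_card, ← Nat.card_eq_fintype_card, hn]
        rcases n with _ | n
        · refine absurd (MulAction.mem_fixedPoints.2 fun k => ?_) h0
          rw [pow_zero, Nat.card_eq_one_iff_unique] at hn
          exact congrArg Subtype.val (hn.1.allEq ⟨k • a₀, MulAction.mem_orbit a₀ k⟩
            ⟨a₀, MulAction.mem_orbit_self a₀⟩)
        · rw [pow_succ, mul_nsmul, ← nsmul_zero (p ^ n), hR, nsmul_zero]
  rw [← Finset.sum_filter_add_sum_filter_not Finset.univ (· ∈ MulAction.fixedPoints P α), hrest,
    add_zero]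

end Orbit

variable {G : Type u} [Group G] [Fintype G] {R : Type*} [CommRing R]

/-- The coefficient at `c` of a product of two `P`-invariant elements only sees the centraliser. -/
lemma fn_mul_centralizer {p : ℕ} [Fact p.Prime] [CharP R p] {P : Subgroup G} (hP : IsPGroup p P)
    {a b : MonoidAlgebra R G} (ha : ∀ k ∈ P, ∀ g, fn a (k * g * k⁻¹) = fn a g)
    (hb : ∀ k ∈ P, ∀ g, fn b (k * g * k⁻¹) = fn b g)
    {c : G} (hc : c ∈ Subgroup.centralizer (P : Set G))
    [DecidablePred (· ∈ Subgroup.centralizer (P : Set G))] :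
    fn (a * b) c = ∑ t ∈ Finset.univ.filter (· ∈ Subgroup.centralizer (P : Set G)),
      fn a t * fn b (t⁻¹ * c) := by
  classical
  letI : MulAction P G := MulAction.compHom G (MulAut.conj.comp P.subtype)
  have hsmul : ∀ (k : P) (x : G), k • x = (k : G) * x * (k : G)⁻¹ := fun k x => rfl
  rw [fn_mul, sum_eq_sum_fixed hP (fun r => by rw [nsmul_eq_mul, CharP.cast_eq_zero R p, zero_mul])]
  · refine Finset.sum_congr (Finset.ext fun t => ?_) fun _ _ => rfl
    simp only [Finset.mem_filter, Finset.mem_univ, true_and, MulAction.mem_fixedPoints, hsmul,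
      Subgroup.mem_centralizer_iff, SetLike.mem_coe, Subtype.forall, mul_inv_eq_iff_eq_mul]
  · intro k t
    have hk := Subgroup.mem_centralizer_iff.1 hc (k : G) k.2
    have h1 : c * (k : G)⁻¹ = (k : G)⁻¹ * c := by
      rw [eq_inv_mul_iff_mul_eq, ← mul_assoc, hk, mul_inv_cancel_right]
    rw [hsmul, ha _ k.2, show ((k : G) * t * (k : G)⁻¹)⁻¹ * c = (k : G) * (t⁻¹ * c) * (k : G)⁻¹ by
      rw [show (k : G) * (t⁻¹ * c) * (k : G)⁻¹ = (k : G) * t⁻¹ * (c * (k : G)⁻¹) by group, h1]
      group,
      hb _ k.2]

variable {M : Ideal AlgInt} {p : ℕ}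

/-- A product of a small element and an integral element is small, coefficientwise. -/
lemma small_fn_mul_centralizer (hM : IsPModular p M) {P : Subgroup G} (hP : IsPGroup p P)
    {a b : MonoidAlgebra ℂ G} (ha : IsCentralFn a) (hb : IsCentralFn b) (hai : Integral M a)
    (hbi : Integral M b) {c : G} (hc : c ∈ Subgroup.centralizer (P : Set G))
    (hs : ∀ t ∈ Subgroup.centralizer (P : Set G), Small M (fn a t)) :
    Small M (fn (a * b) c) := by
  classical
  haveI := Fact.mk hM.1
  haveI := charP_res hM
  rw [← res_eq_zero_iff (hai.mul hbi c), ← fn_red, red_mul hai hbi,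
    fn_mul_centralizer hP (fun k _ g => (IsCentralFn.red ha) g k)
      (fun k _ g => (IsCentralFn.red hb) g k) hc]
  refine Finset.sum_eq_zero fun t ht => ?_
  rw [fn_red, (res_eq_zero_iff (hai t)).2 (hs t (Finset.mem_filter.1 ht).2), zero_mul]

/-- **Locality**: an integral central element which is a unit on the block divides the block
idempotent. -/
theorem exists_mul_eq_blockElem (hM : IsPModular p M) {B : Set (IrrCharacter G)}
    (hB : IsPBlock M B) {w : MonoidAlgebra ℂ G} (w1 : IsCentralFn w) (w2 : Integral M w)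
    (w3 : ∀ χ ∈ B, IsUnitAt M (omega (χ : G → ℂ) w)) :
    ∃ v : MonoidAlgebra ℂ G, IsCentralFn v ∧ Integral M v ∧ w * v = blockElem B := by
  classical
  have he := isCentralFn_blockElem B
  suffices H : ∀ S : Finset (IrrCharacter G), ∃ v : MonoidAlgebra ℂ G, IsCentralFn v ∧
      Integral M v ∧ ∀ χ ∈ S, χ ∈ B → omega (χ : G → ℂ) (w * v) = 1 by
    obtain ⟨v, v1, v2, v3⟩ := H Finset.univ
    refine ⟨v * blockElem B, v1.mul he, v2.mul (integral_blockElem hM hB),
      eq_of_omega_eq (w1.mul (v1.mul he)) he fun χ => ?_⟩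
    rw [← mul_assoc, omega_mul χ (w1.mul v1), omega_blockElem]
    split_ifs with h
    · rw [v3 χ (Finset.mem_univ _) h, one_mul]
    · rw [mul_zero]
  intro S
  induction S using Finset.induction with
  | empty => exact ⟨0, isCentralFn_zero, integral_zero, by simp⟩
  | @insert φ S hφ ih =>
    obtain ⟨v, v1, v2, v3⟩ := ih
    by_cases hφB : φ ∈ B
    · have hc := (w3 φ hφB).inv
      refine ⟨v + (omega (φ : G → ℂ) w)⁻¹ • 1 - (omega (φ : G → ℂ) w)⁻¹ • (w * v),
        (v1.add (isCentralFn_one.smul _)).sub ((w1.mul v1).smul _),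
        (v2.add (integral_one.smul hc.mem_place)).sub ((w2.mul v2).smul hc.mem_place),
        fun χ hχ hχB => ?_⟩
      rw [omega_mul χ w1, omega_sub, omega_add, omega_smul, omega_smul, omega_one]
      rcases Finset.mem_insert.1 hχ with rfl | hχ
      · have := (w3 χ hχB).ne_zero
        rw [omega_mul χ w1]
        field_simp
        ring
      · have h3 := v3 χ hχ hχB
        rw [omega_mul χ w1] at h3 ⊢
        linear_combination (1 - (omega (φ : G → ℂ) w)⁻¹ * omega (χ : G → ℂ) w) * h3
    · exact ⟨v, v1, v2, fun χ hχ hχB => v3 χ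
        ((Finset.mem_insert.1 hχ).resolve_left fun h => hφB (h ▸ hχB)) hχB⟩

/-- If the block idempotent is nonsmall at `c` and an integral central `w` is a unit on the
block, then `w` is nonsmall somewhere in the centraliser of any `p`-subgroup centralising `c`. -/
theorem exists_not_small_centralizer (hM : IsPModular p M) {B : Set (IrrCharacter G)}
    (hB : IsPBlock M B) {w : MonoidAlgebra ℂ G} (w1 : IsCentralFn w) (w2 : Integral M w)
    (w3 : ∀ χ ∈ B, IsUnitAt M (omega (χ : G → ℂ) w)) {P : Subgroup G} (hP : IsPGroup p P)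
    {c : G} (hc : c ∈ Subgroup.centralizer (P : Set G)) (hB' : ¬ Small M (blockCoeff B c)) :
    ∃ t ∈ Subgroup.centralizer (P : Set G), ¬ Small M (fn w t) := by
  by_contra h
  push Not at h
  obtain ⟨v, v1, v2, hv⟩ := exists_mul_eq_blockElem hM hB w1 w2 w3
  apply hB'
  rw [← fn_blockElem, ← hv]
  exact small_fn_mul_centralizer hM hP w1 v1 w2 v2 hc h

/-- A central element whose central characters are all small is nilpotent in the residue ring. -/
lemma isNilpotent_red_of_omega_small (hM : IsPModular p M) {z : MonoidAlgebra ℂ G}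
    (hz : IsCentralFn z) (hzi : Integral M z)
    (h : ∀ χ : IrrCharacter G, Small M (omega (χ : G → ℂ) z)) : IsNilpotent (red M z) := by
  classical
  have key : ∀ S : Finset (IrrCharacter G), ∃ w : MonoidAlgebra ℂ G, IsCentralFn w ∧
      Integral M w ∧ (∀ χ ∈ S, omega (χ : G → ℂ) w = 0) ∧ red M w = red M z ^ S.card := by
    intro S
    induction S using Finset.induction with
    | empty => exact ⟨1, isCentralFn_one, integral_one, by simp, by simp [red_one]⟩
    | @insert ψ S hψ ih =>
      obtain ⟨w, w1, w2, w3, w4⟩ := ih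
      have hmem := (h ψ).mem_place
      refine ⟨w * (z - omega (ψ : G → ℂ) z • 1), w1.mul (hz.sub (isCentralFn_one.smul _)),
        w2.mul (hzi.sub (integral_one.smul hmem)), fun χ hχ => ?_, ?_⟩
      · rw [omega_mul χ w1, omega_sub, omega_smul, omega_one, mul_one]
        rcases Finset.mem_insert.1 hχ with rfl | hχ
        · rw [sub_self, mul_zero]
        · rw [w3 χ hχ, zero_mul]
      · rw [red_mul w2 (hzi.sub (integral_one.smul hmem)), w4,
          red_sub hzi (integral_one.smul hmem), red_smul integral_one hmem,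
          (res_eq_zero_iff hmem).2 (h ψ), zero_smul, sub_zero, Finset.card_insert_of_notMem hψ,
          pow_succ]
  obtain ⟨w, w1, -, w3, w4⟩ := key Finset.univ
  refine ⟨_, w4.symm.trans ?_⟩
  rw [eq_zero_of_omega_eq_zero w1 fun χ => w3 χ (Finset.mem_univ _), red_zero]

end Cfsg.Lib.Blocks
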