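import Mathlib
import Cfsg.Prelude.Def_Blocks

/-!
# The `p`-part of an element
-/

set_option autoImplicit false
set_option linter.unusedSectionVars false

namespace Cfsg.Lib.Blocks

variable {G : Type*} [Group G] {p : ℕ}

/-- If `g = x * y` is a decomposition into commuting parts of coprime orders, `x` is a power
of `g`. -/
lemma eq_pow_of_parts {g x y : G} (hg : x * y = g) (hc : Commute x y) {a b s : ℕ}
    (ha : x ^ a = 1) (hb : y ^ b = 1) (hsa : s ≡ 1 [MOD a]) (hsb : s ≡ 0 [MOD b]) :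
    x = g ^ s := by
  rw [← hg, hc.mul_pow, pow_eq_pow_of_modEq hsa ha, pow_eq_pow_of_modEq hsb hb]
  simp

lemma exists_isPPart [Finite G] (hp : p.Prime) (g : G) :
    ∃ s : ℕ, IsPPart p g (g ^ s) := by
  obtain ⟨e, m, hm, hn⟩ :=
    Nat.exists_eq_pow_mul_and_not_dvd (orderOf_pos g).ne' p hp.ne_one
  have hco : (p ^ e).Coprime m := ((hp.coprime_iff_not_dvd).2 hm).pow_left e
  obtain ⟨s, hs1, hs0⟩ := Nat.chineseRemainder hco 1 0
  have hdiv : m ∣ s := Nat.modEq_zero_iff_dvd.1 hs0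
  obtain ⟨c, hc⟩ := hdiv
  have hx : (g ^ s) ^ p ^ e = 1 := by
    rw [← pow_mul, hc, show m * c * p ^ e = p ^ e * m * c by ring, ← hn, pow_mul,
      pow_orderOf_eq_one, one_pow]
  refine ⟨s, (g ^ s)⁻¹ * g, mul_inv_cancel_left _ _, ?_, ?_, ?_⟩
  · exact (Commute.refl _).inv_right.mul_right ((Commute.refl g).pow_left s)
  · obtain ⟨k, -, hk⟩ := (Nat.dvd_prime_pow hp).1 (orderOf_dvd_of_pow_eq_one hx)
    exact ⟨k, hk⟩
  · intro hd
    refine hm (hd.trans (orderOf_dvd_of_pow_eq_one ?_))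
    rw [((Commute.refl g).pow_left s).inv_left.mul_pow, inv_pow, ← pow_mul, inv_mul_eq_one,
      pow_eq_pow_iff_modEq, hn]
    refine (Nat.modEq_and_modEq_iff_modEq_mul hco).1 ⟨?_, ?_⟩
    · simpa using hs1.mul_right m
    · exact (Nat.modEq_zero_iff_dvd.2 (dvd_mul_left m s)).trans
        (Nat.modEq_zero_iff_dvd.2 (dvd_refl m)).symm

lemma exists_isPPart' [Finite G] (hp : p.Prime) (g : G) : ∃ x : G, IsPPart p g x :=
  let ⟨s, hs⟩ := exists_isPPart hp g
  ⟨_, hs⟩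

lemma IsPPart.eq (hp : p.Prime) {g x x' : G} (h : IsPPart p g x) (h' : IsPPart p g x') :
    x = x' := by
  obtain ⟨y, hy, hc, ⟨k, hk⟩, hny⟩ := h
  obtain ⟨y', hy', hc', ⟨k', hk'⟩, hny'⟩ := h'
  have hm : ¬ p ∣ orderOf y * orderOf y' := fun h => (hp.dvd_mul.1 h).elim hny hny'
  have hco : (p ^ (k + k')).Coprime (orderOf y * orderOf y') :=
    ((hp.coprime_iff_not_dvd).2 hm).pow_left _
  obtain ⟨s, hs1, hs0⟩ := Nat.chineseRemainder hco 1 0
  have h1 : x = g ^ s := eq_pow_of_parts hy hc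
    (orderOf_dvd_iff_pow_eq_one.1 (hk ▸ pow_dvd_pow p (Nat.le_add_right k k')))
    (orderOf_dvd_iff_pow_eq_one.1 (dvd_mul_right _ _)) hs1 hs0
  have h2 : x' = g ^ s := eq_pow_of_parts hy' hc'
    (orderOf_dvd_iff_pow_eq_one.1 (hk' ▸ pow_dvd_pow p (Nat.le_add_left k' k)))
    (orderOf_dvd_iff_pow_eq_one.1 (dvd_mul_left _ _)) hs1 hs0
  rw [h1, h2]

lemma IsPPart.commute {g x : G} (h : IsPPart p g x) : Commute x g := by
  obtain ⟨y, rfl, hc, -, -⟩ := h
  exact (Commute.refl x).mul_right hc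

lemma IsPPart.conj {g x : G} (h : IsPPart p g x) (a : G) :
    IsPPart p (a * g * a⁻¹) (a * x * a⁻¹) := by
  obtain ⟨y, hy, hc, ⟨k, hk⟩, hny⟩ := h
  refine ⟨a * y * a⁻¹, by rw [← hy]; group, hc.map (MulAut.conj a).toMonoidHom, ⟨k, ?_⟩, ?_⟩
  · rw [← hk]; exact orderOf_injective (MulAut.conj a).toMonoidHom (MulAut.conj a).injective x
  · rw [show a * y * a⁻¹ = (MulAut.conj a).toMonoidHom y from rfl,
      orderOf_injective _ (MulAut.conj a).injective]
    exact hny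

lemma isPPart_mul {x y : G} (hc : Commute x y) (hx : ∃ k : ℕ, orderOf x = p ^ k)
    (hy : ¬ p ∣ orderOf y) : IsPPart p (x * y) x :=
  ⟨y, rfl, hc, hx, hy⟩

lemma isPPart_one_iff (hp : p.Prime) {g : G} [Finite G] :
    IsPPart p g 1 ↔ ¬ p ∣ orderOf g := by
  refine ⟨?_, fun h => ⟨g, one_mul g, Commute.one_left g, ⟨0, by simp⟩, h⟩⟩
  rintro ⟨y, hy, -, -, hny⟩
  rw [one_mul] at hy
  exact hy ▸ hny

lemma isPPart_self {x : G} (hp : p.Prime) (hx : ∃ k : ℕ, orderOf x = p ^ k) : IsPPart p x x :=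
  ⟨1, mul_one x, Commute.one_right x, hx, by simpa using hp.ne_one⟩

lemma IsPPart.mem_centralizer_singleton {g x : G} (h : IsPPart p g x) :
    x ∈ Subgroup.centralizer ({g} : Set G) :=
  Subgroup.mem_centralizer_singleton_iff.2 (IsPPart.commute h).eq

end Cfsg.Lib.Blocks
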