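import Mathlib
import Cfsg.Agent.Blocks.LocalRing

/-!
# Relatively projective operators have trace zero

`T`, `Φ`, `E` are endomorphisms of `ι → ℂ` preserving the lattice of integral vectors, `E` is
idempotent, `T` has finite order `N` on the image of `E`, `Φ` commutes with `T ^ p` and
`∑_{i<p} T^i Φ T^(-i)` is the identity on the image of `E`. Then `T` has trace zero on the image
of `E`.
-/

set_option autoImplicit false
set_option linter.unusedSectionVars false

namespace Cfsg.Lib.Blocks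

open Polynomial Module

section Field

variable {k : Type*} [Field k] {U : Type*} [AddCommGroup U] [Module k U] [FiniteDimensional k U]

lemma finrank_ker_pow_add {N : Module.End k U} {m : ℕ}
    (h : LinearMap.ker N ≤ LinearMap.range (N ^ m)) :
    finrank k (LinearMap.ker (N ^ (m + 1)))
      = finrank k (LinearMap.ker (N ^ m)) + finrank k (LinearMap.ker N) := by
  let g : LinearMap.ker (N ^ (m + 1)) →ₗ[k] LinearMap.ker N :=
    LinearMap.codRestrict _ ((N ^ m).comp (Submodule.subtype _)) fun x => by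
      rw [LinearMap.mem_ker]
      show N ((N ^ m) (x : U)) = 0
      rw [← Module.End.mul_apply, ← pow_succ']
      exact LinearMap.mem_ker.1 x.2
  have hsurj : Function.Surjective g := by
    intro y
    obtain ⟨x, hx⟩ := h y.2
    refine ⟨⟨x, ?_⟩, Subtype.ext hx⟩
    rw [LinearMap.mem_ker, pow_succ']
    show N ((N ^ m) x) = 0
    rw [hx]
    exact y.2
  have hker : finrank k (LinearMap.ker g) = finrank k (LinearMap.ker (N ^ m)) := by
    refine LinearEquiv.finrank_eq
      { toFun := fun x => ⟨x.1.1, by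
          have hx := congrArg Subtype.val (LinearMap.mem_ker.1 x.2)
          exact LinearMap.mem_ker.2 hx⟩
        invFun := fun x => ⟨⟨x.1, by
          rw [LinearMap.mem_ker, pow_succ']
          show N ((N ^ m) x.1) = 0
          rw [LinearMap.mem_ker.1 x.2, map_zero]⟩, by
            rw [LinearMap.mem_ker]
            exact Subtype.ext (LinearMap.mem_ker.1 x.2)⟩
        map_add' := fun _ _ => rfl
        map_smul' := fun _ _ => rfl
        left_inv := fun _ => rfl
        right_inv := fun _ => rfl }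
  have hrange : finrank k (LinearMap.range g) = finrank k (LinearMap.ker N) := by
    rw [LinearMap.range_eq_top.2 hsurj, finrank_top]
  have := LinearMap.finrank_range_add_finrank_ker g
  omega

/-- In characteristic `p`, an operator of order `p` with a relative-trace projection has a fixed
space of dimension at most `dim / p`. -/
lemma mul_finrank_fixed_le (p : ℕ) [Fact p.Prime] [CharP k p] (S Ψ : Module.End k U)
    (hS : S ^ p = 1) (h : ∑ i ∈ Finset.range p, S ^ i * Ψ * S ^ (p - i) = 1) :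
    p * finrank k (LinearMap.ker (S - 1)) ≤ finrank k U := by
  have hp := (Fact.out : p.Prime)
  have hpoly : ((X : k[X]) - 1) ^ (p - 1) = ∑ i ∈ Finset.range p, X ^ i := by
    apply mul_left_cancel₀ (X_sub_C_ne_zero (1 : k))
    rw [map_one, ← pow_succ', Nat.sub_add_cancel hp.one_lt.le, sub_pow_char, one_pow, mul_geom_sum]
  have hN : (S - 1) ^ (p - 1) = ∑ i ∈ Finset.range p, S ^ i := by
    have := congrArg (aeval S) hpoly
    simpa using this
  have hker : LinearMap.ker (S - 1) ≤ LinearMap.range ((S - 1) ^ (p - 1)) := by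
    intro v hv
    rw [LinearMap.mem_ker, LinearMap.sub_apply, sub_eq_zero] at hv
    have hfix : ∀ j, (S ^ j) v = v := by
      intro j
      induction j with
      | zero => simp
      | succ j ih => rw [pow_succ, Module.End.mul_apply, hv]; exact ih
    refine ⟨Ψ v, ?_⟩
    rw [hN, LinearMap.sum_apply]
    have := LinearMap.congr_fun h v
    simp only [LinearMap.sum_apply, Module.End.mul_apply, hfix, Module.End.one_apply] at this
    exact this
  have key : ∀ m, m ≤ p →
      finrank k (LinearMap.ker ((S - 1) ^ m)) = m * finrank k (LinearMap.ker (S - 1)) := by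
    intro m
    induction m with
    | zero =>
      intro _
      rw [pow_zero, zero_mul]
      have : LinearMap.ker (1 : Module.End k U) = ⊥ := LinearMap.ker_id
      rw [this, finrank_bot]
    | succ m ih =>
      intro hm
      rw [finrank_ker_pow_add (hker.trans ?_), ih (by omega), Nat.succ_mul]
      intro x hx
      obtain ⟨y, rfl⟩ := hx
      refine ⟨((S - 1) ^ (p - 1 - m)) y, ?_⟩
      rw [← Module.End.mul_apply, ← pow_add, show m + (p - 1 - m) = p - 1 by omega]
  rw [← key p le_rfl]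
  exact Submodule.finrank_le _

end Field

variable {p : ℕ} {M : Ideal AlgInt} {ι : Type*}

/-- A vector with all coordinates in the place. -/
def IntegralVec (M : Ideal AlgInt) (x : ι → ℂ) : Prop := ∀ i, x i ∈ place M

/-- An endomorphism preserving the lattice of integral vectors. -/
def IntegralEnd (M : Ideal AlgInt) (f : Module.End ℂ (ι → ℂ)) : Prop :=
  ∀ x, IntegralVec M x → IntegralVec M (f x)

lemma IntegralEnd.mul {f g : Module.End ℂ (ι → ℂ)} (hf : IntegralEnd M f) (hg : IntegralEnd M g) :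
    IntegralEnd M (f * g) := fun x hx => hf _ (hg x hx)

lemma integralEnd_one : IntegralEnd M (1 : Module.End ℂ (ι → ℂ)) := fun _ hx => hx

lemma IntegralEnd.pow {f : Module.End ℂ (ι → ℂ)} (hf : IntegralEnd M f) (n : ℕ) :
    IntegralEnd M (f ^ n) := by
  induction n with
  | zero => rw [pow_zero]; exact integralEnd_one
  | succ n ih => rw [pow_succ]; exact ih.mul hf

lemma IntegralEnd.smul {f : Module.End ℂ (ι → ℂ)} (hf : IntegralEnd M f) {c : ℂ}
    (hc : c ∈ place M) : IntegralEnd M (c • f) := fun x hx i => mul_mem hc (hf x hx i)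

lemma mem_place_of_pow_eq_one {z : ℂ} {n : ℕ} (hn : n ≠ 0) (h : z ^ n = 1) : z ∈ place M := by
  rw [← ValuationSubring.valuation_le_one_iff]
  have := congrArg (place M).valuation h
  rw [map_pow, map_one] at this
  exact ((pow_eq_one_iff_of_nonneg zero_le hn).1 this).le

section Echelon

variable [Fintype ι]

/-- A reduced echelon integral basis of a subspace. -/
lemma exists_echelon (M : Ideal AlgInt) (W : Submodule ℂ (ι → ℂ)) :
    ∃ (s : Finset ι) (b : ι → ι → ℂ), (∀ i ∈ s, b i ∈ W) ∧ (∀ i ∈ s, IntegralVec M (b i)) ∧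
      (∀ i ∈ s, b i i = 1) ∧ (∀ i ∈ s, ∀ k ∈ s, k ≠ i → b i k = 0) ∧
      (∀ x ∈ W, x = ∑ i ∈ s, x i • b i) ∧ finrank ℂ W = s.card := by
  classical
  obtain ⟨n, hn⟩ : ∃ n, finrank ℂ W = n := ⟨_, rfl⟩
  induction n using Nat.strong_induction_on generalizing W with
  | _ n ih =>
  by_cases hW : W = ⊥
  · refine ⟨∅, fun _ => 0, by simp, by simp, by simp, by simp, fun x hx => ?_, ?_⟩
    · rw [hW, Submodule.mem_bot] at hx; simp [hx]
    · simp [hW]
  obtain ⟨w, hwW, hw0⟩ := Submodule.exists_mem_ne_zero_of_ne_bot hW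
  obtain ⟨j, hj⟩ := Function.ne_iff.1 hw0
  haveI : Nonempty ι := ⟨j⟩
  obtain ⟨i₀, -, hmax⟩ := Finset.exists_max_image Finset.univ
    (fun i => (place M).valuation (w i)) Finset.univ_nonempty
  have hi₀ : w i₀ ≠ 0 := by
    intro h
    apply hj
    have := hmax j (Finset.mem_univ _)
    rw [h, map_zero] at this
    exact (Valuation.zero_iff _).1 (le_antisymm this zero_le)
  set v : ι → ℂ := (w i₀)⁻¹ • w with hv
  have hvi : v i₀ = 1 := by simp [hv, hi₀]
  have hvint : IntegralVec M v := fun i => by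
    rw [← ValuationSubring.valuation_le_one_iff]
    simp only [hv, Pi.smul_apply, smul_eq_mul, map_mul, map_inv₀]
    rw [inv_mul_le_one₀ (zero_lt_iff.2 ((Valuation.ne_zero_iff _).2 hi₀))]
    exact hmax i (Finset.mem_univ _)
  have hvW : v ∈ W := W.smul_mem _ hwW
  set W' : Submodule ℂ (ι → ℂ) := W ⊓ LinearMap.ker (LinearMap.proj i₀ : (ι → ℂ) →ₗ[ℂ] ℂ) with hW'
  have hlt : W' < W := lt_of_le_of_ne inf_le_left fun h => by
    have : v ∈ W' := h ▸ hvW
    have h0 : v i₀ = 0 := this.2
    rw [hvi] at h0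
    exact one_ne_zero h0
  obtain ⟨s, b, hbW, hbint, hb1, hb0, hspan, -⟩ :=
    ih _ (hn ▸ Submodule.finrank_lt_finrank_of_lt hlt) W' rfl
  have hbi₀ : ∀ i ∈ s, b i i₀ = 0 := fun i hi => (hbW i hi).2
  have hi₀s : i₀ ∉ s := fun h => by
    have := hb1 i₀ h
    rw [hbi₀ i₀ h] at this
    exact zero_ne_one this
  set b₀ : ι → ℂ := v - ∑ i ∈ s, v i • b i with hb₀
  have hb₀i : b₀ i₀ = 1 := by
    simp only [hb₀, Pi.sub_apply, Finset.sum_apply, Pi.smul_apply, smul_eq_mul, hvi]
    rw [Finset.sum_eq_zero fun i hi => by rw [hbi₀ i hi, mul_zero], sub_zero]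
  have hb₀s : ∀ k ∈ s, b₀ k = 0 := by
    intro k hk
    simp only [hb₀, Pi.sub_apply, Finset.sum_apply, Pi.smul_apply, smul_eq_mul]
    rw [Finset.sum_eq_single k (fun i hi hik => by rw [hb0 i hi k hk (Ne.symm hik), mul_zero])
      (fun h => (h hk).elim), hb1 k hk, mul_one, sub_self]
  have hne : ∀ i ∈ s, i ≠ i₀ := fun i hi h => hi₀s (h ▸ hi)
  set b' : ι → ι → ℂ := Function.update b i₀ b₀ with hb'
  have hb's : ∀ i ∈ s, b' i = b i := fun i hi => Function.update_of_ne (hne i hi) _ _
  have hb'0 : b' i₀ = b₀ := Function.update_self _ _ _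
  have hb₀W : b₀ ∈ W := W.sub_mem hvW (W.sum_mem fun i hi => W.smul_mem _ (hbW i hi).1)
  have hb'W : ∀ i ∈ insert i₀ s, b' i ∈ W := fun i hi => by
    rcases Finset.mem_insert.1 hi with rfl | h
    · rw [hb'0]; exact hb₀W
    · rw [hb's i h]; exact (hbW i h).1
  have hspan' : ∀ x ∈ W, x = ∑ i ∈ insert i₀ s, x i • b' i := by
    intro x hx
    rw [Finset.sum_insert hi₀s, hb'0, Finset.sum_congr rfl fun i hi => by rw [hb's i hi]]
    have hy : x - x i₀ • b₀ ∈ W' := ⟨W.sub_mem hx (W.smul_mem _ hb₀W),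
      LinearMap.mem_ker.2 (by simp [hb₀i])⟩
    have h := hspan _ hy
    rw [Finset.sum_congr rfl fun i hi => show (x - x i₀ • b₀) i • b i = x i • b i by
      rw [Pi.sub_apply, Pi.smul_apply, hb₀s i hi, smul_zero, sub_zero]] at h
    rw [← h, add_sub_cancel]
  have hb'1 : ∀ i ∈ insert i₀ s, b' i i = 1 := fun i hi => by
    rcases Finset.mem_insert.1 hi with rfl | h
    · rw [hb'0, hb₀i]
    · rw [hb's i h, hb1 i h]
  have hb'δ : ∀ i ∈ insert i₀ s, ∀ k ∈ insert i₀ s, k ≠ i → b' i k = 0 := fun i hi k hk hki => by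
    rcases Finset.mem_insert.1 hi with rfl | h <;> rcases Finset.mem_insert.1 hk with rfl | h'
    · exact (hki rfl).elim
    · rw [hb'0, hb₀s k h']
    · rw [hb's i h, hbi₀ i h]
    · rw [hb's i h, hb0 i h k h' hki]
  refine ⟨insert i₀ s, b', hb'W, fun i hi => ?_, hb'1, hb'δ, hspan', ?_⟩
  · rcases Finset.mem_insert.1 hi with rfl | h
    · rw [hb'0]
      intro k
      simp only [hb₀, Pi.sub_apply, Finset.sum_apply, Pi.smul_apply, smul_eq_mul]
      exact sub_mem (hvint k) (sum_mem fun i hi => mul_mem (hvint i) (hbint i hi k))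
    · rw [hb's i h]; exact hbint i h
  · let e : W ≃ₗ[ℂ] (↥(insert i₀ s) → ℂ) :=
      { toFun := fun x i => (x : ι → ℂ) i
        map_add' := fun _ _ => rfl
        map_smul' := fun _ _ => rfl
        invFun := fun c => ⟨∑ i : ↥(insert i₀ s), c i • b' i,
          W.sum_mem fun i _ => W.smul_mem _ (hb'W i i.2)⟩
        left_inv := fun x => by
          apply Subtype.ext
          show ∑ i : ↥(insert i₀ s), (x : ι → ℂ) i • b' i = x
          rw [Finset.sum_coe_sort (insert i₀ s) fun i => (x : ι → ℂ) i • b' i, ← hspan' _ x.2]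
        right_inv := fun c => by
          funext k
          show (∑ i : ↥(insert i₀ s), c i • b' i) k.1 = c k
          rw [Finset.sum_apply, Finset.sum_eq_single k (fun i _ hik => by
            rw [Pi.smul_apply, hb'δ i i.2 k k.2 fun h => hik (Subtype.ext h.symm), smul_zero])
            (fun h => (h (Finset.mem_univ _)).elim)]
          rw [Pi.smul_apply, hb'1 k k.2, smul_eq_mul, mul_one] }
    rw [e.finrank_eq, Module.finrank_fintype_fun_eq_card, Fintype.card_coe]

/-- Reduction of a vector. -/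
noncomputable def resVec (M : Ideal AlgInt) (x : ι → ℂ) : ι → Res M := fun i => res M (x i)

/-- The reduction of a subspace. -/
noncomputable def redSub (M : Ideal AlgInt) (W : Submodule ℂ (ι → ℂ)) :
    Submodule (Res M) (ι → Res M) where
  carrier := {v | ∃ x ∈ W, IntegralVec M x ∧ resVec M x = v}
  zero_mem' := ⟨0, W.zero_mem, fun _ => zero_mem _, funext fun _ => res_zero⟩
  add_mem' := by
    rintro _ _ ⟨x, hx, hxi, rfl⟩ ⟨y, hy, hyi, rfl⟩
    exact ⟨x + y, W.add_mem hx hy, fun i => add_mem (hxi i) (hyi i),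
      funext fun i => res_add (hxi i) (hyi i)⟩
  smul_mem' := by
    rintro c _ ⟨x, hx, hxi, rfl⟩
    obtain ⟨c, rfl⟩ := IsLocalRing.residue_surjective c
    refine ⟨(c : ℂ) • x, W.smul_mem _ hx, fun i => mul_mem c.2 (hxi i), funext fun i => ?_⟩
    show res M ((c : ℂ) * x i) = IsLocalRing.residue (place M) c * res M (x i)
    rw [res_mul c.2 (hxi i), res_coe]

lemma finrank_redSub (M : Ideal AlgInt) (W : Submodule ℂ (ι → ℂ)) :
    finrank (Res M) (redSub M W) = finrank ℂ W := by
  classical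
  obtain ⟨s, b, hbW, hbint, hb1, hb0, hspan, hcard⟩ := exists_echelon M W
  let g : redSub M W →ₗ[Res M] (↥s → Res M) :=
    { toFun := fun v i => (v : ι → Res M) (i : ι)
      map_add' := fun _ _ => rfl
      map_smul' := fun _ _ => rfl }
  have hinj : Function.Injective g := by
    rw [← LinearMap.ker_eq_bot, LinearMap.ker_eq_bot']
    rintro ⟨v, x, hx, hxi, rfl⟩ hv
    refine Subtype.ext (funext fun k => ?_)
    show res M (x k) = 0
    have hxk : x k = ∑ i ∈ s, x i * b i k := by
      have := congrFun (hspan x hx) k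
      rwa [Finset.sum_apply] at this
    rw [hxk, res_sum _ _ fun i hi => mul_mem (hxi i) (hbint i hi k)]
    refine Finset.sum_eq_zero fun i hi => ?_
    have : res M (x i) = 0 := congrFun hv ⟨i, hi⟩
    rw [res_mul (hxi i) (hbint i hi k), this, zero_mul]
  have hsurj : Function.Surjective g := by
    intro c
    have hmem : ∀ i : ↥s, resVec M (b i.1) ∈ redSub M W := fun i =>
      ⟨b i.1, hbW i.1 i.2, hbint i.1 i.2, rfl⟩
    refine ⟨∑ i : ↥s, c i • (⟨resVec M (b i.1), hmem i⟩ : redSub M W), ?_⟩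
    funext k
    show ((∑ i : ↥s, c i • (⟨resVec M (b i.1), hmem i⟩ : redSub M W) : redSub M W) : ι → Res M)
      k.1 = c k
    rw [Submodule.coe_sum, Finset.sum_apply]
    simp only [SetLike.val_smul, Pi.smul_apply, smul_eq_mul, resVec]
    rw [Finset.sum_eq_single k (fun i _ hik => by
      rw [hb0 i i.2 k k.2 fun h => hik (Subtype.ext h.symm), res_zero, mul_zero])
      (fun h => (h (Finset.mem_univ _)).elim)]
    rw [hb1 k k.2, res_one, mul_one]
  let e := LinearEquiv.ofBijective g ⟨hinj, hsurj⟩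
  rw [e.finrank_eq, Module.finrank_fintype_fun_eq_card, Fintype.card_coe, hcard]

variable [DecidableEq ι]

/-- The reduction of an endomorphism. -/
noncomputable def redEnd (M : Ideal AlgInt) (f : Module.End ℂ (ι → ℂ)) :
    Module.End (Res M) (ι → Res M) :=
  Matrix.mulVecLin ((LinearMap.toMatrix' f).map (res M))

lemma redEnd_resVec {f : Module.End ℂ (ι → ℂ)} (hf : IntegralEnd M f) {x : ι → ℂ}
    (hx : IntegralVec M x) : redEnd M f (resVec M x) = resVec M (f x) := by
  have hA : ∀ i j, LinearMap.toMatrix' f i j ∈ place M := by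
    intro i j
    rw [LinearMap.toMatrix'_apply]
    refine hf _ (fun k => ?_) i
    by_cases h : k = j
    · subst h; simp [one_mem]
    · simp [Pi.single_eq_of_ne h, h, zero_mem]
  funext i
  simp only [redEnd, Matrix.mulVecLin_apply, Matrix.mulVec, dotProduct, Matrix.map_apply, resVec]
  rw [← LinearMap.toMatrix'_mulVec f x]
  simp only [Matrix.mulVec, dotProduct]
  rw [res_sum _ _ fun j _ => mul_mem (hA i j) (hx j)]
  exact Finset.sum_congr rfl fun j _ => (res_mul (hA i j) (hx j)).symm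

end Echelon

section Main

variable [Fintype ι] [DecidableEq ι]

/-- Step: a fixed subspace of an operator of order `p` having a relative trace projection on `W`
has dimension at most `dim W / p`. -/
lemma mul_finrank_le_of_relTrace (hM : IsPModular p M) (W K : Submodule ℂ (ι → ℂ))
    (T Φ : Module.End ℂ (ι → ℂ)) (hT : IntegralEnd M T) (hΦ : IntegralEnd M Φ)
    (hTW : ∀ x ∈ W, T x ∈ W) (hΦW : ∀ x ∈ W, Φ x ∈ W) (hTp : ∀ x ∈ W, (T ^ p) x = x)
    (htr : ∀ x ∈ W, ∑ i ∈ Finset.range p, (T ^ i) (Φ ((T ^ (p - i)) x)) = x)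
    (hKW : K ≤ W) (hK : ∀ x ∈ K, T x = x) :
    p * finrank ℂ K ≤ finrank ℂ W := by
  haveI := Fact.mk hM.1
  haveI := charP_res hM
  rw [← finrank_redSub M W, ← finrank_redSub M K]
  have hinv : ∀ {f : Module.End ℂ (ι → ℂ)}, IntegralEnd M f → (∀ x ∈ W, f x ∈ W) →
      ∀ v ∈ redSub M W, redEnd M f v ∈ redSub M W := by
    rintro f hf hfW _ ⟨x, hx, hxi, rfl⟩
    exact ⟨f x, hfW x hx, hf x hxi, (redEnd_resVec hf hxi).symm⟩
  set S := (redEnd M T).restrict (hinv hT hTW) with hS
  set Ψ := (redEnd M Φ).restrict (hinv hΦ hΦW) with hΨ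
  have hSval : ∀ (j : ℕ) (v : redSub M W) (x : ι → ℂ), IntegralVec M x → resVec M x = v →
      ((S ^ j) v : ι → Res M) = resVec M ((T ^ j) x) := by
    intro j
    induction j with
    | zero => intro v x hxi hx; simp [hx]
    | succ j ih =>
      intro v x hxi hx
      rw [pow_succ, Module.End.mul_apply, pow_succ, Module.End.mul_apply]
      refine ih _ _ (hT x hxi) ?_
      rw [hS, LinearMap.coe_restrict_apply, ← hx, redEnd_resVec hT hxi]
  have hTjW : ∀ (j : ℕ), ∀ x ∈ W, (T ^ j) x ∈ W := by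
    intro j
    induction j with
    | zero => intro x hx; exact hx
    | succ j ih => intro x hx; rw [pow_succ, Module.End.mul_apply]; exact ih _ (hTW x hx)
  have h1 : S ^ p = 1 := by
    refine LinearMap.ext fun v => Subtype.ext ?_
    obtain ⟨x, hx, hxi, hxv⟩ := v.2
    rw [hSval p v x hxi hxv, hTp x hx, hxv]
    rfl
  have h2 : ∑ i ∈ Finset.range p, S ^ i * Ψ * S ^ (p - i) = 1 := by
    refine LinearMap.ext fun v => Subtype.ext ?_
    obtain ⟨x, hx, hxi, hxv⟩ := v.2
    rw [LinearMap.sum_apply, Submodule.coe_sum, Module.End.one_apply, ← hxv]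
    have hint : ∀ i, IntegralVec M (Φ ((T ^ (p - i)) x)) := fun i => hΦ _ (hT.pow _ x hxi)
    conv_rhs => rw [← htr x hx]
    funext k
    simp only [resVec, Finset.sum_apply]
    rw [res_sum _ _ fun i _ => hT.pow i _ (hint i) k]
    refine Finset.sum_congr rfl fun i _ => ?_
    rw [Module.End.mul_apply, Module.End.mul_apply]
    have e1 := hSval (p - i) v x hxi hxv
    have e2 : ((Ψ ((S ^ (p - i)) v)) : ι → Res M) = resVec M (Φ ((T ^ (p - i)) x)) := by
      rw [hΨ, LinearMap.coe_restrict_apply, e1, redEnd_resVec hΦ (hT.pow _ x hxi)]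
    exact congrFun (hSval i _ _ (hint i) e2.symm) k
  refine le_trans (Nat.mul_le_mul le_rfl ?_) (mul_finrank_fixed_le p S Ψ h1 h2)
  have hKW' : redSub M K ≤ redSub M W := by
    rintro _ ⟨x, hx, hxi, rfl⟩; exact ⟨x, hKW hx, hxi, rfl⟩
  refine LinearMap.finrank_le_finrank_of_injective
    (f := LinearMap.codRestrict _ (Submodule.inclusion hKW') ?_) ?_
  · rintro ⟨_, x, hx, hxi, rfl⟩
    rw [LinearMap.mem_ker, LinearMap.sub_apply, sub_eq_zero]
    apply Subtype.ext
    have := hSval 1 (Submodule.inclusion hKW' ⟨resVec M x, x, hx, hxi, rfl⟩) x hxi rfl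
    rw [pow_one, pow_one, hK x hx] at this
    exact this
  · exact fun a b h => Submodule.inclusion_injective hKW' (congrArg Subtype.val h)

/-- The spectral projection of `T` (of order `N` on the image of `E`) at `ω`. -/
noncomputable def specProj (T E : Module.End ℂ (ι → ℂ)) (N : ℕ) (ω : ℂ) :
    Module.End ℂ (ι → ℂ) :=
  (N : ℂ)⁻¹ • ∑ j ∈ Finset.range N, (ω⁻¹ ^ j) • (T ^ j * E)

/-- **Relatively projective operators have trace zero.** -/
theorem trace_mul_eq_zero_of_relTrace (hM : IsPModular p M) (T Φ E : Module.End ℂ (ι → ℂ))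
    (hT : IntegralEnd M T) (hΦ : IntegralEnd M Φ)
    (hEE : E * E = E) (hTE : T * E = E * T) (hΦE : Φ * E = E * Φ)
    (N : ℕ) (hN : N ≠ 0) (hpN : p ∣ N) (hTN : T ^ N * E = E)
    (hΦT : Φ * T ^ p = T ^ p * Φ)
    (hTr : (∑ i ∈ Finset.range p, T ^ i * Φ * T ^ (N - i)) * E = E) :
    LinearMap.trace ℂ (ι → ℂ) (T * E) = 0 := by
  classical
  have hp := hM.1
  have hNC : (N : ℂ) ≠ 0 := Nat.cast_ne_zero.2 hN
  set μ : Finset ℂ := nthRootsFinset N (1 : ℂ) with hμ
  have hμmem : ∀ {ω}, ω ∈ μ ↔ ω ^ N = 1 := fun {ω} => mem_nthRootsFinset (Nat.pos_of_ne_zero hN) _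
  have hμ0 : ∀ {ω}, ω ∈ μ → ω ≠ 0 := fun {ω} h h0 => by
    rw [hμmem, h0, zero_pow hN] at h; exact zero_ne_one h
  set P := specProj T E N with hP
  have hTjE : ∀ j, T ^ j * E = E * T ^ j := fun j => ((Commute.pow_left hTE j) : Commute _ _)
  have hsumω : ∀ r : ℂ, r ^ N = 1 → ∑ j ∈ Finset.range N, r ^ j = if r = 1 then (N : ℂ) else 0 := by
    intro r hr
    split_ifs with h
    · simp [h]
    · rw [geom_sum_eq h, hr, sub_self, zero_div]
  have hPapply : ∀ ω x η, ω ∈ μ → η ∈ μ → E x = x → T x = η • x →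
      P ω x = if η = ω then x else 0 := by
    intro ω x η hω hη hEx hTx
    have hpow : ∀ j, (T ^ j) x = η ^ j • x := fun j => by
      induction j with
      | zero => simp
      | succ j ih =>
        rw [pow_succ, Module.End.mul_apply, hTx, map_smul, ih, smul_smul, pow_succ, mul_comm]
    rw [hP, specProj, LinearMap.smul_apply, LinearMap.sum_apply]
    simp only [LinearMap.smul_apply, Module.End.mul_apply, hEx, hpow, smul_smul]
    rw [← Finset.sum_smul, smul_smul]
    simp_rw [← mul_pow]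
    rw [hsumω _ (by rw [mul_pow, inv_pow, hμmem.1 hω, hμmem.1 hη, inv_one, one_mul])]
    have : ω⁻¹ * η = 1 ↔ η = ω := by
      rw [inv_mul_eq_one₀ (hμ0 hω)]; exact eq_comm
    simp only [this]
    split_ifs <;> simp [hNC]
  have hTP : ∀ ω ∈ μ, T * P ω = ω • P ω := by
    intro ω hω
    rw [hP, specProj, mul_smul_comm, Finset.mul_sum, smul_comm ω]
    congr 1
    rw [Finset.smul_sum]
    obtain ⟨m, rfl⟩ : ∃ m, N = m + 1 := ⟨N - 1, by omega⟩
    rw [Finset.sum_range_succ, Finset.sum_range_succ']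
    congr 1
    · refine Finset.sum_congr rfl fun j _ => ?_
      rw [mul_smul_comm, smul_smul, ← mul_assoc, ← pow_succ']
      congr 1
      rw [pow_succ', ← mul_assoc, mul_inv_cancel₀ (hμ0 hω), one_mul]
    · rw [mul_smul_comm, ← mul_assoc, ← pow_succ', hTN, pow_zero, pow_zero, one_mul, smul_smul,
        mul_one]
      congr 1
      rw [inv_pow]
      apply inv_eq_of_mul_eq_one_left
      rw [← pow_succ', hμmem.1 hω]
  have hEP : ∀ ω, E * P ω = P ω := by
    intro ω
    rw [hP, specProj, mul_smul_comm, Finset.mul_sum]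
    congr 1
    refine Finset.sum_congr rfl fun j _ => ?_
    rw [mul_smul_comm, ← mul_assoc, ← hTjE, mul_assoc, hEE]
  have hPeig : ∀ ω ∈ μ, ∀ x, E (P ω x) = P ω x ∧ T (P ω x) = ω • P ω x := fun ω hω x =>
    ⟨LinearMap.congr_fun (hEP ω) x, LinearMap.congr_fun (hTP ω hω) x⟩
  have hsumP : ∑ ω ∈ μ, P ω = E := by
    simp only [hP, specProj]
    rw [← Finset.smul_sum, Finset.sum_comm]
    simp only [← Finset.sum_smul]
    rw [Finset.sum_eq_single 0]
    · simp only [pow_zero, Finset.sum_const, nsmul_eq_mul, mul_one, one_mul]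
      have hcard : μ.card = N :=
        (Complex.isPrimitiveRoot_exp N hN).card_nthRootsFinset
      rw [hcard, smul_smul, inv_mul_cancel₀ hNC, one_smul]
    · intro j hj hj0
      have hζ := Complex.isPrimitiveRoot_exp N hN
      set ζ := Complex.exp (2 * Real.pi * Complex.I / N)
      have hS : ∑ ω ∈ μ, ω⁻¹ ^ j = ζ⁻¹ ^ j * ∑ ω ∈ μ, ω⁻¹ ^ j := by
        rw [Finset.mul_sum]
        refine (Finset.sum_bij' (fun ω _ => ζ * ω) (fun ω _ => ζ⁻¹ * ω) ?_ ?_ ?_ ?_ ?_).symm
        · intro ω hω
          rw [hμmem] at hω ⊢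
          rw [mul_pow, hζ.pow_eq_one, hω, one_mul]
        · intro ω hω
          rw [hμmem] at hω ⊢
          rw [mul_pow, inv_pow, hζ.pow_eq_one, hω, inv_one, one_mul]
        · intro ω _; rw [← mul_assoc, inv_mul_cancel₀ (hζ.ne_zero hN), one_mul]
        · intro ω _; rw [← mul_assoc, mul_inv_cancel₀ (hζ.ne_zero hN), one_mul]
        · intro ω _; rw [mul_inv, mul_pow]
      have hne : ζ⁻¹ ^ j ≠ 1 :=
        hζ.inv.pow_ne_one_of_pos_of_lt hj0 (Finset.mem_range.1 hj)
      have h0 : ∑ ω ∈ μ, ω⁻¹ ^ j = 0 := by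
        by_contra h
        exact hne (mul_right_cancel₀ h (by rw [one_mul]; exact hS.symm))
      rw [h0, zero_smul]
    · intro h; exact absurd (Finset.mem_range.2 (Nat.pos_of_ne_zero hN)) h
  have hPidem : ∀ ω ∈ μ, LinearMap.IsProj (LinearMap.range (P ω)) (P ω) := by
    intro ω hω
    refine ⟨fun x => ⟨x, rfl⟩, ?_⟩
    rintro _ ⟨y, rfl⟩
    obtain ⟨h1, h2⟩ := hPeig ω hω y
    rw [hPapply ω _ ω hω hω h1 h2, if_pos rfl]
  set d : ℂ → ℕ := fun ω => finrank ℂ (LinearMap.range (P ω)) with hd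
  have htrP : ∀ ω ∈ μ, LinearMap.trace ℂ (ι → ℂ) (P ω) = d ω := fun ω hω => (hPidem ω hω).trace
  set μp : Finset ℂ := nthRootsFinset p (1 : ℂ) with hμp
  have hμpmem : ∀ {η}, η ∈ μp ↔ η ^ p = 1 := fun {η} => mem_nthRootsFinset hp.pos _
  obtain ⟨q, hq⟩ := hpN
  have hμmul : ∀ {ω η : ℂ}, ω ∈ μ → η ∈ μp → ω * η ∈ μ := fun {ω η} hω hη => by
    rw [hμmem, mul_pow, hμmem.1 hω, hq, pow_mul, hμpmem.1 hη, one_pow, one_mul]
  -- the key inequality
  have key : ∀ ω ∈ μ, p * d ω ≤ ∑ η ∈ μp, d (ω * η) := by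
    intro ω hω
    let W : Submodule ℂ (ι → ℂ) :=
      LinearMap.ker (E - 1) ⊓ LinearMap.ker (T ^ p - ω ^ p • (1 : Module.End ℂ (ι → ℂ)))
    have hWmem : ∀ {x}, x ∈ W ↔ E x = x ∧ (T ^ p) x = ω ^ p • x := fun {x} => by
      simp [W, sub_eq_zero]
    have hKW : LinearMap.range (P ω) ≤ W := by
      rintro _ ⟨x, rfl⟩
      obtain ⟨h1, h2⟩ := hPeig ω hω x
      refine hWmem.2 ⟨h1, ?_⟩
      have hall : ∀ j, (T ^ j) (P ω x) = ω ^ j • P ω x := fun j => by
        induction j with
        | zero => simp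
        | succ j ih =>
          rw [pow_succ, Module.End.mul_apply, h2, map_smul, ih, smul_smul, pow_succ, mul_comm]
      exact hall p
    have hωV : ω⁻¹ ∈ place M := mem_place_of_pow_eq_one hN (by rw [inv_pow, hμmem.1 hω, inv_one])
    have hpowT : ∀ j, (ω⁻¹ • T) ^ j = ω⁻¹ ^ j • T ^ j := fun j => smul_pow _ _ _
    have hωp : ω⁻¹ ^ p * ω ^ p = 1 := by rw [← mul_pow, inv_mul_cancel₀ (hμ0 hω), one_pow]
    refine le_trans (mul_finrank_le_of_relTrace hM W (LinearMap.range (P ω)) (ω⁻¹ • T) Φ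
      (hT.smul hωV) hΦ ?_ ?_ ?_ ?_ hKW ?_) ?_
    · intro x hx
      obtain ⟨h1, h2⟩ := hWmem.1 hx
      refine W.smul_mem _ (hWmem.2 ⟨?_, ?_⟩)
      · rw [← Module.End.mul_apply, ← hTE, Module.End.mul_apply, h1]
      · rw [← Module.End.mul_apply, ← pow_succ, pow_succ', Module.End.mul_apply, h2, map_smul]
    · intro x hx
      obtain ⟨h1, h2⟩ := hWmem.1 hx
      refine hWmem.2 ⟨?_, ?_⟩
      · rw [← Module.End.mul_apply, ← hΦE, Module.End.mul_apply, h1]
      · rw [← Module.End.mul_apply, ← hΦT, Module.End.mul_apply, h2, map_smul]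
    · intro x hx
      rw [hpowT, LinearMap.smul_apply, (hWmem.1 hx).2, smul_smul, hωp, one_smul]
    · intro x hx
      obtain ⟨h1, h2⟩ := hWmem.1 hx
      have e := LinearMap.congr_fun hTr x
      rw [Module.End.mul_apply, h1, LinearMap.sum_apply] at e
      conv_rhs => rw [← e]
      refine Finset.sum_congr rfl fun i hi => ?_
      rw [Finset.mem_range] at hi
      simp only [hpowT, LinearMap.smul_apply, map_smul, Module.End.mul_apply, smul_smul]
      rw [← pow_add, Nat.sub_add_cancel hi.le]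
      -- `T ^ (N - i)` agrees with `ω ^ (N - p) • T ^ (p - i)` on `W`
      have hTq : ∀ r, (T ^ (p * r)) x = (ω ^ (p * r)) • x := by
        intro r
        induction r with
        | zero => simp
        | succ r ih =>
          rw [Nat.mul_succ, pow_add, Module.End.mul_apply, h2, map_smul, ih, smul_smul, pow_add,
            mul_comm]
      obtain ⟨q', rfl⟩ : ∃ q', q = q' + 1 := ⟨q - 1, by rcases q with _ | q <;> simp_all⟩
      have hNi : N - i = (p - i) + p * q' := by
        rw [hq, Nat.mul_succ]; omega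
      rw [hNi, pow_add, Module.End.mul_apply, hTq, map_smul, map_smul, map_smul]
      congr 1
      rw [inv_pow]
      apply inv_eq_of_mul_eq_one_left
      rw [← pow_add, ← Nat.mul_succ, ← hq, hμmem.1 hω]
    · rintro _ ⟨x, rfl⟩
      rw [LinearMap.smul_apply, (hPeig ω hω x).2, smul_smul, inv_mul_cancel₀ (hμ0 hω), one_smul]
    · -- `dim W ≤ ∑ d`
      have hle : W ≤ ⨆ η ∈ μp, LinearMap.range (P (ω * η)) := by
        intro x hx
        obtain ⟨h1, h2⟩ := hWmem.1 hx
        have hx' : x = ∑ θ ∈ μ, P θ x := by rw [← LinearMap.sum_apply, hsumP, h1]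
        rw [hx']
        refine Submodule.sum_mem _ fun θ hθ => ?_
        by_cases hθp : θ ^ p = ω ^ p
        · refine Submodule.mem_iSup_of_mem (ω⁻¹ * θ) (Submodule.mem_iSup_of_mem ?_ ⟨x, ?_⟩)
          · rw [hμpmem, mul_pow, hθp, hωp]
          · rw [← mul_assoc, mul_inv_cancel₀ (hμ0 hω), one_mul]
        · have hcomm : Commute (T ^ p) (P θ) := by
            rw [hP, specProj]
            refine Commute.smul_right (Commute.sum_right _ _ _ fun j _ => Commute.smul_right ?_ _) _
            exact Commute.mul_right (Commute.pow_pow (Commute.refl T) p j) (hTjE p)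
          have hev : ∀ k, (T ^ k) (P θ x) = θ ^ k • P θ x := fun k => by
            induction k with
            | zero => simp
            | succ k ih =>
              rw [pow_succ, Module.End.mul_apply, (hPeig θ hθ x).2, map_smul, ih, smul_smul,
                pow_succ, mul_comm]
          have e1 := hev p
          rw [← Module.End.mul_apply, hcomm.eq, Module.End.mul_apply, h2, map_smul] at e1
          have : (ω ^ p - θ ^ p) • P θ x = 0 := by rw [sub_smul, e1, sub_self]
          rw [(smul_eq_zero.1 this).resolve_left (sub_ne_zero.2 (Ne.symm hθp))]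
          exact Submodule.zero_mem _
      refine (Submodule.finrank_mono hle).trans ?_
      clear hle
      induction μp using Finset.induction with
      | empty => simp
      | insert a s ha ih =>
        rw [Finset.iSup_insert, Finset.sum_insert ha]
        exact (Submodule.finrank_add_le_finrank_add_finrank _ _).trans (Nat.add_le_add_left ih _)
  -- the multiplicities are constant on cosets of the `p`-th roots of unity
  have hcardp : μp.card = p := (Complex.isPrimitiveRoot_exp p hp.ne_zero).card_nthRootsFinset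
  have heq : ∀ ω ∈ μ, ∀ η ∈ μp, d (ω * η) = d ω := by
    intro ω hω
    have hshift : ∀ η ∈ μp, ∑ θ ∈ μp, d (ω * η * θ) = ∑ θ ∈ μp, d (ω * θ) := by
      intro η hη
      refine Finset.sum_bij' (fun θ _ => η * θ) (fun θ _ => η⁻¹ * θ) ?_ ?_ ?_ ?_ ?_
      · intro θ hθ; rw [hμpmem] at *; rw [mul_pow, hη, hθ, one_mul]
      · intro θ hθ; rw [hμpmem] at *; rw [mul_pow, inv_pow, hη, hθ, inv_one, one_mul]
      · intro θ _
        rw [← mul_assoc, inv_mul_cancel₀ (fun h => by
          rw [hμpmem, h, zero_pow hp.ne_zero] at hη; exact zero_ne_one hη), one_mul]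
      · intro θ _
        rw [← mul_assoc, mul_inv_cancel₀ (fun h => by
          rw [hμpmem, h, zero_pow hp.ne_zero] at hη; exact zero_ne_one hη), one_mul]
      · intro θ _; rw [mul_assoc]
    set A := ∑ θ ∈ μp, d (ω * θ) with hA
    have hall : ∀ η ∈ μp, p * d (ω * η) ≤ A := fun η hη => by
      rw [← hshift η hη]; exact key _ (hμmul hω hη)
    have hallEq : ∀ η ∈ μp, p * d (ω * η) = A := by
      refine (Finset.sum_eq_sum_iff_of_le hall).1 ?_
      rw [← Finset.mul_sum, Finset.sum_const, hcardp, smul_eq_mul]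
    intro η hη
    have h1 := hallEq 1 (hμpmem.2 (one_pow p))
    rw [mul_one] at h1
    exact Nat.eq_of_mul_eq_mul_left hp.pos ((hallEq η hη).trans h1.symm)
  -- compute the trace
  have hζ := Complex.isPrimitiveRoot_exp p hp.ne_zero
  set ζ := Complex.exp (2 * Real.pi * Complex.I / p)
  have hζp : ζ ∈ μp := hμpmem.2 hζ.pow_eq_one
  have hζip : ζ⁻¹ ∈ μp := hμpmem.2 hζ.inv.pow_eq_one
  have htrace : LinearMap.trace ℂ (ι → ℂ) (T * E) = ∑ ω ∈ μ, ω * d ω := by
    rw [← hsumP, Finset.mul_sum, map_sum]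
    refine Finset.sum_congr rfl fun ω hω => ?_
    rw [hTP ω hω, map_smul, htrP ω hω, smul_eq_mul]
  have hrot : ∑ ω ∈ μ, ω * (d ω : ℂ) = ζ * ∑ ω ∈ μ, ω * (d ω : ℂ) := by
    rw [Finset.mul_sum]
    refine (Finset.sum_bij' (fun ω _ => ω * ζ) (fun ω _ => ω * ζ⁻¹) ?_ ?_ ?_ ?_ ?_).symm
    · exact fun ω hω => hμmul hω hζp
    · exact fun ω hω => hμmul hω hζip
    · intro ω _; rw [mul_assoc, mul_inv_cancel₀ (hζ.ne_zero hp.ne_zero), mul_one]
    · intro ω _; rw [mul_assoc, inv_mul_cancel₀ (hζ.ne_zero hp.ne_zero), mul_one]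
    · intro ω hω; rw [heq ω hω ζ hζp]; ring
  rw [htrace]
  by_contra h
  exact hζ.ne_one hp.one_lt (mul_right_cancel₀ h (by rw [one_mul]; exact hrot.symm))

end Main

end Cfsg.Lib.Blocks
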