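import Mathlib
import Cfsg.Agent.Chars.Core

/-!
# Sums over conjugates and integer values at involutions
-/

set_option autoImplicit false
set_option linter.unusedSectionVars false

namespace Cfsg.Lib.Blocks

open Cfsg.Lib.Chars

universe u

variable {G : Type u} [Group G] [Fintype G]

lemma sum_conj_eq {H : Type*} [AddCommMonoid H] (g : G) [DecidablePred (IsConj g)]
    (F : G → H) :
    ∑ x : G, F (x * g * x⁻¹) =
      Nat.card (Subgroup.centralizer ({g} : Set G)) •
        ∑ y ∈ Finset.univ.filter (IsConj g), F y := by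
  classical
  rw [Finset.smul_sum, ← Finset.sum_fiberwise_of_maps_to (t := Finset.univ.filter (IsConj g))
    (g := fun x : G => x * g * x⁻¹)]
  · refine Finset.sum_congr rfl fun y hy => ?_
    obtain ⟨c, rfl⟩ := isConj_iff.1 (Finset.mem_filter.1 hy).2
    rw [Finset.sum_congr rfl (g := fun _ => F (c * g * c⁻¹)) fun x hx => by
      rw [(Finset.mem_filter.1 hx).2], Finset.sum_const]
    congr 1
    rw [Nat.card_eq_fintype_card, ← Finset.card_univ]
    refine Finset.card_bij' (fun x hx => (⟨c⁻¹ * x, ?_⟩ : Subgroup.centralizer ({g} : Set G)))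
      (fun k _ => c * (k : G)) (fun _ _ => Finset.mem_univ _) ?_ (fun x _ => by simp)
      (fun k _ => by simp)
    · rw [Subgroup.mem_centralizer_singleton_iff]
      have h : x * g * x⁻¹ = c * g * c⁻¹ := (Finset.mem_filter.1 hx).2
      calc c⁻¹ * x * g = c⁻¹ * (x * g * x⁻¹) * x := by group
        _ = g * (c⁻¹ * x) := by rw [h]; group
    · intro k _
      have h := Subgroup.mem_centralizer_singleton_iff.1 k.2
      refine Finset.mem_filter.2 ⟨Finset.mem_univ _, ?_⟩
      calc c * (k : G) * g * (c * (k : G))⁻¹ = c * ((k : G) * g) * ((k : G))⁻¹ * c⁻¹ := by group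
        _ = c * g * c⁻¹ := by rw [h]; group
  · exact fun x _ => Finset.mem_filter.2 ⟨Finset.mem_univ _, isConj_iff.2 ⟨x, rfl⟩⟩

lemma sum_inv_conj_eq {H : Type*} [AddCommMonoid H] (g : G) [DecidablePred (IsConj g)]
    (F : G → H) :
    ∑ x : G, F (x⁻¹ * g * x) =
      Nat.card (Subgroup.centralizer ({g} : Set G)) •
        ∑ y ∈ Finset.univ.filter (IsConj g), F y := by
  rw [← sum_conj_eq g F]
  exact Fintype.sum_equiv (Equiv.inv G) _ _ fun x => by simp

end Cfsg.Lib.Blocks
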