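import Mathlib
import Cfsg.Prelude.Def_Blocks
import Cfsg.Agent.Blocks.Idem
import Cfsg.Agent.Blocks.RelTrace
import Cfsg.Agent.Blocks.PPart
import Cfsg.Agent.Blocks.Sums

/-!
# Block orthogonality

The trace on a block of the group algebra of `v ↦ g v h⁻¹` is `∑_{χ ∈ B} χ g χ h⁻¹`; the trace
lemma makes it vanish when the `p`-parts of `g` and `h` are not conjugate, and also when the
`p`-part of `g` kills the block idempotent under the Brauer map.
-/

set_option autoImplicit false
set_option linter.unusedSectionVars false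

namespace Cfsg.Lib.Blocks

open scoped ComplexConjugate
open Cfsg.Lib.Chars

universe u

section Operators

variable {ι : Type*} [Fintype ι] [DecidableEq ι] {M : Ideal AlgInt} {p : ℕ}

/-- An integral endomorphism congruent to the identity has an integral inverse. -/
lemma exists_integral_inverse (U : Module.End ℂ (ι → ℂ)) (hU : IntegralEnd M U)
    (hs : ∀ i j, Small M (LinearMap.toMatrix' (U - 1) i j)) :
    ∃ V : Module.End ℂ (ι → ℂ), IntegralEnd M V ∧ V * U = 1 ∧ U * V = 1 := by
  have hA : ∀ i j, LinearMap.toMatrix' U i j ∈ place M := by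
    intro i j
    rw [LinearMap.toMatrix'_apply]
    refine hU _ (fun k => ?_) i
    by_cases h : k = j
    · subst h; simp [one_mem]
    · simp [Pi.single_eq_of_ne h, h, zero_mem]
  set A : Matrix ι ι (place M) := fun i j => ⟨LinearMap.toMatrix' U i j, hA i j⟩ with hAdef
  have hred : (IsLocalRing.residue (place M)).mapMatrix A = 1 := by
    ext i j
    rw [RingHom.mapMatrix_apply, Matrix.map_apply, Matrix.one_apply, ← res_coe]
    have h := hs i j
    rw [map_sub, LinearMap.toMatrix'_one, Matrix.sub_apply, Matrix.one_apply] at h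
    show res M (LinearMap.toMatrix' U i j) = _
    split_ifs with hij
    · rw [if_pos hij] at h
      rw [(res_eq_iff (hA i j) (one_mem _)).2 h, res_one]
    · rw [if_neg hij, sub_zero] at h
      exact (res_eq_zero_iff (hA i j)).2 h
  have hdet : IsUnit A.det := by
    rw [← IsLocalRing.residue_ne_zero_iff_isUnit, RingHom.map_det, hred, Matrix.det_one]
    exact one_ne_zero
  have hmap : (place M).subtype.mapMatrix A = LinearMap.toMatrix' U := rfl
  refine ⟨Matrix.toLin' ((place M).subtype.mapMatrix A⁻¹), ?_, ?_, ?_⟩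
  · intro v hv i
    rw [Matrix.toLin'_apply, Matrix.mulVec, dotProduct]
    exact sum_mem fun j _ => mul_mem (A⁻¹ i j).2 (hv j)
  · conv_lhs => arg 2; rw [← Matrix.toLin'_toMatrix' U]
    rw [← hmap, Module.End.mul_eq_comp, ← Matrix.toLin'_mul, ← map_mul,
      Matrix.nonsing_inv_mul A hdet, map_one, Matrix.toLin'_one]
    rfl
  · conv_lhs => arg 1; rw [← Matrix.toLin'_toMatrix' U]
    rw [← hmap, Module.End.mul_eq_comp, ← Matrix.toLin'_mul, ← map_mul,
      Matrix.mul_nonsing_inv A hdet, map_one, Matrix.toLin'_one]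
    rfl

/-- The trace lemma for a relative trace projection which is only correct up to an invertible
operator. -/
theorem trace_mul_eq_zero_of_relTrace_congr (hM : IsPModular p M)
    (T Φ E U : Module.End ℂ (ι → ℂ)) (hT : IntegralEnd M T) (hΦ : IntegralEnd M Φ)
    (hU : IntegralEnd M U) (hs : ∀ i j, Small M (LinearMap.toMatrix' (U - 1) i j))
    (hEE : E * E = E) (hTE : T * E = E * T) (hΦE : Φ * E = E * Φ) (hUT : U * T = T * U)
    (hUE : U * E = E * U)
    (N : ℕ) (hN : N ≠ 0) (hpN : p ∣ N) (hTN : T ^ N * E = E)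
    (hΦT : Φ * T ^ p = T ^ p * Φ)
    (hTr : (∑ i ∈ Finset.range p, T ^ i * Φ * T ^ (N - i)) * E = U * E) :
    LinearMap.trace ℂ (ι → ℂ) (T * E) = 0 := by
  obtain ⟨V, hV, hVU, hUV⟩ := exists_integral_inverse U hU hs
  have inv_comm : ∀ X : Module.End ℂ (ι → ℂ), U * X = X * U → V * X = X * V := fun X h => by
    calc V * X = V * X * (U * V) := by rw [hUV, mul_one]
      _ = V * (X * U) * V := by simp only [mul_assoc]
      _ = V * U * X * V := by rw [← h]; simp only [mul_assoc]
      _ = X * V := by rw [hVU, one_mul]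
  have hVT := inv_comm T hUT
  have hVE := inv_comm E hUE
  refine trace_mul_eq_zero_of_relTrace hM T (V * Φ) E hT (hV.mul hΦ) hEE hTE ?_ N hN hpN hTN ?_ ?_
  · rw [mul_assoc, hΦE, ← mul_assoc, hVE, mul_assoc]
  · rw [mul_assoc, hΦT, ← mul_assoc, (Commute.pow_right hVT p).eq, mul_assoc]
  · calc (∑ i ∈ Finset.range p, T ^ i * (V * Φ) * T ^ (N - i)) * E
        = V * ((∑ i ∈ Finset.range p, T ^ i * Φ * T ^ (N - i)) * E) := by
          rw [← mul_assoc, Finset.mul_sum]
          refine congrArg (· * E) (Finset.sum_congr rfl fun i _ => ?_)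
          rw [← mul_assoc (T ^ i), ← (Commute.pow_right hVT i).eq]
          simp only [mul_assoc]
      _ = E := by rw [hTr, ← mul_assoc, hVU, one_mul]

/-- The operator of a permutation. -/
noncomputable def permOp (σ : Equiv.Perm ι) : Module.End ℂ (ι → ℂ) :=
  LinearMap.funLeft ℂ ℂ σ.symm

lemma permOp_apply (σ : Equiv.Perm ι) (v : ι → ℂ) (a : ι) : permOp σ v a = v (σ.symm a) := rfl

lemma permOp_pow (σ : Equiv.Perm ι) (n : ℕ) : permOp σ ^ n = permOp (σ ^ n) := by
  induction n with
  | zero => rfl
  | succ n ih => rw [pow_succ, ih, pow_succ]; rfl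

lemma integralEnd_permOp (σ : Equiv.Perm ι) : IntegralEnd M (permOp σ) := fun _ hv a => hv _

/-- Multiplication by an indicator. -/
noncomputable def indOp (S : Finset ι) : Module.End ℂ (ι → ℂ) where
  toFun v a := if a ∈ S then v a else 0
  map_add' v w := funext fun a => by by_cases h : a ∈ S <;> simp [h]
  map_smul' c v := funext fun a => by by_cases h : a ∈ S <;> simp [h]

lemma integralEnd_indOp (S : Finset ι) : IntegralEnd M (indOp S) := fun v hv a => by
  show (if a ∈ S then v a else 0) ∈ place M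
  split_ifs
  exacts [hv a, zero_mem _]

/-- A function increasing by one along a permutation, away from cycles of length prime to `p`. -/
lemma exists_phase {α : Type*} (σ : Equiv.Perm α) (p : ℕ) :
    ∃ φ : α → ZMod p, ∀ a, (∀ l : ℤ, (σ ^ l) a = a → (p : ℤ) ∣ l) → φ (σ a) = φ a + 1 := by
  classical
  set r : α → α := fun a => Quotient.out (Quotient.mk (Equiv.Perm.SameCycle.setoid σ) a) with hr
  have hrk : ∀ a, ∃ k : ℤ, (σ ^ k) (r a) = a := fun a =>
    Quotient.mk_out (s := Equiv.Perm.SameCycle.setoid σ) a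
  choose k hk using hrk
  refine ⟨fun a => (k a : ZMod p), fun a ha => ?_⟩
  have hsame : r (σ a) = r a := by
    simp only [hr]
    congr 1
    exact Quotient.sound (Equiv.Perm.SameCycle.symm ⟨1, by simp⟩)
  have h1 : (σ ^ (k (σ a))) (r a) = (σ ^ (k a + 1)) (r a) := by
    conv_lhs => rw [← hsame, hk]
    rw [add_comm, zpow_add, zpow_one, Equiv.Perm.mul_apply, hk]
  have hper : ∀ m : ℤ, (σ ^ m) (r a) = r a → (p : ℤ) ∣ m := fun m hm => ha m (by
    conv_lhs => rw [← hk a]
    rw [← Equiv.Perm.mul_apply, ← zpow_add, add_comm, zpow_add, Equiv.Perm.mul_apply, hm, hk])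
  have h2 : (σ ^ (k (σ a) - (k a + 1))) (r a) = r a := by
    rw [sub_eq_neg_add, zpow_add, Equiv.Perm.mul_apply, h1, ← Equiv.Perm.mul_apply, ← zpow_add,
      neg_add_cancel, zpow_zero, Equiv.Perm.one_apply]
  have h3 := (ZMod.intCast_zmod_eq_zero_iff_dvd _ p).2 (hper _ h2)
  push_cast at h3
  linear_combination h3

lemma sum_ite_zmod (p : ℕ) [Fact p.Prime] (r : ZMod p) (c : ℂ) :
    ∑ i ∈ Finset.range p, (if r = (i : ZMod p) then c else 0) = c := by
  rw [Finset.sum_eq_single r.val]
  · rw [if_pos (ZMod.natCast_zmod_val r).symm]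
  · intro i hi hne
    rw [if_neg]
    intro h
    exact hne (by rw [h, ZMod.val_natCast_of_lt (Finset.mem_range.1 hi)])
  · intro h
    exact absurd (Finset.mem_range.2 (ZMod.val_lt r)) h

end Operators

variable {G : Type u} [Group G] [Fintype G] [DecidableEq G] {M : Ideal AlgInt} {p : ℕ}

/-- `a ↦ g a h⁻¹`. -/
def twoSided (g h : G) : Equiv.Perm G := (Equiv.mulLeft g).trans (Equiv.mulRight h⁻¹)

lemma twoSided_apply (g h a : G) : twoSided g h a = g * a * h⁻¹ := rfl

lemma twoSided_symm_apply (g h a : G) : (twoSided g h).symm a = g⁻¹ * a * h := by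
  rw [Equiv.symm_apply_eq, twoSided_apply]; group

lemma twoSided_pow (g h : G) (n : ℕ) (a : G) :
    (twoSided g h ^ n) a = g ^ n * a * (h ^ n)⁻¹ := by
  induction n with
  | zero => simp
  | succ n ih =>
    rw [pow_succ', Equiv.Perm.mul_apply, ih, twoSided_apply, pow_succ' g, pow_succ' h, mul_inv_rev]
    group

lemma twoSided_pow_card (g h : G) : twoSided g h ^ Fintype.card G = 1 := Equiv.ext fun a => by
  rw [twoSided_pow, pow_card_eq_one, pow_card_eq_one]; simp

/-- The translation operator `v ↦ g v h⁻¹` on functions. -/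
noncomputable def transOp (g h : G) : Module.End ℂ (G → ℂ) := permOp (twoSided g h)

lemma transOp_apply (g h : G) (v : G → ℂ) (a : G) : transOp g h v a = v (g⁻¹ * a * h) := by
  rw [transOp, permOp_apply, twoSided_symm_apply]

/-- Left multiplication in the group algebra, on functions. -/
noncomputable def convOp (f : MonoidAlgebra ℂ G) : Module.End ℂ (G → ℂ) where
  toFun v a := ∑ b, fn f (a * b⁻¹) * v b
  map_add' v w := funext fun a => by simp [mul_add, Finset.sum_add_distrib]
  map_smul' c v := funext fun a => by simp [Finset.mul_sum, mul_left_comm]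

lemma convOp_apply (f : MonoidAlgebra ℂ G) (v : G → ℂ) (a : G) :
    convOp f v a = ∑ b, fn f (a * b⁻¹) * v b := rfl

lemma convOp_mul (f f' : MonoidAlgebra ℂ G) : convOp (f * f') = convOp f * convOp f' := by
  refine LinearMap.ext fun v => funext fun a => ?_
  simp only [Module.End.mul_apply, convOp_apply, fn_mul', Finset.sum_mul, Finset.mul_sum]
  conv_rhs => rw [Finset.sum_comm]
  refine Finset.sum_congr rfl fun b _ => Fintype.sum_equiv (Equiv.mulRight b) _ _ fun c => ?_
  simp only [Equiv.coe_mulRight]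
  rw [mul_inv_cancel_right, show a * (c * b)⁻¹ = a * b⁻¹ * c⁻¹ by group, mul_assoc]

lemma convOp_one : convOp (1 : MonoidAlgebra ℂ G) = 1 := by
  refine LinearMap.ext fun v => funext fun a => ?_
  simp [convOp_apply, fn_one, eq_mul_inv_iff_mul_eq]

lemma convOp_sub (f f' : MonoidAlgebra ℂ G) : convOp (f - f') = convOp f - convOp f' := by
  refine LinearMap.ext fun v => funext fun a => ?_
  simp [convOp_apply, sub_mul, Finset.sum_sub_distrib]

lemma convOp_sum {κ : Type*} (s : Finset κ) (f : κ → MonoidAlgebra ℂ G) :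
    convOp (∑ i ∈ s, f i) = ∑ i ∈ s, convOp (f i) := by
  refine LinearMap.ext fun v => funext fun a => ?_
  simp only [convOp_apply, fn_sum, LinearMap.sum_apply, Finset.sum_apply, Finset.sum_mul]
  exact Finset.sum_comm

lemma integralEnd_convOp {f : MonoidAlgebra ℂ G} (hf : Integral M f) :
    IntegralEnd M (convOp f) := fun _ hv _ => sum_mem fun _ _ => mul_mem (hf _) (hv _)

lemma toMatrix'_convOp (f : MonoidAlgebra ℂ G) (a b : G) :
    LinearMap.toMatrix' (convOp f) a b = fn f (a * b⁻¹) := by
  simp [LinearMap.toMatrix'_apply, convOp_apply, Pi.single_apply]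

/-- Conjugation of the coefficients. -/
noncomputable def conjElem (g : G) (f : MonoidAlgebra ℂ G) : MonoidAlgebra ℂ G :=
  ofFn fun x => fn f (g⁻¹ * x * g)

lemma transOp_mul_convOp (g h : G) (f : MonoidAlgebra ℂ G) :
    transOp g h * convOp f = convOp (conjElem g f) * transOp g h := by
  refine LinearMap.ext fun v => funext fun a => ?_
  simp only [Module.End.mul_apply, transOp_apply, convOp_apply, conjElem, fn_ofFn]
  refine Fintype.sum_equiv (twoSided g h) _ _ fun b => ?_
  rw [twoSided_apply, show g⁻¹ * (a * (g * b * h⁻¹)⁻¹) * g = g⁻¹ * a * h * b⁻¹ by group,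
    show g⁻¹ * (g * b * h⁻¹) * h = b by group]

lemma conjElem_of_central {f : MonoidAlgebra ℂ G} (hf : IsCentralFn f) (g : G) :
    conjElem g f = f := fn_ext fun x => by
  have := hf x g⁻¹
  rw [inv_inv] at this
  simp [conjElem, this]

lemma trace_transOp_mul_convOp (g h : G) (f : MonoidAlgebra ℂ G) :
    LinearMap.trace ℂ (G → ℂ) (transOp g h * convOp f) = ∑ a, fn f (g⁻¹ * a * h * a⁻¹) := by
  rw [LinearMap.trace_eq_matrix_trace ℂ (Pi.basisFun ℂ G), Matrix.trace]
  refine Finset.sum_congr rfl fun a _ => ?_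
  simp [LinearMap.toMatrix_apply, transOp_apply, convOp_apply, Pi.single_apply, mul_assoc]

lemma sum_char_conj_mul (χ : IrrCharacter G) (u h : G) :
    ∑ a : G, (χ : G → ℂ) (u * (a * h * a⁻¹)) =
      (Nat.card G : ℂ) * (χ : G → ℂ) u * (χ : G → ℂ) h / (χ : G → ℂ) 1 := by
  classical
  rw [sum_conj_eq h fun y => (χ : G → ℂ) (u * y), nsmul_eq_mul]
  have h1 : chiEval (χ : G → ℂ) (cls ℂ h * MonoidAlgebra.single u 1)
      = ∑ y ∈ Finset.univ.filter (IsConj h), (χ : G → ℂ) (u * y) := by
    simp only [chiEval, fn_mul_single, mul_one]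
    rw [Finset.sum_filter]
    refine Fintype.sum_equiv (Equiv.mulRight u⁻¹) _ _ fun g => ?_
    rw [fn_cls]
    by_cases hc : IsConj h (g * u⁻¹)
    · refine Eq.trans ?_ (if_pos hc).symm
      rw [if_pos hc, one_mul, Equiv.coe_mulRight,
        classFunction_mul_comm (isClassFunction_irr χ) u]
      simp
    · refine Eq.trans ?_ (if_neg hc).symm
      rw [if_neg hc, zero_mul]
  rw [← h1, chiEval_central_mul χ (isCentralFn_cls h), chiEval_single, one_mul, omega_cls_irr,
    centralChar]
  have h2 := congrArg (Nat.cast : ℕ → ℂ)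
    (Subgroup.card_mul_index (Subgroup.centralizer ({h} : Set G)))
  push_cast at h2
  rw [← h2]
  ring

/-- The trace of `v ↦ g v h⁻¹` on a block. -/
lemma trace_transOp_blockElem (B : Set (IrrCharacter G)) [DecidablePred (· ∈ B)] (g h : G) :
    LinearMap.trace ℂ (G → ℂ) (transOp g h * convOp (blockElem B)) =
      ∑ χ ∈ Finset.univ.filter (· ∈ B), (χ : G → ℂ) g * (χ : G → ℂ) h⁻¹ := by
  rw [trace_transOp_mul_convOp]
  simp only [fn_blockElem, blockCoeff_eq_sum, Finset.mul_sum]
  rw [Finset.sum_comm]
  refine Finset.sum_congr rfl fun χ _ => ?_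
  have hG : (Nat.card G : ℂ) ≠ 0 := Nat.cast_ne_zero.2 Nat.card_pos.ne'
  have h1 := IsIrrCharacter.apply_one_ne_zero χ.2
  have hc := IsCharacter.conj_inv (isCharacter_of_irr χ.2)
  have key : ∑ a : G, conj ((χ : G → ℂ) (g⁻¹ * a * h * a⁻¹))
      = (Nat.card G : ℂ) * (χ : G → ℂ) g * (χ : G → ℂ) h⁻¹ / (χ : G → ℂ) 1 := by
    rw [← map_sum, Finset.sum_congr rfl fun a _ => by rw [show g⁻¹ * a * h * a⁻¹
      = g⁻¹ * (a * h * a⁻¹) by group], sum_char_conj_mul, map_div₀, map_mul, map_mul, map_natCast,
      ← hc g⁻¹, inv_inv, ← hc h, irr_apply_one_eq_deg, map_natCast]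
  rw [← Finset.mul_sum, ← Finset.mul_sum, key]
  field_simp

/-- If a cycle of `a ↦ g a h⁻¹` has length prime to `p`, the `p`-parts are conjugate there. -/
lemma conj_of_fixed (hp : p.Prime) {g h x y a : G} (hx : IsPPart p g x) (hy : IsPPart p h y)
    {l : ℕ} (hl : ¬ p ∣ l) (hfix : (twoSided g h ^ l) a = a) : a⁻¹ * x * a = y := by
  obtain ⟨x', hgx, hcx, ⟨i, hi⟩, hnx⟩ := hx
  obtain ⟨y', hhy, hcy, ⟨j, hj⟩, hny⟩ := hy
  set m := orderOf x' * orderOf y' with hm
  have hpm : ¬ p ∣ m := fun h => (hp.dvd_mul.1 h).elim hnx hny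
  have hco : (p ^ (i + j)).Coprime m := ((hp.coprime_iff_not_dvd).2 hpm).pow_left _
  obtain ⟨t, ht1, ht0⟩ := Nat.chineseRemainder hco 1 0
  have hlco : Nat.Coprime l (p ^ (i + j + 1)) :=
    (((hp.coprime_iff_not_dvd).2 hl).symm).pow_right _
  obtain ⟨r, -, hr⟩ := Nat.exists_mul_mod_eq_one_of_coprime hlco
    (Nat.one_lt_pow (Nat.succ_ne_zero _) hp.one_lt)
  have hr' : l * r ≡ 1 [MOD p ^ (i + j)] :=
    (Nat.ModEq.trans (Nat.mod_modEq _ _).symm (by rw [hr])).of_dvd (pow_dvd_pow p (Nat.le_succ _))
  have hs1 : l * r * t ≡ 1 [MOD p ^ (i + j)] := by simpa using hr'.mul ht1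
  have hs0 : l * r * t ≡ 0 [MOD m] := by simpa using (Nat.ModEq.refl (l * r)).mul ht0
  have h1 : x = g ^ (l * r * t) := eq_pow_of_parts hgx hcx
    (orderOf_dvd_iff_pow_eq_one.1 (hi ▸ pow_dvd_pow p (Nat.le_add_right i j)))
    (orderOf_dvd_iff_pow_eq_one.1 (dvd_mul_right _ _)) hs1 hs0
  have h2 : y = h ^ (l * r * t) := eq_pow_of_parts hhy hcy
    (orderOf_dvd_iff_pow_eq_one.1 (hj ▸ pow_dvd_pow p (Nat.le_add_left j i)))
    (orderOf_dvd_iff_pow_eq_one.1 (dvd_mul_left _ _)) hs1 hs0
  have hall : ∀ n : ℕ, (twoSided g h ^ (l * n)) a = a := by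
    intro n
    induction n with
    | zero => simp
    | succ n ih => rw [Nat.mul_succ, pow_add, Equiv.Perm.mul_apply, hfix, ih]
  have h3 := hall (r * t)
  rw [← mul_assoc, twoSided_pow, ← h1, ← h2, mul_inv_eq_iff_eq_mul] at h3
  rw [mul_assoc, h3, inv_mul_cancel_left]

lemma dvd_card_of_isPPart_ne_one (hp : p.Prime) {g x : G} (hx : IsPPart p g x) (hne : x ≠ 1) :
    p ∣ Fintype.card G := by
  obtain ⟨_, -, -, ⟨k, hk⟩, -⟩ := hx
  have hk0 : k ≠ 0 := fun h0 => hne (orderOf_eq_one_iff.1 (by rw [hk, h0, pow_zero]))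
  exact (hk ▸ dvd_pow_self p hk0).trans orderOf_dvd_card

/-- **Block orthogonality** across `p`-sections. -/
theorem block_orthogonality (hM : IsPModular p M) {B : Set (IrrCharacter G)} (hB : IsPBlock M B)
    [DecidablePred (· ∈ B)] {g h x y : G} (hx : IsPPart p g x) (hy : IsPPart p h y)
    (hne : ¬ IsConj x y) :
    ∑ χ ∈ Finset.univ.filter (· ∈ B), (χ : G → ℂ) g * (χ : G → ℂ) h⁻¹ = 0 := by
  haveI := Fact.mk hM.1
  have hp := hM.1
  rw [← trace_transOp_blockElem]
  obtain ⟨φ, hφ⟩ := exists_phase (twoSided g h) p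
  have hφ' : ∀ a, φ (twoSided g h a) = φ a + 1 := fun a => hφ a fun l hl => by
    by_contra hd
    refine hne (isConj_iff.2 ⟨a⁻¹, ?_⟩)
    rw [inv_inv]
    refine conj_of_fixed hp hx hy (l := l.natAbs) (fun h => hd (Int.natCast_dvd.2 h)) ?_
    rcases Int.natAbs_eq l with h' | h'
    · rwa [h', zpow_natCast] at hl
    · rw [h', zpow_neg, zpow_natCast, Equiv.Perm.inv_eq_iff_eq] at hl
      exact hl.symm
  have hφpow : ∀ (n : ℕ) (a : G), φ ((twoSided g h ^ n).symm a) = φ a - n := by
    intro n
    induction n with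
    | zero => intro a; rw [pow_zero, Nat.cast_zero, sub_zero]; rfl
    | succ n ih =>
      intro a
      have h1 := hφ' ((twoSided g h ^ (n + 1)).symm a)
      have h2 : twoSided g h ((twoSided g h ^ (n + 1)).symm a) = (twoSided g h ^ n).symm a := by
        rw [Equiv.eq_symm_apply, ← Equiv.Perm.mul_apply, ← pow_succ, Equiv.apply_symm_apply]
      rw [h2, ih] at h1
      push_cast
      linear_combination -h1
  set T := transOp g h with hT
  set E := convOp (blockElem B) with hE
  set S := Finset.univ.filter fun a => φ a = 0 with hS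
  have hTE : T * E = E * T := by
    rw [hT, hE, transOp_mul_convOp, conjElem_of_central (isCentralFn_blockElem B)]
  have hEE : E * E = E := by rw [hE, ← convOp_mul, blockElem_mul_self]
  have hTN : T ^ Fintype.card G = 1 := by rw [hT, transOp, permOp_pow, twoSided_pow_card]; rfl
  have hcardp : p ∣ Fintype.card G := by
    by_cases hx1 : x = 1
    · exact dvd_card_of_isPPart_ne_one hp hy fun h1 => hne (by rw [hx1, h1])
    · exact dvd_card_of_isPPart_ne_one hp hx hx1
  have hle : p ≤ Fintype.card G := Nat.le_of_dvd Fintype.card_pos hcardp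
  have hTp : indOp S * T ^ p = T ^ p * indOp S := by
    refine LinearMap.ext fun v => funext fun a => ?_
    have hmem : (twoSided g h ^ p).symm a ∈ S ↔ a ∈ S := by
      simp [hS, hφpow p a]
    show (if a ∈ S then (T ^ p) v a else 0) = (T ^ p) (indOp S v) a
    rw [hT, transOp, permOp_pow, permOp_apply, permOp_apply]
    show _ = if (twoSided g h ^ p).symm a ∈ S then v ((twoSided g h ^ p).symm a) else 0
    simp only [hmem]
  have hsum : ∑ i ∈ Finset.range p, T ^ i * indOp S * T ^ (Fintype.card G - i) = 1 := by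
    refine LinearMap.ext fun v => funext fun a => ?_
    rw [LinearMap.sum_apply, Finset.sum_apply, Module.End.one_apply]
    refine Eq.trans (Finset.sum_congr rfl fun i hi => ?_) (sum_ite_zmod p (φ a) (v a))
    rw [Finset.mem_range] at hi
    rw [hT, transOp, permOp_pow, permOp_pow, Module.End.mul_apply, Module.End.mul_apply,
      permOp_apply]
    show (if (twoSided g h ^ i).symm a ∈ S
      then v ((twoSided g h ^ (Fintype.card G - i)).symm ((twoSided g h ^ i).symm a)) else 0) = _
    have hb : (twoSided g h ^ (Fintype.card G - i)).symm ((twoSided g h ^ i).symm a) = a := by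
      rw [Equiv.symm_apply_eq, Equiv.symm_apply_eq, ← Equiv.Perm.mul_apply, ← pow_add,
        Nat.add_sub_cancel' (le_trans hi.le hle), twoSided_pow_card, Equiv.Perm.one_apply]
    rw [hb]
    simp only [hS, Finset.mem_filter, Finset.mem_univ, true_and, hφpow, sub_eq_zero]
  have hEint : IntegralEnd M E := hE ▸ integralEnd_convOp (integral_blockElem hM hB)
  have hTN' : T ^ Fintype.card G * E = E := by rw [hTN, one_mul]
  have hcp : ∀ n, T ^ n * E = E * T ^ n := fun n => (Commute.pow_left hTE n).eq
  refine trace_mul_eq_zero_of_relTrace hM T (E * indOp S * E) E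
    (hT ▸ integralEnd_permOp _) ((hEint.mul (integralEnd_indOp S)).mul hEint) hEE hTE ?_
    (Fintype.card G) Fintype.card_ne_zero hcardp hTN' ?_ ?_
  · simp only [mul_assoc, hEE]
    simp only [← mul_assoc, hEE]
  · calc E * indOp S * E * T ^ p = E * (indOp S * (T ^ p * E)) := by
          rw [mul_assoc (E * indOp S), ← hcp, mul_assoc]
      _ = E * (indOp S * T ^ p) * E := by simp only [mul_assoc]
      _ = T ^ p * (E * indOp S * E) := by
          rw [hTp, ← mul_assoc E, ← hcp]; simp only [mul_assoc]
  · calc (∑ i ∈ Finset.range p, T ^ i * (E * indOp S * E) * T ^ (Fintype.card G - i)) * E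
        = (E * (∑ i ∈ Finset.range p, T ^ i * indOp S * T ^ (Fintype.card G - i)) * E) * E := by
          refine congrArg (· * E) ?_
          rw [Finset.mul_sum, Finset.sum_mul]
          refine Finset.sum_congr rfl fun i _ => ?_
          calc T ^ i * (E * indOp S * E) * T ^ (Fintype.card G - i)
              = (T ^ i * E) * indOp S * (E * T ^ (Fintype.card G - i)) := by simp only [mul_assoc]
            _ = (E * T ^ i) * indOp S * (T ^ (Fintype.card G - i) * E) := by
              rw [← hcp (Fintype.card G - i), hcp i]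
            _ = _ := by simp only [mul_assoc]
      _ = E := by rw [hsum, mul_one, hEE, hEE]

/-- If the block idempotent is small on the centraliser of the `p`-part `x ≠ 1` of `g`, the
characters of the block vanish at `g`. -/
theorem apply_eq_zero_of_small_centralizer (hM : IsPModular p M) {B : Set (IrrCharacter G)}
    (hB : IsPBlock M B) {g x : G} (hx : IsPPart p g x) (hne : x ≠ 1)
    (hsmall : ∀ c : G, Commute x c → Small M (blockCoeff B c)) {χ : IrrCharacter G} (hχ : χ ∈ B) :
    (χ : G → ℂ) g = 0 := by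
  classical
  haveI := Fact.mk hM.1
  have hp := hM.1
  have htrace : ∀ h : G,
      LinearMap.trace ℂ (G → ℂ) (transOp g h * convOp (blockElem B)) = 0 := by
    intro h
    set σ := twoSided g g with hσ
    obtain ⟨φ, hφ⟩ := exists_phase σ p
    have hxg : Commute x g := IsPPart.commute hx
    have hφ' : ∀ a, ¬ Commute x a → φ (σ a) = φ a + 1 := fun a hc => hφ a fun l hl => by
      by_contra hd
      apply hc
      have hk : a⁻¹ * x * a = x := by
        refine conj_of_fixed hp hx hx (l := l.natAbs) (fun h => hd (Int.natCast_dvd.2 h)) ?_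
        rcases Int.natAbs_eq l with h' | h'
        · rwa [h', zpow_natCast] at hl
        · rw [h', zpow_neg, zpow_natCast, Equiv.Perm.inv_eq_iff_eq] at hl
          exact hl.symm
      show x * a = a * x
      nth_rewrite 2 [← hk]
      group
    have hpow : ∀ (n : ℕ) (a : G),
        Commute x (g ^ n * a * (g ^ n)⁻¹) ↔ Commute x a := by
      intro n a
      have hgn : Commute x (g ^ n) := hxg.pow_right n
      refine ⟨fun hc => ?_, fun hc => (hgn.mul_right hc).mul_right hgn.inv_right⟩
      have := (hgn.inv_right.mul_right hc).mul_right hgn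
      rwa [show (g ^ n)⁻¹ * (g ^ n * a * (g ^ n)⁻¹) * g ^ n = a by group] at this
    have hφn : ∀ (n : ℕ) (a : G), ¬ Commute x a → φ ((σ ^ n) a) = φ a + n := by
      intro n
      induction n with
      | zero => intro a _; simp
      | succ n ih =>
        intro a ha
        have hna : ¬ Commute x ((σ ^ n) a) := by rw [hσ, twoSided_pow, hpow]; exact ha
        rw [pow_succ', Equiv.Perm.mul_apply, hφ' _ hna, ih a ha]
        push_cast; ring
    set e := blockElem B with he
    set m : MonoidAlgebra ℂ G := ofFn fun a => if Commute x a then fn e a else 0 with hm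
    set f : MonoidAlgebra ℂ G :=
      ofFn fun a => if Commute x a then 0 else if φ a = 0 then fn e a else 0 with hf
    have hec := isCentralFn_blockElem B
    have hei := integral_blockElem hM hB
    have hmi : Integral M m := fun a => by
      rw [hm, fn_ofFn]; split_ifs
      exacts [hei a, zero_mem _]
    have hms : ∀ a, Small M (fn m a) := fun a => by
      rw [hm, fn_ofFn]
      split_ifs with hc
      · rw [he, fn_blockElem]; exact hsmall a hc
      · exact small_zero
    have hfi : Integral M f := fun a => by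
      rw [hf, fn_ofFn]; split_ifs
      exacts [zero_mem _, hei a, zero_mem _]
    set T := transOp g h with hT
    set E := convOp e with hE
    have hN : p ∣ Fintype.card G := dvd_card_of_isPPart_ne_one hp hx hne
    have hle : p ≤ Fintype.card G := Nat.le_of_dvd Fintype.card_pos hN
    have hTE : T * E = E * T := by rw [hT, hE, transOp_mul_convOp, conjElem_of_central hec]
    have hEE : E * E = E := by rw [hE, ← convOp_mul, he, blockElem_mul_self]
    have hTN : T ^ Fintype.card G = 1 := by rw [hT, transOp, permOp_pow, twoSided_pow_card]; rfl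
    have hiter : ∀ (n : ℕ) (c : MonoidAlgebra ℂ G), T ^ n * convOp c =
        convOp (ofFn fun a => fn c ((g ^ n)⁻¹ * a * g ^ n)) * T ^ n := by
      intro n
      induction n with
      | zero =>
        intro c
        rw [pow_zero, one_mul, mul_one]
        congr 1
        exact fn_ext fun a => by simp
      | succ n ih =>
        intro c
        rw [pow_succ, mul_assoc, hT, transOp_mul_convOp, ← hT, ← mul_assoc, ih, mul_assoc,
          ← pow_succ]
        congr 1
        congr 1
        refine fn_ext fun a => ?_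
        rw [fn_ofFn, fn_ofFn, conjElem, fn_ofFn, pow_succ]
        congr 1
        group
    have hfp : (ofFn fun a => fn f ((g ^ p)⁻¹ * a * g ^ p)) = f := by
      refine fn_ext fun a => ?_
      simp only [fn_ofFn, hf]
      have hb : g ^ p * ((g ^ p)⁻¹ * a * g ^ p) * (g ^ p)⁻¹ = a := by group
      set b := (g ^ p)⁻¹ * a * g ^ p with hbdef
      have hiff : Commute x b ↔ Commute x a := by rw [← hb]; exact (hpow p b).symm
      by_cases hca : Commute x a
      · rw [if_pos (hiff.2 hca), if_pos hca]
      · have hcb : ¬ Commute x b := mt hiff.1 hca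
        rw [if_neg hcb, if_neg hca]
        have h1 := hφn p b hcb
        rw [hσ, twoSided_pow, hb, ZMod.natCast_self, add_zero] at h1
        have h2 : fn e b = fn e a := by rw [← hb, he]; exact (hec b (g ^ p)).symm
        rw [← h1, h2]
    have hdecomp : (∑ i ∈ Finset.range p, ofFn fun a => fn f ((g ^ i)⁻¹ * a * g ^ i)) = e - m := by
      refine fn_ext fun a => ?_
      rw [fn_sum, fn_sub]
      simp only [fn_ofFn, hf, hm]
      have hb : ∀ i, g ^ i * ((g ^ i)⁻¹ * a * g ^ i) * (g ^ i)⁻¹ = a := fun i => by group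
      have hiff : ∀ i, Commute x ((g ^ i)⁻¹ * a * g ^ i) ↔ Commute x a := fun i => by
        conv_rhs => rw [← hb i]
        exact (hpow i _).symm
      by_cases hca : Commute x a
      · rw [if_pos hca, sub_self]
        exact Finset.sum_eq_zero fun i _ => by rw [if_pos ((hiff i).2 hca)]
      · rw [if_neg hca, sub_zero]
        refine Eq.trans (Finset.sum_congr rfl fun i _ => ?_) (sum_ite_zmod p (φ a) (fn e a))
        have hcb := mt (hiff i).1 hca
        rw [if_neg hcb]
        have h1 := hφn i _ hcb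
        rw [hσ, twoSided_pow, hb] at h1
        have h2 : fn e ((g ^ i)⁻¹ * a * g ^ i) = fn e a := by
          conv_rhs => rw [← hb i]
          rw [he]; exact (hec _ (g ^ i)).symm
        rw [h2, h1]
        by_cases h3 : φ ((g ^ i)⁻¹ * a * g ^ i) = 0
        · simp [h3]
        · rw [if_neg h3, if_neg]
          intro h4
          exact h3 (by simpa using h4)
    have hfe : convOp f * E = E * convOp f := by
      rw [hE, ← convOp_mul, ← convOp_mul, IsCentralFn.comm hec f]
    have hmg : conjElem g m = m := fn_ext fun a => by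
      simp only [conjElem, hm, fn_ofFn]
      have hb : g ^ 1 * (g⁻¹ * a * g) * (g ^ 1)⁻¹ = a := by group
      have hiff : Commute x (g⁻¹ * a * g) ↔ Commute x a := by
        conv_rhs => rw [← hb]
        exact (hpow 1 _).symm
      have h2 : fn e (g⁻¹ * a * g) = fn e a := by
        simpa using (he ▸ hec a g⁻¹ : fn e (g⁻¹ * a * g⁻¹⁻¹) = fn e a)
      simp only [hiff, h2]
    have hEint : IntegralEnd M E := hE ▸ integralEnd_convOp hei
    refine trace_mul_eq_zero_of_relTrace_congr hM T (convOp f * E) E (1 - convOp m)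
      (hT ▸ integralEnd_permOp _) ((integralEnd_convOp hfi).mul hEint)
      (by rw [← convOp_one, ← convOp_sub]; exact integralEnd_convOp (integral_one.sub hmi))
      ?_ hEE hTE ?_ ?_ ?_ (Fintype.card G) Fintype.card_ne_zero hN (by rw [hTN, one_mul]) ?_ ?_
    · intro a b
      rw [sub_sub_cancel_left, map_neg, Matrix.neg_apply, toMatrix'_convOp]
      exact (hms _).neg
    · rw [mul_assoc, hEE, hfe, ← mul_assoc, hEE]
    · rw [sub_mul, one_mul, mul_sub, mul_one, hT, transOp_mul_convOp, hmg]
    · rw [sub_mul, one_mul, mul_sub, mul_one, hE, ← convOp_mul, ← convOp_mul,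
        IsCentralFn.comm hec m]
    · calc convOp f * E * T ^ p = convOp f * T ^ p * E := by
            rw [mul_assoc, ← (Commute.pow_left hTE p).eq, mul_assoc]
        _ = T ^ p * (convOp f * E) := by
            rw [← mul_assoc (T ^ p), hiter p f, hfp]
    · calc (∑ i ∈ Finset.range p, T ^ i * (convOp f * E) * T ^ (Fintype.card G - i)) * E
          = convOp (∑ i ∈ Finset.range p, ofFn fun a => fn f ((g ^ i)⁻¹ * a * g ^ i)) * E * E := by
            rw [convOp_sum]
            simp only [Finset.sum_mul]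
            refine Finset.sum_congr rfl fun i hi => ?_
            rw [← mul_assoc (T ^ i), hiter, mul_assoc (convOp _), (Commute.pow_left hTE i).eq,
              ← mul_assoc (convOp _), mul_assoc _ (T ^ i), ← pow_add,
              Nat.add_sub_cancel' (le_trans (Finset.mem_range.1 hi).le hle), hTN, mul_one]
        _ = (1 - convOp m) * E := by
            rw [hdecomp, mul_assoc, hEE, convOp_sub, sub_mul, sub_mul, one_mul, ← hE, hEE]
  set θ : G → ℂ := ∑ ψ : IrrCharacter G,
    (if ψ ∈ B then (ψ : G → ℂ) g else 0) • (ψ : G → ℂ) with hθ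
  have hθ0 : θ = 0 := funext fun h => by
    have h1 := htrace h⁻¹
    rw [trace_transOp_blockElem, inv_inv, Finset.sum_filter] at h1
    rw [hθ, Finset.sum_apply]
    simpa [Finset.sum_ite, ite_mul] using h1
  have h2 := classInner_irrSum (fun ψ => if ψ ∈ B then (ψ : G → ℂ) g else 0) χ
  rw [← hθ, hθ0, classInner_zero_left, if_pos hχ] at h2
  exact h2.symm

end Cfsg.Lib.Blocks
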