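import Mathlib
import Cfsg.Prelude.Def_BlockRank
import Cfsg.Agent.Blocks.Orth

/-!
# Consequences of block orthogonality
-/

set_option autoImplicit false
set_option linter.unusedSectionVars false

namespace Cfsg.Lib.Blocks

open scoped ComplexConjugate
open Cfsg.Lib.Chars

universe u

variable {G : Type u} [Group G] [Fintype G] {M : Ideal AlgInt} {p : ℕ}

lemma block_orthogonality_conj (hM : IsPModular p M) {B : Set (IrrCharacter G)}
    (hB : IsPBlock M B) [DecidablePred (· ∈ B)] {g h x y : G} (hx : IsPPart p g x)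
    (hy : IsPPart p h y) (hne : ¬ IsConj x y) :
    ∑ χ ∈ Finset.univ.filter (· ∈ B), (χ : G → ℂ) g * conj ((χ : G → ℂ) h) = 0 := by
  classical
  rw [← block_orthogonality hM hB hx hy hne]
  exact Finset.sum_congr rfl fun χ _ => by rw [IsCharacter.conj_inv (isCharacter_of_irr χ.2)]

/-- Regular and singular elements are orthogonal on a block. -/
lemma block_orthogonality_regular (hM : IsPModular p M) {B : Set (IrrCharacter G)}
    (hB : IsPBlock M B) [DecidablePred (· ∈ B)] {g h : G} (hg : ¬ p ∣ orderOf g)
    (hh : p ∣ orderOf h) :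
    ∑ χ ∈ Finset.univ.filter (· ∈ B), (χ : G → ℂ) g * conj ((χ : G → ℂ) h) = 0 := by
  obtain ⟨y, hy⟩ := exists_isPPart' hM.1 h
  refine block_orthogonality_conj hM hB ((isPPart_one_iff hM.1).2 hg) hy fun hc => ?_
  have : y = 1 := isConj_one_right.1 hc
  exact (isPPart_one_iff hM.1).1 (this ▸ hy) hh

lemma block_orthogonality_regular' (hM : IsPModular p M) {B : Set (IrrCharacter G)}
    (hB : IsPBlock M B) [DecidablePred (· ∈ B)] {g h : G} (hg : p ∣ orderOf g)
    (hh : ¬ p ∣ orderOf h) :
    ∑ χ ∈ Finset.univ.filter (· ∈ B), (χ : G → ℂ) g * conj ((χ : G → ℂ) h) = 0 := by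
  have h := congrArg conj (block_orthogonality_regular hM hB hh hg)
  rw [map_sum, map_zero] at h
  rw [← h]
  exact Finset.sum_congr rfl fun χ _ => by rw [map_mul, Complex.conj_conj, mul_comm]

/-- The block idempotent is supported on `p`-regular elements. -/
lemma blockCoeff_eq_zero_of_singular (hM : IsPModular p M) {B : Set (IrrCharacter G)}
    (hB : IsPBlock M B) {g : G} (hg : p ∣ orderOf g) : blockCoeff B g = 0 := by
  classical
  rw [blockCoeff_eq_sum, block_orthogonality_regular hM hB (by simpa using hM.1.ne_one) hg,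
    mul_zero]

lemma blockPart_eq_sum (B : Set (IrrCharacter G)) [DecidablePred (· ∈ B)] (θ : G → ℂ) (g : G) :
    blockPart B θ g =
      ∑ χ ∈ Finset.univ.filter (· ∈ B), classInner θ (χ : G → ℂ) * (χ : G → ℂ) g := by
  rw [blockPart, finsum_mem_eq_sum_of_inter_support_eq _
    (t := Finset.univ.filter (· ∈ B)) (by simp)]
  refine Finset.sum_congr rfl fun χ _ => ?_
  simp only [classInner_eq_finsum]

lemma blockPart_eq_kernel (B : Set (IrrCharacter G)) [DecidablePred (· ∈ B)] (θ : G → ℂ) (g : G) :
    blockPart B θ g = (Nat.card G : ℂ)⁻¹ *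
      ∑ w, θ w * ∑ χ ∈ Finset.univ.filter (· ∈ B), (χ : G → ℂ) g * conj ((χ : G → ℂ) w) := by
  rw [blockPart_eq_sum]
  simp only [classInner_def, Finset.mul_sum, Finset.sum_mul]
  rw [Finset.sum_comm]
  exact Finset.sum_congr rfl fun w _ => Finset.sum_congr rfl fun χ _ => by ring

lemma blockPart_eq_zero_on_section (hM : IsPModular p M) {B : Set (IrrCharacter G)}
    (hB : IsPBlock M B) {θ : G → ℂ} {x u z : G} (hu : IsPPart p u z) (hxz : IsConj x z)
    (h0 : ∀ w y : G, IsPPart p w y → IsConj x y → θ w = 0) : blockPart B θ u = 0 := by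
  classical
  rw [blockPart_eq_kernel, Finset.sum_eq_zero fun w _ => ?_, mul_zero]
  obtain ⟨y, hy⟩ := exists_isPPart' hM.1 w
  by_cases hc : IsConj x y
  · rw [h0 w y hy hc, zero_mul]
  · rw [block_orthogonality_conj hM hB hu hy fun h => hc (hxz.trans h), mul_zero]

lemma pRegularPart_apply (p : ℕ) (χ : G → ℂ) (g : G) [Decidable (p ∣ orderOf g)] :
    pRegularPart p χ g = if p ∣ orderOf g then 0 else χ g := by
  classical
  unfold pRegularPart IsPRegular
  by_cases h : p ∣ orderOf g <;> simp [h]

/-- The regular part of a member of a block belongs to the span of the block. -/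
lemma blockPart_pRegularPart (hM : IsPModular p M) {B : Set (IrrCharacter G)}
    (hB : IsPBlock M B) {χ : IrrCharacter G} (hχ : χ ∈ B) :
    blockPart B (pRegularPart p (χ : G → ℂ)) = pRegularPart p (χ : G → ℂ) := by
  classical
  funext g
  by_cases hg : p ∣ orderOf g
  · rw [pRegularPart_apply, if_pos hg, blockPart_eq_kernel, Finset.sum_eq_zero fun w _ => ?_,
      mul_zero]
    by_cases hw : p ∣ orderOf w
    · rw [pRegularPart_apply, if_pos hw, zero_mul]
    · rw [block_orthogonality_regular' hM hB hg hw, mul_zero]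
  · rw [pRegularPart_apply, if_neg hg, blockPart_eq_kernel, Finset.sum_congr rfl fun w _ =>
      show _ = (χ : G → ℂ) w *
          ∑ ψ ∈ Finset.univ.filter (· ∈ B), (ψ : G → ℂ) g * conj ((ψ : G → ℂ) w) by
        by_cases hw : p ∣ orderOf w
        · rw [block_orthogonality_regular hM hB hg hw, mul_zero, mul_zero]
        · rw [pRegularPart_apply, if_neg hw],
      ← blockPart_eq_kernel, blockPart_eq_sum]
    simp only [classInner_irrCharacter, ite_mul, one_mul, zero_mul, Finset.sum_ite_eq,
      Finset.mem_filter, Finset.mem_univ, true_and, if_pos hχ]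

lemma pRegularPart_eq_combination (hM : IsPModular p M) {B : Set (IrrCharacter G)}
    (hB : IsPBlock M B) [DecidablePred (· ∈ B)] {χ : IrrCharacter G} (hχ : χ ∈ B) :
    pRegularPart p (χ : G → ℂ) = ∑ ψ : IrrCharacter G,
      (if ψ ∈ B then classInner (pRegularPart p (χ : G → ℂ)) (ψ : G → ℂ) else 0) • (ψ : G → ℂ) := by
  conv_lhs => rw [← blockPart_pRegularPart hM hB hχ]
  funext g
  rw [blockPart_eq_sum, Finset.sum_apply, Finset.sum_filter]
  exact Finset.sum_congr rfl fun ψ _ => by split_ifs <;> simp

lemma classInner_pRegularPart_eq_zero (hM : IsPModular p M) {B : Set (IrrCharacter G)}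
    (hB : IsPBlock M B) {χ ψ : IrrCharacter G} (hχ : χ ∈ B) (hψ : ψ ∉ B) :
    classInner (pRegularPart p (χ : G → ℂ)) (ψ : G → ℂ) = 0 := by
  classical
  rw [pRegularPart_eq_combination hM hB hχ, classInner_irrSum, if_neg hψ]

/-- The inner product with a fixed function, as a linear form. -/
noncomputable def innerLeft (ψ : G → ℂ) : (G → ℂ) →ₗ[ℂ] ℂ where
  toFun f := classInner f ψ
  map_add' f f' := classInner_add_left f f' _
  map_smul' c f := classInner_smul_left c f _

lemma innerLeft_apply (ψ f : G → ℂ) : innerLeft ψ f = classInner f ψ := rfl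

/-- The projection of functions onto the regular parts of a block. -/
noncomputable def regProj (p : ℕ) (B : Set (IrrCharacter G)) [DecidablePred (· ∈ B)] :
    (G → ℂ) →ₗ[ℂ] (G → ℂ) :=
  ∑ χ ∈ Finset.univ.filter (· ∈ B),
    LinearMap.smulRight (innerLeft (χ : G → ℂ)) (pRegularPart p (χ : G → ℂ))

lemma regProj_apply (B : Set (IrrCharacter G)) [DecidablePred (· ∈ B)] (f : G → ℂ) :
    regProj p B f = ∑ χ ∈ Finset.univ.filter (· ∈ B),
      classInner f (χ : G → ℂ) • pRegularPart p (χ : G → ℂ) := by
  simp [regProj, innerLeft_apply]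

/-- The regular rank of a block as a sum of inner products. -/
theorem sum_classInner_eq_blockRank (hM : IsPModular p M) {B : Set (IrrCharacter G)}
    (hB : IsPBlock M B) [DecidablePred (· ∈ B)] :
    ∑ χ ∈ Finset.univ.filter (· ∈ B), classInner (pRegularPart p (χ : G → ℂ)) (χ : G → ℂ) =
      (blockRank p B : ℂ) := by
  classical
  set S := Submodule.span ℂ ((fun χ : IrrCharacter G => pRegularPart p (χ : G → ℂ)) '' B) with hS
  have hproj : LinearMap.IsProj S (regProj p B) := by
    refine ⟨fun f => ?_, fun f hf => ?_⟩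
    · rw [regProj_apply]
      exact sum_mem fun χ hχ => Submodule.smul_mem _ _
        (Submodule.subset_span ⟨χ, (Finset.mem_filter.1 hχ).2, rfl⟩)
    · induction hf using Submodule.span_induction with
      | mem f hf =>
        obtain ⟨χ, hχ, rfl⟩ := hf
        funext g
        show regProj p B (pRegularPart p (χ : G → ℂ)) g = pRegularPart p (χ : G → ℂ) g
        rw [regProj_apply, Finset.sum_apply]
        by_cases hg : p ∣ orderOf g
        · simp [pRegularPart_apply, hg]
        · conv_rhs => rw [← blockPart_pRegularPart hM hB hχ, blockPart_eq_sum]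
          simp [pRegularPart_apply, hg]
      | zero => simp
      | add a b _ _ ha hb => rw [map_add, ha, hb]
      | smul c a _ ha => rw [map_smul, ha]
  have h := hproj.trace
  rw [regProj, map_sum] at h
  simp only [LinearMap.trace_smulRight, innerLeft_apply] at h
  exact h

end Cfsg.Lib.Blocks
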