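import Mathlib
import Cfsg.Prelude.Def_Blocks
import Cfsg.Agent.Blocks.Brauer
import Cfsg.Agent.Blocks.Orth2

/-!
# Defect classes and defect groups
-/

set_option autoImplicit false
set_option linter.unusedSectionVars false

namespace Cfsg.Lib.Blocks

open scoped ComplexConjugate
open Cfsg.Lib.Chars

universe u

section Sylow

variable {G : Type u} [Group G] [Finite G] {p : ℕ}

/-- The image in `G` of a subgroup of a centraliser. -/
abbrev centSyl {g : G} (S : Sylow p (Subgroup.centralizer ({g} : Set G))) : Subgroup G :=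
  (S : Subgroup (Subgroup.centralizer ({g} : Set G))).map
    (Subgroup.centralizer ({g} : Set G)).subtype

lemma le_centralizer_iff_mem {Q : Subgroup G} {g : G} :
    Q ≤ Subgroup.centralizer ({g} : Set G) ↔ g ∈ Subgroup.centralizer (Q : Set G) := by
  simp only [SetLike.le_def, Subgroup.mem_centralizer_iff, Set.mem_singleton_iff, forall_eq,
    SetLike.mem_coe]
  exact ⟨fun h x hx => (h hx).symm, fun h x hx => (h x hx).symm⟩

lemma isPGroup_centSyl {g : G} (S : Sylow p (Subgroup.centralizer ({g} : Set G))) :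
    IsPGroup p (centSyl S) := S.2.map _

lemma mem_centralizer_centSyl {g : G} (S : Sylow p (Subgroup.centralizer ({g} : Set G))) :
    g ∈ Subgroup.centralizer (centSyl S : Set G) :=
  le_centralizer_iff_mem.1 (Subgroup.map_subtype_le _)

lemma exists_sylow_ge {g : G} {Q : Subgroup G} (hQ : IsPGroup p Q)
    (hle : Q ≤ Subgroup.centralizer ({g} : Set G)) :
    ∃ S : Sylow p (Subgroup.centralizer ({g} : Set G)), Q ≤ centSyl S := by
  obtain ⟨S, hS⟩ := (hQ.comap_subtype (K := Subgroup.centralizer ({g} : Set G))).exists_le_sylow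
  refine ⟨S, fun x hx => ?_⟩
  exact ⟨⟨x, hle hx⟩, hS hx, rfl⟩

lemma exists_conj_le_sylow [Fact p.Prime] {g : G} {Q : Subgroup G} (hQ : IsPGroup p Q)
    (hle : Q ≤ Subgroup.centralizer ({g} : Set G))
    (S : Sylow p (Subgroup.centralizer ({g} : Set G))) :
    ∃ x ∈ Subgroup.centralizer ({g} : Set G),
      Q ≤ (centSyl S).map (MulAut.conj x).toMonoidHom := by
  obtain ⟨T, hT⟩ := exists_sylow_ge hQ hle
  obtain ⟨c, hc⟩ := MulAction.exists_smul_eq (Subgroup.centralizer ({g} : Set G)) S T
  refine ⟨c, c.2, hT.trans (le_of_eq ?_)⟩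
  subst hc
  ext x
  simp only [centSyl, Sylow.coe_subgroup_smul, Subgroup.mem_map, Subgroup.mem_pointwise_smul_iff_inv_smul_mem]
  constructor
  · rintro ⟨y, hy, rfl⟩
    exact ⟨_, ⟨_, hy, rfl⟩, by simp [mul_assoc]⟩
  · rintro ⟨_, ⟨y, hy, rfl⟩, rfl⟩
    refine ⟨c * y * c⁻¹, ?_, by simp⟩
    convert hy using 1
    simp [mul_assoc]

lemma card_centSyl [Fact p.Prime] {g : G} (S : Sylow p (Subgroup.centralizer ({g} : Set G))) :
    Nat.card (centSyl S) =
      p ^ (Nat.card (Subgroup.centralizer ({g} : Set G))).factorization p := by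
  rw [← S.card_eq_multiplicity]
  exact Nat.card_congr (Subgroup.equivMapOfInjective _ _
    (Subgroup.subtype_injective _)).toEquiv.symm

lemma conj_le_centralizer {Q : Subgroup G} {t : G} (ht : t ∈ Subgroup.centralizer (Q : Set G))
    (a : G) :
    Q.map (MulAut.conj a).toMonoidHom ≤ Subgroup.centralizer ({a * t * a⁻¹} : Set G) := by
  rintro _ ⟨q, hq, rfl⟩
  have := Subgroup.mem_centralizer_iff.1 ht q hq
  rw [Subgroup.mem_centralizer_singleton_iff]
  simp only [MulEquiv.coe_toMonoidHom, MulAut.conj_apply]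
  calc a * q * a⁻¹ * (a * t * a⁻¹) = a * (q * t) * a⁻¹ := by group
    _ = a * t * a⁻¹ * (a * q * a⁻¹) := by rw [this]; group

lemma map_conj_map (Q : Subgroup G) (a b : G) :
    (Q.map (MulAut.conj b).toMonoidHom).map (MulAut.conj a).toMonoidHom =
      Q.map (MulAut.conj (a * b)).toMonoidHom := by
  rw [Subgroup.map_map, map_mul]; rfl

lemma map_conj_one (Q : Subgroup G) : Q.map (MulAut.conj (1 : G)).toMonoidHom = Q := by
  ext x; simp [Subgroup.mem_map]

lemma card_map_conj (Q : Subgroup G) (a : G) :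
    Nat.card (Q.map (MulAut.conj a).toMonoidHom) = Nat.card Q :=
  (Nat.card_congr (Subgroup.equivMapOfInjective _ _ (MulAut.conj a).injective).toEquiv).symm

lemma IsPGroup.conj {Q : Subgroup G} (hQ : IsPGroup p Q) (a : G) :
    IsPGroup p (Q.map (MulAut.conj a).toMonoidHom) := hQ.map _

lemma le_conj_inv_of_conj_le {Q D : Subgroup G} {a : G}
    (h : Q.map (MulAut.conj a).toMonoidHom ≤ D) : Q ≤ D.map (MulAut.conj a⁻¹).toMonoidHom := by
  have := Subgroup.map_mono (f := (MulAut.conj a⁻¹).toMonoidHom) h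
  rwa [map_conj_map, inv_mul_cancel, map_conj_one] at this

end Sylow

variable {G : Type u} [Group G] [Fintype G] {M : Ideal AlgInt} {p : ℕ}

lemma isDefectClass_iff (hM : IsPModular p M) {B : Set (IrrCharacter G)} (hB : IsPBlock M B)
    (g : G) :
    IsDefectClass M B g ↔ ¬ Small M (blockCoeff B g) ∧
      ∀ χ ∈ B, ¬ Small M (centralChar (χ : G → ℂ) g) := by
  rw [IsDefectClass, memLocalIdeal_iff_small hM (isAlgebraic_blockCoeff B g),
    and_iff_right (memLocalRing_blockCoeff hM hB g)]
  exact and_congr_right fun _ => forall₂_congr fun χ _ =>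
    not_congr (memLocalIdeal_iff_small hM (isAlgebraic_centralChar χ g))

lemma not_dvd_orderOf_of_not_small (hM : IsPModular p M) {B : Set (IrrCharacter G)}
    (hB : IsPBlock M B) {g : G} (hg : ¬ Small M (blockCoeff B g)) : ¬ p ∣ orderOf g :=
  fun h => hg (by rw [blockCoeff_eq_zero_of_singular hM hB h]; exact small_zero)

lemma isUnitAt_omega_cls (hM : IsPModular p M) {B : Set (IrrCharacter G)} (hB : IsPBlock M B)
    {χ : IrrCharacter G} (hχ : χ ∈ B) {h : G} (hh : ¬ Small M (centralChar (χ : G → ℂ) h)) :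
    ∀ ψ ∈ B, IsUnitAt M (omega (ψ : G → ℂ) (cls ℂ h)) := fun ψ hψ =>
  isUnitAt_omega_of_sameBlock hM (IsPBlock.sameBlock hM hB hχ hψ) (isCentralFn_cls h)
    (integral_cls h)
    (by rw [omega_cls_irr]; exact isUnitAt_iff.2 ⟨centralChar_mem_place hM χ h, hh⟩)

/-- If the block idempotent is nonsmall at `c ∈ C(Q)` and the central character is nonsmall at
`h`, some conjugate of `h` centralises the `p`-group `Q`. -/
theorem exists_isConj_mem_centralizer (hM : IsPModular p M) {B : Set (IrrCharacter G)}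
    (hB : IsPBlock M B) {Q : Subgroup G} (hQ : IsPGroup p Q) {c : G}
    (hc : c ∈ Subgroup.centralizer (Q : Set G)) (hcB : ¬ Small M (blockCoeff B c))
    {χ : IrrCharacter G} (hχ : χ ∈ B) {h : G} (hh : ¬ Small M (centralChar (χ : G → ℂ) h)) :
    ∃ t : G, IsConj h t ∧ t ∈ Subgroup.centralizer (Q : Set G) := by
  classical
  obtain ⟨t, ht, hts⟩ := exists_not_small_centralizer hM hB (isCentralFn_cls h) (integral_cls h)
    (isUnitAt_omega_cls hM hB hχ hh) hQ hc hcB
  refine ⟨t, ?_, ht⟩
  by_contra hc'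
  rw [fn_cls, if_neg hc'] at hts
  exact hts small_zero

/-- A `p`-group centralising an element of the support of the idempotent lies in a conjugate of
the defect group. -/
theorem exists_le_conj_defectGroup (hM : IsPModular p M) {B : Set (IrrCharacter G)}
    (hB : IsPBlock M B) {D : Subgroup G} (hD : IsDefectGroup p M B D) {Q : Subgroup G}
    (hQ : IsPGroup p Q) {c : G} (hc : c ∈ Subgroup.centralizer (Q : Set G))
    (hcB : ¬ Small M (blockCoeff B c)) : ∃ x : G, Q ≤ D.map (MulAut.conj x).toMonoidHom := by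
  haveI := Fact.mk hM.1
  obtain ⟨g, hg, S, rfl⟩ := hD
  obtain ⟨χ, hχ⟩ := IsPBlock.nonempty hM hB
  obtain ⟨t, ht, htc⟩ := exists_isConj_mem_centralizer hM hB hQ hc hcB hχ
    (((isDefectClass_iff hM hB g).1 hg).2 χ hχ)
  obtain ⟨a, rfl⟩ := isConj_iff.1 ht
  have h1 := conj_le_centralizer htc a⁻¹
  rw [show a⁻¹ * (a * g * a⁻¹) * a⁻¹⁻¹ = g by group] at h1
  obtain ⟨x, -, hx⟩ := exists_conj_le_sylow (hQ.map _) h1 S
  refine ⟨a * x, ?_⟩
  have := le_conj_inv_of_conj_le hx
  rwa [inv_inv, map_conj_map] at this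

/-- The defect group centralises a conjugate of each element with nonzero central character. -/
theorem exists_conj_mem_centralizer_defectGroup (hM : IsPModular p M) {B : Set (IrrCharacter G)}
    (hB : IsPBlock M B) {D : Subgroup G} (hD : IsDefectGroup p M B D) {χ : IrrCharacter G}
    (hχ : χ ∈ B) {h : G} (hh : ¬ Small M (centralChar (χ : G → ℂ) h)) :
    ∃ t : G, IsConj h t ∧ t ∈ Subgroup.centralizer (D : Set G) := by
  obtain ⟨g, hg, S, rfl⟩ := hD
  exact exists_isConj_mem_centralizer hM hB (isPGroup_centSyl S) (mem_centralizer_centSyl _)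
    ((isDefectClass_iff hM hB g).1 hg).1 hχ hh

lemma IsDefectGroup.isPGroup {B : Set (IrrCharacter G)} {D : Subgroup G}
    (hD : IsDefectGroup p M B D) : IsPGroup p D := by
  obtain ⟨g, -, S, rfl⟩ := hD; exact isPGroup_centSyl S

lemma exists_defectGroup (hM : IsPModular p M) {B : Set (IrrCharacter G)} (hB : IsPBlock M B) :
    ∃ D : Subgroup G, IsDefectGroup p M B D := by
  obtain ⟨g, hg⟩ := exists_defectClass hM hB
  exact ⟨_, g, hg, default, rfl⟩

lemma IsDefectGroup.exists_le_conj (hM : IsPModular p M) {B : Set (IrrCharacter G)}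
    (hB : IsPBlock M B) {D E : Subgroup G} (hD : IsDefectGroup p M B D)
    (hE : IsDefectGroup p M B E) : ∃ x : G, E ≤ D.map (MulAut.conj x).toMonoidHom := by
  obtain ⟨g, hg, S, rfl⟩ := hE
  exact exists_le_conj_defectGroup hM hB hD (isPGroup_centSyl S) (mem_centralizer_centSyl _)
    ((isDefectClass_iff hM hB g).1 hg).1

lemma IsDefectGroup.card_eq (hM : IsPModular p M) {B : Set (IrrCharacter G)}
    (hB : IsPBlock M B) {D E : Subgroup G} (hD : IsDefectGroup p M B D)
    (hE : IsDefectGroup p M B E) : Nat.card D = Nat.card E := by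
  obtain ⟨x, hx⟩ := IsDefectGroup.exists_le_conj hM hB hD hE
  obtain ⟨y, hy⟩ := IsDefectGroup.exists_le_conj hM hB hE hD
  have h1 := Subgroup.card_le_of_le hx
  have h2 := Subgroup.card_le_of_le hy
  rw [card_map_conj] at h1 h2
  omega

lemma IsDefectGroup.exists_eq_conj (hM : IsPModular p M) {B : Set (IrrCharacter G)}
    (hB : IsPBlock M B) {D E : Subgroup G} (hD : IsDefectGroup p M B D)
    (hE : IsDefectGroup p M B E) : ∃ x : G, E = D.map (MulAut.conj x).toMonoidHom := by
  obtain ⟨x, hx⟩ := IsDefectGroup.exists_le_conj hM hB hD hE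
  refine ⟨x, Subgroup.eq_of_le_of_card_ge hx ?_⟩
  rw [card_map_conj, IsDefectGroup.card_eq hM hB hD hE]

lemma centralChar_conj (χ : IrrCharacter G) {g h : G} (hgh : IsConj g h) :
    centralChar (χ : G → ℂ) g = centralChar (χ : G → ℂ) h := by
  rw [← omega_cls_irr, ← omega_cls_irr]
  congr 1
  classical
  refine fn_ext fun x => ?_
  rw [fn_cls, fn_cls]
  exact if_congr ⟨fun h' => hgh.symm.trans h', fun h' => hgh.trans h'⟩ rfl rfl

lemma IsDefectClass.conj (hM : IsPModular p M) {B : Set (IrrCharacter G)} (hB : IsPBlock M B)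
    {g : G} (hg : IsDefectClass M B g) (a : G) : IsDefectClass M B (a * g * a⁻¹) := by
  rw [isDefectClass_iff hM hB] at hg ⊢
  rw [blockCoeff_conj]
  exact ⟨hg.1, fun χ hχ => by
    rw [← centralChar_conj χ (isConj_iff.2 ⟨a, rfl⟩ : IsConj g (a * g * a⁻¹))]; exact hg.2 χ hχ⟩

lemma IsDefectGroup.conj (hM : IsPModular p M) {B : Set (IrrCharacter G)} (hB : IsPBlock M B)
    {D : Subgroup G} (hD : IsDefectGroup p M B D) (a : G) :
    IsDefectGroup p M B (D.map (MulAut.conj a).toMonoidHom) := by
  haveI := Fact.mk hM.1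
  obtain ⟨g, hg, S, rfl⟩ := hD
  obtain ⟨T, hT⟩ := exists_sylow_ge ((isPGroup_centSyl S).map (MulAut.conj a).toMonoidHom)
    (conj_le_centralizer (mem_centralizer_centSyl _) a)
  refine ⟨_, IsDefectClass.conj hM hB hg a, T, Subgroup.eq_of_le_of_card_ge hT ?_⟩
  rw [card_map_conj, card_centSyl, card_centSyl]
  refine le_of_eq (congrArg (p ^ ·) (congrArg (fun n : ℕ => n.factorization p) ?_))
  refine Nat.card_congr ((Equiv.subtypeEquiv (MulAut.conj a).toEquiv ?_).symm)
  intro x
  simp only [Subgroup.mem_centralizer_singleton_iff, MulEquiv.toEquiv_eq_coe, MulEquiv.coe_toEquiv]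
  rw [show a * g * a⁻¹ = MulAut.conj a g from rfl, ← map_mul, ← map_mul,
    (MulAut.conj a).injective.eq_iff]

lemma factorization_le_of_eq_mul (hM : IsPModular p M) {n a : ℕ} (hn : n ≠ 0) (ha : a ≠ 0)
    {z : ℂ} (hz : z ∈ place M) (h : (a : ℂ) = n * z) :
    n.factorization p ≤ a.factorization p := by
  rw [← valuation_prime_pow_le_iff hM, ← valuation_natCast hM ha, ← valuation_natCast hM hn, h,
    map_mul]
  exact mul_le_of_le_one_right zero_le ((ValuationSubring.valuation_le_one_iff _ _).2 hz)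

/-- The average of a character over a coset of a subgroup centralised by the element is
integral. -/
lemma isIntegral_avg_coset {χ : G → ℂ} (hχ : IsCharacter G χ) (D : Subgroup G) [Fintype D] {g : G}
    (hg : g ∈ Subgroup.centralizer (D : Set G)) :
    IsIntegral ℤ ((Nat.card D : ℂ)⁻¹ * ∑ u : D, χ (g * u)) := by
  obtain ⟨n, ρ, rfl⟩ := hχ
  set P : Module.End ℂ (Fin n → ℂ) := (Nat.card D : ℂ)⁻¹ • ∑ u : D, ρ u with hP
  have htr : LinearMap.trace ℂ _ (ρ g * P) =
      (Nat.card D : ℂ)⁻¹ * ∑ u : D, ρ.character (g * u) := by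
    rw [hP, mul_smul_comm, map_smul, Finset.mul_sum, map_sum, smul_eq_mul]
    congr 1
    exact Finset.sum_congr rfl fun u _ => by rw [← map_mul]; rfl
  rw [← htr, Module.End.trace_eq_sum_roots_charpoly_of_splits (IsAlgClosed.splits _)]
  have hDne : (Nat.card D : ℂ) ≠ 0 := Nat.cast_ne_zero.2 Nat.card_pos.ne'
  have hPP : P * P = P := by
    have hk : ∀ k : D, ρ k * (∑ u : D, ρ u) = ∑ u : D, ρ u := fun k => by
      rw [Finset.mul_sum]
      exact Fintype.sum_equiv (Equiv.mulLeft k) _ _ fun u => by rw [← map_mul]; rfl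
    rw [hP, smul_mul_smul_comm, Finset.sum_mul, Finset.sum_congr rfl fun k _ => hk k,
      Finset.sum_const, Finset.card_univ, ← Nat.card_eq_fintype_card, ← Nat.cast_smul_eq_nsmul ℂ,
      smul_smul]
    congr 1
    field_simp
  have hcomm : Commute (ρ g) P := by
    refine Commute.smul_right (Commute.sum_right _ _ _ fun u _ => ?_) _
    show ρ g * ρ u = ρ u * ρ g
    rw [← map_mul, ← map_mul, Subgroup.mem_centralizer_iff.1 hg (u : G) u.2]
  have hpow : (ρ g * P) ^ (orderOf g + 1) = ρ g * P := by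
    have hPn : ∀ m, P ^ (m + 1) = P := by
      intro m
      induction m with
      | zero => exact pow_one P
      | succ m ih => rw [pow_succ, ih, hPP]
    rw [hcomm.mul_pow, hPn, ← map_pow, pow_succ, pow_orderOf_eq_one, one_mul]
  refine multiset_sum_mem (S := integralClosure ℤ ℂ) _ fun z hz => ?_
  have hr : (LinearMap.charpoly (ρ g * P)).IsRoot z := (Polynomial.mem_roots'.mp hz).2
  rw [← Module.End.hasEigenvalue_iff_isRoot_charpoly] at hr
  obtain ⟨v, hv⟩ := hr.exists_hasEigenvector
  have h2 := hv.pow_apply (orderOf g + 1)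
  rw [hpow, hv.apply_eq_smul] at h2
  have h3 : z = z ^ (orderOf g + 1) := by
    by_contra hne
    have : (z - z ^ (orderOf g + 1)) • v = 0 := by rw [sub_smul, ← h2, sub_self]
    exact hv.2 ((smul_eq_zero.1 this).resolve_left (sub_ne_zero.2 hne))
  rcases eq_or_ne z 0 with rfl | hz0
  · exact isIntegral_zero
  · refine isIntegral_of_pow_eq_one (orderOf_pos g) (mul_left_cancel₀ hz0 ?_)
    rw [mul_one, ← pow_succ', ← h3]

lemma charDegree_eq_deg (χ : G → ℂ) : charDegree χ = deg χ := rfl

/-- **The order of a defect group**, in terms of the degrees. -/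
theorem degree_bounds (hM : IsPModular p M) {B : Set (IrrCharacter G)} (hB : IsPBlock M B)
    {g : G} (hg : IsDefectClass M B g) :
    (∀ χ ∈ B, (Subgroup.centralizer ({g} : Set G)).index.factorization p ≤
      (deg ((χ : IrrCharacter G) : G → ℂ)).factorization p) ∧
    ∃ χ ∈ B, (deg ((χ : IrrCharacter G) : G → ℂ)).factorization p =
      (Subgroup.centralizer ({g} : Set G)).index.factorization p := by
  classical
  haveI := Fact.mk hM.1
  set Z := Subgroup.centralizer ({g} : Set G) with hZ
  obtain ⟨hcoef, hcc⟩ := (isDefectClass_iff hM hB g).1 hg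
  have hge : ∀ χ ∈ B, Z.index.factorization p ≤
      (deg ((χ : IrrCharacter G) : G → ℂ)).factorization p := by
    intro χ hχ
    obtain ⟨v, v1, v2, hv⟩ := exists_mul_eq_blockElem hM hB (isCentralFn_cls g) (integral_cls g)
      (isUnitAt_omega_cls hM hB hχ (hcc χ hχ))
    have h1 : (χ : G → ℂ) 1 = chiEval (χ : G → ℂ) (blockElem B) := by
      have := omega_blockElem B χ
      rw [if_pos hχ, omega, div_eq_one_iff_eq (IsIrrCharacter.apply_one_ne_zero χ.2)] at this
      exact this.symm
    set K := ∑ y : G, fn v y * (χ : G → ℂ) (g * y) with hK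
    have h2 : chiEval (χ : G → ℂ) (blockElem B) = (Nat.card {x : G // IsConj g x} : ℂ) * K := by
      rw [← hv]
      simp only [chiEval, fn_mul, Finset.sum_mul]
      rw [Finset.sum_comm]
      have hinner : ∀ x : G, (∑ w : G, fn (cls ℂ g) x * fn v (x⁻¹ * w) * (χ : G → ℂ) w) =
          if IsConj g x then K else 0 := by
        intro x
        rw [fn_cls]
        split_ifs with hx
        · obtain ⟨a, rfl⟩ := isConj_iff.1 hx
          refine Fintype.sum_equiv
            ((Equiv.mulLeft (a * g * a⁻¹)⁻¹).trans (MulAut.conj a⁻¹).toEquiv) _ _ fun w => ?_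
          simp only [Equiv.trans_apply, Equiv.coe_mulLeft, MulEquiv.toEquiv_eq_coe,
            MulEquiv.coe_toEquiv, MulAut.conj_apply]
          rw [v1, one_mul]
          congr 1
          rw [← classFunction_conj' (isClassFunction_irr χ) w a]
          congr 1
          group
        · simp
      simp only [hinner]
      rw [← Finset.sum_filter, Finset.sum_const, ← Fintype.card_subtype, nsmul_eq_mul,
        Nat.card_eq_fintype_card]
    rw [card_isConj, ← h1, irr_apply_one_eq_deg] at h2
    refine factorization_le_of_eq_mul hM Subgroup.index_ne_zero_of_finite (deg_irr_pos χ).ne'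
      ?_ h2
    exact sum_mem fun y _ => mul_mem (v2 y)
      (isIntegral_mem_place hM (IsCharacter.isIntegral (isCharacter_of_irr χ.2) _))
  refine ⟨hge, ?_⟩
  by_contra hne
  push Not at hne
  set k := Z.index.factorization p + 1 with hk
  have hdvd : ∀ χ ∈ B, p ^ k ∣ deg ((χ : IrrCharacter G) : G → ℂ) := fun χ hχ =>
    (hM.1.pow_dvd_iff_le_factorization (deg_irr_pos χ).ne').2
      (lt_of_le_of_ne (hge χ hχ) fun h => hne χ hχ h.symm)
  set S : Sylow p Z := default
  set D := centSyl S with hD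
  have hgD : g⁻¹ ∈ Subgroup.centralizer (D : Set G) := inv_mem (mem_centralizer_centSyl _)
  have hreg : ¬ p ∣ orderOf g := not_dvd_orderOf_of_not_small hM hB hcoef
  have hF : ∀ u : D, (∑ χ ∈ Finset.univ.filter (· ∈ B),
      (χ : G → ℂ) 1 * (χ : G → ℂ) (g⁻¹ * u)) =
      if u = 1 then (Nat.card G : ℂ) * blockCoeff B g else 0 := by
    intro u
    split_ifs with hu
    · rw [hu, OneMemClass.coe_one, mul_one, blockCoeff_eq_sum,
        mul_inv_cancel_left₀ (Nat.cast_ne_zero.2 Nat.card_pos.ne')]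
      exact Finset.sum_congr rfl fun χ _ => by
        rw [IsCharacter.conj_inv (isCharacter_of_irr χ.2)]
    · obtain ⟨e, he⟩ := IsPGroup.iff_orderOf.1 (isPGroup_centSyl S) u
      have hu1 : (u : G) ≠ 1 := fun h => hu (Subtype.ext h)
      have hc : Commute (u : G) g := Subgroup.mem_centralizer_iff.1 (mem_centralizer_centSyl S) (u : G) u.2
      have hpart : IsPPart p ((u⁻¹ : G) * g) (u : G)⁻¹ :=
        isPPart_mul hc.inv_left ⟨e, by rw [orderOf_inv, Subgroup.orderOf_coe]; exact he⟩ hreg
      have hord : p ∣ orderOf ((u⁻¹ : G) * g) := by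
        by_contra h
        exact hu1 (inv_eq_one.1 (IsPPart.eq hM.1 hpart ((isPPart_one_iff hM.1).2 h)))
      rw [← block_orthogonality_regular hM hB (by simpa using hM.1.ne_one : ¬ p ∣ orderOf (1 : G))
        hord]
      refine Finset.sum_congr rfl fun χ _ => ?_
      rw [← IsCharacter.conj_inv (isCharacter_of_irr χ.2), mul_inv_rev, inv_inv]
  set z : ℂ := ∑ χ ∈ Finset.univ.filter (· ∈ B),
    ((deg (χ : G → ℂ) / p ^ k : ℕ) : ℂ) *
      ((Nat.card D : ℂ)⁻¹ * ∑ u : D, (χ : G → ℂ) (g⁻¹ * u)) with hz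
  have hzint : IsIntegral ℤ z := IsIntegral.sum _ fun χ _ =>
    IsIntegral.mul ((map_natCast (algebraMap ℤ ℂ) _) ▸ isIntegral_algebraMap) (isIntegral_avg_coset (isCharacter_of_irr χ.2) D hgD)
  have hDne : (Nat.card D : ℂ) ≠ 0 := Nat.cast_ne_zero.2 Nat.card_pos.ne'
  have heq : ((p ^ k * Nat.card D : ℕ) : ℂ) * z = (Nat.card G : ℂ) * blockCoeff B g := by
    rw [hz, Finset.mul_sum]
    calc ∑ χ ∈ Finset.univ.filter (· ∈ B), ((p ^ k * Nat.card D : ℕ) : ℂ) *
          (((deg (χ : G → ℂ) / p ^ k : ℕ) : ℂ) *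
            ((Nat.card D : ℂ)⁻¹ * ∑ u : D, (χ : G → ℂ) (g⁻¹ * u)))
        = ∑ χ ∈ Finset.univ.filter (· ∈ B), ∑ u : D, (χ : G → ℂ) 1 * (χ : G → ℂ) (g⁻¹ * u) := by
          refine Finset.sum_congr rfl fun χ hχ => ?_
          have hd : p ^ k ∣ deg (χ : G → ℂ) := hdvd χ (Finset.mem_filter.1 hχ).2
          rw [← Finset.mul_sum, irr_apply_one_eq_deg]
          conv_rhs => rw [← Nat.mul_div_cancel' hd]
          push_cast
          field_simp
      _ = _ := by
          rw [Finset.sum_comm, Finset.sum_congr rfl fun u _ => hF u, Finset.sum_ite_eq',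
            if_pos (Finset.mem_univ _)]
  -- compare valuations
  have hcard : Nat.card D = p ^ (Nat.card Z).factorization p := card_centSyl S
  have hGf : (Nat.card G).factorization p =
      (Nat.card Z).factorization p + Z.index.factorization p := by
    rw [← Subgroup.card_mul_index Z,
      Nat.factorization_mul Nat.card_pos.ne' Subgroup.index_ne_zero_of_finite, Finsupp.add_apply]
  have hunit : IsUnitAt M (blockCoeff B g) :=
    isUnitAt_iff.2 ⟨blockCoeff_mem_place hM hB g, hcoef⟩
  have hv := congrArg (place M).valuation heq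
  rw [map_mul, map_mul, hunit, mul_one, valuation_natCast hM Nat.card_pos.ne',
    valuation_natCast hM (mul_ne_zero (pow_ne_zero _ hM.1.ne_zero) Nat.card_pos.ne'),
    Nat.factorization_mul (pow_ne_zero _ hM.1.ne_zero) Nat.card_pos.ne', Finsupp.add_apply,
    Nat.factorization_pow, Finsupp.smul_apply, hM.1.factorization_self, smul_eq_mul, mul_one,
    hcard, Nat.factorization_pow, Finsupp.smul_apply, hM.1.factorization_self, smul_eq_mul,
    mul_one, hGf] at hv
  have hle : (place M).valuation (p : ℂ) ^ ((Nat.card Z).factorization p + Z.index.factorization p)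
      ≤ (place M).valuation (p : ℂ) ^ (k + (Nat.card Z).factorization p) := by
    rw [← hv]
    exact mul_le_of_le_one_right zero_le
      ((ValuationSubring.valuation_le_one_iff _ _).2 (isIntegral_mem_place hM hzint))
  rw [valuation_prime_pow_le_iff hM] at hle
  omega

lemma blockDefect_eq (hM : IsPModular p M) {B : Set (IrrCharacter G)} (hB : IsPBlock M B)
    {g : G} (hg : IsDefectClass M B g) :
    blockDefect p B = (Nat.card (Subgroup.centralizer ({g} : Set G))).factorization p := by
  obtain ⟨hge, χ, hχ, hχd⟩ := degree_bounds hM hB hg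
  have hmin : sInf ((fun χ : IrrCharacter G => (charDegree (χ : G → ℂ)).factorization p) '' B) =
      (Subgroup.centralizer ({g} : Set G)).index.factorization p := by
    refine le_antisymm (Nat.sInf_le ⟨χ, hχ, hχd⟩) (le_csInf ⟨_, χ, hχ, rfl⟩ ?_)
    rintro _ ⟨ψ, hψ, rfl⟩
    exact hge ψ hψ
  rw [blockDefect, hmin, ← Subgroup.card_mul_index (Subgroup.centralizer ({g} : Set G)),
    Nat.factorization_mul Nat.card_pos.ne' Subgroup.index_ne_zero_of_finite, Finsupp.add_apply,
    Nat.add_sub_cancel]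

lemma IsDefectGroup.card (hM : IsPModular p M) {B : Set (IrrCharacter G)} (hB : IsPBlock M B)
    {D : Subgroup G} (hD : IsDefectGroup p M B D) : Nat.card D = p ^ blockDefect p B := by
  haveI := Fact.mk hM.1
  obtain ⟨g, hg, S, rfl⟩ := hD
  rw [blockDefect_eq hM hB hg]
  exact card_centSyl S

end Cfsg.Lib.Blocks
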