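import Mathlib
import Cfsg.Agent.Chars.Core
import Cfsg.Agent.Blocks.LocalRing
import Cfsg.Agent.Blocks.PPart

/-!
# Eigenvalue multiplicities of a group element, and congruences of character values
-/

set_option autoImplicit false
set_option linter.unusedSectionVars false

namespace Cfsg.Lib.Blocks

open Cfsg.Lib.Chars Polynomial

universe u

lemma exists_weights_end {V : Type*} [AddCommGroup V] [Module ℂ V] [FiniteDimensional ℂ V]
    (T : Module.End ℂ V) {N : ℕ} (hN : N ≠ 0) (hT : T ^ N = 1) :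
    ∃ d : ℂ → ℕ, ∀ r : ℕ,
      LinearMap.trace ℂ V (T ^ r) = ∑ ω ∈ nthRootsFinset N (1 : ℂ), (d ω : ℂ) * ω ^ r := by
  classical
  have hNC : (N : ℂ) ≠ 0 := Nat.cast_ne_zero.2 hN
  set μ := nthRootsFinset N (1 : ℂ) with hμ
  have hmem : ∀ {ω}, ω ∈ μ ↔ ω ^ N = 1 := fun {ω} => mem_nthRootsFinset (Nat.pos_of_ne_zero hN) _
  have hne : ∀ {ω}, ω ∈ μ → ω ≠ 0 := fun {ω} h h0 => by
    rw [hmem, h0, zero_pow hN] at h; exact zero_ne_one h
  set Q : ℂ → Module.End ℂ V := fun ω => ω⁻¹ • T with hQ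
  set P : ℂ → Module.End ℂ V := fun ω => (N : ℂ)⁻¹ • ∑ j ∈ Finset.range N, Q ω ^ j with hP
  have hQP : ∀ ω ∈ μ, ∀ j, Q ω ^ j * P ω = P ω := by
    intro ω hω j
    have hQN : Q ω ^ N = 1 := by
      rw [hQ, _root_.smul_pow, hT, inv_pow, hmem.1 hω, inv_one, one_smul]
    have h1 : Q ω * P ω = P ω := by
      have h := mul_geom_sum (Q ω) N
      rw [hQN, sub_self, sub_mul, one_mul, sub_eq_zero] at h
      rw [hP, mul_smul_comm, h]
    induction j with
    | zero => rw [pow_zero, one_mul]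
    | succ j ih => rw [pow_succ, mul_assoc, h1, ih]
  have hproj : ∀ ω ∈ μ, LinearMap.IsProj (LinearMap.range (P ω)) (P ω) := fun ω hω => by
    refine ⟨fun x => ⟨x, rfl⟩, ?_⟩
    rintro _ ⟨y, rfl⟩
    have h : P ω * P ω = P ω := by
      conv_lhs => arg 1; rw [hP]
      rw [smul_mul_assoc, Finset.sum_mul, Finset.sum_congr rfl fun j _ => hQP ω hω j,
        Finset.sum_const, Finset.card_range, ← Nat.cast_smul_eq_nsmul ℂ, smul_smul,
        inv_mul_cancel₀ hNC, one_smul]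
    exact LinearMap.congr_fun h y
  refine ⟨fun ω => Module.finrank ℂ (LinearMap.range (P ω)), fun r => ?_⟩
  have hζ := Complex.isPrimitiveRoot_exp N hN
  set ζ := Complex.exp (2 * Real.pi * Complex.I / N)
  have hsum : ∀ j : ℕ, ∑ ω ∈ μ, ω ^ r * ω⁻¹ ^ j =
      if ζ ^ r = ζ ^ j then (N : ℂ) else 0 := by
    intro j
    have himg : μ = (Finset.range N).image (fun i => ζ ^ i) := by
      ext ω
      rw [hmem, Finset.mem_image]
      refine ⟨fun h => ?_, ?_⟩
      · have := NeZero.mk hN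
        obtain ⟨i, hi, rfl⟩ := hζ.eq_pow_of_pow_eq_one h
        exact ⟨i, Finset.mem_range.2 hi, rfl⟩
      · rintro ⟨i, -, rfl⟩
        rw [← pow_mul, mul_comm, pow_mul, hζ.pow_eq_one, one_pow]
    rw [himg, Finset.sum_image fun a ha b hb h => hζ.pow_inj
      (Finset.mem_range.1 ha) (Finset.mem_range.1 hb) h]
    have hr : ∀ i : ℕ, (ζ ^ i) ^ r * (ζ ^ i)⁻¹ ^ j = (ζ ^ r * (ζ ^ j)⁻¹) ^ i := fun i => by
      rw [mul_pow, inv_pow, inv_pow, ← pow_mul, ← pow_mul, ← pow_mul, ← pow_mul, mul_comm i,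
        mul_comm i]
    simp only [hr]
    have hz : ζ ^ j ≠ 0 := pow_ne_zero _ (hζ.ne_zero hN)
    split_ifs with h
    · simp [h, mul_inv_cancel₀ hz]
    · rw [geom_sum_eq (fun h1 => h ((mul_inv_eq_one₀ hz).1 h1)), mul_pow, inv_pow, ← pow_mul,
        ← pow_mul, mul_comm r, mul_comm j, pow_mul, pow_mul, hζ.pow_eq_one, one_pow, one_pow,
        inv_one, mul_one, sub_self, zero_div]
  have hexp : ∑ ω ∈ μ, ω ^ r • P ω = T ^ r := by
    have hPe : ∀ ω, P ω = (N : ℂ)⁻¹ • ∑ j ∈ Finset.range N, ω⁻¹ ^ j • T ^ j := fun ω => by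
      simp only [hP, hQ, _root_.smul_pow]
    simp only [hPe, smul_comm _ ((N : ℂ)⁻¹)]
    rw [← Finset.smul_sum]
    simp only [Finset.smul_sum, smul_smul]
    rw [Finset.sum_comm]
    simp only [← Finset.sum_smul, ← Finset.mul_sum, hsum]
    rw [Finset.sum_eq_single (r % N)]
    · rw [if_pos, inv_mul_cancel₀ hNC, one_smul, ← pow_eq_pow_mod r hT]
      exact (pow_eq_pow_mod r hζ.pow_eq_one)
    · intro j hj hjr
      rw [if_neg, mul_zero, zero_smul]
      intro h
      rw [pow_eq_pow_mod r hζ.pow_eq_one] at h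
      exact hjr (hζ.pow_inj (Nat.mod_lt _ (Nat.pos_of_ne_zero hN)) (Finset.mem_range.1 hj) h).symm
    · intro h
      exact absurd (Finset.mem_range.2 (Nat.mod_lt _ (Nat.pos_of_ne_zero hN))) h
  rw [← hexp, map_sum]
  exact Finset.sum_congr rfl fun ω hω => by
    rw [map_smul, (hproj ω hω).trace, smul_eq_mul, mul_comm]

variable {G : Type u} [Group G] [Finite G]

/-- The multiplicities of the eigenvalues of `g` in a character. -/
lemma exists_weights {χ : G → ℂ} (hχ : IsCharacter G χ) (g : G) :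
    ∃ d : ℂ → ℕ, ∀ r : ℕ,
      χ (g ^ r) = ∑ ω ∈ nthRootsFinset (orderOf g) (1 : ℂ), (d ω : ℂ) * ω ^ r := by
  obtain ⟨n, ρ, rfl⟩ := hχ
  obtain ⟨d, hd⟩ := exists_weights_end (ρ g) (orderOf_pos g).ne'
    (by rw [← map_pow, pow_orderOf_eq_one, map_one])
  exact ⟨d, fun r => by rw [← hd r, ← map_pow]; rfl⟩

variable {M : Ideal AlgInt} {p : ℕ}

/-- **Congruence**: `χ(g)` agrees in the residue field with the value at the `p'`-part. -/
lemma small_apply_mul_sub (hM : IsPModular p M) {χ : G → ℂ} (hχ : IsCharacter G χ) {x y : G}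
    (hc : Commute x y) (hx : ∃ k : ℕ, orderOf x = p ^ k) (hy : ¬ p ∣ orderOf y) :
    Small M (χ (x * y) - χ y) := by
  haveI := Fact.mk hM.1
  haveI := charP_res hM
  obtain ⟨k, hk⟩ := hx
  set g := x * y with hg
  set m := orderOf y
  have hco : (p ^ k).Coprime m := ((hM.1.coprime_iff_not_dvd).2 hy).pow_left k
  obtain ⟨s, hs1, hs0⟩ := Nat.chineseRemainder hco 0 1
  have hys : y = g ^ s := eq_pow_of_parts (x := y) (y := x) hc.symm.eq hc.symm
    (pow_orderOf_eq_one y) (hk ▸ pow_orderOf_eq_one x) hs0 hs1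
  obtain ⟨d, hd⟩ := exists_weights hχ g
  have h1 := hd 1
  rw [pow_one] at h1
  rw [h1, hys, hd s, ← Finset.sum_sub_distrib]
  refine small_sum _ _ fun ω hω => ?_
  have hN : 0 < orderOf g := orderOf_pos g
  rw [mem_nthRootsFinset hN] at hω
  rw [← mul_sub, pow_one]
  refine Small.mem_mul ?_ (natCast_mem_place _)
  have hωm : ω ^ (p ^ k * m) = 1 := by
    obtain ⟨c, hc'⟩ : orderOf g ∣ p ^ k * m := orderOf_dvd_of_pow_eq_one (by
      rw [hg, hc.mul_pow, pow_mul, ← hk, pow_orderOf_eq_one, one_pow, one_mul,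
        mul_comm, pow_mul, pow_orderOf_eq_one, one_pow])
    rw [hc', pow_mul, hω, one_pow]
  have hωi : ω ∈ place M :=
    isIntegral_mem_place hM (isIntegral_of_pow_eq_one hN hω)
  have hpw : ∀ i : ℕ, res M (ω ^ i) = res M ω ^ i := by
    intro i
    induction i with
    | zero => rw [pow_zero, pow_zero, res_one]
    | succ i ih => rw [pow_succ, pow_succ, res_mul (pow_mem hωi _) hωi, ih]
  rw [← res_eq_iff hωi (pow_mem hωi s), hpw]
  have hm1 : res M ω ^ m = 1 := by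
    rw [← sub_eq_zero]
    refine eq_zero_of_pow_eq_zero (n := p ^ k) ?_
    rw [sub_pow_char_pow, one_pow, ← pow_mul, mul_comm, ← hpw, hωm, res_one, sub_self]
  rw [pow_eq_pow_of_modEq hs0 hm1, pow_one]

end Cfsg.Lib.Blocks
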