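import Mathlib
import Cfsg.Prelude.Def_Blocks
import Cfsg.Agent.Blocks.Defect
import Cfsg.Agent.Blocks.Eigen

/-!
# Height zero, counting blocks by defect, principal block
-/

set_option autoImplicit false
set_option linter.unusedSectionVars false

namespace Cfsg.Lib.Blocks

open scoped ComplexConjugate
open Cfsg.Lib.Chars

universe u

variable {G : Type u} [Group G] [Fintype G] {M : Ideal AlgInt} {p : ℕ}

lemma sInf_deg_eq (hM : IsPModular p M) {B : Set (IrrCharacter G)} (hB : IsPBlock M B)
    {g : G} (hg : IsDefectClass M B g) :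
    sInf ((fun χ : IrrCharacter G => (charDegree (χ : G → ℂ)).factorization p) '' B) =
      (Subgroup.centralizer ({g} : Set G)).index.factorization p := by
  obtain ⟨hge, χ, hχ, hχd⟩ := degree_bounds hM hB hg
  refine le_antisymm (Nat.sInf_le ⟨χ, hχ, hχd⟩) (le_csInf ⟨_, χ, hχ, rfl⟩ ?_)
  rintro _ ⟨ψ, hψ, rfl⟩
  exact hge ψ hψ

lemma blockHeight_eq (hM : IsPModular p M) {B : Set (IrrCharacter G)} (hB : IsPBlock M B)
    {g : G} (hg : IsDefectClass M B g) (χ : G → ℂ) :
    blockHeight p B χ =
      (deg χ).factorization p - (Subgroup.centralizer ({g} : Set G)).index.factorization p := by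
  rw [blockHeight, sInf_deg_eq hM hB hg, charDegree_eq_deg]

lemma exists_height_zero (hM : IsPModular p M) {B : Set (IrrCharacter G)} (hB : IsPBlock M B) :
    ∃ χ ∈ B, blockHeight p B ((χ : IrrCharacter G) : G → ℂ) = 0 := by
  obtain ⟨g, hg⟩ := exists_defectClass hM hB
  obtain ⟨-, χ, hχ, hd⟩ := degree_bounds hM hB hg
  exact ⟨χ, hχ, by rw [blockHeight_eq hM hB hg, hd, Nat.sub_self]⟩

lemma valuation_natCast_eq_of_factorization (hM : IsPModular p M) {a b : ℕ} (ha : a ≠ 0)
    (hb : b ≠ 0) (h : a.factorization p = b.factorization p) :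
    (place M).valuation (a : ℂ) = (place M).valuation (b : ℂ) := by
  rw [valuation_natCast hM ha, valuation_natCast hM hb, h]

/-- A height zero character is a unit at a defect class. -/
lemma isUnitAt_apply_defectClass (hM : IsPModular p M) {B : Set (IrrCharacter G)}
    (hB : IsPBlock M B) {g : G} (hg : IsDefectClass M B g) {χ : IrrCharacter G} (hχ : χ ∈ B)
    (h0 : blockHeight p B (χ : G → ℂ) = 0) : IsUnitAt M ((χ : G → ℂ) g) := by
  classical
  obtain ⟨hge, -⟩ := degree_bounds hM hB hg
  rw [blockHeight_eq hM hB hg, Nat.sub_eq_zero_iff_le] at h0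
  have hf := le_antisymm h0 (hge χ hχ)
  have hu : IsUnitAt M (centralChar (χ : G → ℂ) g) :=
    isUnitAt_iff.2 ⟨centralChar_mem_place hM χ g, ((isDefectClass_iff hM hB g).1 hg).2 χ hχ⟩
  have hv := valuation_natCast_eq_of_factorization hM (deg_irr_pos χ).ne'
    Subgroup.index_ne_zero_of_finite hf
  have hd0 : (deg (χ : G → ℂ) : ℂ) ≠ 0 := Nat.cast_ne_zero.2 (deg_irr_pos χ).ne'
  have hi0 : ((Subgroup.centralizer ({g} : Set G)).index : ℂ) ≠ 0 :=
    Nat.cast_ne_zero.2 Subgroup.index_ne_zero_of_finite
  have heq : (χ : G → ℂ) g = centralChar (χ : G → ℂ) g * (deg (χ : G → ℂ) : ℂ) *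
      ((Subgroup.centralizer ({g} : Set G)).index : ℂ)⁻¹ := by
    rw [centralChar, irr_apply_one_eq_deg]; field_simp
  show (place M).valuation _ = 1
  rw [heq, map_mul, map_mul, map_inv₀, hu, one_mul, hv,
    mul_inv_cancel₀ ((Valuation.ne_zero_iff _).2 hi0)]

/-- A height zero character is a unit at `x * g`, `g` a defect class and `x` a `p`-element
centralising `g`. -/
lemma isUnitAt_apply_mul_defectClass (hM : IsPModular p M) {B : Set (IrrCharacter G)}
    (hB : IsPBlock M B) {g : G} (hg : IsDefectClass M B g) {χ : IrrCharacter G} (hχ : χ ∈ B)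
    (h0 : blockHeight p B (χ : G → ℂ) = 0) {x : G} (hxg : Commute x g)
    (hx : ∃ k : ℕ, orderOf x = p ^ k) : IsUnitAt M ((χ : G → ℂ) (x * g)) := by
  have hu := isUnitAt_apply_defectClass hM hB hg hχ h0
  have hs := small_apply_mul_sub hM (isCharacter_of_irr χ.2) hxg hx
    (not_dvd_orderOf_of_not_small hM hB ((isDefectClass_iff hM hB g).1 hg).1)
  have hmem := isIntegral_mem_place hM (IsCharacter.isIntegral (isCharacter_of_irr χ.2) (x * g))
  exact isUnitAt_iff.2 ⟨hmem, fun h => hu.not_small (by simpa using h.sub hs)⟩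

lemma exists_orderOf_eq_of_mem {D : Subgroup G} (hp : p.Prime) (hD : IsPGroup p D) {x : G}
    (hx : x ∈ D) : ∃ k : ℕ, orderOf x = p ^ k := by
  haveI := Fact.mk hp
  obtain ⟨k, hk⟩ := IsPGroup.iff_orderOf.1 hD ⟨x, hx⟩
  exact ⟨k, by rwa [← Subgroup.orderOf_coe] at hk⟩

lemma isPGroup_zpowers {x : G} (hp : p.Prime) (hx : ∃ k : ℕ, orderOf x = p ^ k) :
    IsPGroup p (Subgroup.zpowers x) := by
  haveI := Fact.mk hp
  obtain ⟨k, hk⟩ := hx
  exact IsPGroup.of_card (Nat.card_zpowers x ▸ hk)

/-- An element whose `p`-part lies in no defect group is killed by the block. -/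
lemma apply_eq_zero_of_forall_not_mem (hM : IsPModular p M) {B : Set (IrrCharacter G)}
    (hB : IsPBlock M B) {χ : IrrCharacter G} (hχ : χ ∈ B) {g x : G} (hx : IsPPart p g x)
    (hD : ∀ D : Subgroup G, IsDefectGroup p M B D → x ∉ D) : (χ : G → ℂ) g = 0 := by
  classical
  obtain ⟨D, hDD⟩ := exists_defectGroup hM hB
  refine apply_eq_zero_of_small_centralizer hM hB hx (fun h => hD D hDD (h ▸ D.one_mem))
    (fun c hc => ?_) hχ
  by_contra hns
  obtain ⟨_, -, -, hpow, -⟩ := hx
  obtain ⟨a, ha⟩ := exists_le_conj_defectGroup hM hB hDD (isPGroup_zpowers hM.1 hpow)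
    (c := c) (by
      rw [Subgroup.mem_centralizer_iff]
      rintro _ ⟨n, rfl⟩
      exact (hc.zpow_left n).eq) hns
  exact hD _ (IsDefectGroup.conj hM hB hDD a) (ha (Subgroup.mem_zpowers x))

lemma sylow_of_principal (hM : IsPModular p M) {χ₀ : IrrCharacter G}
    (h1 : (χ₀ : G → ℂ) 1 = 1) {D : Subgroup G}
    (hD : IsDefectGroup p M (blockOf M (χ₀ : G → ℂ)) D) :
    Nat.card D = p ^ (Nat.card G).factorization p := by
  rw [IsDefectGroup.card hM (isPBlock_blockOf χ₀) hD, blockDefect]
  congr 1
  have : sInf ((fun χ : IrrCharacter G => (charDegree (χ : G → ℂ)).factorization p) ''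
      blockOf M (χ₀ : G → ℂ)) = 0 := by
    refine Nat.eq_zero_of_le_zero (Nat.sInf_le ⟨χ₀, mem_blockOf_self hM χ₀, ?_⟩)
    show (charDegree (χ₀ : G → ℂ)).factorization p = 0
    simp [charDegree, h1]
  omega

/-- Counting blocks through classes: it is enough that the set of classes contains every class
where an idempotent and a central character of two of the blocks are both nonsmall. -/
lemma card_blocks_le (hM : IsPModular p M) (P : Set (IrrCharacter G) → Prop)
    (S : ConjClasses G → Prop)
    (h : ∀ B B' : Set (IrrCharacter G), IsPBlock M B → P B → IsPBlock M B' → P B' →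
      ∀ g : G, ¬ Small M (blockCoeff B g) → ∀ χ ∈ B', ¬ Small M (centralChar (χ : G → ℂ) g) →
        S (ConjClasses.mk g)) :
    Nat.card {B : Set (IrrCharacter G) // IsPBlock M B ∧ P B} ≤
      Nat.card {C : ConjClasses G // S C} := by
  classical
  let ι := {B : Set (IrrCharacter G) // IsPBlock M B ∧ P B}
  let κ := {C : ConjClasses G // S C}
  choose φ hφ using fun B : ι => IsPBlock.nonempty hM B.2.1
  let A : Matrix ι κ (Res M) := fun B C => res M (blockCoeff B.1 (crep C.1))
  let O : Matrix κ ι (Res M) := fun C B => res M (centralChar (φ B : G → ℂ) (crep C.1))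
  have hAO : A * O = 1 := by
    ext B B'
    have hmul : ∀ C : ConjClasses G,
        fn (blockElem B.1) (crep C) * centralChar (φ B' : G → ℂ) (crep C) ∈ place M := fun C =>
      mul_mem (integral_blockElem hM B.2.1 _) (centralChar_mem_place hM _ _)
    have h1 : res M (omega (φ B' : G → ℂ) (blockElem B.1)) = (1 : Matrix ι ι (Res M)) B B' := by
      rw [omega_blockElem, Matrix.one_apply]
      by_cases hBB : B = B'
      · subst hBB
        rw [if_pos (hφ B), if_pos rfl, res_one]
      · rw [if_neg hBB, if_neg, res_zero]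
        exact fun hmem => hBB (Subtype.ext (IsPBlock.eq_of_mem_inter hM B.2.1 B'.2.1 hmem (hφ B')))
    rw [← h1, omega_eq_sum_classes _ (isClassFunction_irr _) (isCentralFn_blockElem _),
      res_sum _ _ fun C _ => hmul C, Matrix.mul_apply]
    rw [← Finset.sum_filter_add_sum_filter_not Finset.univ S, Finset.sum_eq_zero
      (s := Finset.univ.filter fun C => ¬ S C), add_zero, Finset.sum_subtype _ (p := S) (by simp)]
    · exact Finset.sum_congr rfl fun C _ => by
        rw [fn_blockElem, res_mul (blockCoeff_mem_place hM B.2.1 _) (centralChar_mem_place hM _ _)]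
    · intro C hC
      rw [fn_blockElem, res_mul (blockCoeff_mem_place hM B.2.1 _) (centralChar_mem_place hM _ _)]
      by_contra hne
      obtain ⟨ha, ho⟩ := mul_ne_zero_iff.1 hne
      rw [Ne, res_eq_zero_iff (blockCoeff_mem_place hM B.2.1 _)] at ha
      rw [Ne, res_eq_zero_iff (centralChar_mem_place hM _ _)] at ho
      have := h _ _ B.2.1 B.2.2 B'.2.1 B'.2.2 _ ha _ (hφ B') ho
      rw [mk_crep] at this
      exact (Finset.mem_filter.1 hC).2 this
  have hinj : Function.Injective (fun v : ι → Res M => Matrix.vecMul v A) := fun v w hvw => by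
    have := congrArg (fun u => Matrix.vecMul u O) hvw
    simpa [Matrix.vecMul_vecMul, hAO] using this
  have := LinearMap.finrank_le_finrank_of_injective (f := A.vecMulLinear) hinj
  rw [Module.finrank_fintype_fun_eq_card, Module.finrank_fintype_fun_eq_card] at this
  rw [Nat.card_eq_fintype_card, Nat.card_eq_fintype_card]
  exact this

/-- Where both are nonsmall, the defects are comparable with the centraliser. -/
lemma defect_le_of_centralChar (hM : IsPModular p M) {B : Set (IrrCharacter G)}
    (hB : IsPBlock M B) {χ : IrrCharacter G} (hχ : χ ∈ B) {g : G}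
    (hg : ¬ Small M (centralChar (χ : G → ℂ) g)) :
    blockDefect p B ≤ (Nat.card (Subgroup.centralizer ({g} : Set G))).factorization p := by
  haveI := Fact.mk hM.1
  obtain ⟨D, hD⟩ := exists_defectGroup hM hB
  obtain ⟨t, ht, htD⟩ := exists_conj_mem_centralizer_defectGroup hM hB hD hχ hg
  obtain ⟨a, rfl⟩ := isConj_iff.1 ht
  have hle := conj_le_centralizer htD a⁻¹
  rw [show a⁻¹ * (a * g * a⁻¹) * a⁻¹⁻¹ = g by group] at hle
  have hdvd := Subgroup.card_dvd_of_le hle
  rw [card_map_conj, IsDefectGroup.card hM hB hD] at hdvd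
  exact (hM.1.pow_dvd_iff_le_factorization Nat.card_pos.ne').1 hdvd

lemma le_defect_of_blockCoeff (hM : IsPModular p M) {B : Set (IrrCharacter G)}
    (hB : IsPBlock M B) {g : G} (hg : ¬ Small M (blockCoeff B g)) :
    (Nat.card (Subgroup.centralizer ({g} : Set G))).factorization p ≤ blockDefect p B := by
  haveI := Fact.mk hM.1
  obtain ⟨D, hD⟩ := exists_defectGroup hM hB
  obtain ⟨a, ha⟩ := exists_le_conj_defectGroup hM hB hD
    (isPGroup_centSyl (default : Sylow p (Subgroup.centralizer ({g} : Set G))))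
    (mem_centralizer_centSyl _) hg
  have := Subgroup.card_le_of_le ha
  rw [card_map_conj, card_centSyl, IsDefectGroup.card hM hB hD] at this
  exact (Nat.pow_le_pow_iff_right hM.1.one_lt).1 this

end Cfsg.Lib.Blocks
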