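import Mathlib
import Cfsg.Prelude.Def_Characters
import Cfsg.Agent.Chars.Core
import Cfsg.Agent.Blocks.Idem
import Cfsg.Agent.Blocks.PPart

/-!
# Solomon's induction from hyperelementary subgroups

A class function is a generalized character as soon as its restrictions to the hyperelementary
subgroups are.
-/

set_option autoImplicit false
set_option linter.unusedSectionVars false

namespace Cfsg.Lib.Blocks

open scoped ComplexConjugate
open Cfsg.Lib.Chars

universe u

/-- A cyclic normal `q'`-subgroup with quotient a `q`-group, for some prime `q`. -/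
def IsHyperelementary {G : Type u} [Group G] (H : Subgroup G) : Prop :=
  ∃ q : ℕ, q.Prime ∧ ∃ C : Subgroup G, C ≤ H ∧ H ≤ Subgroup.normalizer (C : Set G) ∧
    IsCyclic C ∧ ¬ q ∣ Nat.card C ∧ ∃ k : ℕ, C.relIndex H = q ^ k

/-- A multiplicatively closed additive group of integer valued functions on a finite set,
prime to every prime at every point, contains the constant one. -/
lemma one_mem_of_forall_prime {X : Type*} [Fintype X] (S : AddSubgroup (X → ℤ))
    (hmul : ∀ f ∈ S, ∀ g ∈ S, f * g ∈ S)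
    (h : ∀ (x : X) (q : ℕ), q.Prime → ∃ f ∈ S, ¬ (q : ℤ) ∣ f x) : (fun _ => (1 : ℤ)) ∈ S := by
  classical
  have hone : ∀ x, ∃ f ∈ S, f x = 1 := by
    intro x
    obtain ⟨n, hn⟩ := Int.subgroup_cyclic (S.map (Pi.evalAddMonoidHom (fun _ : X => ℤ) x))
    have hmem : ∀ f ∈ S, n ∣ f x := fun f hf => by
      have : f x ∈ S.map (Pi.evalAddMonoidHom (fun _ : X => ℤ) x) := ⟨f, hf, rfl⟩
      rw [hn, AddSubgroup.mem_closure_singleton] at this
      obtain ⟨m, hm⟩ := this
      exact Dvd.intro_left m (by simpa using hm)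
    have hn1 : n.natAbs = 1 := by
      by_contra hne
      obtain ⟨q, hq, hqn⟩ := Nat.exists_prime_and_dvd hne
      obtain ⟨f, hf, hfx⟩ := h x q hq
      exact hfx ((Int.natCast_dvd.2 hqn).trans (hmem f hf))
    have hnm : n ∈ S.map (Pi.evalAddMonoidHom (fun _ : X => ℤ) x) := by
      rw [hn]; exact AddSubgroup.subset_closure rfl
    obtain ⟨f, hf, hfx⟩ := hnm
    rcases Int.natAbs_eq n with h' | h' <;> rw [hn1] at h'
    · exact ⟨f, hf, by rw [show f x = n from hfx, h']; simp⟩
    · exact ⟨-f, neg_mem hf, by rw [Pi.neg_apply, show f x = n from hfx, h']; simp⟩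
  suffices H : ∀ s : Finset X, ∃ g ∈ S, ∀ x ∈ s, g x = 1 by
    obtain ⟨g, hg, hg1⟩ := H Finset.univ
    have : g = fun _ => (1 : ℤ) := funext fun x => hg1 x (Finset.mem_univ _)
    rwa [this] at hg
  intro s
  induction s using Finset.induction with
  | empty => exact ⟨0, zero_mem _, by simp⟩
  | @insert a s ha ih =>
    obtain ⟨g, hg, hg1⟩ := ih
    obtain ⟨f, hf, hfa⟩ := hone a
    refine ⟨g + f - g * f, sub_mem (add_mem hg hf) (hmul g hg f hf), fun x hx => ?_⟩
    rcases Finset.mem_insert.1 hx with rfl | hx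
    · simp [hfa]
    · simp [hg1 x hx]

variable {G : Type u} [Group G] [Fintype G]

lemma indFun_mul_of_classFunction (H : Subgroup G) (θ : H → ℂ) {f : G → ℂ}
    (hf : IsClassFunction G f) :
    f * indFun H θ = indFun H ((fun x : H => f x) * θ) := by
  classical
  funext g
  simp only [Pi.mul_apply, indFun_apply, Finset.mul_sum]
  refine Finset.sum_congr rfl fun x _ => ?_
  by_cases hx : x⁻¹ * g * x ∈ H
  · rw [extendByZero_mem θ hx, extendByZero_mem _ hx, Pi.mul_apply]
    show _ = _ * (f (x⁻¹ * g * x) * _)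
    rw [classFunction_conj' hf]
    ring
  · rw [extendByZero_not_mem θ hx, extendByZero_not_mem _ hx]
    ring

/-- The number of fixed cosets. -/
noncomputable def fixCount (H : Subgroup G) (g : G) : ℕ :=
  Nat.card {q : G ⧸ H // g • q = q}

lemma indFun_one_eq_fixCount (H : Subgroup G) (g : G) :
    indFun H (fun _ => (1 : ℂ)) g = (fixCount H g : ℂ) := by
  classical
  have := Fintype.ofFinite (G ⧸ H)
  have hext : ∀ x : G, extendByZero H (fun _ => (1 : ℂ)) (x⁻¹ * g * x) =
      if x⁻¹ * g * x ∈ H then 1 else 0 := fun x => by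
    split_ifs with hx
    · rw [extendByZero_mem _ hx]
    · rw [extendByZero_not_mem _ hx]
  rw [indFun_apply, Finset.sum_congr rfl fun x _ => hext x, sum_invariant H]
  · rw [nsmul_eq_mul, inv_mul_cancel_left₀ (Nat.cast_ne_zero.2 Nat.card_pos.ne'),
      Finset.sum_boole, fixCount, Nat.card_eq_fintype_card, Fintype.card_subtype]
    norm_cast
    refine congrArg Finset.card (Finset.filter_congr fun q _ => ?_)
    conv_rhs => rw [← q.out_eq']
    rw [MulAction.Quotient.smul_mk, smul_eq_mul, eq_comm, QuotientGroup.eq, mul_assoc]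
  · intro x k hk
    refine if_congr ?_ rfl rfl
    rw [show (x * k)⁻¹ * g * (x * k) = k⁻¹ * (x⁻¹ * g * x) * k by group,
      Subgroup.mul_mem_cancel_right H hk, Subgroup.mul_mem_cancel_left H (H.inv_mem hk)]

/-- **Hyperelementary subgroups see every element prime to `q`.** -/
lemma exists_hyperelementary (x : G) {q : ℕ} (hq : q.Prime) :
    ∃ H : Subgroup G, (∃ C : Subgroup G, C ≤ H ∧ H ≤ Subgroup.normalizer (C : Set G) ∧
      IsCyclic C ∧ ¬ q ∣ Nat.card C ∧ ∃ k : ℕ, C.relIndex H = q ^ k) ∧ ¬ q ∣ fixCount H x := by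
  classical
  haveI := Fact.mk hq
  obtain ⟨s, hs⟩ := exists_isPPart hq x
  set z := x ^ s with hz
  set y := z⁻¹ * x with hy
  have hzx : Commute z x := (Commute.refl x).pow_left s
  obtain ⟨y', hy', -, hzord, hyord⟩ := hs
  have hyy : y' = y := by rw [hy, ← hy', inv_mul_cancel_left]
  subst hyy
  set C := Subgroup.zpowers y with hC
  set N := Subgroup.normalizer (C : Set G) with hN
  have hCN : C ≤ N := Subgroup.le_normalizer
  have hyx : Commute y x := by rw [hy]; exact hzx.inv_left.mul_left (Commute.refl x)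
  have hcent : ∀ w : G, Commute w y → w ∈ N := by
    intro w hw
    rw [hN, Subgroup.mem_normalizer_iff]
    intro c
    constructor
    · intro hc
      obtain ⟨n, rfl⟩ := Subgroup.mem_zpowers_iff.1 hc
      rw [(hw.zpow_right n).eq, mul_inv_cancel_right]
      exact hc
    · intro hc
      obtain ⟨n, hn⟩ := Subgroup.mem_zpowers_iff.1 hc
      have : c = w⁻¹ * y ^ n * w := by rw [hn]; group
      rw [this, mul_assoc, ← (hw.zpow_right n).eq, inv_mul_cancel_left]
      exact Subgroup.zpow_mem _ (Subgroup.mem_zpowers y) n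
  have hzN : z ∈ N := hcent z (hyx.symm.pow_left s)
  have hxN : x ∈ N := hcent x hyx.symm
  set C' : Subgroup N := C.subgroupOf N with hC'
  haveI hC'n : C'.Normal := Subgroup.normal_subgroupOf_of_le_normalizer le_rfl
  set z' : N ⧸ C' := QuotientGroup.mk' C' ⟨z, hzN⟩ with hz'
  have hzp : IsPGroup q (Subgroup.zpowers z') := by
    obtain ⟨k, hk⟩ := hzord
    have : z' ^ q ^ k = 1 := by
      rw [hz', ← map_pow, ← hk]
      have h1 : (⟨z, hzN⟩ : N) ^ orderOf z = 1 := Subtype.ext (by simp)
      rw [h1, map_one]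
    obtain ⟨j, -, hj⟩ := (Nat.dvd_prime_pow hq).1 (orderOf_dvd_of_pow_eq_one this)
    exact IsPGroup.of_card (Nat.card_zpowers z' ▸ hj)
  obtain ⟨Q, hQ⟩ := hzp.exists_le_sylow
  set H' : Subgroup N := (Q : Subgroup (N ⧸ C')).comap (QuotientGroup.mk' C') with hH'
  set H : Subgroup G := H'.map N.subtype with hH
  have hC'H' : C' ≤ H' := fun c hc => by
    rw [hH', Subgroup.mem_comap, QuotientGroup.mk'_apply, (QuotientGroup.eq_one_iff c).2 hc]
    exact one_mem _
  have hCH : C ≤ H := fun c hc => ⟨⟨c, hCN hc⟩, hC'H' hc, rfl⟩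
  have hHN : H ≤ N := Subgroup.map_subtype_le _
  have hqC : ¬ q ∣ Nat.card C := by rw [hC, Nat.card_zpowers]; exact hyord
  obtain ⟨kQ, hkQ⟩ := IsPGroup.iff_card.1 Q.2
  have hrel : C.relIndex H = q ^ kQ := by
    have h1 : C'.relIndex H' = Nat.card (Q : Subgroup (N ⧸ C')) := by
      conv_lhs => rw [← QuotientGroup.ker_mk' C', ← MonoidHom.comap_bot,
        Subgroup.relIndex_comap, hH',
        Subgroup.map_comap_eq_self_of_surjective (QuotientGroup.mk'_surjective C')]
      exact Subgroup.relIndex_bot_left _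
    rw [← hkQ, ← h1, hH]
    have : C'.map N.subtype = C := Subgroup.map_subgroupOf_eq_of_le hCN
    conv_lhs => rw [← this]
    rw [Subgroup.relIndex_map_map_of_injective _ _ (Subgroup.subtype_injective N)]
  refine ⟨H, ⟨C, hCH, hHN, inferInstance, hqC, kQ, hrel⟩, ?_⟩
  -- the fixed cosets of `x` all lie in the normaliser
  have hfixN : ∀ u : G, u⁻¹ * x * u ∈ H → u ∈ N := by
    intro u hu
    have hyzp : y ∈ Subgroup.zpowers x := by
      rw [hy]
      exact mul_mem (inv_mem (Subgroup.pow_mem _ (Subgroup.mem_zpowers x) s))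
        (Subgroup.mem_zpowers x)
    have h1 : u⁻¹ * y * u ∈ H := by
      obtain ⟨n, hn⟩ := Subgroup.mem_zpowers_iff.1 hyzp
      have : u⁻¹ * y * u = (u⁻¹ * x * u) ^ n := by
        have h2 : (u⁻¹ * x * u⁻¹⁻¹) ^ n = u⁻¹ * x ^ n * u⁻¹⁻¹ := conj_zpow
        rw [inv_inv] at h2
        rw [h2, hn]
      rw [this]; exact Subgroup.zpow_mem _ hu n
    have h2 : u⁻¹ * y * u ∈ C := by
      obtain ⟨w, hw, hwe⟩ := h1
      have hord : orderOf (QuotientGroup.mk' C' w) ∣ orderOf y := by
        refine (orderOf_map_dvd _ w).trans (dvd_of_eq ?_)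
        rw [← Subgroup.orderOf_coe, show (w : G) = u⁻¹ * y * u from hwe,
          show u⁻¹ * y * u = MulAut.conj u⁻¹ y by simp]
        exact orderOf_injective (MulAut.conj u⁻¹).toMonoidHom (MulAut.conj u⁻¹).injective y
      obtain ⟨j, hj⟩ := IsPGroup.iff_orderOf.1 Q.2 ⟨_, hw⟩
      rw [← Subgroup.orderOf_coe] at hj
      have h1 : orderOf (QuotientGroup.mk' C' w) = 1 := by
        rcases j with _ | j
        · rw [hj, pow_zero]
        · exact absurd ((dvd_pow_self q (Nat.succ_ne_zero j)).trans (hj ▸ hord)) hyord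
      have hwC : w ∈ C' :=
        (QuotientGroup.eq_one_iff w).1 (orderOf_eq_one_iff.1 h1)
      have hwG : (w : G) ∈ C := hwC
      rwa [show (w : G) = u⁻¹ * y * u from hwe] at hwG
    have h3 : C.map (MulAut.conj u⁻¹).toMonoidHom = C := by
      refine Subgroup.eq_of_le_of_card_ge ?_ (le_of_eq
        (Nat.card_congr (Subgroup.equivMapOfInjective _ _ (MulAut.conj u⁻¹).injective).toEquiv))
      rw [hC, MonoidHom.map_zpowers, Subgroup.zpowers_le]
      simpa using h2
    have huinv : u⁻¹ ∈ N := by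
      rw [hN, Subgroup.mem_normalizer_iff]
      intro c
      constructor
      · intro hc
        rw [← h3]
        exact ⟨c, hc, by simp⟩
      · intro hc
        rw [← h3] at hc
        obtain ⟨d, hd, hde⟩ := hc
        have : c = d := by simpa using hde.symm
        rwa [this]
    simpa using N.inv_mem huinv
  -- count them as fixed points of the `q`-group
  have hcount : fixCount H x = Nat.card (MulAction.fixedPoints (Subgroup.zpowers z')
      ((N ⧸ C') ⧸ (Q : Subgroup (N ⧸ C')))) := by
    have hmem : ∀ w : N, ((w : G) ∈ H ↔ QuotientGroup.mk' C' w ∈ (Q : Subgroup (N ⧸ C'))) := by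
      intro w
      refine ⟨?_, fun hw => ⟨w, hw, rfl⟩⟩
      rintro ⟨v, hv, hvw⟩
      rw [show w = v from (Subtype.ext hvw).symm]
      exact hv
    have hxz : QuotientGroup.mk' C' ⟨x, hxN⟩ = z' := by
      rw [hz', QuotientGroup.mk'_apply, QuotientGroup.mk'_apply, QuotientGroup.eq]
      show ((⟨x, hxN⟩ : N)⁻¹ * ⟨z, hzN⟩ : N).1 ∈ C
      show x⁻¹ * z ∈ C
      rw [show x⁻¹ * z = y⁻¹ by rw [hy]; group]
      exact C.inv_mem (Subgroup.mem_zpowers y)
    set ψ : N → (N ⧸ C') ⧸ (Q : Subgroup (N ⧸ C')) :=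
      fun w => QuotientGroup.mk (QuotientGroup.mk' C' w) with hψ
    have hψs : Function.Surjective ψ := fun a => by
      obtain ⟨b, rfl⟩ := QuotientGroup.mk_surjective a
      obtain ⟨w, rfl⟩ := QuotientGroup.mk'_surjective C' b
      exact ⟨w, rfl⟩
    have hψeq : ∀ v w : N, ψ v = ψ w ↔ (QuotientGroup.mk (v : G) : G ⧸ H) = QuotientGroup.mk (w : G) := by
      intro v w
      rw [hψ, QuotientGroup.eq, QuotientGroup.eq, ← map_inv, ← map_mul]
      exact (hmem (v⁻¹ * w)).symm
    have hfix : ∀ w : N, ψ w ∈ MulAction.fixedPoints (Subgroup.zpowers z') _ ↔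
        x • (QuotientGroup.mk (w : G) : G ⧸ H) = QuotientGroup.mk (w : G) := by
      intro w
      have h1 : x • (QuotientGroup.mk (w : G) : G ⧸ H) =
          QuotientGroup.mk (((⟨x, hxN⟩ * w : N)) : G) := rfl
      rw [h1, ← hψeq, MulAction.mem_fixedPoints]
      have h2 : ψ (⟨x, hxN⟩ * w) = z' • ψ w := by
        rw [hψ]; simp only [map_mul, hxz]; rfl
      rw [h2]
      refine ⟨fun h => h ⟨z', Subgroup.mem_zpowers z'⟩, fun h => ?_⟩
      rintro ⟨_, n, rfl⟩
      show z' ^ n • ψ w = ψ w
      exact MulAction.mem_stabilizer_iff.1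
        (Subgroup.zpow_mem _ (MulAction.mem_stabilizer_iff.2 h) n)
    refine Nat.card_congr (Equiv.ofBijective (fun a => ⟨ψ ⟨a.1.out, hfixN a.1.out ?_⟩, ?_⟩) ?_)
    · have := a.2
      conv_lhs at this => rw [← a.1.out_eq']
      conv_rhs at this => rw [← a.1.out_eq']
      rw [MulAction.Quotient.smul_mk, smul_eq_mul, eq_comm, QuotientGroup.eq] at this
      rw [mul_assoc]; exact this
    · rw [hfix]
      rw [QuotientGroup.out_eq']
      exact a.2
    · refine ⟨fun a b hab => ?_, fun b => ?_⟩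
      · have := (hψeq _ _).1 (congrArg Subtype.val hab)
        rw [QuotientGroup.out_eq', QuotientGroup.out_eq'] at this
        exact Subtype.ext this
      · obtain ⟨w, hw⟩ := hψs b.1
        refine ⟨⟨QuotientGroup.mk (w : G), (hfix w).1 (hw ▸ b.2)⟩, Subtype.ext ?_⟩
        refine Eq.trans ?_ hw
        exact (hψeq _ _).2 (QuotientGroup.out_eq' _)
  rw [hcount]
  have hmod := hzp.card_modEq_card_fixedPoints ((N ⧸ C') ⧸ (Q : Subgroup (N ⧸ C')))
  intro hd
  have hd' := hmod.trans (Nat.modEq_zero_iff_dvd.2 hd)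
  exact Q.not_dvd_index (Nat.modEq_zero_iff_dvd.1 hd')

/-- **Solomon's induction theorem**, as a criterion for generalized characters. -/
theorem isGeneralized_of_hyperelementary {f : G → ℂ} (hf : IsClassFunction G f)
    (h : ∀ H : Subgroup G, IsHyperelementary H → IsGeneralizedCharacter H (fun x : H => f x)) :
    IsGeneralizedCharacter G f := by
  classical
  let J : AddSubgroup (G → ℂ) := AddSubgroup.closure
    {ψ | ∃ (H : Subgroup G) (θ : H → ℂ), IsHyperelementary H ∧ IsGeneralizedCharacter H θ ∧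
      ψ = indFun H θ}
  have hJgen : ∀ ψ ∈ J, IsGeneralizedCharacter G ψ := by
    intro ψ hψ
    induction hψ using AddSubgroup.closure_induction with
    | mem ψ h =>
      obtain ⟨H, θ, -, hθ, rfl⟩ := h
      exact IsGeneralizedCharacter.indFun hθ
    | zero => exact isGeneralized_zero
    | add a b _ _ ha hb => exact IsGeneralizedCharacter.add ha hb
    | neg a _ ha => exact IsGeneralizedCharacter.neg ha
  have hJmul : ∀ φ : G → ℂ, IsGeneralizedCharacter G φ → ∀ ψ ∈ J, φ * ψ ∈ J := by
    intro φ hφ ψ hψ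
    induction hψ using AddSubgroup.closure_induction with
    | mem ψ h =>
      obtain ⟨H, θ, hH, hθ, rfl⟩ := h
      refine AddSubgroup.subset_closure ⟨H, (fun x : H => φ x) * θ, hH,
        IsGeneralizedCharacter.mul (IsGeneralizedCharacter.comp_hom hφ H.subtype) hθ, ?_⟩
      exact indFun_mul_of_classFunction H θ (isClassFunction_generalized hφ)
    | zero => rw [mul_zero]; exact zero_mem _
    | add a b _ _ ha hb => rw [mul_add]; exact add_mem ha hb
    | neg a _ ha => rw [mul_neg]; exact neg_mem ha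
  let S : AddSubgroup (G → ℤ) :=
    J.comap (AddMonoidHom.compLeft (Int.castAddHom ℂ) G)
  have hone : (fun _ => (1 : ℤ)) ∈ S := by
    refine one_mem_of_forall_prime S (fun a ha b hb => ?_) fun x q hq => ?_
    · show (fun g => ((a g * b g : ℤ) : ℂ)) ∈ J
      have : (fun g => ((a g * b g : ℤ) : ℂ)) =
          (fun g => (a g : ℂ)) * (fun g => (b g : ℂ)) := by funext g; simp
      rw [this]
      exact hJmul _ (hJgen _ ha) _ hb
    · obtain ⟨H, hH, hcount⟩ := exists_hyperelementary x hq
      refine ⟨fun g => (fixCount H g : ℤ), ?_, ?_⟩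
      · show (fun g => (((fixCount H g : ℕ) : ℤ) : ℂ)) ∈ J
        refine AddSubgroup.subset_closure ⟨H, fun _ => 1, ⟨q, hq, hH⟩,
          IsCharacter.isGeneralized isCharacter_one, ?_⟩
        funext g
        rw [indFun_one_eq_fixCount, Int.cast_natCast]
      · exact fun hd => hcount (Int.natCast_dvd_natCast.1 hd)
  have h1 : (fun _ : G => (1 : ℂ)) ∈ J := by
    have h : (fun _ : G => ((1 : ℤ) : ℂ)) ∈ J := hone
    simpa using h
  have key : ∀ ψ ∈ J, IsGeneralizedCharacter G (f * ψ) := by
    intro ψ hψ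
    induction hψ using AddSubgroup.closure_induction with
    | mem ψ hh =>
      obtain ⟨H, θ, hH, hθ, rfl⟩ := hh
      rw [indFun_mul_of_classFunction H θ hf]
      exact IsGeneralizedCharacter.indFun (IsGeneralizedCharacter.mul (h H hH) hθ)
    | zero => rw [mul_zero]; exact isGeneralized_zero
    | add a b _ _ ha hb => rw [mul_add]; exact IsGeneralizedCharacter.add ha hb
    | neg a _ ha => rw [mul_neg]; exact IsGeneralizedCharacter.neg ha
  have hfinal := key _ h1
  rwa [show f * (fun _ : G => (1 : ℂ)) = f by funext g; simp] at hfinal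

end Cfsg.Lib.Blocks
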