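import Mathlib
import Cfsg.Prelude.Def_Characters
import Cfsg.Agent.Blocks.Solomon

/-!
# `p^a` times the indicator of the `p`-regular elements is a generalized character
-/

set_option autoImplicit false
set_option linter.unusedSectionVars false

namespace Cfsg.Lib.Blocks

open scoped ComplexConjugate
open Cfsg.Lib.Chars

universe u

variable {p : ℕ}

/-- The indicator of the `p`-regular elements, scaled by a power of `p`. -/
noncomputable def regularScaled {H : Type u} [Group H] (p e : ℕ) : H → ℂ := fun g => by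
  classical exact if p ∣ orderOf g then 0 else (p : ℂ) ^ e

lemma regularScaled_apply {H : Type u} [Group H] (p e : ℕ) (g : H) [Decidable (p ∣ orderOf g)] :
    regularScaled p e g = if p ∣ orderOf g then 0 else (p : ℂ) ^ e := by
  unfold regularScaled; congr

/-- The indicator of the `p`-regular elements times the `p`-part of the group order. -/
noncomputable def regularFun {H : Type u} [Group H] (p : ℕ) : H → ℂ :=
  regularScaled p ((Nat.card H).factorization p)

lemma regularFun_apply {H : Type u} [Group H] (p : ℕ) (g : H) [Decidable (p ∣ orderOf g)] :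
    regularFun p g = if p ∣ orderOf g then 0 else (p : ℂ) ^ (Nat.card H).factorization p :=
  regularScaled_apply p _ g

lemma isGeneralized_nsmul {H : Type u} [Group H] [Finite H] {f : H → ℂ}
    (hf : IsGeneralizedCharacter H f) (n : ℕ) :
    IsGeneralizedCharacter H ((n : ℂ) • f) := by
  have := IsGeneralizedCharacter.zsmul hf (n : ℤ)
  rwa [← Int.cast_smul_eq_zsmul ℂ, Int.cast_natCast] at this

section Coprime

variable {G : Type u} [Group G] [Finite G] (P : Subgroup G) [P.Normal]

/-- A `p'`-element centralising a nontrivial element of a cyclic normal `p`-subgroup centralises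
the subgroup. -/
lemma mem_centralizer_of_commute (hp : p.Prime) (hPp : IsPGroup p P) [hc : IsCyclic P] {k z : G}
    (hk : ¬ p ∣ orderOf k) (hz : z ∈ P) (hz1 : z ≠ 1) (hkz : Commute k z) :
    k ∈ Subgroup.centralizer (P : Set G) := by
  haveI := Fact.mk hp
  obtain ⟨⟨w, hwP⟩, hw⟩ := IsCyclic.exists_generator (α := P)
  have hgen : ∀ x ∈ P, ∃ i : ℤ, w ^ i = x := fun x hx => by
    obtain ⟨i, hi⟩ := Subgroup.mem_zpowers_iff.1 (hw ⟨x, hx⟩)
    exact ⟨i, congrArg Subtype.val hi⟩
  obtain ⟨r, hr⟩ := hgen (k * w * k⁻¹) (‹P.Normal›.conj_mem w hwP k)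
  have hconj : ∀ i : ℤ, k * w ^ i * k⁻¹ = (w ^ i) ^ r := fun i => by
    rw [← conj_zpow, ← hr, ← zpow_mul, ← zpow_mul, mul_comm]
  obtain ⟨i, hi⟩ := hgen z hz
  obtain ⟨n, hn⟩ := IsPGroup.iff_orderOf.1 hPp ⟨w, hwP⟩
  rw [← Subgroup.orderOf_coe] at hn
  have hzr : z ^ (r - 1) = 1 := by
    have h1 := hconj i
    rw [hi, hkz.eq, mul_inv_cancel_right] at h1
    rw [zpow_sub_one, ← h1, mul_inv_cancel]
  have hpr : (p : ℤ) ∣ r - 1 := by
    obtain ⟨j, hj⟩ := IsPGroup.iff_orderOf.1 hPp ⟨z, hz⟩
    rw [← Subgroup.orderOf_coe] at hj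
    have hj0 : j ≠ 0 := fun h => hz1 (orderOf_eq_one_iff.1 (by rw [hj, h, pow_zero]))
    have h2 : (orderOf z : ℤ) ∣ r - 1 := orderOf_dvd_iff_zpow_eq_one.2 hzr
    rw [hj] at h2
    exact (Int.natCast_dvd_natCast.2 (dvd_pow_self p hj0)).trans h2
  have hpow : ∀ m : ℕ, k ^ m * w * (k ^ m)⁻¹ = w ^ (r ^ m) := by
    intro m
    induction m with
    | zero => simp
    | succ m ih =>
      rw [pow_succ' k, mul_inv_rev,
        show k * k ^ m * w * ((k ^ m)⁻¹ * k⁻¹) = k * (k ^ m * w * (k ^ m)⁻¹) * k⁻¹ by group,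
        ih, hconj, ← zpow_mul, pow_succ]
  have hfix : k ^ (p ^ n) * w * (k ^ (p ^ n))⁻¹ = w := by
    rw [hpow]
    have hd : ((p : ℤ) ^ (n + 1)) ∣ r ^ (p ^ n) - 1 ^ (p ^ n) := dvd_sub_pow_of_dvd_sub hpr n
    rw [one_pow] at hd
    have h3 : w ^ (r ^ (p ^ n) - 1) = 1 := by
      rw [← orderOf_dvd_iff_zpow_eq_one, hn]
      exact_mod_cast (pow_dvd_pow _ (Nat.le_succ n)).trans hd
    rw [zpow_sub_one, mul_inv_eq_one] at h3
    exact h3
  have hco : (p ^ n).Coprime (orderOf k) := ((hp.coprime_iff_not_dvd).2 hk).pow_left n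
  obtain ⟨t, ht⟩ := exists_pow_eq_self_of_coprime hco
  have hkw : Commute k w := by
    have h4 : Commute (k ^ (p ^ n)) w := mul_inv_eq_iff_eq_mul.1 hfix
    rw [← ht]
    exact h4.pow_left t
  rw [Subgroup.mem_centralizer_iff]
  intro x hx
  obtain ⟨j, rfl⟩ := hgen x hx
  exact (hkw.zpow_right j).eq.symm

end Coprime

section Cyclic

variable {G : Type u} [Group G] [Fintype G]

/-- The local case: a cyclic normal Sylow `p`-subgroup. -/
lemma isGeneralized_regular_of_cyclic_normal (hp : p.Prime) (P : Subgroup G) [P.Normal]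
    (hPp : IsPGroup p P) [IsCyclic P] (hidx : ¬ p ∣ P.index) :
    IsGeneralizedCharacter G (regularFun p) := by
  classical
  haveI := Fact.mk hp
  have hcop : Nat.Coprime (Nat.card P) P.index := by
    obtain ⟨n, hn⟩ := IsPGroup.iff_card.1 hPp
    rw [hn]; exact ((hp.coprime_iff_not_dvd).2 hidx).pow_left n
  obtain ⟨K, hK⟩ := Subgroup.exists_right_complement'_of_coprime hcop
  set N := Subgroup.centralizer (P : Set G) with hN
  haveI : N.Normal := Subgroup.normal_centralizer
  have hab : ∀ a ∈ P, ∀ b ∈ P, a * b = b * a := fun a ha b hb => by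
    letI := IsCyclic.commGroup (α := P)
    exact congrArg Subtype.val (mul_comm (⟨a, ha⟩ : P) ⟨b, hb⟩)
  have hPN : P ≤ N := fun a ha => Subgroup.mem_centralizer_iff.2 fun b hb => hab b hb a ha
  have hKord : ∀ k ∈ K, ¬ p ∣ orderOf k := fun k hk hd => hidx <| by
    have h1 : orderOf (⟨k, hk⟩ : K) ∣ Nat.card K := orderOf_dvd_natCard _
    rw [← Subgroup.orderOf_coe] at h1
    rw [hK.symm.index_eq_card]; exact hd.trans h1
  have hdec : ∀ g : G, ∃ u ∈ P, ∃ k ∈ K, u * k = g := fun g => by
    obtain ⟨⟨u, k⟩, huk⟩ := hK.surjective g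
    exact ⟨u, u.2, k, k.2, huk⟩
  have huniq : ∀ {u v : G}, u ∈ P → v ∈ P → u⁻¹ * v ∈ K → u = v := fun {u v} hu hv h => by
    have := hK.disjoint.le_bot ⟨P.mul_mem (P.inv_mem hu) hv, h⟩
    rwa [Subgroup.mem_bot, inv_mul_eq_one] at this
  have hord : ∀ {u : G}, u ∈ P → ∃ j : ℕ, orderOf u = p ^ j := fun {u} hu => by
    obtain ⟨j, hj⟩ := IsPGroup.iff_orderOf.1 hPp ⟨u, hu⟩
    exact ⟨j, by rwa [← Subgroup.orderOf_coe] at hj⟩
  -- the commuting case
  have hregN : ∀ {u k : G}, u ∈ P → k ∈ K → k ∈ N →
      (¬ p ∣ orderOf (u * k) ↔ u = 1) := fun {u k} hu hk hkN => by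
    have hc : Commute u k := Subgroup.mem_centralizer_iff.1 hkN u hu
    constructor
    · intro h
      exact IsPPart.eq hp (isPPart_mul hc (hord hu) (hKord k hk)) ((isPPart_one_iff hp).2 h)
    · rintro rfl; rw [one_mul]; exact hKord k hk
  -- outside the centraliser everything is regular
  have hregout : ∀ g : G, g ∉ N → ¬ p ∣ orderOf g := by
    intro g hg
    obtain ⟨z, hz⟩ := exists_isPPart' hp g
    obtain ⟨k, hgk, hc, ⟨j, hj⟩, hk⟩ := hz
    have hzP : z ∈ P := by
      rw [← QuotientGroup.eq_one_iff, ← orderOf_eq_one_iff]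
      have h1 : orderOf ((QuotientGroup.mk' P) z) ∣ p ^ j := hj ▸ orderOf_map_dvd _ z
      have h2 : orderOf ((QuotientGroup.mk' P) z) ∣ P.index := orderOf_dvd_natCard _
      have hco : (p ^ j).Coprime P.index := ((hp.coprime_iff_not_dvd).2 hidx).pow_left j
      exact Nat.eq_one_of_dvd_coprimes hco h1 h2
    have hz1 : z = 1 := by
      by_contra hne
      refine hg ?_
      rw [← hgk]
      exact N.mul_mem (hPN hzP) (mem_centralizer_of_commute P hp hPp hk hzP hne hc.symm)
    rw [hz1, one_mul] at hgk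
    rwa [← hgk]
  -- fixed points on the cosets of the complement
  have hfix : ∀ g : G, fixCount K g = Nat.card {u : P // (u : G)⁻¹ * g * u ∈ K} := by
    intro g
    refine (Nat.card_congr (Equiv.ofBijective
      (fun u : {u : P // (u : G)⁻¹ * g * u ∈ K} =>
        (⟨QuotientGroup.mk (u.1 : G), ?_⟩ : {q : G ⧸ K // g • q = q})) ?_)).symm
    · rw [MulAction.Quotient.smul_mk, smul_eq_mul, eq_comm, QuotientGroup.eq, ← mul_assoc]
      exact u.2
    · refine ⟨fun u v h => Subtype.ext (Subtype.ext ?_), fun q => ?_⟩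
      · exact huniq u.1.2 v.1.2 (QuotientGroup.eq.1 (congrArg Subtype.val h))
      · obtain ⟨u, hu, k, hk, huk⟩ := hdec q.1.out
        have hq : (QuotientGroup.mk u : G ⧸ K) = q.1 := by
          rw [← q.1.out_eq', QuotientGroup.eq, ← huk, inv_mul_cancel_left]; exact hk
        refine ⟨⟨⟨u, hu⟩, ?_⟩, Subtype.ext hq⟩
        have h := q.2
        rw [← hq, MulAction.Quotient.smul_mk, smul_eq_mul, eq_comm, QuotientGroup.eq,
          ← mul_assoc] at h
        exact h
  -- value of the permutation character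
  have hInN : ∀ g ∈ N, (fixCount K g : ℂ) = if p ∣ orderOf g then 0 else (Nat.card P : ℂ) := by
    intro g hg
    rw [hfix]
    obtain ⟨u, hu, k, hk, rfl⟩ := hdec g
    have hkN : k ∈ N := (Subgroup.mul_mem_cancel_left N (hPN hu)).1 hg
    have hconj : ∀ v : P, (v : G)⁻¹ * (u * k) * v = u * k := fun v => by
      rw [mul_assoc, ← Subgroup.mem_centralizer_iff.1 hg v v.2, inv_mul_cancel_left]
    split_ifs with hd
    · have : IsEmpty {v : P // (v : G)⁻¹ * (u * k) * v ∈ K} := ⟨fun v => by
        have h := v.2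
        rw [hconj, Subgroup.mul_mem_cancel_right K hk] at h
        exact (not_not.2 hd) ((hregN hu hk hkN).2
          (huniq P.one_mem hu (by simpa using h)).symm)⟩
      rw [Nat.card_of_isEmpty, Nat.cast_zero]
    · obtain rfl := (hregN hu hk hkN).1 hd
      congr 1
      refine Nat.card_congr (Equiv.subtypeUnivEquiv fun v => ?_)
      rw [hconj, one_mul]; exact hk
  have hOut : ∀ g : G, g ∉ N → fixCount K g = 1 := by
    intro g hg
    rw [hfix]
    obtain ⟨z, hz, k, hk, rfl⟩ := hdec g
    have hkN : k ∉ N := fun h => hg (N.mul_mem (hPN hz) h)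
    set φ : P → P := fun u => ⟨(u : G)⁻¹ * z * (k * u * k⁻¹),
      P.mul_mem (P.mul_mem (P.inv_mem u.2) hz) (‹P.Normal›.conj_mem _ u.2 k)⟩ with hφ
    have hφi : Function.Injective φ := by
      intro u v h
      have h1 : (u : G)⁻¹ * z * (k * u * k⁻¹) = (v : G)⁻¹ * z * (k * v * k⁻¹) :=
        congrArg Subtype.val h
      set w : G := (u : G) * (v : G)⁻¹ with hw
      have hwP : w ∈ P := P.mul_mem u.2 (P.inv_mem v.2)
      have h2 : k * w * k⁻¹ = w := by
        have e1 : z * (k * u * k⁻¹) = w * z * (k * v * k⁻¹) := by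
          calc z * (k * u * k⁻¹) = (u : G) * ((u : G)⁻¹ * z * (k * u * k⁻¹)) := by group
            _ = (u : G) * ((v : G)⁻¹ * z * (k * v * k⁻¹)) := by rw [h1]
            _ = w * z * (k * v * k⁻¹) := by rw [hw]; group
        rw [hab w hwP z hz, mul_assoc z w] at e1
        have e2 := mul_left_cancel e1
        calc k * w * k⁻¹ = (k * u * k⁻¹) * (k * v * k⁻¹)⁻¹ := by rw [hw]; group
          _ = w := by rw [e2]; group
      by_contra hne
      refine hkN (mem_centralizer_of_commute P hp hPp (hKord k hk) hwP ?_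
        (mul_inv_eq_iff_eq_mul.1 h2))
      intro hw1
      exact hne (Subtype.ext (mul_inv_eq_one.1 hw1))
    obtain ⟨u₀, hu₀⟩ := (Finite.injective_iff_surjective.1 hφi) 1
    have key : ∀ u : P, (u : G)⁻¹ * (z * k) * u = (φ u : G) * k := fun u => by
      simp only [hφ]; group
    have hchar : ∀ u : P, (u : G)⁻¹ * (z * k) * u ∈ K ↔ φ u = 1 := fun u => by
      rw [key, Subgroup.mul_mem_cancel_right K hk]
      refine ⟨fun h => Subtype.ext ?_, fun h => by rw [h]; exact K.one_mem⟩
      exact (huniq P.one_mem (φ u).2 (by simpa using h)).symm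
    rw [Nat.card_eq_one_iff_unique]
    exact ⟨⟨fun a b => Subtype.ext (hφi (((hchar a.1).1 a.2).trans ((hchar b.1).1 b.2).symm))⟩,
      ⟨⟨u₀, (hchar u₀).2 hu₀⟩⟩⟩
  -- orbits of the quotient on the nontrivial elements
  letI act : MulAction G {w : P // (w : G) ≠ 1} :=
    { smul := fun g w => ⟨⟨g * (w.1 : G) * g⁻¹, ‹P.Normal›.conj_mem _ w.1.2 g⟩,
        fun h => w.2 (conj_eq_one_iff.1 h)⟩
      one_smul := fun w => by
        apply Subtype.ext; apply Subtype.ext
        show (1 : G) * (w.1 : G) * (1 : G)⁻¹ = _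
        simp
      mul_smul := fun a b w => by
        apply Subtype.ext; apply Subtype.ext
        show a * b * (w.1 : G) * (a * b)⁻¹ = a * (b * (w.1 : G) * b⁻¹) * a⁻¹
        simp [mul_assoc] }
  have hstab : ∀ w : {w : P // (w : G) ≠ 1}, MulAction.stabilizer G w = N := by
    intro w
    ext g
    rw [MulAction.mem_stabilizer_iff]
    have heq : g • w = w ↔ Commute g (w.1 : G) := by
      refine ⟨fun h => mul_inv_eq_iff_eq_mul.1
        (congrArg (fun v : {w : P // (w : G) ≠ 1} => (v.1 : G)) h), fun h => ?_⟩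
      apply Subtype.ext; apply Subtype.ext
      show g * (w.1 : G) * g⁻¹ = _
      rw [h.eq, mul_inv_cancel_right]
    rw [heq]
    refine ⟨fun h => ?_, fun h => (Subgroup.mem_centralizer_iff.1 h _ w.1.2).symm⟩
    obtain ⟨u, hu, k, hk, rfl⟩ := hdec g
    refine N.mul_mem (hPN hu) (mem_centralizer_of_commute P hp hPp (hKord k hk) w.1.2 w.2 ?_)
    have : k = u⁻¹ * (u * k) := by group
    rw [this]
    exact (show Commute u⁻¹ (w.1 : G) from hab _ (P.inv_mem hu) _ w.1.2).mul_left h
  obtain ⟨c, hc⟩ : N.index ∣ Nat.card P - 1 := by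
    have h1 : Nat.card {w : P // (w : G) ≠ 1} = Nat.card P - 1 := by
      rw [Nat.card_eq_fintype_card, Nat.card_eq_fintype_card,
        Fintype.card_subtype_compl (fun w : P => (w : G) = 1)]
      congr 1
      rw [Fintype.card_eq_one_iff]
      exact ⟨⟨1, rfl⟩, fun y => Subtype.ext (Subtype.ext y.2)⟩
    rw [← h1, Nat.card_congr (MulAction.selfEquivSigmaOrbits G {w : P // (w : G) ≠ 1}),
      Nat.card_sigma]
    refine Finset.dvd_sum fun ω _ => dvd_of_eq ?_
    rw [Nat.card_congr (MulAction.orbitEquivQuotientStabilizer G _), hstab]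
    rfl
  -- assemble
  have hpos : 1 ≤ Nat.card P := Nat.card_pos
  have hPf : Nat.card P = p ^ (Nat.card G).factorization p := by
    obtain ⟨n, hn⟩ := IsPGroup.iff_card.1 hPp
    have h0 := Nat.factorization_eq_zero_of_not_dvd hidx
    rw [hn, ← Subgroup.card_mul_index P,
      Nat.factorization_mul Nat.card_pos.ne' Subgroup.index_ne_zero_of_finite, Finsupp.add_apply,
      h0, hn, Nat.factorization_pow, Finsupp.smul_apply, hp.factorization_self]
    simp
  have hNfun : ∀ g : G, indFun N (fun _ => (1 : ℂ)) g = if g ∈ N then (N.index : ℂ) else 0 := by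
    intro g
    split_ifs with hg
    · rw [show g = ((⟨g, hg⟩ : N) : G) from rfl, indFun_normal_mem]
      simp only [Finset.sum_const, Finset.card_univ, nsmul_eq_mul, mul_one]
      rw [← Nat.card_eq_fintype_card, ← Subgroup.card_mul_index N, Nat.cast_mul,
        inv_mul_cancel_left₀ (Nat.cast_ne_zero.2 Nat.card_pos.ne')]
    · exact indFun_normal_not_mem N _ hg
  have heq : regularFun p = indFun K (fun _ => (1 : ℂ)) + ((Nat.card P - 1 : ℕ) : ℂ) • (fun _ : G => (1 : ℂ))
      - ((c : ℕ) : ℂ) • indFun N (fun _ => (1 : ℂ)) := by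
    funext g
    simp only [Pi.sub_apply, Pi.add_apply, Pi.smul_apply, smul_eq_mul, mul_one, hNfun,
      indFun_one_eq_fixCount, regularFun_apply]
    have hcc : ((Nat.card P - 1 : ℕ) : ℂ) = (c : ℂ) * (N.index : ℂ) := by
      rw [hc, Nat.cast_mul, mul_comm]
    by_cases hg : g ∈ N
    · rw [if_pos hg, hInN g hg, hcc, hPf, Nat.cast_pow]; ring
    · rw [if_neg hg, hOut g hg, mul_zero, sub_zero, if_neg (hregout g hg), Nat.cast_sub hpos, hPf]
      push_cast; ring
  rw [heq]
  exact IsGeneralizedCharacter.sub (IsGeneralizedCharacter.add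
    (IsGeneralizedCharacter.indFun (IsCharacter.isGeneralized isCharacter_one))
    (isGeneralized_nsmul (IsCharacter.isGeneralized isCharacter_one) _))
    (isGeneralized_nsmul (IsGeneralizedCharacter.indFun (IsCharacter.isGeneralized isCharacter_one)) _)

/-- The local case: a normal `p'`-subgroup with quotient a `p`-group. -/
lemma isGeneralized_regular_of_pPrime_normal (hp : p.Prime) (C : Subgroup G) [C.Normal]
    (hC : ¬ p ∣ Nat.card C) {k : ℕ} (hidx : C.index = p ^ k) :
    IsGeneralizedCharacter G (regularFun p) := by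
  classical
  haveI := Fact.mk hp
  have hk : (Nat.card G).factorization p = k := by
    rw [← Subgroup.card_mul_index C,
      Nat.factorization_mul Nat.card_pos.ne' Subgroup.index_ne_zero_of_finite, Finsupp.add_apply,
      Nat.factorization_eq_zero_of_not_dvd hC, hidx, Nat.factorization_pow, Finsupp.smul_apply,
      hp.factorization_self]
    simp
  have hiff : ∀ g : G, g ∈ C ↔ ¬ p ∣ orderOf g := by
    intro g
    refine ⟨fun hg hd => hC ?_, fun hd => ?_⟩
    · have h1 : orderOf (⟨g, hg⟩ : C) ∣ Nat.card C := orderOf_dvd_natCard _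
      rw [← Subgroup.orderOf_coe] at h1
      exact hd.trans h1
    · rw [← QuotientGroup.eq_one_iff, ← orderOf_eq_one_iff]
      have h1 : orderOf ((QuotientGroup.mk' C) g) ∣ orderOf g := orderOf_map_dvd _ g
      have h2 : orderOf ((QuotientGroup.mk' C) g) ∣ C.index := orderOf_dvd_natCard _
      rw [hidx] at h2
      have hco : (p ^ k).Coprime (orderOf g) := ((hp.coprime_iff_not_dvd).2 hd).pow_left k
      exact Nat.eq_one_of_dvd_coprimes hco h2 h1
  have heq : regularFun p = indFun C (fun _ => (1 : ℂ)) := by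
    funext g
    rw [regularFun_apply, hk]
    by_cases hg : g ∈ C
    · rw [if_neg ((hiff g).1 hg), show g = ((⟨g, hg⟩ : C) : G) from rfl, indFun_normal_mem]
      simp only [Finset.sum_const, Finset.card_univ, nsmul_eq_mul, mul_one]
      rw [← Nat.card_eq_fintype_card, ← Subgroup.card_mul_index C, Nat.cast_mul,
        inv_mul_cancel_left₀ (Nat.cast_ne_zero.2 Nat.card_pos.ne'), hidx, Nat.cast_pow]
    · rw [if_pos (not_not.1 (mt (hiff g).2 hg)), indFun_normal_not_mem C _ hg]
  rw [heq]
  exact IsGeneralizedCharacter.indFun (IsCharacter.isGeneralized isCharacter_one)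

end Cyclic

/-- **`p^a` times the indicator of the `p`-regular elements is a generalized character.** -/
theorem isGeneralized_regular {G : Type u} [Group G] [Fintype G] (hp : p.Prime) :
    IsGeneralizedCharacter G (regularFun p) := by
  classical
  haveI := Fact.mk hp
  refine isGeneralized_of_hyperelementary (fun g h => ?_) fun H hH => ?_
  · have : orderOf (h * g * h⁻¹) = orderOf g :=
      orderOf_injective (MulAut.conj h).toMonoidHom (MulAut.conj h).injective g
    simp [regularFun_apply, this]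
  obtain ⟨q, hq, C, hCH, hHC, hcyc, hqC, k, hrel⟩ := hH
  haveI : (C.subgroupOf H).Normal := Subgroup.normal_subgroupOf_of_le_normalizer hHC
  have hcard : Nat.card (C.subgroupOf H) = Nat.card C :=
    Nat.card_congr (Subgroup.subgroupOfEquivOfLe hCH).toEquiv
  haveI : IsCyclic (C.subgroupOf H) :=
    (Subgroup.subgroupOfEquivOfLe hCH).isCyclic.2 hcyc
  have hbase : IsGeneralizedCharacter H (regularFun p) := by
    by_cases hqp : q = p
    · subst hqp
      exact isGeneralized_regular_of_pPrime_normal hq (C.subgroupOf H) (hcard ▸ hqC) hrel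
    · obtain ⟨S⟩ : Nonempty (Sylow p H) := inferInstance
      have hSC : (S : Subgroup H) ≤ C.subgroupOf H := by
        intro x hx
        rw [← QuotientGroup.eq_one_iff, ← orderOf_eq_one_iff]
        obtain ⟨j, hj⟩ := IsPGroup.iff_orderOf.1 S.2 ⟨x, hx⟩
        rw [← Subgroup.orderOf_coe] at hj
        have h1 : orderOf ((QuotientGroup.mk' (C.subgroupOf H)) x) ∣ p ^ j :=
          hj ▸ orderOf_map_dvd _ x
        have h2 : orderOf ((QuotientGroup.mk' (C.subgroupOf H)) x) ∣ (C.subgroupOf H).index :=
          orderOf_dvd_natCard _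
        rw [show (C.subgroupOf H).index = q ^ k from hrel] at h2
        exact Nat.eq_one_of_dvd_coprimes
          (((Nat.coprime_primes hp hq).2 (Ne.symm hqp)).pow j k) h1 h2
      haveI hScyc : IsCyclic (S : Subgroup H) :=
        isCyclic_of_injective (Subgroup.inclusion hSC) (Subgroup.inclusion_injective hSC)
      haveI hSn : (S : Subgroup H).Normal := by
        refine ⟨fun x hx g => ?_⟩
        have hgx : g * x * g⁻¹ ∈ C.subgroupOf H :=
          ‹(C.subgroupOf H).Normal›.conj_mem x (hSC hx) g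
        letI := IsCyclic.commGroup (α := C.subgroupOf H)
        have hSn' : ((S : Subgroup H).subgroupOf (C.subgroupOf H)).Normal := inferInstance
        set T := (S : Subgroup H).map (MulAut.conj g).toMonoidHom with hT
        have hTC : T ≤ C.subgroupOf H := by
          rintro _ ⟨y, hy, rfl⟩
          exact ‹(C.subgroupOf H).Normal›.conj_mem y (hSC hy) g
        have hTp : IsPGroup p T := S.2.map _
        have hsup : IsPGroup p ((S : Subgroup H) ⊔ T : Subgroup H) := by
          refine S.2.to_sup_of_normal_right' hTp ?_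
          intro s hs
          rw [Subgroup.mem_normalizer_iff]
          intro t
          have hcomm : ∀ t ∈ C.subgroupOf H, s * t * s⁻¹ = t := fun t ht => by
            have := congrArg Subtype.val (mul_comm (⟨s, hSC hs⟩ : C.subgroupOf H) ⟨t, ht⟩)
            rw [show s * t = t * s from this, mul_inv_cancel_right]
          constructor
          · intro ht; rw [hcomm t (hTC ht)]; exact ht
          · intro ht
            have h := hcomm _ (hTC ht)
            have : s * t * s⁻¹ = t := mul_left_cancel (a := s) (mul_right_cancel (b := s⁻¹) h)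
            rwa [this] at ht
        have := S.3 hsup le_sup_left
        rw [← SetLike.mem_coe, ← this]
        exact (le_sup_right : T ≤ _) ⟨x, hx, rfl⟩
      exact isGeneralized_regular_of_cyclic_normal hp (S : Subgroup H) S.2 S.not_dvd_index
  have hle : (Nat.card H).factorization p ≤ (Nat.card G).factorization p :=
    (Nat.factorization_le_iff_dvd Nat.card_pos.ne' Nat.card_pos.ne').2
      (Subgroup.card_subgroup_dvd_card H) p
  have hscale := isGeneralized_nsmul hbase
    (p ^ ((Nat.card G).factorization p - (Nat.card H).factorization p))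
  convert hscale using 1
  funext x
  simp only [Pi.smul_apply, smul_eq_mul, regularFun_apply, Subgroup.orderOf_coe]
  split_ifs
  · rw [mul_zero]
  · rw [Nat.cast_pow, ← pow_add, Nat.sub_add_cancel hle]

end Cfsg.Lib.Blocks
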