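import Mathlib
import Cfsg.Prelude.Def_Blocks
import Cfsg.Agent.Blocks.Defect2
import Cfsg.Agent.Blocks.Regular

/-!
# The matrix `p^a [χ, ψ]` over the regular elements, and the Brauer–Feit bound
-/

set_option autoImplicit false
set_option linter.unusedSectionVars false

namespace Cfsg.Lib.Blocks

open scoped ComplexConjugate
open Cfsg.Lib.Chars

universe u

variable {G : Type u} [Group G] [Fintype G] {M : Ideal AlgInt} {p : ℕ}

lemma pow_mul_classInner_isInt (hp : p.Prime) (χ ψ : IrrCharacter G) :
    ∃ n : ℤ, ((p : ℂ) ^ (Nat.card G).factorization p) *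
      classInner (pRegularPart p (χ : G → ℂ)) (ψ : G → ℂ) = n := by
  classical
  obtain ⟨n, hn⟩ := IsGeneralizedCharacter.exists_mult
    (IsGeneralizedCharacter.mul (isGeneralized_regular hp) (IsCharacter.isGeneralized (isCharacter_of_irr χ.2)))
    ψ.2
  refine ⟨n, ?_⟩
  rw [← hn, ← classInner_smul_left]
  congr 1
  funext x
  simp only [Pi.smul_apply, Pi.mul_apply, smul_eq_mul, pRegularPart_apply]
  split_ifs with h <;> simp [regularFun_apply, h]

/-- `p^a` times the inner product over the regular elements, as an integer. -/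
noncomputable def regInt (p : ℕ) (χ ψ : IrrCharacter G) : ℤ := by
  classical
  exact if h : p.Prime then (pow_mul_classInner_isInt h χ ψ).choose else 0

lemma regInt_spec (hp : p.Prime) (χ ψ : IrrCharacter G) :
    (regInt p χ ψ : ℂ) = ((p : ℂ) ^ (Nat.card G).factorization p) *
      classInner (pRegularPart p (χ : G → ℂ)) (ψ : G → ℂ) := by
  rw [regInt, dif_pos hp]
  exact (pow_mul_classInner_isInt hp χ ψ).choose_spec.symm

lemma regInt_symm (hp : p.Prime) (χ ψ : IrrCharacter G) : regInt p χ ψ = regInt p ψ χ := by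
  classical
  apply Int.cast_injective (α := ℂ)
  rw [← map_intCast (starRingEnd ℂ) (regInt p ψ χ), regInt_spec hp, regInt_spec hp, map_mul,
    map_pow, map_natCast, classInner_conj_symm]
  congr 1
  simp only [classInner_def, pRegularPart_apply]
  congr 1
  exact Finset.sum_congr rfl fun x _ => by split_ifs <;> simp

lemma regInt_eq_zero (hM : IsPModular p M) {B : Set (IrrCharacter G)} (hB : IsPBlock M B)
    {χ ψ : IrrCharacter G} (hχ : χ ∈ B) (hψ : ψ ∉ B) : regInt p χ ψ = 0 := by
  apply Int.cast_injective (α := ℂ)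
  rw [regInt_spec hM.1, classInner_pRegularPart_eq_zero hM hB hχ hψ, mul_zero, Int.cast_zero]

lemma pow_mul_pRegularPart_eq_sum (hM : IsPModular p M) {B : Set (IrrCharacter G)}
    (hB : IsPBlock M B) [DecidablePred (· ∈ B)] {χ : IrrCharacter G} (hχ : χ ∈ B) (g : G) :
    ((p : ℂ) ^ (Nat.card G).factorization p) * pRegularPart p (χ : G → ℂ) g =
      ∑ ψ ∈ Finset.univ.filter (· ∈ B), (regInt p χ ψ : ℂ) * (ψ : G → ℂ) g := by
  conv_lhs => rw [← blockPart_pRegularPart hM hB hχ, blockPart_eq_sum]
  rw [Finset.mul_sum]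
  exact Finset.sum_congr rfl fun ψ _ => by rw [regInt_spec hM.1, mul_assoc]

lemma sum_regInt_mul_deg (hM : IsPModular p M) {B : Set (IrrCharacter G)}
    (hB : IsPBlock M B) [DecidablePred (· ∈ B)] {χ : IrrCharacter G} (hχ : χ ∈ B) :
    ∑ ψ ∈ Finset.univ.filter (· ∈ B), regInt p χ ψ * (deg (ψ : G → ℂ) : ℤ) =
      (p : ℤ) ^ (Nat.card G).factorization p * (deg (χ : G → ℂ) : ℤ) := by
  classical
  apply Int.cast_injective (α := ℂ)
  push_cast
  rw [← irr_apply_one_eq_deg]
  have h := pow_mul_pRegularPart_eq_sum hM hB hχ 1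
  rw [pRegularPart_apply, if_neg (by simpa using hM.1.ne_one)] at h
  rw [h]
  exact Finset.sum_congr rfl fun ψ _ => by rw [irr_apply_one_eq_deg]

lemma sum_regInt_mul_regInt (hp : p.Prime) (χ θ : IrrCharacter G) :
    ∑ ψ : IrrCharacter G, regInt p χ ψ * regInt p ψ θ =
      (p : ℤ) ^ (Nat.card G).factorization p * regInt p χ θ := by
  classical
  apply Int.cast_injective (α := ℂ)
  push_cast
  simp only [regInt_spec hp]
  have h : classInner (pRegularPart p (χ : G → ℂ)) (θ : G → ℂ) =
      classInner (pRegularPart p (χ : G → ℂ)) (pRegularPart p (θ : G → ℂ)) := by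
    simp only [classInner_def, pRegularPart_apply]
    congr 1
    exact Finset.sum_congr rfl fun x _ => by split_ifs <;> simp
  have hcf : IsClassFunction G (pRegularPart p (χ : G → ℂ)) := fun g k => by
    rw [pRegularPart_apply, pRegularPart_apply, isClassFunction_irr χ g k]
    have : orderOf (k * g * k⁻¹) = orderOf g :=
      orderOf_injective (MulAut.conj k).toMonoidHom (MulAut.conj k).injective g
    simp [this]
  conv_rhs =>
    rw [h]
    arg 2; arg 2; arg 1
    rw [classFunction_expand hcf]
  rw [classInner_sum_left, Finset.mul_sum, Finset.mul_sum]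
  refine Finset.sum_congr rfl fun ψ _ => ?_
  rw [classInner_smul_left]
  have h2 : classInner (ψ : G → ℂ) (pRegularPart p (θ : G → ℂ)) =
      classInner (pRegularPart p (ψ : G → ℂ)) (θ : G → ℂ) := by
    simp only [classInner_def, pRegularPart_apply]
    congr 1
    exact Finset.sum_congr rfl fun x _ => by split_ifs <;> simp
  rw [h2]
  ring

lemma sum_sq_regInt (hM : IsPModular p M) {B : Set (IrrCharacter G)} (hB : IsPBlock M B)
    [DecidablePred (· ∈ B)] {χ : IrrCharacter G} (hχ : χ ∈ B) :
    ∑ ψ ∈ Finset.univ.filter (· ∈ B), regInt p χ ψ ^ 2 =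
      (p : ℤ) ^ (Nat.card G).factorization p * regInt p χ χ := by
  classical
  rw [← sum_regInt_mul_regInt hM.1 χ χ, Finset.sum_filter]
  refine Finset.sum_congr rfl fun ψ _ => ?_
  split_ifs with h
  · rw [sq, regInt_symm hM.1 ψ χ]
  · rw [regInt_eq_zero hM hB hχ h, zero_mul]

/-- The element whose central characters are the regular inner products. -/
noncomputable def regElem (p : ℕ) (χ : IrrCharacter G) : MonoidAlgebra ℂ G :=
  ofFn (pRegularPart p fun x => conj ((χ : G → ℂ) x))

lemma isCentralFn_regElem (χ : IrrCharacter G) : IsCentralFn (regElem p χ) :=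
  isCentralFn_ofFn fun g h => by
    classical
    have : orderOf (h * g * h⁻¹) = orderOf g :=
      orderOf_injective (MulAut.conj h).toMonoidHom (MulAut.conj h).injective g
    simp [pRegularPart_apply, isClassFunction_irr χ g h, this]

lemma integral_regElem (hM : IsPModular p M) (χ : IrrCharacter G) :
    Integral M (regElem p χ) := fun g => by
  classical
  rw [regElem, fn_ofFn, pRegularPart_apply]
  split_ifs
  · exact zero_mem _
  · rw [← IsCharacter.conj_inv (isCharacter_of_irr χ.2)]
    exact isIntegral_mem_place hM (IsCharacter.isIntegral (isCharacter_of_irr χ.2) _)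

lemma omega_regElem_mul (hp : p.Prime) (χ ψ : IrrCharacter G) :
    omega (ψ : G → ℂ) (regElem p χ) * (deg (ψ : G → ℂ) : ℂ) =
      ((Nat.card G / p ^ (Nat.card G).factorization p : ℕ) : ℂ) * (regInt p χ ψ : ℂ) := by
  classical
  have hG : (Nat.card G : ℂ) ≠ 0 := Nat.cast_ne_zero.2 Nat.card_pos.ne'
  rw [omega, ← irr_apply_one_eq_deg,
    div_mul_cancel₀ _ (IsIrrCharacter.apply_one_ne_zero ψ.2), regInt_symm hp, regInt_spec hp,
    ← mul_assoc, ← Nat.cast_pow, ← Nat.cast_mul, Nat.div_mul_cancel (Nat.ordProj_dvd _ _),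
    classInner_def, mul_inv_cancel_left₀ hG, chiEval]
  refine Finset.sum_congr rfl fun x _ => ?_
  rw [regElem, fn_ofFn, pRegularPart_apply, pRegularPart_apply]
  split_ifs <;> simp [mul_comm]

lemma isUnitAt_pPrime (hM : IsPModular p M) :
    IsUnitAt M ((Nat.card G / p ^ (Nat.card G).factorization p : ℕ) : ℂ) :=
  isUnitAt_natCast hM (Nat.not_dvd_ordCompl hM.1 Nat.card_pos.ne')

lemma valuation_intCast (hM : IsPModular p M) {n : ℤ} (hn : n ≠ 0) :
    (place M).valuation (n : ℂ) = (place M).valuation (p : ℂ) ^ n.natAbs.factorization p := by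
  rw [← valuation_natCast hM (Int.natAbs_ne_zero.2 hn)]
  rcases Int.natAbs_eq n with h | h
  · conv_lhs => rw [h]
    simp
  · conv_lhs => rw [h]
    simp

lemma valuation_regInt (hM : IsPModular p M) (χ ψ : IrrCharacter G) :
    (place M).valuation (regInt p χ ψ : ℂ) =
      (place M).valuation (omega (ψ : G → ℂ) (regElem p χ)) *
        (place M).valuation (p : ℂ) ^ (deg (ψ : G → ℂ)).factorization p := by
  rw [← valuation_natCast hM (deg_irr_pos ψ).ne', ← map_mul, omega_regElem_mul hM.1, map_mul,
    isUnitAt_pPrime hM, one_mul]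

lemma pow_deg_dvd_regInt (hM : IsPModular p M) (χ ψ : IrrCharacter G) :
    (p : ℤ) ^ (deg (ψ : G → ℂ)).factorization p ∣ regInt p χ ψ := by
  by_cases h0 : regInt p χ ψ = 0
  · simp [h0]
  have h := valuation_regInt hM χ ψ
  rw [valuation_intCast hM h0] at h
  have h1 : (place M).valuation (omega (ψ : G → ℂ) (regElem p χ)) ≤ 1 :=
    (ValuationSubring.valuation_le_one_iff _ _).2
      (omega_mem_place hM ψ (isCentralFn_regElem χ) (integral_regElem hM χ))
  have hle := h.trans_le (mul_le_of_le_one_left zero_le h1)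
  rw [valuation_prime_pow_le_iff hM] at hle
  exact Int.natCast_dvd.2 ((hM.1.pow_dvd_iff_le_factorization (Int.natAbs_ne_zero.2 h0)).2 hle)

variable {B : Set (IrrCharacter G)} {χ ψ : IrrCharacter G}

/-- For a height zero character the ratio is a unit. -/
theorem isUnitAt_omega_regElem (hM : IsPModular p M) (hB : IsPBlock M B) (hχ : χ ∈ B)
    (h0 : blockHeight p B (χ : G → ℂ) = 0) (hψ : ψ ∈ B) :
    IsUnitAt M (omega (ψ : G → ℂ) (regElem p χ)) := by
  classical
  haveI := Fact.mk hM.1
  obtain ⟨g, hg⟩ := exists_defectClass hM hB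
  set Z := Subgroup.centralizer ({g} : Set G) with hZ
  set S : Sylow p Z := default
  set D := centSyl S with hD
  set k := Z.index.factorization p + 1 with hk
  have hex : ∃ φ ∈ B, ¬ ((p : ℤ) ^ k ∣ regInt p χ φ) := by
    by_contra hall
    push Not at hall
    choose! c hc using hall
    have hreg : ¬ p ∣ orderOf g :=
      not_dvd_orderOf_of_not_small hM hB ((isDefectClass_iff hM hB g).1 hg).1
    have hgD : g ∈ Subgroup.centralizer (D : Set G) := mem_centralizer_centSyl _
    have hDne : (Nat.card D : ℂ) ≠ 0 := Nat.cast_ne_zero.2 Nat.card_pos.ne'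
    set z : ℂ := ∑ φ ∈ Finset.univ.filter (· ∈ B),
      (c φ : ℂ) * ((Nat.card D : ℂ)⁻¹ * ∑ u : D, (φ : G → ℂ) (g * u)) with hz
    have hzint : IsIntegral ℤ z := IsIntegral.sum _ fun φ _ =>
      IsIntegral.mul (isIntegral_algebraMap (R := ℤ) (x := c φ))
        (isIntegral_avg_coset (isCharacter_of_irr φ.2) D hgD)
    have heq : (p : ℂ) ^ k * (Nat.card D : ℂ) * z =
        (p : ℂ) ^ (Nat.card G).factorization p * (χ : G → ℂ) g := by
      have hstep : ∀ φ ∈ Finset.univ.filter (· ∈ B), (p : ℂ) ^ k * (Nat.card D : ℂ) *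
          ((c φ : ℂ) * ((Nat.card D : ℂ)⁻¹ * ∑ u : D, (φ : G → ℂ) (g * u))) =
          ∑ u : D, (regInt p χ φ : ℂ) * (φ : G → ℂ) (g * u) := fun φ hφ => by
        rw [← Finset.mul_sum, hc φ (Finset.mem_filter.1 hφ).2]
        push_cast
        field_simp
      rw [hz, Finset.mul_sum, Finset.sum_congr rfl hstep, Finset.sum_comm]
      refine Eq.trans (Finset.sum_congr rfl fun u _ =>
        (pow_mul_pRegularPart_eq_sum hM hB hχ (g * (u : G))).symm) ?_
      rw [
        Finset.sum_eq_single (1 : D)]
      · rw [OneMemClass.coe_one, mul_one, pRegularPart_apply, if_neg hreg]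
      · intro u _ hu
        rw [pRegularPart_apply, if_pos, mul_zero]
        by_contra hd
        have hcm : Commute (u : G) g := Subgroup.mem_centralizer_iff.1 hgD (u : G) u.2
        have hpart := isPPart_mul hcm
          (exists_orderOf_eq_of_mem hM.1 (isPGroup_centSyl S) u.2) hreg
        rw [hcm.eq] at hpart
        exact hu (Subtype.ext (IsPPart.eq hM.1 hpart ((isPPart_one_iff hM.1).2 hd)))
      · intro h; exact absurd (Finset.mem_univ _) h
    have hcard : Nat.card D = p ^ (Nat.card Z).factorization p := card_centSyl S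
    have hGf : (Nat.card G).factorization p =
        (Nat.card Z).factorization p + Z.index.factorization p := by
      rw [← Subgroup.card_mul_index Z,
        Nat.factorization_mul Nat.card_pos.ne' Subgroup.index_ne_zero_of_finite, Finsupp.add_apply]
    have hu := isUnitAt_apply_defectClass hM hB hg hχ h0
    have hv := congrArg (place M).valuation heq
    rw [map_mul, map_mul, map_mul, hu, mul_one, map_pow, map_pow, hcard, Nat.cast_pow, map_pow,
      ← pow_add, hGf] at hv
    have hle : (place M).valuation (p : ℂ) ^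
        ((Nat.card Z).factorization p + Z.index.factorization p) ≤
        (place M).valuation (p : ℂ) ^ (k + (Nat.card Z).factorization p) := by
      rw [← hv]
      exact mul_le_of_le_one_right zero_le
        ((ValuationSubring.valuation_le_one_iff _ _).2 (isIntegral_mem_place hM hzint))
    rw [valuation_prime_pow_le_iff hM] at hle
    omega
  obtain ⟨φ, hφ, hndvd⟩ := hex
  refine isUnitAt_omega_of_sameBlock hM (IsPBlock.sameBlock hM hB hφ hψ) (isCentralFn_regElem χ)
    (integral_regElem hM χ) ?_
  have hmem := omega_mem_place hM φ (isCentralFn_regElem (p := p) χ) (integral_regElem hM χ)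
  refine isUnitAt_iff.2 ⟨hmem, fun hs => hndvd ?_⟩
  by_cases hz : regInt p χ φ = 0
  · simp [hz]
  have h := valuation_regInt hM χ φ
  rw [valuation_intCast hM hz] at h
  have hlt : (place M).valuation (p : ℂ) ^ (regInt p χ φ).natAbs.factorization p <
      (place M).valuation (p : ℂ) ^ (deg (φ : G → ℂ)).factorization p := by
    rw [h]
    exact mul_lt_of_lt_one_left (pow_pos (valuation_prime_pos hM) _) (small_iff.1 hs)
  rw [valuation_prime_pow_lt_iff hM] at hlt
  have hge := (degree_bounds hM hB hg).1 φ hφ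
  rw [← hZ] at hge
  refine Int.natCast_dvd.2 ((hM.1.pow_dvd_iff_le_factorization (Int.natAbs_ne_zero.2 hz)).2 ?_)
  omega

lemma regInt_height_zero (hM : IsPModular p M) (hB : IsPBlock M B) (hχ : χ ∈ B)
    (h0 : blockHeight p B (χ : G → ℂ) = 0) (hψ : ψ ∈ B) :
    regInt p χ ψ ≠ 0 ∧
      (regInt p χ ψ).natAbs.factorization p = (deg (ψ : G → ℂ)).factorization p := by
  have h := valuation_regInt hM χ ψ
  rw [isUnitAt_omega_regElem hM hB hχ h0 hψ, one_mul] at h
  have hne : regInt p χ ψ ≠ 0 := by
    intro h'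
    rw [h', Int.cast_zero, map_zero] at h
    exact (pow_pos (valuation_prime_pos hM) _).ne h
  rw [valuation_intCast hM hne] at h
  exact ⟨hne, le_antisymm ((valuation_prime_pow_le_iff hM _ _).1 h.ge)
    ((valuation_prime_pow_le_iff hM _ _).1 h.le)⟩

lemma regInt_height_pos (hM : IsPModular p M) (hB : IsPBlock M B) (hχ : χ ∈ B)
    (h0 : blockHeight p B (χ : G → ℂ) ≠ 0) (hψ : ψ ∈ B) :
    (p : ℤ) ^ ((deg (ψ : G → ℂ)).factorization p + 1) ∣ regInt p χ ψ := by
  classical
  obtain ⟨φ, hφ, hφ0⟩ := exists_height_zero hM hB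
  obtain ⟨g, hg⟩ := exists_defectClass hM hB
  rw [blockHeight_eq hM hB hg] at h0 hφ0
  have hlt : (deg (φ : G → ℂ)).factorization p < (deg (χ : G → ℂ)).factorization p := by
    have := (degree_bounds hM hB hg).1 φ hφ
    omega
  have hsmall : Small M (omega (φ : G → ℂ) (regElem p χ)) := by
    obtain ⟨hne, heq⟩ := regInt_height_zero hM hB hφ (ψ := χ)
      (by rw [blockHeight_eq hM hB hg]; exact hφ0) hχ
    rw [regInt_symm hM.1] at hne heq
    have h := valuation_regInt hM χ φ
    rw [valuation_intCast hM hne, heq] at h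
    rw [small_iff]
    by_contra hc
    rw [not_lt] at hc
    have : (place M).valuation (p : ℂ) ^ (deg (φ : G → ℂ)).factorization p ≤
        (place M).valuation (p : ℂ) ^ (deg (χ : G → ℂ)).factorization p := by
      rw [h]; exact le_mul_of_one_le_left zero_le hc
    rw [valuation_prime_pow_le_iff hM] at this
    omega
  have hsψ : Small M (omega (ψ : G → ℂ) (regElem p χ)) := by
    rw [← res_eq_zero_iff (omega_mem_place hM ψ (isCentralFn_regElem χ) (integral_regElem hM χ)),
      ← res_omega_eq_of_sameBlock hM (IsPBlock.sameBlock hM hB hφ hψ) (isCentralFn_regElem χ)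
        (integral_regElem hM χ),
      res_eq_zero_iff (omega_mem_place hM φ (isCentralFn_regElem χ) (integral_regElem hM χ))]
    exact hsmall
  by_cases hz : regInt p χ ψ = 0
  · simp [hz]
  have h := valuation_regInt hM χ ψ
  rw [valuation_intCast hM hz] at h
  have hlt' : (place M).valuation (p : ℂ) ^ (regInt p χ ψ).natAbs.factorization p <
      (place M).valuation (p : ℂ) ^ (deg (ψ : G → ℂ)).factorization p := by
    rw [h]
    exact mul_lt_of_lt_one_left (pow_pos (valuation_prime_pos hM) _) (small_iff.1 hsψ)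
  rw [valuation_prime_pow_lt_iff hM] at hlt'
  exact Int.natCast_dvd.2 ((hM.1.pow_dvd_iff_le_factorization (Int.natAbs_ne_zero.2 hz)).2 hlt')

lemma regInt_self_pos (hp : p.Prime) (χ : IrrCharacter G) : 0 < regInt p χ χ := by
  classical
  have h1 : (regInt p χ χ : ℂ) = (((p : ℝ) ^ (Nat.card G).factorization p *
      ((Nat.card G : ℝ)⁻¹ * ∑ g : G, ‖pRegularPart p (χ : G → ℂ) g‖ ^ 2) : ℝ) : ℂ) := by
    rw [regInt_spec hp, Complex.ofReal_mul, ← classInner_self, Complex.ofReal_pow,
      Complex.ofReal_natCast]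
    congr 1
    simp only [classInner_def, pRegularPart_apply]
    congr 1
    exact Finset.sum_congr rfl fun x _ => by split_ifs <;> simp
  have h2 : (regInt p χ χ : ℝ) = (p : ℝ) ^ (Nat.card G).factorization p *
      ((Nat.card G : ℝ)⁻¹ * ∑ g : G, ‖pRegularPart p (χ : G → ℂ) g‖ ^ 2) := by
    apply Complex.ofReal_injective
    rw [← h1, Complex.ofReal_intCast]
  have : (0 : ℝ) < regInt p χ χ := by
    rw [h2]
    have hp0 : (0 : ℝ) < p := Nat.cast_pos.2 hp.pos
    refine mul_pos (pow_pos hp0 _) (mul_pos (inv_pos.2 (Nat.cast_pos.2 Nat.card_pos)) ?_)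
    refine Finset.sum_pos' (fun g _ => sq_nonneg _) ⟨1, Finset.mem_univ _, ?_⟩
    rw [pRegularPart_apply, if_neg (by simpa using hp.ne_one)]
    exact pow_pos (norm_pos_iff.2 (IsIrrCharacter.apply_one_ne_zero χ.2)) 2
  exact_mod_cast this

end Cfsg.Lib.Blocks
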