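import Mathlib
import Cfsg.Prelude.Def_Blocks
import Cfsg.Agent.Blocks.Feit

/-!
# The Brauer–Feit bounds
-/

set_option autoImplicit false
set_option linter.unusedSectionVars false

namespace Cfsg.Lib.Blocks

open scoped ComplexConjugate
open Cfsg.Lib.Chars

universe u

variable {G : Type u} [Group G] [Fintype G] {M : Ideal AlgInt} {p : ℕ}
  {B : Set (IrrCharacter G)}

lemma pow_le_sq_of_dvd {p n : ℕ} {a : ℤ} (ha : a ≠ 0) (h : (p : ℤ) ^ n ∣ a) :
    ((p : ℤ) ^ n) ^ 2 ≤ a ^ 2 := by
  rw [sq_le_sq, abs_of_nonneg (pow_nonneg (Int.natCast_nonneg p) n)]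
  exact Int.le_of_dvd (abs_pos.2 ha) ((dvd_abs _ _).2 h)

lemma regInt_self_le (hM : IsPModular p M) (hB : IsPBlock M B) {χ : IrrCharacter G} (hχ : χ ∈ B) :
    regInt p χ χ ≤ (p : ℤ) ^ (Nat.card G).factorization p := by
  classical
  have h := sum_sq_regInt hM hB hχ
  have hle : regInt p χ χ ^ 2 ≤ ∑ ψ ∈ Finset.univ.filter (· ∈ B), regInt p χ ψ ^ 2 :=
    Finset.single_le_sum (f := fun ψ => regInt p χ ψ ^ 2) (fun ψ _ => sq_nonneg _)
      (Finset.mem_filter.2 ⟨Finset.mem_univ _, hχ⟩)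
  rw [h, sq] at hle
  exact le_of_mul_le_mul_right hle (regInt_self_pos hM.1 χ)

lemma sum_erase_sq_regInt (hM : IsPModular p M) (hB : IsPBlock M B) [DecidablePred (· ∈ B)]
    [DecidableEq (IrrCharacter G)] {χ : IrrCharacter G} (hχ : χ ∈ B) :
    4 * ∑ ψ ∈ (Finset.univ.filter (· ∈ B)).erase χ, regInt p χ ψ ^ 2 ≤
      ((p : ℤ) ^ (Nat.card G).factorization p) ^ 2 := by
  have h := sum_sq_regInt hM hB hχ
  rw [← Finset.add_sum_erase _ _ (show χ ∈ Finset.univ.filter (· ∈ B) by simp [hχ])] at h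
  nlinarith [sq_nonneg (2 * regInt p χ χ - (p : ℤ) ^ (Nat.card G).factorization p)]

lemma defect_add_index (hM : IsPModular p M) (hB : IsPBlock M B) {g : G}
    (hg : IsDefectClass M B g) :
    (Nat.card G).factorization p =
      blockDefect p B + (Subgroup.centralizer ({g} : Set G)).index.factorization p := by
  rw [blockDefect_eq hM hB hg, ← Subgroup.card_mul_index (Subgroup.centralizer ({g} : Set G)),
    Nat.factorization_mul Nat.card_pos.ne' Subgroup.index_ne_zero_of_finite, Finsupp.add_apply]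

lemma deg_factorization_eq (hM : IsPModular p M) (hB : IsPBlock M B) {g : G}
    (hg : IsDefectClass M B g) {χ : IrrCharacter G} (hχ : χ ∈ B) :
    (deg (χ : G → ℂ)).factorization p = blockHeight p B (χ : G → ℂ) +
      (Subgroup.centralizer ({g} : Set G)).index.factorization p := by
  rw [blockHeight_eq hM hB hg]
  have := (degree_bounds hM hB hg).1 χ hχ
  omega

/-- The Brauer–Feit inequality, in a row of height zero. -/
theorem four_mul_sum_erase_le (hM : IsPModular p M) (hB : IsPBlock M B) [DecidablePred (· ∈ B)]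
    [DecidableEq (IrrCharacter G)] {χ : IrrCharacter G} (hχ : χ ∈ B)
    (h0 : blockHeight p B (χ : G → ℂ) = 0) :
    4 * ∑ ψ ∈ (Finset.univ.filter (· ∈ B)).erase χ, p ^ (2 * blockHeight p B (ψ : G → ℂ)) ≤
      p ^ (2 * blockDefect p B) := by
  obtain ⟨g, hg⟩ := exists_defectClass hM hB
  set t := (Subgroup.centralizer ({g} : Set G)).index.factorization p with ht
  have hle : ∀ ψ ∈ (Finset.univ.filter (· ∈ B)).erase χ,
      ((p : ℤ) ^ (blockHeight p B (ψ : G → ℂ) + t)) ^ 2 ≤ regInt p χ ψ ^ 2 := by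
    intro ψ hψ
    have hψB : ψ ∈ B := (Finset.mem_filter.1 (Finset.mem_of_mem_erase hψ)).2
    obtain ⟨hne, -⟩ := regInt_height_zero hM hB hχ h0 hψB
    refine pow_le_sq_of_dvd hne ?_
    rw [ht, ← deg_factorization_eq hM hB hg hψB]
    exact pow_deg_dvd_regInt hM χ ψ
  have h := (mul_le_mul_of_nonneg_left (Finset.sum_le_sum hle) (by norm_num : (0 : ℤ) ≤ 4)).trans
    (sum_erase_sq_regInt hM hB hχ)
  have hsplit : (((p : ℤ) ^ (Nat.card G).factorization p) ^ 2) =
      ((p ^ (2 * blockDefect p B) * p ^ (2 * t) : ℕ) : ℤ) := by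
    rw [defect_add_index hM hB hg]; push_cast; ring
  have hterm : ∀ ψ : IrrCharacter G, ((p : ℤ) ^ (blockHeight p B (ψ : G → ℂ) + t)) ^ 2 =
      ((p ^ (2 * blockHeight p B (ψ : G → ℂ)) * p ^ (2 * t) : ℕ) : ℤ) := fun ψ => by
    push_cast; ring
  rw [hsplit, Finset.sum_congr rfl fun ψ _ => hterm ψ, ← Nat.cast_sum, ← Finset.sum_mul] at h
  norm_cast at h
  rw [← mul_assoc] at h
  exact Nat.le_of_mul_le_mul_right h (pow_pos hM.1.pos _)

/-- The height is at most the defect minus two, for positive height. -/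
theorem height_add_two_le (hM : IsPModular p M) (hB : IsPBlock M B) {χ : IrrCharacter G}
    (hχ : χ ∈ B) (h0 : blockHeight p B (χ : G → ℂ) ≠ 0) :
    blockHeight p B (χ : G → ℂ) + 2 ≤ blockDefect p B := by
  classical
  by_contra hcon
  obtain ⟨g, hg⟩ := exists_defectClass hM hB
  obtain ⟨φ, hφ, hφ0⟩ := exists_height_zero hM hB
  have hne : φ ≠ χ := fun h => h0 (h ▸ hφ0)
  have hdvd := regInt_height_pos hM hB hχ h0 hχ
  have hpos := regInt_self_pos (G := G) hM.1 χ
  have hle := regInt_self_le hM hB hχ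
  have hge : (p : ℤ) ^ (Nat.card G).factorization p ∣ regInt p χ χ := by
    refine (pow_dvd_pow _ ?_).trans hdvd
    rw [deg_factorization_eq hM hB hg hχ, defect_add_index hM hB hg]
    omega
  have heq : regInt p χ χ = (p : ℤ) ^ (Nat.card G).factorization p :=
    le_antisymm hle (Int.le_of_dvd hpos hge)
  have h := sum_sq_regInt hM hB hχ
  rw [← Finset.add_sum_erase _ _ (show χ ∈ Finset.univ.filter (· ∈ B) by simp [hχ]), heq, sq,
    add_eq_left] at h
  have hz := (Finset.sum_eq_zero_iff_of_nonneg fun ψ _ => sq_nonneg (regInt p χ ψ)).1 h φ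
    (Finset.mem_erase.2 ⟨hne, Finset.mem_filter.2 ⟨Finset.mem_univ _, hφ⟩⟩)
  have hnz := (regInt_height_zero hM hB hφ hφ0 hχ).1
  rw [regInt_symm hM.1] at hnz
  exact hnz (pow_eq_zero_iff two_ne_zero |>.1 hz)

/-- Bound in a row of positive height. -/
theorem card_height_zero_le (hM : IsPModular p M) (hB : IsPBlock M B) [DecidablePred (· ∈ B)]
    {χ : IrrCharacter G} (hχ : χ ∈ B) (h0 : blockHeight p B (χ : G → ℂ) ≠ 0) :
    4 * (p ^ 2 * ((Finset.univ.filter (· ∈ B)).filter
      fun ψ => blockHeight p B ((ψ : IrrCharacter G) : G → ℂ) = 0).card) ≤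
      p ^ (2 * blockDefect p B) := by
  classical
  obtain ⟨g, hg⟩ := exists_defectClass hM hB
  set t := (Subgroup.centralizer ({g} : Set G)).index.factorization p with ht
  set S := (Finset.univ.filter (· ∈ B)).filter
    fun ψ => blockHeight p B ((ψ : IrrCharacter G) : G → ℂ) = 0 with hS
  have hle : ∀ ψ ∈ S, ((p : ℤ) ^ (1 + t)) ^ 2 ≤ regInt p χ ψ ^ 2 := by
    intro ψ hψ
    obtain ⟨hψB, hψ0⟩ := Finset.mem_filter.1 hψ
    obtain ⟨hne, -⟩ := regInt_height_zero hM hB (Finset.mem_filter.1 hψB).2 hψ0 hχ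
    rw [regInt_symm hM.1] at hne
    refine pow_le_sq_of_dvd hne ?_
    rw [regInt_symm hM.1]
    refine (pow_dvd_pow _ ?_).trans (pow_deg_dvd_regInt hM ψ χ)
    rw [deg_factorization_eq hM hB hg hχ, ← ht]
    omega
  have hsub : S ⊆ (Finset.univ.filter (· ∈ B)).erase χ := fun ψ hψ =>
    Finset.mem_erase.2 ⟨fun h => h0 (h ▸ (Finset.mem_filter.1 hψ).2),
      (Finset.mem_filter.1 hψ).1⟩
  have h := (mul_le_mul_of_nonneg_left ((Finset.sum_le_sum hle).trans
    (Finset.sum_le_sum_of_subset_of_nonneg hsub fun ψ _ _ => sq_nonneg (regInt p χ ψ)))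
    (by norm_num : (0 : ℤ) ≤ 4)).trans (sum_erase_sq_regInt hM hB hχ)
  have hsplit : (((p : ℤ) ^ (Nat.card G).factorization p) ^ 2) =
      ((p ^ (2 * blockDefect p B) * p ^ (2 * t) : ℕ) : ℤ) := by
    rw [defect_add_index hM hB hg]; push_cast; ring
  have hterm : ((p : ℤ) ^ (1 + t)) ^ 2 = ((p ^ 2 * p ^ (2 * t) : ℕ) : ℤ) := by
    push_cast; ring
  rw [hsplit, Finset.sum_const, nsmul_eq_mul, hterm] at h
  norm_cast at h
  exact Nat.le_of_mul_le_mul_right (c := p ^ (2 * t)) (le_of_eq_of_le (by ring) h)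
    (pow_pos hM.1.pos _)

lemma sum_finsum_eq (B : Set (IrrCharacter G)) [DecidablePred (· ∈ B)] {β : Type*}
    [AddCommMonoid β] (f : IrrCharacter G → β) :
    ∑ᶠ χ ∈ B, f χ = ∑ χ ∈ Finset.univ.filter (· ∈ B), f χ :=
  finsum_mem_eq_sum_of_inter_support_eq _ (by simp)

lemma natCard_eq_filter (B : Set (IrrCharacter G)) [DecidablePred (· ∈ B)] :
    Nat.card B = (Finset.univ.filter (· ∈ B)).card := by
  rw [Nat.card_eq_fintype_card, ← Fintype.card_subtype]

/-- **Brauer–Feit.** -/
theorem four_mul_card_le (hM : IsPModular p M) (hB : IsPBlock M B) :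
    4 * Nat.card B ≤ p ^ (2 * blockDefect p B) + 4 := by
  classical
  obtain ⟨χ, hχ, h0⟩ := exists_height_zero hM hB
  have h := four_mul_sum_erase_le hM hB hχ h0
  have hge : ((Finset.univ.filter (· ∈ B)).erase χ).card ≤
      ∑ ψ ∈ (Finset.univ.filter (· ∈ B)).erase χ, p ^ (2 * blockHeight p B (ψ : G → ℂ)) := by
    rw [Finset.card_eq_sum_ones]
    exact Finset.sum_le_sum fun ψ _ => Nat.one_le_pow _ _ hM.1.pos
  rw [natCard_eq_filter, ← Finset.card_erase_add_one
    (show χ ∈ Finset.univ.filter (· ∈ B) by simp [hχ])]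
  omega

theorem sum_height_le (hM : IsPModular p M) (hB : IsPBlock M B) :
    ∑ᶠ χ ∈ B, p ^ (2 * blockHeight p B ((χ : IrrCharacter G) : G → ℂ)) ≤
      (p ^ blockDefect p B) ^ 2 / 4 + 1 := by
  classical
  obtain ⟨χ, hχ, h0⟩ := exists_height_zero hM hB
  have h := four_mul_sum_erase_le hM hB hχ h0
  rw [sum_finsum_eq, ← Finset.add_sum_erase _ _
    (show χ ∈ Finset.univ.filter (· ∈ B) by simp [hχ]), h0, mul_zero, pow_zero, add_comm]
  refine Nat.add_le_add_right ?_ 1
  rw [Nat.le_div_iff_mul_le (by norm_num), ← pow_mul, mul_comm (blockDefect p B) 2, mul_comm]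
  exact h

theorem two_mul_card_le (hM : IsPModular p M) (hB : IsPBlock M B)
    (hex : ∃ χ ∈ B, 0 < blockHeight p B ((χ : IrrCharacter G) : G → ℂ)) :
    2 * Nat.card B ≤ p ^ (2 * blockDefect p B - 2) := by
  classical
  obtain ⟨χ, hχ, hpos⟩ := hex
  obtain ⟨φ, hφ, hφ0⟩ := exists_height_zero hM hB
  have h1 := four_mul_sum_erase_le hM hB hφ hφ0
  have h2 := card_height_zero_le hM hB hχ hpos.ne'
  set S := (Finset.univ.filter (· ∈ B)).filter
    fun ψ => blockHeight p B ((ψ : IrrCharacter G) : G → ℂ) = 0 with hS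
  set T := (Finset.univ.filter (· ∈ B)).filter
    fun ψ => ¬ blockHeight p B ((ψ : IrrCharacter G) : G → ℂ) = 0 with hT
  have hsub : T ⊆ (Finset.univ.filter (· ∈ B)).erase φ := fun ψ hψ =>
    Finset.mem_erase.2 ⟨fun h => (Finset.mem_filter.1 hψ).2 (h ▸ hφ0), (Finset.mem_filter.1 hψ).1⟩
  have h3 : p ^ 2 * T.card ≤
      ∑ ψ ∈ (Finset.univ.filter (· ∈ B)).erase φ, p ^ (2 * blockHeight p B (ψ : G → ℂ)) := by
    refine le_trans ?_ (Finset.sum_le_sum_of_subset hsub)
    rw [mul_comm, ← smul_eq_mul, ← Finset.sum_const]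
    refine Finset.sum_le_sum fun ψ hψ => Nat.pow_le_pow_right hM.1.pos ?_
    have := (Finset.mem_filter.1 hψ).2
    omega
  have hcard : Nat.card B = S.card + T.card := by
    rw [natCard_eq_filter, hS, hT, Finset.card_filter_add_card_filter_not]
  have hd : 2 ≤ 2 * blockDefect p B := by
    have := height_add_two_le hM hB hχ hpos.ne'
    omega
  refine Nat.le_of_mul_le_mul_right (c := p ^ 2) ?_ (pow_pos hM.1.pos _)
  rw [← pow_add, Nat.sub_add_cancel hd, hcard]
  nlinarith

lemma exists_bound_reciprocals : ∀ (k : ℕ) (r : ℚ), ∃ N : ℕ, ∀ s : Multiset ℕ,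
    Multiset.card s = k → (∀ n ∈ s, 0 < n) → (s.map fun n : ℕ => (1 : ℚ) / n).sum = r →
    ∀ n ∈ s, n ≤ N := by
  intro k
  induction k with
  | zero =>
    intro r
    exact ⟨0, fun s hs _ _ n hn => by rw [Multiset.card_eq_zero] at hs; simp [hs] at hn⟩
  | succ k ih =>
    intro r
    choose f hf using fun m : ℕ => ih (r - 1 / m)
    set L : ℕ := ⌈((k + 1 : ℕ) : ℚ) / r⌉₊ with hL
    refine ⟨max L ((Finset.range (L + 1)).sup f), fun s hs hpos hsum n hn => ?_⟩
    obtain ⟨m, hm, hmin⟩ := Finset.exists_min_image s.toFinset id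
      ⟨n, Multiset.mem_toFinset.2 hn⟩
    rw [Multiset.mem_toFinset] at hm
    have hm0 : (0 : ℚ) < m := Nat.cast_pos.2 (hpos m hm)
    have hrle : r ≤ ((k + 1 : ℕ) : ℚ) / m := by
      have h := Multiset.sum_le_card_nsmul (s.map fun n : ℕ => (1 : ℚ) / n) ((1 : ℚ) / m)
        fun x hx => by
          obtain ⟨a, ha, rfl⟩ := Multiset.mem_map.1 hx
          exact one_div_le_one_div_of_le hm0
            (Nat.cast_le.2 (hmin a (Multiset.mem_toFinset.2 ha)))
      rw [hsum, Multiset.card_map, hs, nsmul_eq_mul, mul_one_div] at h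
      exact h
    have hr0 : 0 < r := by
      rw [← hsum, ← Multiset.cons_erase hm, Multiset.map_cons, Multiset.sum_cons]
      have : 0 ≤ ((s.erase m).map fun n : ℕ => (1 : ℚ) / n).sum :=
        Multiset.sum_nonneg fun x hx => by
          obtain ⟨a, -, rfl⟩ := Multiset.mem_map.1 hx
          positivity
      positivity
    have hmL : m ≤ L := by
      have : (m : ℚ) ≤ ((k + 1 : ℕ) : ℚ) / r := by
        rw [le_div_iff₀ hr0, mul_comm, ← le_div_iff₀ hm0]; exact hrle
      exact_mod_cast this.trans (Nat.le_ceil _)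
    rcases eq_or_ne n m with rfl | hne
    · exact le_max_of_le_left hmL
    · refine le_max_of_le_right ((hf m (s.erase m) ?_ (fun a ha => hpos a (Multiset.mem_of_mem_erase ha))
        ?_ n ((Multiset.mem_erase_of_ne hne).2 hn)).trans
        (Finset.le_sup (f := f) (Finset.mem_range.2 (Nat.lt_succ_of_le hmL))))
      · rw [Multiset.card_erase_of_mem hm, hs]; rfl
      · rw [← hsum]
        conv_rhs => rw [← Multiset.cons_erase hm, Multiset.map_cons, Multiset.sum_cons]
        ring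

/-- Landau: the order is bounded by the number of classes. -/
theorem exists_bound_of_classes (k : ℕ) : ∃ N : ℕ, ∀ (G : Type u) [Group G] [Finite G],
    Nat.card (ConjClasses G) ≤ k → Nat.card G ≤ N := by
  classical
  choose f hf using fun j => exists_bound_reciprocals j 1
  refine ⟨(Finset.range (k + 1)).sup f, fun G _ _ hk => ?_⟩
  have := Fintype.ofFinite G
  set s : Multiset ℕ := (Finset.univ : Finset (ConjClasses G)).val.map
    fun C => Nat.card (Subgroup.centralizer ({crep C} : Set G)) with hs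
  refine le_trans (hf (Nat.card (ConjClasses G)) s ?_ ?_ ?_ (Nat.card G) ?_)
    (Finset.le_sup (f := f) (Finset.mem_range.2 (Nat.lt_succ_of_le hk)))
  · rw [hs, Multiset.card_map, Nat.card_eq_fintype_card]; rfl
  · intro n hn
    obtain ⟨C, -, rfl⟩ := Multiset.mem_map.1 hn
    exact Nat.card_pos
  · rw [hs, Multiset.map_map]
    show ∑ C : ConjClasses G,
      (1 : ℚ) / (Nat.card (Subgroup.centralizer ({crep C} : Set G)) : ℚ) = 1
    have hG : (Nat.card G : ℚ) ≠ 0 := Nat.cast_ne_zero.2 Nat.card_pos.ne'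
    have hterm : ∀ C : ConjClasses G,
        (1 : ℚ) / (Nat.card (Subgroup.centralizer ({crep C} : Set G)) : ℚ) =
          ((Finset.univ.filter fun x : G => ConjClasses.mk x = C).card : ℚ) / Nat.card G := by
      intro C
      have h1 : (Finset.univ.filter fun x : G => ConjClasses.mk x = C).card =
          (Subgroup.centralizer ({crep C} : Set G)).index := by
        rw [← card_isConj, Nat.card_eq_fintype_card, Fintype.card_subtype]
        refine congrArg Finset.card (Finset.filter_congr fun x _ => ?_)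
        conv_lhs => rw [← mk_crep C]
        rw [ConjClasses.mk_eq_mk_iff_isConj]
        exact ⟨fun h => h.symm, fun h => h.symm⟩
      rw [h1, ← Subgroup.card_mul_index (Subgroup.centralizer ({crep C} : Set G)), Nat.cast_mul,
        div_mul_eq_div_div_swap, div_self (Nat.cast_ne_zero.2 Subgroup.index_ne_zero_of_finite)]
    rw [Finset.sum_congr rfl fun C _ => hterm C, ← Finset.sum_div, ← Nat.cast_sum,
      ← Finset.card_eq_sum_card_fiberwise (fun x _ => Finset.mem_univ _), Finset.card_univ,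
      ← Nat.card_eq_fintype_card, div_self hG]
  · refine Multiset.mem_map.2 ⟨ConjClasses.mk (1 : G), Finset.mem_univ _, ?_⟩
    have h1 : crep (ConjClasses.mk (1 : G)) = 1 := isConj_one_left.1 (isConj_crep_mk (1 : G))
    rw [h1]
    exact Nat.card_congr (Equiv.subtypeUnivEquiv fun x => by
      simp [Subgroup.mem_centralizer_singleton_iff])

end Cfsg.Lib.Blocks
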