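import Mathlib
import Cfsg.Prelude.Def_Blocks
import Cfsg.Agent.Blocks.Feit2

/-!
# Scaled regular restrictions as generalized characters
-/

set_option autoImplicit false
set_option linter.unusedSectionVars false

namespace Cfsg.Lib.Blocks

open scoped ComplexConjugate
open Cfsg.Lib.Chars

universe u

lemma exists_isPModular {p : ℕ} (hp : p.Prime) : ∃ M : Ideal AlgInt, IsPModular p M := by
  have hne : Ideal.span ({(p : AlgInt)} : Set AlgInt) ≠ ⊤ := by
    rw [Ne, Ideal.span_singleton_eq_top]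
    intro hu
    obtain ⟨u, hu'⟩ := hu.exists_right_inv
    have h1 : (p : ℂ) * (u : ℂ) = 1 := by
      have := congrArg (fun a : AlgInt => (a : ℂ)) hu'
      simpa using this
    have h2 : IsIntegral ℤ ((1 : ℕ) / (p : ℕ) : ℂ) := by
      rw [Nat.cast_one, one_div, inv_eq_of_mul_eq_one_right h1]
      exact u.2
    exact hp.ne_one (Nat.dvd_one.1 (dvd_of_isIntegral_div hp.ne_zero h2))
  obtain ⟨M, hM, hle⟩ := Ideal.exists_le_maximal _ hne
  exact ⟨M, hp, hM, hle (Ideal.subset_span rfl)⟩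

variable {G : Type u} [Group G] [Fintype G] {M : Ideal AlgInt} {p : ℕ}
  {B : Set (IrrCharacter G)}

lemma scaled_reg_eq_sum (hM : IsPModular p M) (hB : IsPBlock M B) [DecidablePred (· ∈ B)]
    {χ : IrrCharacter G} (hχ : χ ∈ B) {k l : ℕ} (hkl : (Nat.card G).factorization p = k + l)
    (c : IrrCharacter G → ℤ) (hc : ∀ ψ ∈ B, regInt p χ ψ = (p : ℤ) ^ l * c ψ) (g : G) :
    (p : ℂ) ^ k * pRegularPart p (χ : G → ℂ) g =
      ∑ ψ ∈ Finset.univ.filter (· ∈ B), (c ψ : ℂ) * (ψ : G → ℂ) g := by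
  have h := pow_mul_pRegularPart_eq_sum hM hB hχ g
  rw [hkl, pow_add, Finset.sum_congr rfl fun ψ hψ => by
    rw [hc ψ (Finset.mem_filter.1 hψ).2, Int.cast_mul, Int.cast_pow, Int.cast_natCast, mul_assoc],
    ← Finset.mul_sum, mul_comm ((p : ℂ) ^ k), mul_assoc] at h
  exact mul_left_cancel₀ (pow_ne_zero _ (Nat.cast_ne_zero.2 hM.1.ne_zero)) h

lemma isGeneralized_scaled_reg (hM : IsPModular p M) {χ : IrrCharacter G} {k l : ℕ}
    (hkl : (Nat.card G).factorization p = k + l) (hl : l ≤ (deg (χ : G → ℂ)).factorization p) :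
    IsGeneralizedCharacter G (fun g => (p : ℂ) ^ k * pRegularPart p (χ : G → ℂ) g) := by
  classical
  set B := blockOf M (χ : G → ℂ) with hB
  have hdvd : ∀ ψ : IrrCharacter G, (p : ℤ) ^ l ∣ regInt p χ ψ := fun ψ => by
    rw [regInt_symm hM.1]
    exact (pow_dvd_pow _ hl).trans (pow_deg_dvd_regInt hM ψ χ)
  choose c hc using hdvd
  have heq : (fun g => (p : ℂ) ^ k * pRegularPart p (χ : G → ℂ) g) =
      ∑ ψ ∈ Finset.univ.filter (· ∈ B), c ψ • (ψ : G → ℂ) := by
    funext g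
    rw [scaled_reg_eq_sum hM (isPBlock_blockOf χ) (mem_blockOf_self hM χ) hkl c (fun ψ _ => hc ψ) g,
      Finset.sum_apply]
    exact Finset.sum_congr rfl fun ψ _ => by rw [Pi.smul_apply, zsmul_eq_mul]
  rw [heq]
  exact IsGeneralizedCharacter.sum _ _ fun ψ _ =>
    IsGeneralizedCharacter.zsmul (IsCharacter.isGeneralized (isCharacter_of_irr ψ.2)) _

lemma not_isGeneralized_scaled_reg (hM : IsPModular p M) (χ : IrrCharacter G) :
    ¬ IsGeneralizedCharacter G (fun g => ((p : ℂ) ^ (Nat.card G).factorization p /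
      (p : ℂ) ^ ((deg (χ : G → ℂ)).factorization p + 1)) * pRegularPart p (χ : G → ℂ) g) := by
  intro h
  have hB := isPBlock_blockOf (M := M) χ
  have hχ := mem_blockOf_self hM χ
  obtain ⟨φ, hφ, hφ0⟩ := exists_height_zero hM hB
  obtain ⟨hne, hν⟩ := regInt_height_zero hM hB hφ hφ0 hχ
  obtain ⟨n, hn⟩ := IsGeneralizedCharacter.exists_mult h φ.2
  rw [show (fun g => ((p : ℂ) ^ (Nat.card G).factorization p /
      (p : ℂ) ^ ((deg (χ : G → ℂ)).factorization p + 1)) * pRegularPart p (χ : G → ℂ) g) =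
    ((p : ℂ) ^ (Nat.card G).factorization p /
      (p : ℂ) ^ ((deg (χ : G → ℂ)).factorization p + 1)) • pRegularPart p (χ : G → ℂ) from rfl,
    classInner_smul_left, div_mul_eq_mul_div, ← regInt_spec hM.1,
    div_eq_iff (pow_ne_zero _ (Nat.cast_ne_zero.2 hM.1.ne_zero))] at hn
  have h2 : regInt p χ φ = n * (p : ℤ) ^ ((deg (χ : G → ℂ)).factorization p + 1) := by
    apply Int.cast_injective (α := ℂ); push_cast; exact hn
  rw [regInt_symm hM.1] at h2
  have h3 : (p : ℤ) ^ ((deg (χ : G → ℂ)).factorization p + 1) ∣ regInt p φ χ :=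
    ⟨n, h2.trans (mul_comm _ _)⟩
  rw [← Nat.cast_pow, Int.natCast_dvd,
    hM.1.pow_dvd_iff_le_factorization (Int.natAbs_ne_zero.2 hne), hν] at h3
  omega

end Cfsg.Lib.Blocks
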