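import Mathlib
import Cfsg.Prelude.Def_Blocks
import Cfsg.Agent.Blocks.Defect

/-!
# Restriction of central elements to subgroups, induced blocks
-/

set_option autoImplicit false
set_option linter.unusedSectionVars false

namespace Cfsg.Lib.Blocks

open Cfsg.Lib.Chars

universe u

variable {G : Type u} [Group G] {R : Type*} [CommRing R]

/-- The part of an element supported on a subgroup, as an element of its group algebra. -/
noncomputable def resElem [Finite G] (H : Subgroup G) (a : MonoidAlgebra R G) :
    MonoidAlgebra R H :=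
  ofFn fun h : H => fn a (h : G)

@[simp] lemma fn_resElem [Finite G] (H : Subgroup G) (a : MonoidAlgebra R G) (h : H) :
    fn (resElem H a) h = fn a (h : G) := by
  simp [resElem]

lemma IsCentralFn.resElem [Finite G] {a : MonoidAlgebra R G} (ha : IsCentralFn a)
    (H : Subgroup G) : IsCentralFn (resElem H a) := fun g h => by
  simp only [fn_resElem, Subgroup.coe_mul, Subgroup.coe_inv]
  exact ha _ _

variable [Fintype G] {M : Ideal AlgInt} {p : ℕ}

lemma Integral.resElem {a : MonoidAlgebra ℂ G} (ha : Integral M a) (H : Subgroup G) :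
    Integral M (resElem H a) := fun h => by
  rw [fn_resElem]; exact ha _

lemma inducedCentralChar_eq_omega (H : Subgroup G) [Fintype H] (ξ : H → ℂ) (g : G) :
    inducedCentralChar H ξ g = omega ξ (resElem H (cls ℂ g)) := by
  classical
  unfold inducedCentralChar
  rw [finsum_mem_eq_sum_of_inter_support_eq _
    (t := Finset.univ.filter fun h : H => IsConj g (h : G)) (by simp), ← Finset.sum_div, omega,
    chiEval, Finset.sum_filter]
  congr 1
  refine Finset.sum_congr rfl fun h _ => ?_
  rw [fn_resElem, fn_cls]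
  split_ifs <;> simp

lemma isAlgebraic_inducedCentralChar (H : Subgroup G) [Fintype H] (ξ : IrrCharacter H) (g : G) :
    IsAlgebraic ℚ (inducedCentralChar H (ξ : H → ℂ) g) := by
  classical
  rw [inducedCentralChar_eq_omega,
    omega_eq_sum_classes _ (isClassFunction_irr ξ) ((isCentralFn_cls g).resElem H)]
  refine isAlgebraic_of_isIntegral (IsIntegral.sum _ fun C _ => ?_)
  refine IsIntegral.mul ?_ (isIntegral_centralChar_irrChar ξ _)
  rw [fn_resElem, fn_cls]
  split_ifs
  exacts [isIntegral_one, isIntegral_zero]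

lemma isAlgebraic_sub {x y : ℂ} (hx : IsAlgebraic ℚ x) (hy : IsAlgebraic ℚ y) :
    IsAlgebraic ℚ (x - y) := hx.sub hy

lemma inducedCentralChar_mem_place (hM : IsPModular p M) (H : Subgroup G) [Fintype H]
    (ξ : IrrCharacter H) (g : G) : inducedCentralChar H (ξ : H → ℂ) g ∈ place M := by
  rw [inducedCentralChar_eq_omega]
  exact omega_mem_place hM ξ ((isCentralFn_cls g).resElem H) ((integral_cls g).resElem H)

lemma res_inducedCentralChar_eq (hM : IsPModular p M) (H : Subgroup G) [Fintype H]
    {b : Set (IrrCharacter H)} (hb : IsPBlock M b) {ξ ξ' : IrrCharacter H} (hξ : ξ ∈ b)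
    (hξ' : ξ' ∈ b) (g : G) :
    res M (inducedCentralChar H (ξ : H → ℂ) g) = res M (inducedCentralChar H (ξ' : H → ℂ) g) := by
  rw [inducedCentralChar_eq_omega, inducedCentralChar_eq_omega]
  exact res_omega_eq_of_sameBlock hM (IsPBlock.sameBlock hM hb hξ hξ')
    ((isCentralFn_cls g).resElem H) ((integral_cls g).resElem H)

/-- It suffices to compare one member of each block. -/
lemma isInducedBlock_iff (hM : IsPModular p M) (H : Subgroup G) [Fintype H]
    {b : Set (IrrCharacter H)} (hb : IsPBlock M b) {B : Set (IrrCharacter G)} (hB : IsPBlock M B)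
    {ξ : IrrCharacter H} (hξ : ξ ∈ b) {χ : IrrCharacter G} (hχ : χ ∈ B) :
    IsInducedBlock M H b B ↔
      ∀ g : G, res M (inducedCentralChar H (ξ : H → ℂ) g) =
        res M (centralChar (χ : G → ℂ) g) := by
  refine ⟨fun h g => ?_, fun h => ⟨hb, hB, fun ξ' hξ' χ' hχ' g => ?_⟩⟩
  · exact (res_eq_iff (inducedCentralChar_mem_place hM H ξ g) (centralChar_mem_place hM χ g)).2
      (small_of_memLocalIdeal hM (h.2.2 ξ hξ χ hχ g))
  · refine memLocalIdeal_of_small hM (isAlgebraic_sub (isAlgebraic_inducedCentralChar H ξ' g)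
      (isAlgebraic_centralChar χ' g)) ?_
    rw [← res_eq_iff (inducedCentralChar_mem_place hM H ξ' g) (centralChar_mem_place hM χ' g),
      res_inducedCentralChar_eq hM H hb hξ' hξ, h g, IsPBlock.res_centralChar_eq hM hB hχ hχ']

/-- A nonzero induced central character comes from a nonzero central character. -/
lemma exists_conj_centralChar_not_small (hM : IsPModular p M) (H : Subgroup G) [Fintype H]
    (ξ : IrrCharacter H) {g : G} (hg : ¬ Small M (inducedCentralChar H (ξ : H → ℂ) g)) :
    ∃ h : H, IsConj g (h : G) ∧ ¬ Small M (centralChar (ξ : H → ℂ) h) := by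
  classical
  rw [inducedCentralChar_eq_omega,
    omega_eq_sum_classes _ (isClassFunction_irr ξ) ((isCentralFn_cls g).resElem H)] at hg
  by_contra hc
  push Not at hc
  refine hg (small_sum _ _ fun C _ => ?_)
  rw [fn_resElem, fn_cls]
  split_ifs with hC
  · rw [one_mul]; exact hc _ hC
  · rw [zero_mul]; exact small_zero

/-- The defect group of `b` is contained in one of the induced block. -/
lemma exists_defectGroup_ge_of_induced (hM : IsPModular p M) (H : Subgroup G)
    {b : Set (IrrCharacter H)} {B : Set (IrrCharacter G)} (hind : IsInducedBlock M H b B)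
    {D : Subgroup H} (hD : IsDefectGroup p M b D) :
    ∃ E : Subgroup G, IsDefectGroup p M B E ∧ D.map H.subtype ≤ E := by
  classical
  haveI := Fact.mk hM.1
  obtain ⟨hb, hB, hcong⟩ := hind
  obtain ⟨ξ, hξ⟩ := IsPBlock.nonempty hM hb
  obtain ⟨χ, hχ⟩ := IsPBlock.nonempty hM hB
  obtain ⟨g, hg⟩ := exists_defectClass hM hB
  obtain ⟨hgc, hgχ⟩ := (isDefectClass_iff hM hB g).1 hg
  have hns : ¬ Small M (inducedCentralChar H (ξ : H → ℂ) g) := fun h => hgχ χ hχ <| by
    simpa using h.sub (small_of_memLocalIdeal hM (hcong ξ hξ χ hχ g))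
  obtain ⟨h, hgh, hh⟩ := exists_conj_centralChar_not_small hM H ξ hns
  obtain ⟨t, hht, htD⟩ := exists_conj_mem_centralizer_defectGroup hM hb hD hξ hh
  have hgt : IsConj g (t : G) := hgh.trans (MonoidHom.map_isConj H.subtype hht)
  obtain ⟨a, ha⟩ := isConj_iff.1 hgt
  have hle : D.map H.subtype ≤ Subgroup.centralizer ({(t : G)} : Set G) := by
    rw [le_centralizer_iff_mem, Subgroup.mem_centralizer_iff]
    rintro _ ⟨x, hx, rfl⟩
    exact congrArg Subtype.val (Subgroup.mem_centralizer_iff.1 htD x hx)
  obtain ⟨S, hS⟩ := exists_sylow_ge ((IsDefectGroup.isPGroup hD).map H.subtype) hle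
  exact ⟨_, ⟨_, ha ▸ IsDefectClass.conj hM hB hg a, S, rfl⟩, hS⟩

end Cfsg.Lib.Blocks
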