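import Mathlib
import Cfsg.Prelude.Def_Blocks
import Cfsg.Agent.Blocks.Feit
import Cfsg.Agent.Blocks.Sub

/-!
# The third main theorem
-/

set_option autoImplicit false
set_option linter.unusedSectionVars false

namespace Cfsg.Lib.Blocks

open scoped ComplexConjugate
open Cfsg.Lib.Chars

universe u

variable {G : Type u} [Group G] [Fintype G] {M : Ideal AlgInt} {p : ℕ}

lemma eq_sum_smul_cls [Fintype (ConjClasses G)] {a : MonoidAlgebra ℂ G} (ha : IsCentralFn a) :
    a = ∑ C : ConjClasses G, fn a (crep C) • cls ℂ (crep C) := by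
  classical
  refine fn_ext fun x => ?_
  rw [fn_sum]
  simp only [fn_smul, fn_cls, mul_ite, mul_one, mul_zero]
  rw [Finset.sum_eq_single (ConjClasses.mk x)]
  · have hx := isConj_crep_mk x
    rw [if_pos hx, ha.apply_isConj hx]
  · intro C _ hC
    rw [if_neg]
    intro hx
    exact hC (by rw [← ConjClasses.mk_eq_mk_iff_isConj.2 hx, mk_crep])
  · intro h; exact absurd (Finset.mem_univ _) h

lemma omega_resElem_eq_sum [Fintype (ConjClasses G)] (H : Subgroup G) [Fintype H] (ξ : H → ℂ)
    {a : MonoidAlgebra ℂ G} (ha : IsCentralFn a) :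
    omega ξ (resElem H a) =
      ∑ C : ConjClasses G, fn a (crep C) * inducedCentralChar H ξ (crep C) := by
  classical
  have hdec : resElem H a = ∑ C : ConjClasses G, fn a (crep C) • resElem H (cls ℂ (crep C)) := by
    refine fn_ext fun h => ?_
    rw [fn_resElem, fn_sum]
    simp only [fn_smul, fn_resElem]
    conv_lhs => rw [eq_sum_smul_cls ha, fn_sum]
    simp only [fn_smul]
  rw [hdec, omega_sum]
  exact Finset.sum_congr rfl fun C _ => by rw [omega_smul, inducedCentralChar_eq_omega]

/-- The congruence defining induced blocks, on all integral central elements. -/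
lemma res_omega_resElem_of_induced (hM : IsPModular p M) (H : Subgroup G) [Fintype H]
    {b : Set (IrrCharacter H)} {B : Set (IrrCharacter G)} (hind : IsInducedBlock M H b B)
    {ξ : IrrCharacter H} (hξ : ξ ∈ b) {φ : IrrCharacter G} (hφ : φ ∈ B)
    {a : MonoidAlgebra ℂ G} (ha : IsCentralFn a) (hai : Integral M a) :
    res M (omega (ξ : H → ℂ) (resElem H a)) = res M (omega (φ : G → ℂ) a) := by
  classical
  rw [omega_resElem_eq_sum H _ ha, omega_eq_sum_classes _ (isClassFunction_irr φ) ha,
    res_sum _ _ fun C _ => mul_mem (hai _) (inducedCentralChar_mem_place hM H ξ _),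
    res_sum _ _ fun C _ => mul_mem (hai _) (centralChar_mem_place hM φ _)]
  refine Finset.sum_congr rfl fun C _ => ?_
  rw [res_mul (hai _) (inducedCentralChar_mem_place hM H ξ _),
    res_mul (hai _) (centralChar_mem_place hM φ _),
    (isInducedBlock_iff hM H hind.1 hind.2.1 hξ hφ).1 hind _]

/-- **The third main theorem**, in its general form. -/
theorem omega_resElem_regElem_of_induced (hM : IsPModular p M) (H : Subgroup G) [Fintype H]
    {b : Set (IrrCharacter H)} {B : Set (IrrCharacter G)} (hind : IsInducedBlock M H b B)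
    {ξ : IrrCharacter H} (hξ : ξ ∈ b) (χ : IrrCharacter G) :
    (χ ∉ B → Small M (omega (ξ : H → ℂ) (resElem H (regElem p χ)))) ∧
    (χ ∈ B → blockHeight p B (χ : G → ℂ) = 0 →
      IsUnitAt M (omega (ξ : H → ℂ) (resElem H (regElem p χ)))) := by
  have hc := isCentralFn_regElem (p := p) χ
  have hi := integral_regElem (p := p) hM χ
  have hmem := omega_mem_place hM ξ (hc.resElem H) (hi.resElem H)
  refine ⟨fun hn => ?_, fun hχ h0 => ?_⟩
  · obtain ⟨φ, hφ⟩ := IsPBlock.nonempty hM hind.2.1
    rw [← res_eq_zero_iff hmem, res_omega_resElem_of_induced hM H hind hξ hφ hc hi]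
    have h := omega_regElem_mul hM.1 χ φ
    rw [regInt_symm hM.1, regInt_eq_zero hM hind.2.1 hφ hn, Int.cast_zero, mul_zero,
      mul_eq_zero] at h
    rw [h.resolve_right (Nat.cast_ne_zero.2 (deg_irr_pos φ).ne'), res_zero]
  · have hu := isUnitAt_omega_regElem hM hind.2.1 hχ h0 hχ
    refine isUnitAt_iff.2 ⟨hmem, fun hs => hu.not_small ?_⟩
    rw [← res_eq_zero_iff (omega_mem_place hM χ hc hi),
      ← res_omega_resElem_of_induced hM H hind hξ hχ hc hi, res_eq_zero_iff hmem]
    exact hs

lemma resElem_regElem (H : Subgroup G) [Fintype H] (χ : IrrCharacter G)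
    (hres : IsIrrCharacter H (fun h : H => (χ : G → ℂ) h)) :
    resElem H (regElem p χ) = regElem p (⟨_, hres⟩ : IrrCharacter H) := by
  classical
  refine fn_ext fun h => ?_
  simp only [fn_resElem, regElem, fn_ofFn, pRegularPart_apply, Subgroup.orderOf_coe]

/-- An irreducible restriction of height zero decides induction. -/
theorem isInducedBlock_blockOf_iff (hM : IsPModular p M) (H : Subgroup G) [Fintype H]
    {χ : IrrCharacter G} (hres : IsIrrCharacter H (fun h : H => (χ : G → ℂ) h))
    (hχ0 : blockHeight p (blockOf M (χ : G → ℂ)) (χ : G → ℂ) = 0)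
    (hψ0 : blockHeight p (blockOf M (fun h : H => (χ : G → ℂ) h))
      (fun h : H => (χ : G → ℂ) h) = 0)
    {e : Set (IrrCharacter H)} (he : InducedBlockDefined M H e) :
    IsInducedBlock M H e (blockOf M (χ : G → ℂ)) ↔
      e = blockOf M (fun h : H => (χ : G → ℂ) h) := by
  obtain ⟨B, hB⟩ := he
  set ψ₀ : IrrCharacter H := ⟨_, hres⟩ with hψ
  have hb₀ : IsPBlock M (blockOf M (ψ₀ : H → ℂ)) := isPBlock_blockOf ψ₀
  obtain ⟨ξ, hξ⟩ := IsPBlock.nonempty hM hB.1
  constructor
  · intro hind
    by_contra hne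
    have hu := (omega_resElem_regElem_of_induced hM H hind hξ χ).2 (mem_blockOf_self hM χ) hχ0
    rw [resElem_regElem H χ hres] at hu
    have hn : ξ ∉ blockOf M (ψ₀ : H → ℂ) := fun h =>
      hne (IsPBlock.eq_of_mem_inter hM hB.1 hb₀ hξ h)
    have h := omega_regElem_mul hM.1 ψ₀ ξ
    rw [regInt_eq_zero hM hb₀ (mem_blockOf_self hM ψ₀) hn, Int.cast_zero, mul_zero,
      mul_eq_zero] at h
    exact hu.ne_zero (h.resolve_right (Nat.cast_ne_zero.2 (deg_irr_pos ξ).ne'))
  · intro heq
    have hu : IsUnitAt M (omega (ξ : H → ℂ) (regElem p ψ₀)) :=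
      isUnitAt_omega_regElem hM hb₀ (mem_blockOf_self hM ψ₀) hψ0 (by rw [heq] at hξ; exact hξ)
    by_cases hχ : χ ∈ B
    · rwa [← IsPBlock.eq_blockOf hM hB.2.1 hχ]
    · refine absurd ((omega_resElem_regElem_of_induced hM H hB hξ χ).1 hχ) ?_
      rw [resElem_regElem H χ hres]
      exact hu.not_small

lemma charDegree_one {H : Type u} [Group H] : charDegree (fun _ : H => (1 : ℂ)) = 1 := by
  simp [charDegree]

lemma blockHeight_one {H : Type u} [Group H] (B : Set (IrrCharacter H)) :
    blockHeight p B (fun _ : H => (1 : ℂ)) = 0 := by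
  simp [blockHeight, charDegree_one]

/-- **Brauer's third main theorem.** -/
theorem isInducedBlock_principal_iff (hM : IsPModular p M) (H : Subgroup G) [Fintype H]
    {b : Set (IrrCharacter H)} (hdef : InducedBlockDefined M H b) :
    IsInducedBlock M H b (principalBlock M G) ↔ b = principalBlock M H :=
  isInducedBlock_blockOf_iff hM H (χ := principal G) (isIrrCharacter_one (G := H))
    (blockHeight_one _) (blockHeight_one _) hdef

/-! ### The Brauer homomorphism at a `p`-subgroup -/

lemma IsCentralFn.pow {a : MonoidAlgebra ℂ G} (ha : IsCentralFn a) :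
    ∀ n : ℕ, IsCentralFn (a ^ n) := fun n => by
  induction n with
  | zero => rw [pow_zero]; exact isCentralFn_one
  | succ n ih => rw [pow_succ]; exact ih.mul ha

lemma Integral.pow {a : MonoidAlgebra ℂ G} (ha : Integral M a) :
    ∀ n : ℕ, Integral M (a ^ n) := fun n => by
  induction n with
  | zero => rw [pow_zero]; exact integral_one
  | succ n ih => rw [pow_succ]; exact ih.mul ha

lemma red_pow {a : MonoidAlgebra ℂ G} (ha : Integral M a) :
    ∀ n : ℕ, red M (a ^ n) = red M a ^ n := fun n => by
  induction n with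
  | zero => rw [pow_zero, pow_zero, red_one]
  | succ n ih => rw [pow_succ, pow_succ, red_mul (ha.pow n) ha, ih]

lemma res_omega_eq_of_red_eq (hM : IsPModular p M) (χ : IrrCharacter G)
    {a b : MonoidAlgebra ℂ G} (ha : IsCentralFn a) (hai : Integral M a) (hb : IsCentralFn b)
    (hbi : Integral M b) (h : red M a = red M b) :
    res M (omega (χ : G → ℂ) a) = res M (omega (χ : G → ℂ) b) := by
  classical
  rw [omega_eq_sum_classes _ (isClassFunction_irr χ) ha,
    omega_eq_sum_classes _ (isClassFunction_irr χ) hb,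
    res_sum _ _ fun C _ => mul_mem (hai _) (centralChar_mem_place hM χ _),
    res_sum _ _ fun C _ => mul_mem (hbi _) (centralChar_mem_place hM χ _)]
  refine Finset.sum_congr rfl fun C _ => ?_
  rw [res_mul (hai _) (centralChar_mem_place hM χ _),
    res_mul (hbi _) (centralChar_mem_place hM χ _), ← fn_red, h, fn_red]

lemma red_resElem_mul (hM : IsPModular p M) {Q : Subgroup G} (hQ : IsPGroup p Q)
    [Fintype (Subgroup.centralizer (Q : Set G))] {a b : MonoidAlgebra ℂ G} (ha : IsCentralFn a)
    (hai : Integral M a) (hb : IsCentralFn b) (hbi : Integral M b) :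
    red M (resElem (Subgroup.centralizer (Q : Set G)) (a * b)) =
      red M (resElem (Subgroup.centralizer (Q : Set G)) a *
        resElem (Subgroup.centralizer (Q : Set G)) b) := by
  classical
  haveI := Fact.mk hM.1
  haveI := charP_res hM
  refine fn_ext fun c => ?_
  rw [red_mul (hai.resElem _) (hbi.resElem _), fn_red, fn_resElem, ← fn_red, red_mul hai hbi,
    fn_mul_centralizer hQ (fun k _ g => (IsCentralFn.red ha) g k)
      (fun k _ g => (IsCentralFn.red hb) g k) c.2, fn_mul,
    Finset.sum_subtype (p := (· ∈ Subgroup.centralizer (Q : Set G)))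
      (Finset.univ.filter (· ∈ Subgroup.centralizer (Q : Set G))) (fun g => by simp)]
  refine Finset.sum_congr rfl fun t _ => ?_
  simp only [fn_red, fn_resElem, Subgroup.coe_mul, Subgroup.coe_inv]

/-- Every block of the centraliser of a `p`-subgroup induces a block. -/
theorem inducedBlockDefined_centralizer (hM : IsPModular p M) {Q : Subgroup G}
    (hQ : IsPGroup p Q) [Fintype (Subgroup.centralizer (Q : Set G))]
    {e : Set (IrrCharacter (Subgroup.centralizer (Q : Set G)))} (he : IsPBlock M e) :
    InducedBlockDefined M (Subgroup.centralizer (Q : Set G)) e := by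
  classical
  set C := Subgroup.centralizer (Q : Set G) with hC
  obtain ⟨ξ, hξ⟩ := IsPBlock.nonempty hM he
  let lam : MonoidAlgebra ℂ G → Res M := fun a => res M (omega (ξ : C → ℂ) (resElem C a))
  have hmem : ∀ a : MonoidAlgebra ℂ G, IsCentralFn a → Integral M a →
      omega (ξ : C → ℂ) (resElem C a) ∈ place M := fun a ha hai =>
    omega_mem_place hM ξ (ha.resElem C) (hai.resElem C)
  have lam_mul : ∀ a b : MonoidAlgebra ℂ G, IsCentralFn a → Integral M a → IsCentralFn b →
      Integral M b → lam (a * b) = lam a * lam b := fun a b ha hai hb hbi => by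
    show res M _ = res M _ * res M _
    rw [res_omega_eq_of_red_eq hM ξ ((ha.mul hb).resElem C) ((hai.mul hbi).resElem C)
      ((ha.resElem C).mul (hb.resElem C)) ((hai.resElem C).mul (hbi.resElem C))
      (red_resElem_mul hM hQ ha hai hb hbi), omega_mul ξ (ha.resElem C),
      res_mul (hmem a ha hai) (hmem b hb hbi)]
  have hone : resElem C (1 : MonoidAlgebra ℂ G) = 1 := fn_ext fun c => by
    rw [fn_resElem, fn_one, fn_one]
    exact if_congr (by rw [← Subtype.coe_inj]; simp) rfl rfl
  have lam_one : lam 1 = 1 := by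
    show res M _ = 1
    rw [hone, omega_one, res_one]
  -- the block idempotents sum to one
  set T : Finset (Set (IrrCharacter G)) :=
    Finset.univ.image fun χ : IrrCharacter G => blockOf M (χ : G → ℂ) with hT
  have hTb : ∀ B ∈ T, IsPBlock M B := fun B hB => by
    obtain ⟨χ, -, rfl⟩ := Finset.mem_image.1 hB
    exact isPBlock_blockOf χ
  have hsum : ∑ B ∈ T, blockElem B = (1 : MonoidAlgebra ℂ G) := by
    refine eq_of_omega_eq (IsCentralFn.sum _ _ fun B _ => isCentralFn_blockElem B)
      isCentralFn_one fun χ => ?_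
    rw [omega_sum, omega_one, Finset.sum_congr rfl fun B _ => omega_blockElem B χ,
      Finset.sum_eq_single (blockOf M (χ : G → ℂ)), if_pos (mem_blockOf_self hM χ)]
    · exact fun B hB hne => if_neg fun h => hne (IsPBlock.eq_blockOf hM (hTb B hB) h)
    · exact fun h => absurd (Finset.mem_image_of_mem _ (Finset.mem_univ χ)) h
  have hlam_sum : ∑ B ∈ T, lam (blockElem B) = 1 := by
    have h : resElem C (∑ B ∈ T, blockElem B) = ∑ B ∈ T, resElem C (blockElem B) :=
      fn_ext fun c => by simp [fn_sum]
    rw [← lam_one]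
    show ∑ B ∈ T, res M _ = res M _
    rw [← hsum, h, omega_sum, res_sum _ _ fun B hB =>
      hmem _ (isCentralFn_blockElem B) (integral_blockElem hM (hTb B hB))]
  obtain ⟨B, hBT, hB0⟩ := Finset.exists_ne_zero_of_sum_ne_zero
    (by rw [hlam_sum]; exact one_ne_zero)
  have hB := hTb B hBT
  refine ⟨B, ?_⟩
  obtain ⟨φ, hφ⟩ := IsPBlock.nonempty hM hB
  refine (isInducedBlock_iff hM C he hB hξ hφ).2 fun g => ?_
  rw [inducedCentralChar_eq_omega, ← omega_cls_irr]
  show lam (cls ℂ g) = _
  have hw := omega_mem_place hM φ (isCentralFn_cls g) (integral_cls (M := M) g)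
  set a' : MonoidAlgebra ℂ G := cls ℂ g - omega (φ : G → ℂ) (cls ℂ g) • 1 with ha'
  have ha'c : IsCentralFn a' := (isCentralFn_cls g).sub (isCentralFn_one.smul _)
  have ha'i : Integral M a' := (integral_cls g).sub (integral_one.smul hw)
  have he' := isCentralFn_blockElem B
  have he'i := integral_blockElem hM hB
  have hsmall : ∀ χ : IrrCharacter G, Small M (omega (χ : G → ℂ) (a' * blockElem B)) := by
    intro χ
    rw [omega_mul χ ha'c, omega_blockElem]
    by_cases hχ : χ ∈ B
    · rw [if_pos hχ, mul_one, ← res_eq_zero_iff (omega_mem_place hM χ ha'c ha'i),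
        res_omega_eq_of_sameBlock hM (IsPBlock.sameBlock hM hB hχ hφ) ha'c ha'i, ha', omega_sub,
        omega_smul, omega_one, mul_one, sub_self, res_zero]
    · rw [if_neg hχ, mul_zero]; exact small_zero
  obtain ⟨n, hn⟩ := isNilpotent_red_of_omega_small hM (ha'c.mul he') (ha'i.mul he'i) hsmall
  have hpow : ∀ k, lam ((a' * blockElem B) ^ k) = lam (a' * blockElem B) ^ k := fun k => by
    induction k with
    | zero => rw [pow_zero, pow_zero, lam_one]
    | succ k ih =>
      rw [pow_succ, pow_succ, lam_mul _ _ ((ha'c.mul he').pow k) ((ha'i.mul he'i).pow k)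
        (ha'c.mul he') (ha'i.mul he'i), ih]
  have hz : lam ((a' * blockElem B) ^ n) = 0 := by
    have hcz := (ha'c.mul he').pow n
    have hiz := (ha'i.mul he'i).pow n
    rw [← res_zero (M := M), ← omega_zero (ξ : C → ℂ)]
    refine res_omega_eq_of_red_eq hM ξ (hcz.resElem C) (hiz.resElem C) isCentralFn_zero
      integral_zero (fn_ext fun c => ?_)
    rw [fn_red, fn_resElem, ← fn_red, red_pow (ha'i.mul he'i), hn, fn_zero, fn_red, fn_zero,
      res_zero]
  rw [hpow] at hz
  have h0 := pow_eq_zero_iff'.1 hz |>.1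
  rw [lam_mul _ _ ha'c ha'i he' he'i, mul_eq_zero] at h0
  have h1 := h0.resolve_right hB0
  have hre : resElem C a' = resElem C (cls ℂ g) - omega (φ : G → ℂ) (cls ℂ g) • 1 := by
    refine fn_ext fun c => ?_
    rw [← hone]
    simp [ha']
  show res M _ = res M _
  change res M _ = 0 at h1
  rw [hre, omega_sub, omega_smul, omega_one, mul_one,
    res_sub (hmem _ (isCentralFn_cls g) (integral_cls g)) hw, sub_eq_zero] at h1
  exact h1

/-- Brauer pairs are exactly the induced blocks of centralisers. -/
theorem brauer_pair_congr_iff (hM : IsPModular p M) {Q : Subgroup G}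
    (hQ : IsPGroup p Q) [Fintype (Subgroup.centralizer (Q : Set G))]
    {e : Set (IrrCharacter (Subgroup.centralizer (Q : Set G)))} (he : IsPBlock M e)
    {B : Set (IrrCharacter G)} (hB : IsPBlock M B) :
    (∀ ξ ∈ e, res M (omega (ξ : _ → ℂ)
      (resElem (Subgroup.centralizer (Q : Set G)) (blockElem B))) = 1) ↔
      IsInducedBlock M (Subgroup.centralizer (Q : Set G)) e B := by
  classical
  obtain ⟨B', hB'⟩ := inducedBlockDefined_centralizer hM hQ he
  obtain ⟨φ, hφ⟩ := IsPBlock.nonempty hM hB'.2.1
  constructor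
  · intro h
    obtain ⟨ξ, hξ⟩ := IsPBlock.nonempty hM he
    have h1 := h ξ hξ
    rw [res_omega_resElem_of_induced hM _ hB' hξ hφ (isCentralFn_blockElem B)
      (integral_blockElem hM hB), omega_blockElem] at h1
    by_cases hin : φ ∈ B
    · rwa [IsPBlock.eq_of_mem_inter hM hB hB'.2.1 hin hφ]
    · rw [if_neg hin, res_zero] at h1
      exact absurd h1 zero_ne_one
  · intro h ξ hξ
    obtain ⟨χ, hχ⟩ := IsPBlock.nonempty hM hB
    rw [res_omega_resElem_of_induced hM _ h hξ hχ (isCentralFn_blockElem B)
      (integral_blockElem hM hB), omega_blockElem, if_pos hχ, res_one]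

end Cfsg.Lib.Blocks
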