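import Mathlib
import Cfsg.Prelude.Def_Characters
import Cfsg.Agent.Chars.Core
import Cfsg.Agent.Chars.Degree
import Cfsg.Agent.Chars.Inertia
import Cfsg.Agent.Blocks.Idem

/-!
# Nilpotent groups are monomial
-/

set_option autoImplicit false
set_option linter.unusedSectionVars false

namespace Cfsg.Lib.Blocks

open scoped ComplexConjugate
open Cfsg.Lib.Chars

universe u

variable {G : Type u} [Group G] [Fintype G]

/-- A character lying over a non-invariant character of a normal subgroup is induced from the
inertia subgroup. -/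
lemma exists_induced_of_not_invariant (N : Subgroup G) [N.Normal] [Fintype N] {χ : G → ℂ}
    (hχ : IsIrrCharacter G χ) {θ : N → ℂ} (hθ : IsIrrCharacter N θ)
    (hc : classInner (fun n : N => χ n) θ ≠ 0) (hne : ∃ g : G, conjN N g θ ≠ θ) :
    ∃ (T : Subgroup G) (ψ : T → ℂ), T ≠ ⊤ ∧ N ≤ T ∧ IsIrrCharacter T ψ ∧ indFun T ψ = χ := by
  classical
  have hθc : IsClassFunction N θ := isClassFunction_isChar (isCharacter_of_irr hθ)
  have hNT := le_inertia hθc
  obtain ⟨ψ, hψ, h1, h2⟩ :=
    exists_constituent_over (inertia N θ) hNT (isCharacter_of_irr hχ) hc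
  refine ⟨inertia N θ, ψ, fun h => ?_, hNT, hψ,
    (clifford_correspondence hθ (inertia N θ) rfl hNT hχ hψ h1 h2).1⟩
  obtain ⟨g, hg⟩ := hne
  exact hg (mem_inertia.1 (h ▸ Subgroup.mem_top g))

/-- Induction commutes with inflation. -/
lemma indFun_comap {Q : Type u} [Group Q] [Fintype Q] (π : G →* Q) (hπ : Function.Surjective π)
    (H : Subgroup Q) (θ : H → ℂ) :
    indFun (H.comap π) (fun x => θ ⟨π x, x.2⟩) = fun g => indFun H θ (π g) := by
  classical
  funext g
  have hext : ∀ y : G, extendByZero (H.comap π) (fun x => θ ⟨π x, x.2⟩) y =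
      extendByZero H θ (π y) := by
    intro y
    by_cases hy : π y ∈ H
    · rw [extendByZero_mem _ (show y ∈ H.comap π from hy), extendByZero_mem θ hy]
    · rw [extendByZero_not_mem _ (show y ∉ H.comap π from hy), extendByZero_not_mem θ hy]
  have hker : ∀ q : Q, (Finset.univ.filter fun x : G => π x = q).card = Nat.card π.ker := by
    intro q
    obtain ⟨a, rfl⟩ := hπ q
    rw [← Fintype.card_subtype, ← Nat.card_eq_fintype_card]
    refine Nat.card_congr
      { toFun := fun x => ⟨a⁻¹ * x.1, by simp [MonoidHom.mem_ker, x.2]⟩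
        invFun := fun k => ⟨a * k.1, by simp [(MonoidHom.mem_ker.1 k.2)]⟩
        left_inv := fun x => by simp
        right_inv := fun k => by simp }
  have hcard : Nat.card (H.comap π) = Nat.card π.ker * Nat.card H := by
    have h := Subgroup.relIndex_comap (H := (⊥ : Subgroup Q)) π (H.comap π)
    rw [MonoidHom.comap_bot, Subgroup.map_comap_eq_self_of_surjective hπ,
      Subgroup.relIndex_bot_left] at h
    have hle : π.ker ≤ H.comap π := fun x hx => by
      rw [Subgroup.mem_comap, MonoidHom.mem_ker.1 hx]; exact H.one_mem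
    rw [← h, ← Subgroup.card_mul_index (π.ker.subgroupOf (H.comap π)),
      Nat.card_congr (Subgroup.subgroupOfEquivOfLe hle).toEquiv]
    rfl
  rw [indFun_apply, indFun_apply, Finset.sum_congr rfl fun x _ => hext (x⁻¹ * g * x),
    ← Finset.sum_fiberwise Finset.univ π]
  have hsum : ∀ q : Q, (∑ x ∈ Finset.univ.filter (fun x : G => π x = q),
      extendByZero H θ (π (x⁻¹ * g * x))) =
      (Nat.card π.ker : ℂ) * extendByZero H θ (q⁻¹ * π g * q) := by
    intro q
    rw [Finset.sum_congr rfl (g := fun _ => extendByZero H θ (q⁻¹ * π g * q)) fun x hx => by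
      rw [map_mul, map_mul, map_inv, (Finset.mem_filter.1 hx).2],
      Finset.sum_const, hker, nsmul_eq_mul]
  rw [Finset.sum_congr rfl fun q _ => hsum q, ← Finset.mul_sum, hcard, Nat.cast_mul, mul_inv,
    mul_comm (Nat.card π.ker : ℂ)⁻¹, mul_assoc,
    inv_mul_cancel_left₀ (Nat.cast_ne_zero.2 Nat.card_pos.ne')]

/-- The property of being induced from a linear character. -/
def IsMonomialChar {G : Type u} [Group G] [Fintype G] (χ : G → ℂ) : Prop :=
  ∃ (H : Subgroup G) (lam : H →* ℂˣ), χ = indFun H (fun h => (lam h : ℂ))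

lemma isMonomial_of_deg_one {χ : G → ℂ} (hχ : IsCharacter G χ) (h1 : χ 1 = 1) :
    IsMonomialChar χ := by
  obtain ⟨f, rfl⟩ := exists_hom_of_deg_one hχ h1
  refine ⟨⊤, f.comp (⊤ : Subgroup G).subtype, ?_⟩
  rw [indFun_top (fun h => ((f.comp (⊤ : Subgroup G).subtype) h : ℂ))
    (isClassFunction_isChar (isCharacter_linear _))]
  rfl

/-- Monomiality passes up along induction. -/
lemma isMonomial_indFun (T : Subgroup G) [Fintype T] {ψ : T → ℂ} (h : IsMonomialChar ψ) :
    IsMonomialChar (indFun T ψ) := by
  classical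
  obtain ⟨H, lam, rfl⟩ := h
  refine ⟨H.map T.subtype,
    lam.comp (H.equivMapOfInjective T.subtype T.subtype_injective).symm.toMonoidHom, ?_⟩
  have hle : H.map T.subtype ≤ T := Subgroup.map_subtype_le H
  rw [← indFun_trans (H.map T.subtype) T hle]
  congr 1
  have hsub : (H.map T.subtype).subgroupOf T = H :=
    Subgroup.comap_map_eq_self_of_injective T.subtype_injective H
  have haux : ∀ (K : Subgroup T) (hK : K = H) (θ : K → ℂ) (θ' : H → ℂ)
      (hθ : ∀ x : K, θ x = θ' ⟨x.1, hK ▸ x.2⟩), indFun K θ = indFun H θ' := by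
    intro K hK θ θ' hθ
    subst hK
    congr 1
    exact funext hθ
  refine (haux _ hsub _ _ fun x => ?_).symm
  have key : ∀ y : H.map T.subtype,
      ((H.equivMapOfInjective T.subtype T.subtype_injective).symm y : T).1 = y.1 := fun y => by
    conv_rhs => rw [← (H.equivMapOfInjective T.subtype T.subtype_injective).apply_symm_apply y]
    rfl
  simp only [MonoidHom.coe_comp, MulEquiv.coe_toMonoidHom, Function.comp_apply]
  congr 2
  exact Subtype.ext (Subtype.ext (key _))

/-- **Nilpotent groups are monomial.** -/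
theorem isMonomial_of_isNilpotent : ∀ (n : ℕ) (G : Type u) [Group G] [Fintype G]
    [Group.IsNilpotent G], Nat.card G = n → ∀ χ : G → ℂ, IsIrrCharacter G χ →
      IsMonomialChar χ := by
  intro n
  induction n using Nat.strong_induction_on with
  | _ n ih =>
  intro G _ _ _ hn χ hχ
  classical
  have hc := isCharacter_of_irr hχ
  by_cases hker : kerSubgroup χ hc = ⊥
  swap
  · -- not faithful: pass to the quotient
    set K := kerSubgroup χ hc with hK
    haveI : K.Normal := kerSubgroup_normal hc
    obtain ⟨m, ρ, hρ, hρc⟩ := hχ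
    have hle : K ≤ ρ.ker := fun a ha => by
      refine (eq_id_of_character_eq_finrank ρ a).1 ?_
      rw [← ρ.char_one, hρc]
      exact (mem_kerSubgroup hc a).1 ha
    letI : Fintype (G ⧸ K) := Fintype.ofFinite _
    let ρ' : Representation ℂ (G ⧸ K) (Fin m → ℂ) := QuotientGroup.lift K ρ hle
    have hχ' : χ = fun g =>
        (Representation.character ρ')
          (QuotientGroup.mk' K g) := by
      rw [← hρc]; rfl
    have hirr' : IsIrrCharacter (G ⧸ K)
        (Representation.character ρ') := by
      refine IsIrrCharacter.descend (isCharacter_character _) (QuotientGroup.mk' K)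
        (QuotientGroup.mk'_surjective K) ?_
      rw [← hχ']
      exact ⟨m, ρ, hρ, hρc⟩
    have hlt : Nat.card (G ⧸ K) < n := by
      rw [← hn]
      have h2 := K.card_mul_index
      have h3 : 1 < Nat.card K := K.one_lt_card_iff_ne_bot.2 hker
      have h4 : (0 : ℕ) < K.index := Nat.pos_of_ne_zero Subgroup.index_ne_zero_of_finite
      show K.index < Nat.card G
      nlinarith
    obtain ⟨H, lam, hH⟩ := ih _ hlt (G ⧸ K) rfl _ hirr'
    refine ⟨H.comap (QuotientGroup.mk' K),
      lam.comp ((QuotientGroup.mk' K).subgroupComap H), ?_⟩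
    rw [hχ']
    refine Eq.trans ?_ (indFun_comap (QuotientGroup.mk' K) (QuotientGroup.mk'_surjective K) H
      (fun h => (lam h : ℂ))).symm
    funext g
    rw [hH]
  · -- faithful
    obtain ⟨m, ρ, hρ, hρc⟩ := hχ
    haveI := hρ
    have hdeg : χ 1 = (m : ℂ) := by rw [← hρc, ρ.char_one, Module.finrank_fin_fun]
    have hscalar : ∀ z ∈ Subgroup.center G, ∃ c : ℂ, ρ z = c • LinearMap.id := fun z hz =>
      schur_scalar ρ (ρ z) fun g v => by
        rw [← Module.End.mul_apply, ← map_mul, ← Subgroup.mem_center_iff.1 hz g, map_mul,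
          Module.End.mul_apply]
    by_cases hab : Subgroup.center G = ⊤
    · refine isMonomial_of_deg_one hc ?_
      have h1 := finrank_dvd_index_of_scalar ρ ⊤ fun z _ => hscalar z (hab ▸ Subgroup.mem_top z)
      rw [Subgroup.index_top, Nat.dvd_one, Module.finrank_fin_fun] at h1
      rw [hdeg, h1, Nat.cast_one]
    · -- a noncentral abelian normal subgroup
      obtain ⟨a, ha2, ha⟩ : ∃ a : G, a ∈ Subgroup.upperCentralSeries G 2 ∧
          a ∉ Subgroup.center G := by
        by_contra h
        push Not at h
        refine hab ?_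
        have h12 : Subgroup.upperCentralSeries G 2 = Subgroup.upperCentralSeries G 1 :=
          le_antisymm (by rw [Subgroup.upperCentralSeries_one]; exact h)
            (Subgroup.upperCentralSeries_mono G (by norm_num))
        have hstab : ∀ k, Subgroup.upperCentralSeries G (k + 1) =
            Subgroup.upperCentralSeries G 1 := by
          intro k
          induction k with
          | zero => rfl
          | succ k ihk =>
            rw [← h12]
            ext x
            rw [Subgroup.mem_upperCentralSeries_succ_iff, Subgroup.mem_upperCentralSeries_succ_iff,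
              ihk]
        obtain ⟨c, hcn⟩ := Group.IsNilpotent.nilpotent G
        rw [← Subgroup.upperCentralSeries_one, eq_top_iff, ← hcn]
        rcases c with _ | c
        · rw [Subgroup.upperCentralSeries_zero]; exact bot_le
        · exact (hstab c).le
      set A : Subgroup G := Subgroup.center G ⊔ Subgroup.zpowers a with hA
      have hcen : Subgroup.center G ≤ A := le_sup_left
      have haA : a ∈ A := le_sup_right (a := Subgroup.center G) (Subgroup.mem_zpowers a)
      have hmemA : ∀ x ∈ A, ∃ z ∈ Subgroup.center G, ∃ i : ℤ, x = z * a ^ i := by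
        intro x hx
        rw [hA, Subgroup.mem_sup_of_normal_left] at hx
        obtain ⟨z, hz, _, ⟨i, rfl⟩, rfl⟩ := hx
        exact ⟨z, hz, i, rfl⟩
      haveI hAn : A.Normal := by
        refine ⟨fun x hx g => ?_⟩
        obtain ⟨z, hz, i, rfl⟩ := hmemA x hx
        have h1 : a * g * a⁻¹ * g⁻¹ ∈ Subgroup.center G := by
          rw [← Subgroup.upperCentralSeries_one]
          exact Subgroup.mem_upperCentralSeries_succ_iff.1 ha2 g
        have h2 : g * a * g⁻¹ ∈ A := by
          have : g * a * g⁻¹ = (a * g * a⁻¹ * g⁻¹)⁻¹ * a := by group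
          rw [this]
          exact A.mul_mem (A.inv_mem (hcen h1)) haA
        rw [show g * (z * a ^ i) * g⁻¹ = z * (g * a * g⁻¹) ^ i by
          rw [conj_zpow, ← mul_assoc g z, Subgroup.mem_center_iff.1 hz g]; group]
        exact A.mul_mem (hcen hz) (A.zpow_mem h2 i)
      have hAab : ∀ x ∈ A, ∀ y ∈ A, x * y = y * x := by
        intro x hx y hy
        obtain ⟨z, hz, i, rfl⟩ := hmemA x hx
        obtain ⟨w, hw, j, rfl⟩ := hmemA y hy
        have e1 := Subgroup.mem_center_iff.1 hz
        have e2 := Subgroup.mem_center_iff.1 hw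
        rw [mul_assoc, ← mul_assoc (a ^ i) w, e2 (a ^ i), mul_assoc w, ← zpow_add, add_comm,
          zpow_add, ← mul_assoc z, ← e1 w]
        rw [mul_assoc w z, ← mul_assoc z, ← e1 (a ^ j)]
        simp [mul_assoc]
      obtain ⟨θ, hθ, hθc⟩ := exists_constituent (N := A) hc
        (IsIrrCharacter.apply_one_ne_zero ⟨m, ρ, hρ, hρc⟩)
      by_cases hinv : ∀ g : G, conjN A g θ = θ
      · exfalso
        obtain ⟨e, he, hres⟩ := restrict_eq_mult_of_invariant A ⟨m, ρ, hρ, hρc⟩ hθ hinv hθc
        have hθ1 : θ 1 = 1 := by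
          obtain ⟨k, σ, hσ, rfl⟩ := hθ
          haveI := hσ
          have h1 := finrank_dvd_index_of_scalar σ ⊤ fun z _ => schur_scalar σ (σ z) fun g v => by
            rw [← Module.End.mul_apply, ← map_mul,
              show z * g = g * z from Subtype.ext (hAab z z.2 g g.2), map_mul, Module.End.mul_apply]
          rw [Subgroup.index_top, Nat.dvd_one] at h1
          rw [σ.char_one, h1, Nat.cast_one]
        refine ha (Subgroup.mem_center_iff.2 fun g => ?_)
        obtain ⟨f, hf⟩ := exists_hom_of_deg_one (isCharacter_of_irr hθ) hθ1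
        have h1 : χ 1 = (e : ℂ) := by
          have := congrFun hres 1
          simpa [hθ1] using this
        have hnorm : ‖ρ.character a‖ = (Module.finrank ℂ (Fin m → ℂ) : ℝ) := by
          have h2 := congrFun hres ⟨a, haA⟩
          rw [hρc, Module.finrank_fin_fun, show χ a = (e : ℂ) * θ ⟨a, haA⟩ from h2, hf, norm_mul,
            Complex.norm_natCast, Complex.norm_eq_one_of_pow_eq_one
              (n := orderOf (⟨a, haA⟩ : A)) ?_ (orderOf_pos _).ne', mul_one]
          · exact_mod_cast (hdeg.symm.trans h1).symm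
          · rw [← Units.val_pow_eq_pow_val, ← map_pow, pow_orderOf_eq_one, map_one, Units.val_one]
        obtain ⟨ω, hω, -⟩ := scalar_of_norm_character_eq ρ a hnorm
        have hker' : g⁻¹ * a⁻¹ * g * a ∈ kerSubgroup χ hc := by
          have hcomm : ρ (g * a) = ρ (a * g) := by
            rw [map_mul, map_mul, hω]
            refine LinearMap.ext fun v => ?_
            simp
          rw [mem_kerSubgroup, ← hρc]
          refine congrArg (fun T => LinearMap.trace ℂ (Fin m → ℂ) T) ?_
          calc ρ (g⁻¹ * a⁻¹ * g * a) = ρ (g⁻¹ * a⁻¹) * ρ (g * a) := by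
                rw [← map_mul]; congr 1; group
            _ = ρ 1 := by rw [hcomm, ← map_mul]; congr 1; group
        rw [hker, Subgroup.mem_bot] at hker'
        calc g * a = a * g * (g⁻¹ * a⁻¹ * g * a) := by group
          _ = a * g := by rw [hker', mul_one]
      · push Not at hinv
        obtain ⟨T, ψ, hT, -, hψ, rfl⟩ :=
          exists_induced_of_not_invariant A ⟨m, ρ, hρ, hρc⟩ hθ hθc hinv
        refine isMonomial_indFun T (ih (Nat.card T) ?_ T rfl ψ hψ)
        rw [← hn]
        exact lt_of_le_of_ne (Subgroup.card_le_card_group T) (fun h => hT (Subgroup.eq_top_of_card_eq T h))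

end Cfsg.Lib.Blocks
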