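import Mathlib
import Cfsg.Prelude.Def_Characters
import Cfsg.Agent.Chars.Gallagher
import Cfsg.Agent.S0873
import Cfsg.Agent.Blocks.Solomon
import Cfsg.Agent.Blocks.Monomial

/-!
# Brauer's induction theorem
-/

set_option autoImplicit false
set_option linter.unusedSectionVars false

namespace Cfsg.Lib.Blocks

open scoped ComplexConjugate
open Cfsg.Lib.Chars

universe u

/-- Quasi-elementary for the prime `q`. -/
def IsQuasiElem {G : Type u} [Group G] (q : ℕ) (H : Subgroup G) : Prop :=
  ∃ C : Subgroup G, C ≤ H ∧ H ≤ Subgroup.normalizer (C : Set G) ∧ IsCyclic C ∧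
    ¬ q ∣ Nat.card C ∧ ∃ k : ℕ, C.relIndex H = q ^ k

/-- The combinations of functions induced from generalized characters of subgroups in a family. -/
noncomputable def indSpan {G : Type u} [Group G] [Fintype G] (P : Subgroup G → Prop) :
    AddSubgroup (G → ℂ) :=
  AddSubgroup.closure {ψ | ∃ (E : Subgroup G) (θ : E → ℂ), P E ∧ IsGeneralizedCharacter E θ ∧
    ψ = indFun E θ}

/-- The combinations of functions induced from linear characters of subgroups in a family. -/
noncomputable def linSpan {G : Type u} [Group G] [Fintype G] (P : Subgroup G → Prop) :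
    AddSubgroup (G → ℂ) :=
  AddSubgroup.closure {ψ | ∃ (E : Subgroup G) (f : E →* ℂˣ), P E ∧
    ψ = indFun E (fun e => (f e : ℂ))}

variable {G : Type u} [Group G] [Fintype G]

lemma indSpan_generalized {P : Subgroup G → Prop} {ψ : G → ℂ} (h : ψ ∈ indSpan P) :
    IsGeneralizedCharacter G ψ := by
  induction h using AddSubgroup.closure_induction with
  | mem ψ h =>
    obtain ⟨E, θ, -, hθ, rfl⟩ := h
    exact IsGeneralizedCharacter.indFun hθ
  | zero => exact isGeneralized_zero
  | add a b _ _ ha hb => exact IsGeneralizedCharacter.add ha hb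
  | neg a _ ha => exact IsGeneralizedCharacter.neg ha

lemma indSpan_mul {P : Subgroup G → Prop} {φ ψ : G → ℂ} (hφ : IsGeneralizedCharacter G φ)
    (hψ : ψ ∈ indSpan P) : φ * ψ ∈ indSpan P := by
  induction hψ using AddSubgroup.closure_induction with
  | mem ψ h =>
    obtain ⟨E, θ, hE, hθ, rfl⟩ := h
    exact AddSubgroup.subset_closure ⟨E, (fun x : E => φ x) * θ, hE,
      IsGeneralizedCharacter.mul (IsGeneralizedCharacter.comp_hom hφ E.subtype) hθ,
      indFun_mul_of_classFunction E θ (isClassFunction_generalized hφ)⟩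
  | zero => rw [mul_zero]; exact zero_mem _
  | add a b _ _ ha hb => rw [mul_add]; exact add_mem ha hb
  | neg a _ ha => rw [mul_neg]; exact neg_mem ha

lemma indFun_transport (T : Subgroup G) [Fintype T] (E : Subgroup T) (θ : E → ℂ) :
    indFun T (indFun E θ) = indFun (E.map T.subtype)
      (fun y => θ ((E.equivMapOfInjective T.subtype T.subtype_injective).symm y)) := by
  classical
  have hle : E.map T.subtype ≤ T := Subgroup.map_subtype_le E
  rw [← indFun_trans (E.map T.subtype) T hle]
  congr 1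
  have hsub : (E.map T.subtype).subgroupOf T = E :=
    Subgroup.comap_map_eq_self_of_injective T.subtype_injective E
  have haux : ∀ (K : Subgroup T) (hK : K = E) (θ₁ : K → ℂ) (θ₂ : E → ℂ)
      (hθ : ∀ x : K, θ₁ x = θ₂ ⟨x.1, hK ▸ x.2⟩), indFun K θ₁ = indFun E θ₂ := by
    intro K hK θ₁ θ₂ hθ
    subst hK
    congr 1
    exact funext hθ
  refine (haux _ hsub _ _ fun x => ?_).symm
  have key : ∀ y : E.map T.subtype,
      ((E.equivMapOfInjective T.subtype T.subtype_injective).symm y : T).1 = y.1 := fun y => by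
    conv_rhs => rw [← (E.equivMapOfInjective T.subtype T.subtype_injective).apply_symm_apply y]
    rfl
  show θ _ = θ _
  congr 1
  exact Subtype.ext (Subtype.ext (key _))

lemma indSpan_indFun (T : Subgroup G) [Fintype T] {P : Subgroup T → Prop} {P' : Subgroup G → Prop}
    (hP : ∀ E, P E → P' (E.map T.subtype)) {ψ : T → ℂ} (hψ : ψ ∈ indSpan P) :
    indFun T ψ ∈ indSpan P' := by
  induction hψ using AddSubgroup.closure_induction with
  | mem ψ h =>
    obtain ⟨E, θ, hE, hθ, rfl⟩ := h
    exact AddSubgroup.subset_closure ⟨_, _, hP E hE, IsGeneralizedCharacter.comp_hom hθ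
      (E.equivMapOfInjective T.subtype T.subtype_injective).symm.toMonoidHom,
      indFun_transport T E θ⟩
  | zero => rw [indFun_zero]; exact zero_mem _
  | add a b _ _ ha hb => rw [indFun_add]; exact add_mem ha hb
  | neg a _ ha => rw [indFun_neg]; exact neg_mem ha

lemma normal_of_le_center' {A : Type u} [Group A] {H : Subgroup A} (h : H ≤ Subgroup.center A) :
    H.Normal :=
  ⟨fun a ha g => by rwa [Subgroup.mem_center_iff.1 (h ha) g, mul_inv_cancel_right]⟩

lemma isElementary_of_mulEquiv {A B : Type u} [Group A] [Group B] {p : ℕ} (e : A ≃* B)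
    (h : IsElementary p A) : IsElementary p B := by
  obtain ⟨x, hx, hco, k, hk⟩ := h
  refine ⟨e x, ?_, by rw [MulEquiv.orderOf_eq]; exact hco, k, ?_⟩
  · rw [Subgroup.mem_center_iff]
    intro b
    obtain ⟨a, rfl⟩ := e.surjective b
    rw [← map_mul, ← map_mul, Subgroup.mem_center_iff.1 hx a]
  · rw [show Subgroup.zpowers (e x) = (Subgroup.zpowers x).map e.toMonoidHom from
      (MonoidHom.map_zpowers e.toMonoidHom x).symm,
      Subgroup.index_map_of_bijective e.bijective, hk]

lemma isElementary_map {T : Subgroup G} {p : ℕ} (E : Subgroup T) (h : IsElementary p E) :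
    IsElementary p (E.map T.subtype) :=
  isElementary_of_mulEquiv (E.equivMapOfInjective T.subtype T.subtype_injective) h

lemma isElementary_subgroup {A : Type u} [Group A] [Finite A] {p : ℕ} (hp : p.Prime)
    (h : IsElementary p A) (B : Subgroup A) : IsElementary p B := by
  obtain ⟨x, hx, hco, k, hk⟩ := h
  set Z := Subgroup.zpowers x
  haveI : Z.Normal := normal_of_le_center' (by rwa [Subgroup.zpowers_le])
  haveI : IsCyclic (Z.subgroupOf B) := isCyclic_of_injective
    ({ toFun := fun w => ⟨((w : B) : A), w.2⟩, map_one' := rfl, map_mul' := fun _ _ => rfl } :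
      Z.subgroupOf B →* Z)
    fun a b hab => Subtype.ext (Subtype.ext (congrArg Subtype.val hab :))
  obtain ⟨⟨⟨y, hyB⟩, hyZ⟩, hy⟩ := IsCyclic.exists_generator (α := Z.subgroupOf B)
  replace hyZ : y ∈ Z := hyZ
  have hgen : Subgroup.zpowers (⟨y, hyB⟩ : B) = Z.subgroupOf B := by
    refine le_antisymm (by rw [Subgroup.zpowers_le]; exact hyZ) fun w hw => ?_
    obtain ⟨i, hi⟩ := Subgroup.mem_zpowers_iff.1 (hy ⟨w, hw⟩)
    exact Subgroup.mem_zpowers_iff.2 ⟨i, congrArg Subtype.val hi⟩
  refine ⟨⟨y, hyB⟩, ?_, ?_, ?_⟩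
  · refine Subgroup.mem_center_iff.2 fun b => Subtype.ext ?_
    obtain ⟨i, hi⟩ := Subgroup.mem_zpowers_iff.1 hyZ
    show (b : A) * y = y * (b : A)
    rw [← hi]
    exact ((show Commute (b : A) x from Subgroup.mem_center_iff.1 hx b).zpow_right i).eq
  · refine Nat.Coprime.coprime_dvd_left ?_ hco
    rw [← Subgroup.orderOf_coe, ← Nat.card_zpowers x]
    show orderOf y ∣ _
    exact (Subgroup.orderOf_mk y hyZ) ▸ orderOf_dvd_natCard (⟨y, hyZ⟩ : Z)
  · rw [hgen]
    have hdvd : Z.relIndex B ∣ p ^ k := hk ▸ Subgroup.relIndex_dvd_index_of_normal Z B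
    obtain ⟨j, -, hj⟩ := (Nat.dvd_prime_pow hp).1 hdvd
    exact ⟨j, hj⟩

lemma isNilpotent_of_isElementary {A : Type u} [Group A] [Finite A] {p : ℕ} (hp : p.Prime)
    (h : IsElementary p A) : Group.IsNilpotent A := by
  obtain ⟨x, hx, -, k, hk⟩ := h
  haveI := Fact.mk hp
  have hle : Subgroup.zpowers x ≤ Subgroup.center A := by rwa [Subgroup.zpowers_le]
  haveI : (Subgroup.zpowers x).Normal := normal_of_le_center' hle
  have : Group.IsNilpotent (A ⧸ Subgroup.zpowers x) :=
    (IsPGroup.of_card (p := p) (n := k) hk).isNilpotent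
  exact Subgroup.isNilpotent_of_ker_le_center (QuotientGroup.mk' (Subgroup.zpowers x))
    (by rwa [QuotientGroup.ker_mk'])

/-- An invariant linear constituent is the scalar by which the normal subgroup acts. -/
lemma apply_mul_of_invariant_linear (N : Subgroup G) [N.Normal] {χ : G → ℂ}
    (hχ : IsIrrCharacter G χ) {f : N →* ℂˣ} {e : ℕ}
    (hres : (fun n : N => χ n) = (e : ℂ) • fun n => (f n : ℂ)) (n : N) (g : G) :
    χ (n * g) = (f n : ℂ) * χ g := by
  obtain ⟨m, ρ, hρ, rfl⟩ := hχ
  haveI := hρ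
  have hn : ∀ n : N, ρ.character (n : G) = (e : ℂ) * (f n : ℂ) := fun n => congrFun hres n
  have he : (Module.finrank ℂ (Fin m → ℂ) : ℂ) = (e : ℂ) := by
    have h := hn 1
    rwa [map_one, Units.val_one, mul_one, OneMemClass.coe_one, ρ.char_one] at h
  have hnorm : ‖ρ.character (n : G)‖ = (Module.finrank ℂ (Fin m → ℂ) : ℝ) := by
    rw [hn, norm_mul, Complex.norm_natCast, Complex.norm_eq_one_of_pow_eq_one
      (n := orderOf n) (by rw [← Units.val_pow_eq_pow_val, ← map_pow, pow_orderOf_eq_one,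
        map_one, Units.val_one]) (orderOf_pos n).ne', mul_one]
    exact_mod_cast (Nat.cast_injective (R := ℂ) he).symm
  obtain ⟨ω, hω, -⟩ := scalar_of_norm_character_eq ρ (n : G) hnorm
  have hmul : ∀ g : G, ρ.character ((n : G) * g) = ω * ρ.character g := fun g => by
    show LinearMap.trace ℂ _ (ρ _) = ω * LinearMap.trace ℂ _ (ρ g)
    rw [map_mul, hω, show (ω • LinearMap.id : (Fin m → ℂ) →ₗ[ℂ] _) * ρ g = ω • ρ g from
      LinearMap.ext fun v => rfl, map_smul, smul_eq_mul]
  have hωf : ω = (f n : ℂ) := by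
    have h := hmul 1
    rw [mul_one, hn, ρ.char_one, he, mul_comm] at h
    exact (mul_right_cancel₀ (he ▸ (Nat.cast_ne_zero.2 (finrank_pos_of_irreducible ρ).ne')) h).symm
  rw [hmul, hωf]

/-- The local theorem: a quasi-elementary group. -/
theorem one_mem_indSpan_elementary : ∀ (n : ℕ) (G : Type u) [Group G] [Fintype G] (q : ℕ)
    (C : Subgroup G), Nat.card G = n → q.Prime → C.Normal → IsCyclic C → ¬ q ∣ Nat.card C →
    (∃ k, C.index = q ^ k) →
    (fun _ : G => (1 : ℂ)) ∈ indSpan (fun E : Subgroup G => IsElementary q E) := by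
  intro n
  induction n using Nat.strong_induction_on with
  | _ n ih =>
  intro G _ _ q C hn hq hCn hCc hqC hk
  classical
  haveI := hCn
  haveI := hCc
  haveI := Fact.mk hq
  obtain ⟨k, hk⟩ := hk
  obtain ⟨S⟩ : Nonempty (Sylow q G) := inferInstance
  set Q : Subgroup G := (S : Subgroup G) with hQ
  have hCab : ∀ a ∈ C, ∀ b ∈ C, a * b = b * a := fun a ha b hb => by
    letI := IsCyclic.commGroup (α := C)
    exact congrArg Subtype.val (mul_comm (⟨a, ha⟩ : C) ⟨b, hb⟩)
  have hdisj : Disjoint C Q := by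
    rw [disjoint_iff_inf_le]
    rintro x ⟨hxC, hxQ⟩
    obtain ⟨j, hj⟩ := IsPGroup.iff_orderOf.1 S.2 ⟨x, hxQ⟩
    rw [← Subgroup.orderOf_coe] at hj
    have h1 : orderOf (⟨x, hxC⟩ : C) ∣ Nat.card C := orderOf_dvd_natCard _
    rw [← Subgroup.orderOf_coe] at h1
    rw [Subgroup.mem_bot, ← orderOf_eq_one_iff]
    exact Nat.eq_one_of_dvd_coprimes (((hq.coprime_iff_not_dvd).2 hqC).pow_left j)
      (dvd_of_eq hj) h1
  have hQcard : Nat.card Q = q ^ k := by
    rw [hQ, S.card_eq_multiplicity, ← C.card_mul_index,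
      Nat.factorization_mul Nat.card_pos.ne' Subgroup.index_ne_zero_of_finite, Finsupp.add_apply,
      Nat.factorization_eq_zero_of_not_dvd hqC, hk, Nat.factorization_pow, Finsupp.smul_apply,
      hq.factorization_self]
    simp
  have hcomp : Subgroup.IsComplement' C Q := Subgroup.isComplement'_of_card_mul_and_disjoint
    (by rw [hQcard, ← hk, C.card_mul_index]) hdisj
  set Z : Subgroup G := C ⊓ Subgroup.centralizer (Q : Set G) with hZ
  haveI : IsCyclic Z :=
    isCyclic_of_injective (Subgroup.inclusion (inf_le_left : Z ≤ C))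
      (Subgroup.inclusion_injective _)
  obtain ⟨z, hzgen⟩ := IsCyclic.exists_generator (α := Z)
  have hzcard : orderOf z = Nat.card Z := orderOf_eq_card_of_forall_mem_zpowers hzgen
  have comm : ∀ (a : Z) (b : Q), Commute (Z.subtype a) (Q.subtype b) := fun a b =>
    (Subgroup.mem_centralizer_iff.1 a.2.2 b.1 b.2).symm
  set φ := MonoidHom.noncommCoprod Z.subtype Q.subtype comm with hφ
  have hφinj : Function.Injective φ := (MonoidHom.noncommCoprod_injective _ _ _).2
    ⟨Subgroup.subtype_injective _, Subgroup.subtype_injective _, by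
      rw [Subgroup.range_subtype, Subgroup.range_subtype]
      exact hdisj.mono_left inf_le_left⟩
  set E : Subgroup G := φ.range with hE
  set eE : Z × Q ≃* E := MonoidHom.ofInjective hφinj with heE
  have hqZ : ¬ q ∣ Nat.card Z := fun h =>
    hqC (h.trans (Subgroup.card_dvd_of_le inf_le_left))
  have hEel : IsElementary q E := by
    refine isElementary_of_mulEquiv eE ⟨(z, 1), ?_, ?_, k, ?_⟩
    · letI := IsCyclic.commGroup (α := Z)
      refine Subgroup.mem_center_iff.2 fun w => Prod.ext ?_ (by simp)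
      exact mul_comm w.1 z
    · rw [Prod.orderOf, orderOf_one, Nat.lcm_one_right, hzcard]
      exact ((hq.coprime_iff_not_dvd).2 hqZ).symm
    · have h := (Subgroup.zpowers ((z, 1) : Z × Q)).card_mul_index
      rw [Nat.card_zpowers, Prod.orderOf, orderOf_one, Nat.lcm_one_right, hzcard, Nat.card_prod,
        hQcard] at h
      exact Nat.eq_of_mul_eq_mul_left Nat.card_pos h
  set π : G → ℂ := indFun E (fun _ => 1) with hπ
  have hπmem : π ∈ indSpan (fun E : Subgroup G => IsElementary q E) :=
    AddSubgroup.subset_closure ⟨E, _, hEel, IsCharacter.isGeneralized isCharacter_one, rfl⟩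
  have hcoef : ∀ χ : IrrCharacter G, classInner π χ =
      (Nat.card E : ℂ)⁻¹ * ∑ e : E, conj ((χ : G → ℂ) e) := fun χ => by
    rw [hπ, frobenius_reciprocity E _ (isClassFunction_irr χ), classInner_def]
    simp only [one_mul]
  have hprin : classInner π (principal G) = 1 := by
    rw [hcoef]
    show (Nat.card E : ℂ)⁻¹ * ∑ _e : E, conj (1 : ℂ) = 1
    rw [map_one, Finset.sum_const, Finset.card_univ, ← Nat.card_eq_fintype_card, nsmul_one,
      inv_mul_cancel₀ (Nat.cast_ne_zero.2 Nat.card_pos.ne')]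
  have hrest : ∀ χ : IrrCharacter G, χ ≠ principal G →
      classInner π χ • (χ : G → ℂ) ∈ indSpan (fun E : Subgroup G => IsElementary q E) := by
    intro χ hne
    obtain ⟨a, ha⟩ := IsCharacter.exists_mult
      (IsCharacter.indFun (H := E) isCharacter_one) χ.2
    by_cases h0 : classInner π χ = 0
    · rw [h0, zero_smul]; exact zero_mem _
    rw [show classInner π χ = (a : ℂ) from ha, Nat.cast_smul_eq_nsmul]
    refine nsmul_mem ?_ a
    have hσ : (∑ w : Z × Q, (χ : G → ℂ) ((w.1 : G) * w.2)) ≠ 0 := by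
      intro hz0
      refine h0 ?_
      rw [hcoef, ← Fintype.sum_equiv eE.toEquiv (fun w => conj ((χ : G → ℂ) (eE w)))
        (fun e => conj ((χ : G → ℂ) e)) fun w => rfl, ← map_sum,
        Finset.sum_congr rfl fun w _ => show (χ : G → ℂ) (eE w) = (χ : G → ℂ) ((w.1 : G) * w.2)
          from rfl, hz0, map_zero, mul_zero]
    have hc := isCharacter_of_irr χ.2
    obtain ⟨θ, hθ, hθc⟩ := exists_constituent (N := C) hc
      (IsIrrCharacter.apply_one_ne_zero χ.2)
    by_cases hinv : ∀ g : G, conjN C g θ = θ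
    · exfalso
      obtain ⟨e, he, hres⟩ := restrict_eq_mult_of_invariant C χ.2 hθ hinv hθc
      have hθ1 : θ 1 = 1 := by
        obtain ⟨m, σ, hσi, rfl⟩ := hθ
        haveI := hσi
        have h1 := finrank_dvd_index_of_scalar σ ⊤ fun w _ => schur_scalar σ (σ w) fun g v => by
          rw [← Module.End.mul_apply, ← map_mul,
            show w * g = g * w from Subtype.ext (hCab w w.2 g g.2), map_mul, Module.End.mul_apply]
        rw [Subgroup.index_top, Nat.dvd_one] at h1
        rw [σ.char_one, h1, Nat.cast_one]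
      obtain ⟨f, hf⟩ := exists_hom_of_deg_one (isCharacter_of_irr hθ) hθ1
      subst hf
      have hmul := apply_mul_of_invariant_linear C χ.2 hres
      have hfZ : ∀ w : Z, (f ⟨w, w.2.1⟩ : ℂ) = 1 := by
        intro w
        have h1 : (∑ v : Z × Q, (χ : G → ℂ) (((w * v.1 : Z) : G) * v.2)) =
            ∑ v : Z × Q, (χ : G → ℂ) ((v.1 : G) * v.2) :=
          Fintype.sum_equiv (Equiv.mulLeft ((w, 1) : Z × Q)) _ _ fun v => by simp
        rw [Finset.sum_congr rfl fun v _ => show (χ : G → ℂ) (((w * v.1 : Z) : G) * v.2) =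
            (f ⟨w, w.2.1⟩ : ℂ) * (χ : G → ℂ) ((v.1 : G) * v.2) by
          rw [Subgroup.coe_mul, mul_assoc]; exact hmul ⟨w, w.2.1⟩ _, ← Finset.mul_sum] at h1
        exact (mul_eq_right₀ hσ).1 h1
      have hf1 : (fun c : C => (f c : ℂ)) = fun _ => 1 :=
        Cfsg.Agent.S0873.result q C Q S.2 ((hq.coprime_iff_not_dvd).2 hqC).symm hcomp.sup_eq_top
          _ ⟨isCharacter_of_irr hθ, hθ1⟩ (fun g c => congrFun (hinv g) c)
          fun c hc' => hfZ ⟨c, c.2, hc'⟩
      have hinv1 : ∀ (c : C) (g : G), (χ : G → ℂ) (c * g) = (χ : G → ℂ) g := fun c g => by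
        rw [hmul, show (f c : ℂ) = 1 from congrFun hf1 c, one_mul]
      have hsum0 : ∑ g : G, (χ : G → ℂ) g = 0 := by
        have h1 := classInner_irr_ne hne
        rw [classInner_def, mul_eq_zero] at h1
        have h2 := h1.resolve_left (inv_ne_zero (Nat.cast_ne_zero.2 Nat.card_pos.ne'))
        simpa [principal] using h2
      have hQ0 : ∑ b : Q, (χ : G → ℂ) b = 0 := by
        rw [← Fintype.sum_equiv (Equiv.ofBijective _ hcomp)
          (fun v : C × Q => (χ : G → ℂ) ((v.1 : G) * v.2)) (fun g => (χ : G → ℂ) g)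
          fun v => rfl, Fintype.sum_prod_type] at hsum0
        simp only [] at hsum0
        have h3 : (∑ _c : C, ∑ b : Q, (χ : G → ℂ) b) = 0 := by
          convert hsum0 using 1
          exact Finset.sum_congr (by ext; simp) fun c _ =>
            Finset.sum_congr (by ext; simp) fun b _ => (hinv1 c b).symm
        rw [Finset.sum_const, nsmul_eq_mul, mul_eq_zero] at h3
        exact h3.resolve_left (Nat.cast_ne_zero.2 Finset.univ_nonempty.card_ne_zero)
      refine hσ ?_
      rw [Fintype.sum_prod_type]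
      refine Finset.sum_eq_zero fun a _ => ?_
      simp only []
      refine Eq.trans (Finset.sum_congr rfl (g := fun b : Q => (χ : G → ℂ) b) fun b _ => ?_) hQ0
      exact hinv1 ⟨a, a.2.1⟩ b
    · push Not at hinv
      obtain ⟨T, ψ, hT, hCT, hψ, hψe⟩ :=
        exists_induced_of_not_invariant C χ.2 hθ hθc hinv
      have hcardC : Nat.card (C.subgroupOf T) = Nat.card C :=
        Nat.card_congr (Subgroup.subgroupOfEquivOfLe hCT).toEquiv
      obtain ⟨j, -, hj⟩ :=
        (Nat.dvd_prime_pow hq).1 (hk ▸ Subgroup.relIndex_dvd_index_of_normal C T)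
      have hlt : Nat.card T < n := hn ▸ lt_of_le_of_ne (Subgroup.card_le_card_group T)
        fun h => hT (Subgroup.eq_top_of_card_eq T h)
      have h1 := ih _ hlt T q (C.subgroupOf T) rfl hq inferInstance
        ((Subgroup.subgroupOfEquivOfLe hCT).isCyclic.2 hCc) (hcardC ▸ hqC) ⟨j, hj⟩
      have h2 := indSpan_mul (IsCharacter.isGeneralized (isCharacter_of_irr hψ)) h1
      rw [show ψ * (fun _ : T => (1 : ℂ)) = ψ by funext x; simp] at h2
      rw [← hψe]
      exact indSpan_indFun T (fun E h => isElementary_map E h) h2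
  have hsum := classFunction_expand (isClassFunction_indFun E (fun _ => (1 : ℂ)))
  rw [← hπ, ← Finset.add_sum_erase _ _ (Finset.mem_univ (principal G)), hprin, one_smul] at hsum
  have h1 : (fun _ : G => (1 : ℂ)) =
      π - ∑ χ ∈ Finset.univ.erase (principal G), classInner π χ • (χ : G → ℂ) :=
    eq_sub_of_add_eq hsum.symm
  rw [h1]
  exact sub_mem hπmem (sum_mem fun χ hχ => hrest χ (Finset.mem_erase.1 hχ).1)

/-- An elementary group, for some prime. -/
def IsElem {G : Type u} [Group G] (E : Subgroup G) : Prop :=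
  ∃ q : ℕ, q.Prime ∧ IsElementary q E

section Global

variable {G : Type u} [Group G] [Fintype G]

lemma list_sum_map_neg {α : Type*} {M : Type*} [AddCommGroup M] (l : List α) (f : α → M) :
    (l.map fun t => -f t).sum = -(l.map f).sum := by
  induction l <;> simp [*, add_comm]

lemma indSpan_mono {P P' : Subgroup G → Prop} (h : ∀ E, P E → P' E) :
    indSpan P ≤ indSpan P' :=
  AddSubgroup.closure_mono fun _ ⟨E, θ, hE, hθ⟩ => ⟨E, θ, h E hE, hθ⟩

/-- The permutation character on a quasi-elementary subgroup comes from elementary subgroups. -/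
lemma indFun_one_mem_indSpan {q : ℕ} (hq : q.Prime) {H : Subgroup G}
    (hH : ∃ C : Subgroup G, C ≤ H ∧ H ≤ Subgroup.normalizer (C : Set G) ∧ IsCyclic C ∧
      ¬ q ∣ Nat.card C ∧ ∃ k : ℕ, C.relIndex H = q ^ k) :
    indFun H (fun _ => (1 : ℂ)) ∈ indSpan (fun E : Subgroup G => IsElementary q E) := by
  classical
  obtain ⟨C, hCH, hHN, hcyc, hqC, hk⟩ := hH
  refine indSpan_indFun H (fun E h => isElementary_map E h)
    (one_mem_indSpan_elementary _ H q (C.subgroupOf H) rfl hq
      (Subgroup.normal_subgroupOf_of_le_normalizer hHN)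
      ((Subgroup.subgroupOfEquivOfLe hCH).isCyclic.2 hcyc) ?_ hk)
  rwa [Nat.card_congr (Subgroup.subgroupOfEquivOfLe hCH).toEquiv]

/-- The principal character is a combination of characters induced from elementary subgroups. -/
theorem one_mem_indSpan_isElem : (fun _ : G => (1 : ℂ)) ∈ indSpan (IsElem (G := G)) := by
  classical
  let S : AddSubgroup (G → ℤ) :=
    (indSpan (IsElem (G := G))).comap (AddMonoidHom.compLeft (Int.castAddHom ℂ) G)
  have hone : (fun _ => (1 : ℤ)) ∈ S := by
    refine one_mem_of_forall_prime S (fun a ha b hb => ?_) fun x q hq => ?_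
    · show (fun g => ((a g * b g : ℤ) : ℂ)) ∈ indSpan (IsElem (G := G))
      rw [show (fun g => ((a g * b g : ℤ) : ℂ)) =
        (fun g => (a g : ℂ)) * (fun g => (b g : ℂ)) by funext g; simp]
      exact indSpan_mul (indSpan_generalized ha) hb
    · obtain ⟨H, hH, hcount⟩ := exists_hyperelementary x hq
      refine ⟨fun g => (fixCount H g : ℤ), ?_, fun hd => hcount (Int.natCast_dvd_natCast.1 hd)⟩
      show (fun g => (((fixCount H g : ℕ) : ℤ) : ℂ)) ∈ indSpan (IsElem (G := G))
      rw [show (fun g => (((fixCount H g : ℕ) : ℤ) : ℂ)) = indFun H (fun _ => (1 : ℂ)) by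
        funext g; rw [indFun_one_eq_fixCount, Int.cast_natCast]]
      exact indSpan_mono (fun E h => ⟨q, hq, h⟩) (indFun_one_mem_indSpan hq hH)
  have h : (fun _ : G => ((1 : ℤ) : ℂ)) ∈ indSpan (IsElem (G := G)) := hone
  simpa using h

/-- **Brauer's characterisation of characters.** -/
theorem isGeneralized_of_elementary {f : G → ℂ} (hf : IsClassFunction G f)
    (h : ∀ E : Subgroup G, IsElem E → IsGeneralizedCharacter E (fun e : E => f e)) :
    IsGeneralizedCharacter G f := by
  have key : ∀ ψ ∈ indSpan (IsElem (G := G)), IsGeneralizedCharacter G (f * ψ) := by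
    intro ψ hψ
    induction hψ using AddSubgroup.closure_induction with
    | mem ψ hh =>
      obtain ⟨H, θ, hH, hθ, rfl⟩ := hh
      rw [indFun_mul_of_classFunction H θ hf]
      exact IsGeneralizedCharacter.indFun (IsGeneralizedCharacter.mul (h H hH) hθ)
    | zero => rw [mul_zero]; exact isGeneralized_zero
    | add a b _ _ ha hb => rw [mul_add]; exact IsGeneralizedCharacter.add ha hb
    | neg a _ ha => rw [mul_neg]; exact IsGeneralizedCharacter.neg ha
  have hfinal := key _ one_mem_indSpan_isElem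
  rwa [show f * (fun _ : G => (1 : ℂ)) = f by funext g; simp] at hfinal

lemma indFun_char_mem_linSpan {E : Subgroup G} [Fintype E] (hE : IsElem E) {θ : E → ℂ}
    (hθ : IsCharacter E θ) : indFun E θ ∈ linSpan (IsElem (G := G)) := by
  classical
  obtain ⟨q, hq, hel⟩ := hE
  haveI := isNilpotent_of_isElementary hq hel
  obtain ⟨m, rfl⟩ := IsCharacter.exists_decomp hθ
  rw [indFun_sum]
  refine sum_mem fun ψ _ => ?_
  rw [← Nat.cast_smul_eq_nsmul ℂ, indFun_smul, Nat.cast_smul_eq_nsmul]
  refine nsmul_mem ?_ _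
  obtain ⟨H, lam, hH⟩ := isMonomial_of_isNilpotent _ E rfl _ ψ.2
  rw [hH, indFun_transport E H]
  exact AddSubgroup.subset_closure ⟨H.map E.subtype,
    lam.comp (H.equivMapOfInjective E.subtype E.subtype_injective).symm.toMonoidHom,
    ⟨q, hq, isElementary_map H (isElementary_subgroup hq hel H)⟩, rfl⟩

/-- **Brauer's induction theorem.** -/
theorem isCharacter_mem_linSpan {χ : G → ℂ} (hχ : IsCharacter G χ) :
    χ ∈ linSpan (IsElem (G := G)) := by
  classical
  have h := indSpan_mul (IsCharacter.isGeneralized hχ) (one_mem_indSpan_isElem (G := G))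
  rw [show χ * (fun _ : G => (1 : ℂ)) = χ by funext g; simp] at h
  clear hχ
  induction h using AddSubgroup.closure_induction with
  | mem ψ hh =>
    obtain ⟨E, θ, hE, ⟨a, b, ha, hb, rfl⟩, rfl⟩ := hh
    rw [indFun_sub]
    exact sub_mem (indFun_char_mem_linSpan hE ha) (indFun_char_mem_linSpan hE hb)
  | zero => exact zero_mem _
  | add a b _ _ ha hb => exact add_mem ha hb
  | neg a _ ha => exact neg_mem ha

lemma linSpan_list {P : Subgroup G → Prop} {ψ : G → ℂ} (h : ψ ∈ linSpan P) :
    ∃ l : List ((E : Subgroup G) × ((E →* ℂˣ) × ℤ)), (∀ t ∈ l, P t.1) ∧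
      ψ = (l.map fun t => (t.2.2 : ℂ) • indFun t.1 (fun e => (t.2.1 e : ℂ))).sum := by
  induction h using AddSubgroup.closure_induction with
  | mem ψ hh =>
    obtain ⟨E, f, hE, rfl⟩ := hh
    exact ⟨[⟨E, f, 1⟩], by simpa using hE, by simp⟩
  | zero => exact ⟨[], by simp, by simp⟩
  | add a b _ _ ha hb =>
    obtain ⟨l, hl, rfl⟩ := ha
    obtain ⟨l', hl', rfl⟩ := hb
    refine ⟨l ++ l', fun t ht => ?_, by simp⟩
    rcases List.mem_append.1 ht with h | h
    · exact hl t h
    · exact hl' t h
  | neg a _ ha =>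
    obtain ⟨l, hl, rfl⟩ := ha
    refine ⟨l.map fun t => ⟨t.1, t.2.1, -t.2.2⟩, fun t ht => ?_, ?_⟩
    · obtain ⟨s, hs, rfl⟩ := List.mem_map.1 ht; exact hl s hs
    · rw [List.map_map]
      simp only [Function.comp_def, Int.cast_neg, neg_smul, list_sum_map_neg]

lemma indSpan_list {P : Subgroup G → Prop} {ψ : G → ℂ} (h : ψ ∈ indSpan P) :
    ∃ l : List ((E : Subgroup G) × ((E → ℂ) × ℤ)),
      (∀ t ∈ l, P t.1 ∧ IsCharacter t.1 t.2.1) ∧
      ψ = (l.map fun t => (t.2.2 : ℂ) • indFun t.1 t.2.1).sum := by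
  induction h using AddSubgroup.closure_induction with
  | mem ψ hh =>
    obtain ⟨E, θ, hE, ⟨a, b, ha, hb, rfl⟩, rfl⟩ := hh
    exact ⟨[⟨E, a, 1⟩, ⟨E, b, -1⟩], by simp [hE, ha, hb], by simp [indFun_sub, indFun_neg, neg_smul, ← sub_eq_add_neg]⟩
  | zero => exact ⟨[], by simp, by simp⟩
  | add a b _ _ ha hb =>
    obtain ⟨l, hl, rfl⟩ := ha
    obtain ⟨l', hl', rfl⟩ := hb
    refine ⟨l ++ l', fun t ht => ?_, by simp⟩
    rcases List.mem_append.1 ht with h | h
    · exact hl t h
    · exact hl' t h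
  | neg a _ ha =>
    obtain ⟨l, hl, rfl⟩ := ha
    refine ⟨l.map fun t => ⟨t.1, t.2.1, -t.2.2⟩, fun t ht => ?_, ?_⟩
    · obtain ⟨s, hs, rfl⟩ := List.mem_map.1 ht; exact hl s hs
    · rw [List.map_map]
      simp only [Function.comp_def, Int.cast_neg, neg_smul, list_sum_map_neg]

end Global

end Cfsg.Lib.Blocks
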