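import Mathlib
import Cfsg.Prelude.Def_Blocks
import Cfsg.Agent.Blocks.Orth2
import Cfsg.Agent.Blocks.Third

/-!
# The second main theorem
-/

set_option autoImplicit false
set_option linter.unusedSectionVars false

namespace Cfsg.Lib.Blocks

open scoped ComplexConjugate
open Cfsg.Lib.Chars

universe u

variable {G : Type u} [Group G] [Fintype G] {M : Ideal AlgInt} {p : ℕ}

/-- An element of the group algebra of a subgroup, inside the group algebra. -/
noncomputable def extElem (H : Subgroup G) (z : MonoidAlgebra ℂ H) : MonoidAlgebra ℂ G :=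
  ofFn (extendByZero H (fn z))

lemma fn_extElem_mem (H : Subgroup G) (z : MonoidAlgebra ℂ H) {c : G} (hc : c ∈ H) :
    fn (extElem H z) c = fn z ⟨c, hc⟩ := by
  rw [extElem, fn_ofFn, extendByZero_mem _ hc]

lemma fn_extElem_not_mem (H : Subgroup G) (z : MonoidAlgebra ℂ H) {c : G} (hc : c ∉ H) :
    fn (extElem H z) c = 0 := by
  rw [extElem, fn_ofFn, extendByZero_not_mem _ hc]

lemma Integral.extElem {H : Subgroup G} [Fintype H] {z : MonoidAlgebra ℂ H} (hz : Integral M z) :
    Integral M (extElem H z) := fun c => by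
  by_cases hc : c ∈ H
  · rw [fn_extElem_mem H z hc]; exact hz _
  · rw [fn_extElem_not_mem H z hc]; exact zero_mem _

lemma fn_mul_extElem (H : Subgroup G) [Fintype H] (a : MonoidAlgebra ℂ G)
    (z : MonoidAlgebra ℂ H) {c : G} (hc : c ∈ H) :
    fn (a * extElem H z) c = fn (resElem H a * z) ⟨c, hc⟩ := by
  classical
  rw [fn_mul, fn_mul, ← Finset.sum_filter_add_sum_filter_not Finset.univ (· ∈ H),
    Finset.sum_eq_zero (s := Finset.univ.filter fun t => ¬ t ∈ H) fun t ht => ?_, add_zero,
    Finset.sum_subtype (p := (· ∈ H)) (Finset.univ.filter (· ∈ H)) (fun g => by simp)]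
  · refine Finset.sum_congr rfl fun t _ => ?_
    rw [fn_resElem, fn_extElem_mem H z (H.mul_mem (H.inv_mem t.2) hc)]
    rfl
  · have ht' := (Finset.mem_filter.1 ht).2
    rw [fn_extElem_not_mem H z fun h => ht' ?_, mul_zero]
    have := H.mul_mem hc (H.inv_mem h)
    rwa [mul_inv_rev, inv_inv, ← mul_assoc, mul_inv_cancel, one_mul] at this

lemma extElem_mul (H : Subgroup G) [Fintype H] (y z : MonoidAlgebra ℂ H) :
    extElem H y * extElem H z = extElem H (y * z) := by
  classical
  refine fn_ext fun c => ?_
  by_cases hc : c ∈ H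
  · rw [fn_mul_extElem H _ z hc, fn_extElem_mem H _ hc,
      show resElem H (extElem H y) = y from fn_ext fun t => by
        rw [fn_resElem, fn_extElem_mem H y t.2]]
  · rw [fn_extElem_not_mem H _ hc, fn_mul, Finset.sum_eq_zero fun t _ => ?_]
    by_cases ht : t ∈ H
    · rw [fn_extElem_not_mem H z fun h => hc ?_, mul_zero]
      simpa using H.mul_mem ht h
    · rw [fn_extElem_not_mem H y ht, zero_mul]

lemma conjElem_extElem (H : Subgroup G) [Fintype H] {z : MonoidAlgebra ℂ H} (hz : IsCentralFn z)
    {g : G} (hg : g ∈ H) : conjElem g (extElem H z) = extElem H z := by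
  refine fn_ext fun c => ?_
  rw [conjElem, fn_ofFn]
  by_cases hc : c ∈ H
  · rw [fn_extElem_mem H z hc,
      fn_extElem_mem H z (H.mul_mem (H.mul_mem (H.inv_mem hg) hc) hg)]
    have := hz ⟨c, hc⟩ ⟨g, hg⟩⁻¹
    rw [inv_inv] at this
    exact this
  · rw [fn_extElem_not_mem H z hc, fn_extElem_not_mem H z fun h => hc ?_]
    have := H.mul_mem (H.mul_mem hg h) (H.inv_mem hg)
    rwa [show g * (g⁻¹ * c * g) * g⁻¹ = c by group] at this

/-- Products of elements fixed by `g` are fixed by `g`. -/
lemma conjElem_mul (g : G) (a b : MonoidAlgebra ℂ G) :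
    conjElem g (a * b) = conjElem g a * conjElem g b := by
  refine fn_ext fun c => ?_
  simp only [conjElem, fn_ofFn, fn_mul]
  refine Fintype.sum_equiv (MulAut.conj g).toEquiv _ _ fun t => ?_
  simp only [MulEquiv.toEquiv_eq_coe, MulEquiv.coe_toEquiv, MulAut.conj_apply]
  congr 1 <;> congr 1 <;> group

lemma small_fn_mul_left {a b : MonoidAlgebra ℂ G} (ha : ∀ g, Small M (fn a g)) (hb : Integral M b)
    (g : G) : Small M (fn (a * b) g) := by
  rw [fn_mul]; exact small_sum _ _ fun t _ => (ha t).mul_mem (hb _)

lemma small_fn_mul_right {a b : MonoidAlgebra ℂ G} (ha : Integral M a) (hb : ∀ g, Small M (fn b g))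
    (g : G) : Small M (fn (a * b) g) := by
  rw [fn_mul]; exact small_sum _ _ fun t _ => (hb _).mem_mul (ha _)

/-- **Trace lemma**: an integral idempotent fixed by `g` and small on the centraliser of the
`p`-part of `g` gives trace zero with `g`. -/
theorem trace_transOp_convOp_eq_zero [DecidableEq G] (hM : IsPModular p M)
    {f : MonoidAlgebra ℂ G} (hfi : Integral M f) (hff : f * f = f) {g x : G}
    (hfg : conjElem g f = f) (hx : IsPPart p g x)
    (hsmall : ∀ c : G, Commute x c → Small M (fn f c)) (h : G) :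
    LinearMap.trace ℂ (G → ℂ) (transOp g h * convOp f) = 0 := by
  classical
  haveI := Fact.mk hM.1
  have hp := hM.1
  by_cases hne : x = 1
  · -- everything is small
    subst hne
    obtain ⟨V, -, hVU, -⟩ := exists_integral_inverse (M := M) (convOp (1 - f))
      (integralEnd_convOp (integral_one.sub hfi)) fun i j => by
        rw [convOp_sub, convOp_one, sub_sub_cancel_left, map_neg, Matrix.neg_apply,
          toMatrix'_convOp]
        exact (hsmall _ (Commute.one_left _)).neg
    have h0 : convOp f = 0 := by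
      calc convOp f = V * convOp (1 - f) * convOp f := by rw [hVU, one_mul]
        _ = 0 := by
          rw [mul_assoc, ← convOp_mul, sub_mul, one_mul, hff, sub_self,
            show convOp (0 : MonoidAlgebra ℂ G) = 0 from
              LinearMap.ext fun v => funext fun a => by simp [convOp_apply], mul_zero]
    rw [h0, mul_zero, map_zero]
  set σ := twoSided g g with hσ
  obtain ⟨φ, hφ⟩ := exists_phase σ p
  have hxg : Commute x g := IsPPart.commute hx
  have hφ' : ∀ a, ¬ Commute x a → φ (σ a) = φ a + 1 := fun a hc => hφ a fun l hl => by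
    by_contra hd
    apply hc
    have hk : a⁻¹ * x * a = x := by
      refine conj_of_fixed hp hx hx (l := l.natAbs) (fun h => hd (Int.natCast_dvd.2 h)) ?_
      rcases Int.natAbs_eq l with h' | h'
      · rwa [h', zpow_natCast] at hl
      · rw [h', zpow_neg, zpow_natCast, Equiv.Perm.inv_eq_iff_eq] at hl
        exact hl.symm
    show x * a = a * x
    nth_rewrite 2 [← hk]
    group
  have hpow : ∀ (n : ℕ) (a : G),
      Commute x (g ^ n * a * (g ^ n)⁻¹) ↔ Commute x a := by
    intro n a
    have hgn : Commute x (g ^ n) := hxg.pow_right n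
    refine ⟨fun hc => ?_, fun hc => (hgn.mul_right hc).mul_right hgn.inv_right⟩
    have := (hgn.inv_right.mul_right hc).mul_right hgn
    rwa [show (g ^ n)⁻¹ * (g ^ n * a * (g ^ n)⁻¹) * g ^ n = a by group] at this
  have hφn : ∀ (n : ℕ) (a : G), ¬ Commute x a → φ ((σ ^ n) a) = φ a + n := by
    intro n
    induction n with
    | zero => intro a _; simp
    | succ n ih =>
      intro a ha
      have hna : ¬ Commute x ((σ ^ n) a) := by rw [hσ, twoSided_pow, hpow]; exact ha
      rw [pow_succ', Equiv.Perm.mul_apply, hφ' _ hna, ih a ha]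
      push_cast; ring
  have hfn : ∀ (n : ℕ) (a : G), fn f ((g ^ n)⁻¹ * a * g ^ n) = fn f a := by
    intro n
    induction n with
    | zero => intro a; simp
    | succ n ih =>
      intro a
      have h1 := congrArg (fun z => fn z ((g ^ n)⁻¹ * a * g ^ n)) hfg
      simp only [conjElem, fn_ofFn] at h1
      rw [show (g ^ (n + 1))⁻¹ * a * g ^ (n + 1) = g⁻¹ * ((g ^ n)⁻¹ * a * g ^ n) * g by
        rw [pow_succ]; group, h1, ih]
  set m : MonoidAlgebra ℂ G := ofFn fun a => if Commute x a then fn f a else 0 with hm
  set f₀ : MonoidAlgebra ℂ G :=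
    ofFn fun a => if Commute x a then 0 else if φ a = 0 then fn f a else 0 with hf₀
  have hms : ∀ a, Small M (fn m a) := fun a => by
    rw [hm, fn_ofFn]
    split_ifs with hc
    · exact hsmall a hc
    · exact small_zero
  have hf₀i : Integral M f₀ := fun a => by
    rw [hf₀, fn_ofFn]; split_ifs
    exacts [zero_mem _, hfi a, zero_mem _]
  set T := transOp g h with hT
  set E := convOp f with hE
  have hN : p ∣ Fintype.card G := dvd_card_of_isPPart_ne_one hp hx hne
  have hle : p ≤ Fintype.card G := Nat.le_of_dvd Fintype.card_pos hN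
  have hTE : T * E = E * T := by rw [hT, hE, transOp_mul_convOp, hfg]
  have hcp : ∀ n, T ^ n * E = E * T ^ n := fun n => (Commute.pow_left hTE n).eq
  have hEE : E * E = E := by rw [hE, ← convOp_mul, hff]
  have hTN : T ^ Fintype.card G = 1 := by rw [hT, transOp, permOp_pow, twoSided_pow_card]; rfl
  have hiter : ∀ (n : ℕ) (c : MonoidAlgebra ℂ G), T ^ n * convOp c =
      convOp (ofFn fun a => fn c ((g ^ n)⁻¹ * a * g ^ n)) * T ^ n := by
    intro n
    induction n with
    | zero =>
      intro c
      rw [pow_zero, one_mul, mul_one]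
      congr 1
      exact fn_ext fun a => by simp
    | succ n ih =>
      intro c
      rw [pow_succ, mul_assoc, hT, transOp_mul_convOp, ← hT, ← mul_assoc, ih, mul_assoc,
        ← pow_succ]
      congr 1
      congr 1
      refine fn_ext fun a => ?_
      rw [fn_ofFn, fn_ofFn, conjElem, fn_ofFn, pow_succ]
      congr 1
      group
  have hfp : (ofFn fun a => fn f₀ ((g ^ p)⁻¹ * a * g ^ p)) = f₀ := by
    refine fn_ext fun a => ?_
    simp only [fn_ofFn, hf₀]
    have hb : g ^ p * ((g ^ p)⁻¹ * a * g ^ p) * (g ^ p)⁻¹ = a := by group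
    set b := (g ^ p)⁻¹ * a * g ^ p with hbdef
    have hiff : Commute x b ↔ Commute x a := by rw [← hb]; exact (hpow p b).symm
    by_cases hca : Commute x a
    · rw [if_pos (hiff.2 hca), if_pos hca]
    · have hcb : ¬ Commute x b := mt hiff.1 hca
      rw [if_neg hcb, if_neg hca]
      have h1 := hφn p b hcb
      rw [hσ, twoSided_pow, hb, ZMod.natCast_self, add_zero] at h1
      have h2 : fn f b = fn f a := hfn p a
      rw [← h1, h2]
  have hdecomp : (∑ i ∈ Finset.range p, ofFn fun a => fn f₀ ((g ^ i)⁻¹ * a * g ^ i)) = f - m := by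
    refine fn_ext fun a => ?_
    rw [fn_sum, fn_sub]
    simp only [fn_ofFn, hf₀, hm]
    have hb : ∀ i, g ^ i * ((g ^ i)⁻¹ * a * g ^ i) * (g ^ i)⁻¹ = a := fun i => by group
    have hiff : ∀ i, Commute x ((g ^ i)⁻¹ * a * g ^ i) ↔ Commute x a := fun i => by
      conv_rhs => rw [← hb i]
      exact (hpow i _).symm
    by_cases hca : Commute x a
    · rw [if_pos hca, sub_self]
      exact Finset.sum_eq_zero fun i _ => by rw [if_pos ((hiff i).2 hca)]
    · rw [if_neg hca, sub_zero]
      refine Eq.trans (Finset.sum_congr rfl fun i _ => ?_) (sum_ite_zmod p (φ a) (fn f a))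
      have hcb := mt (hiff i).1 hca
      rw [if_neg hcb]
      have h1 := hφn i _ hcb
      rw [hσ, twoSided_pow, hb] at h1
      rw [hfn i a, h1]
      by_cases h3 : φ ((g ^ i)⁻¹ * a * g ^ i) = 0
      · simp [h3]
      · rw [if_neg h3, if_neg]
        intro h4
        exact h3 (by simpa using h4)
  have hmg : conjElem g m = m := fn_ext fun a => by
    simp only [conjElem, hm, fn_ofFn]
    have hb : g ^ 1 * (g⁻¹ * a * g) * (g ^ 1)⁻¹ = a := by group
    have hiff : Commute x (g⁻¹ * a * g) ↔ Commute x a := by
      conv_rhs => rw [← hb]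
      exact (hpow 1 _).symm
    have h2 : fn f (g⁻¹ * a * g) = fn f a := by simpa using hfn 1 a
    simp only [hiff, h2]
  have hmi : Integral M m := fun a => (hms a).mem_place
  have hw : conjElem g (f * m * f) = f * m * f := by
    rw [conjElem_mul, conjElem_mul, hfg, hmg]
  refine trace_mul_eq_zero_of_relTrace_congr hM T (E * convOp f₀ * E) E (1 - convOp (f * m * f))
    (hT ▸ integralEnd_permOp _)
    (((integralEnd_convOp hfi).mul (integralEnd_convOp hf₀i)).mul (integralEnd_convOp hfi))
    (by rw [← convOp_one, ← convOp_sub]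
        exact integralEnd_convOp (integral_one.sub ((hfi.mul hmi).mul hfi)))
    ?_ hEE hTE ?_ ?_ ?_ (Fintype.card G) Fintype.card_ne_zero hN (by rw [hTN, one_mul]) ?_ ?_
  · intro a b
    rw [sub_sub_cancel_left, map_neg, Matrix.neg_apply, toMatrix'_convOp]
    exact (small_fn_mul_left (small_fn_mul_right hfi hms) hfi _).neg
  · simp only [mul_assoc, hEE]
    simp only [← mul_assoc, hEE]
  · rw [sub_mul, one_mul, mul_sub, mul_one, hT, transOp_mul_convOp, hw]
  · rw [sub_mul, one_mul, mul_sub, mul_one, hE, ← convOp_mul, ← convOp_mul]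
    rw [show f * m * f * f = f * m * f by rw [mul_assoc, hff],
      show f * (f * m * f) = f * m * f by rw [← mul_assoc, ← mul_assoc, hff]]
  · calc E * convOp f₀ * E * T ^ p = E * convOp f₀ * T ^ p * E := by
          rw [mul_assoc, ← hcp, ← mul_assoc]
      _ = E * (T ^ p * convOp f₀) * E := by rw [hiter p f₀, hfp, mul_assoc E]
      _ = T ^ p * (E * convOp f₀ * E) := by
          rw [← mul_assoc E, ← hcp]; simp only [mul_assoc]
  · calc (∑ i ∈ Finset.range p, T ^ i * (E * convOp f₀ * E) * T ^ (Fintype.card G - i)) * E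
        = E * convOp (∑ i ∈ Finset.range p, ofFn fun a => fn f₀ ((g ^ i)⁻¹ * a * g ^ i)) * E *
            E := by
          refine congrArg (· * E) ?_
          rw [convOp_sum, Finset.mul_sum, Finset.sum_mul]
          refine Finset.sum_congr rfl fun i hi => ?_
          calc T ^ i * (E * convOp f₀ * E) * T ^ (Fintype.card G - i)
              = (T ^ i * E) * convOp f₀ * (E * T ^ (Fintype.card G - i)) := by
                simp only [mul_assoc]
            _ = E * (T ^ i * convOp f₀ * T ^ (Fintype.card G - i)) * E := by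
                rw [hcp i, ← hcp (Fintype.card G - i)]; simp only [mul_assoc]
            _ = _ := by
                rw [hiter, mul_assoc _ (T ^ i), ← pow_add,
                  Nat.add_sub_cancel' (le_trans (Finset.mem_range.1 hi).le hle), hTN, mul_one]
      _ = (1 - convOp (f * m * f)) * E := by
          rw [hdecomp, convOp_sub, hE, ← convOp_sub, ← convOp_mul, ← convOp_mul, ← convOp_mul,
            ← convOp_one, ← convOp_sub, ← convOp_mul]
          congr 1
          rw [mul_sub, sub_mul, sub_mul, sub_mul, one_mul, hff, hff, hff]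

/-- The product of a foreign block idempotent with `b` is small on the centraliser of `x`. -/
lemma small_fn_mul_extElem (hM : IsPModular p M) (H : Subgroup G) [Fintype H]
    {b : Set (IrrCharacter H)} {B B' : Set (IrrCharacter G)} (hind : IsInducedBlock M H b B)
    (hB' : IsPBlock M B') (hne : B' ≠ B) {x : G} (hx : ∃ k : ℕ, orderOf x = p ^ k)
    (hxH : x ∈ H) (hC : Subgroup.centralizer ({x} : Set G) ≤ H) {c : G} (hc : Commute x c) :
    Small M (fn (blockElem B' * extElem H (blockElem b)) c) := by
  classical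
  haveI := Fact.mk hM.1
  haveI := charP_res hM
  set e := blockElem B' with he
  set w := extElem H (blockElem b) with hw
  set f := e * w with hf
  set z := resElem H e * blockElem b with hz
  have hec : IsCentralFn e := isCentralFn_blockElem B'
  have hei : Integral M e := integral_blockElem hM hB'
  have hwi : Integral M w := (integral_blockElem hM hind.1).extElem
  have hfi : Integral M f := hei.mul hwi
  have hzc : IsCentralFn z := (hec.resElem H).mul (isCentralFn_blockElem b)
  have hzi : Integral M z := (hei.resElem H).mul (integral_blockElem hM hind.1)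
  have hff : f * f = f := by
    calc e * w * (e * w) = e * (w * e) * w := by simp only [mul_assoc]
      _ = (e * e) * (w * w) := by rw [← IsCentralFn.comm hec w]; simp only [mul_assoc]
      _ = e * w := by rw [he, hw, blockElem_mul_self, extElem_mul, blockElem_mul_self]
  have hfconj : ∀ g ∈ H, conjElem g f = f := fun g hg => by
    rw [hf, conjElem_mul, conjElem_of_central hec, hw,
      conjElem_extElem H (isCentralFn_blockElem b) hg]
  -- nilpotent in the residue algebra of the subgroup
  have hom : ∀ ψ : IrrCharacter H, Small M (omega (ψ : H → ℂ) z) := by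
    intro ψ
    rw [hz, omega_mul ψ (hec.resElem H), omega_blockElem]
    by_cases hψ : ψ ∈ b
    · rw [if_pos hψ, mul_one,
        ← res_eq_zero_iff (omega_mem_place hM ψ (hec.resElem H) (hei.resElem H))]
      obtain ⟨φ, hφ⟩ := IsPBlock.nonempty hM hind.2.1
      rw [res_omega_resElem_of_induced hM H hind hψ hφ hec hei, omega_blockElem,
        if_neg fun h => hne (IsPBlock.eq_of_mem_inter hM hB' hind.2.1 h hφ), res_zero]
    · rw [if_neg hψ, mul_zero]; exact small_zero
  obtain ⟨n, hn⟩ := isNilpotent_red_of_omega_small hM hzc hzi hom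
  obtain ⟨k, hk⟩ := hx
  have hP : IsPGroup p (Subgroup.zpowers x) :=
    IsPGroup.of_card (n := k) (by rw [Nat.card_zpowers, hk])
  have hord : orderOf (⟨x, hxH⟩ : H) = p ^ k := by rw [← Subgroup.orderOf_coe]; exact hk
  have hP' : IsPGroup p (Subgroup.zpowers (⟨x, hxH⟩ : H)) :=
    IsPGroup.of_card (n := k) (by rw [Nat.card_zpowers, hord])
  have hcen : ∀ {c : G}, c ∈ Subgroup.centralizer (Subgroup.zpowers x : Set G) ↔ Commute x c := by
    intro c
    rw [Subgroup.mem_centralizer_iff]
    refine ⟨fun h => h x (Subgroup.mem_zpowers x), fun h y hy => ?_⟩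
    obtain ⟨i, rfl⟩ := Subgroup.mem_zpowers_iff.1 hy
    exact (h.zpow_left i).eq
  have hinvG : ∀ m : ℕ, ∀ k ∈ Subgroup.zpowers x, ∀ g : G,
      fn (red M (f ^ m)) (k * g * k⁻¹) = fn (red M (f ^ m)) g := by
    intro m k hk g
    have hkH : k⁻¹ ∈ H := H.inv_mem ((Subgroup.zpowers_le.2 hxH) hk)
    have hfm : ∀ m, conjElem k⁻¹ (f ^ m) = f ^ m := fun m => by
      induction m with
      | zero => rw [pow_zero, conjElem_of_central isCentralFn_one]
      | succ m ih => rw [pow_succ, conjElem_mul, ih, hfconj _ hkH]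
    have h1 := congrArg (fun z => fn z g) (hfm m)
    simp only [conjElem, fn_ofFn, inv_inv] at h1
    rw [fn_red, fn_red, h1]
  have hkey : ∀ (m : ℕ) (c : G) (hc : Commute x c),
      fn (red M (f ^ (m + 1))) c = fn (red M (z ^ (m + 1)))
        ⟨c, hC (Subgroup.mem_centralizer_singleton_iff.2 hc.eq.symm)⟩ := by
    intro m
    induction m with
    | zero =>
      intro c hc
      rw [zero_add, pow_one, pow_one, fn_red, fn_red, hf, hw,
        fn_mul_extElem H e _ (hC (Subgroup.mem_centralizer_singleton_iff.2 hc.eq.symm))]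
    | succ m ih =>
      intro c hc
      rw [pow_succ f (m + 1), pow_succ z (m + 1), red_mul (hfi.pow _) hfi,
        red_mul (hzi.pow _) hzi,
        fn_mul_centralizer hP (hinvG (m + 1)) (by simpa using hinvG 1) (hcen.2 hc),
        fn_mul_centralizer (P := Subgroup.zpowers (⟨x, hxH⟩ : H)) hP'
          (fun k _ g => (IsCentralFn.red (hzc.pow (m + 1))) g k)
          (fun k _ g => (IsCentralFn.red hzc) g k)]
      · refine Finset.sum_bij'
          (fun t ht => (⟨t, hC (Subgroup.mem_centralizer_singleton_iff.2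
            (hcen.1 (Finset.mem_filter.1 ht).2).eq.symm)⟩ : H))
          (fun t _ => (t : G)) ?_ ?_ (fun _ _ => rfl) (fun _ _ => rfl) ?_
        · intro t ht
          refine Finset.mem_filter.2 ⟨Finset.mem_univ _, Subgroup.mem_centralizer_iff.2 ?_⟩
          intro y hy
          obtain ⟨i, rfl⟩ := Subgroup.mem_zpowers_iff.1 hy
          exact Subtype.ext
            (by simpa using ((hcen.1 (Finset.mem_filter.1 ht).2).zpow_left i).eq)
        · intro t ht
          refine Finset.mem_filter.2 ⟨Finset.mem_univ _, hcen.2 ?_⟩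
          exact congrArg Subtype.val (Subgroup.mem_centralizer_iff.1 (Finset.mem_filter.1 ht).2 _
            (Subgroup.mem_zpowers (⟨x, hxH⟩ : H)))
        · intro t ht
          have htc : Commute x t := hcen.1 (Finset.mem_filter.1 ht).2
          have htc' : Commute x (t⁻¹ * c) := htc.inv_right.mul_right hc
          rw [ih t htc]
          congr 1
          have h0 := congrArg (fun a => fn (red M a) (t⁻¹ * c)) (pow_one f)
          simp only [fn_red, hf, hw]
          rw [fn_mul_extElem H e _ (hC (Subgroup.mem_centralizer_singleton_iff.2 htc'.eq.symm))]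
          rfl
      · refine Subgroup.mem_centralizer_iff.2 fun y hy => ?_
        obtain ⟨i, rfl⟩ := Subgroup.mem_zpowers_iff.1 hy
        exact Subtype.ext (by simpa using (hc.zpow_left i).eq)
  have hidem : ∀ m : ℕ, f ^ (m + 1) = f := fun m => by
    induction m with
    | zero => rw [zero_add, pow_one]
    | succ m ih => rw [pow_succ, ih, hff]
  rw [← res_eq_zero_iff (hfi c), ← fn_red, ← hidem n, hkey n c hc, red_pow hzi, pow_succ, hn,
    zero_mul, fn_zero]

lemma trace_transOp_mul_extElem [DecidableEq G] (H : Subgroup G) [Fintype H]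
    (B' : Set (IrrCharacter G)) [DecidablePred (· ∈ B')] (z : MonoidAlgebra ℂ H) (g h : G) :
    LinearMap.trace ℂ (G → ℂ) (transOp g h * convOp (blockElem B' * extElem H z)) =
      ∑ χ ∈ Finset.univ.filter (· ∈ B'),
        (∑ k : H, fn z k * (χ : G → ℂ) ((k : G) * g)) * (χ : G → ℂ) h⁻¹ := by
  rw [IsCentralFn.comm (isCentralFn_blockElem B'), trace_transOp_mul_convOp]
  simp only [fn_mul, extElem, fn_ofFn]
  rw [Finset.sum_comm, Finset.sum_congr rfl fun k _ => (Finset.mul_sum _ _ _).symm,
    sum_extendByZero (fn z) (fun k => ∑ a : G, fn (blockElem B') (k⁻¹ * (g⁻¹ * a * h * a⁻¹)))]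
  have : ∀ k : G, (∑ a : G, fn (blockElem B') (k⁻¹ * (g⁻¹ * a * h * a⁻¹))) =
      ∑ χ ∈ Finset.univ.filter (· ∈ B'), (χ : G → ℂ) (g * k) * (χ : G → ℂ) h⁻¹ := fun k => by
    rw [← trace_transOp_blockElem, trace_transOp_mul_convOp]
    refine Finset.sum_congr rfl fun a _ => congrArg _ ?_
    group
  simp only [this, Finset.mul_sum, Finset.sum_mul]
  rw [Finset.sum_comm]
  refine Finset.sum_congr rfl fun χ _ => Finset.sum_congr rfl fun k _ => ?_
  rw [classFunction_mul_comm (isClassFunction_irr χ) g, mul_assoc]

/-- **The second main theorem**, idempotent form. -/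
theorem sum_blockCoeff_mul_eq_zero (hM : IsPModular p M) (H : Subgroup G) [Fintype H]
    {b : Set (IrrCharacter H)} {B : Set (IrrCharacter G)} (hind : IsInducedBlock M H b B)
    (h : H) (hC : ∀ z : G, IsPPart p (h : G) z → Subgroup.centralizer ({z} : Set G) ≤ H)
    {χ : IrrCharacter G} (hχ : χ ∉ B) :
    ∑ k : H, blockCoeff b k * (χ : G → ℂ) ((k : G) * (h : G)) = 0 := by
  classical
  obtain ⟨s, hs⟩ := exists_isPPart hM.1 (h : G)
  set x := (h : G) ^ s with hxdef
  have hxH : x ∈ H := H.pow_mem h.2 s
  have hord : ∃ k : ℕ, orderOf x = p ^ k := by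
    obtain ⟨_, -, -, hk, -⟩ := hs; exact hk
  set B' := blockOf M (χ : G → ℂ) with hB'
  have hB'b : IsPBlock M B' := isPBlock_blockOf χ
  have hne : B' ≠ B := fun he => hχ (he ▸ mem_blockOf_self hM χ)
  set f := blockElem B' * extElem H (blockElem b) with hf
  have hec := isCentralFn_blockElem B'
  have hff : f * f = f := by
    calc blockElem B' * extElem H (blockElem b) * (blockElem B' * extElem H (blockElem b))
        = blockElem B' * (extElem H (blockElem b) * blockElem B') * extElem H (blockElem b) := by
          simp only [mul_assoc]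
      _ = (blockElem B' * blockElem B') * (extElem H (blockElem b) * extElem H (blockElem b)) := by
          rw [← IsCentralFn.comm hec (extElem H (blockElem b))]; simp only [mul_assoc]
      _ = _ := by rw [blockElem_mul_self, extElem_mul, blockElem_mul_self]
  have hfg : conjElem (h : G) f = f := by
    rw [hf, conjElem_mul, conjElem_of_central hec,
      conjElem_extElem H (isCentralFn_blockElem b) h.2]
  set c : IrrCharacter G → ℂ := fun ψ =>
    if ψ ∈ B' then ∑ k : H, blockCoeff b k * (ψ : G → ℂ) ((k : G) * (h : G)) else 0 with hcdef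
  have hθ0 : (∑ ψ : IrrCharacter G, c ψ • (ψ : G → ℂ)) = 0 := funext fun a => by
    have h1 := trace_transOp_convOp_eq_zero hM
      ((integral_blockElem hM hB'b).mul (integral_blockElem hM hind.1).extElem) hff hfg hs
      (fun w hw => small_fn_mul_extElem hM H hind hB'b hne hord hxH (hC x hs) hw) a⁻¹
    rw [trace_transOp_mul_extElem, inv_inv, Finset.sum_filter] at h1
    rw [Finset.sum_apply, Pi.zero_apply, ← h1]
    refine Finset.sum_congr rfl fun ψ _ => ?_
    rw [Pi.smul_apply, smul_eq_mul, hcdef]
    dsimp only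
    split_ifs
    · simp only [fn_blockElem]
    · rw [zero_mul]
  have h2 := classInner_irrSum c χ
  rw [hθ0, classInner_zero_left, hcdef] at h2
  dsimp only at h2
  rw [if_pos (mem_blockOf_self hM χ)] at h2
  exact h2.symm

lemma inducedBlockDefined_of_eq_centralizer (hM : IsPModular p M) {Q : Subgroup G}
    (hQ : IsPGroup p Q) {H : Subgroup G} [Fintype H]
    (hH : H = Subgroup.centralizer (Q : Set G)) {e : Set (IrrCharacter H)} (he : IsPBlock M e) :
    InducedBlockDefined M H e := by
  classical
  subst hH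
  exact inducedBlockDefined_centralizer hM hQ he

lemma centralizer_zpowers (x : G) :
    Subgroup.centralizer (Subgroup.zpowers x : Set G) = Subgroup.centralizer ({x} : Set G) := by
  rw [Subgroup.zpowers_eq_closure, Subgroup.centralizer_closure]

/-- Convolving with the block idempotent is the block projection. -/
lemma sum_blockCoeff_mul_apply (b : Set (IrrCharacter G)) {θ : G → ℂ} (hθ : IsClassFunction G θ)
    (y : G) : ∑ k : G, blockCoeff b k * θ (k * y) = blockPart b θ y := by
  classical
  rw [blockPart_eq_sum, Finset.sum_filter]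
  simp only [classFunction_expand_apply hθ, Finset.mul_sum]
  rw [Finset.sum_comm]
  refine Finset.sum_congr rfl fun ξ _ => ?_
  have h1 : chiEval (ξ : G → ℂ) (blockElem b * MonoidAlgebra.single y 1) =
      ∑ k : G, blockCoeff b k * (ξ : G → ℂ) (k * y) := by
    simp only [chiEval, fn_mul_single, mul_one, fn_blockElem]
    exact Fintype.sum_equiv (Equiv.mulRight y⁻¹) _ _ fun k => by simp
  have h2 : ∑ k : G, blockCoeff b k * (classInner θ (ξ : G → ℂ) * (ξ : G → ℂ) (k * y)) =
      classInner θ (ξ : G → ℂ) * ∑ k : G, blockCoeff b k * (ξ : G → ℂ) (k * y) := by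
    rw [Finset.mul_sum]
    exact Finset.sum_congr rfl fun k _ => by ring
  rw [h2, ← h1, chiEval_central_mul ξ (isCentralFn_blockElem b), chiEval_single, one_mul,
    omega_blockElem]
  split_ifs <;> simp

/-- The function `c ↦ χ (x c)` on the centraliser of `x`. -/
lemma isClassFunction_translate (χ : IrrCharacter G) (x : G) {C : Subgroup G}
    (hC : ∀ c ∈ C, Commute x c) : IsClassFunction C (fun c : C => (χ : G → ℂ) (x * (c : G))) := by
  intro c h
  simp only [Subgroup.coe_mul, Subgroup.coe_inv]
  have : x * ((h : G) * (c : G) * (h : G)⁻¹) = (h : G) * (x * (c : G)) * (h : G)⁻¹ := by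
    rw [← mul_assoc, ← mul_assoc, (hC h h.2).eq, mul_assoc (h : G) x]
  rw [this]
  exact isClassFunction_irr χ _ _

/-- **The second main theorem.** -/
theorem blockPart_translate_eq_zero (hM : IsPModular p M) {x : G}
    (hx : ∃ k : ℕ, orderOf x = p ^ k) {H : Subgroup G} [Fintype H]
    (hH : H = Subgroup.centralizer (Subgroup.zpowers x : Set G))
    {B : Set (IrrCharacter G)} (hB : IsPBlock M B) {χ : IrrCharacter G} (hχ : χ ∈ B)
    {b : Set (IrrCharacter H)} (hb : IsPBlock M b) (hnot : ¬ IsInducedBlock M H b B)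
    (y : H) (hy : ¬ p ∣ orderOf y) :
    blockPart b (fun c : H => (χ : G → ℂ) (x * (c : G))) y = 0 := by
  classical
  haveI := Fact.mk hM.1
  obtain ⟨k, hk⟩ := hx
  have hP : IsPGroup p (Subgroup.zpowers x) :=
    IsPGroup.of_card (n := k) (by rw [Nat.card_zpowers, hk])
  have hH' : H = Subgroup.centralizer ({x} : Set G) := hH.trans (centralizer_zpowers x)
  have hcomm : ∀ c ∈ H, Commute x c := fun c hc => by
    rw [hH', Subgroup.mem_centralizer_singleton_iff] at hc
    exact hc.symm
  have hxH : x ∈ H := by rw [hH', Subgroup.mem_centralizer_singleton_iff]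
  obtain ⟨B₁, hB₁⟩ := inducedBlockDefined_of_eq_centralizer hM hP hH hb
  have hχ₁ : χ ∉ B₁ := fun h => hnot (IsPBlock.eq_of_mem_inter hM hB hB₁.2.1 hχ h ▸ hB₁)
  have hpart : IsPPart p (x * (y : G)) x :=
    isPPart_mul (hcomm y y.2) ⟨k, hk⟩ (by rwa [Subgroup.orderOf_coe])
  have h0 := sum_blockCoeff_mul_eq_zero hM H hB₁ ⟨x * (y : G), H.mul_mem hxH y.2⟩
    (fun z hz => by rw [IsPPart.eq hM.1 hz hpart, hH']) hχ₁
  rw [← sum_blockCoeff_mul_apply b (isClassFunction_translate χ x hcomm) y, ← h0]
  refine Finset.sum_congr rfl fun c _ => ?_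
  congr 2
  simp only [Subgroup.coe_mul]
  rw [← mul_assoc, (hcomm c c.2).eq, mul_assoc]

end Cfsg.Lib.Blocks
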