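import Mathlib
import Cfsg.Prelude.Def_BlockRank
import Cfsg.Agent.Chars.Clifford
import Cfsg.Agent.Blocks.Second

/-!
# Columns of a block at a `p`-section

For a `p`-element `x` with centraliser `C` and a block `b` of `C` inducing `B`, the `b`-parts of
`c ↦ χ (x c)`, `χ ∈ B`, reproduce the kernel of `b` on the regular elements.
-/

set_option autoImplicit false
set_option linter.unusedSectionVars false

namespace Cfsg.Lib.Blocks

open scoped ComplexConjugate
open Cfsg.Lib.Chars

universe u

variable {G : Type u} [Group G] [Fintype G] {M : Ideal AlgInt} {p : ℕ}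

/-- The kernel of a set of characters. -/
noncomputable def colKer (B : Set (IrrCharacter G)) (a c : G) : ℂ := by
  classical
  exact ∑ χ ∈ Finset.univ.filter (· ∈ B), (χ : G → ℂ) a * conj ((χ : G → ℂ) c)

lemma colKer_eq (B : Set (IrrCharacter G)) [DecidablePred (· ∈ B)] (a c : G) :
    colKer B a c = ∑ χ ∈ Finset.univ.filter (· ∈ B), (χ : G → ℂ) a * conj ((χ : G → ℂ) c) := by
  classical
  unfold colKer
  congr! 2

lemma conj_colKer (B : Set (IrrCharacter G)) (a c : G) : conj (colKer B a c) = colKer B c a := by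
  classical
  rw [colKer_eq, colKer_eq, map_sum]
  exact Finset.sum_congr rfl fun χ _ => by rw [map_mul, Complex.conj_conj, mul_comm]

lemma blockPart_eq_colKer (B : Set (IrrCharacter G)) (θ : G → ℂ) (g : G) :
    blockPart B θ g = (Nat.card G : ℂ)⁻¹ * ∑ w, θ w * colKer B g w := by
  classical
  simp only [blockPart_eq_kernel, colKer_eq]

/-- At regular elements a block part only sees the regular values. -/
lemma blockPart_congr_regular (hM : IsPModular p M) {B : Set (IrrCharacter G)}
    (hB : IsPBlock M B) {θ θ' : G → ℂ} (h : ∀ w : G, ¬ p ∣ orderOf w → θ w = θ' w) {g : G}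
    (hg : ¬ p ∣ orderOf g) : blockPart B θ g = blockPart B θ' g := by
  classical
  rw [blockPart_eq_colKer, blockPart_eq_colKer]
  congr 1
  refine Finset.sum_congr rfl fun w _ => ?_
  by_cases hw : p ∣ orderOf w
  · rw [colKer_eq, block_orthogonality_regular hM hB hg hw, mul_zero, mul_zero]
  · rw [h w hw]

lemma blockPart_sum_smul (B : Set (IrrCharacter G)) {ι : Type*} (s : Finset ι) (c : ι → ℂ)
    (f : ι → G → ℂ) (g : G) :
    blockPart B (fun w => ∑ i ∈ s, c i * f i w) g = ∑ i ∈ s, c i * blockPart B (f i) g := by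
  simp only [blockPart_eq_colKer, Finset.sum_mul, Finset.mul_sum]
  rw [Finset.sum_comm]
  exact Finset.sum_congr rfl fun i _ => Finset.sum_congr rfl fun w _ => by ring

lemma blockPart_irrSum (B : Set (IrrCharacter G)) [DecidablePred (· ∈ B)]
    (c : IrrCharacter G → ℂ) (g : G) :
    blockPart B (fun w => ∑ ψ : IrrCharacter G, c ψ * (ψ : G → ℂ) w) g =
      ∑ ψ ∈ Finset.univ.filter (· ∈ B), c ψ * (ψ : G → ℂ) g := by
  rw [blockPart_eq_sum]
  refine Finset.sum_congr rfl fun ψ _ => ?_
  rw [show (fun w => ∑ ψ : IrrCharacter G, c ψ * (ψ : G → ℂ) w) =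
    ∑ ψ : IrrCharacter G, c ψ • (ψ : G → ℂ) from funext fun w => by simp [Finset.sum_apply],
    classInner_irrSum]

/-- The blocks of a group as a finite set. -/
noncomputable def blocksFinset (M : Ideal AlgInt) (G : Type u) [Group G] [Fintype G] :
    Finset (Set (IrrCharacter G)) := by
  classical
  exact Finset.univ.image fun χ : IrrCharacter G => blockOf M (χ : G → ℂ)

lemma mem_blocksFinset (hM : IsPModular p M) {B : Set (IrrCharacter G)} :
    B ∈ blocksFinset M G ↔ IsPBlock M B := by
  classical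
  unfold blocksFinset
  rw [Finset.mem_image]
  constructor
  · rintro ⟨χ, -, rfl⟩; exact isPBlock_blockOf χ
  · intro hB
    obtain ⟨χ, hχ⟩ := IsPBlock.nonempty hM hB
    exact ⟨χ, Finset.mem_univ _, (IsPBlock.eq_blockOf hM hB hχ).symm⟩

/-- A class function is the sum of its block parts. -/
lemma sum_blockPart (hM : IsPModular p M) {θ : G → ℂ} (hθ : IsClassFunction G θ) (g : G) :
    ∑ b ∈ blocksFinset M G, blockPart b θ g = θ g := by
  classical
  rw [classFunction_expand_apply hθ g, ← Finset.sum_fiberwise_of_maps_to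
    (t := blocksFinset M G) (g := fun ψ : IrrCharacter G => blockOf M (ψ : G → ℂ))
    (fun ψ _ => (mem_blocksFinset hM).2 (isPBlock_blockOf ψ))]
  refine Finset.sum_congr rfl fun b hb => ?_
  rw [blockPart_eq_sum]
  refine Finset.sum_congr (Finset.filter_congr fun ψ _ => ⟨fun h => ?_, fun h => ?_⟩) fun _ _ => rfl
  · exact (IsPBlock.eq_blockOf hM ((mem_blocksFinset hM).1 hb) h).symm
  · rw [← h]; exact mem_blockOf_self hM ψ

/-- The induced block is unique. -/
lemma IsInducedBlock.unique (hM : IsPModular p M) {H : Subgroup G} [Fintype H]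
    {b : Set (IrrCharacter H)} {B B' : Set (IrrCharacter G)} (h : IsInducedBlock M H b B)
    (h' : IsInducedBlock M H b B') : B = B' := by
  obtain ⟨ξ, hξ⟩ := IsPBlock.nonempty hM h.1
  obtain ⟨χ, hχ⟩ := IsPBlock.nonempty hM h.2.1
  obtain ⟨χ', hχ'⟩ := IsPBlock.nonempty hM h'.2.1
  have hs : SameBlock M (χ : G → ℂ) (χ' : G → ℂ) := (sameBlock_iff_res hM χ χ').2 fun g => by
    rw [← (isInducedBlock_iff hM H h.1 h.2.1 hξ hχ).1 h g,
      ← (isInducedBlock_iff hM H h'.1 h'.2.1 hξ hχ').1 h' g]
  refine IsPBlock.eq_of_mem_inter hM h.2.1 h'.2.1 (χ := χ') ?_ hχ'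
  rw [IsPBlock.eq_blockOf hM h.2.1 hχ]
  exact hs

section Section'

variable {x : G} {H : Subgroup G} [Fintype H]

lemma commute_of_mem_centralizer (hH : H = Subgroup.centralizer (Subgroup.zpowers x : Set G))
    {c : G} (hc : c ∈ H) : Commute x c := by
  rw [hH, centralizer_zpowers, Subgroup.mem_centralizer_singleton_iff] at hc
  exact hc.symm

lemma second_orthogonality_section (hp : p.Prime) (hx : ∃ k : ℕ, orderOf x = p ^ k)
    (hH : H = Subgroup.centralizer (Subgroup.zpowers x : Set G)) (w y : H)
    (hw : ¬ p ∣ orderOf w) (hy : ¬ p ∣ orderOf y) :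
    ∑ χ : IrrCharacter G, (χ : G → ℂ) (x * (w : G)) * conj ((χ : G → ℂ) (x * (y : G))) =
      ∑ ψ : IrrCharacter H, (ψ : H → ℂ) w * conj ((ψ : H → ℂ) y) := by
  classical
  have hcw := commute_of_mem_centralizer hH w.2
  have hcy := commute_of_mem_centralizer hH y.2
  have hpw : IsPPart p (x * (w : G)) x := isPPart_mul hcw hx (by rwa [Subgroup.orderOf_coe])
  have hpy : IsPPart p (x * (y : G)) x := isPPart_mul hcy hx (by rwa [Subgroup.orderOf_coe])
  have hmem : ∀ a : G, Commute x a → a ∈ H := fun a ha => by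
    rw [hH, centralizer_zpowers, Subgroup.mem_centralizer_singleton_iff]; exact ha.symm
  have hiff : IsConj (x * (w : G)) (x * (y : G)) ↔ IsConj w y := by
    constructor
    · intro h
      obtain ⟨a, ha⟩ := isConj_iff.1 h
      have hax : a * x * a⁻¹ = x := IsPPart.eq hp (ha ▸ IsPPart.conj hpw a) hpy
      have hca : Commute x a := (mul_inv_eq_iff_eq_mul.1 hax).symm
      refine isConj_iff.2 ⟨⟨a, hmem a hca⟩, Subtype.ext ?_⟩
      simp only [Subgroup.coe_mul, Subgroup.coe_inv]
      apply mul_left_cancel (a := x)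
      rw [← ha, ← mul_assoc, ← mul_assoc, hca.eq, mul_assoc a x]
    · intro h
      obtain ⟨a, ha⟩ := isConj_iff.1 h
      refine isConj_iff.2 ⟨(a : G), ?_⟩
      rw [← ha]
      simp only [Subgroup.coe_mul, Subgroup.coe_inv]
      rw [← mul_assoc, ← (commute_of_mem_centralizer hH a.2).eq]
      group
  have hcard : Nat.card (Subgroup.centralizer ({x * (w : G)} : Set G)) =
      Nat.card (Subgroup.centralizer ({w} : Set H)) := by
    have h1 : ∀ a : G, a ∈ Subgroup.centralizer ({x * (w : G)} : Set G) →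
        Commute x a ∧ Commute (w : G) a := by
      intro a ha
      rw [Subgroup.mem_centralizer_singleton_iff] at ha
      have hfix : a * (x * (w : G)) * a⁻¹ = x * (w : G) := mul_inv_eq_iff_eq_mul.2 ha
      have hax : a * x * a⁻¹ = x := IsPPart.eq hp (hfix ▸ IsPPart.conj hpw a) hpw
      have hca : Commute x a := (mul_inv_eq_iff_eq_mul.1 hax).symm
      refine ⟨hca, ?_⟩
      have h3 : x * (a * (w : G)) = x * ((w : G) * a) := by
        rw [← mul_assoc, hca.eq, mul_assoc, ha, mul_assoc]
      exact (mul_left_cancel h3).symm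
    refine Nat.card_congr
      { toFun := fun a => ⟨⟨a.1, hmem a.1 (h1 a.1 a.2).1⟩,
          Subgroup.mem_centralizer_singleton_iff.2 (Subtype.ext (h1 a.1 a.2).2.symm.eq)⟩
        invFun := fun a => ⟨(a.1 : G), Subgroup.mem_centralizer_singleton_iff.2 ?_⟩
        left_inv := fun a => rfl
        right_inv := fun a => rfl }
    have h2 : Commute (a.1 : G) (w : G) :=
      congrArg Subtype.val (Subgroup.mem_centralizer_singleton_iff.1 a.2)
    exact ((commute_of_mem_centralizer hH a.1.2).symm.mul_right h2).eq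
  rw [second_orthogonality, second_orthogonality, hcard]
  by_cases h : IsConj w y
  · rw [if_pos h, if_pos (hiff.2 h)]
  · rw [if_neg h, if_neg (mt hiff.1 h)]

/-- The `b`-parts pair with the columns to give the kernel of `b`. -/
theorem sum_blockPart_mul_conj_apply (hM : IsPModular p M) (hx : ∃ k : ℕ, orderOf x = p ^ k)
    (hH : H = Subgroup.centralizer (Subgroup.zpowers x : Set G))
    {b : Set (IrrCharacter H)} {B : Set (IrrCharacter G)} (hind : IsInducedBlock M H b B)
    [DecidablePred (· ∈ B)] {y w : H} (hy : ¬ p ∣ orderOf y) (hw : ¬ p ∣ orderOf w) :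
    ∑ χ ∈ Finset.univ.filter (· ∈ B), blockPart b (fun c : H => (χ : G → ℂ) (x * (c : G))) y *
      conj ((χ : G → ℂ) (x * (w : G))) = colKer b y w := by
  classical
  rw [Finset.sum_filter]
  have hzero : ∀ χ : IrrCharacter G, χ ∉ B →
      blockPart b (fun c : H => (χ : G → ℂ) (x * (c : G))) y = 0 := fun χ hχ =>
    blockPart_translate_eq_zero hM hx hH (isPBlock_blockOf χ) (mem_blockOf_self hM χ) hind.1
      (fun h => hχ (IsInducedBlock.unique hM hind h ▸ mem_blockOf_self hM χ)) y hy
  rw [Finset.sum_congr rfl fun χ _ => show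
      (if χ ∈ B then blockPart b (fun c : H => (χ : G → ℂ) (x * (c : G))) y *
        conj ((χ : G → ℂ) (x * (w : G))) else 0) =
      conj ((χ : G → ℂ) (x * (w : G))) * blockPart b (fun c : H => (χ : G → ℂ) (x * (c : G))) y by
    split_ifs with h
    · rw [mul_comm]
    · rw [hzero χ h, mul_zero],
    ← blockPart_sum_smul,
    blockPart_congr_regular hM hind.1 (θ' := fun c : H => ∑ ψ : IrrCharacter H,
      conj ((ψ : H → ℂ) w) * (ψ : H → ℂ) c) (fun c hc => ?_) hy, blockPart_irrSum, colKer_eq]
  · exact Finset.sum_congr rfl fun ψ _ => mul_comm _ _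
  · rw [Finset.sum_congr rfl fun (χ : IrrCharacter G) _ => mul_comm (conj ((χ : G → ℂ) (x * (w : G)))) _,
      second_orthogonality_section hM.1 hx hH c w hc hw]
    exact Finset.sum_congr rfl fun ψ _ => mul_comm _ _

/-- The `b`-parts reproduce the kernel of `b`. -/
theorem sum_blockPart_mul_conj_blockPart (hM : IsPModular p M)
    (hx : ∃ k : ℕ, orderOf x = p ^ k)
    (hH : H = Subgroup.centralizer (Subgroup.zpowers x : Set G))
    {b : Set (IrrCharacter H)} {B : Set (IrrCharacter G)} (hind : IsInducedBlock M H b B)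
    [DecidablePred (· ∈ B)] {y w : H} (hy : ¬ p ∣ orderOf y) (hw : ¬ p ∣ orderOf w) :
    ∑ χ ∈ Finset.univ.filter (· ∈ B), blockPart b (fun c : H => (χ : G → ℂ) (x * (c : G))) y *
      conj (blockPart b (fun c : H => (χ : G → ℂ) (x * (c : G))) w) = colKer b y w := by
  classical
  set θ : IrrCharacter G → H → ℂ := fun χ c => (χ : G → ℂ) (x * (c : G)) with hθ
  have h1 : ∀ χ : IrrCharacter G, conj (blockPart b (θ χ) w) =
      (Nat.card H : ℂ)⁻¹ * ∑ v : H, conj (θ χ v) * colKer b v w := fun χ => by
    rw [blockPart_eq_colKer, map_mul, map_inv₀, map_natCast, map_sum]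
    congr 1
    exact Finset.sum_congr rfl fun v _ => by rw [map_mul, conj_colKer]
  have h2 : blockPart b (fun v => colKer b v w) y = colKer b y w := by
    rw [show (fun v => colKer b v w) = fun v => ∑ ψ : IrrCharacter H,
      (if ψ ∈ b then conj ((ψ : H → ℂ) w) else 0) * (ψ : H → ℂ) v from funext fun v => by
        rw [colKer_eq, Finset.sum_filter]
        exact Finset.sum_congr rfl fun ψ _ => by split_ifs <;> ring,
      blockPart_irrSum, colKer_eq]
    exact Finset.sum_congr rfl fun ψ hψ => by
      rw [if_pos (Finset.mem_filter.1 hψ).2, mul_comm]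
  refine Eq.trans (Finset.sum_congr rfl fun χ _ =>
    congrArg (blockPart b (θ χ) y * ·) (h1 χ)) ?_
  rw [← h2, blockPart_eq_colKer b (fun v => colKer b v w)]
  simp only [Finset.mul_sum]
  rw [Finset.sum_comm]
  refine Finset.sum_congr rfl fun v _ => ?_
  by_cases hv : p ∣ orderOf v
  · have hz1 : colKer b v w = 0 := by
      rw [colKer_eq]; exact block_orthogonality_regular' hM hind.1 hv hw
    simp [hz1]
  · have h4 := sum_blockPart_mul_conj_apply hM hx hH hind hy hv
    rw [Finset.sum_congr rfl fun χ _ => show blockPart b (θ χ) y *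
      ((Nat.card H : ℂ)⁻¹ * (conj (θ χ v) * colKer b v w)) =
      ((Nat.card H : ℂ)⁻¹ * colKer b v w) * (blockPart b (θ χ) y * conj (θ χ v)) by ring,
      ← Finset.mul_sum, h4]
    ring

/-- Only the blocks inducing the block of `χ` contribute. -/
lemma apply_mul_eq_sum_blockPart (hM : IsPModular p M) (hx : ∃ k : ℕ, orderOf x = p ^ k)
    (hH : H = Subgroup.centralizer (Subgroup.zpowers x : Set G)) {B : Set (IrrCharacter G)}
    (hB : IsPBlock M B) [DecidablePred fun b => IsInducedBlock M H b B] {χ : IrrCharacter G}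
    (hχ : χ ∈ B) {y : H} (hy : ¬ p ∣ orderOf y) :
    (χ : G → ℂ) (x * (y : G)) =
      ∑ b ∈ (blocksFinset M H).filter (fun b => IsInducedBlock M H b B),
        blockPart b (fun c : H => (χ : G → ℂ) (x * (c : G))) y := by
  classical
  rw [← sum_blockPart hM (isClassFunction_translate χ x
    fun c hc => commute_of_mem_centralizer hH hc) y]
  refine (Finset.sum_subset (Finset.filter_subset _ _) fun b hb hb' => ?_).symm
  exact blockPart_translate_eq_zero hM hx hH hB hχ ((mem_blocksFinset hM).1 hb)
    (fun h => hb' (Finset.mem_filter.2 ⟨hb, h⟩)) y hy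

/-- Column products of a block in a `p`-section. -/
theorem colKer_section (hM : IsPModular p M) (hx : ∃ k : ℕ, orderOf x = p ^ k)
    (hH : H = Subgroup.centralizer (Subgroup.zpowers x : Set G)) {B : Set (IrrCharacter G)}
    (hB : IsPBlock M B) [DecidablePred fun b => IsInducedBlock M H b B] {y w : H}
    (hy : ¬ p ∣ orderOf y) (hw : ¬ p ∣ orderOf w) :
    colKer B (x * (y : G)) (x * (w : G)) =
      ∑ b ∈ (blocksFinset M H).filter (fun b => IsInducedBlock M H b B), colKer b y w := by
  classical
  rw [colKer_eq, Finset.sum_congr rfl fun χ hχ => by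
    rw [apply_mul_eq_sum_blockPart hM hx hH hB (Finset.mem_filter.1 hχ).2 hy, Finset.sum_mul],
    Finset.sum_comm]
  exact Finset.sum_congr rfl fun b hb =>
    sum_blockPart_mul_conj_apply hM hx hH (Finset.mem_filter.1 hb).2 hy hw

/-- Over the principal block there is only the principal block. -/
lemma filter_induced_principal (hM : IsPModular p M) (hx : ∃ k : ℕ, orderOf x = p ^ k)
    (hH : H = Subgroup.centralizer (Subgroup.zpowers x : Set G))
    [DecidablePred fun b => IsInducedBlock M H b (principalBlock M G)] :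
    (blocksFinset M H).filter (fun b => IsInducedBlock M H b (principalBlock M G)) =
      {principalBlock M H} := by
  classical
  haveI := Fact.mk hM.1
  obtain ⟨k, hk⟩ := hx
  have hP : IsPGroup p (Subgroup.zpowers x) :=
    IsPGroup.of_card (n := k) (by rw [Nat.card_zpowers, hk])
  ext b
  rw [Finset.mem_filter, Finset.mem_singleton, mem_blocksFinset hM]
  constructor
  · rintro ⟨-, h⟩
    exact (isInducedBlock_principal_iff hM H ⟨_, h⟩).1 h
  · rintro rfl
    have hb : IsPBlock M (principalBlock M H) := isPBlock_blockOf (principal H)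
    exact ⟨hb, (isInducedBlock_principal_iff hM H
      (inducedBlockDefined_of_eq_centralizer hM hP hH hb)).2 rfl⟩

end Section'

/-! ### The kernel of the principal block -/

/-- The principal block is trivial on normal subgroups of order prime to `p`. -/
theorem apply_eq_of_mem_normal_pPrime (hM : IsPModular p M) (K : Subgroup G) [K.Normal]
    (hK : ¬ p ∣ Nat.card K) {χ : IrrCharacter G} (hχ : χ ∈ principalBlock M G) {k : G}
    (hk : k ∈ K) : (χ : G → ℂ) k = (χ : G → ℂ) 1 := by
  classical
  set e : MonoidAlgebra ℂ G := ofFn fun g => if g ∈ K then (Nat.card K : ℂ)⁻¹ else 0 with he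
  have hec : IsCentralFn e := isCentralFn_ofFn fun g h => by
    refine if_congr ⟨fun h' => ?_, fun h' => (inferInstance : K.Normal).conj_mem _ h' h⟩ rfl rfl
    simpa [mul_assoc] using (inferInstance : K.Normal).conj_mem _ h' h⁻¹
  have hei : Integral M e := fun g => by
    rw [he, fn_ofFn]
    split_ifs
    · exact (isUnitAt_natCast hM hK).inv.mem_place
    · exact zero_mem _
  have hev : ∀ ψ : G → ℂ, chiEval ψ e =
      classInner (fun n : K => ψ n) (fun _ : K => (1 : ℂ)) := fun ψ => by
    rw [classInner_def, chiEval, he]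
    simp only [fn_ofFn, ite_mul, zero_mul, map_one, mul_one]
    rw [← Finset.sum_filter, Finset.mul_sum]
    exact (Finset.sum_subtype (p := (· ∈ K)) _ (fun g => by simp)
      (fun g => (Nat.card K : ℂ)⁻¹ * ψ g))
  have h1 : omega ((principal G : IrrCharacter G) : G → ℂ) e = 1 := by
    rw [omega, hev]
    show classInner (fun _ : K => (1 : ℂ)) (fun _ : K => (1 : ℂ)) / 1 = 1
    rw [div_one]
    exact classInner_irr_self (principal K)
  have h2 : res M (omega (χ : G → ℂ) e) = 1 := by
    rw [← res_omega_eq_of_sameBlock hM (χ := principal G) (ψ := χ) hχ hec hei, h1, res_one]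
  have h3 : classInner (fun n : K => (χ : G → ℂ) n) (fun _ : K => (1 : ℂ)) ≠ 0 := fun h0 => by
    rw [omega, hev, h0, zero_div, res_zero] at h2
    exact zero_ne_one h2
  obtain ⟨m, -, hm⟩ := restrict_eq_mult_of_invariant K χ.2 (isIrrCharacter_one (G := K))
    (fun g => rfl) h3
  have hk' := congrFun hm ⟨k, hk⟩
  have h1' := congrFun hm 1
  simp only [Pi.smul_apply, smul_eq_mul, mul_one, OneMemClass.coe_one] at hk' h1'
  rw [hk', h1']

lemma mem_of_pRegular_of_index_eq_pow (hp : p.Prime) (K : Subgroup G) [K.Normal] {k : ℕ}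
    (hK : K.index = p ^ k) {g : G} (hg : ¬ p ∣ orderOf g) : g ∈ K := by
  rw [← QuotientGroup.eq_one_iff g, ← orderOf_eq_one_iff]
  have h1 : orderOf (g : G ⧸ K) ∣ orderOf g := orderOf_map_dvd (QuotientGroup.mk' K) g
  have h2 : orderOf (g : G ⧸ K) ∣ p ^ k := hK ▸ (orderOf_dvd_natCard _)
  exact Nat.eq_one_of_dvd_coprimes (((hp.coprime_iff_not_dvd).2 hg).pow_left k) h2 h1

/-- With a normal `p`-complement the principal block is the set of characters trivial on it. -/
theorem mem_principalBlock_iff (hM : IsPModular p M) (K : Subgroup G) [K.Normal]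
    (hK : ¬ p ∣ Nat.card K) {k : ℕ} (hidx : K.index = p ^ k) (χ : IrrCharacter G) :
    χ ∈ principalBlock M G ↔ ∀ n ∈ K, (χ : G → ℂ) n = (χ : G → ℂ) 1 := by
  classical
  refine ⟨fun h n hn => apply_eq_of_mem_normal_pPrime hM K hK h hn, fun h => ?_⟩
  set B := blockOf M (χ : G → ℂ) with hBdef
  have hB : IsPBlock M B := isPBlock_blockOf χ
  have hχ : χ ∈ B := mem_blockOf_self hM χ
  have h1 : omega ((principal G : IrrCharacter G) : G → ℂ) (blockElem B) =
      omega (χ : G → ℂ) (blockElem B) := by
    simp only [omega, chiEval, Finset.sum_div]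
    refine Finset.sum_congr rfl fun g _ => ?_
    rw [fn_blockElem]
    by_cases hg : p ∣ orderOf g
    · rw [blockCoeff_eq_zero_of_singular hM hB hg]; simp
    · rw [h g (mem_of_pRegular_of_index_eq_pow hM.1 K hidx hg), mul_div_assoc, mul_div_assoc,
        div_self (IsIrrCharacter.apply_one_ne_zero χ.2)]
      simp [principal]
  rw [omega_blockElem, omega_blockElem, if_pos hχ] at h1
  by_cases h2 : principal G ∈ B
  · show χ ∈ blockOf M ((principal G : IrrCharacter G) : G → ℂ)
    rw [← IsPBlock.eq_blockOf hM hB h2]; exact hχ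
  · rw [if_neg h2] at h1; exact absurd h1 zero_ne_one

/-- The squares of the degrees of the characters trivial on a normal subgroup add up to the
index. -/
lemma sum_sq_trivial_on (K : Subgroup G) [K.Normal]
    [DecidablePred fun χ : IrrCharacter G => ∀ n ∈ K, (χ : G → ℂ) n = (χ : G → ℂ) 1] :
    ∑ χ ∈ Finset.univ.filter (fun χ : IrrCharacter G => ∀ n ∈ K, (χ : G → ℂ) n = (χ : G → ℂ) 1),
      (χ : G → ℂ) 1 * (χ : G → ℂ) 1 = (K.index : ℂ) := by
  classical
  have hcK : (Nat.card K : ℂ) ≠ 0 := Nat.cast_ne_zero.2 Nat.card_pos.ne'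
  have key : ∑ χ : IrrCharacter G, (χ : G → ℂ) 1 *
      classInner (fun n : K => (χ : G → ℂ) n) (fun _ : K => (1 : ℂ)) = (K.index : ℂ) := by
    simp only [classInner_def, map_one, mul_one, Finset.mul_sum]
    rw [Finset.sum_comm, Finset.sum_eq_single (1 : K)]
    · have h := second_orthogonality (1 : G) 1
      rw [if_pos (IsConj.refl 1)] at h
      have hc : Nat.card (Subgroup.centralizer ({(1 : G)} : Set G)) = Nat.card G := by
        rw [show Subgroup.centralizer ({(1 : G)} : Set G) = ⊤ from
          eq_top_iff.2 fun a _ => by simp [Subgroup.mem_centralizer_singleton_iff]]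
        exact Subgroup.card_top
      rw [hc, ← K.card_mul_index, Nat.cast_mul] at h
      rw [Finset.sum_congr rfl fun (χ : IrrCharacter G) _ => show (χ : G → ℂ) 1 *
        ((Nat.card K : ℂ)⁻¹ * (χ : G → ℂ) ((1 : K) : G)) =
        (Nat.card K : ℂ)⁻¹ * ((χ : G → ℂ) 1 * conj ((χ : G → ℂ) 1)) by
          rw [OneMemClass.coe_one, irr_apply_one_eq_deg, Complex.conj_natCast]; ring,
        ← Finset.mul_sum, h, inv_mul_cancel_left₀ hcK]
    · intro n _ hn
      have h := second_orthogonality (n : G) 1
      rw [if_neg fun h => hn (Subtype.ext (isConj_one_left.1 h))] at h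
      refine Eq.trans ?_ (mul_zero ((Nat.card K : ℂ)⁻¹))
      rw [← h, Finset.mul_sum]
      exact Finset.sum_congr rfl fun χ _ => by
        rw [irr_apply_one_eq_deg, Complex.conj_natCast]; ring
    · intro h; exact absurd (Finset.mem_univ _) h
  rw [← key, Finset.sum_filter]
  refine Finset.sum_congr rfl fun χ _ => ?_
  split_ifs with h
  · congr 1
    rw [show (fun n : K => (χ : G → ℂ) n) = (χ : G → ℂ) 1 • (fun _ : K => (1 : ℂ)) from
      funext fun n => by simp [h n n.2], classInner_smul_left]
    exact ((mul_one _).symm.trans (congrArg _ (classInner_irr_self (principal K)).symm))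
  · rw [eq_comm, mul_eq_zero]
    right
    by_contra h0
    obtain ⟨m, -, hm⟩ := restrict_eq_mult_of_invariant K χ.2 (isIrrCharacter_one (G := K))
      (fun g => rfl) h0
    refine h fun n hn => ?_
    have hn' := congrFun hm ⟨n, hn⟩
    have h1' := congrFun hm 1
    simp only [Pi.smul_apply, smul_eq_mul, mul_one, OneMemClass.coe_one] at hn' h1'
    rw [hn', h1']

/-! ### Regular sums -/

/-- Over the regular elements a member of a block only sees the block part. -/
lemma sum_regular_blockPart (hM : IsPModular p M) {B : Set (IrrCharacter G)} (hB : IsPBlock M B)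
    (θ : G → ℂ) {ψ : IrrCharacter G} (hψ : ψ ∈ B) :
    ∑ w ∈ Finset.univ.filter (fun w : G => ¬ p ∣ orderOf w),
        blockPart B θ w * conj ((ψ : G → ℂ) w) =
      ∑ w ∈ Finset.univ.filter (fun w : G => ¬ p ∣ orderOf w), θ w * conj ((ψ : G → ℂ) w) := by
  classical
  have hG : (Nat.card G : ℂ) ≠ 0 := Nat.cast_ne_zero.2 Nat.card_pos.ne'
  have hz : ∀ w v : G, ¬ p ∣ orderOf w → p ∣ orderOf v → colKer B w v = 0 := fun w v hw hv => by
    rw [colKer_eq]; exact block_orthogonality_regular hM hB hw hv
  have hz' : ∀ w v : G, p ∣ orderOf w → ¬ p ∣ orderOf v → colKer B w v = 0 := fun w v hw hv => by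
    rw [colKer_eq]; exact block_orthogonality_regular' hM hB hw hv
  have hrep : ∀ v : G, ∑ w : G, colKer B w v * conj ((ψ : G → ℂ) w) =
      (Nat.card G : ℂ) * conj ((ψ : G → ℂ) v) := fun v => by
    have h : classInner (∑ χ : IrrCharacter G,
        (if χ ∈ B then conj ((χ : G → ℂ) v) else 0) • (χ : G → ℂ)) (ψ : G → ℂ) =
        conj ((ψ : G → ℂ) v) := by
      rw [classInner_irrSum, if_pos hψ]
    rw [classInner_def] at h
    rw [← h, mul_inv_cancel_left₀ hG]
    refine Finset.sum_congr rfl fun w _ => congrArg (· * _) ?_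
    rw [colKer_eq, Finset.sum_filter, Finset.sum_apply]
    exact Finset.sum_congr rfl fun χ _ => by
      rw [Pi.smul_apply, smul_eq_mul]; split_ifs <;> ring
  have hleft : ∀ w ∈ Finset.univ.filter (fun w : G => ¬ p ∣ orderOf w),
      blockPart B θ w * conj ((ψ : G → ℂ) w) =
      ∑ v ∈ Finset.univ.filter (fun v : G => ¬ p ∣ orderOf v),
        (Nat.card G : ℂ)⁻¹ * θ v * (colKer B w v * conj ((ψ : G → ℂ) w)) := by
    intro w hw
    rw [blockPart_eq_colKer, Finset.mul_sum, Finset.sum_mul, Finset.sum_filter]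
    refine Finset.sum_congr rfl fun v _ => ?_
    split_ifs with hv
    · rw [hz w v (Finset.mem_filter.1 hw).2 hv]; simp
    · ring
  rw [Finset.sum_congr rfl hleft, Finset.sum_comm]
  refine Finset.sum_congr rfl fun v hv => ?_
  rw [← Finset.mul_sum]
  have : ∑ w ∈ Finset.univ.filter (fun w : G => ¬ p ∣ orderOf w),
      colKer B w v * conj ((ψ : G → ℂ) w) = (Nat.card G : ℂ) * conj ((ψ : G → ℂ) v) := by
    rw [← hrep v, Finset.sum_filter]
    refine Finset.sum_congr rfl fun w _ => ?_
    split_ifs with hw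
    · rw [hz' w v hw (Finset.mem_filter.1 hv).2, zero_mul]
    · rfl
  rw [this]
  field_simp

/-- The regular diagonal of the kernel counts the rank. -/
lemma sum_colKer_regular (hM : IsPModular p M) {B : Set (IrrCharacter G)} (hB : IsPBlock M B) :
    ∑ w ∈ Finset.univ.filter (fun w : G => ¬ p ∣ orderOf w), colKer B w w =
      (Nat.card G : ℂ) * (blockRank p B : ℂ) := by
  classical
  rw [← sum_classInner_eq_blockRank hM hB, Finset.mul_sum]
  simp only [colKer_eq]
  rw [Finset.sum_comm]
  refine Finset.sum_congr rfl fun χ _ => ?_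
  rw [classInner_def, mul_inv_cancel_left₀ (Nat.cast_ne_zero.2 Nat.card_pos.ne'),
    Finset.sum_filter]
  refine Finset.sum_congr rfl fun w _ => ?_
  rw [pRegularPart_apply]
  split_ifs <;> simp

end Cfsg.Lib.Blocks
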