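import Mathlib
import Cfsg.Prelude.Def_BrauerPairs
import Cfsg.Agent.Blocks.Third

/-!
# Brauer pairs as induced blocks
-/

set_option autoImplicit false
set_option linter.unusedSectionVars false

namespace Cfsg.Lib.Blocks

open Cfsg.Lib.Chars

universe u

variable {G : Type u} [Group G] [Fintype G] {M : Ideal AlgInt} {p : ℕ}

lemma brauerOmega_eq_omega (Q : Subgroup G) [Fintype (Subgroup.centralizer (Q : Set G))]
    (B : Set (IrrCharacter G)) (ξ : Subgroup.centralizer (Q : Set G) → ℂ) :
    brauerOmega Q (blockCoeff B) ξ =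
      omega ξ (resElem (Subgroup.centralizer (Q : Set G)) (blockElem B)) := by
  unfold brauerOmega
  rw [finsum_eq_sum_of_fintype, omega, chiEval, Finset.sum_div]
  exact Finset.sum_congr rfl fun x _ => by rw [fn_resElem, fn_blockElem]

/-- Brauer pairs of a block are the blocks of centralisers inducing it. -/
theorem isBrauerPairOf_iff (hM : IsPModular p M) (B : Set (IrrCharacter G)) (Q : Subgroup G)
    [Fintype (Subgroup.centralizer (Q : Set G))]
    (e : Set (IrrCharacter (Subgroup.centralizer (Q : Set G)))) :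
    IsBrauerPairOf p M B Q e ↔
      IsPGroup p Q ∧ IsInducedBlock M (Subgroup.centralizer (Q : Set G)) e B := by
  classical
  have key : ∀ (ξ : IrrCharacter (Subgroup.centralizer (Q : Set G))) (hB : IsPBlock M B),
      MemLocalIdeal M (brauerOmega Q (blockCoeff B) (ξ : _ → ℂ) - 1) ↔
        res M (omega (ξ : _ → ℂ)
          (resElem (Subgroup.centralizer (Q : Set G)) (blockElem B))) = 1 := by
    intro ξ hB
    have hmem := omega_mem_place hM ξ ((isCentralFn_blockElem B).resElem _)
      ((integral_blockElem hM hB).resElem (Subgroup.centralizer (Q : Set G)))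
    have halg : IsAlgebraic ℚ (brauerOmega Q (blockCoeff B)
        (ξ : Subgroup.centralizer (Q : Set G) → ℂ) - 1) := by
      rw [brauerOmega_eq_omega,
        omega_eq_sum_classes _ (isClassFunction_irr ξ) ((isCentralFn_blockElem B).resElem _)]
      refine IsAlgebraic.sub (Finset.sum_induction _ (IsAlgebraic ℚ) (fun a b => IsAlgebraic.add)
        isAlgebraic_zero fun C _ => IsAlgebraic.mul ?_ (isAlgebraic_centralChar ξ _))
        isAlgebraic_one
      rw [fn_resElem, fn_blockElem]
      exact isAlgebraic_blockCoeff B _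
    rw [memLocalIdeal_iff_small hM halg, brauerOmega_eq_omega,
      ← res_eq_iff hmem (one_mem _), res_one]
  constructor
  · rintro ⟨⟨hQ, he⟩, hB, h⟩
    exact ⟨hQ, (brauer_pair_congr_iff hM hQ he hB).1 fun ξ hξ => (key ξ hB).1 (h ξ hξ)⟩
  · rintro ⟨hQ, hind⟩
    exact ⟨⟨hQ, hind.1⟩, hind.2.1, fun ξ hξ =>
      (key ξ hind.2.1).2 ((brauer_pair_congr_iff hM hQ hind.1 hind.2.1).2 hind ξ hξ)⟩

end Cfsg.Lib.Blocks
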