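import Mathlib
import Cfsg.Prelude.Def_Blocks
import Cfsg.Agent.Blocks.Columns
import Cfsg.Agent.Blocks.Defect2

/-!
# The Brauer image of a block idempotent
-/

set_option autoImplicit false
set_option linter.unusedSectionVars false

namespace Cfsg.Lib.Blocks

open Cfsg.Lib.Chars

universe u

variable {G : Type u} [Group G] [Fintype G] {M : Ideal AlgInt} {p : ℕ}

/-- **The Brauer image of a block idempotent** is the sum of the idempotents of the blocks
inducing it. -/
theorem red_resElem_blockElem (hM : IsPModular p M) {Q : Subgroup G} (hQ : IsPGroup p Q)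
    {H : Subgroup G} [Fintype H] (hH : H = Subgroup.centralizer (Q : Set G))
    {B : Set (IrrCharacter G)} (hB : IsPBlock M B)
    [DecidablePred fun b => IsInducedBlock M H b B] :
    red M (resElem H (blockElem B)) =
      red M (∑ b ∈ (blocksFinset M H).filter (fun b => IsInducedBlock M H b B), blockElem b) := by
  classical
  set a := resElem H (blockElem B) with ha
  set T := (blocksFinset M H).filter (fun b => IsInducedBlock M H b B) with hT
  set s := ∑ b ∈ T, blockElem b with hs
  have hTb : ∀ b ∈ T, IsPBlock M b := fun b hb => (mem_blocksFinset hM).1 (Finset.mem_filter.1 hb).1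
  have hac : IsCentralFn a := (isCentralFn_blockElem B).resElem H
  have hai : Integral M a := (integral_blockElem hM hB).resElem H
  have hsc : IsCentralFn s := IsCentralFn.sum _ _ fun b _ => isCentralFn_blockElem b
  have hsi : Integral M s := fun h => by
    rw [hs, fn_sum]; exact sum_mem fun b hb => integral_blockElem hM (hTb b hb) h
  have homega : ∀ ψ : IrrCharacter H, omega (ψ : H → ℂ) s =
      if IsInducedBlock M H (blockOf M (ψ : H → ℂ)) B then 1 else 0 := by
    intro ψ
    rw [hs, omega_sum, Finset.sum_congr rfl fun b _ => omega_blockElem b ψ]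
    split_ifs with h
    · rw [Finset.sum_eq_single (blockOf M (ψ : H → ℂ)), if_pos (mem_blockOf_self hM ψ)]
      · exact fun b hb hne => if_neg fun h' => hne (IsPBlock.eq_blockOf hM (hTb b hb) h')
      · exact fun h' => absurd
          (Finset.mem_filter.2 ⟨(mem_blocksFinset hM).2 (isPBlock_blockOf ψ), h⟩) h'
    · refine Finset.sum_eq_zero fun b hb => if_neg fun h' => h ?_
      rw [← IsPBlock.eq_blockOf hM (hTb b hb) h']
      exact (Finset.mem_filter.1 hb).2
  have hsmall : ∀ ψ : IrrCharacter H, Small M (omega (ψ : H → ℂ) (a - s)) := by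
    intro ψ
    rw [omega_sub, ← res_eq_iff (omega_mem_place hM ψ hac hai) (omega_mem_place hM ψ hsc hsi)]
    obtain ⟨B', hB'⟩ := inducedBlockDefined_of_eq_centralizer hM hQ hH (isPBlock_blockOf (M := M) ψ)
    obtain ⟨φ, hφ⟩ := IsPBlock.nonempty hM hB'.2.1
    rw [ha, res_omega_resElem_of_induced hM H hB' (mem_blockOf_self hM ψ) hφ
      (isCentralFn_blockElem B) (integral_blockElem hM hB), homega, omega_blockElem]
    by_cases h : IsInducedBlock M H (blockOf M (ψ : H → ℂ)) B
    · rw [if_pos h, if_pos (IsInducedBlock.unique hM hB' h ▸ hφ)]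
    · rw [if_neg h, if_neg fun hφB => h ?_]
      rw [IsPBlock.eq_of_mem_inter hM hB hB'.2.1 hφB hφ]; exact hB'
  have hss : s * s = s := eq_of_omega_eq (hsc.mul hsc) hsc fun ψ => by
    rw [omega_mul ψ hsc, homega]; split_ifs <;> simp
  have hA : red M a * red M a = red M a := by
    subst hH
    rw [← red_mul hai hai, ← red_resElem_mul hM hQ (isCentralFn_blockElem B)
      (integral_blockElem hM hB) (isCentralFn_blockElem B) (integral_blockElem hM hB),
      blockElem_mul_self]
  have hS : red M s * red M s = red M s := by rw [← red_mul hsi hsi, hss]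
  have hAS : red M a * red M s = red M s * red M a := by
    rw [← red_mul hai hsi, ← red_mul hsi hai, IsCentralFn.comm hac s]
  set d := red M a - red M s with hd
  have hd3 : d * d * d = d := by
    have e1 : red M a * red M s * red M a = red M a * red M s := by
      rw [mul_assoc, ← hAS, ← mul_assoc, hA]
    have e2 : red M s * red M a * red M s = red M a * red M s := by
      rw [← hAS, mul_assoc, hS]
    rw [hd]
    simp only [sub_mul, mul_sub, hA, hS, ← hAS, e1, e2]
    rw [mul_assoc (red M a) (red M s) (red M s), hS]
    abel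
  have hodd : ∀ m : ℕ, d ^ (2 * m + 1) = d := fun m => by
    induction m with
    | zero => rw [mul_zero, zero_add, pow_one]
    | succ m ih =>
      rw [show 2 * (m + 1) + 1 = 2 * m + 1 + 2 by ring, pow_add, ih, pow_two, ← mul_assoc, hd3]
  obtain ⟨n, hn⟩ := isNilpotent_red_of_omega_small hM (hac.sub hsc) (hai.sub hsi) hsmall
  rw [red_sub hai hsi] at hn
  refine sub_eq_zero.1 ?_
  rw [← hd, ← hodd n, show 2 * n + 1 = n + (n + 1) by ring, pow_add, hn, zero_mul]

/-- Where a block idempotent is a unit, some block inducing it is too. -/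
theorem exists_induced_not_small (hM : IsPModular p M) {Q : Subgroup G} (hQ : IsPGroup p Q)
    {H : Subgroup G} [Fintype H] (hH : H = Subgroup.centralizer (Q : Set G))
    {B : Set (IrrCharacter G)} (hB : IsPBlock M B) {g : H}
    (hg : ¬ Small M (blockCoeff B (g : G))) :
    ∃ b : Set (IrrCharacter H), IsInducedBlock M H b B ∧ ¬ Small M (blockCoeff b g) := by
  classical
  by_contra h
  push Not at h
  apply hg
  have h1 := congrArg (fun z => fn z g) (red_resElem_blockElem hM hQ hH hB)
  simp only [fn_red, fn_resElem, fn_blockElem] at h1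
  rw [← res_eq_zero_iff (blockCoeff_mem_place hM hB _), h1, fn_sum, res_eq_zero_iff]
  · exact small_sum _ _ fun b hb => by rw [fn_blockElem]; exact h b (Finset.mem_filter.1 hb).2
  · exact sum_mem fun b hb => by
      rw [fn_blockElem]
      exact blockCoeff_mem_place hM ((mem_blocksFinset hM).1 (Finset.mem_filter.1 hb).1) _

end Cfsg.Lib.Blocks
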