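import Mathlib
import Cfsg.Prelude.Def_BrauerPairs
import Cfsg.Agent.Blocks.BrauerSum

/-!
# Block idempotents of subgroups inside the residue group algebra

For a subgroup `H` and a block `b` of `H`, `bi M H b` is its idempotent, as an element of the group
algebra of the whole group over the residue field.  They are exactly the primitive idempotents of
the `H`-invariant elements supported on `H`; the Brauer map `br P` is the truncation to the
centraliser of `P`.
-/

set_option autoImplicit false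
set_option linter.unusedSectionVars false

namespace Cfsg.Lib.Blocks

open Cfsg.Lib.Chars

universe u

section General

variable {G : Type u} [Group G] [Fintype G] {R : Type*} [CommRing R]

/-- Coefficients invariant under conjugation by `H`. -/
def InvOn (H : Subgroup G) (a : MonoidAlgebra R G) : Prop :=
  ∀ h ∈ H, ∀ g : G, fn a (h * g * h⁻¹) = fn a g

/-- Supported on `H`. -/
def SuppOn (H : Subgroup G) (a : MonoidAlgebra R G) : Prop := ∀ g : G, g ∉ H → fn a g = 0

/-- Conjugation. -/
noncomputable def cj (x : G) (a : MonoidAlgebra R G) : MonoidAlgebra R G :=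
  ofFn fun g => fn a (x⁻¹ * g * x)

@[simp] lemma fn_cj (x : G) (a : MonoidAlgebra R G) (g : G) :
    fn (cj x a) g = fn a (x⁻¹ * g * x) := by simp [cj]

/-- Truncation to a subgroup. -/
noncomputable def trunc (H : Subgroup G) (a : MonoidAlgebra R G) : MonoidAlgebra R G := by
  classical
  exact ofFn fun g => if g ∈ H then fn a g else 0

lemma fn_trunc_mem {H : Subgroup G} (a : MonoidAlgebra R G) {g : G} (h : g ∈ H) :
    fn (trunc H a) g = fn a g := by simp [trunc, h]

lemma fn_trunc_not_mem {H : Subgroup G} (a : MonoidAlgebra R G) {g : G} (h : g ∉ H) :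
    fn (trunc H a) g = 0 := by simp [trunc, h]

/-- The Brauer map at `P`. -/
noncomputable def br (P : Subgroup G) (a : MonoidAlgebra R G) : MonoidAlgebra R G :=
  trunc (Subgroup.centralizer (P : Set G)) a

lemma cj_one (a : MonoidAlgebra R G) : cj 1 a = a := fn_ext fun g => by simp

lemma cj_cj (x y : G) (a : MonoidAlgebra R G) : cj x (cj y a) = cj (x * y) a :=
  fn_ext fun g => by simp [mul_assoc]

lemma cj_zero (x : G) : cj x (0 : MonoidAlgebra R G) = 0 := fn_ext fun g => by simp

lemma cj_sum {ι : Type*} (x : G) (s : Finset ι) (a : ι → MonoidAlgebra R G) :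
    cj x (∑ i ∈ s, a i) = ∑ i ∈ s, cj x (a i) := fn_ext fun g => by simp [fn_sum]

lemma cj_mul (x : G) (a b : MonoidAlgebra R G) : cj x (a * b) = cj x a * cj x b := by
  refine fn_ext fun c => ?_
  simp only [fn_cj, fn_mul]
  refine Fintype.sum_equiv (MulAut.conj x).toEquiv _ _ fun t => ?_
  simp only [MulEquiv.toEquiv_eq_coe, MulEquiv.coe_toEquiv, MulAut.conj_apply]
  congr 1 <;> congr 1 <;> group

lemma cj_injective (x : G) : Function.Injective (cj x : MonoidAlgebra R G → _) := fun a b h => by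
  simpa [cj_cj, cj_one] using congrArg (cj x⁻¹) h

lemma invOn_iff {H : Subgroup G} {a : MonoidAlgebra R G} :
    InvOn H a ↔ ∀ h ∈ H, cj h a = a := by
  constructor
  · intro ha h hh
    refine fn_ext fun g => ?_
    have := ha h⁻¹ (H.inv_mem hh) g
    rw [inv_inv] at this
    rw [fn_cj, this]
  · intro ha h hh g
    have := congrArg (fun z => fn z g) (ha h⁻¹ (H.inv_mem hh))
    simpa using this

lemma InvOn.mono {H K : Subgroup G} {a : MonoidAlgebra R G} (ha : InvOn H a) (h : K ≤ H) :
    InvOn K a := fun x hx => ha x (h hx)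

lemma InvOn.mul {H : Subgroup G} {a b : MonoidAlgebra R G} (ha : InvOn H a) (hb : InvOn H b) :
    InvOn H (a * b) :=
  invOn_iff.2 fun h hh => by rw [cj_mul, invOn_iff.1 ha h hh, invOn_iff.1 hb h hh]

lemma InvOn.sum {ι : Type*} {H : Subgroup G} (s : Finset ι) {a : ι → MonoidAlgebra R G}
    (h : ∀ i ∈ s, InvOn H (a i)) : InvOn H (∑ i ∈ s, a i) := fun x hx g => by
  simp only [fn_sum]; exact Finset.sum_congr rfl fun i hi => h i hi x hx g

lemma InvOn.cj {H K : Subgroup G} {x : G} (hK : ∀ k ∈ K, x⁻¹ * k * x ∈ H)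
    {a : MonoidAlgebra R G} (ha : InvOn H a) : InvOn K (cj x a) := fun k hk g => by
  rw [fn_cj, fn_cj, show x⁻¹ * (k * g * k⁻¹) * x =
    (x⁻¹ * k * x) * (x⁻¹ * g * x) * (x⁻¹ * k * x)⁻¹ by group, ha _ (hK k hk)]

lemma invOn_top_iff {a : MonoidAlgebra R G} : InvOn (⊤ : Subgroup G) a ↔ IsCentralFn a :=
  ⟨fun h g x => h x (Subgroup.mem_top x) g, fun h x _ g => h g x⟩

lemma InvOn.comm {H : Subgroup G} {a b : MonoidAlgebra R G} (ha : InvOn H a) (hb : SuppOn H b) :
    a * b = b * a := by
  classical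
  refine fn_ext fun g => ?_
  rw [fn_mul' a b, fn_mul b a]
  refine Finset.sum_congr rfl fun t _ => ?_
  by_cases ht : t ∈ H
  · rw [mul_comm, show t⁻¹ * g = t⁻¹ * (g * t⁻¹) * (t⁻¹)⁻¹ by group, ha _ (H.inv_mem ht)]
  · rw [hb t ht, zero_mul, mul_zero]

lemma SuppOn.mul {H : Subgroup G} {a b : MonoidAlgebra R G} (ha : SuppOn H a) (hb : SuppOn H b) :
    SuppOn H (a * b) := fun g hg => by
  classical
  rw [fn_mul]
  refine Finset.sum_eq_zero fun t _ => ?_
  by_cases ht : t ∈ H
  · rw [hb (t⁻¹ * g) fun h => hg ?_, mul_zero]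
    simpa using H.mul_mem ht h
  · rw [ha t ht, zero_mul]

lemma SuppOn.sum {ι : Type*} {H : Subgroup G} (s : Finset ι) {a : ι → MonoidAlgebra R G}
    (h : ∀ i ∈ s, SuppOn H (a i)) : SuppOn H (∑ i ∈ s, a i) := fun g hg => by
  rw [fn_sum]; exact Finset.sum_eq_zero fun i hi => h i hi g hg

lemma SuppOn.mono {H K : Subgroup G} {a : MonoidAlgebra R G} (ha : SuppOn H a) (h : H ≤ K) :
    SuppOn K a := fun g hg => ha g fun hgH => hg (h hgH)

lemma suppOn_trunc (H : Subgroup G) (a : MonoidAlgebra R G) : SuppOn H (trunc H a) :=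
  fun _ hg => fn_trunc_not_mem a hg

lemma suppOn_br (P : Subgroup G) (a : MonoidAlgebra R G) :
    SuppOn (Subgroup.centralizer (P : Set G)) (br P a) := suppOn_trunc _ a

lemma trunc_eq_self {H : Subgroup G} {a : MonoidAlgebra R G} (ha : SuppOn H a) : trunc H a = a :=
  fn_ext fun g => by
    by_cases hg : g ∈ H
    · rw [fn_trunc_mem a hg]
    · rw [fn_trunc_not_mem a hg, ha g hg]

lemma trunc_trunc {H K : Subgroup G} (h : K ≤ H) (a : MonoidAlgebra R G) :
    trunc K (trunc H a) = trunc K a :=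
  fn_ext fun g => by
    by_cases hg : g ∈ K
    · rw [fn_trunc_mem _ hg, fn_trunc_mem _ hg, fn_trunc_mem _ (h hg)]
    · rw [fn_trunc_not_mem _ hg, fn_trunc_not_mem _ hg]

lemma br_br {P Q : Subgroup G} (h : Q ≤ P) (a : MonoidAlgebra R G) :
    br P (br Q a) = br P a :=
  trunc_trunc (Subgroup.centralizer_le (fun _ hx => h hx)) a

lemma InvOn.trunc {H K : Subgroup G} {a : MonoidAlgebra R G} (ha : InvOn K a)
    (hH : ∀ k ∈ K, ∀ g, (k * g * k⁻¹ ∈ H ↔ g ∈ H)) : InvOn K (trunc H a) := fun k hk g => by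
  by_cases hg : g ∈ H
  · rw [fn_trunc_mem _ ((hH k hk g).2 hg), fn_trunc_mem _ hg, ha k hk]
  · rw [fn_trunc_not_mem _ (mt (hH k hk g).1 hg), fn_trunc_not_mem _ hg]

lemma trunc_sum {ι : Type*} (H : Subgroup G) (s : Finset ι) (a : ι → MonoidAlgebra R G) :
    trunc H (∑ i ∈ s, a i) = ∑ i ∈ s, trunc H (a i) :=
  fn_ext fun g => by
    by_cases hg : g ∈ H
    · rw [fn_trunc_mem _ hg, fn_sum, fn_sum]
      exact Finset.sum_congr rfl fun i _ => (fn_trunc_mem _ hg).symm
    · rw [fn_trunc_not_mem _ hg, fn_sum]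
      exact (Finset.sum_eq_zero fun i _ => fn_trunc_not_mem _ hg).symm

lemma trunc_one (H : Subgroup G) : trunc H (1 : MonoidAlgebra R G) = 1 :=
  trunc_eq_self fun g hg => by
    classical
    rw [fn_one, if_neg fun h : 1 = g => hg (h ▸ H.one_mem)]

lemma br_zero (P : Subgroup G) : br P (0 : MonoidAlgebra R G) = 0 :=
  trunc_eq_self fun g _ => fn_zero g

lemma cj_br (x : G) (P : Subgroup G) (a : MonoidAlgebra R G) :
    cj x (br P a) = br (P.map (MulAut.conj x).toMonoidHom) (cj x a) := by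
  refine fn_ext fun g => ?_
  have hiff : g ∈ Subgroup.centralizer ((P.map (MulAut.conj x).toMonoidHom : Subgroup G) : Set G) ↔
      x⁻¹ * g * x ∈ Subgroup.centralizer (P : Set G) := by
    simp only [Subgroup.mem_centralizer_iff, SetLike.mem_coe]
    constructor
    · intro h y hy
      have h1 : x * y * x⁻¹ * g = g * (x * y * x⁻¹) := h _ ⟨y, hy, rfl⟩
      calc y * (x⁻¹ * g * x) = x⁻¹ * (x * y * x⁻¹ * g) * x := by group
        _ = x⁻¹ * g * x * y := by rw [h1]; group
    · rintro h _ ⟨y, hy, rfl⟩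
      have h1 := h y hy
      show x * y * x⁻¹ * g = g * (x * y * x⁻¹)
      calc x * y * x⁻¹ * g = x * (y * (x⁻¹ * g * x)) * x⁻¹ := by group
        _ = g * (x * y * x⁻¹) := by rw [h1]; group
  rw [fn_cj]
  unfold br
  by_cases hg : x⁻¹ * g * x ∈ Subgroup.centralizer (P : Set G)
  · rw [fn_trunc_mem _ hg, fn_trunc_mem _ (hiff.2 hg), fn_cj]
  · rw [fn_trunc_not_mem _ hg, fn_trunc_not_mem _ (mt hiff.1 hg)]

/-- **The Brauer map is multiplicative** on invariant elements. -/
theorem br_mul {p : ℕ} [Fact p.Prime] [CharP R p] {P : Subgroup G} (hP : IsPGroup p P)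
    {a b : MonoidAlgebra R G} (ha : InvOn P a) (hb : InvOn P b) :
    br P (a * b) = br P a * br P b := by
  classical
  refine fn_ext fun c => ?_
  by_cases hc : c ∈ Subgroup.centralizer (P : Set G)
  · unfold br
    rw [fn_trunc_mem _ hc, fn_mul_centralizer hP ha hb hc, fn_mul, Finset.sum_filter]
    refine Finset.sum_congr rfl fun t _ => ?_
    split_ifs with ht
    · rw [fn_trunc_mem _ ht, fn_trunc_mem _ (mul_mem (inv_mem ht) hc)]
    · rw [fn_trunc_not_mem _ ht, zero_mul]
  · rw [suppOn_br P _ c hc, ((suppOn_br P a).mul (suppOn_br P b)) c hc]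

/-- Orbit sums vanish under the Brauer map: an element moved by `P` and its conjugates. -/
lemma invOn_br {P H : Subgroup G} {a : MonoidAlgebra R G} (ha : InvOn H a)
    (hP : ∀ k ∈ H, ∀ y ∈ P, k * y * k⁻¹ ∈ P) : InvOn H (br P a) :=
  ha.trunc fun k hk g => by
    simp only [Subgroup.mem_centralizer_iff, SetLike.mem_coe]
    constructor
    · intro h y hy
      have h1 := h (k * y * k⁻¹) (hP k hk y hy)
      calc y * g = k⁻¹ * ((k * y * k⁻¹) * (k * g * k⁻¹)) * k := by group
        _ = g * y := by rw [h1]; group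
    · intro h y hy
      have hy' : k⁻¹ * y * k ∈ P := by simpa using hP k⁻¹ (H.inv_mem hk) y hy
      calc y * (k * g * k⁻¹) = k * ((k⁻¹ * y * k) * g) * k⁻¹ := by group
        _ = k * g * k⁻¹ * y := by rw [h _ hy']; group

end General

/-! ### Commuting idempotents -/

lemma eq_of_isNilpotent_sub {A : Type*} [Ring A] {a b : A} (ha : a * a = a) (hb : b * b = b)
    (hab : a * b = b * a) (h : IsNilpotent (a - b)) : a = b := by
  set d := a - b with hd
  have e1 : a * b * a = a * b := by rw [mul_assoc, ← hab, ← mul_assoc, ha]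
  have e2 : b * a * b = a * b := by rw [← hab, mul_assoc, hb]
  have hd3 : d * d * d = d := by
    rw [hd]
    simp only [sub_mul, mul_sub, ha, hb, ← hab, e1]
    rw [mul_assoc a b b, hb]
    abel
  have hodd : ∀ m : ℕ, d ^ (2 * m + 1) = d := fun m => by
    induction m with
    | zero => rw [mul_zero, zero_add, pow_one]
    | succ m ih =>
      rw [show 2 * (m + 1) + 1 = 2 * m + 1 + 2 by ring, pow_add, ih, pow_two, ← mul_assoc, hd3]
  obtain ⟨n, hn⟩ := h
  refine sub_eq_zero.1 ?_
  rw [← hd, ← hodd n, show 2 * n + 1 = n + (n + 1) by ring, pow_add, hn, zero_mul]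

/-! ### The idempotents -/

variable {G : Type u} [Group G] [Fintype G] {M : Ideal AlgInt} {p : ℕ}

/-- The idempotent of a block of a subgroup in the residue group algebra. -/
noncomputable def bi (M : Ideal AlgInt) (H : Subgroup G) (b : Set (IrrCharacter H)) :
    MonoidAlgebra (Res M) G :=
  ofFn fun g => res M (subgroupBlockCoeff H b g)

/-- Reduction of an element of the group algebra of a subgroup. -/
noncomputable def rx (M : Ideal AlgInt) (H : Subgroup G) (z : MonoidAlgebra ℂ H) :
    MonoidAlgebra (Res M) G :=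
  red M (extElem H z)

variable {H : Subgroup G} [Fintype H]

lemma fn_rx_mem (z : MonoidAlgebra ℂ H) {g : G} (hg : g ∈ H) :
    fn (rx M H z) g = res M (fn z ⟨g, hg⟩) := by rw [rx, fn_red, fn_extElem_mem H z hg]

lemma fn_rx_coe (z : MonoidAlgebra ℂ H) (h : H) :
    fn (rx M H z) (h : G) = res M (fn z h) := fn_rx_mem z h.2

lemma suppOn_rx (z : MonoidAlgebra ℂ H) : SuppOn H (rx M H z) := fun g hg => by
  rw [rx, fn_red, fn_extElem_not_mem H z hg, res_zero]

lemma invOn_rx {z : MonoidAlgebra ℂ H} (hz : IsCentralFn z) : InvOn H (rx M H z) := by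
  intro h hh g
  by_cases hg : g ∈ H
  · rw [fn_rx_mem z (H.mul_mem (H.mul_mem hh hg) (H.inv_mem hh)), fn_rx_mem z hg]
    exact congrArg _ (hz ⟨g, hg⟩ ⟨h, hh⟩)
  · rw [suppOn_rx z g hg, suppOn_rx z _ fun h' => hg ?_]
    have := H.mul_mem (H.mul_mem (H.inv_mem hh) h') hh
    rwa [show h⁻¹ * (h * g * h⁻¹) * h = g by group] at this

lemma rx_mul {y z : MonoidAlgebra ℂ H} (hy : Integral M y) (hz : Integral M z) :
    rx M H (y * z) = rx M H y * rx M H z := by
  rw [rx, ← extElem_mul, red_mul hy.extElem hz.extElem]; rfl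

lemma rx_inj {y z : MonoidAlgebra ℂ H} (h : rx M H y = rx M H z) : red M y = red M z :=
  fn_ext fun c => by rw [fn_red, fn_red, ← fn_rx_coe, h, fn_rx_coe]

lemma rx_congr {y z : MonoidAlgebra ℂ H} (h : red M y = red M z) : rx M H y = rx M H z :=
  fn_ext fun g => by
    by_cases hg : g ∈ H
    · rw [fn_rx_mem y hg, fn_rx_mem z hg, ← fn_red, h, fn_red]
    · rw [suppOn_rx y g hg, suppOn_rx z g hg]

lemma rx_sum {ι : Type*} (s : Finset ι) {z : ι → MonoidAlgebra ℂ H}
    (h : ∀ i ∈ s, Integral M (z i)) : rx M H (∑ i ∈ s, z i) = ∑ i ∈ s, rx M H (z i) :=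
  fn_ext fun g => by
    rw [fn_sum]
    by_cases hg : g ∈ H
    · rw [fn_rx_mem _ hg, fn_sum, res_sum _ _ fun i hi => h i hi _]
      exact Finset.sum_congr rfl fun i _ => (fn_rx_mem _ hg).symm
    · rw [suppOn_rx _ g hg]
      exact (Finset.sum_eq_zero fun i _ => suppOn_rx _ g hg).symm

lemma rx_one : rx M H (1 : MonoidAlgebra ℂ H) = 1 :=
  fn_ext fun g => by
    classical
    by_cases hg : g ∈ H
    · rw [fn_rx_mem _ hg, fn_one, fn_one]
      by_cases h : 1 = g
      · subst h; rw [if_pos (show (1 : H) = ⟨1, hg⟩ from rfl), if_pos rfl, res_one]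
      · rw [if_neg fun h' => h (congrArg Subtype.val h'), if_neg h, res_zero]
    · rw [suppOn_rx _ g hg, fn_one, if_neg fun h : 1 = g => hg (h ▸ H.one_mem)]

lemma rx_resElem {a : MonoidAlgebra ℂ G} : rx M H (resElem H a) = trunc H (red M a) :=
  fn_ext fun g => by
    by_cases hg : g ∈ H
    · rw [fn_rx_mem _ hg, fn_resElem, fn_trunc_mem _ hg, fn_red]
    · rw [suppOn_rx _ g hg, fn_trunc_not_mem _ hg]

lemma bi_eq_rx (b : Set (IrrCharacter H)) : bi M H b = rx M H (blockElem b) :=
  fn_ext fun g => by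
    by_cases hg : g ∈ H
    · rw [fn_rx_mem _ hg, bi, fn_ofFn, fn_blockElem, subgroupBlockCoeff, dif_pos hg]
    · rw [suppOn_rx _ g hg, bi, fn_ofFn, subgroupBlockCoeff, dif_neg hg, res_zero]

omit [Fintype H] in
lemma suppOn_bi (b : Set (IrrCharacter H)) : SuppOn H (bi M H b) := fun g hg => by
  rw [bi, fn_ofFn, subgroupBlockCoeff, dif_neg hg, res_zero]

omit [Fintype H] in
lemma invOn_bi (b : Set (IrrCharacter H)) : InvOn H (bi M H b) := by
  classical
  letI := Fintype.ofFinite H
  rw [bi_eq_rx]; exact invOn_rx (isCentralFn_blockElem b)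

lemma bi_mul_self (hM : IsPModular p M) {b : Set (IrrCharacter H)} (hb : IsPBlock M b) :
    bi M H b * bi M H b = bi M H b := by
  rw [bi_eq_rx, ← rx_mul (integral_blockElem hM hb) (integral_blockElem hM hb), blockElem_mul_self]

lemma bi_mul_bi (hM : IsPModular p M) {b b' : Set (IrrCharacter H)} (hb : IsPBlock M b)
    (hb' : IsPBlock M b') (hne : b ≠ b') : bi M H b * bi M H b' = 0 := by
  classical
  have h0 : blockElem b * blockElem b' = 0 :=
    eq_zero_of_omega_eq_zero ((isCentralFn_blockElem b).mul (isCentralFn_blockElem b')) fun χ => by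
      rw [omega_mul χ (isCentralFn_blockElem b), omega_blockElem, omega_blockElem]
      by_cases h : χ ∈ b
      · rw [if_neg fun h' => hne (IsPBlock.eq_of_mem_inter hM hb hb' h h'), mul_zero]
      · rw [if_neg h, zero_mul]
  rw [bi_eq_rx, bi_eq_rx, ← rx_mul (integral_blockElem hM hb) (integral_blockElem hM hb'), h0]
  refine fn_ext fun g => ?_
  by_cases hg : g ∈ H
  · rw [fn_rx_mem _ hg, fn_zero, res_zero, fn_zero]
  · rw [suppOn_rx _ g hg, fn_zero]

lemma bi_ne_zero (hM : IsPModular p M) {b : Set (IrrCharacter H)} (hb : IsPBlock M b) :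
    bi M H b ≠ 0 := by
  classical
  intro h
  obtain ⟨ψ, hψ⟩ := IsPBlock.nonempty hM hb
  have h1 : red M (blockElem b) = red M (0 : MonoidAlgebra ℂ H) := fn_ext fun c => by
    rw [fn_red, fn_red, fn_zero, res_zero, ← fn_rx_coe, ← bi_eq_rx, h, fn_zero]
  have h2 := res_omega_eq_of_red_eq hM ψ (isCentralFn_blockElem b) (integral_blockElem hM hb)
    isCentralFn_zero integral_zero h1
  rw [omega_blockElem, if_pos hψ, omega_zero, res_one, res_zero] at h2
  exact one_ne_zero h2

lemma bi_injective (hM : IsPModular p M) {b b' : Set (IrrCharacter H)} (hb : IsPBlock M b)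
    (hb' : IsPBlock M b') (h : bi M H b = bi M H b') : b = b' := by
  by_contra hne
  have h0 := bi_mul_bi hM hb hb' hne
  rw [← h, bi_mul_self hM hb] at h0
  exact bi_ne_zero hM hb h0

lemma sum_blockElem (hM : IsPModular p M) :
    ∑ b ∈ blocksFinset M H, blockElem b = (1 : MonoidAlgebra ℂ H) := by
  classical
  refine eq_of_omega_eq (IsCentralFn.sum _ _ fun B _ => isCentralFn_blockElem B)
    isCentralFn_one fun χ => ?_
  rw [omega_sum, omega_one, Finset.sum_congr rfl fun B _ => omega_blockElem B χ,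
    Finset.sum_eq_single (blockOf M (χ : H → ℂ)), if_pos (mem_blockOf_self hM χ)]
  · exact fun B hB hne => if_neg fun h =>
      hne (IsPBlock.eq_blockOf hM ((mem_blocksFinset hM).1 hB) h)
  · exact fun h => absurd ((mem_blocksFinset hM).2 (isPBlock_blockOf χ)) h

lemma sum_bi (hM : IsPModular p M) : ∑ b ∈ blocksFinset M H, bi M H b = 1 := by
  simp only [bi_eq_rx]
  rw [← rx_sum _ fun b hb => integral_blockElem hM ((mem_blocksFinset hM).1 hb), sum_blockElem hM,
    rx_one]

lemma exists_res_eq (r : Res M) : ∃ z : ℂ, z ∈ place M ∧ res M z = r := by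
  obtain ⟨x, hx⟩ := Ideal.Quotient.mk_surjective r
  exact ⟨(x : ℂ), x.2, by rw [res_coe]; exact hx⟩

/-- **Primitive idempotents**: an idempotent invariant under and supported on `H` is a sum of block
idempotents of `H`. -/
theorem exists_eq_sum_bi (hM : IsPModular p M) {ε : MonoidAlgebra (Res M) G} (hs : SuppOn H ε)
    (hi : InvOn H ε) (hee : ε * ε = ε) :
    ∃ T ⊆ blocksFinset M H, ε = ∑ b ∈ T, bi M H b := by
  classical
  choose lift hlift1 hlift2 using exists_res_eq (M := M)
  set z : MonoidAlgebra ℂ H := ofFn fun h => lift (fn ε (h : G)) with hz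
  have hzc : IsCentralFn z := isCentralFn_ofFn fun g h => by
    simp only [Subgroup.coe_mul, Subgroup.coe_inv]; rw [hi _ h.2]
  have hzi : Integral M z := fun h => by rw [hz, fn_ofFn]; exact hlift1 _
  have hrx : rx M H z = ε := fn_ext fun g => by
    by_cases hg : g ∈ H
    · rw [fn_rx_mem _ hg, hz, fn_ofFn, hlift2]
    · rw [suppOn_rx _ g hg, hs g hg]
  have hzz : red M (z * z) = red M z := rx_inj (by rw [rx_mul hzi hzi, hrx, hee])
  set T := (blocksFinset M H).filter
    fun b : Set (IrrCharacter H) => ∀ ψ : IrrCharacter H, ψ ∈ b →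
      res M (omega (ψ : H → ℂ) z) = 1 with hT
  have hTb : ∀ b ∈ T, IsPBlock M b := fun b hb =>
    (mem_blocksFinset hM).1 (Finset.mem_filter.1 hb).1
  refine ⟨T, Finset.filter_subset _ _, ?_⟩
  set s := ∑ b ∈ T, blockElem b with hs'
  have hsc : IsCentralFn s := IsCentralFn.sum _ _ fun b _ => isCentralFn_blockElem b
  have hsi : Integral M s := fun h => by
    rw [hs', fn_sum]; exact sum_mem fun b hb => integral_blockElem hM (hTb b hb) h
  have h01 : ∀ ψ : IrrCharacter H, res M (omega (ψ : H → ℂ) z) = 0 ∨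
      res M (omega (ψ : H → ℂ) z) = 1 := fun ψ => by
    have h := res_omega_eq_of_red_eq hM ψ (hzc.mul hzc) (hzi.mul hzi) hzc hzi hzz
    rw [omega_mul ψ hzc, res_mul (omega_mem_place hM ψ hzc hzi) (omega_mem_place hM ψ hzc hzi)] at h
    exact IsIdempotentElem.iff_eq_zero_or_one.1 h
  have homega : ∀ ψ : IrrCharacter H, omega (ψ : H → ℂ) s =
      if res M (omega (ψ : H → ℂ) z) = 1 then 1 else 0 := by
    intro ψ
    rw [hs', omega_sum, Finset.sum_congr rfl fun b _ => omega_blockElem b ψ]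
    split_ifs with h
    · rw [Finset.sum_eq_single (blockOf M (ψ : H → ℂ)), if_pos (mem_blockOf_self hM ψ)]
      · exact fun b hb hne => if_neg fun h' => hne (IsPBlock.eq_blockOf hM (hTb b hb) h')
      · refine fun h' => absurd (Finset.mem_filter.2
          ⟨(mem_blocksFinset hM).2 (isPBlock_blockOf ψ), fun φ hφ => ?_⟩) h'
        rw [← res_omega_eq_of_sameBlock hM hφ hzc hzi, h]
    · refine Finset.sum_eq_zero fun b hb => if_neg fun h' => h ?_
      exact (Finset.mem_filter.1 hb).2 ψ h'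
  have hsmall : ∀ ψ : IrrCharacter H, Small M (omega (ψ : H → ℂ) (z - s)) := by
    intro ψ
    rw [omega_sub, ← res_eq_iff (omega_mem_place hM ψ hzc hzi) (omega_mem_place hM ψ hsc hsi),
      homega]
    rcases h01 ψ with h | h
    · rw [h, if_neg zero_ne_one, res_zero]
    · rw [h, if_pos rfl, res_one]
  have hnil := isNilpotent_red_of_omega_small hM (hzc.sub hsc) (hzi.sub hsi) hsmall
  rw [red_sub hzi hsi] at hnil
  have hss : s * s = s := eq_of_omega_eq (hsc.mul hsc) hsc fun ψ => by
    rw [omega_mul ψ hsc, homega]; split_ifs <;> simp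
  have hred : red M z = red M s := eq_of_isNilpotent_sub
    (by rw [← red_mul hzi hzi, hzz]) (by rw [← red_mul hsi hsi, hss])
    (by rw [← red_mul hzi hsi, ← red_mul hsi hzi, IsCentralFn.comm hzc s]) hnil
  simp only [bi_eq_rx]
  rw [← hrx, rx_congr hred, hs', rx_sum _ fun b hb => integral_blockElem hM (hTb b hb)]

/-- An idempotent either contains a block or is orthogonal to it. -/
theorem mul_bi_eq_or (hM : IsPModular p M) {ε : MonoidAlgebra (Res M) G} (hs : SuppOn H ε)
    (hi : InvOn H ε) (hee : ε * ε = ε) {b : Set (IrrCharacter H)} (hb : IsPBlock M b) :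
    ε * bi M H b = bi M H b ∨ ε * bi M H b = 0 := by
  classical
  obtain ⟨T, hT, rfl⟩ := exists_eq_sum_bi hM hs hi hee
  rw [Finset.sum_mul]
  by_cases h : b ∈ T
  · left
    rw [Finset.sum_eq_single b, bi_mul_self hM hb]
    · exact fun c hc hne => bi_mul_bi hM ((mem_blocksFinset hM).1 (hT hc)) hb hne
    · exact fun h' => absurd h h'
  · exact .inr (Finset.sum_eq_zero fun c hc =>
      bi_mul_bi hM ((mem_blocksFinset hM).1 (hT hc)) hb fun e => h (e ▸ hc))

/-- Containment read by the central characters. -/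
theorem res_omega_eq_one_iff (hM : IsPModular p M) {z : MonoidAlgebra ℂ H} (hzc : IsCentralFn z)
    (hzi : Integral M z) (hee : rx M H z * rx M H z = rx M H z) {b : Set (IrrCharacter H)}
    (hb : IsPBlock M b) {ψ : IrrCharacter H} (hψ : ψ ∈ b) :
    res M (omega (ψ : H → ℂ) z) = 1 ↔ rx M H z * bi M H b = bi M H b := by
  classical
  have hec := isCentralFn_blockElem b
  have hei := integral_blockElem hM hb
  have hval : res M (omega (ψ : H → ℂ) (z * blockElem b)) = res M (omega (ψ : H → ℂ) z) := by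
    rw [omega_mul ψ hzc, omega_blockElem, if_pos hψ, mul_one]
  have h1 : rx M H z * bi M H b = bi M H b → res M (omega (ψ : H → ℂ) z) = 1 := fun h => by
    rw [← hval, res_omega_eq_of_red_eq hM ψ (hzc.mul hec) (hzi.mul hei) hec hei
      (rx_inj (by rw [rx_mul hzi hei, ← bi_eq_rx, h])), omega_blockElem, if_pos hψ, res_one]
  refine ⟨fun h => ?_, h1⟩
  rcases mul_bi_eq_or hM (suppOn_rx z) (invOn_rx hzc) hee hb with h' | h'
  · exact h'
  · exfalso
    have h2 : res M (omega (ψ : H → ℂ) (z * blockElem b)) = 0 := by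
      rw [res_omega_eq_of_red_eq hM ψ (hzc.mul hec) (hzi.mul hei) isCentralFn_zero integral_zero,
        omega_zero, res_zero]
      refine rx_inj ?_
      rw [rx_mul hzi hei, ← bi_eq_rx, h']
      refine fn_ext fun g => ?_
      by_cases hg : g ∈ H
      · rw [fn_rx_mem _ hg, fn_zero, fn_zero, res_zero]
      · rw [suppOn_rx _ g hg, fn_zero]
    rw [hval, h] at h2
    exact one_ne_zero h2

end Cfsg.Lib.Blocks
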