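import Mathlib
import Cfsg.Agent.Blocks.Local

/-!
# Idempotents and normal `p`-subgroups

An idempotent invariant under and supported on a subgroup `T` lies in the group algebra of the
centraliser of every normal `p`-subgroup of `T`; commuting integral idempotents with the same
reduction are equal, so that such statements lift to the complex group algebra.
-/

set_option autoImplicit false
set_option linter.unusedSectionVars false

namespace Cfsg.Lib.Blocks

open Cfsg.Lib.Chars

universe u

section General

variable {G : Type u} [Group G] [Fintype G] {R : Type*} [CommRing R] {p : ℕ} [Fact p.Prime]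
  [CharP R p]

lemma InvOn.comm' {T : Subgroup G} {e : MonoidAlgebra R G} (hi : InvOn T e) {x : G} (hx : x ∈ T) :
    MonoidAlgebra.single x (1 : R) * e = e * MonoidAlgebra.single x 1 := by
  classical
  refine fn_ext fun c => ?_
  rw [fn_single_mul, fn_mul_single, one_mul, mul_one]
  have := hi x hx (x⁻¹ * c)
  rw [show x * (x⁻¹ * c) * x⁻¹ = c * x⁻¹ by group] at this
  exact this.symm

/-- An idempotent of `T` killed by the Brauer map at a normal `p`-subgroup of `T` is zero. -/
theorem eq_zero_of_br_eq_zero {P T : Subgroup G} (hP : IsPGroup p P) (hPT : P ≤ T)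
    (hn : ∀ t ∈ T, ∀ y ∈ P, t * y * t⁻¹ ∈ P) {e : MonoidAlgebra R G} (hs : SuppOn T e)
    (hi : InvOn T e) (hee : e * e = e) (hbr : br P e = 0) : e = 0 := by
  classical
  haveI : NeZero p := ⟨(Fact.out : p.Prime).ne_zero⟩
  letI := Fintype.ofFinite P
  by_contra hne
  -- the span over the prime field of the translates of `e` by `P`
  set φ : (P → ZMod p) →+ MonoidAlgebra R G :=
    { toFun := fun f => ∑ x : P, MonoidAlgebra.single (x : G) (ZMod.castHom dvd_rfl R (f x)) * e
      map_zero' := Finset.sum_eq_zero fun x _ => by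
        rw [Pi.zero_apply, map_zero, MonoidAlgebra.single_zero, zero_mul]
      map_add' := fun f g => by
        rw [← Finset.sum_add_distrib]
        refine Finset.sum_congr rfl fun x _ => ?_
        rw [Pi.add_apply, map_add, MonoidAlgebra.single_add, add_mul] } with hφ
  have hφapp : ∀ f, φ f =
      ∑ x : P, MonoidAlgebra.single (x : G) (ZMod.castHom dvd_rfl R (f x)) * e := fun f => rfl
  set W : AddSubgroup (MonoidAlgebra R G) := φ.range with hW
  have hfix : ∀ w ∈ W, e * w = w := by
    rintro _ ⟨f, rfl⟩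
    rw [hφapp, Finset.mul_sum]
    refine Finset.sum_congr rfl fun x _ => ?_
    have h1 : MonoidAlgebra.single (x : G) (ZMod.castHom dvd_rfl R (f x)) =
        (ZMod.castHom dvd_rfl R (f x)) • MonoidAlgebra.single (x : G) (1 : R) := by
      rw [MonoidAlgebra.smul_single, smul_eq_mul, mul_one]
    rw [h1, smul_mul_assoc, mul_smul_comm, ← mul_assoc, ← hi.comm' (hPT x.2), mul_assoc, hee]
  have hclosed : ∀ (y : P) (w : W),
      MonoidAlgebra.single (y : G) (1 : R) * (w : MonoidAlgebra R G) ∈ W := by
    rintro y ⟨_, f, rfl⟩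
    refine ⟨fun x => f (y⁻¹ * x), ?_⟩
    simp only [hφapp]
    rw [Finset.mul_sum]
    refine (Fintype.sum_equiv (Equiv.mulLeft y) _ _ fun x => ?_).symm
    rw [← mul_assoc, MonoidAlgebra.single_mul_single, one_mul]
    simp
  letI act : MulAction P W :=
    { smul := fun y w => ⟨MonoidAlgebra.single (y : G) (1 : R) * (w : MonoidAlgebra R G), hclosed y w⟩
      one_smul := fun w => Subtype.ext (by
        show MonoidAlgebra.single (((1 : P) : G)) (1 : R) * (w : MonoidAlgebra R G) = _
        rw [Subgroup.coe_one, ← MonoidAlgebra.one_def, one_mul])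
      mul_smul := fun a b w => Subtype.ext (by
        show MonoidAlgebra.single (((a * b : P) : G)) (1 : R) * (w : MonoidAlgebra R G) =
          MonoidAlgebra.single (a : G) (1 : R) * (MonoidAlgebra.single (b : G) (1 : R) * _)
        rw [← mul_assoc, MonoidAlgebra.single_mul_single, one_mul, Subgroup.coe_mul]) }
  haveI : Finite W := Finite.of_surjective φ.rangeRestrict φ.rangeRestrict_surjective
  have hmem : e ∈ W := ⟨Pi.single 1 1, by
    rw [hφapp, Finset.sum_eq_single (1 : P)]
    · rw [Pi.single_eq_same, map_one, Subgroup.coe_one, ← MonoidAlgebra.one_def, one_mul]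
    · intro x _ hx
      rw [Pi.single_eq_of_ne hx, map_zero, MonoidAlgebra.single_zero, zero_mul]
    · exact fun h => absurd (Finset.mem_univ _) h⟩
  have hnt : 1 < Nat.card W := by
    refine Finite.one_lt_card_iff_nontrivial.2 ⟨⟨⟨e, hmem⟩, 0, fun h => hne ?_⟩⟩
    exact congrArg Subtype.val h
  have hdvd : p ∣ Nat.card W := by
    obtain ⟨q, hq, hqd⟩ := Nat.exists_prime_and_dvd hnt.ne'
    haveI := Fact.mk hq
    obtain ⟨w, hw⟩ := exists_prime_addOrderOf_dvd_card' (G := W) q hqd
    have h1 : p • w = 0 := Subtype.ext (by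
      rw [AddSubgroup.coe_nsmul, ← Nat.cast_smul_eq_nsmul R, CharP.cast_eq_zero, zero_smul,
        AddSubgroup.coe_zero])
    have h2 : q ∣ p := hw ▸ addOrderOf_dvd_of_nsmul_eq_zero h1
    rwa [(Nat.prime_dvd_prime_iff_eq hq Fact.out).1 h2] at hqd
  have h0 : (0 : W) ∈ MulAction.fixedPoints P W := fun y => Subtype.ext (by
    show MonoidAlgebra.single (y : G) (1 : R) * (0 : MonoidAlgebra R G) = 0
    rw [mul_zero])
  obtain ⟨w, hw, hw0⟩ :=
    hP.exists_fixed_point_of_prime_dvd_card_of_fixed_point W hdvd h0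
  refine hw0 (Subtype.ext ?_)
  show (0 : MonoidAlgebra R G) = (w : MonoidAlgebra R G)
  refine fn_ext fun c => ?_
  have hwy : ∀ y ∈ P, ∀ d : G, fn (w : MonoidAlgebra R G) (y * d) = fn (w : MonoidAlgebra R G) d := by
    intro y hy d
    have h1 : MonoidAlgebra.single y⁻¹ (1 : R) * (w : MonoidAlgebra R G) = w :=
      congrArg Subtype.val (hw ⟨y⁻¹, P.inv_mem hy⟩)
    conv_rhs => rw [← h1, fn_single_mul, one_mul, inv_inv]
  rw [fn_zero, ← hfix w w.2, fn_mul]
  letI : MulAction P G := MulAction.compHom G ((MulAut.conj : G →* MulAut G).comp P.subtype)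
  have hsmul : ∀ (k : P) (a : G), k • a = (k : G) * a * (k : G)⁻¹ := fun k a => rfl
  rw [sum_eq_sum_fixed hP (fun r => by simp [CharP.cast_eq_zero R p])
    (fun g => fn e g * fn (w : MonoidAlgebra R G) (g⁻¹ * c)) ?_]
  · refine (Finset.sum_eq_zero fun g hg => ?_).symm
    simp only [Finset.mem_filter, Finset.mem_univ, true_and, MulAction.mem_fixedPoints] at hg
    have hgC : g ∈ Subgroup.centralizer (P : Set G) := Subgroup.mem_centralizer_iff.2 fun y hy =>
      by
        have := hg ⟨y, hy⟩
        rw [hsmul] at this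
        calc y * g = y * g * y⁻¹ * y := by group
          _ = g * y := by rw [this]
    have h2 : fn e g = 0 := by
      rw [← fn_trunc_mem (H := Subgroup.centralizer (P : Set G)) e hgC]
      exact (congrArg (fun z => fn z g) hbr).trans (fn_zero g)
    show fn e g * _ = 0
    rw [h2, zero_mul]
  · intro k g
    rw [hsmul, hi _ (hPT k.2) g]
    by_cases hg : g ∈ T
    · congr 1
      rw [show ((k : G) * g * (k : G)⁻¹)⁻¹ * c = (k : G) * (g⁻¹ * (k : G)⁻¹ * c) by group,
        hwy _ k.2, show g⁻¹ * (k : G)⁻¹ * c = (g⁻¹ * (k : G)⁻¹ * g) * (g⁻¹ * c) by group]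
      refine hwy _ ?_ _
      simpa using hn g⁻¹ (T.inv_mem hg) _ (P.inv_mem k.2)
    · rw [hs g hg, zero_mul, zero_mul]

/-- An idempotent of `T` is supported on the centraliser of every normal `p`-subgroup of `T`. -/
theorem suppOn_centralizer_of_idem {P T : Subgroup G} (hP : IsPGroup p P) (hPT : P ≤ T)
    (hn : ∀ t ∈ T, ∀ y ∈ P, t * y * t⁻¹ ∈ P) {e : MonoidAlgebra R G} (hs : SuppOn T e)
    (hi : InvOn T e) (hee : e * e = e) : SuppOn (Subgroup.centralizer (P : Set G)) e := by
  have hiP := hi.mono hPT
  have he' : br P e * br P e = br P e := by rw [← br_mul hP hiP hiP, hee]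
  have hs' : SuppOn T (br P e) := fun g hg => by
    by_cases h : g ∈ Subgroup.centralizer (P : Set G)
    · rw [br, fn_trunc_mem _ h, hs g hg]
    · rw [br, fn_trunc_not_mem _ h]
  have hi' : InvOn T (br P e) := invOn_br hi hn
  have hcom : e * br P e = br P e * e := hi.comm hs'
  have hef : (e * br P e) * (e * br P e) = e * br P e := by
    rw [mul_assoc, ← mul_assoc (br P e) e, ← hcom, mul_assoc e (br P e), he', ← mul_assoc, hee]
  have hbrf : br P (e * br P e) = br P e := by
    rw [br_mul hP hiP (hi'.mono hPT), br_br le_rfl, he']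
  have key : ∀ x : MonoidAlgebra R G, SuppOn T x → InvOn T x → x * x = x → br P x = br P e →
      x * (e * br P e) = e * br P e → x = e * br P e := by
    intro x hsx hix hxx hbx hxf
    have hcx : e * br P e * x = e * br P e := by
      rw [(hi.mul hi').comm hsx]; exact hxf
    refine sub_eq_zero.1 (eq_zero_of_br_eq_zero hP hPT hn ?_ ?_ ?_ ?_)
    · intro g hg
      show fn (x - e * br P e) g = 0
      rw [fn_sub, hsx g hg, (hs.mul hs') g hg, sub_zero]
    · intro t ht g
      rw [fn_sub, fn_sub, hix t ht, (hi.mul hi') t ht]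
    · rw [sub_mul, mul_sub, mul_sub, hxx, hxf, hcx, hef]; abel
    · refine fn_ext fun g => ?_
      by_cases hg : g ∈ Subgroup.centralizer (P : Set G)
      · have h1 : fn (trunc (Subgroup.centralizer (P : Set G)) x) g =
            fn (trunc (Subgroup.centralizer (P : Set G)) (e * br P e)) g :=
          congrArg (fun z => fn z g) (hbx.trans hbrf.symm)
        rw [fn_trunc_mem _ hg, fn_trunc_mem _ hg] at h1
        rw [br, fn_trunc_mem _ hg, fn_sub, h1, sub_self, fn_zero]
      · rw [br, fn_trunc_not_mem _ hg, fn_zero]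
  have h1 : e = e * br P e := key e hs hi hee rfl (by rw [← mul_assoc, hee])
  have h2 : br P e = e * br P e := key (br P e) hs' hi' he' (br_br le_rfl e) (by
    rw [← mul_assoc, ← hcom, mul_assoc, he'])
  rw [h1, ← h2]
  exact suppOn_br P e

end General

variable {G : Type u} [Group G] [Fintype G] {M : Ideal AlgInt} {p : ℕ}

/-- **Exactness**: commuting integral idempotents with the same reduction are equal. -/
theorem eq_of_red_eq_of_idem {a b : MonoidAlgebra ℂ G} (haa : a * a = a) (hbb : b * b = b)
    (hab : a * b = b * a) (hai : Integral M a) (hbi : Integral M b) (h : red M a = red M b) :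
    a = b := by
  classical
  set d := a - b with hd
  have e1 : a * b * a = a * b := by rw [mul_assoc, ← hab, ← mul_assoc, haa]
  have hd3 : d * d * d = d := by
    rw [hd]
    simp only [sub_mul, mul_sub, haa, hbb, ← hab, e1]
    rw [mul_assoc a b b, hbb]
    abel
  set v := (place M).valuation with hv
  obtain ⟨g₀, -, hg₀⟩ := Finset.exists_max_image Finset.univ (fun g => v (fn d g))
    ⟨1, Finset.mem_univ _⟩
  have hmax : ∀ g, v (fn d g) ≤ v (fn d g₀) := fun g => hg₀ g (Finset.mem_univ _)
  have hbound : ∀ x y : MonoidAlgebra ℂ G, ∀ α β : (place M).ValueGroup,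
      (∀ g, v (fn x g) ≤ α) → (∀ g, v (fn y g) ≤ β) → ∀ g, v (fn (x * y) g) ≤ α * β := by
    intro x y α β hx hy g
    rw [fn_mul]
    refine Valuation.map_sum_le _ fun t _ => ?_
    rw [map_mul]
    exact mul_le_mul' (hx t) (hy _)
  have h3 := hbound (d * d) d _ _ (hbound d d _ _ hmax hmax) hmax g₀
  rw [hd3] at h3
  have hsmall : v (fn d g₀) < 1 := by
    rw [hv, ← small_iff, hd, fn_sub]
    have := congrArg (fun z => fn z g₀) h
    simp only [fn_red] at this
    exact (res_eq_iff (hai g₀) (hbi g₀)).1 this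
  have h0 : v (fn d g₀) = 0 := by
    by_contra hne
    have hpos : 0 < v (fn d g₀) := pos_of_ne_zero hne
    have h4 : v (fn d g₀) * v (fn d g₀) * v (fn d g₀) < v (fn d g₀) := by
      calc v (fn d g₀) * v (fn d g₀) * v (fn d g₀) < 1 * v (fn d g₀) := by
            refine mul_lt_mul_of_pos_right ?_ hpos
            calc v (fn d g₀) * v (fn d g₀) < 1 * v (fn d g₀) := mul_lt_mul_of_pos_right hsmall hpos
              _ < 1 := by rwa [one_mul]
        _ = _ := one_mul _
    exact absurd h3 (not_le.2 h4)
  refine fn_ext fun g => sub_eq_zero.1 ?_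
  rw [← fn_sub, ← hd, ← map_eq_zero v]
  exact le_antisymm (h0 ▸ hmax g) zero_le'

/-- The idempotent of a block of a subgroup, in the complex group algebra. -/
noncomputable def bx (H : Subgroup G) (b : Set (IrrCharacter H)) : MonoidAlgebra ℂ G :=
  ofFn (subgroupBlockCoeff H b)

@[simp] lemma fn_bx (H : Subgroup G) (b : Set (IrrCharacter H)) (g : G) :
    fn (bx H b) g = subgroupBlockCoeff H b g := by simp [bx]

lemma suppOn_bx (H : Subgroup G) (b : Set (IrrCharacter H)) : SuppOn H (bx H b) := fun g hg => by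
  rw [fn_bx, subgroupBlockCoeff, dif_neg hg]

lemma red_bx (H : Subgroup G) (b : Set (IrrCharacter H)) : red M (bx H b) = bi M H b :=
  fn_ext fun g => by rw [fn_red, fn_bx, bi, fn_ofFn]

lemma bx_eq_extElem (H : Subgroup G) [Fintype H] (b : Set (IrrCharacter H)) :
    bx H b = extElem H (blockElem b) := fn_ext fun g => by
  by_cases hg : g ∈ H
  · rw [fn_bx, fn_extElem_mem H _ hg, fn_blockElem, subgroupBlockCoeff, dif_pos hg]
  · rw [suppOn_bx H b g hg, fn_extElem_not_mem H _ hg]

lemma invOn_bx (H : Subgroup G) (b : Set (IrrCharacter H)) : InvOn H (bx H b) := fun h hh g => by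
  rw [fn_bx, fn_bx, subgroupBlockCoeff, subgroupBlockCoeff]
  by_cases hg : g ∈ H
  · rw [dif_pos hg, dif_pos (H.mul_mem (H.mul_mem hh hg) (H.inv_mem hh))]
    letI := Fintype.ofFinite H
    exact blockCoeff_conj b ⟨g, hg⟩ ⟨h, hh⟩
  · rw [dif_neg hg, dif_neg fun h' => hg ?_]
    have := H.mul_mem (H.mul_mem (H.inv_mem hh) h') hh
    rwa [show h⁻¹ * (h * g * h⁻¹) * h = g by group] at this

lemma integral_bx (hM : IsPModular p M) {H : Subgroup G} {b : Set (IrrCharacter H)}
    (hb : IsPBlock M b) : Integral M (bx H b) := by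
  letI := Fintype.ofFinite H
  rw [bx_eq_extElem]; exact (integral_blockElem hM hb).extElem

lemma bx_mul_self {H : Subgroup G} (b : Set (IrrCharacter H)) : bx H b * bx H b = bx H b := by
  letI := Fintype.ofFinite H
  rw [bx_eq_extElem, extElem_mul, blockElem_mul_self]

lemma bx_mul_bx (hM : IsPModular p M) {H : Subgroup G} {b b' : Set (IrrCharacter H)}
    (hb : IsPBlock M b) (hb' : IsPBlock M b') (hne : b ≠ b') : bx H b * bx H b' = 0 := by
  classical
  letI := Fintype.ofFinite H
  have h0 : blockElem b * blockElem b' = 0 :=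
    eq_zero_of_omega_eq_zero ((isCentralFn_blockElem b).mul (isCentralFn_blockElem b')) fun χ => by
      rw [omega_mul χ (isCentralFn_blockElem b), omega_blockElem, omega_blockElem]
      by_cases h : χ ∈ b
      · rw [if_neg fun h' => hne (IsPBlock.eq_of_mem_inter hM hb hb' h h'), mul_zero]
      · rw [if_neg h, zero_mul]
  rw [bx_eq_extElem, bx_eq_extElem, extElem_mul, h0]
  refine fn_ext fun g => ?_
  by_cases hg : g ∈ H
  · rw [fn_extElem_mem H _ hg, fn_zero, fn_zero]
  · rw [fn_extElem_not_mem H _ hg, fn_zero]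

lemma red_sum {ι : Type*} (s : Finset ι) {z : ι → MonoidAlgebra ℂ G}
    (h : ∀ i ∈ s, Integral M (z i)) : red M (∑ i ∈ s, z i) = ∑ i ∈ s, red M (z i) :=
  fn_ext fun g => by
    rw [fn_red, fn_sum, fn_sum, res_sum _ _ fun i hi => h i hi g]
    exact Finset.sum_congr rfl fun i _ => (fn_red _ _).symm

/-- **Lifting**: an integral idempotent invariant under `H` whose reduction is supported on `H` is
exactly a sum of block idempotents of `H`. -/
theorem exists_eq_sum_bx (hM : IsPModular p M) (H : Subgroup G) [Fintype H]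
    {z : MonoidAlgebra ℂ G} (hi : InvOn H z) (hzi : Integral M z) (hzz : z * z = z)
    (hs : SuppOn H (red M z)) :
    ∃ T ⊆ blocksFinset M H, z = ∑ b ∈ T, bx H b := by
  classical
  obtain ⟨T, hT, hTe⟩ := exists_eq_sum_bi hM hs
    (fun h hh g => by rw [fn_red, fn_red, hi h hh g]) (by rw [← red_mul hzi hzi, hzz])
  have hTb : ∀ b ∈ T, IsPBlock M b := fun b hb => (mem_blocksFinset hM).1 (hT hb)
  refine ⟨T, hT, eq_of_red_eq_of_idem (M := M) hzz ?_ ?_ hzi
    (fun g => by rw [fn_sum]; exact sum_mem fun b hb => integral_bx hM (hTb b hb) g) ?_⟩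
  · rw [Finset.sum_mul]
    refine Finset.sum_congr rfl fun b hb => ?_
    rw [Finset.mul_sum, Finset.sum_eq_single b]
    · exact bx_mul_self b
    · exact fun c hc hne => bx_mul_bx hM (hTb b hb) (hTb c hc) (Ne.symm hne)
    · exact fun h => absurd hb h
  · exact hi.comm (SuppOn.sum _ fun b _ => suppOn_bx H b)
  · rw [hTe, red_sum _ fun b hb => integral_bx hM (hTb b hb)]
    exact Finset.sum_congr rfl fun b _ => (red_bx H b).symm

/-- If the block idempotent vanishes modulo `M` outside a normal subgroup, it vanishes there. -/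
theorem blockCoeff_eq_zero_of_small (hM : IsPModular p M) (K : Subgroup G) [K.Normal]
    {B : Set (IrrCharacter G)} (hB : IsPBlock M B)
    (h : ∀ g, g ∉ K → Small M (blockCoeff B g)) {g : G} (hg : g ∉ K) : blockCoeff B g = 0 := by
  classical
  letI := Fintype.ofFinite K
  have hei := integral_blockElem hM hB
  obtain ⟨T, -, hTe⟩ := exists_eq_sum_bx hM K
    ((invOn_top_iff.2 (isCentralFn_blockElem B)).mono le_top) hei (blockElem_mul_self B)
    fun x hx => by
      rw [fn_red, res_eq_zero_iff (hei x), fn_blockElem]; exact h x hx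
  have := congrArg (fun z => fn z g) hTe
  simp only [fn_blockElem, fn_sum] at this
  rw [this]
  exact Finset.sum_eq_zero fun b _ => suppOn_bx K b g hg

/-- **The block idempotents are supported on the centraliser of a normal `p`-subgroup.** -/
theorem blockCoeff_eq_zero_of_not_mem_centralizer [Fact p.Prime] (hM : IsPModular p M)
    {P : Subgroup G} [P.Normal] (hP : IsPGroup p P) {B : Set (IrrCharacter G)} (hB : IsPBlock M B)
    {g : G} (hg : g ∉ Subgroup.centralizer (P : Set G)) : blockCoeff B g = 0 := by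
  haveI := charP_res hM
  haveI : (Subgroup.centralizer (P : Set G)).Normal := Subgroup.normal_centralizer
  have hei := integral_blockElem hM hB
  have hsupp := suppOn_centralizer_of_idem (R := Res M) (T := ⊤) hP le_top
    (fun t _ y hy => Subgroup.Normal.conj_mem ‹_› y hy t) (e := red M (blockElem B))
    (fun g hg => absurd (Subgroup.mem_top g) hg)
    (invOn_top_iff.2 (isCentralFn_blockElem B).red)
    (by rw [← red_mul hei hei, blockElem_mul_self])
  refine blockCoeff_eq_zero_of_small hM _ hB (fun x hx => ?_) hg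
  have := hsupp x hx
  rwa [fn_red, res_eq_zero_iff (hei x), fn_blockElem] at this

end Cfsg.Lib.Blocks
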