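import Mathlib
import Cfsg.Prelude.Def_BlockLocal
import Cfsg.Agent.Blocks.Normal

/-!
# Transporting blocks along isomorphisms and conjugations
-/

set_option autoImplicit false
set_option linter.unusedSectionVars false

namespace Cfsg.Lib.Blocks

open Cfsg.Lib.Chars

universe u

section Equiv

variable {H K : Type u} [Group H] [Group K] [Finite H] [Finite K] {M : Ideal AlgInt}

/-- Irreducible characters along an isomorphism. -/
noncomputable def irrEquiv (e : K ≃* H) : IrrCharacter H ≃ IrrCharacter K where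
  toFun χ := ⟨fun k => (χ : H → ℂ) (e k), IsIrrCharacter.comp_mulEquiv χ.2 e⟩
  invFun ψ := ⟨fun h => (ψ : K → ℂ) (e.symm h), IsIrrCharacter.comp_mulEquiv ψ.2 e.symm⟩
  left_inv χ := Subtype.ext (funext fun h => by simp)
  right_inv ψ := Subtype.ext (funext fun h => by simp)

@[simp] lemma irrEquiv_apply (e : K ≃* H) (χ : IrrCharacter H) (k : K) :
    (irrEquiv e χ : K → ℂ) k = (χ : H → ℂ) (e k) := rfl

lemma comap_centralizer_singleton (e : K ≃* H) (k : K) :
    (Subgroup.centralizer ({e k} : Set H)).comap e.toMonoidHom =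
      Subgroup.centralizer ({k} : Set K) := by
  ext x
  simp only [Subgroup.mem_comap, MulEquiv.coe_toMonoidHom, Subgroup.mem_centralizer_singleton_iff,
    ← map_mul, e.injective.eq_iff]

lemma centralChar_comp (e : K ≃* H) (f : H → ℂ) (k : K) :
    centralChar (fun x => f (e x)) k = centralChar f (e k) := by
  unfold centralChar
  simp only [map_one]
  rw [← comap_centralizer_singleton e k,
    Subgroup.index_comap_of_surjective _ (f := e.toMonoidHom) e.surjective]

lemma sameBlock_irrEquiv (e : K ≃* H) (χ ψ : IrrCharacter H) :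
    SameBlock M (irrEquiv e χ : K → ℂ) (irrEquiv e ψ : K → ℂ) ↔
      SameBlock M (χ : H → ℂ) (ψ : H → ℂ) := by
  have key : ∀ (φ : IrrCharacter H) (k : K),
      centralChar (irrEquiv e φ : K → ℂ) k = centralChar (φ : H → ℂ) (e k) :=
    fun φ k => centralChar_comp e _ k
  constructor
  · intro h x
    have := h (e.symm x)
    rwa [key, key, MulEquiv.apply_symm_apply] at this
  · intro h k
    rw [key, key]; exact h _

lemma IsPBlock.image_irrEquiv (e : K ≃* H) {B : Set (IrrCharacter H)} (hB : IsPBlock M B) :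
    IsPBlock M (irrEquiv e '' B) := by
  obtain ⟨χ, rfl⟩ := hB
  refine ⟨irrEquiv e χ, Set.ext fun ψ => ?_⟩
  obtain ⟨φ, rfl⟩ := (irrEquiv e).surjective ψ
  rw [(irrEquiv e).injective.mem_set_image]
  exact (sameBlock_irrEquiv e χ φ).symm

lemma blockCoeff_image (e : K ≃* H) (B : Set (IrrCharacter H)) (k : K) :
    blockCoeff (irrEquiv e '' B) k = blockCoeff B (e k) := by
  unfold blockCoeff
  rw [finsum_mem_image (irrEquiv e).injective.injOn, Nat.card_congr e.toEquiv]
  simp

lemma isDefectClass_image (e : K ≃* H) {B : Set (IrrCharacter H)} (k : K) :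
    IsDefectClass M (irrEquiv e '' B) k ↔ IsDefectClass M B (e k) := by
  unfold IsDefectClass
  rw [blockCoeff_image, Set.forall_mem_image]
  refine and_congr_right fun _ => and_congr_right fun _ => forall₂_congr fun χ _ => ?_
  rw [show centralChar (irrEquiv e χ : K → ℂ) k = centralChar (χ : H → ℂ) (e k) from
    centralChar_comp e _ k]

lemma IsDefectGroup.image_irrEquiv {p : ℕ} [Fact p.Prime] (e : K ≃* H) {B : Set (IrrCharacter H)}
    {D : Subgroup H} (hD : IsDefectGroup p M B D) :
    IsDefectGroup p M (irrEquiv e '' B) (D.map e.symm.toMonoidHom) := by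
  obtain ⟨g, hg, S, rfl⟩ := hD
  have hmem : ∀ x : H, x ∈ Subgroup.centralizer ({g} : Set H) ↔
      e.symm x ∈ Subgroup.centralizer ({e.symm g} : Set K) := fun x => by
    rw [Subgroup.mem_centralizer_singleton_iff, Subgroup.mem_centralizer_singleton_iff,
      ← map_mul, ← map_mul, e.symm.injective.eq_iff]
  refine ⟨e.symm g, (isDefectClass_image e _).2 (by rwa [MulEquiv.apply_symm_apply]), ?_⟩
  let φ : Subgroup.centralizer ({g} : Set H) ≃* Subgroup.centralizer ({e.symm g} : Set K) :=
    { toFun := fun x => ⟨e.symm x, (hmem x).1 x.2⟩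
      invFun := fun y => ⟨e y, (hmem _).2 (by rw [MulEquiv.symm_apply_apply]; exact y.2)⟩
      left_inv := fun x => Subtype.ext (by simp)
      right_inv := fun y => Subtype.ext (by simp)
      map_mul' := fun x y => Subtype.ext (by simp) }
  refine ⟨S.mapSurjective (f := φ.toMonoidHom) φ.surjective, ?_⟩
  show _ = ((S : Subgroup (Subgroup.centralizer ({g} : Set H))).map φ.toMonoidHom).map
    (Subgroup.centralizer ({e.symm g} : Set K)).subtype
  rw [Subgroup.map_map, Subgroup.map_map]
  rfl

end Equiv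

/-! ### Conjugates of sets of characters of subgroups -/

variable {G : Type u} [Group G] [Fintype G] {M : Ideal AlgInt} {p : ℕ}

/-- The `x`-conjugate, as characters of `H'`, of a set of characters of `H`. -/
def conjSet (H H' : Subgroup G) (x : G) (f : Set (IrrCharacter H)) : Set (IrrCharacter H') :=
  {ξ' | ∃ ξ ∈ f, ∀ (c : H) (c' : H'), (c' : G) = x * (c : G) * x⁻¹ →
    (ξ' : H' → ℂ) c' = (ξ : H → ℂ) c}

/-- `H'` is the conjugate of `H` by `x`. -/
def IsConjSub (H H' : Subgroup G) (x : G) : Prop := ∀ g, g ∈ H' ↔ x⁻¹ * g * x ∈ H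

/-- Conjugation as an isomorphism from the conjugate subgroup. -/
def conjSubEquiv {H H' : Subgroup G} {x : G} (h : IsConjSub H H' x) : H' ≃* H where
  toFun c' := ⟨x⁻¹ * (c' : G) * x, (h _).1 c'.2⟩
  invFun c := ⟨x * (c : G) * x⁻¹, (h _).2 (by simp [mul_assoc])⟩
  left_inv c' := Subtype.ext (by simp [mul_assoc])
  right_inv c := Subtype.ext (by simp [mul_assoc])
  map_mul' a b := Subtype.ext (by simp [mul_assoc])

lemma conjSet_eq_image {H H' : Subgroup G} {x : G} (h : IsConjSub H H' x)
    (f : Set (IrrCharacter H)) : conjSet H H' x f = irrEquiv (conjSubEquiv h) '' f := by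
  ext ξ'
  constructor
  · rintro ⟨ξ, hξ, hval⟩
    exact ⟨ξ, hξ, Subtype.ext (funext fun c' =>
      (hval (conjSubEquiv h c') c' (by simp [conjSubEquiv, mul_assoc])).symm)⟩
  · rintro ⟨ξ, hξ, rfl⟩
    refine ⟨ξ, hξ, fun c c' hc => ?_⟩
    rw [irrEquiv_apply]
    exact congrArg _ (Subtype.ext (by simp [conjSubEquiv, hc, mul_assoc]))

lemma IsPBlock.conjSet {H H' : Subgroup G} {x : G} (h : IsConjSub H H' x)
    {f : Set (IrrCharacter H)} (hf : IsPBlock M f) : IsPBlock M (conjSet H H' x f) := by
  rw [conjSet_eq_image h]; exact IsPBlock.image_irrEquiv _ hf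

lemma subgroupBlockCoeff_conjSet {H H' : Subgroup G} {x : G} (h : IsConjSub H H' x)
    (f : Set (IrrCharacter H)) (g : G) :
    subgroupBlockCoeff H' (conjSet H H' x f) g = subgroupBlockCoeff H f (x⁻¹ * g * x) := by
  unfold subgroupBlockCoeff
  by_cases hg : g ∈ H'
  · rw [dif_pos hg, dif_pos ((h g).1 hg), conjSet_eq_image h, blockCoeff_image]; rfl
  · rw [dif_neg hg, dif_neg (mt (h g).2 hg)]

lemma bi_conjSet {H H' : Subgroup G} {x : G} (h : IsConjSub H H' x) (f : Set (IrrCharacter H)) :
    bi M H' (conjSet H H' x f) = cj x (bi M H f) :=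
  fn_ext fun g => by
    rw [fn_cj, bi, bi, fn_ofFn, fn_ofFn, subgroupBlockCoeff_conjSet h]

lemma bx_conjSet {H H' : Subgroup G} {x : G} (h : IsConjSub H H' x) (f : Set (IrrCharacter H)) :
    bx H' (conjSet H H' x f) = cj x (bx H f) :=
  fn_ext fun g => by rw [fn_cj, fn_bx, fn_bx, subgroupBlockCoeff_conjSet h]

lemma IsDefectGroup.conjSet [Fact p.Prime] {H H' : Subgroup G} {x : G} (h : IsConjSub H H' x)
    {f : Set (IrrCharacter H)} {D : Subgroup H} (hD : IsDefectGroup p M f D) :
    IsDefectGroup p M (conjSet H H' x f) (D.map (conjSubEquiv h).symm.toMonoidHom) := by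
  rw [conjSet_eq_image h]; exact IsDefectGroup.image_irrEquiv _ hD

lemma isConjSub_of_mem_normalizer {H : Subgroup G} {x : G}
    (hx : x ∈ Subgroup.normalizer (H : Set G)) : IsConjSub H H x :=
  fun g => by
    have h1 := (Subgroup.mem_normalizer_iff.1 hx (x⁻¹ * g * x))
    rw [show x * (x⁻¹ * g * x) * x⁻¹ = g by group] at h1
    exact h1.symm

lemma isConjSub_centralizer (Q : Subgroup G) (x : G) :
    IsConjSub (Subgroup.centralizer (Q : Set G))
      (Subgroup.centralizer ((Q.map (MulAut.conj x).toMonoidHom : Subgroup G) : Set G)) x := by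
  intro g
  simp only [Subgroup.mem_centralizer_iff, SetLike.mem_coe]
  constructor
  · intro h y hy
    have h1 : x * y * x⁻¹ * g = g * (x * y * x⁻¹) := h _ ⟨y, hy, rfl⟩
    calc y * (x⁻¹ * g * x) = x⁻¹ * (x * y * x⁻¹ * g) * x := by group
      _ = x⁻¹ * g * x * y := by rw [h1]; group
  · rintro h _ ⟨y, hy, rfl⟩
    have h1 := h y hy
    show x * y * x⁻¹ * g = g * (x * y * x⁻¹)
    calc x * y * x⁻¹ * g = x * (y * (x⁻¹ * g * x)) * x⁻¹ := by group
      _ = g * (x * y * x⁻¹) := by rw [h1]; group

/-- Conjugation of Brauer pair blocks is `conjSet`. -/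
lemma conjBlock_eq (Q : Subgroup G) (x : G)
    (f : Set (IrrCharacter (Subgroup.centralizer (Q : Set G)))) :
    conjBlock Q x f = conjSet (Subgroup.centralizer (Q : Set G))
      (Subgroup.centralizer ((Q.map (MulAut.conj x).toMonoidHom : Subgroup G) : Set G)) x f := rfl

/-- Stabilisation of a block read in the group algebra. -/
theorem stabilizesBlock_iff (hM : IsPModular p M) {H : Subgroup G} {f : Set (IrrCharacter H)}
    (hf : IsPBlock M f) (x : G) :
    StabilizesBlock H f x ↔
      x ∈ Subgroup.normalizer (H : Set G) ∧ cj x (bi M H f) = bi M H f := by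
  classical
  letI := Fintype.ofFinite H
  refine and_congr_right fun hx => ?_
  have hc := isConjSub_of_mem_normalizer hx
  rw [← bi_conjSet hc]
  constructor
  · intro h
    congr 1
    obtain ⟨χ, hχ⟩ := IsPBlock.nonempty hM hf
    obtain ⟨χ', hχ', hval⟩ := h χ hχ
    exact IsPBlock.eq_of_mem_inter hM (IsPBlock.conjSet hc hf) hf
      (show χ' ∈ conjSet H H x f from ⟨χ, hχ, fun c c' e => hval c c' e⟩) hχ'
  · intro h χ hχ
    have he : conjSet H H x f = f := bi_injective hM (IsPBlock.conjSet hc hf) hf h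
    have hmem : irrEquiv (conjSubEquiv hc) χ ∈ conjSet H H x f := by
      rw [conjSet_eq_image hc]; exact Set.mem_image_of_mem _ hχ
    rw [he] at hmem
    refine ⟨_, hmem, fun c c' hcc => ?_⟩
    rw [irrEquiv_apply]
    exact congrArg _ (Subtype.ext (by simp [conjSubEquiv, hcc, mul_assoc]))

/-- The invariance of a stabilised block over the complex numbers. -/
theorem cj_bx_of_stabilizes (hM : IsPModular p M) {H : Subgroup G} {f : Set (IrrCharacter H)}
    (hf : IsPBlock M f) {x : G} (hx : StabilizesBlock H f x) : cj x (bx H f) = bx H f := by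
  classical
  letI := Fintype.ofFinite H
  have hc := isConjSub_of_mem_normalizer hx.1
  obtain ⟨-, h⟩ := (stabilizesBlock_iff hM hf x).1 hx
  rw [← bi_conjSet hc] at h
  rw [← bx_conjSet hc, bi_injective hM (IsPBlock.conjSet hc hf) hf h]

end Cfsg.Lib.Blocks
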