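import Mathlib
import Cfsg.Agent.Blocks.Transport
import Cfsg.Agent.Blocks.Pairs

/-!
# Inclusion of Brauer pairs

Normal inclusion read in the residue group algebra, its uniqueness, the uniqueness of the pair on
a smaller subgroup, and invariance of the block along inclusions.
-/

set_option autoImplicit false
set_option linter.unusedSectionVars false

namespace Cfsg.Lib.Blocks

open Cfsg.Lib.Chars

universe u

section General

variable {G : Type u} [Group G] [Fintype G] {R : Type*} [CommRing R]

lemma br_one (P : Subgroup G) : br P (1 : MonoidAlgebra R G) = 1 := trunc_one _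

lemma br_sum {ι : Type*} (P : Subgroup G) (s : Finset ι) (a : ι → MonoidAlgebra R G) :
    br P (∑ i ∈ s, a i) = ∑ i ∈ s, br P (a i) := trunc_sum _ s a

lemma map_conj_of_mem_normalizer {P : Subgroup G} {x : G}
    (hx : x ∈ Subgroup.normalizer (P : Set G)) : P.map (MulAut.conj x).toMonoidHom = P := by
  ext y
  constructor
  · rintro ⟨z, hz, rfl⟩; exact (Subgroup.mem_normalizer_iff.1 hx z).1 hz
  · intro hy
    exact ⟨x⁻¹ * y * x, by simpa using
      (Subgroup.mem_normalizer_iff.1 (inv_mem hx) y).1 hy, by simp [mul_assoc]⟩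

lemma cj_eq_self_of_suppOn {P : Subgroup G} {a : MonoidAlgebra R G}
    (ha : SuppOn (Subgroup.centralizer (P : Set G)) a) {k : G} (hk : k ∈ P) : cj k a = a := by
  refine fn_ext fun g => ?_
  rw [fn_cj]
  by_cases hg : g ∈ Subgroup.centralizer (P : Set G)
  · rw [Subgroup.mem_centralizer_iff.1 hg _ (P.inv_mem hk)]; simp [mul_assoc]
  · rw [ha g hg, ha _ fun h => hg ?_]
    have h' : k * g = g * k := by
      calc k * g = k * (k * (k⁻¹ * g * k)) * k⁻¹ := by group
        _ = g * k := by rw [Subgroup.mem_centralizer_iff.1 h _ hk]; group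
    have h2 : g = k⁻¹ * g * k := by rw [mul_assoc, ← h', inv_mul_cancel_left]
    rw [h2]; exact h

lemma cj_br_of_mem {P : Subgroup G} (a : MonoidAlgebra R G) {k : G} (hk : k ∈ P) :
    br P (cj k a) = br P a := by
  conv_rhs => rw [← cj_eq_self_of_suppOn (suppOn_br P a) hk, cj_br,
    map_conj_of_mem_normalizer (Subgroup.le_normalizer hk)]

lemma invOn_of_cj {P : Subgroup G} {a : MonoidAlgebra R G} (h : ∀ k ∈ P, cj k a = a) :
    InvOn P a := invOn_iff.2 h

lemma centralizer_normalizes {P : Subgroup G} {k : G}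
    (hk : k ∈ Subgroup.centralizer (P : Set G)) {y : G} (hy : y ∈ P) : k * y * k⁻¹ ∈ P := by
  rw [← Subgroup.mem_centralizer_iff.1 hk y hy, mul_inv_cancel_right]; exact hy

/-- Normalisers grow in `p`-groups. -/
lemma lt_inf_normalizer {p : ℕ} [Fact p.Prime] {P Q : Subgroup G} (hP : IsPGroup p P)
    (hlt : Q < P) : Q < P ⊓ Subgroup.normalizer (Q : Set G) := by
  haveI : Group.IsNilpotent P := hP.isNilpotent
  refine lt_of_le_of_ne (le_inf hlt.le Subgroup.le_normalizer) fun heq => hlt.ne ?_
  have h1 : Subgroup.normalizer ((Q.subgroupOf P : Subgroup P) : Set P) = Q.subgroupOf P := by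
    refine le_antisymm (fun x hx => ?_) Subgroup.le_normalizer
    have h2 : (x : G) ∈ P ⊓ Subgroup.normalizer (Q : Set G) :=
      ⟨x.2, Subgroup.mem_normalizer_iff.2 fun y => by
        constructor
        · intro hy; exact (Subgroup.mem_normalizer_iff.1 hx ⟨y, hlt.le hy⟩).1 hy
        · intro hy
          have hyP : y ∈ P := by
            have h3 := P.mul_mem (P.mul_mem (P.inv_mem x.2) (hlt.le hy)) x.2
            rwa [show (x : G)⁻¹ * ((x : G) * y * (x : G)⁻¹) * x = y by group] at h3
          exact (Subgroup.mem_normalizer_iff.1 hx ⟨y, hyP⟩).2 hy⟩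
    rw [← heq] at h2
    exact h2
  exact le_antisymm hlt.le (Subgroup.subgroupOf_eq_top.1
    (normalizerCondition_iff_only_full_group_self_normalizing.1
      Group.normalizerCondition_of_isNilpotent _ h1))

end General

variable {G : Type u} [Group G] [Fintype G] {M : Ideal AlgInt} {p : ℕ}

lemma red_cj (x : G) (a : MonoidAlgebra ℂ G) : red M (cj x a) = cj x (red M a) :=
  fn_ext fun g => by rw [fn_red, fn_cj, fn_cj, fn_red]

lemma brauerOmega_subgroup (P : Subgroup G) [Fintype (Subgroup.centralizer (P : Set G))]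
    (H : Subgroup G) (f : Set (IrrCharacter H)) (ξ : Subgroup.centralizer (P : Set G) → ℂ) :
    brauerOmega P (subgroupBlockCoeff H f) ξ =
      omega ξ (resElem (Subgroup.centralizer (P : Set G)) (bx H f)) := by
  unfold brauerOmega
  rw [finsum_eq_sum_of_fintype, omega, chiEval, Finset.sum_div]
  exact Finset.sum_congr rfl fun x _ => by rw [fn_resElem, fn_bx]

/-- Congruence to one of a central character at an element with algebraic coefficients. -/
lemma memLocalIdeal_omega_sub_one_iff (hM : IsPModular p M) {H : Subgroup G} [Fintype H]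
    (ξ : IrrCharacter H) {z : MonoidAlgebra ℂ H} (hzc : IsCentralFn z) (hzi : Integral M z)
    (halg : ∀ h, IsAlgebraic ℚ (fn z h)) :
    MemLocalIdeal M (omega (ξ : H → ℂ) z - 1) ↔ res M (omega (ξ : H → ℂ) z) = 1 := by
  classical
  rw [memLocalIdeal_iff_small hM, ← res_eq_iff (omega_mem_place hM ξ hzc hzi) (one_mem _), res_one]
  rw [omega_eq_sum_classes _ (isClassFunction_irr ξ) hzc]
  exact IsAlgebraic.sub (Finset.sum_induction _ (IsAlgebraic ℚ) (fun a b => IsAlgebraic.add)
    isAlgebraic_zero fun C _ => IsAlgebraic.mul (halg _) (isAlgebraic_centralChar ξ _))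
    isAlgebraic_one

lemma isAlgebraic_bx {H : Subgroup G} (f : Set (IrrCharacter H)) (g : G) :
    IsAlgebraic ℚ (fn (bx H f) g) := by
  rw [fn_bx, subgroupBlockCoeff]
  split_ifs with h
  · letI := Fintype.ofFinite H; exact isAlgebraic_blockCoeff f _
  · exact isAlgebraic_zero

/-- A central character detects membership in a Brauer image. -/
lemma res_omega_resElem_eq_one_iff (hM : IsPModular p M) {P : Subgroup G}
    [Fintype (Subgroup.centralizer (P : Set G))] {a : MonoidAlgebra ℂ G}
    (hai : Integral M a) (hac : InvOn (Subgroup.centralizer (P : Set G)) a)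
    (hid : br P (red M a) * br P (red M a) = br P (red M a))
    {e : Set (IrrCharacter (Subgroup.centralizer (P : Set G)))} (he : IsPBlock M e)
    {ξ : IrrCharacter (Subgroup.centralizer (P : Set G))} (hξ : ξ ∈ e) :
    res M (omega (ξ : _ → ℂ) (resElem (Subgroup.centralizer (P : Set G)) a)) = 1 ↔
      br P (red M a) * bi M _ e = bi M _ e := by
  have hc : IsCentralFn (resElem (Subgroup.centralizer (P : Set G)) a) := fun g h => by
    simp only [fn_resElem, Subgroup.coe_mul, Subgroup.coe_inv]; exact hac _ h.2 _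
  rw [res_omega_eq_one_iff hM hc (hai.resElem _) (by rw [rx_resElem]; exact hid) he hξ, rx_resElem]
  rfl

lemma le_centralizer_of_le {P Q : Subgroup G} (h : Q ≤ P) :
    Subgroup.centralizer (P : Set G) ≤ Subgroup.centralizer (Q : Set G) :=
  Subgroup.centralizer_le h

lemma centralizer_le_normalizer_centralizer {P Q : Subgroup G} {x : G}
    (hx : x ∈ Subgroup.normalizer (Q : Set G)) (_ : Q ≤ P) :
    x ∈ Subgroup.normalizer (Subgroup.centralizer (Q : Set G) : Set G) := by
  have h := fun g => (isConjSub_centralizer Q x) g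
  rw [map_conj_of_mem_normalizer hx] at h
  exact Subgroup.mem_normalizer_iff.2 fun g => by
    rw [h (x * g * x⁻¹)]; simp [mul_assoc]

/-- Normal inclusion of Brauer pairs in the residue group algebra. -/
theorem isNormalSubpair_iff [Fact p.Prime] (hM : IsPModular p M) (Q : Subgroup G)
    (f : Set (IrrCharacter (Subgroup.centralizer (Q : Set G)))) (P : Subgroup G)
    (e : Set (IrrCharacter (Subgroup.centralizer (P : Set G)))) :
    IsNormalSubpair p M Q f P e ↔
      IsBrauerPair p M Q f ∧ IsBrauerPair p M P e ∧ Q ≤ P ∧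
      P ≤ Subgroup.normalizer (Q : Set G) ∧ (∀ x ∈ P, cj x (bi M _ f) = bi M _ f) ∧
      br P (bi M _ f) * bi M _ e = bi M _ e := by
  classical
  letI := Fintype.ofFinite (Subgroup.centralizer (P : Set G))
  haveI := charP_res hM
  unfold IsNormalSubpair
  refine and_congr_right fun hQ => and_congr_right fun hP => and_congr_right fun hle =>
    and_congr_right fun hN => ?_
  have hst : (∀ x ∈ P, StabilizesBlock (Subgroup.centralizer (Q : Set G)) f x) ↔
      ∀ x ∈ P, cj x (bi M _ f) = bi M _ f :=
    forall₂_congr fun x hx => by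
      rw [stabilizesBlock_iff hM hQ.2,
        and_iff_right (centralizer_le_normalizer_centralizer (hN hx) hle)]
  rw [hst]
  refine and_congr_right fun hfix => ?_
  have hai := integral_bx hM hQ.2
  have hac : InvOn (Subgroup.centralizer (P : Set G)) (bx _ f) :=
    (invOn_bx _ f).mono (le_centralizer_of_le hle)
  have hid : br P (red M (bx _ f)) * br P (red M (bx _ f)) = br P (red M (bx _ f)) := by
    letI := Fintype.ofFinite (Subgroup.centralizer (Q : Set G))
    rw [red_bx, ← br_mul hP.1 (invOn_of_cj hfix) (invOn_of_cj hfix), bi_mul_self hM hQ.2]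
  have key : ∀ ξ ∈ e, (MemLocalIdeal M (brauerOmega P
      (subgroupBlockCoeff (Subgroup.centralizer (Q : Set G)) f)
        (ξ : Subgroup.centralizer (P : Set G) → ℂ) - 1) ↔
      br P (bi M _ f) * bi M _ e = bi M _ e) := by
    intro ξ hξ
    rw [brauerOmega_subgroup, memLocalIdeal_omega_sub_one_iff hM ξ
      (fun g h => by simp only [fn_resElem, Subgroup.coe_mul, Subgroup.coe_inv]; exact hac _ h.2 _)
      (hai.resElem _) (fun h => by rw [fn_resElem]; exact isAlgebraic_bx f _),
      res_omega_resElem_eq_one_iff hM hai hac hid hP.2 hξ, red_bx]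
  constructor
  · intro h
    obtain ⟨ξ, hξ⟩ := IsPBlock.nonempty hM hP.2
    exact (key ξ hξ).1 (h ξ hξ)
  · exact fun h ξ hξ => (key ξ hξ).2 h

/-- Brauer pairs of a block in the residue group algebra. -/
theorem isBrauerPairOf_iff_br [Fact p.Prime] (hM : IsPModular p M) (B : Set (IrrCharacter G))
    (Q : Subgroup G) (e : Set (IrrCharacter (Subgroup.centralizer (Q : Set G)))) :
    IsBrauerPairOf p M B Q e ↔ IsBrauerPair p M Q e ∧ IsPBlock M B ∧
      br Q (red M (blockElem B)) * bi M _ e = bi M _ e := by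
  classical
  letI := Fintype.ofFinite (Subgroup.centralizer (Q : Set G))
  haveI := charP_res hM
  refine and_congr_right fun hQ => and_congr_right fun hB => ?_
  have hai := integral_blockElem hM hB
  have hinv : InvOn (⊤ : Subgroup G) (red M (blockElem B)) :=
    invOn_top_iff.2 (isCentralFn_blockElem B).red
  have hid : br Q (red M (blockElem B)) * br Q (red M (blockElem B)) =
      br Q (red M (blockElem B)) := by
    rw [← br_mul hQ.1 (hinv.mono le_top) (hinv.mono le_top), ← red_mul hai hai, blockElem_mul_self]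
  have key : ∀ ξ ∈ e, (MemLocalIdeal M
      (brauerOmega Q (blockCoeff B) (ξ : Subgroup.centralizer (Q : Set G) → ℂ) - 1) ↔
      br Q (red M (blockElem B)) * bi M _ e = bi M _ e) := by
    intro ξ hξ
    rw [brauerOmega_eq_omega, memLocalIdeal_omega_sub_one_iff hM ξ
      ((isCentralFn_blockElem B).resElem _) (hai.resElem _)
      (fun h => by rw [fn_resElem, fn_blockElem]; exact isAlgebraic_blockCoeff B _),
      res_omega_resElem_eq_one_iff hM hai
        ((invOn_top_iff.2 (isCentralFn_blockElem B)).mono le_top) hid hQ.2 hξ]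
  constructor
  · intro h
    obtain ⟨ξ, hξ⟩ := IsPBlock.nonempty hM hQ.2
    exact (key ξ hξ).1 (h ξ hξ)
  · exact fun h ξ hξ => (key ξ hξ).2 h

/-- Uniqueness of the block of a Brauer pair. -/
theorem existsUnique_block [Fact p.Prime] (hM : IsPModular p M) {Q : Subgroup G}
    {e : Set (IrrCharacter (Subgroup.centralizer (Q : Set G)))} (h : IsBrauerPair p M Q e) :
    ∃! B : Set (IrrCharacter G), IsBrauerPairOf p M B Q e := by
  classical
  letI := Fintype.ofFinite (Subgroup.centralizer (Q : Set G))
  obtain ⟨B, hB⟩ := inducedBlockDefined_centralizer hM h.1 h.2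
  exact ⟨B, (isBrauerPairOf_iff hM B Q e).2 ⟨h.1, hB⟩,
    fun B' hB' => IsInducedBlock.unique hM ((isBrauerPairOf_iff hM B' Q e).1 hB').2 hB⟩

/-- **Below a pair there is exactly one pair on each subgroup it normalises.** -/
theorem existsUnique_normalSubpair [Fact p.Prime] (hM : IsPModular p M) {P Q : Subgroup G}
    {e : Set (IrrCharacter (Subgroup.centralizer (P : Set G)))} (hPe : IsBrauerPair p M P e)
    (hQP : Q ≤ P) (hPN : P ≤ Subgroup.normalizer (Q : Set G)) :
    ∃! f : Set (IrrCharacter (Subgroup.centralizer (Q : Set G))),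
      IsNormalSubpair p M Q f P e := by
  classical
  letI := Fintype.ofFinite (Subgroup.centralizer (Q : Set G))
  letI := Fintype.ofFinite (Subgroup.centralizer (P : Set G))
  haveI := charP_res hM
  have hQp : IsPGroup p Q := hPe.1.to_le hQP
  have hconj : ∀ k : P, IsConjSub (Subgroup.centralizer (Q : Set G)) (Subgroup.centralizer (Q : Set G)) (k : G) := fun k =>
    isConjSub_of_mem_normalizer (centralizer_le_normalizer_centralizer (hPN k.2) hQP)
  letI : Fintype {b : Set (IrrCharacter (Subgroup.centralizer (Q : Set G))) // IsPBlock M b} :=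
    Fintype.subtype (blocksFinset M (Subgroup.centralizer (Q : Set G))) fun b => mem_blocksFinset hM
  letI act : MulAction P {b : Set (IrrCharacter (Subgroup.centralizer (Q : Set G))) // IsPBlock M b} :=
    { smul := fun k b => ⟨conjSet (Subgroup.centralizer (Q : Set G)) (Subgroup.centralizer (Q : Set G)) (k : G) b.1, IsPBlock.conjSet (hconj k) b.2⟩
      one_smul := fun b => Subtype.ext (bi_injective hM (IsPBlock.conjSet (hconj 1) b.2) b.2 (by
        show bi M _ (conjSet _ _ _ b.1) = bi M _ b.1
        rw [bi_conjSet (hconj 1), Subgroup.coe_one, cj_one]))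
      mul_smul := fun k l b => Subtype.ext (bi_injective hM (IsPBlock.conjSet (hconj (k * l)) b.2)
        (IsPBlock.conjSet (hconj k) (IsPBlock.conjSet (hconj l) b.2)) (by
          show bi M _ (conjSet _ _ _ b.1) = bi M _ (conjSet _ _ _ (conjSet _ _ _ b.1))
          rw [bi_conjSet (hconj (k * l)), bi_conjSet (hconj k), bi_conjSet (hconj l), cj_cj,
            Subgroup.coe_mul])) }
  have hsmul : ∀ (k : P) (b : {b : Set (IrrCharacter (Subgroup.centralizer (Q : Set G))) // IsPBlock M b}),
      bi M (Subgroup.centralizer (Q : Set G)) (k • b).1 = cj (k : G) (bi M (Subgroup.centralizer (Q : Set G)) b.1) := fun k b => bi_conjSet (hconj k) b.1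
  have hfixed : ∀ b, b ∈ MulAction.fixedPoints P {b : Set (IrrCharacter (Subgroup.centralizer (Q : Set G))) // IsPBlock M b} ↔
      ∀ x ∈ P, cj x (bi M (Subgroup.centralizer (Q : Set G)) b.1) = bi M (Subgroup.centralizer (Q : Set G)) b.1 := by
    intro b
    constructor
    · intro h x hx
      rw [← hsmul ⟨x, hx⟩, h ⟨x, hx⟩]
    · intro h k
      exact Subtype.ext (bi_injective hM (k • b).2 b.2 (by rw [hsmul, h _ k.2]))
  set F : {b : Set (IrrCharacter (Subgroup.centralizer (Q : Set G))) // IsPBlock M b} → MonoidAlgebra (Res M) G :=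
    fun b => br P (bi M (Subgroup.centralizer (Q : Set G)) b.1) * bi M (Subgroup.centralizer (P : Set G)) e with hF
  have hsum : ∑ b, F b = bi M (Subgroup.centralizer (P : Set G)) e := by
    simp only [hF]
    rw [← Finset.sum_mul, ← br_sum,
      ← Finset.sum_subtype (blocksFinset M (Subgroup.centralizer (Q : Set G))) (fun b => mem_blocksFinset hM) (bi M (Subgroup.centralizer (Q : Set G))), sum_bi hM,
      br_one, one_mul]
  rw [sum_eq_sum_fixed hPe.1
    (fun r => by rw [← Nat.cast_smul_eq_nsmul (Res M), CharP.cast_eq_zero, zero_smul]) F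
    (fun k b => by simp only [hF, hsmul, cj_br_of_mem _ k.2])] at hsum
  obtain ⟨b, hb, hne⟩ := Finset.exists_ne_zero_of_sum_ne_zero
    (fun h => bi_ne_zero hM hPe.2 (hsum.symm.trans h))
  have hbfix := (hfixed b).1 (Finset.mem_filter.1 hb).2
  have hprop : ∀ b : Set (IrrCharacter (Subgroup.centralizer (Q : Set G))), IsPBlock M b → (∀ x ∈ P, cj x (bi M (Subgroup.centralizer (Q : Set G)) b) = bi M (Subgroup.centralizer (Q : Set G)) b) →
      br P (bi M (Subgroup.centralizer (Q : Set G)) b) * bi M (Subgroup.centralizer (P : Set G)) e = bi M (Subgroup.centralizer (P : Set G)) e ∨ br P (bi M (Subgroup.centralizer (Q : Set G)) b) * bi M (Subgroup.centralizer (P : Set G)) e = 0 := by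
    intro b hb hfix
    refine mul_bi_eq_or hM (suppOn_br P _)
      (invOn_br ((invOn_bi b).mono (le_centralizer_of_le hQP))
        fun k hk y hy => centralizer_normalizes hk hy) ?_ hPe.2
    rw [← br_mul hPe.1 (invOn_of_cj hfix) (invOn_of_cj hfix), bi_mul_self hM hb]
  refine ⟨b.1, (isNormalSubpair_iff hM Q b.1 P e).2 ⟨⟨hQp, b.2⟩, hPe, hQP, hPN, hbfix,
    (hprop b.1 b.2 hbfix).resolve_right hne⟩, fun f hf => ?_⟩
  obtain ⟨⟨-, hfb⟩, -, -, -, hffix, hfe⟩ := (isNormalSubpair_iff hM Q f P e).1 hf
  by_contra hne'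
  refine bi_ne_zero hM hPe.2 ?_
  rw [← hfe, ← (hprop b.1 b.2 hbfix).resolve_right hne, ← mul_assoc,
    ← br_mul hPe.1 (invOn_of_cj hffix) (invOn_of_cj hbfix), bi_mul_bi hM hfb b.2 hne', br_zero,
    zero_mul]

/-- Normal inclusion respects the block. -/
theorem isBrauerPairOf_congr_normal [Fact p.Prime] (hM : IsPModular p M) {P Q : Subgroup G}
    {e : Set (IrrCharacter (Subgroup.centralizer (P : Set G)))}
    {f : Set (IrrCharacter (Subgroup.centralizer (Q : Set G)))}
    (h : IsNormalSubpair p M Q f P e) (B : Set (IrrCharacter G)) :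
    IsBrauerPairOf p M B P e ↔ IsBrauerPairOf p M B Q f := by
  haveI := charP_res hM
  obtain ⟨hQ, hP, hle, hN, hfix, hbr⟩ := (isNormalSubpair_iff hM Q f P e).1 h
  have up : ∀ B, IsBrauerPairOf p M B Q f → IsBrauerPairOf p M B P e := fun B hB => by
    obtain ⟨-, hBb, hQB⟩ := (isBrauerPairOf_iff_br hM B Q f).1 hB
    refine (isBrauerPairOf_iff_br hM B P e).2 ⟨hP, hBb, ?_⟩
    have hinv : InvOn (⊤ : Subgroup G) (red M (blockElem B)) :=
      invOn_top_iff.2 (isCentralFn_blockElem B).red
    have hinvb : InvOn P (br Q (red M (blockElem B))) :=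
      invOn_br (hinv.mono le_top) fun k hk y hy => (Subgroup.mem_normalizer_iff.1 (hN hk) y).1 hy
    rw [← hbr, ← mul_assoc]
    congr 1
    conv_rhs => rw [← hQB, br_mul hP.1 hinvb (invOn_of_cj hfix), br_br hle]
  refine ⟨fun hB => ?_, up B⟩
  obtain ⟨B', hB', -⟩ := existsUnique_block hM hQ
  rwa [ExistsUnique.unique (existsUnique_block hM hP) hB (up B' hB')]

/-- Inclusion respects the block. -/
theorem isBrauerPairOf_congr [Fact p.Prime] (hM : IsPModular p M) {P Q : Subgroup G}
    {e : Set (IrrCharacter (Subgroup.centralizer (P : Set G)))}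
    {f : Set (IrrCharacter (Subgroup.centralizer (Q : Set G)))}
    (h : SubpairLE p M Q f P e) (B : Set (IrrCharacter G)) :
    IsBrauerPairOf p M B P e ↔ IsBrauerPairOf p M B Q f := by
  have key : ∀ a b : BrauerPairIdx G, Relation.ReflTransGen (NormalSubpairRel p M) a b →
      (IsBrauerPairOf p M B b.1 b.2 ↔ IsBrauerPairOf p M B a.1 a.2) := by
    intro a b hab
    induction hab with
    | refl => rfl
    | tail _ hstep ih => exact (isBrauerPairOf_congr_normal hM hstep B).trans ih
  exact key _ _ h

lemma SubpairLE.trans' {P Q R : Subgroup G}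
    {e : Set (IrrCharacter (Subgroup.centralizer (P : Set G)))}
    {f : Set (IrrCharacter (Subgroup.centralizer (Q : Set G)))}
    {g : Set (IrrCharacter (Subgroup.centralizer (R : Set G)))}
    (h₁ : SubpairLE p M Q f R g) (h₂ : SubpairLE p M R g P e) : SubpairLE p M Q f P e :=
  Relation.ReflTransGen.trans h₁ h₂

lemma subpairLE_le {P Q : Subgroup G}
    {e : Set (IrrCharacter (Subgroup.centralizer (P : Set G)))}
    {f : Set (IrrCharacter (Subgroup.centralizer (Q : Set G)))}
    (h : SubpairLE p M Q f P e) : Q ≤ P := by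
  have key : ∀ a b : BrauerPairIdx G, Relation.ReflTransGen (NormalSubpairRel p M) a b →
      a.1 ≤ b.1 := by
    intro a b hab
    induction hab with
    | refl => exact le_rfl
    | tail _ hstep ih => exact ih.trans hstep.2.2.1
  exact key _ _ h

lemma subpairLE_isBrauerPair {P Q : Subgroup G}
    {e : Set (IrrCharacter (Subgroup.centralizer (P : Set G)))}
    {f : Set (IrrCharacter (Subgroup.centralizer (Q : Set G)))}
    (hPe : IsBrauerPair p M P e) (h : SubpairLE p M Q f P e) : IsBrauerPair p M Q f := by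
  rcases Relation.ReflTransGen.cases_head h with heq | ⟨c, hc, -⟩
  · cases heq; exact hPe
  · exact hc.1

lemma eq_of_normalSubpair_self [Fact p.Prime] (hM : IsPModular p M) {P : Subgroup G}
    {e f : Set (IrrCharacter (Subgroup.centralizer (P : Set G)))}
    (h : IsNormalSubpair p M P f P e) : f = e := by
  classical
  letI := Fintype.ofFinite (Subgroup.centralizer (P : Set G))
  obtain ⟨hf, he, -, -, -, hbr⟩ := (isNormalSubpair_iff hM P f P e).1 h
  rw [br, trunc_eq_self (suppOn_bi f)] at hbr
  by_contra hne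
  rw [bi_mul_bi hM hf.2 he.2 hne] at hbr
  exact bi_ne_zero hM he.2 hbr.symm

/-- A proper first step. -/
lemma subpairLE_head [Fact p.Prime] (hM : IsPModular p M) {a b : BrauerPairIdx G}
    (h : Relation.ReflTransGen (NormalSubpairRel p M) a b) :
    a = b ∨ ∃ c : BrauerPairIdx G, a.1 < c.1 ∧ NormalSubpairRel p M a c ∧
      Relation.ReflTransGen (NormalSubpairRel p M) c b := by
  induction h using Relation.ReflTransGen.head_induction_on with
  | refl => exact .inl rfl
  | @head a c hac hcb ih =>
    rcases eq_or_lt_of_le hac.2.2.1 with heq | hlt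
    · obtain ⟨Q, f⟩ := a
      obtain ⟨R, g⟩ := c
      obtain rfl : Q = R := heq
      obtain rfl : f = g := eq_of_normalSubpair_self hM hac
      exact ih
    · exact .inr ⟨c, hlt, hac, hcb⟩

/-- A normal subpair passes down to the pairs in between. -/
lemma normalSubpair_push [Fact p.Prime] (hM : IsPModular p M) {P Q : Subgroup G}
    {g : Set (IrrCharacter (Subgroup.centralizer (P : Set G)))}
    {h : Set (IrrCharacter (Subgroup.centralizer (Q : Set G)))}
    (hh : IsNormalSubpair p M Q h P g) (a : BrauerPairIdx G)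
    (hle : Relation.ReflTransGen (NormalSubpairRel p M) a ⟨P, g⟩) (hQa : Q ≤ a.1) :
    IsNormalSubpair p M Q h a.1 a.2 := by
  classical
  haveI := charP_res hM
  induction hle using Relation.ReflTransGen.head_induction_on with
  | refl => exact hh
  | @head a c hac hcb ih =>
    obtain ⟨ha, hc, hac1, hac2, hacfix, hacbr⟩ := (isNormalSubpair_iff hM _ _ _ _).1 hac
    obtain ⟨hQ, -, -, hcN, hcfix, hcbr⟩ :=
      (isNormalSubpair_iff hM _ _ _ _).1 (ih (hQa.trans hac1))
    refine (isNormalSubpair_iff hM _ _ _ _).2 ⟨hQ, ha, hQa, hac1.trans hcN,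
      fun x hx => hcfix x (hac1 hx), ?_⟩
    letI := Fintype.ofFinite (Subgroup.centralizer (a.1 : Set G))
    letI := Fintype.ofFinite (Subgroup.centralizer (Q : Set G))
    have hfixA := invOn_of_cj fun x hx => hcfix x (hac1 hx)
    have hinv : InvOn c.1 (br a.1 (bi M _ h)) := invOn_br (invOn_of_cj hcfix) fun k hk y hy =>
      (Subgroup.mem_normalizer_iff.1 (hac2 hk) y).1 hy
    rcases mul_bi_eq_or hM (suppOn_br a.1 (bi M _ h))
      (invOn_br ((invOn_bi h).mono (le_centralizer_of_le hQa))
        fun k hk y hy => centralizer_normalizes hk hy)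
      (by rw [← br_mul ha.1 hfixA hfixA, bi_mul_self hM hQ.2]) ha.2 with h1 | h1
    · exact h1
    · exfalso
      refine bi_ne_zero (H := Subgroup.centralizer (c.1 : Set G)) hM hc.2 ?_
      rw [← hcbr, ← hacbr, ← mul_assoc, ← br_br hac1 (bi M _ h),
        ← br_mul hc.1 hinv (invOn_of_cj hacfix), h1, br_zero, zero_mul]

/-- There is a pair below on each subgroup. -/
theorem exists_subpairLE_aux [Fact p.Prime] (hM : IsPModular p M) {P : Subgroup G}
    {e : Set (IrrCharacter (Subgroup.centralizer (P : Set G)))} (hPe : IsBrauerPair p M P e)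
    {Q : Subgroup G} (hQP : Q ≤ P) :
    ∃ f : Set (IrrCharacter (Subgroup.centralizer (Q : Set G))), SubpairLE p M Q f P e := by
  induction hn : Nat.card P - Nat.card Q using Nat.strong_induction_on generalizing Q with
  | _ n ih =>
    rcases eq_or_lt_of_le hQP with rfl | hlt
    · exact ⟨e, Relation.ReflTransGen.refl⟩
    · have hQR := lt_inf_normalizer hPe.1 hlt
      have h1 : Nat.card Q < Nat.card (P ⊓ Subgroup.normalizer (Q : Set G) : Subgroup G) :=
        lt_of_le_of_ne (Subgroup.card_le_of_le hQR.le)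
          fun h => hQR.ne (Subgroup.eq_of_le_of_card_ge hQR.le h.ge)
      have h2 : Nat.card (P ⊓ Subgroup.normalizer (Q : Set G) : Subgroup G) ≤ Nat.card P :=
        Subgroup.card_le_of_le inf_le_left
      obtain ⟨g, hg⟩ := ih _ (by omega) (inf_le_left (b := Subgroup.normalizer (Q : Set G))) rfl
      obtain ⟨f, hf, -⟩ := existsUnique_normalSubpair hM (subpairLE_isBrauerPair hPe hg)
        hQR.le inf_le_right
      exact ⟨f, Relation.ReflTransGen.head (show NormalSubpairRel p M ⟨Q, f⟩ ⟨_, g⟩ from hf) hg⟩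

/-- **Below a pair there is exactly one pair on each subgroup.** -/
theorem existsUnique_subpairLE [Fact p.Prime] (hM : IsPModular p M) {P : Subgroup G}
    {e : Set (IrrCharacter (Subgroup.centralizer (P : Set G)))} (hPe : IsBrauerPair p M P e)
    {Q : Subgroup G} (hQP : Q ≤ P) :
    ∃! f : Set (IrrCharacter (Subgroup.centralizer (Q : Set G))), SubpairLE p M Q f P e := by
  classical
  induction hn : Nat.card P - Nat.card Q using Nat.strong_induction_on generalizing Q with
  | _ n ih =>
    have IH : ∀ R : Subgroup G, R ≤ P → Q < R →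
        ∃! f : Set (IrrCharacter (Subgroup.centralizer (R : Set G))), SubpairLE p M R f P e := by
      intro R hRP hQR
      refine ih _ ?_ hRP rfl
      have h1 : Nat.card Q < Nat.card R := lt_of_le_of_ne (Subgroup.card_le_of_le hQR.le)
        fun h => hQR.ne (Subgroup.eq_of_le_of_card_ge hQR.le h.ge)
      have h2 : Nat.card R ≤ Nat.card P := Subgroup.card_le_of_le hRP
      omega
    rcases eq_or_lt_of_le hQP with rfl | hlt
    · refine ⟨e, Relation.ReflTransGen.refl, fun f hf => ?_⟩
      rcases subpairLE_head hM hf with heq | ⟨c, hc, -, hcb⟩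
      · exact eq_of_heq (Sigma.mk.inj_iff.1 heq).2
      · exact absurd (subpairLE_le hcb) (not_le_of_gt hc)
    · set R : Subgroup G := P ⊓ Subgroup.normalizer (Q : Set G) with hR
      have hQR : Q < R := lt_inf_normalizer hPe.1 hlt
      obtain ⟨g, hg, hguniq⟩ := IH R inf_le_left hQR
      obtain ⟨f, hf, -⟩ := existsUnique_normalSubpair hM (subpairLE_isBrauerPair hPe hg)
        hQR.le inf_le_right
      refine ⟨f, Relation.ReflTransGen.head (show NormalSubpairRel p M ⟨Q, f⟩ ⟨_, g⟩ from hf) hg, fun f' hf' => ?_⟩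
      rcases subpairLE_head hM hf' with heq | ⟨⟨R₁, f₁⟩, hQR₁, hstep, hrest⟩
      · exact absurd (congrArg Sigma.fst heq) hlt.ne
      · have hR₁P : R₁ ≤ P := subpairLE_le hrest
        have hR₁R : R₁ ≤ R := le_inf hR₁P hstep.2.2.2.1
        -- the pair at `R₁` lies below the pair at `R`
        obtain ⟨g₁, hg₁⟩ : ∃ g₁, SubpairLE p M R₁ g₁ R g := by
          exact exists_subpairLE_aux hM (subpairLE_isBrauerPair hPe hg) hR₁R
        obtain rfl : f₁ = g₁ := ExistsUnique.unique (IH R₁ hR₁P hQR₁) hrest
          (SubpairLE.trans' hg₁ hg)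
        have hpush := normalSubpair_push hM hf ⟨R₁, f₁⟩ hg₁ hQR₁.le
        exact ExistsUnique.unique
          (existsUnique_normalSubpair hM hstep.2.1 hstep.2.2.1 hstep.2.2.2.1) hstep hpush

end Cfsg.Lib.Blocks
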