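import Mathlib
import Cfsg.Agent.Blocks.BrauerPairs2

/-!
# Blocks of stabilisers of Brauer pairs
-/

set_option autoImplicit false
set_option linter.unusedSectionVars false

namespace Cfsg.Lib.Blocks

open Cfsg.Lib.Chars

universe u

variable {G : Type u} [Group G] [Fintype G] {M : Ideal AlgInt} {p : ℕ}

/-- A stabilised block of the centraliser is a block of the group stabilising it. -/
theorem exists_block_stabilizer [Fact p.Prime] (hM : IsPModular p M) {Q T : Subgroup G}
    (hQ : IsPGroup p Q) (hQT : Q ≤ T) (hTN : T ≤ Subgroup.normalizer (Q : Set G))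
    (hCT : Subgroup.centralizer (Q : Set G) ≤ T)
    {f : Set (IrrCharacter (Subgroup.centralizer (Q : Set G)))} (hf : IsPBlock M f)
    (hst : ∀ x ∈ T, StabilizesBlock (Subgroup.centralizer (Q : Set G)) f x) :
    ∃ E : Set (IrrCharacter T), IsPBlock M E ∧ bx T E = bx (Subgroup.centralizer (Q : Set G)) f := by
  classical
  letI := Fintype.ofFinite T
  letI := Fintype.ofFinite (Subgroup.centralizer (Q : Set G))
  haveI := charP_res hM
  have hinv : InvOn T (bx (Subgroup.centralizer (Q : Set G)) f) :=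
    invOn_iff.2 fun x hx => cj_bx_of_stabilizes hM hf (hst x hx)
  obtain ⟨S, hS, hSe⟩ := exists_eq_sum_bx hM T hinv (integral_bx hM hf) (bx_mul_self f) (by
    rw [red_bx]; exact (suppOn_bi f).mono hCT)
  have hne : S.Nonempty := by
    rw [Finset.nonempty_iff_ne_empty]
    rintro rfl
    refine bi_ne_zero hM hf ?_
    rw [← red_bx, hSe, Finset.sum_empty, red_zero]
  obtain ⟨E, hE⟩ := hne
  have hEb : IsPBlock M E := (mem_blocksFinset hM).1 (hS hE)
  refine ⟨E, hEb, ?_⟩
  have hmul : bx (Subgroup.centralizer (Q : Set G)) f * bx T E = bx T E := by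
    rw [hSe, Finset.sum_mul, Finset.sum_eq_single E]
    · exact bx_mul_self E
    · exact fun c hc hne => bx_mul_bx hM ((mem_blocksFinset hM).1 (hS hc)) hEb hne
    · exact fun h => absurd hE h
  have hcomm : bx T E * bx (Subgroup.centralizer (Q : Set G)) f =
      bx (Subgroup.centralizer (Q : Set G)) f * bx T E := (hinv.comm (suppOn_bx T E)).symm
  refine eq_of_red_eq_of_idem (M := M) (bx_mul_self E) (bx_mul_self f) hcomm (integral_bx hM hEb)
    (integral_bx hM hf) ?_
  rw [red_bx, red_bx]
  have hred : bi M _ f * bi M T E = bi M T E := by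
    rw [← red_bx, ← red_bx, ← red_mul (integral_bx hM hf) (integral_bx hM hEb), hmul]
  have hsupp : SuppOn (Subgroup.centralizer (Q : Set G)) (bi M T E) :=
    suppOn_centralizer_of_idem hQ hQT
      (fun t ht y hy => (Subgroup.mem_normalizer_iff.1 (hTN ht) y).1 hy)
      (suppOn_bi E) (invOn_bi E) (bi_mul_self hM hEb)
  have hinv' : InvOn T (bi M (Subgroup.centralizer (Q : Set G)) f) := invOn_iff.2 fun x hx =>
    ((stabilizesBlock_iff hM hf x).1 (hst x hx)).2
  have hred' : bi M T E * bi M _ f = bi M T E := by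
    rw [← hinv'.comm (suppOn_bi E), hred]
  rcases mul_bi_eq_or hM hsupp ((invOn_bi E).mono hCT) (bi_mul_self hM hEb) hf with h | h
  · exact hred'.symm.trans h
  · exact absurd (hred'.symm.trans h) (bi_ne_zero hM hEb)

/-- A nonzero central integral idempotent below a block idempotent is that block idempotent. -/
theorem eq_blockElem_of_mul_eq (hM : IsPModular p M) {B : Set (IrrCharacter G)}
    (hB : IsPBlock M B) {z : MonoidAlgebra ℂ G} (hzc : IsCentralFn z) (hzi : Integral M z)
    (hzz : z * z = z) (hne : z ≠ 0) (h : blockElem B * z = z) : z = blockElem B := by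
  classical
  have h01 : ∀ ψ : IrrCharacter G, omega (ψ : G → ℂ) z = 0 ∨ omega (ψ : G → ℂ) z = 1 := fun ψ => by
    refine IsIdempotentElem.iff_eq_zero_or_one.1 ?_
    show _ * _ = _
    rw [← omega_mul ψ hzc, hzz]
  have hout : ∀ ψ : IrrCharacter G, ψ ∉ B → omega (ψ : G → ℂ) z = 0 := fun ψ hψ => by
    rw [← h, omega_mul ψ (isCentralFn_blockElem B), omega_blockElem, if_neg hψ, zero_mul]
  obtain ⟨χ, hχ⟩ : ∃ χ : IrrCharacter G, χ ∈ B ∧ omega (χ : G → ℂ) z = 1 := by
    by_contra hno
    push Not at hno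
    refine hne (eq_zero_of_omega_eq_zero hzc fun ψ => ?_)
    by_cases hψ : ψ ∈ B
    · exact (h01 ψ).resolve_right (hno ψ hψ)
    · exact hout ψ hψ
  refine eq_of_omega_eq hzc (isCentralFn_blockElem B) fun ψ => ?_
  rw [omega_blockElem]
  split_ifs with hψ
  · have hsame := res_omega_eq_of_sameBlock hM
      (χ := χ) (ψ := ψ) (show ψ ∈ blockOf M (χ : G → ℂ) from IsPBlock.eq_blockOf hM hB hχ.1 ▸ hψ) hzc hzi
    rw [hχ.2, res_one] at hsame
    rcases h01 ψ with h0 | h1
    · rw [h0, res_zero] at hsame; exact absurd hsame one_ne_zero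
    · exact h1
  · exact hout ψ hψ

/-- **The block of a Brauer pair with normal subgroup**: the sum of the conjugates of the pair. -/
theorem blockCoeff_eq_avg [Fact p.Prime] (hM : IsPModular p M) {P : Subgroup G} [P.Normal]
    (hP : IsPGroup p P) {B : Set (IrrCharacter G)}
    {e : Set (IrrCharacter (Subgroup.centralizer (P : Set G)))}
    (hBe : IsBrauerPairOf p M B P e) {T : Subgroup G}
    (hT : ∀ x : G, x ∈ T ↔ StabilizesBlock (Subgroup.centralizer (P : Set G)) e x) (g : G) :
    blockCoeff B g = (Nat.card T : ℂ)⁻¹ *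
      ∑ x : G, subgroupBlockCoeff (Subgroup.centralizer (P : Set G)) e (x⁻¹ * g * x) := by
  classical
  letI := Fintype.ofFinite (Subgroup.centralizer (P : Set G))
  haveI := charP_res hM
  haveI : (Subgroup.centralizer (P : Set G)).Normal := Subgroup.normal_centralizer
  obtain ⟨⟨-, he⟩, hB, hbr⟩ := (isBrauerPairOf_iff_br hM B P e).1 hBe
  set v : MonoidAlgebra ℂ G := bx (Subgroup.centralizer (P : Set G)) e with hv
  have hcs : ∀ x : G, IsConjSub (Subgroup.centralizer (P : Set G))
      (Subgroup.centralizer (P : Set G)) x := fun x => isConjSub_of_mem_normalizer (by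
    rw [Subgroup.normalizer_eq_top]; exact Subgroup.mem_top x)
  have hblock : ∀ x, cj x v = bx _ (conjSet (Subgroup.centralizer (P : Set G))
      (Subgroup.centralizer (P : Set G)) x e) := fun x => (bx_conjSet (hcs x) e).symm
  have horth : ∀ x y, cj x v ≠ cj y v → cj x v * cj y v = 0 := fun x y hne => by
    rw [hblock, hblock] at hne ⊢
    exact bx_mul_bx hM (IsPBlock.conjSet (hcs x) he) (IsPBlock.conjSet (hcs y) he)
      fun h => hne (by rw [h])
  set O : Finset (MonoidAlgebra ℂ G) := Finset.univ.image fun x : G => cj x v with hO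
  set z : MonoidAlgebra ℂ G := ∑ w ∈ O, w with hz
  have hwmem : ∀ w ∈ O, ∃ x, cj x v = w := fun w hw => by
    obtain ⟨x, -, rfl⟩ := Finset.mem_image.1 hw; exact ⟨x, rfl⟩
  have hzc : IsCentralFn z := invOn_top_iff.1 <| invOn_iff.2 fun k _ => by
    rw [hz, cj_sum]
    refine Finset.sum_nbij' (fun w => cj k w) (fun w => cj k⁻¹ w) ?_ ?_ ?_ ?_ (fun w _ => rfl)
    · intro w hw
      obtain ⟨x, rfl⟩ := hwmem w hw
      exact Finset.mem_image.2 ⟨k * x, Finset.mem_univ _, (cj_cj k x v).symm⟩
    · intro w hw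
      obtain ⟨x, rfl⟩ := hwmem w hw
      exact Finset.mem_image.2 ⟨k⁻¹ * x, Finset.mem_univ _, (cj_cj k⁻¹ x v).symm⟩
    · intro w _; show cj k⁻¹ (cj k w) = w; rw [cj_cj, inv_mul_cancel, cj_one]
    · intro w _; show cj k (cj k⁻¹ w) = w; rw [cj_cj, mul_inv_cancel, cj_one]
  have hww : ∀ w ∈ O, w * w = w := fun w hw => by
    obtain ⟨x, rfl⟩ := hwmem w hw
    rw [← cj_mul, hv, bx_mul_self]
  have hzz : z * z = z := by
    rw [hz, Finset.sum_mul]
    refine Finset.sum_congr rfl fun w hw => ?_
    rw [Finset.mul_sum, Finset.sum_eq_single w, hww w hw]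
    · intro w' hw' hne
      obtain ⟨x, rfl⟩ := hwmem w hw
      obtain ⟨y, rfl⟩ := hwmem w' hw'
      exact horth x y (Ne.symm hne)
    · exact fun h => absurd hw h
  have hzi : Integral M z := fun c => by
    rw [hz, fn_sum]
    refine sum_mem fun w hw => ?_
    obtain ⟨x, rfl⟩ := hwmem w hw
    rw [fn_cj]; exact integral_bx hM he _
  have hei := integral_blockElem hM hB
  have heB : blockElem B * v = v := by
    have hcomm : blockElem B * v = v * blockElem B := IsCentralFn.comm (isCentralFn_blockElem B) v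
    refine eq_of_red_eq_of_idem (M := M) ?_ (bx_mul_self e) ?_ (hei.mul (integral_bx hM he))
      (integral_bx hM he) ?_
    · rw [mul_assoc, ← mul_assoc v, ← hcomm, mul_assoc, bx_mul_self, ← mul_assoc,
        blockElem_mul_self]
    · rw [← mul_assoc v, ← hcomm, mul_assoc]
    · rw [red_mul hei (integral_bx hM he), red_bx]
      rwa [br, trunc_eq_self] at hbr
      intro c hc
      rw [fn_red, fn_blockElem, blockCoeff_eq_zero_of_not_mem_centralizer hM hP hB hc, res_zero]
  have hzB : blockElem B * z = z := by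
    rw [hz, Finset.mul_sum]
    refine Finset.sum_congr rfl fun w hw => ?_
    obtain ⟨x, rfl⟩ := hwmem w hw
    conv_lhs => rw [← invOn_iff.1 (invOn_top_iff.2 (isCentralFn_blockElem B)) x (Subgroup.mem_top x)]
    rw [← cj_mul, heB]
  have hvO : v ∈ O := Finset.mem_image.2 ⟨1, Finset.mem_univ _, cj_one v⟩
  have hne : z ≠ 0 := by
    intro h0
    refine bi_ne_zero (M := M) hM he ?_
    have hvz : v * z = v := by
      rw [hz, Finset.mul_sum, Finset.sum_eq_single v, hww v hvO]
      · intro w hw hne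
        obtain ⟨x, rfl⟩ := hwmem w hw
        have h2 := horth 1 x (by rw [cj_one]; exact Ne.symm hne)
        rwa [cj_one] at h2
      · exact fun h => absurd hvO h
    rw [← red_bx, ← hv, ← hvz, h0, mul_zero, red_zero]
  have hzeq := eq_blockElem_of_mul_eq hM hB hzc hzi hzz hne hzB
  -- the fibres of `x ↦ cj x v` are the cosets of `T`
  have hfib : ∀ x y : G, cj x v = cj y v ↔ y⁻¹ * x ∈ T := by
    intro x y
    rw [hT, ← (cj_injective y⁻¹).eq_iff, cj_cj, cj_cj, inv_mul_cancel, cj_one]
    constructor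
    · intro h
      refine (stabilizesBlock_iff hM he _).2 ⟨by
        rw [Subgroup.normalizer_eq_top]; exact Subgroup.mem_top _, ?_⟩
      rw [← red_bx, ← red_cj, ← hv, h]
    · intro h
      exact cj_bx_of_stabilizes hM he h
  have hcard : ∀ w ∈ O, (Finset.univ.filter fun x : G => cj x v = w).card = Nat.card T := by
    intro w hw
    obtain ⟨y, rfl⟩ := hwmem w hw
    rw [Nat.card_eq_fintype_card, ← Finset.card_univ]
    refine Finset.card_bij' (fun x hx => ⟨y⁻¹ * x, (hfib x y).1 (Finset.mem_filter.1 hx).2⟩)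
      (fun t _ => y * (t : G)) (fun _ _ => Finset.mem_univ _) ?_ ?_ ?_
    · intro t _
      exact Finset.mem_filter.2 ⟨Finset.mem_univ _, (hfib _ _).2 (by simp)⟩
    · intro x _; simp
    · intro t _; simp
  have hsum : ∑ x : G, cj x v = (Nat.card T : ℂ) • z := by
    rw [← Finset.sum_fiberwise_of_maps_to (t := O) (g := fun x : G => cj x v)
      (fun x _ => Finset.mem_image_of_mem _ (Finset.mem_univ x)), hz, Finset.smul_sum]
    refine Finset.sum_congr rfl fun w hw => ?_
    rw [Finset.sum_congr rfl fun x hx => (Finset.mem_filter.1 hx).2, Finset.sum_const, hcard w hw,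
      Nat.cast_smul_eq_nsmul]
  have h1 := congrArg (fun a => fn a g) hsum
  simp only [fn_sum, fn_cj, hv, fn_bx, fn_smul, hzeq, fn_blockElem] at h1
  rw [h1, ← mul_assoc, inv_mul_cancel₀ (Nat.cast_ne_zero.2 Nat.card_pos.ne'), one_mul]

end Cfsg.Lib.Blocks
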