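import Mathlib
import Cfsg.Agent.Blocks.Stabilizer
import Cfsg.Agent.Blocks.Sub

/-!
# Maximal Brauer pairs

A pair with no normal extension sits on a defect group, and pairs of a block on a defect group are
conjugate under the normaliser.
-/

set_option autoImplicit false
set_option linter.unusedSectionVars false

namespace Cfsg.Lib.Blocks

open Cfsg.Lib.Chars

universe u

variable {G : Type u} [Group G] [Fintype G] {M : Ideal AlgInt} {p : ℕ}

local notation "C⟨" P "⟩" => Subgroup.centralizer (SetLike.coe P)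

/-! ### Conjugating pairs -/

/-- The conjugate of a pair. -/
def conjIdx (x : G) (a : BrauerPairIdx G) : BrauerPairIdx G :=
  ⟨a.1.map (MulAut.conj x).toMonoidHom, conjBlock a.1 x a.2⟩

lemma isPBlock_conjBlock (Q : Subgroup G) (x : G) {f : Set (IrrCharacter C⟨Q⟩)}
    (hf : IsPBlock M f) : IsPBlock M (conjBlock Q x f) := by
  rw [conjBlock_eq]; exact IsPBlock.conjSet (isConjSub_centralizer Q x) hf

lemma bi_conjBlock (Q : Subgroup G) (x : G) (f : Set (IrrCharacter C⟨Q⟩)) :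
    bi M _ (conjBlock Q x f) = cj x (bi M C⟨Q⟩ f) := by
  rw [conjBlock_eq]; exact bi_conjSet (isConjSub_centralizer Q x) f

/-- A pair is determined by its subgroup and its idempotent. -/
lemma idx_ext (hM : IsPModular p M) {a b : BrauerPairIdx G} (h1 : a.1 = b.1)
    (ha : IsPBlock M a.2) (hb : IsPBlock M b.2) (h2 : bi M _ a.2 = bi M _ b.2) : a = b := by
  obtain ⟨Q, f⟩ := a
  obtain ⟨R, g⟩ := b
  obtain rfl : Q = R := h1
  letI := Fintype.ofFinite C⟨Q⟩
  obtain rfl := bi_injective hM ha hb h2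
  rfl

lemma IsBrauerPair.conjBlock {Q : Subgroup G} {f : Set (IrrCharacter C⟨Q⟩)}
    (h : IsBrauerPair p M Q f) (x : G) :
    IsBrauerPair p M (Q.map (MulAut.conj x).toMonoidHom) (conjBlock Q x f) :=
  ⟨h.1.map _, isPBlock_conjBlock Q x h.2⟩

lemma isNormalSubpair_conj [Fact p.Prime] (hM : IsPModular p M) {Q P : Subgroup G}
    {f : Set (IrrCharacter C⟨Q⟩)} {e : Set (IrrCharacter C⟨P⟩)}
    (h : IsNormalSubpair p M Q f P e) (x : G) :
    IsNormalSubpair p M (Q.map (MulAut.conj x).toMonoidHom) (conjBlock Q x f)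
      (P.map (MulAut.conj x).toMonoidHom) (conjBlock P x e) := by
  obtain ⟨hQ, hP, hle, hN, hfix, hbr⟩ := (isNormalSubpair_iff hM Q f P e).1 h
  refine (isNormalSubpair_iff hM _ _ _ _).2 ⟨IsBrauerPair.conjBlock hQ x,
    IsBrauerPair.conjBlock hP x, Subgroup.map_mono hle, ?_, ?_, ?_⟩
  · exact (Subgroup.map_mono hN).trans (Subgroup.le_normalizer_map _)
  · rintro _ ⟨y, hy, rfl⟩
    rw [bi_conjBlock, cj_cj, show (MulAut.conj x).toMonoidHom y * x = x * y by simp,
      ← cj_cj, hfix y hy]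
  · rw [bi_conjBlock, bi_conjBlock, ← cj_br, ← cj_mul, hbr]

lemma subpairLE_conj [Fact p.Prime] (hM : IsPModular p M) {Q P : Subgroup G}
    {f : Set (IrrCharacter C⟨Q⟩)} {e : Set (IrrCharacter C⟨P⟩)}
    (h : SubpairLE p M Q f P e) (x : G) :
    SubpairLE p M (Q.map (MulAut.conj x).toMonoidHom) (conjBlock Q x f)
      (P.map (MulAut.conj x).toMonoidHom) (conjBlock P x e) :=
  Relation.ReflTransGen.lift (p := NormalSubpairRel p M) (conjIdx x)
    (fun _ _ hab => isNormalSubpair_conj hM hab x) _ _ h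

lemma isBrauerPairOf_conj [Fact p.Prime] (hM : IsPModular p M) {B : Set (IrrCharacter G)}
    {Q : Subgroup G} {f : Set (IrrCharacter C⟨Q⟩)} (h : IsBrauerPairOf p M B Q f) (x : G) :
    IsBrauerPairOf p M B (Q.map (MulAut.conj x).toMonoidHom) (conjBlock Q x f) := by
  obtain ⟨hQ, hB, hbr⟩ := (isBrauerPairOf_iff_br hM B Q f).1 h
  refine (isBrauerPairOf_iff_br hM _ _ _).2 ⟨IsBrauerPair.conjBlock hQ x, hB, ?_⟩
  have hinv : cj x (red M (blockElem B)) = red M (blockElem B) :=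
    invOn_iff.1 (invOn_top_iff.2 (isCentralFn_blockElem B).red) x (Subgroup.mem_top x)
  rw [bi_conjBlock]
  conv_lhs => rw [← hinv, ← cj_br, ← cj_mul, hbr]

/-! ### Pairs and defect groups -/

/-- The subgroup of a pair lies in a conjugate of each defect group. -/
theorem exists_le_conj_of_pair [Fact p.Prime] (hM : IsPModular p M) {B : Set (IrrCharacter G)}
    {D : Subgroup G} (hD : IsDefectGroup p M B D) {Q : Subgroup G}
    {f : Set (IrrCharacter C⟨Q⟩)} (h : IsBrauerPairOf p M B Q f) :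
    ∃ x : G, Q ≤ D.map (MulAut.conj x).toMonoidHom := by
  classical
  letI := Fintype.ofFinite C⟨Q⟩
  obtain ⟨hQ, hB, hbr⟩ := (isBrauerPairOf_iff_br hM B Q f).1 h
  obtain ⟨c, hc, hns⟩ : ∃ c, c ∈ C⟨Q⟩ ∧ ¬ Small M (blockCoeff B c) := by
    by_contra hno
    push Not at hno
    refine bi_ne_zero hM hQ.2 ?_
    rw [← hbr, show br Q (red M (blockElem B)) = 0 from fn_ext fun g => ?_, zero_mul]
    by_cases hg : g ∈ C⟨Q⟩
    · rw [br, fn_trunc_mem _ hg, fn_red, fn_zero, res_eq_zero_iff (integral_blockElem hM hB g),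
        fn_blockElem]
      exact hno g hg
    · rw [br, fn_trunc_not_mem _ hg, fn_zero]
  exact exists_le_conj_defectGroup hM hB hD hQ.1 hc hns

/-- A nonzero Brauer image at `R` of a stabilised block gives a normal extension. -/
lemma exists_extension [Fact p.Prime] (hM : IsPModular p M) {P R : Subgroup G}
    {e : Set (IrrCharacter C⟨P⟩)} (he : IsPBlock M e) (hPp : IsPGroup p P) (hR : IsPGroup p R)
    (hPR : P ≤ R) (hRN : R ≤ Subgroup.normalizer (P : Set G))
    (hfix : ∀ x ∈ R, cj x (bi M C⟨P⟩ e) = bi M C⟨P⟩ e) (hne : br R (bi M C⟨P⟩ e) ≠ 0) :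
    ∃ g : Set (IrrCharacter C⟨R⟩), IsNormalSubpair p M P e R g := by
  classical
  letI := Fintype.ofFinite C⟨P⟩
  letI := Fintype.ofFinite C⟨R⟩
  haveI := charP_res hM
  have hsum : ∑ g ∈ blocksFinset M C⟨R⟩, br R (bi M C⟨P⟩ e) * bi M C⟨R⟩ g = br R (bi M C⟨P⟩ e) := by
    rw [← Finset.mul_sum, sum_bi hM, mul_one]
  obtain ⟨g, hg, hgne⟩ := Finset.exists_ne_zero_of_sum_ne_zero (fun h => hne (hsum.symm.trans h))
  have hgb := (mem_blocksFinset hM).1 hg
  refine ⟨g, (isNormalSubpair_iff hM _ _ _ _).2 ⟨⟨hPp, he⟩, ⟨hR, hgb⟩, hPR, hRN, hfix, ?_⟩⟩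
  refine (mul_bi_eq_or hM (suppOn_br R _)
    (invOn_br ((invOn_bi e).mono (le_centralizer_of_le hPR))
      fun k hk y hy => centralizer_normalizes hk hy) ?_ hgb).resolve_right hgne
  rw [← br_mul hR (invOn_of_cj hfix) (invOn_of_cj hfix), bi_mul_self hM he]

/-- The pair has no normal extension. -/
def NoExtension (M : Ideal AlgInt) (p : ℕ) (P : Subgroup G) (e : Set (IrrCharacter C⟨P⟩)) : Prop :=
  ∀ R : Subgroup G, IsPGroup p R → P < R → R ≤ Subgroup.normalizer (P : Set G) →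
    (∀ x ∈ R, cj x (bi M C⟨P⟩ e) = bi M C⟨P⟩ e) → br R (bi M C⟨P⟩ e) = 0

lemma noExtension_of_maximal [Fact p.Prime] (hM : IsPModular p M) {B : Set (IrrCharacter G)}
    {P : Subgroup G} {e : Set (IrrCharacter C⟨P⟩)} (h : IsMaximalBrauerPair p M B P e) :
    NoExtension M p P e := by
  intro R hR hlt hN hfix
  by_contra hne
  obtain ⟨g, hg⟩ := exists_extension hM h.1.1.2 h.1.1.1 hR hlt.le hN hfix hne
  exact hlt.ne' (h.2 R g ((isBrauerPairOf_congr_normal hM hg B).2 h.1)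
    (Relation.ReflTransGen.single hg))

lemma mem_centralizer_mono {P R : Subgroup G} (h : P ≤ R) {t : G} (ht : t ∈ C⟨R⟩) : t ∈ C⟨P⟩ :=
  le_centralizer_of_le h ht

/-- Two elements of `C(P)` conjugate in the group are conjugate in `N(P)`, when `P` is a Sylow
subgroup of the centraliser of the first. -/
lemma exists_normalizer_conj [Fact p.Prime] {P : Subgroup G} (hP : IsPGroup p P) {t g : G}
    (hmax : ∀ R : Subgroup G, IsPGroup p R → P ≤ R → t ∈ C⟨R⟩ → R = P) (ht : t ∈ C⟨P⟩)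
    (hg : g ∈ C⟨P⟩) (hconj : IsConj t g) :
    ∃ n ∈ Subgroup.normalizer (P : Set G), g = n * t * n⁻¹ := by
  obtain ⟨a, ha⟩ := isConj_iff.1 hconj
  obtain ⟨S, hS⟩ := exists_sylow_ge (g := t) hP (le_centralizer_iff_mem.2 ht)
  have hSP : centSyl S = P := hmax _ (isPGroup_centSyl S) hS (mem_centralizer_centSyl S)
  have h1 : P.map (MulAut.conj a⁻¹).toMonoidHom ≤ Subgroup.centralizer ({t} : Set G) := by
    have h := conj_le_centralizer hg a⁻¹
    rwa [← ha, show a⁻¹ * (a * t * a⁻¹) * a⁻¹⁻¹ = t by group] at h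
  obtain ⟨c, hc, hcle⟩ := exists_conj_le_sylow (hP.map _) h1 S
  rw [hSP] at hcle
  have heq : P.map (MulAut.conj a⁻¹).toMonoidHom = P.map (MulAut.conj c).toMonoidHom :=
    Subgroup.eq_of_le_of_card_ge hcle (le_of_eq (by rw [card_map_conj, card_map_conj]))
  have heq' : P.map (MulAut.conj (a * c)).toMonoidHom = P := by
    rw [← map_conj_map, ← heq, map_conj_map, mul_inv_cancel, map_conj_one]
  refine ⟨a * c, Subgroup.mem_normalizer_iff.2 fun y => ?_, ?_⟩
  · constructor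
    · intro hy
      rw [← heq']; exact ⟨y, hy, rfl⟩
    · intro hy
      rw [← heq'] at hy
      obtain ⟨z, hz, hzy⟩ := hy
      rwa [← (MulAut.conj (a * c)).injective hzy]
  · rw [← ha, show a * c * t * (a * c)⁻¹ = a * (c * t * c⁻¹) * a⁻¹ by group,
      Subgroup.mem_centralizer_singleton_iff.1 hc, mul_inv_cancel_right]

/-- **Detection**: a central element, supported modulo `M` on classes of defect group in `P`, whose
central character on `C(P)` picks out the conjugates of the pair. -/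
theorem exists_detector [Fact p.Prime] (hM : IsPModular p M) {P : Subgroup G}
    [Fintype C⟨P⟩] {e : Set (IrrCharacter C⟨P⟩)} (he : IsBrauerPair p M P e)
    (hno : NoExtension M p P e) :
    ∃ a : MonoidAlgebra ℂ G, IsCentralFn a ∧ Integral M a ∧
      (∀ g : G, ¬ Small M (fn a g) → ∃ t, t ∈ C⟨P⟩ ∧ IsConj t g ∧
        ∀ R : Subgroup G, IsPGroup p R → P ≤ R → t ∈ C⟨R⟩ → R = P) ∧
      (∀ e' : Set (IrrCharacter C⟨P⟩), IsPBlock M e' → ∀ ξ ∈ e',
        (res M (omega (ξ : _ → ℂ) (resElem C⟨P⟩ a)) = 1 ∧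
          ∃ x ∈ Subgroup.normalizer (P : Set G), cj x (bi M C⟨P⟩ e) = bi M C⟨P⟩ e') ∨
        (res M (omega (ξ : _ → ℂ) (resElem C⟨P⟩ a)) = 0 ∧
          ¬ ∃ x ∈ Subgroup.normalizer (P : Set G), cj x (bi M C⟨P⟩ e) = bi M C⟨P⟩ e')) := by
  classical
  haveI := charP_res hM
  set N := Subgroup.normalizer (P : Set G) with hN
  set v : MonoidAlgebra ℂ G := bx C⟨P⟩ e with hv
  have hcs : ∀ x ∈ N, IsConjSub C⟨P⟩ C⟨P⟩ x := fun x hx =>
    isConjSub_of_mem_normalizer (centralizer_le_normalizer_centralizer hx le_rfl)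
  set O : Finset (MonoidAlgebra ℂ G) := (Finset.univ.filter (· ∈ N)).image fun x => cj x v with hO
  set z : MonoidAlgebra ℂ G := ∑ w ∈ O, w with hz
  have hwmem : ∀ w ∈ O, ∃ x ∈ N, cj x v = w := fun w hw => by
    obtain ⟨x, hx, rfl⟩ := Finset.mem_image.1 hw; exact ⟨x, (Finset.mem_filter.1 hx).2, rfl⟩
  have hmemO : ∀ x ∈ N, cj x v ∈ O := fun x hx =>
    Finset.mem_image.2 ⟨x, Finset.mem_filter.2 ⟨Finset.mem_univ _, hx⟩, rfl⟩
  have hzN : InvOn N z := invOn_iff.2 fun k hk => by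
    rw [hz, cj_sum]
    refine Finset.sum_nbij' (fun w => cj k w) (fun w => cj k⁻¹ w) ?_ ?_ ?_ ?_ (fun w _ => rfl)
    · intro w hw
      obtain ⟨x, hx, rfl⟩ := hwmem w hw
      rw [cj_cj]; exact hmemO _ (mul_mem hk hx)
    · intro w hw
      obtain ⟨x, hx, rfl⟩ := hwmem w hw
      rw [cj_cj]; exact hmemO _ (mul_mem (inv_mem hk) hx)
    · intro w _; show cj k⁻¹ (cj k w) = w; rw [cj_cj, inv_mul_cancel, cj_one]
    · intro w _; show cj k (cj k⁻¹ w) = w; rw [cj_cj, mul_inv_cancel, cj_one]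
  have hzi : Integral M z := fun c => by
    rw [hz, fn_sum]
    refine sum_mem fun w hw => ?_
    obtain ⟨x, -, rfl⟩ := hwmem w hw
    rw [fn_cj]; exact integral_bx hM he.2 _
  have hwbi : ∀ x, red M (cj x v) = cj x (bi M C⟨P⟩ e) := fun x => by rw [red_cj, hv, red_bx]
  have hsupp : ∀ g, g ∉ C⟨P⟩ → fn z g = 0 := fun g hg => by
    rw [hz, fn_sum]
    refine Finset.sum_eq_zero fun w hw => ?_
    obtain ⟨x, hx, rfl⟩ := hwmem w hw
    rw [hv, ← bx_conjSet (hcs x hx)]
    exact suppOn_bx _ _ g hg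
  -- `z` is killed by the Brauer maps of the larger subgroups of the normaliser
  have hkill : ∀ R : Subgroup G, IsPGroup p R → P < R → R ≤ N → br R (red M z) = 0 := by
    intro R hR hlt hRN
    rw [hz, red_sum _ fun w hw c => ?_, br_sum]
    swap
    · obtain ⟨x, -, rfl⟩ := hwmem w hw
      rw [fn_cj]; exact integral_bx hM he.2 _
    rw [← Finset.sum_coe_sort]
    letI act : MulAction R O :=
      { smul := fun k w => ⟨cj (k : G) w.1, by
          obtain ⟨x, hx, hxw⟩ := hwmem w.1 w.2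
          rw [← hxw, cj_cj]; exact hmemO _ (mul_mem (hRN k.2) hx)⟩
        one_smul := fun w => Subtype.ext (cj_one _)
        mul_smul := fun k l w => Subtype.ext (cj_cj _ _ _).symm }
    rw [sum_eq_sum_fixed hR
      (fun r => by rw [← Nat.cast_smul_eq_nsmul (Res M), CharP.cast_eq_zero, zero_smul])
      (fun w : O => br R (red M w.1))
      (fun k w => by
        show br R (red M (cj (k : G) w.1)) = _
        rw [red_cj, cj_br_of_mem _ k.2])]
    refine Finset.sum_eq_zero fun w hw => ?_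
    obtain ⟨x, hx, hxw⟩ := hwmem w.1 w.2
    simp only [Finset.mem_filter, Finset.mem_univ, true_and, MulAction.mem_fixedPoints] at hw
    rw [← hxw, hwbi]
    have hPx : P.map (MulAut.conj x⁻¹).toMonoidHom = P :=
      map_conj_of_mem_normalizer (inv_mem hx)
    have hlt' : P < R.map (MulAut.conj x⁻¹).toMonoidHom := by
      refine lt_of_le_of_ne (hPx ▸ Subgroup.map_mono hlt.le) fun h => hlt.ne ?_
      exact Subgroup.eq_of_le_of_card_ge hlt.le (by rw [← card_map_conj R x⁻¹, ← h])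
    have hN' : R.map (MulAut.conj x⁻¹).toMonoidHom ≤ N := by
      rintro _ ⟨k, hk, rfl⟩
      exact mul_mem (mul_mem (inv_mem hx) (hRN hk)) (inv_mem (inv_mem hx))
    have h0 := hno _ (hR.map _) hlt' hN' (by
      rintro _ ⟨k, hk, rfl⟩
      have h1 : cj k (cj x v) = cj x v := by
        have := congrArg Subtype.val (hw ⟨k, hk⟩)
        rw [hxw]; exact this
      show cj (x⁻¹ * k * x⁻¹⁻¹) _ = _
      rw [inv_inv, ← red_bx, ← red_cj, ← cj_cj, ← cj_cj, ← hv, h1, cj_cj, inv_mul_cancel, cj_one])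
    have h2 := congrArg (cj x) h0
    rwa [cj_br, cj_zero, map_conj_map, mul_inv_cancel, map_conj_one] at h2
  -- so `P` is a Sylow subgroup of the centraliser of every element of the support
  have hmax : ∀ t, t ∈ C⟨P⟩ → ¬ Small M (fn z t) →
      ∀ R : Subgroup G, IsPGroup p R → P ≤ R → t ∈ C⟨R⟩ → R = P := by
    intro t _ hns R hR hPR htR
    by_contra hne
    have hlt : P < R ⊓ N := lt_inf_normalizer hR (lt_of_le_of_ne hPR (Ne.symm hne))
    have h := congrArg (fun w => fn w t) (hkill _ (hR.to_le inf_le_left) hlt inf_le_right)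
    simp only [fn_zero] at h
    rw [br, fn_trunc_mem _ (mem_centralizer_mono inf_le_left htR), fn_red,
      res_eq_zero_iff (hzi t)] at h
    exact hns h
  -- extend to a class function
  let a : MonoidAlgebra ℂ G := ofFn fun g =>
    if h : ∃ t, t ∈ C⟨P⟩ ∧ IsConj t g ∧ ¬ Small M (fn z t) then fn z h.choose else 0
  have hval : ∀ g t : G, t ∈ C⟨P⟩ → IsConj t g → ¬ Small M (fn z t) → fn a g = fn z t := by
    intro g t ht htg hns
    have hex : ∃ t, t ∈ C⟨P⟩ ∧ IsConj t g ∧ ¬ Small M (fn z t) := ⟨t, ht, htg, hns⟩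
    rw [fn_ofFn, dif_pos hex]
    obtain ⟨hs1, hs2, -⟩ := hex.choose_spec
    obtain ⟨n, hn, hnt⟩ := exists_normalizer_conj he.1 (hmax t ht hns) ht hs1
      (htg.trans hs2.symm)
    rw [hnt]; exact hzN n hn t
  have hnot : ∀ g : G, (¬ ∃ t, t ∈ C⟨P⟩ ∧ IsConj t g ∧ ¬ Small M (fn z t)) → fn a g = 0 :=
    fun g h => by rw [fn_ofFn, dif_neg h]
  have hac : IsCentralFn a := fun g h => by
    by_cases hex : ∃ t, t ∈ C⟨P⟩ ∧ IsConj t g ∧ ¬ Small M (fn z t)
    · obtain ⟨t, ht, htg, hns⟩ := hex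
      rw [hval g t ht htg hns, hval _ t ht (htg.trans (isConj_iff.2 ⟨h, rfl⟩)) hns]
    · rw [hnot g hex, hnot]
      rintro ⟨t, ht, htg, hns⟩
      exact hex ⟨t, ht, htg.trans (isConj_iff.2 ⟨h⁻¹, by group⟩), hns⟩
  have hai : Integral M a := fun g => by
    rw [fn_ofFn]; split_ifs
    · exact hzi _
    · exact zero_mem _
  refine ⟨a, hac, hai, fun g hg => ?_, fun e' he' ξ hξ => ?_⟩
  · by_cases hex : ∃ t, t ∈ C⟨P⟩ ∧ IsConj t g ∧ ¬ Small M (fn z t)
    · obtain ⟨t, ht, htg, hns⟩ := hex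
      exact ⟨t, ht, htg, hmax t ht hns⟩
    · exact absurd (by rw [hnot g hex]; exact small_zero) hg
  have hbr : br P (red M a) = red M z := fn_ext fun g => by
    by_cases hg : g ∈ C⟨P⟩
    · rw [br, fn_trunc_mem _ hg, fn_red, fn_red]
      by_cases hns : Small M (fn z g)
      · rw [(res_eq_zero_iff (hzi g)).2 hns]
        by_cases hex : ∃ t, t ∈ C⟨P⟩ ∧ IsConj t g ∧ ¬ Small M (fn z t)
        · obtain ⟨t, ht, htg, hns'⟩ := hex
          obtain ⟨n, hn, hnt⟩ := exists_normalizer_conj he.1 (hmax t ht hns') ht hg htg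
          rw [hnt, hzN n hn t] at hns
          exact absurd hns hns'
        · rw [hnot g hex, res_zero]
      · rw [hval g g hg (IsConj.refl g) hns]
    · rw [br, fn_trunc_not_mem _ hg, fn_red, hsupp g hg, res_zero]
  have hzz : red M z * bi M C⟨P⟩ e' = ∑ w ∈ O, red M w * bi M C⟨P⟩ e' := by
    rw [hz, red_sum _ fun w hw c => ?_, Finset.sum_mul]
    obtain ⟨x, -, rfl⟩ := hwmem w hw
    rw [fn_cj]; exact integral_bx hM he.2 _
  have hid : br P (red M a) * br P (red M a) = br P (red M a) := by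
    rw [hbr, ← red_mul hzi hzi]
    congr 1
    rw [hz, Finset.sum_mul]
    refine Finset.sum_congr rfl fun w hw => ?_
    obtain ⟨x, hx, rfl⟩ := hwmem w hw
    rw [Finset.mul_sum, Finset.sum_eq_single (cj x v)]
    · rw [← cj_mul, hv, bx_mul_self]
    · intro w' hw' hne
      obtain ⟨y, hy, rfl⟩ := hwmem w' hw'
      rw [hv, ← bx_conjSet (hcs x hx), ← bx_conjSet (hcs y hy)] at hne ⊢
      exact bx_mul_bx hM (IsPBlock.conjSet (hcs x hx) he.2) (IsPBlock.conjSet (hcs y hy) he.2)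
        fun h => hne (by rw [h])
    · exact fun h => absurd hw h
  have key := res_omega_resElem_eq_one_iff hM hai ((invOn_top_iff.2 hac).mono le_top) hid he' hξ
  rw [hbr] at key
  have hterm : ∀ w ∈ O, (red M w = bi M C⟨P⟩ e' ∧ red M w * bi M C⟨P⟩ e' = bi M C⟨P⟩ e') ∨
      (red M w ≠ bi M C⟨P⟩ e' ∧ red M w * bi M C⟨P⟩ e' = 0) := by
    intro w hw
    obtain ⟨x, hx, rfl⟩ := hwmem w hw
    rw [hwbi, ← bi_conjSet (hcs x hx)]
    by_cases h : conjSet C⟨P⟩ C⟨P⟩ x e = e'
    · exact .inl ⟨by rw [h], by rw [h, bi_mul_self hM he']⟩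
    · exact .inr ⟨fun h' => h (bi_injective hM (IsPBlock.conjSet (hcs x hx) he.2) he' h'),
        bi_mul_bi hM (IsPBlock.conjSet (hcs x hx) he.2) he' h⟩
  have h01 : res M (omega (ξ : _ → ℂ) (resElem C⟨P⟩ a)) = 0 ∨
      res M (omega (ξ : _ → ℂ) (resElem C⟨P⟩ a)) = 1 := by
    have hc := hac.resElem C⟨P⟩
    have hi := hai.resElem (G := G) C⟨P⟩
    have h2 : red M (resElem C⟨P⟩ a * resElem C⟨P⟩ a) = red M (resElem C⟨P⟩ a) :=
      rx_inj (H := C⟨P⟩) (by rw [rx_mul hi hi, rx_resElem]; exact hid)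
    have h := res_omega_eq_of_red_eq hM ξ (hc.mul hc) (hi.mul hi) hc hi h2
    rw [omega_mul ξ hc, res_mul (omega_mem_place hM ξ hc hi) (omega_mem_place hM ξ hc hi)] at h
    exact IsIdempotentElem.iff_eq_zero_or_one.1 h
  by_cases hex : ∃ x ∈ N, cj x (bi M C⟨P⟩ e) = bi M C⟨P⟩ e'
  · obtain ⟨x, hx, hxe⟩ := hex
    refine .inl ⟨key.2 ?_, x, hx, hxe⟩
    rw [hzz, Finset.sum_eq_single (cj x v)]
    · rw [hwbi, hxe, bi_mul_self hM he']
    · intro w hw hne
      obtain ⟨y, hy, rfl⟩ := hwmem w hw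
      refine ((hterm _ hw).resolve_left fun h => hne ?_).2
      rw [hv, ← bx_conjSet (hcs x hx), ← bx_conjSet (hcs y hy)]
      congr 1
      refine bi_injective hM (IsPBlock.conjSet (hcs y hy) he.2) (IsPBlock.conjSet (hcs x hx) he.2) ?_
      rw [bi_conjSet (hcs y hy), bi_conjSet (hcs x hx), hxe, ← hwbi, h.1]
    · exact fun h => absurd (hmemO x hx) h
  · refine .inr ⟨h01.resolve_right fun h1 => bi_ne_zero hM he' ?_, hex⟩
    rw [← key.1 h1, hzz]
    refine Finset.sum_eq_zero fun w hw => ((hterm w hw).resolve_left fun h => hex ?_).2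
    obtain ⟨x, hx, rfl⟩ := hwmem w hw
    exact ⟨x, hx, by rw [← hwbi, h.1]⟩

lemma res_omega_eq_induced [Fact p.Prime] (hM : IsPModular p M) {B : Set (IrrCharacter G)}
    {P : Subgroup G} [Fintype C⟨P⟩] {e : Set (IrrCharacter C⟨P⟩)}
    (h : IsBrauerPairOf p M B P e) {ξ : IrrCharacter C⟨P⟩} (hξ : ξ ∈ e) {φ : IrrCharacter G}
    (hφ : φ ∈ B) {a : MonoidAlgebra ℂ G} (ha : IsCentralFn a) (hai : Integral M a) :
    res M (omega (ξ : _ → ℂ) (resElem C⟨P⟩ a)) = res M (omega (φ : G → ℂ) a) :=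
  res_omega_resElem_of_induced hM _ ((isBrauerPairOf_iff hM B P e).1 h).2 hξ hφ ha hai

/-- **A pair without normal extensions sits on a defect group.** -/
theorem isDefectGroup_of_noExtension [Fact p.Prime] (hM : IsPModular p M)
    {B : Set (IrrCharacter G)} {P : Subgroup G} {e : Set (IrrCharacter C⟨P⟩)}
    (h : IsBrauerPairOf p M B P e) (hno : NoExtension M p P e) : IsDefectGroup p M B P := by
  classical
  letI := Fintype.ofFinite C⟨P⟩
  have hB := h.2.1
  obtain ⟨D, hD⟩ := exists_defectGroup hM hB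
  obtain ⟨ξ, hξ⟩ := IsPBlock.nonempty hM h.1.2
  obtain ⟨χ, hχ⟩ := IsPBlock.nonempty hM hB
  obtain ⟨a, hac, hai, hsupp, hdet⟩ := exists_detector hM h.1 hno
  have h1 : res M (omega (ξ : _ → ℂ) (resElem C⟨P⟩ a)) = 1 := by
    rcases hdet e h.1.2 ξ hξ with ⟨h', -⟩ | ⟨-, h'⟩
    · exact h'
    · exact absurd ⟨1, one_mem _, cj_one _⟩ h'
  rw [res_omega_eq_induced hM h hξ hχ hac hai] at h1
  obtain ⟨g, hg1, hg2⟩ : ∃ g, ¬ Small M (fn a g) ∧ ¬ Small M (centralChar (χ : G → ℂ) g) := by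
    by_contra hno'
    push Not at hno'
    refine not_small_one (M := M) ?_
    rw [← res_eq_zero_iff (one_mem _), res_one, ← h1,
      res_eq_zero_iff (omega_mem_place hM χ hac hai),
      omega_eq_sum_classes _ (isClassFunction_irr χ) hac]
    refine small_sum _ _ fun C _ => ?_
    by_cases hs : Small M (fn a (crep C))
    · exact hs.mul_mem (centralChar_mem_place hM χ _)
    · exact (hno' _ hs).mem_mul (hai _)
  obtain ⟨t, ht, htg, hmax⟩ := hsupp g hg1
  rw [centralChar_conj χ htg.symm] at hg2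
  obtain ⟨s, hts, hsD⟩ := exists_conj_mem_centralizer_defectGroup hM hB hD hχ hg2
  obtain ⟨b, rfl⟩ := isConj_iff.1 hts
  have h3 := conj_le_centralizer hsD b⁻¹
  rw [show b⁻¹ * (b * t * b⁻¹) * b⁻¹⁻¹ = t by group] at h3
  obtain ⟨S, hS⟩ := exists_sylow_ge (g := t) h.1.1 (le_centralizer_iff_mem.2 ht)
  have hSP : centSyl S = P := hmax _ (isPGroup_centSyl S) hS (mem_centralizer_centSyl S)
  obtain ⟨c, -, hc⟩ := exists_conj_le_sylow ((IsDefectGroup.isPGroup hD).map _) h3 S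
  rw [hSP] at hc
  obtain ⟨x, hx⟩ := exists_le_conj_of_pair hM hD h
  have heq : P = D.map (MulAut.conj x).toMonoidHom := Subgroup.eq_of_le_of_card_ge hx (by
    have := Subgroup.card_le_of_le hc
    rw [card_map_conj, card_map_conj] at this
    rw [card_map_conj]; exact this)
  rw [heq]; exact IsDefectGroup.conj hM hB hD x

/-- A pair on a defect group is maximal. -/
theorem isMaximal_of_isDefectGroup [Fact p.Prime] (hM : IsPModular p M)
    {B : Set (IrrCharacter G)} {P : Subgroup G} {e : Set (IrrCharacter C⟨P⟩)}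
    (h : IsBrauerPairOf p M B P e) (hP : IsDefectGroup p M B P) :
    IsMaximalBrauerPair p M B P e := by
  refine ⟨h, fun R g hRg hle => (Subgroup.eq_of_le_of_card_ge (subpairLE_le hle) ?_).symm⟩
  obtain ⟨x, hx⟩ := exists_le_conj_of_pair hM hP hRg
  exact (Subgroup.card_le_of_le hx).trans (card_map_conj P x).le

/-- Every pair lies below a maximal one. -/
theorem exists_maximal_ge [Fact p.Prime] (hM : IsPModular p M) {B : Set (IrrCharacter G)}
    {Q : Subgroup G} {f : Set (IrrCharacter C⟨Q⟩)} (h : IsBrauerPairOf p M B Q f) :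
    ∃ (P : Subgroup G) (e : Set (IrrCharacter C⟨P⟩)),
      IsMaximalBrauerPair p M B P e ∧ SubpairLE p M Q f P e := by
  induction hn : Nat.card G - Nat.card Q using Nat.strong_induction_on generalizing Q with
  | _ n ih =>
    by_cases hmax : IsMaximalBrauerPair p M B Q f
    · exact ⟨Q, f, hmax, Relation.ReflTransGen.refl⟩
    · simp only [IsMaximalBrauerPair, h, true_and, not_forall] at hmax
      obtain ⟨R, g, hR, hle, hne⟩ := hmax
      have h1 : Nat.card Q < Nat.card R := lt_of_le_of_ne (Subgroup.card_le_of_le (subpairLE_le hle))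
        fun he => hne (Subgroup.eq_of_le_of_card_ge (subpairLE_le hle) he.ge).symm
      have h2 := Subgroup.card_le_card_group R
      obtain ⟨P, e, hP, hle'⟩ := ih _ (by omega) hR rfl
      exact ⟨P, e, hP, SubpairLE.trans' hle hle'⟩

/-- Pairs of a block on the same maximal subgroup are conjugate in its normaliser. -/
theorem exists_normalizer_cj [Fact p.Prime] (hM : IsPModular p M) {B : Set (IrrCharacter G)}
    {P : Subgroup G} {e e' : Set (IrrCharacter C⟨P⟩)} (h : IsMaximalBrauerPair p M B P e)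
    (h' : IsBrauerPairOf p M B P e') :
    ∃ x ∈ Subgroup.normalizer (P : Set G), cj x (bi M C⟨P⟩ e) = bi M C⟨P⟩ e' := by
  classical
  letI := Fintype.ofFinite C⟨P⟩
  obtain ⟨a, hac, hai, -, hdet⟩ := exists_detector hM h.1.1 (noExtension_of_maximal hM h)
  obtain ⟨ξ, hξ⟩ := IsPBlock.nonempty hM h.1.1.2
  obtain ⟨ξ', hξ'⟩ := IsPBlock.nonempty hM h'.1.2
  obtain ⟨χ, hχ⟩ := IsPBlock.nonempty hM h.1.2.1
  rcases hdet e' h'.1.2 ξ' hξ' with ⟨-, hx⟩ | ⟨h0, -⟩
  · exact hx
  · exfalso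
    rcases hdet e h.1.1.2 ξ hξ with ⟨h1, -⟩ | ⟨-, hno⟩
    · rw [res_omega_eq_induced hM h.1 hξ hχ hac hai] at h1
      rw [res_omega_eq_induced hM h' hξ' hχ hac hai, h1] at h0
      exact one_ne_zero h0
    · exact hno ⟨1, one_mem _, cj_one _⟩

/-- **Every pair of a block is, up to conjugacy, below a given maximal one.** -/
theorem exists_conj_subpairLE [Fact p.Prime] (hM : IsPModular p M) {B : Set (IrrCharacter G)}
    {P Q : Subgroup G} {e : Set (IrrCharacter C⟨P⟩)} {f : Set (IrrCharacter C⟨Q⟩)}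
    (hmax : IsMaximalBrauerPair p M B P e) (hQf : IsBrauerPairOf p M B Q f) :
    ∃ x : G, SubpairLE p M (Q.map (MulAut.conj x).toMonoidHom) (conjBlock Q x f) P e := by
  obtain ⟨P', e', hP', hle⟩ := exists_maximal_ge hM hQf
  have hB := hmax.1.2.1
  obtain ⟨w, hw⟩ := IsDefectGroup.exists_eq_conj hM hB
    (isDefectGroup_of_noExtension hM hP'.1 (noExtension_of_maximal hM hP'))
    (isDefectGroup_of_noExtension hM hmax.1 (noExtension_of_maximal hM hmax))
  subst hw
  obtain ⟨x, hx, hxe⟩ := exists_normalizer_cj hM hmax (isBrauerPairOf_conj hM hP'.1 w)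
  refine ⟨x⁻¹ * w, ?_⟩
  have h1 := subpairLE_conj hM hle (x⁻¹ * w)
  have hidx : conjIdx (x⁻¹ * w) ⟨P', e'⟩ =
      (⟨P'.map (MulAut.conj w).toMonoidHom, e⟩ : BrauerPairIdx G) := by
    refine idx_ext hM ?_ (isPBlock_conjBlock _ _ hP'.1.1.2) hmax.1.1.2 ?_
    · show P'.map (MulAut.conj (x⁻¹ * w)).toMonoidHom = _
      rw [← map_conj_map, map_conj_of_mem_normalizer (inv_mem hx)]
    · show bi M _ (conjBlock P' (x⁻¹ * w) e') = _
      rw [bi_conjBlock, ← cj_cj, ← bi_conjBlock, ← hxe, cj_cj, inv_mul_cancel, cj_one]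
  change Relation.ReflTransGen (NormalSubpairRel p M) _ (conjIdx (x⁻¹ * w) ⟨P', e'⟩) at h1
  rw [hidx] at h1
  exact h1

end Cfsg.Lib.Blocks
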