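import Mathlib
import Cfsg.Agent.Blocks.Maximal

/-!
# The group algebra of a subgroup inside that of the group

Extension by zero along a subgroup, its compatibility with the Brauer map and with block
idempotents of subgroups of the subgroup, and the local data of blocks of subgroups.
-/

set_option autoImplicit false
set_option linter.unusedSectionVars false

namespace Cfsg.Lib.Blocks

open Cfsg.Lib.Chars

universe u

section General

variable {G : Type u} [Group G] [Fintype G] {R : Type*} [CommRing R]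

/-- Extension by zero. -/
noncomputable def emb (H : Subgroup G) (y : MonoidAlgebra R H) : MonoidAlgebra R G := by
  classical
  exact ofFn fun g => if h : g ∈ H then fn y ⟨g, h⟩ else 0

lemma fn_emb_mem (H : Subgroup G) (y : MonoidAlgebra R H) {g : G} (hg : g ∈ H) :
    fn (emb H y) g = fn y ⟨g, hg⟩ := by simp [emb, hg]

lemma fn_emb_coe (H : Subgroup G) (y : MonoidAlgebra R H) (h : H) :
    fn (emb H y) (h : G) = fn y h := fn_emb_mem H y h.2

lemma fn_emb_not_mem (H : Subgroup G) (y : MonoidAlgebra R H) {g : G} (hg : g ∉ H) :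
    fn (emb H y) g = 0 := by simp [emb, hg]

lemma suppOn_emb (H : Subgroup G) (y : MonoidAlgebra R H) : SuppOn H (emb H y) :=
  fun _ hg => fn_emb_not_mem H y hg

lemma emb_injective (H : Subgroup G) : Function.Injective (emb H (R := R)) := fun y z h =>
  fn_ext fun g => by rw [← fn_emb_coe H y, h, fn_emb_coe]

lemma emb_zero (H : Subgroup G) : emb H (0 : MonoidAlgebra R H) = 0 := fn_ext fun g => by
  by_cases hg : g ∈ H
  · rw [fn_emb_mem H _ hg, fn_zero, fn_zero]
  · rw [fn_emb_not_mem H _ hg, fn_zero]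

lemma emb_mul (H : Subgroup G) [Fintype H] (y z : MonoidAlgebra R H) :
    emb H (y * z) = emb H y * emb H z := by
  classical
  refine fn_ext fun c => ?_
  by_cases hc : c ∈ H
  · rw [fn_emb_mem H _ hc, fn_mul, fn_mul,
      ← Finset.sum_filter_add_sum_filter_not Finset.univ (fun t : G => t ∈ H),
      Finset.sum_eq_zero (s := Finset.univ.filter fun t : G => ¬ t ∈ H) fun t ht => ?_, add_zero,
      Finset.sum_subtype (p := (· ∈ H)) (Finset.univ.filter (· ∈ H)) (fun g => by simp)]
    · refine Finset.sum_congr rfl fun t _ => ?_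
      rw [fn_emb_coe, fn_emb_mem H z (H.mul_mem (H.inv_mem t.2) hc)]
      rfl
    · rw [fn_emb_not_mem H y (Finset.mem_filter.1 ht).2, zero_mul]
  · rw [fn_emb_not_mem H _ hc, ((suppOn_emb H y).mul (suppOn_emb H z)) c hc]

lemma cj_emb {H : Subgroup G} [Fintype H] (h : H) (y : MonoidAlgebra R H) :
    cj (h : G) (emb H y) = emb H (cj h y) := fn_ext fun g => by
  rw [fn_cj]
  by_cases hg : g ∈ H
  · rw [fn_emb_mem H _ hg, fn_cj, fn_emb_mem H _ (H.mul_mem (H.mul_mem (H.inv_mem h.2) hg) h.2)]
    rfl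
  · rw [fn_emb_not_mem H _ hg, fn_emb_not_mem H _ fun h' => hg ?_]
    have := H.mul_mem (H.mul_mem h.2 h') (H.inv_mem h.2)
    rwa [show (h : G) * ((h : G)⁻¹ * g * h) * (h : G)⁻¹ = g by group] at this

/-- `H` as a set of elements of a subgroup. -/
def IsSubOf (H : Subgroup G) (K : Subgroup G) (K' : Subgroup H) : Prop :=
  ∀ h : H, h ∈ K' ↔ (h : G) ∈ K

lemma isSubOf_subgroupOf (H K : Subgroup G) : IsSubOf H K (K.subgroupOf H) :=
  fun _ => Iff.rfl

lemma isSubOf_centralizer (H P : Subgroup G) (hP : P ≤ H) :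
    IsSubOf H (Subgroup.centralizer (P : Set G) ⊓ H)
      (Subgroup.centralizer ((P.subgroupOf H : Subgroup H) : Set H)) := by
  intro h
  rw [Subgroup.mem_inf, Subgroup.mem_centralizer_iff, Subgroup.mem_centralizer_iff]
  exact ⟨fun hh => ⟨fun y hy => congrArg Subtype.val (hh ⟨y, hP hy⟩ hy), h.2⟩,
    fun hh y hy => Subtype.ext (hh.1 (y : G) hy)⟩

lemma emb_br (H P : Subgroup G) [Fintype H] (hP : P ≤ H) (y : MonoidAlgebra R H) :
    emb H (br (P.subgroupOf H) y) = br P (emb H y) := fn_ext fun g => by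
  by_cases hg : g ∈ H
  · rw [fn_emb_mem H _ hg]
    by_cases hc : g ∈ Subgroup.centralizer (P : Set G)
    · rw [br, br, fn_trunc_mem _ ((isSubOf_centralizer H P hP ⟨g, hg⟩).2 ⟨hc, hg⟩),
        fn_trunc_mem _ hc, fn_emb_mem H _ hg]
    · rw [br, br, fn_trunc_not_mem _ fun h => hc ((isSubOf_centralizer H P hP ⟨g, hg⟩).1 h).1,
        fn_trunc_not_mem _ hc]
  · rw [fn_emb_not_mem H _ hg, br]
    by_cases hc : g ∈ Subgroup.centralizer (P : Set G)
    · rw [fn_trunc_mem _ hc, fn_emb_not_mem H _ hg]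
    · rw [fn_trunc_not_mem _ hc]

end General

variable {G : Type u} [Group G] [Fintype G] {M : Ideal AlgInt} {p : ℕ}

lemma emb_red (H : Subgroup G) [Fintype H] (z : MonoidAlgebra ℂ H) : emb H (red M z) = rx M H z :=
  fn_ext fun g => by
    by_cases hg : g ∈ H
    · rw [fn_emb_mem H _ hg, fn_red, fn_rx_mem z hg]
    · rw [fn_emb_not_mem H _ hg, suppOn_rx z g hg]

lemma emb_red_blockElem (H : Subgroup G) [Fintype H] (b : Set (IrrCharacter H)) :
    emb H (red M (blockElem b)) = bi M H b := by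
  rw [emb_red, bi_eq_rx]

/-- A subgroup of `H` seen inside `H`. -/
def subEquiv {H K : Subgroup G} {K' : Subgroup H} (h : IsSubOf H K K') (hle : K ≤ H) : K' ≃* K where
  toFun x := ⟨((x : H) : G), (h x).1 x.2⟩
  invFun y := ⟨⟨(y : G), hle y.2⟩, (h _).2 y.2⟩
  left_inv _ := rfl
  right_inv _ := rfl
  map_mul' _ _ := rfl

/-- Sets of characters of a subgroup of `H`, seen inside `H`. -/
noncomputable def inSub {H K : Subgroup G} {K' : Subgroup H} (h : IsSubOf H K K') (hle : K ≤ H)
    (b : Set (IrrCharacter K)) : Set (IrrCharacter K') :=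
  irrEquiv (subEquiv h hle) '' b

variable {H K : Subgroup G} {K' : Subgroup H} [Fintype H]

lemma isPBlock_inSub (h : IsSubOf H K K') (hle : K ≤ H) {b : Set (IrrCharacter K)}
    (hb : IsPBlock M b) : IsPBlock M (inSub h hle b) :=
  IsPBlock.image_irrEquiv _ hb

lemma exists_inSub (h : IsSubOf H K K') (hle : K ≤ H) {b' : Set (IrrCharacter K')}
    (hb' : IsPBlock M b') :
    ∃ b : Set (IrrCharacter K), IsPBlock M b ∧ inSub h hle b = b' := by
  refine ⟨irrEquiv (subEquiv h hle).symm '' b', IsPBlock.image_irrEquiv _ hb', ?_⟩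
  rw [inSub, Set.image_image]
  have : ∀ χ : IrrCharacter K', irrEquiv (subEquiv h hle) (irrEquiv (subEquiv h hle).symm χ) = χ :=
    fun χ => Subtype.ext (funext fun k => by simp)
  simp [this]

lemma subgroupBlockCoeff_inSub (h : IsSubOf H K K') (hle : K ≤ H) (b : Set (IrrCharacter K))
    (g : H) :
    subgroupBlockCoeff K' (inSub h hle b) g = subgroupBlockCoeff K b (g : G) := by
  unfold subgroupBlockCoeff
  by_cases hg : g ∈ K'
  · rw [dif_pos hg, dif_pos ((h g).1 hg), inSub, blockCoeff_image]; rfl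
  · rw [dif_neg hg, dif_neg (mt (h g).2 hg)]

lemma emb_bi_inSub (h : IsSubOf H K K') (hle : K ≤ H) (b : Set (IrrCharacter K)) :
    emb H (bi M K' (inSub h hle b)) = bi M K b := fn_ext fun g => by
  by_cases hg : g ∈ H
  · rw [fn_emb_mem H _ hg, bi, bi, fn_ofFn, fn_ofFn, subgroupBlockCoeff_inSub]
  · rw [fn_emb_not_mem H _ hg, suppOn_bi b g fun h' => hg (hle h')]

lemma IsDefectGroup.inSub [Fact p.Prime] (h : IsSubOf H K K') (hle : K ≤ H)
    {b : Set (IrrCharacter K)} {D : Subgroup K} (hD : IsDefectGroup p M b D) :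
    IsDefectGroup p M (inSub h hle b) (D.map (subEquiv h hle).symm.toMonoidHom) :=
  IsDefectGroup.image_irrEquiv _ hD

/-- Pairs of a block of a subgroup containing the centraliser. -/
theorem isBrauerPairOf_sub_iff [Fact p.Prime] (hM : IsPModular p M) {H P : Subgroup G}
    [Fintype H] (hP : P ≤ H) (hPp : IsPGroup p P) {c : Set (IrrCharacter H)} (hc : IsPBlock M c)
    {e : Set (IrrCharacter (Subgroup.centralizer (P : Set G) ⊓ H : Subgroup G))}
    (he : IsPBlock M e) :
    IsBrauerPairOf p M c (P.subgroupOf H)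
        (inSub (isSubOf_centralizer H P hP) inf_le_right e) ↔
      br P (bi M H c) * bi M _ e = bi M _ e := by
  rw [isBrauerPairOf_iff_br hM, ← (emb_injective H).eq_iff, emb_mul, emb_br H P hP,
    emb_red_blockElem, emb_bi_inSub]
  exact ⟨fun h => h.2.2,
    fun h => ⟨⟨hPp.comap_subtype, isPBlock_inSub _ _ he⟩, hc, h⟩⟩

/-- No extension, seen inside a subgroup containing the normaliser. -/
theorem noExtension_sub_iff [Fact p.Prime] {H P : Subgroup G} [Fintype H]
    (hN : Subgroup.normalizer (P : Set G) ≤ H) (hP : P ≤ H)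
    (e : Set (IrrCharacter (Subgroup.centralizer (P : Set G) ⊓ H : Subgroup G))) :
    NoExtension M p (P.subgroupOf H) (inSub (isSubOf_centralizer H P hP) inf_le_right e) ↔
      ∀ R : Subgroup G, IsPGroup p R → P < R → R ≤ Subgroup.normalizer (P : Set G) →
        (∀ x ∈ R, cj x (bi M (Subgroup.centralizer (P : Set G) ⊓ H) e) =
          bi M (Subgroup.centralizer (P : Set G) ⊓ H) e) →
        br R (bi M (Subgroup.centralizer (P : Set G) ⊓ H) e) = 0 := by
  constructor
  · intro h R hR hlt hRN hfix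
    have hRH : R ≤ H := hRN.trans hN
    have h1 := h (R.subgroupOf H) (hR.comap_subtype) ?_ ?_ ?_
    · rw [← (emb_injective H).eq_iff, emb_br H R hRH, emb_bi_inSub, emb_zero] at h1
      exact h1
    · refine lt_of_le_of_ne (fun y hy => hlt.le hy) fun heq => hlt.ne ?_
      refine le_antisymm hlt.le fun y hy => ?_
      have h2 : (⟨y, hRH hy⟩ : H) ∈ R.subgroupOf H := hy
      rw [← heq] at h2
      exact h2
    · intro x hx
      refine Subgroup.mem_normalizer_iff.2 fun y => ?_
      exact Subgroup.mem_normalizer_iff.1 (hRN hx) (y : G)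
    · intro x hx
      rw [← (emb_injective H).eq_iff, ← cj_emb, emb_bi_inSub]
      exact hfix _ hx
  · intro h R hR hlt hRN hfix
    have hRmap : (R.map H.subtype).subgroupOf H = R :=
      Subgroup.comap_map_eq_self_of_injective H.subtype_injective R
    have h1 := h (R.map H.subtype) (hR.map _) ?_ ?_ ?_
    · rw [← (emb_injective H).eq_iff, emb_zero, ← hRmap,
        emb_br H _ (Subgroup.map_subtype_le R), emb_bi_inSub]
      exact h1
    · refine lt_of_le_of_ne (fun y hy => ⟨⟨y, hP hy⟩, hlt.le hy, rfl⟩) fun heq => hlt.ne ?_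
      exact (congrArg (Subgroup.subgroupOf · H) heq).trans hRmap
    · rintro _ ⟨x, hx, rfl⟩
      refine Subgroup.mem_normalizer_iff.2 fun y => ?_
      have hx' := Subgroup.mem_normalizer_iff.1 (hRN hx)
      constructor
      · intro hy; exact (hx' ⟨y, hP hy⟩).1 hy
      · intro hy
        have hyH : y ∈ H := by
          have h2 := H.mul_mem (H.mul_mem (H.inv_mem x.2) (hP hy)) x.2
          rwa [show (x : G)⁻¹ * (H.subtype x * y * (H.subtype x)⁻¹) * x = y by simp [mul_assoc]] at h2
        exact (hx' ⟨y, hyH⟩).2 hy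
    · rintro _ ⟨x, hx, rfl⟩
      rw [← emb_bi_inSub (isSubOf_centralizer H P hP) inf_le_right e, Subgroup.coe_subtype, cj_emb,
        hfix x hx]

/-- An idempotent of a subgroup is determined by the blocks it contains. -/
theorem idem_ext (hM : IsPModular p M) {K : Subgroup G} [Fintype K]
    {ε δ : MonoidAlgebra (Res M) G} (hεs : SuppOn K ε) (hεi : InvOn K ε) (hεε : ε * ε = ε)
    (hδs : SuppOn K δ) (hδi : InvOn K δ) (hδδ : δ * δ = δ)
    (h : ∀ b : Set (IrrCharacter K), IsPBlock M b →
      (ε * bi M K b = bi M K b ↔ δ * bi M K b = bi M K b)) : ε = δ := by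
  classical
  have e1 : ∀ x : MonoidAlgebra (Res M) G,
      x = ∑ b ∈ blocksFinset M K, x * bi M K b := fun x => by
    rw [← Finset.mul_sum, sum_bi hM, mul_one]
  rw [e1 ε, e1 δ]
  refine Finset.sum_congr rfl fun b hb => ?_
  have hb' := (mem_blocksFinset hM).1 hb
  rcases mul_bi_eq_or hM hεs hεi hεε hb' with h1 | h1
  · rw [h1, (h b hb').1 h1]
  · rcases mul_bi_eq_or hM hδs hδi hδδ hb' with h2 | h2
    · rw [h2, (h b hb').2 h2]
    · rw [h1, h2]

end Cfsg.Lib.Blocks
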