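import Mathlib
import Cfsg.Agent.Blocks.Embed

/-!
# Blocks of subgroups containing the normaliser: the first main theorem

Also the transitivity of the congruence of central characters along Brauer images.
-/

set_option autoImplicit false
set_option linter.unusedSectionVars false

namespace Cfsg.Lib.Blocks

open Cfsg.Lib.Chars

universe u

variable {G : Type u} [Group G] [Fintype G] {M : Ideal AlgInt} {p : ℕ}

local notation "C⟨" P "⟩" => Subgroup.centralizer (SetLike.coe P)

/-- A Brauer image of a block of a subgroup determines the central character. -/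
theorem res_omega_block_eq [Fact p.Prime] (hM : IsPModular p M) {H Q : Subgroup G} [Fintype H]
    [Fintype C⟨Q⟩] (hQp : IsPGroup p Q) (hQH : Q ≤ H) (hCH : C⟨Q⟩ ≤ H)
    {b : Set (IrrCharacter H)} (hb : IsPBlock M b) {f : Set (IrrCharacter C⟨Q⟩)}
    (hf : IsPBlock M f) (hbr : br Q (bi M H b) * bi M C⟨Q⟩ f = bi M C⟨Q⟩ f)
    {z : MonoidAlgebra ℂ H} (hzc : IsCentralFn z) (hzi : Integral M z) {θ : IrrCharacter H}
    (hθ : θ ∈ b) {ξ : IrrCharacter C⟨Q⟩} (hξ : ξ ∈ f) :
    res M (omega (θ : H → ℂ) z) = res M (omega (ξ : _ → ℂ) (resElem C⟨Q⟩ (extElem H z))) := by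
  classical
  haveI := charP_res hM
  let L : MonoidAlgebra ℂ H → MonoidAlgebra ℂ C⟨Q⟩ := fun y => resElem C⟨Q⟩ (extElem H y)
  have Lfn : ∀ y (c : C⟨Q⟩), fn (L y) c = fn y ⟨c, hCH c.2⟩ := fun y c => by
    show fn (resElem _ _) c = _
    rw [fn_resElem, fn_extElem_mem H y (hCH c.2)]
  have Lc : ∀ y, IsCentralFn y → IsCentralFn (L y) := fun y hy g h => by
    rw [Lfn, Lfn]
    exact hy ⟨g, hCH g.2⟩ ⟨h, hCH h.2⟩
  have Li : ∀ y, Integral M y → Integral M (L y) := fun y hy c => by rw [Lfn]; exact hy _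
  have Lrx : ∀ y, rx M C⟨Q⟩ (L y) = br Q (rx M H y) := fun y => rx_resElem
  let Λ : MonoidAlgebra ℂ H → Res M := fun y => res M (omega (ξ : _ → ℂ) (L y))
  have Λmul : ∀ y y', IsCentralFn y → Integral M y → IsCentralFn y' → Integral M y' →
      Λ (y * y') = Λ y * Λ y' := by
    intro y y' hy hyi hy' hyi'
    show res M _ = res M _ * res M _
    rw [← res_mul (omega_mem_place hM ξ (Lc y hy) (Li y hyi))
      (omega_mem_place hM ξ (Lc y' hy') (Li y' hyi')), ← omega_mul ξ (Lc y hy)]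
    refine res_omega_eq_of_red_eq hM ξ (Lc _ (hy.mul hy')) (Li _ (hyi.mul hyi'))
      ((Lc y hy).mul (Lc y' hy')) ((Li y hyi).mul (Li y' hyi')) (rx_inj (H := C⟨Q⟩) ?_)
    rw [rx_mul (Li y hyi) (Li y' hyi'), Lrx, Lrx, Lrx, rx_mul hyi hyi',
      br_mul hQp ((invOn_rx hy).mono hQH) ((invOn_rx hy').mono hQH)]
  have hec := isCentralFn_blockElem b
  have hei := integral_blockElem hM hb
  have Λe : Λ (blockElem b) = 1 := by
    show res M (omega _ (resElem _ _)) = 1
    rw [← bx_eq_extElem]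
    refine (res_omega_resElem_eq_one_iff hM (integral_bx hM hb) ((invOn_bx H b).mono hCH) ?_ hf
      hξ).2 (by rwa [red_bx])
    rw [red_bx, ← br_mul hQp ((invOn_bi b).mono hQH) ((invOn_bi b).mono hQH), bi_mul_self hM hb]
  set c : ℂ := omega (θ : H → ℂ) z with hc
  have hcp : c ∈ place M := omega_mem_place hM θ hzc hzi
  set z' : MonoidAlgebra ℂ H := z - c • 1 with hz'
  have hz'c : IsCentralFn z' := hzc.sub (isCentralFn_one.smul c)
  have hz'i : Integral M z' := hzi.sub (integral_one.smul hcp)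
  set y := blockElem b * z' with hy
  have hyc : IsCentralFn y := hec.mul hz'c
  have hyi : Integral M y := hei.mul hz'i
  obtain ⟨n, hn⟩ := isNilpotent_red_of_omega_small hM hyc hyi fun ψ => by
    rw [omega_mul ψ hec, omega_blockElem]
    split_ifs with hψ
    · rw [one_mul, omega_sub, omega_smul, omega_one, mul_one,
        ← res_eq_iff (omega_mem_place hM ψ hzc hzi) hcp]
      exact res_omega_eq_of_sameBlock hM (IsPBlock.sameBlock hM hb hψ hθ) hzc hzi
    · rw [zero_mul]; exact small_zero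
  have hpow : ∀ m : ℕ, Λ (y ^ (m + 1)) = Λ y ^ (m + 1) := fun m => by
    induction m with
    | zero => rw [zero_add, pow_one, pow_one]
    | succ m ih =>
      rw [pow_succ y, Λmul _ _ (hyc.pow _) (hyi.pow _) hyc hyi, ih, ← pow_succ]
  have h0 : Λ (y ^ (n + 1)) = 0 := by
    have hz0 : red M (L (y ^ (n + 1))) = red M (0 : MonoidAlgebra ℂ C⟨Q⟩) := fn_ext fun d => by
      rw [fn_red, fn_red, Lfn, fn_zero, ← fn_red, red_pow hyi, pow_succ, hn, zero_mul, fn_zero,
        res_zero]
    show res M _ = 0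
    rw [res_omega_eq_of_red_eq hM ξ (Lc _ (hyc.pow _)) (Li _ (hyi.pow _)) isCentralFn_zero
      integral_zero hz0, omega_zero, res_zero]
  rw [hpow] at h0
  have h1 : Λ y = 0 := eq_zero_of_pow_eq_zero h0
  rw [hy, Λmul _ _ hec hei hz'c hz'i, Λe, one_mul] at h1
  have hL : L z' = L z - c • 1 := fn_ext fun d => by
    rw [Lfn, hz', fn_sub, fn_sub, fn_smul, fn_smul, Lfn, fn_one, fn_one]
    congr 2
    exact if_congr ⟨fun h => Subtype.ext (congrArg Subtype.val h :),
      fun h => Subtype.ext (congrArg Subtype.val h :)⟩ rfl rfl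
  change res M (omega _ (L z')) = 0 at h1
  rw [hL, omega_sub, omega_smul, omega_one, mul_one,
    res_sub (omega_mem_place hM ξ (Lc z hzc) (Li z hzi)) hcp, sub_eq_zero] at h1
  exact h1.symm

/-- A block of the centraliser, seen inside a subgroup containing the centraliser. -/
noncomputable def downSet {H P : Subgroup G} (hP : P ≤ H) (e : Set (IrrCharacter C⟨P⟩)) :
    Set (IrrCharacter (Subgroup.centralizer ((P.subgroupOf H : Subgroup H) : Set H))) :=
  inSub (isSubOf_centralizer H P hP) inf_le_right (conjSet C⟨P⟩ (C⟨P⟩ ⊓ H) 1 e)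

lemma isConjSub_inf {H P : Subgroup G} (hCH : C⟨P⟩ ≤ H) : IsConjSub C⟨P⟩ (C⟨P⟩ ⊓ H) 1 :=
  fun g => by
    simp only [inv_one, one_mul, mul_one, Subgroup.mem_inf]
    exact ⟨fun h => h.1, fun h => ⟨h, hCH h⟩⟩

lemma bi_conjSet_one {H P : Subgroup G} (hCH : C⟨P⟩ ≤ H) (e : Set (IrrCharacter C⟨P⟩)) :
    bi M (C⟨P⟩ ⊓ H) (conjSet C⟨P⟩ (C⟨P⟩ ⊓ H) 1 e) = bi M C⟨P⟩ e := by
  rw [bi_conjSet (isConjSub_inf hCH), cj_one]

lemma isPBlock_downSet {H P : Subgroup G} [Fintype H] (hP : P ≤ H) (hCH : C⟨P⟩ ≤ H)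
    {e : Set (IrrCharacter C⟨P⟩)} (he : IsPBlock M e) : IsPBlock M (downSet hP e) :=
  isPBlock_inSub _ _ (IsPBlock.conjSet (isConjSub_inf hCH) he)

lemma emb_bi_downSet {H P : Subgroup G} [Fintype H] (hP : P ≤ H) (hCH : C⟨P⟩ ≤ H)
    (e : Set (IrrCharacter C⟨P⟩)) : emb H (bi M _ (downSet hP e)) = bi M C⟨P⟩ e := by
  rw [downSet, emb_bi_inSub, bi_conjSet_one hCH]

lemma exists_downSet (hM : IsPModular p M) {H P : Subgroup G} [Fintype H] (hP : P ≤ H)
    (hCH : C⟨P⟩ ≤ H)
    {e' : Set (IrrCharacter (Subgroup.centralizer ((P.subgroupOf H : Subgroup H) : Set H)))}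
    (he' : IsPBlock M e') :
    ∃ e : Set (IrrCharacter C⟨P⟩), IsPBlock M e ∧ downSet hP e = e' := by
  classical
  obtain ⟨e₁, he₁, rfl⟩ := exists_inSub (isSubOf_centralizer H P hP) inf_le_right he'
  have h' : IsConjSub (C⟨P⟩ ⊓ H) C⟨P⟩ 1 := fun g => by
    simp only [inv_one, one_mul, mul_one, Subgroup.mem_inf]
    exact ⟨fun h => ⟨h, hCH h⟩, fun h => h.1⟩
  refine ⟨conjSet (C⟨P⟩ ⊓ H) C⟨P⟩ 1 e₁, IsPBlock.conjSet h' he₁, ?_⟩
  unfold downSet
  congr 1
  letI := Fintype.ofFinite (C⟨P⟩ ⊓ H : Subgroup G)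
  refine bi_injective hM (IsPBlock.conjSet (isConjSub_inf hCH) (IsPBlock.conjSet h' he₁)) he₁ ?_
  rw [bi_conjSet (isConjSub_inf hCH), bi_conjSet h', cj_one, cj_one]

theorem pair_down_iff [Fact p.Prime] (hM : IsPModular p M) {H P : Subgroup G} [Fintype H]
    (hP : P ≤ H) (hCH : C⟨P⟩ ≤ H) (hPp : IsPGroup p P) {c : Set (IrrCharacter H)}
    (hc : IsPBlock M c) {e : Set (IrrCharacter C⟨P⟩)} (he : IsPBlock M e) :
    IsBrauerPairOf p M c (P.subgroupOf H) (downSet hP e) ↔
      br P (bi M H c) * bi M C⟨P⟩ e = bi M C⟨P⟩ e := by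
  rw [downSet, isBrauerPairOf_sub_iff hM hP hPp hc (IsPBlock.conjSet (isConjSub_inf hCH) he),
    bi_conjSet_one hCH]

theorem noExtension_down_iff [Fact p.Prime] {H P : Subgroup G} [Fintype H]
    (hN : Subgroup.normalizer (P : Set G) ≤ H) (hP : P ≤ H) (e : Set (IrrCharacter C⟨P⟩)) :
    NoExtension M p (P.subgroupOf H) (downSet hP e) ↔ NoExtension M p P e := by
  rw [downSet, noExtension_sub_iff hN hP, bi_conjSet_one
    ((Subgroup.centralizer_le_normalizer _).trans hN)]
  rfl

/-- A defect group carries a pair. -/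
theorem exists_pair_of_defect [Fact p.Prime] (hM : IsPModular p M) {B : Set (IrrCharacter G)}
    (hB : IsPBlock M B) {D : Subgroup G} (hD : IsDefectGroup p M B D) :
    ∃ e : Set (IrrCharacter C⟨D⟩), IsMaximalBrauerPair p M B D e := by
  classical
  haveI := charP_res hM
  letI := Fintype.ofFinite C⟨D⟩
  obtain ⟨g, hg, S, rfl⟩ := id hD
  have hei := integral_blockElem hM hB
  have hinv : InvOn (⊤ : Subgroup G) (red M (blockElem B)) :=
    invOn_top_iff.2 (isCentralFn_blockElem B).red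
  obtain ⟨e, he, hne⟩ : ∃ e, IsPBlock M e ∧
      br (centSyl S) (red M (blockElem B)) * bi M C⟨centSyl S⟩ e ≠ 0 := by
    by_contra hno
    push Not at hno
    refine ((isDefectClass_iff hM hB g).1 hg).1 ?_
    have hzero : br (centSyl S) (red M (blockElem B)) = 0 := by
      rw [← mul_one (br (centSyl S) (red M (blockElem B))), ← sum_bi (H := C⟨centSyl S⟩) hM,
        Finset.mul_sum]
      exact Finset.sum_eq_zero fun e he => hno e ((mem_blocksFinset hM).1 he)
    have h := congrArg (fun w => fn w g) hzero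
    simp only [fn_zero] at h
    rwa [br, fn_trunc_mem _ (mem_centralizer_centSyl S), fn_red, res_eq_zero_iff (hei g),
      fn_blockElem] at h
  have hP : IsPGroup p (centSyl S) := isPGroup_centSyl S
  refine ⟨e, isMaximal_of_isDefectGroup hM
    ((isBrauerPairOf_iff_br hM B _ e).2 ⟨⟨hP, he⟩, hB, ?_⟩) hD⟩
  refine (mul_bi_eq_or hM (suppOn_br _ _)
    (invOn_br (hinv.mono le_top) fun k hk y hy => centralizer_normalizes hk hy) ?_ he).resolve_right
      hne
  rw [← br_mul hP (hinv.mono le_top) (hinv.mono le_top), ← red_mul hei hei, blockElem_mul_self]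

/-- **The first main theorem**, downwards. -/
theorem firstMain_down [Fact p.Prime] (hM : IsPModular p M) {H P : Subgroup G} [Fintype H]
    (hN : Subgroup.normalizer (P : Set G) ≤ H) {B : Set (IrrCharacter G)} (hB : IsPBlock M B)
    (hD : IsDefectGroup p M B P) :
    ∃ c : Set (IrrCharacter H), IsPBlock M c ∧ IsDefectGroup p M c (P.subgroupOf H) ∧
      br P (red M (blockElem B)) = br P (bi M H c) ∧
      ∀ c' : Set (IrrCharacter H), IsPBlock M c' →
        br P (red M (blockElem B)) = br P (bi M H c') → c' = c := by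
  classical
  haveI := charP_res hM
  have hP : P ≤ H := Subgroup.le_normalizer.trans hN
  have hCH : C⟨P⟩ ≤ H := (Subgroup.centralizer_le_normalizer _).trans hN
  have hPp := IsDefectGroup.isPGroup hD
  letI := Fintype.ofFinite C⟨P⟩
  obtain ⟨e, hmax⟩ := exists_pair_of_defect hM hB hD
  have hno := noExtension_of_maximal hM hmax
  obtain ⟨-, -, heB⟩ := (isBrauerPairOf_iff_br hM B P e).1 hmax.1
  have he := hmax.1.1.2
  obtain ⟨c, hc, -⟩ := existsUnique_block (G := H) hM
    (e := downSet hP e) ⟨hPp.comap_subtype, isPBlock_downSet hP hCH he⟩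
  have hce := (pair_down_iff hM hP hCH hPp hc.2.1 he).1 hc
  have hnoH := (noExtension_down_iff (M := M) (p := p) hN hP e).2 hno
  have hcD := isDefectGroup_of_noExtension hM hc hnoH
  refine ⟨c, hc.2.1, hcD, ?_, fun c' hc' heq => ?_⟩
  · have hinv : InvOn (⊤ : Subgroup G) (red M (blockElem B)) :=
      invOn_top_iff.2 (isCentralFn_blockElem B).red
    have hei := integral_blockElem hM hB
    refine idem_ext hM (K := C⟨P⟩) (suppOn_br _ _)
      (invOn_br (hinv.mono le_top) fun k hk y hy => centralizer_normalizes hk hy) ?_ (suppOn_br _ _)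
      (invOn_br ((invOn_bi c).mono hCH) fun k hk y hy => centralizer_normalizes hk hy) ?_
      fun e' he' => ?_
    · rw [← br_mul hPp (hinv.mono le_top) (hinv.mono le_top), ← red_mul hei hei, blockElem_mul_self]
    · rw [← br_mul hPp ((invOn_bi c).mono hP) ((invOn_bi c).mono hP), bi_mul_self hM hc.2.1]
    have hnconj : ∀ x ∈ Subgroup.normalizer (P : Set G), ∀ a : MonoidAlgebra (Res M) G,
        (∀ h ∈ H, cj h a = a) → cj x (br P a) = br P a := fun x hx a ha => by
      rw [cj_br, map_conj_of_mem_normalizer hx, ha x (hN hx)]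
    constructor
    · intro h
      obtain ⟨x, hx, hxe⟩ := exists_normalizer_cj hM hmax
        ((isBrauerPairOf_iff_br hM B P e').2 ⟨⟨hPp, he'⟩, hB, h⟩)
      rw [← hxe, ← hnconj x hx _ (invOn_iff.1 (invOn_bi c)), ← cj_mul, hce]
    · intro h
      obtain ⟨x, hx, hxe⟩ := exists_normalizer_cj (G := H) hM
        (isMaximal_of_isDefectGroup hM hc hcD) ((pair_down_iff hM hP hCH hPp hc.2.1 he').2 h)
      have hx' : (x : G) ∈ Subgroup.normalizer (P : Set G) := by
        refine Subgroup.mem_normalizer_iff.2 fun y => ?_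
        have hx2 := Subgroup.mem_normalizer_iff.1 hx
        constructor
        · intro hy; exact (hx2 ⟨y, hP hy⟩).1 hy
        · intro hy
          have hyH : y ∈ H := by
            have h2 := H.mul_mem (H.mul_mem (H.inv_mem x.2) (hP hy)) x.2
            rwa [show (x : G)⁻¹ * ((x : G) * y * (x : G)⁻¹) * x = y by group] at h2
          exact (hx2 ⟨y, hyH⟩).2 hy
      rw [← (emb_injective H).eq_iff, ← cj_emb, emb_bi_downSet hP hCH, emb_bi_downSet hP hCH] at hxe
      rw [← hxe, ← hnconj _ hx' _ (fun h _ => invOn_iff.1 hinv h (Subgroup.mem_top h)), ← cj_mul,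
        heB]
  · refine ExistsUnique.unique (existsUnique_block (G := H) hM (e := downSet hP e)
      ⟨hPp.comap_subtype, isPBlock_downSet hP hCH he⟩) ?_ hc
    exact (pair_down_iff hM hP hCH hPp hc' he).2 (by rw [← heq]; exact heB)

/-- **The first main theorem**, upwards. -/
theorem firstMain_up [Fact p.Prime] (hM : IsPModular p M) {H P : Subgroup G} [Fintype H]
    (hN : Subgroup.normalizer (P : Set G) ≤ H) (hPp : IsPGroup p P)
    {c : Set (IrrCharacter H)} (hc : IsPBlock M c)
    (hD : IsDefectGroup p M c (P.subgroupOf H)) :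
    ∃ B : Set (IrrCharacter G), IsPBlock M B ∧ IsDefectGroup p M B P ∧
      br P (red M (blockElem B)) = br P (bi M H c) ∧
      ∀ B' : Set (IrrCharacter G), IsPBlock M B' →
        br P (red M (blockElem B')) = br P (bi M H c) → B' = B := by
  classical
  haveI := charP_res hM
  have hP : P ≤ H := Subgroup.le_normalizer.trans hN
  have hCH : C⟨P⟩ ≤ H := (Subgroup.centralizer_le_normalizer _).trans hN
  obtain ⟨e', hmax⟩ := exists_pair_of_defect (G := H) hM hc hD
  obtain ⟨e, he, rfl⟩ := exists_downSet hM hP hCH hmax.1.1.2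
  have hce := (pair_down_iff hM hP hCH hPp hc he).1 hmax.1
  have hno := (noExtension_down_iff (M := M) (p := p) hN hP e).1 (noExtension_of_maximal hM hmax)
  obtain ⟨B, hB, -⟩ := existsUnique_block hM (e := e) ⟨hPp, he⟩
  have hBD := isDefectGroup_of_noExtension hM hB hno
  obtain ⟨c', hc', -, hbr, huniq⟩ := firstMain_down hM hN hB.2.1 hBD
  obtain rfl : c = c' := by
    refine ExistsUnique.unique (existsUnique_block (G := H) hM (e := downSet hP e)
      ⟨hPp.comap_subtype, isPBlock_downSet hP hCH he⟩) hmax.1 ?_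
    refine (pair_down_iff hM hP hCH hPp hc' he).2 ?_
    rw [← hbr]; exact ((isBrauerPairOf_iff_br hM B P e).1 hB).2.2
  refine ⟨B, hB.2.1, hBD, hbr, fun B' hB' heq => ?_⟩
  refine ExistsUnique.unique (existsUnique_block hM (e := e) ⟨hPp, he⟩) ?_ hB
  exact (isBrauerPairOf_iff_br hM B' P e).2 ⟨⟨hPp, he⟩, hB', by rw [heq]; exact hce⟩

/-- Congruence on the centraliser is equality of Brauer images. -/
theorem br_eq_iff_congr (hM : IsPModular p M) {H P : Subgroup G} [Fintype H]
    {B : Set (IrrCharacter G)} (hB : IsPBlock M B) {c : Set (IrrCharacter H)}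
    (hc : IsPBlock M c) :
    br P (red M (blockElem B)) = br P (bi M H c) ↔
      ∀ x : G, x ∈ C⟨P⟩ → MemLocalIdeal M (blockCoeff B x - subgroupBlockCoeff H c x) := by
  have key : ∀ x : G, MemLocalIdeal M (blockCoeff B x - subgroupBlockCoeff H c x) ↔
      fn (red M (blockElem B)) x = fn (bi M H c) x := fun x => by
    have h1 := isAlgebraic_bx (H := H) c x
    rw [fn_bx] at h1
    rw [memLocalIdeal_iff_small hM (isAlgebraic_sub (isAlgebraic_blockCoeff B x) h1), bi, fn_ofFn,
      fn_red, fn_blockElem, res_eq_iff (blockCoeff_mem_place hM hB x)]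
    have h2 := integral_bx hM hc x
    rwa [fn_bx] at h2
  constructor
  · intro h x hx
    have := congrArg (fun w => fn w x) h
    rw [key]
    simpa only [br, fn_trunc_mem _ hx] using this
  · intro h
    refine fn_ext fun x => ?_
    by_cases hx : x ∈ C⟨P⟩
    · rw [br, br, fn_trunc_mem _ hx, fn_trunc_mem _ hx]; exact (key x).1 (h x hx)
    · rw [br, br, fn_trunc_not_mem _ hx, fn_trunc_not_mem _ hx]

/-- Induction read through a pair: a block of a subgroup with a Brauer image. -/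
theorem isInducedBlock_of_pair [Fact p.Prime] (hM : IsPModular p M) {H Q : Subgroup G} [Fintype H]
    (hQH : Q ≤ H) (hCH : C⟨Q⟩ ≤ H) {b : Set (IrrCharacter H)} (hb : IsPBlock M b)
    {f : Set (IrrCharacter C⟨Q⟩)}
    (hbr : br Q (bi M H b) * bi M C⟨Q⟩ f = bi M C⟨Q⟩ f)
    {B : Set (IrrCharacter G)} (hf : IsBrauerPairOf p M B Q f) : IsInducedBlock M H b B := by
  classical
  letI := Fintype.ofFinite C⟨Q⟩
  obtain ⟨θ, hθ⟩ := IsPBlock.nonempty hM hb
  obtain ⟨ξ, hξ⟩ := IsPBlock.nonempty hM hf.1.2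
  obtain ⟨χ, hχ⟩ := IsPBlock.nonempty hM hf.2.1
  refine (isInducedBlock_iff hM H hb hf.2.1 hθ hχ).2 fun g => ?_
  rw [inducedCentralChar_eq_omega, res_omega_block_eq hM hf.1.1 hQH hCH hb hf.1.2 hbr
    ((isCentralFn_cls g).resElem H) ((integral_cls g).resElem H) hθ hξ]
  rw [show resElem C⟨Q⟩ (extElem H (resElem H (cls ℂ g))) = resElem C⟨Q⟩ (cls ℂ g) from
    fn_ext fun c => by rw [fn_resElem, fn_resElem, fn_extElem_mem H _ (hCH c.2), fn_resElem],
    ← inducedCentralChar_eq_omega]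
  exact (isInducedBlock_iff hM C⟨Q⟩ hf.1.2 hf.2.1 hξ hχ).1
    ((isBrauerPairOf_iff hM B Q f).1 hf).2 g

/-- Conversely, induction sends pairs of the subgroup to pairs of the induced block. -/
theorem pair_of_isInducedBlock [Fact p.Prime] (hM : IsPModular p M) {H Q : Subgroup G} [Fintype H]
    (hQH : Q ≤ H) (hCH : C⟨Q⟩ ≤ H) {b : Set (IrrCharacter H)} (hb : IsPBlock M b)
    {f : Set (IrrCharacter C⟨Q⟩)} (hf : IsBrauerPair p M Q f)
    (hbr : br Q (bi M H b) * bi M C⟨Q⟩ f = bi M C⟨Q⟩ f)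
    {B : Set (IrrCharacter G)} (hind : IsInducedBlock M H b B) : IsBrauerPairOf p M B Q f := by
  obtain ⟨B', hB', -⟩ := existsUnique_block hM hf
  rwa [IsInducedBlock.unique hM hind (isInducedBlock_of_pair hM hQH hCH hb hbr hB')]

end Cfsg.Lib.Blocks
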