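import Mathlib
import Cfsg.Prelude.Def_BlockFusion
import Cfsg.Agent.Blocks.FirstMain

/-!
# Defect groups of the blocks of centralisers below a maximal pair
-/

set_option autoImplicit false
set_option linter.unusedSectionVars false

namespace Cfsg.Lib.Blocks

open Cfsg.Lib.Chars

universe u

variable {G : Type u} [Group G] [Fintype G] {M : Ideal AlgInt} {p : ℕ}

local notation "C⟨" P "⟩" => Subgroup.centralizer (SetLike.coe P)

/-- The stabiliser of an element of the group algebra. -/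
noncomputable def stabElem {R : Type*} [CommRing R] (a : MonoidAlgebra R G) : Subgroup G where
  carrier := {x | cj x a = a}
  mul_mem' {x y} hx hy := by
    show cj (x * y) a = a
    rw [← cj_cj, show cj y a = a from hy, show cj x a = a from hx]
  one_mem' := cj_one a
  inv_mem' {x} hx := by
    show cj x⁻¹ a = a
    conv_lhs => rw [← show cj x a = a from hx]
    rw [cj_cj, inv_mul_cancel, cj_one]

lemma mem_stabElem {R : Type*} [CommRing R] {a : MonoidAlgebra R G} {x : G} :
    x ∈ stabElem a ↔ cj x a = a := Iff.rfl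

/-- A `p`-subgroup with nonzero Brauer image lies in a defect group. -/
theorem exists_defect_ge_of_br [Fact p.Prime] (hM : IsPModular p M) {H : Subgroup G} [Fintype H]
    {b : Set (IrrCharacter H)} (hb : IsPBlock M b) {R : Subgroup G} (hR : IsPGroup p R)
    (hRH : R ≤ H) (hne : br R (bi M H b) ≠ 0) :
    ∃ D : Subgroup H, IsDefectGroup p M b D ∧ R.subgroupOf H ≤ D := by
  classical
  rw [← emb_red_blockElem, ← emb_br H R hRH, ← emb_zero H, (emb_injective H).ne_iff] at hne
  obtain ⟨c, hc, hns⟩ : ∃ c, c ∈ Subgroup.centralizer ((R.subgroupOf H : Subgroup H) : Set H) ∧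
      ¬ Small M (blockCoeff b c) := by
    by_contra hno
    push Not at hno
    refine hne (fn_ext fun g => ?_)
    by_cases hg : g ∈ Subgroup.centralizer ((R.subgroupOf H : Subgroup H) : Set H)
    · rw [br, fn_trunc_mem _ hg, fn_red, fn_zero, res_eq_zero_iff (integral_blockElem hM hb g),
        fn_blockElem]
      exact hno g hg
    · rw [br, fn_trunc_not_mem _ hg, fn_zero]
  obtain ⟨D₀, hD₀⟩ := exists_defectGroup hM hb
  obtain ⟨x, hx⟩ := exists_le_conj_defectGroup hM hb hD₀
    (hR.comap_subtype (K := H)) hc hns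
  exact ⟨_, IsDefectGroup.conj hM hb hD₀ x, hx⟩

/-- A defect group has nonzero Brauer image. -/
theorem br_defect_ne_zero (hM : IsPModular p M) {H : Subgroup G} [Fintype H]
    {b : Set (IrrCharacter H)} (hb : IsPBlock M b) {D : Subgroup H}
    (hD : IsDefectGroup p M b D) : br (D.map H.subtype) (bi M H b) ≠ 0 := by
  classical
  obtain ⟨g, hg, S, rfl⟩ := hD
  have hsub : ((centSyl S).map H.subtype).subgroupOf H = centSyl S :=
    Subgroup.comap_map_eq_self_of_injective H.subtype_injective _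
  rw [← emb_red_blockElem, ← emb_br H _ (Subgroup.map_subtype_le _), ← emb_zero H,
    (emb_injective H).ne_iff, hsub]
  intro h0
  refine ((isDefectClass_iff hM hb g).1 hg).1 ?_
  have h := congrArg (fun w => fn w g) h0
  simp only [fn_zero] at h
  rwa [br, fn_trunc_mem _ (mem_centralizer_centSyl S), fn_red,
    res_eq_zero_iff (integral_blockElem hM hb g), fn_blockElem] at h

/-- Conjugating a defect group of a block of a subgroup. -/
theorem isDefectGroup_conjSet [Fact p.Prime] {H H' : Subgroup G} {x : G} (h : IsConjSub H H' x)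
    {f : Set (IrrCharacter H)} {D : Subgroup H} (hD : IsDefectGroup p M f D) :
    IsDefectGroup p M (conjSet H H' x f)
      (((D.map H.subtype).map (MulAut.conj x).toMonoidHom).subgroupOf H') := by
  have key : ((D.map H.subtype).map (MulAut.conj x).toMonoidHom).subgroupOf H' =
      D.map (conjSubEquiv h).symm.toMonoidHom := by
    ext c
    constructor
    · rintro ⟨_, ⟨d, hd, rfl⟩, hdc⟩
      exact ⟨d, hd, Subtype.ext hdc⟩
    · rintro ⟨d, hd, rfl⟩
      exact ⟨(d : G), ⟨d, hd, rfl⟩, rfl⟩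
  rw [key]
  exact IsDefectGroup.conjSet h hD

/-- Pairs below the same pair on nested subgroups are included normally. -/
theorem normalSubpair_of_le [Fact p.Prime] (hM : IsPModular p M) {P Q R : Subgroup G}
    {e : Set (IrrCharacter C⟨P⟩)} {f : Set (IrrCharacter C⟨Q⟩)} {g : Set (IrrCharacter C⟨R⟩)}
    (hPe : IsBrauerPair p M P e) (hf : SubpairLE p M Q f P e) (hg : SubpairLE p M R g P e)
    (hQR : Q ≤ R) (hRN : R ≤ Subgroup.normalizer (Q : Set G)) :
    IsNormalSubpair p M Q f R g := by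
  obtain ⟨f', hf', -⟩ := existsUnique_normalSubpair hM (subpairLE_isBrauerPair hPe hg) hQR hRN
  obtain rfl : f = f' := ExistsUnique.unique
    (existsUnique_subpairLE hM hPe ((subpairLE_le hf))) hf
    (Relation.ReflTransGen.head (show NormalSubpairRel p M ⟨Q, f'⟩ ⟨R, g⟩ from hf') hg)
  exact hf'

/-- The Brauer image at a subgroup of the pair's stabiliser inside the maximal subgroup is nonzero. -/
theorem br_ne_zero_of_le [Fact p.Prime] (hM : IsPModular p M) {P Q R : Subgroup G}
    {e : Set (IrrCharacter C⟨P⟩)} {f : Set (IrrCharacter C⟨Q⟩)}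
    (hPe : IsBrauerPair p M P e) (hf : SubpairLE p M Q f P e) (hRP : R ≤ P)
    (hRN : R ≤ Subgroup.normalizer (Q : Set G)) :
    br R (bi M C⟨Q⟩ f) ≠ 0 ∧ ∀ x ∈ R, cj x (bi M C⟨Q⟩ f) = bi M C⟨Q⟩ f := by
  classical
  have hS : Q ⊔ R ≤ P := sup_le (subpairLE_le hf) hRP
  obtain ⟨g, hg, -⟩ := existsUnique_subpairLE hM hPe hS
  obtain ⟨-, hgb, -, -, hfix, hbr⟩ := (isNormalSubpair_iff hM _ _ _ _).1
    (normalSubpair_of_le hM hPe hf hg le_sup_left (sup_le Subgroup.le_normalizer hRN))
  refine ⟨fun h0 => ?_, fun x hx => hfix x (Subgroup.mem_sup_right hx)⟩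
  letI := Fintype.ofFinite C⟨Q ⊔ R⟩
  refine bi_ne_zero hM hgb.2 ?_
  rw [← hbr, ← br_br (le_sup_right : R ≤ Q ⊔ R), h0, br_zero, zero_mul]

/-- The centraliser part of the maximal subgroup lies in a defect group. -/
theorem exists_defect_ge [Fact p.Prime] (hM : IsPModular p M) {P Q : Subgroup G}
    {e : Set (IrrCharacter C⟨P⟩)} {f : Set (IrrCharacter C⟨Q⟩)}
    (hPe : IsBrauerPair p M P e) (hf : SubpairLE p M Q f P e) :
    ∃ D : Subgroup C⟨Q⟩, IsDefectGroup p M f D ∧ (P ⊓ C⟨Q⟩).subgroupOf C⟨Q⟩ ≤ D := by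
  classical
  letI := Fintype.ofFinite C⟨Q⟩
  exact exists_defect_ge_of_br hM (subpairLE_isBrauerPair hPe hf).2
    (hPe.1.to_le inf_le_left) inf_le_right
    (br_ne_zero_of_le hM hPe hf inf_le_left
      (inf_le_right.trans (Subgroup.centralizer_le_normalizer _))).1

/-- Moving a pair so that a stabilising subgroup with nonzero Brauer image lands in the maximal
subgroup. -/
theorem exists_conj_extension [Fact p.Prime] (hM : IsPModular p M) {B : Set (IrrCharacter G)}
    {P Q R : Subgroup G} {e : Set (IrrCharacter C⟨P⟩)} {f : Set (IrrCharacter C⟨Q⟩)}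
    (hmax : IsMaximalBrauerPair p M B P e) (hf : IsBrauerPairOf p M B Q f) (hR : IsPGroup p R)
    (hQR : Q ≤ R) (hRN : R ≤ Subgroup.normalizer (Q : Set G))
    (hfix : ∀ x ∈ R, cj x (bi M C⟨Q⟩ f) = bi M C⟨Q⟩ f) (hne : br R (bi M C⟨Q⟩ f) ≠ 0) :
    ∃ x : G, SubpairLE p M (Q.map (MulAut.conj x).toMonoidHom) (conjBlock Q x f) P e ∧
      R.map (MulAut.conj x).toMonoidHom ≤ P := by
  obtain ⟨g, hg⟩ := exists_extension hM hf.1.2 hf.1.1 hR hQR hRN hfix hne
  obtain ⟨x, hx⟩ := exists_conj_subpairLE hM hmax ((isBrauerPairOf_congr_normal hM hg B).2 hf)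
  exact ⟨x, SubpairLE.trans' (subpairLE_conj hM (Relation.ReflTransGen.single hg) x) hx,
    subpairLE_le hx⟩

lemma map_inf_conj (Q : Subgroup G) (x : G) :
    C⟨Q⟩.map (MulAut.conj x).toMonoidHom =
      C⟨Q.map (MulAut.conj x).toMonoidHom⟩ := by
  ext g
  rw [isConjSub_centralizer Q x g]
  constructor
  · rintro ⟨y, hy, rfl⟩
    simpa [mul_assoc] using hy
  · intro h
    exact ⟨_, h, by simp [mul_assoc]⟩

lemma isBrauerPairOf_of_le [Fact p.Prime] (hM : IsPModular p M) {B : Set (IrrCharacter G)}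
    {P Q : Subgroup G} {e : Set (IrrCharacter C⟨P⟩)} {f : Set (IrrCharacter C⟨Q⟩)}
    (hmax : IsMaximalBrauerPair p M B P e) (hf : SubpairLE p M Q f P e) :
    IsBrauerPairOf p M B Q f := (isBrauerPairOf_congr hM hf B).1 hmax.1

/-- After conjugation the centraliser part of the maximal subgroup is a defect group. -/
theorem exists_conj_defect [Fact p.Prime] (hM : IsPModular p M) {B : Set (IrrCharacter G)}
    {P Q : Subgroup G} {e : Set (IrrCharacter C⟨P⟩)} {f : Set (IrrCharacter C⟨Q⟩)}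
    (hmax : IsMaximalBrauerPair p M B P e) (hf : IsBrauerPairOf p M B Q f) {D : Subgroup C⟨Q⟩}
    (hD : IsDefectGroup p M f D) :
    ∃ x : G, SubpairLE p M (Q.map (MulAut.conj x).toMonoidHom) (conjBlock Q x f) P e ∧
      (D.map (Subgroup.subtype C⟨Q⟩)).map (MulAut.conj x).toMonoidHom =
        P ⊓ C⟨Q.map (MulAut.conj x).toMonoidHom⟩ := by
  classical
  letI := Fintype.ofFinite C⟨Q⟩
  set D' : Subgroup G := D.map (Subgroup.subtype C⟨Q⟩) with hD'
  have hD'C : D' ≤ C⟨Q⟩ := Subgroup.map_subtype_le D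
  have hD'N : D' ≤ Subgroup.normalizer (Q : Set G) :=
    hD'C.trans (Subgroup.centralizer_le_normalizer _)
  have hRp : IsPGroup p (Q ⊔ D' : Subgroup G) :=
    hf.1.1.to_sup_of_normal_left' ((IsDefectGroup.isPGroup hD).map _) hD'N
  have hstab : Q ⊔ D' ≤ stabElem (bi M C⟨Q⟩ f) := sup_le
    (fun y hy => cj_eq_self_of_suppOn (suppOn_bi f) hy)
    (fun y hy => invOn_iff.1 (invOn_bi f) y (hD'C hy))
  have hne : br (Q ⊔ D') (bi M C⟨Q⟩ f) ≠ 0 := by
    intro h0
    refine br_defect_ne_zero hM hf.1.2 hD (fn_ext fun g => ?_)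
    rw [fn_zero, br]
    by_cases hg : g ∈ C⟨D'⟩
    · rw [fn_trunc_mem _ hg]
      by_cases hgQ : g ∈ C⟨Q⟩
      · have hgS : g ∈ C⟨Q ⊔ D'⟩ := by
          refine le_centralizer_iff_mem.1 (sup_le ?_ ?_)
          · exact le_centralizer_iff_mem.2 hgQ
          · exact le_centralizer_iff_mem.2 hg
        have h := congrArg (fun w => fn w g) h0
        simp only [fn_zero] at h
        rwa [br, fn_trunc_mem _ hgS] at h
      · exact suppOn_bi f g hgQ
    · rw [fn_trunc_not_mem _ hg]
  obtain ⟨x, hx, hRx⟩ := exists_conj_extension hM hmax hf hRp le_sup_left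
    (sup_le Subgroup.le_normalizer hD'N) (fun y hy => hstab hy) hne
  refine ⟨x, hx, Subgroup.eq_of_le_of_card_ge (le_inf
    ((Subgroup.map_mono le_sup_right).trans hRx) ?_) ?_⟩
  · rw [← map_inf_conj]; exact Subgroup.map_mono hD'C
  · obtain ⟨E, hE, hEle⟩ := exists_defect_ge hM hmax.1.1 hx
    have hE2 := isDefectGroup_conjSet (isConjSub_centralizer Q x) hD
    rw [← conjBlock_eq] at hE2
    have h1 : Nat.card (P ⊓ C⟨Q.map (MulAut.conj x).toMonoidHom⟩ : Subgroup G) ≤ Nat.card E := by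
      rw [← Nat.card_congr (Subgroup.subgroupOfEquivOfLe
        (inf_le_right (a := P) (b := C⟨Q.map (MulAut.conj x).toMonoidHom⟩))).toEquiv]
      exact Subgroup.card_le_of_le hEle
    rw [IsDefectGroup.card_eq hM (isPBlock_conjBlock Q x hf.1.2) hE hE2] at h1
    refine h1.trans (le_of_eq ?_)
    refine Nat.card_congr (Subgroup.subgroupOfEquivOfLe ?_).toEquiv
    rw [← map_inf_conj]; exact Subgroup.map_mono hD'C

/-! ### Stabilisers -/

/-- The stabiliser of a pair, as a predicate. -/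
def IsPairStab (Q : Subgroup G) (f : Set (IrrCharacter C⟨Q⟩)) (T : Subgroup G) : Prop :=
  ∀ y : G, y ∈ T ↔ y ∈ Subgroup.normalizer (Q : Set G) ∧ StabilizesBlock C⟨Q⟩ f y

lemma stabilizes_iff_of_normalizer (hM : IsPModular p M) {Q : Subgroup G}
    {f : Set (IrrCharacter C⟨Q⟩)} (hf : IsPBlock M f) {y : G}
    (hy : y ∈ Subgroup.normalizer (Q : Set G)) :
    StabilizesBlock C⟨Q⟩ f y ↔ cj y (bi M C⟨Q⟩ f) = bi M C⟨Q⟩ f := by
  rw [stabilizesBlock_iff hM hf, and_iff_right (centralizer_le_normalizer_centralizer hy le_rfl)]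

lemma isPairStab_iff (hM : IsPModular p M) {Q : Subgroup G} {f : Set (IrrCharacter C⟨Q⟩)}
    (hf : IsPBlock M f) {T : Subgroup G} :
    IsPairStab Q f T ↔
      T = Subgroup.normalizer (Q : Set G) ⊓ stabElem (bi M C⟨Q⟩ f) := by
  constructor
  · intro h
    ext y
    rw [h y, Subgroup.mem_inf, mem_stabElem]
    exact and_congr_right fun hy => stabilizes_iff_of_normalizer hM hf hy
  · rintro rfl y
    rw [Subgroup.mem_inf, mem_stabElem]
    exact and_congr_right fun hy => (stabilizes_iff_of_normalizer hM hf hy).symm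

lemma IsPairStab.le_normalizer {Q : Subgroup G} {f : Set (IrrCharacter C⟨Q⟩)} {T : Subgroup G}
    (h : IsPairStab Q f T) : T ≤ Subgroup.normalizer (Q : Set G) := fun y hy => ((h y).1 hy).1

lemma IsPairStab.self_le (hM : IsPModular p M) {Q : Subgroup G} {f : Set (IrrCharacter C⟨Q⟩)}
    (hf : IsPBlock M f) {T : Subgroup G} (h : IsPairStab Q f T) : Q ≤ T ∧ C⟨Q⟩ ≤ T := by
  rw [(isPairStab_iff hM hf).1 h]
  exact ⟨le_inf Subgroup.le_normalizer fun y hy => cj_eq_self_of_suppOn (suppOn_bi f) hy,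
    le_inf (Subgroup.centralizer_le_normalizer _) fun y hy => invOn_iff.1 (invOn_bi f) y hy⟩

/-- The block of the stabiliser. -/
theorem IsPairStab.exists_block [Fact p.Prime] (hM : IsPModular p M) {Q T : Subgroup G}
    {f : Set (IrrCharacter C⟨Q⟩)} (hf : IsBrauerPair p M Q f) (h : IsPairStab Q f T) :
    ∃ F : Set (IrrCharacter T), IsPBlock M F ∧ bx T F = bx C⟨Q⟩ f ∧ bi M T F = bi M C⟨Q⟩ f ∧
      ∀ t : T, blockCoeff F t = subgroupBlockCoeff C⟨Q⟩ f (t : G) := by
  obtain ⟨F, hF, hFe⟩ := exists_block_stabilizer hM hf.1 (h.self_le hM hf.2).1 h.le_normalizer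
    (h.self_le hM hf.2).2 hf.2 fun y hy => ((h y).1 hy).2
  refine ⟨F, hF, hFe, by rw [← red_bx, hFe, red_bx], fun t => ?_⟩
  have h1 := congrArg (fun a => fn a (t : G)) hFe
  simp only [fn_bx] at h1
  rw [← h1, subgroupBlockCoeff, dif_pos t.2]

/-- The stabiliser of a conjugate pair is the conjugate of the stabiliser. -/
theorem isConjSub_pairStab (hM : IsPModular p M) {Q T T' : Subgroup G} {x : G}
    {f : Set (IrrCharacter C⟨Q⟩)} (hf : IsPBlock M f) (hT : IsPairStab Q f T)
    (hT' : IsPairStab (Q.map (MulAut.conj x).toMonoidHom) (conjBlock Q x f) T') :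
    IsConjSub T T' x := by
  intro g
  have hN : g ∈ Subgroup.normalizer ((Q.map (MulAut.conj x).toMonoidHom : Subgroup G) : Set G) ↔
      x⁻¹ * g * x ∈ Subgroup.normalizer (Q : Set G) := by
    constructor
    · intro h
      refine Subgroup.mem_normalizer_iff.2 fun y => ?_
      have h1 := Subgroup.mem_normalizer_iff.1 h (x * y * x⁻¹)
      constructor
      · intro hy
        obtain ⟨z, hz, hzy⟩ := h1.1 ⟨y, hy, rfl⟩
        have : z = x⁻¹ * g * x * y * (x⁻¹ * g * x)⁻¹ := by
          simp only [MulEquiv.coe_toMonoidHom, MulAut.conj_apply] at hzy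
          calc z = x⁻¹ * (x * z * x⁻¹) * x := by group
            _ = _ := by rw [hzy]; group
        exact this ▸ hz
      · intro hy
        obtain ⟨z, hz, hzy⟩ := h1.2 ⟨_, hy, by simp [mul_assoc]⟩
        exact (MulAut.conj x).injective hzy ▸ hz
    · intro h
      have h2 : x * (x⁻¹ * g * x) * x⁻¹ ∈
          (Subgroup.normalizer (Q : Set G)).map (MulAut.conj x).toMonoidHom := ⟨_, h, rfl⟩
      rw [show x * (x⁻¹ * g * x) * x⁻¹ = g by group] at h2
      exact Subgroup.le_normalizer_map _ h2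
  rw [(isPairStab_iff hM (isPBlock_conjBlock Q x hf)).1 hT',
    (isPairStab_iff hM hf).1 hT, Subgroup.mem_inf, Subgroup.mem_inf, hN, mem_stabElem,
    mem_stabElem, bi_conjBlock, cj_cj]
  refine and_congr_right fun _ => ?_
  conv_lhs => rw [← (cj_injective x⁻¹).eq_iff, cj_cj, cj_cj, inv_mul_cancel, cj_one,
    show x⁻¹ * (g * x) = x⁻¹ * g * x by group]

/-- The coefficient function determines the block of the stabiliser. -/
theorem eq_of_blockCoeff_eq (hM : IsPModular p M) {T : Subgroup G} {F F' : Set (IrrCharacter T)}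
    (hF : IsPBlock M F) (hF' : IsPBlock M F') (h : ∀ t : T, blockCoeff F t = blockCoeff F' t) :
    F = F' := by
  classical
  letI := Fintype.ofFinite T
  refine bi_injective hM hF hF' (fn_ext fun g => ?_)
  by_cases hg : g ∈ T
  · rw [bi, bi, fn_ofFn, fn_ofFn, subgroupBlockCoeff, subgroupBlockCoeff, dif_pos hg, dif_pos hg, h]
  · rw [suppOn_bi F g hg, suppOn_bi F' g hg]

/-- The normaliser part of the maximal subgroup lies in a defect group of the stabiliser's block. -/
theorem exists_defect_stab_ge [Fact p.Prime] (hM : IsPModular p M) {P Q T : Subgroup G}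
    {e : Set (IrrCharacter C⟨P⟩)} {f : Set (IrrCharacter C⟨Q⟩)}
    (hPe : IsBrauerPair p M P e) (hf : SubpairLE p M Q f P e) (hT : IsPairStab Q f T)
    {F : Set (IrrCharacter T)} (hF : IsPBlock M F) (hFb : bi M T F = bi M C⟨Q⟩ f) :
    P ⊓ Subgroup.normalizer (Q : Set G) ≤ T ∧ ∃ D : Subgroup T, IsDefectGroup p M F D ∧
      (P ⊓ Subgroup.normalizer (Q : Set G)).subgroupOf T ≤ D := by
  classical
  letI := Fintype.ofFinite T
  obtain ⟨hne, hfix⟩ := br_ne_zero_of_le hM hPe hf
    (inf_le_left (a := P) (b := Subgroup.normalizer (Q : Set G))) inf_le_right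
  have hle : P ⊓ Subgroup.normalizer (Q : Set G) ≤ T := by
    rw [(isPairStab_iff hM (subpairLE_isBrauerPair hPe hf).2).1 hT]
    exact le_inf inf_le_right fun y hy => hfix y hy
  exact ⟨hle, exists_defect_ge_of_br hM hF (hPe.1.to_le inf_le_left) hle (by rw [hFb]; exact hne)⟩

lemma subgroupOf_map_self {T : Subgroup G} (D : Subgroup T) :
    (D.map T.subtype).subgroupOf T = D :=
  Subgroup.comap_map_eq_self_of_injective T.subtype_injective D

/-- The stabilised subgroup lies in every defect group of its stabiliser's block. -/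
theorem self_le_defect_stab [Fact p.Prime] (hM : IsPModular p M) {Q T : Subgroup G}
    (hQ : IsPGroup p Q) (hQT : Q ≤ T) (hTN : T ≤ Subgroup.normalizer (Q : Set G))
    {F : Set (IrrCharacter T)} (hF : IsPBlock M F) {D : Subgroup T}
    (hD : IsDefectGroup p M F D) : Q ≤ D.map T.subtype := by
  classical
  letI := Fintype.ofFinite T
  haveI : (Q.subgroupOf T).Normal := ⟨fun y hy t =>
    (Subgroup.mem_normalizer_iff.1 (hTN t.2) (y : G)).1 hy⟩
  obtain ⟨g, hg, S, rfl⟩ := hD
  have hgB := ((isDefectClass_iff hM hF g).1 hg).1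
  have hgC : g ∈ Subgroup.centralizer ((Q.subgroupOf T : Subgroup T) : Set T) :=
    by_contra fun h => hgB (by
      rw [blockCoeff_eq_zero_of_not_mem_centralizer (P := Q.subgroupOf T) hM hQ.comap_subtype hF h]
      exact small_zero)
  obtain ⟨S', hS'⟩ := exists_sylow_ge (hQ.comap_subtype (K := T)) (le_centralizer_iff_mem.2 hgC)
  obtain ⟨c, hc⟩ := MulAction.exists_smul_eq (Subgroup.centralizer ({g} : Set T)) S' S
  subst hc
  intro y hy
  refine ⟨⟨y, hQT hy⟩, ?_, rfl⟩
  obtain ⟨z, hz, hzy⟩ := hS' (show (c : T)⁻¹ * ⟨y, hQT hy⟩ * (c : T) ∈ Q.subgroupOf T from by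
    simpa using (show (Q.subgroupOf T).Normal by infer_instance).conj_mem ⟨y, hQT hy⟩ hy (c : T)⁻¹)
  refine ⟨c * z * c⁻¹, ?_, ?_⟩
  · rw [Sylow.coe_subgroup_smul]
    exact ⟨z, hz, rfl⟩
  · rw [map_mul, map_mul, map_inv, hzy]
    show (c : T) * ((c : T)⁻¹ * _ * (c : T)) * (c : T)⁻¹ = _
    group

/-- After conjugation the normaliser part is a defect group of the stabiliser's block. -/
theorem exists_conj_defect_stab [Fact p.Prime] (hM : IsPModular p M) {B : Set (IrrCharacter G)}
    {P Q T : Subgroup G} {e : Set (IrrCharacter C⟨P⟩)} {f : Set (IrrCharacter C⟨Q⟩)}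
    (hmax : IsMaximalBrauerPair p M B P e) (hf : IsBrauerPairOf p M B Q f)
    (hT : IsPairStab Q f T) {F : Set (IrrCharacter T)} (hF : IsPBlock M F)
    (hFb : bi M T F = bi M C⟨Q⟩ f) {D : Subgroup T} (hD : IsDefectGroup p M F D) :
    ∃ x : G, SubpairLE p M (Q.map (MulAut.conj x).toMonoidHom) (conjBlock Q x f) P e ∧
      (D.map T.subtype).map (MulAut.conj x).toMonoidHom =
        P ⊓ Subgroup.normalizer ((Q.map (MulAut.conj x).toMonoidHom : Subgroup G) : Set G) ∧
      ∀ T' : Subgroup G, IsPairStab (Q.map (MulAut.conj x).toMonoidHom) (conjBlock Q x f) T' →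
        ∃ F' : Set (IrrCharacter T'), IsPBlock M F' ∧
          (∀ t : T', blockCoeff F' t = subgroupBlockCoeff
            C⟨Q.map (MulAut.conj x).toMonoidHom⟩ (conjBlock Q x f) (t : G)) ∧
          IsDefectGroup p M F' ((P ⊓ Subgroup.normalizer
            ((Q.map (MulAut.conj x).toMonoidHom : Subgroup G) : Set G)).subgroupOf T') := by
  classical
  letI := Fintype.ofFinite T
  set D' : Subgroup G := D.map T.subtype with hD'
  have hD'T : D' ≤ T := Subgroup.map_subtype_le D
  have hQD : Q ≤ D' := self_le_defect_stab hM hf.1.1 (hT.self_le hM hf.1.2).1 hT.le_normalizer hF hD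
  obtain ⟨x, hx, hDx⟩ := exists_conj_extension hM hmax hf ((IsDefectGroup.isPGroup hD).map _) hQD
    (hD'T.trans hT.le_normalizer)
    (fun y hy => (stabilizes_iff_of_normalizer hM hf.1.2 (hT.le_normalizer (hD'T hy))).1
      ((hT y).1 (hD'T hy)).2)
    (by rw [← hFb]; exact br_defect_ne_zero hM hF hD)
  have hle : D'.map (MulAut.conj x).toMonoidHom ≤ P ⊓ Subgroup.normalizer
      ((Q.map (MulAut.conj x).toMonoidHom : Subgroup G) : Set G) :=
    le_inf hDx ((Subgroup.map_mono (hD'T.trans hT.le_normalizer)).trans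
      (Subgroup.le_normalizer_map _))
  have htrans : ∀ T' : Subgroup G,
      IsPairStab (Q.map (MulAut.conj x).toMonoidHom) (conjBlock Q x f) T' → IsConjSub T T' x :=
    fun T' hT' => isConjSub_pairStab hM hf.1.2 hT hT'
  set T₁ := Subgroup.normalizer ((Q.map (MulAut.conj x).toMonoidHom : Subgroup G) : Set G) ⊓
    stabElem (bi M _ (conjBlock Q x f)) with hT₁
  have hF' : ∀ T' : Subgroup G,
      IsPairStab (Q.map (MulAut.conj x).toMonoidHom) (conjBlock Q x f) T' →
      bi M T' (conjSet T T' x F) = bi M _ (conjBlock Q x f) := fun T' hT' => by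
    rw [bi_conjSet (htrans T' hT'), hFb, bi_conjBlock]
  have heq : D'.map (MulAut.conj x).toMonoidHom =
      P ⊓ Subgroup.normalizer ((Q.map (MulAut.conj x).toMonoidHom : Subgroup G) : Set G) := by
    refine Subgroup.eq_of_le_of_card_ge hle ?_
    have hst : IsPairStab (Q.map (MulAut.conj x).toMonoidHom) (conjBlock Q x f) T₁ :=
      (isPairStab_iff hM (isPBlock_conjBlock Q x hf.1.2)).2 rfl
    have hb := IsPBlock.conjSet (htrans T₁ hst) hF
    obtain ⟨hPT, E, hE, hEle⟩ := exists_defect_stab_ge hM hmax.1.1 hx hst hb (hF' T₁ hst)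
    have hE2 := isDefectGroup_conjSet (htrans T₁ hst) hD
    rw [← Nat.card_congr (Subgroup.subgroupOfEquivOfLe hPT).toEquiv]
    refine (Subgroup.card_le_of_le hEle).trans ?_
    rw [IsDefectGroup.card_eq hM hb hE hE2]
    exact le_of_eq (Nat.card_congr (Subgroup.subgroupOfEquivOfLe (hle.trans hPT)).toEquiv)
  refine ⟨x, hx, heq, fun T' hT' => ?_⟩
  have hb := IsPBlock.conjSet (htrans T' hT') hF
  obtain ⟨F₀, hF₀, -, hF₀b, hF₀c⟩ := hT'.exists_block hM (IsBrauerPair.conjBlock hf.1 x)
  refine ⟨F₀, hF₀, hF₀c, ?_⟩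
  letI := Fintype.ofFinite T'
  rw [bi_injective hM hF₀ hb (hF₀b.trans (hF' T' hT').symm), ← heq]
  exact isDefectGroup_conjSet (htrans T' hT') hD

/-- A maximal pair is the defect pair of its stabiliser's block. -/
theorem defect_stab_eq [Fact p.Prime] (hM : IsPModular p M) {B : Set (IrrCharacter G)}
    {P T : Subgroup G} {e : Set (IrrCharacter C⟨P⟩)} (hmax : IsMaximalBrauerPair p M B P e)
    (hPT : P ≤ T) (hTN : T ≤ Subgroup.normalizer (P : Set G))
    (hfix : ∀ x ∈ T, cj x (bi M C⟨P⟩ e) = bi M C⟨P⟩ e) {F : Set (IrrCharacter T)}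
    (hF : IsPBlock M F) (hFb : bi M T F = bi M C⟨P⟩ e) {D : Subgroup T}
    (hD : IsDefectGroup p M F D) : D = P.subgroupOf T := by
  classical
  letI := Fintype.ofFinite T
  have hPD := self_le_defect_stab hM hmax.1.1.1 hPT hTN hF hD
  have heq : P = D.map T.subtype := by
    by_contra hne
    refine br_defect_ne_zero hM hF hD ?_
    rw [hFb]
    exact noExtension_of_maximal hM hmax _ ((IsDefectGroup.isPGroup hD).map _)
      (lt_of_le_of_ne hPD hne) ((Subgroup.map_subtype_le D).trans hTN)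
      (fun y hy => hfix y (Subgroup.map_subtype_le D hy))
  rw [heq, subgroupOf_map_self]

end Cfsg.Lib.Blocks
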