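import Mathlib
import Cfsg.Agent.Blocks.LocalDefect

/-!
# Conjugacy in the fusion system of a block
-/

set_option autoImplicit false
set_option linter.unusedSectionVars false

namespace Cfsg.Lib.Blocks

universe u

variable {G : Type u} [Group G] [Fintype G] {M : Ideal AlgInt} {p : ℕ}

local notation "C⟨" P "⟩" => Subgroup.centralizer (SetLike.coe P)

lemma range_conj_eq {Q : Subgroup G} {φ : Q →* G} {g : G}
    (h : ∀ u : Q, φ u = g * (u : G) * g⁻¹) : φ.range = Q.map (MulAut.conj g).toMonoidHom := by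
  ext y
  constructor
  · rintro ⟨u, rfl⟩; exact ⟨u, u.2, by rw [h]; simp⟩
  · rintro ⟨u, hu, rfl⟩; exact ⟨⟨u, hu⟩, by rw [h]; simp⟩

/-- Conjugacy in the fusion system of a block. -/
theorem blockFusion_isConj_iff [Fact p.Prime] (hM : IsPModular p M) {B : Set (IrrCharacter G)}
    {P Q : Subgroup G} {e : Set (IrrCharacter C⟨P⟩)} {F : FusionSystem P}
    (hF : IsBlockFusionSystemOn p M B P e F) {f : Set (IrrCharacter C⟨Q⟩)}
    (hle : SubpairLE p M Q f P e) (Q' : Subgroup G) :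
    F.IsConj Q Q' ↔ ∃ g : G, Q' = Q.map (MulAut.conj g).toMonoidHom ∧
      SubpairLE p M (Q.map (MulAut.conj g).toMonoidHom) (conjBlock Q g f) P e := by
  constructor
  · rintro ⟨φ, hφ, hr⟩
    obtain ⟨hQ, g, hg, -, f', hf', hgf'⟩ := (hF.2 Q φ).1 hφ
    obtain rfl : f' = f := ExistsUnique.unique (existsUnique_subpairLE hM hF.1.1.1 hQ) hf' hle
    exact ⟨g, by rw [← hr, range_conj_eq hg], hgf'⟩
  · rintro ⟨g, rfl, hg⟩
    refine ⟨Cfsg.conjHom Q g, (hF.2 Q _).2 ⟨subpairLE_le hle, g, fun u => rfl, subpairLE_le hg, f,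
      hle, hg⟩, range_conj_eq fun u => rfl⟩

end Cfsg.Lib.Blocks
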