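import Mathlib
import Cfsg.Agent.Blocks.BlockFusion
import Cfsg.Agent.Coprime.Sylow

/-!
# The inertial quotient of a maximal pair has order prime to `p`
-/

set_option autoImplicit false
set_option linter.unusedSectionVars false

namespace Cfsg.Lib.Blocks

open Cfsg.Lib.Chars

universe u

variable {G : Type u} [Group G] [Fintype G] {M : Ideal AlgInt} {p : ℕ}

local notation "C⟨" P "⟩" => Subgroup.centralizer (SetLike.coe P)

/-- The class sum has total weight equal to the class size. -/
lemma sum_fn_cls {H : Type u} [Group H] [Fintype H] (g : H) :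
    ∑ x, fn (cls ℂ g) x = ((Subgroup.centralizer ({g} : Set H)).index : ℂ) := by
  have h := omega_cls (fun _ : H => (1 : ℂ)) (fun _ _ => rfl) g
  simpa [omega, chiEval, centralChar] using h

/-- **The inertial quotient has order prime to `p`.** -/
theorem inertia_factorization [Fact p.Prime] (hM : IsPModular p M) {B : Set (IrrCharacter G)}
    {P T : Subgroup G} {e : Set (IrrCharacter C⟨P⟩)} (hmax : IsMaximalBrauerPair p M B P e)
    (hT : IsPairStab P e T) :
    (Nat.card T).factorization p = (Nat.card (C⟨P⟩ ⊔ P : Subgroup G)).factorization p := by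
  classical
  have he := hmax.1.1.2
  have hPp := hmax.1.1.1
  letI := Fintype.ofFinite T
  letI := Fintype.ofFinite C⟨P⟩
  letI : Fintype (ConjClasses C⟨P⟩) := Fintype.ofFinite _
  obtain ⟨hPT, hCT⟩ := hT.self_le hM he
  have hfix : ∀ x ∈ T, cj x (bi M C⟨P⟩ e) = bi M C⟨P⟩ e := fun x hx =>
    (stabilizes_iff_of_normalizer hM he (hT.le_normalizer hx)).1 ((hT x).1 hx).2
  obtain ⟨F, hF, -, hFb, -⟩ := hT.exists_block hM hmax.1.1
  have hdefect : ∀ D : Subgroup T, IsDefectGroup p M F D → D = P.subgroupOf T := fun D hD =>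
    defect_stab_eq hM hmax hPT hT.le_normalizer hfix hF hFb hD
  obtain ⟨g, hg⟩ := exists_defectClass hM hF
  have hsyl : ∀ S : Sylow p (Subgroup.centralizer ({g} : Set T)), centSyl S = P.subgroupOf T :=
    fun S => hdefect _ ⟨g, hg, S, rfl⟩
  have hgP : (g : G) ∈ C⟨P⟩ := by
    have h := mem_centralizer_centSyl (default : Sylow p (Subgroup.centralizer ({g} : Set T)))
    rw [hsyl] at h
    exact ((isSubOf_centralizer T P hPT g).1 h).1
  set t : C⟨P⟩ := ⟨(g : G), hgP⟩ with ht
  have hcs : ∀ x ∈ T, IsConjSub C⟨P⟩ C⟨P⟩ x := fun x hx =>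
    isConjSub_of_mem_normalizer (centralizer_le_normalizer_centralizer (hT.le_normalizer hx) le_rfl)
  obtain ⟨θ, hθ⟩ := IsPBlock.nonempty hM hF
  obtain ⟨ξ, hξ⟩ := IsPBlock.nonempty hM he
  set L : MonoidAlgebra ℂ C⟨P⟩ := resElem C⟨P⟩ (extElem T (cls ℂ g)) with hL
  have hLfn : ∀ c : C⟨P⟩, fn L c = if IsConj g ⟨(c : G), hCT c.2⟩ then 1 else 0 := fun c => by
    rw [hL, fn_resElem, fn_extElem_mem T _ (hCT c.2), fn_cls]
  have hLc : IsCentralFn L := fun a b => by
    rw [hLfn, hLfn]
    refine if_congr ?_ rfl rfl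
    have hab : IsConj (⟨(a : G), hCT a.2⟩ : T) ⟨((b * a * b⁻¹ : C⟨P⟩) : G), hCT (b * a * b⁻¹).2⟩ :=
      isConj_iff.2 ⟨⟨(b : G), hCT b.2⟩, rfl⟩
    exact ⟨fun h => h.trans hab.symm, fun h => h.trans hab⟩
  have hLi : Integral M L := fun c => by rw [hLfn]; split_ifs <;> simp [one_mem, zero_mem]
  set I : Finset (ConjClasses C⟨P⟩) :=
    Finset.univ.filter fun K => IsConj g ⟨((crep K : C⟨P⟩) : G), hCT (crep K).2⟩ with hI
  have hclass : ∀ K ∈ I, ∃ x : T,
      crep K = (conjSubEquiv (hcs (x : G) x.2)).symm t := fun K hK => by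
    obtain ⟨x, hx⟩ := isConj_iff.1 (Finset.mem_filter.1 hK).2
    refine ⟨x, Subtype.ext ?_⟩
    exact (congrArg Subtype.val hx).symm
  have hindex : ∀ K ∈ I, (Subgroup.centralizer ({crep K} : Set C⟨P⟩)).index =
      (Subgroup.centralizer ({t} : Set C⟨P⟩)).index := fun K hK => by
    obtain ⟨x, hx⟩ := hclass K hK
    have h := centralChar_comp (conjSubEquiv (hcs (x : G) x.2)) (fun _ => (1 : ℂ)) (crep K)
    rw [hx, MulEquiv.apply_symm_apply] at h
    simp only [centralChar, mul_one, div_one, Nat.cast_inj] at h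
    rw [hx]; exact h
  -- counting
  have hcount : (Subgroup.centralizer ({g} : Set T)).index =
      I.card * (Subgroup.centralizer ({t} : Set C⟨P⟩)).index := by
    have hP1 : IsClassFunction C⟨P⟩ (fun _ : C⟨P⟩ => (1 : ℂ)) := fun _ _ => rfl
    have h1 := omega_eq_sum_classes (fun _ : C⟨P⟩ => (1 : ℂ)) hP1 hLc
    have h2 : omega (fun _ : C⟨P⟩ => (1 : ℂ)) L = ∑ c, fn L c := by simp [omega, chiEval]
    have h3 : ∑ c, fn L c = ∑ x, fn (cls ℂ g) x := by
      refine Finset.sum_bij_ne_zero (fun c _ _ => (⟨(c : G), hCT c.2⟩ : T))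
        (fun _ _ _ => Finset.mem_univ _) ?_ ?_ ?_
      · intro a _ _ b _ _ h
        exact Subtype.ext (congrArg Subtype.val h :)
      · intro x _ hx
        rw [fn_cls] at hx
        have hconj : IsConj g x := by
          by_contra h
          exact hx (if_neg h)
        obtain ⟨y, hy⟩ := isConj_iff.1 hconj
        have hxC : (x : G) ∈ C⟨P⟩ := by
          rw [← hy]
          have h := ((conjSubEquiv (hcs (y : G) y.2)).symm t).2
          exact h
        exact ⟨⟨(x : G), hxC⟩, Finset.mem_univ _, by rw [hLfn, if_pos hconj]; exact one_ne_zero, rfl⟩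
      · intro c _ _
        rw [hLfn, fn_cls]
    rw [h2, h3, sum_fn_cls] at h1
    simp only [hLfn, ite_mul, one_mul, zero_mul] at h1
    rw [← Finset.sum_filter, Finset.sum_congr rfl fun K hK => show centralChar _ (crep K) =
      ((Subgroup.centralizer ({t} : Set C⟨P⟩)).index : ℂ) by
        simp only [centralChar, mul_one, div_one, hindex K hK], Finset.sum_const,
      nsmul_eq_mul, ← Nat.cast_mul, Nat.cast_inj] at h1
    exact h1
  -- the congruence
  have hIp : ¬ p ∣ I.card := by
    have h := res_omega_block_eq hM hPp hPT hCT hF he (by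
        rw [hFb, br, trunc_eq_self (suppOn_bi e), bi_mul_self hM he])
      (isCentralFn_cls g) (integral_cls g) hθ hξ
    rw [omega_cls_irr, ← hL, omega_eq_sum_classes _ (isClassFunction_irr ξ) hLc] at h
    simp only [hLfn, ite_mul, one_mul, zero_mul] at h
    rw [← Finset.sum_filter, res_sum _ _ fun K _ => centralChar_mem_place hM ξ _,
      Finset.sum_congr rfl fun K hK => show res M (centralChar (ξ : _ → ℂ) (crep K)) =
        res M (centralChar (ξ : _ → ℂ) t) by
        obtain ⟨x, hx⟩ := hclass K hK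
        have hmem : irrEquiv (conjSubEquiv (hcs (x : G) x.2)) ξ ∈ e := by
          have heq : conjSet C⟨P⟩ C⟨P⟩ (x : G) e = e :=
            bi_injective hM (IsPBlock.conjSet (hcs (x : G) x.2) he) he (by
              rw [bi_conjSet (hcs (x : G) x.2), hfix (x : G) x.2])
          rw [← heq, conjSet_eq_image (hcs (x : G) x.2)]
          exact ⟨ξ, hξ, rfl⟩
        rw [IsPBlock.res_centralChar_eq hM he hξ hmem,
          show centralChar (irrEquiv (conjSubEquiv (hcs (x : G) x.2)) ξ : _ → ℂ) (crep K) =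
            centralChar (ξ : _ → ℂ) (conjSubEquiv (hcs (x : G) x.2) (crep K)) from
            centralChar_comp _ _ _, hx, MulEquiv.apply_symm_apply],
      Finset.sum_const, nsmul_eq_mul] at h
    intro hdvd
    refine ((isDefectClass_iff hM hF g).1 hg).2 θ hθ ?_
    rw [← res_eq_zero_iff (centralChar_mem_place hM θ g), h]
    erw [(res_natCast_eq_zero_iff (M := M) hM I.card).2 hdvd, zero_mul]
  -- p-parts
  obtain ⟨S, hS⟩ : ∃ S : Sylow p (Subgroup.centralizer ({g} : Set T)), True :=
    ⟨default, trivial⟩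
  have hCg : p ^ (Nat.card (Subgroup.centralizer ({g} : Set T))).factorization p = Nat.card P := by
    rw [← card_centSyl S, hsyl]
    exact Nat.card_congr (Subgroup.subgroupOfEquivOfLe hPT).toEquiv
  have hCt : p ^ (Nat.card (Subgroup.centralizer ({t} : Set C⟨P⟩))).factorization p =
      Nat.card (P ⊓ C⟨P⟩ : Subgroup G) := by
    have S' : Sylow p (Subgroup.centralizer ({t} : Set C⟨P⟩)) := default
    rw [← card_centSyl S']
    refine le_antisymm ?_ ?_
    · rw [← Nat.card_congr (Subgroup.subgroupOfEquivOfLe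
        (inf_le_right : P ⊓ C⟨P⟩ ≤ C⟨P⟩)).toEquiv]
      refine Subgroup.card_le_of_le fun y hy => ?_
      refine ⟨?_, y.2⟩
      set R : Subgroup T := ((centSyl S').map (Subgroup.subtype C⟨P⟩)).subgroupOf T with hR
      have hRp : IsPGroup p R := ((isPGroup_centSyl S').map _).comap_subtype
      have hRle : R ≤ Subgroup.centralizer ({g} : Set T) := by
        rintro z ⟨w, hw, hwz⟩
        rw [Subgroup.mem_centralizer_singleton_iff]
        have h := Subgroup.mem_centralizer_singleton_iff.1 (Subgroup.map_subtype_le _ hw)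
        refine Subtype.ext ?_
        rw [Subgroup.coe_mul, Subgroup.coe_mul, show ((z : T) : G) = (w : G) from hwz.symm]
        exact congrArg Subtype.val h
      obtain ⟨c, -, hc⟩ := exists_conj_le_sylow hRp hRle S
      have hmem : (⟨(y : G), hCT y.2⟩ : T) ∈ R := ⟨y, hy, rfl⟩
      rw [hsyl] at hc
      obtain ⟨z, hz, hzy⟩ := hc hmem
      have h2 := congrArg Subtype.val hzy
      simp only [MulEquiv.coe_toMonoidHom, MulAut.conj_apply, Subgroup.coe_mul, Subgroup.coe_inv] at h2
      show (y : G) ∈ P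
      rw [← h2]
      exact (Subgroup.mem_normalizer_iff.1 (hT.le_normalizer c.2) (z : G)).1 hz
    · obtain ⟨S'', hS''⟩ := exists_sylow_ge (g := t) (Q := (P ⊓ C⟨P⟩).subgroupOf C⟨P⟩)
        ((hPp.to_le inf_le_left).comap_subtype) (by
          intro y hy
          rw [Subgroup.mem_centralizer_singleton_iff]
          exact Subtype.ext (Subgroup.mem_centralizer_iff.1 hgP (y : G) hy.1))
      rw [← Nat.card_congr (Subgroup.subgroupOfEquivOfLe
        (inf_le_right : P ⊓ C⟨P⟩ ≤ C⟨P⟩)).toEquiv, card_centSyl S', ← card_centSyl S'']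
      exact Subgroup.card_le_of_le hS''
  have hp : p.Prime := Fact.out
  have e1 : (Nat.card P).factorization p =
      (Nat.card (Subgroup.centralizer ({g} : Set T))).factorization p := by
    rw [← hCg, hp.factorization_pow, Finsupp.single_eq_same]
  have e2 : (Nat.card (P ⊓ C⟨P⟩ : Subgroup G)).factorization p =
      (Nat.card (Subgroup.centralizer ({t} : Set C⟨P⟩))).factorization p := by
    rw [← hCt, hp.factorization_pow, Finsupp.single_eq_same]
  have e3 := congrArg (fun n : ℕ => n.factorization p)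
    (Subgroup.card_mul_index (Subgroup.centralizer ({g} : Set T)))
  have e4 := congrArg (fun n : ℕ => n.factorization p)
    (Subgroup.card_mul_index (Subgroup.centralizer ({t} : Set C⟨P⟩)))
  have e5 := congrArg (fun n : ℕ => n.factorization p)
    (Cfsg.Lib.Coprime.card_sup_mul_card_inf (N := C⟨P⟩) (H := P) (fun y hy =>
      centralizer_le_normalizer_centralizer (Subgroup.le_normalizer hy) le_rfl))
  have hne : I.card ≠ 0 := fun h => hIp (h ▸ dvd_zero p)
  simp only [Nat.factorization_mul Nat.card_pos.ne' Subgroup.index_ne_zero_of_finite,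
    Finsupp.add_apply] at e3 e4
  simp only [Nat.factorization_mul Nat.card_pos.ne' Nat.card_pos.ne', Finsupp.add_apply,
    inf_comm C⟨P⟩ P] at e5
  rw [hcount, Nat.factorization_mul hne Subgroup.index_ne_zero_of_finite, Finsupp.add_apply,
    Nat.factorization_eq_zero_of_not_dvd hIp] at e3
  omega

end Cfsg.Lib.Blocks
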