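import Mathlib
import Cfsg.Agent.Blocks.Inertia

/-!
# Defect groups of the blocks of stabilisers of pairs

A defect group of the block of the stabiliser of a pair meets the centraliser in a defect group of
the pair's block and covers a Sylow subgroup of the stabiliser modulo the centraliser.
-/

set_option autoImplicit false
set_option linter.unusedSectionVars false

namespace Cfsg.Lib.Blocks

open Cfsg.Lib.Chars

universe u

variable {G : Type u} [Group G] [Fintype G] {M : Ideal AlgInt} {p : ℕ}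

local notation "C⟨" P "⟩" => Subgroup.centralizer (SetLike.coe P)

/-- The defect group of the stabiliser's block modulo the centraliser, and inside it. -/
theorem stab_defect [Fact p.Prime] (hM : IsPModular p M) {Q T : Subgroup G}
    {f : Set (IrrCharacter C⟨Q⟩)} (hf : IsBrauerPair p M Q f) (hT : IsPairStab Q f T)
    {F : Set (IrrCharacter T)} (hF : IsPBlock M F) (hFb : bi M T F = bi M C⟨Q⟩ f)
    {D : Subgroup T} (hD : IsDefectGroup p M F D) :
    IsDefectGroup p M f ((D.map T.subtype ⊓ C⟨Q⟩).subgroupOf C⟨Q⟩) ∧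
      (Nat.card T).factorization p =
        (Nat.card (C⟨Q⟩ ⊔ D.map T.subtype : Subgroup G)).factorization p := by
  classical
  have he := hf.2
  letI := Fintype.ofFinite T
  letI := Fintype.ofFinite C⟨Q⟩
  letI : Fintype (ConjClasses C⟨Q⟩) := Fintype.ofFinite _
  obtain ⟨hQT, hCT⟩ := hT.self_le hM he
  have hfix : ∀ x ∈ T, cj x (bi M C⟨Q⟩ f) = bi M C⟨Q⟩ f := fun x hx =>
    (stabilizes_iff_of_normalizer hM he (hT.le_normalizer hx)).1 ((hT x).1 hx).2
  haveI : (C⟨Q⟩.subgroupOf T).Normal := ⟨fun c hc t =>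
    (Subgroup.mem_normalizer_iff.1 (centralizer_le_normalizer_centralizer
      (hT.le_normalizer t.2) le_rfl) (c : G)).1 hc⟩
  obtain ⟨g, hg, S, hDS⟩ := id hD
  have hgQ : (g : G) ∈ C⟨Q⟩ := by
    by_contra h
    refine ((isDefectClass_iff hM hF g).1 hg).1 ?_
    have h1 : res M (subgroupBlockCoeff T F (g : G)) = 0 := by
      have h2 := congrArg (fun w => fn w (g : G)) hFb
      simp only [bi, fn_ofFn] at h2
      rw [h2, subgroupBlockCoeff, dif_neg h, res_zero]
    rw [subgroupBlockCoeff, dif_pos g.2] at h1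
    exact (res_eq_zero_iff (blockCoeff_mem_place hM hF g)).1 h1
  set t : C⟨Q⟩ := ⟨(g : G), hgQ⟩ with ht
  have hcs : ∀ x ∈ T, IsConjSub C⟨Q⟩ C⟨Q⟩ x := fun x hx =>
    isConjSub_of_mem_normalizer (centralizer_le_normalizer_centralizer (hT.le_normalizer hx) le_rfl)
  obtain ⟨θ, hθ⟩ := IsPBlock.nonempty hM hF
  obtain ⟨ξ, hξ⟩ := IsPBlock.nonempty hM he
  set L : MonoidAlgebra ℂ C⟨Q⟩ := resElem C⟨Q⟩ (extElem T (cls ℂ g)) with hL
  have hLfn : ∀ c : C⟨Q⟩, fn L c = if IsConj g ⟨(c : G), hCT c.2⟩ then 1 else 0 := fun c => by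
    rw [hL, fn_resElem, fn_extElem_mem T _ (hCT c.2), fn_cls]
  have hLc : IsCentralFn L := fun a b => by
    rw [hLfn, hLfn]
    refine if_congr ?_ rfl rfl
    have hab : IsConj (⟨(a : G), hCT a.2⟩ : T) ⟨((b * a * b⁻¹ : C⟨Q⟩) : G), hCT (b * a * b⁻¹).2⟩ :=
      isConj_iff.2 ⟨⟨(b : G), hCT b.2⟩, rfl⟩
    exact ⟨fun h => h.trans hab.symm, fun h => h.trans hab⟩
  have hLi : Integral M L := fun c => by rw [hLfn]; split_ifs <;> simp [one_mem, zero_mem]
  set I : Finset (ConjClasses C⟨Q⟩) :=
    Finset.univ.filter fun K => IsConj g ⟨((crep K : C⟨Q⟩) : G), hCT (crep K).2⟩ with hI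
  have hclass : ∀ K ∈ I, ∃ x : T,
      crep K = (conjSubEquiv (hcs (x : G) x.2)).symm t := fun K hK => by
    obtain ⟨x, hx⟩ := isConj_iff.1 (Finset.mem_filter.1 hK).2
    refine ⟨x, Subtype.ext ?_⟩
    exact (congrArg Subtype.val hx).symm
  have hindex : ∀ K ∈ I, (Subgroup.centralizer ({crep K} : Set C⟨Q⟩)).index =
      (Subgroup.centralizer ({t} : Set C⟨Q⟩)).index := fun K hK => by
    obtain ⟨x, hx⟩ := hclass K hK
    have h := centralChar_comp (conjSubEquiv (hcs (x : G) x.2)) (fun _ => (1 : ℂ)) (crep K)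
    rw [hx, MulEquiv.apply_symm_apply] at h
    simp only [centralChar, mul_one, div_one, Nat.cast_inj] at h
    rw [hx]; exact h
  -- counting
  have hcount : (Subgroup.centralizer ({g} : Set T)).index =
      I.card * (Subgroup.centralizer ({t} : Set C⟨Q⟩)).index := by
    have hP1 : IsClassFunction C⟨Q⟩ (fun _ : C⟨Q⟩ => (1 : ℂ)) := fun _ _ => rfl
    have h1 := omega_eq_sum_classes (fun _ : C⟨Q⟩ => (1 : ℂ)) hP1 hLc
    have h2 : omega (fun _ : C⟨Q⟩ => (1 : ℂ)) L = ∑ c, fn L c := by simp [omega, chiEval]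
    have h3 : ∑ c, fn L c = ∑ x, fn (cls ℂ g) x := by
      refine Finset.sum_bij_ne_zero (fun c _ _ => (⟨(c : G), hCT c.2⟩ : T))
        (fun _ _ _ => Finset.mem_univ _) ?_ ?_ ?_
      · intro a _ _ b _ _ h
        exact Subtype.ext (congrArg Subtype.val h :)
      · intro x _ hx
        rw [fn_cls] at hx
        have hconj : IsConj g x := by
          by_contra h
          exact hx (if_neg h)
        obtain ⟨y, hy⟩ := isConj_iff.1 hconj
        have hxC : (x : G) ∈ C⟨Q⟩ := by
          rw [← hy]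
          have h := ((conjSubEquiv (hcs (y : G) y.2)).symm t).2
          exact h
        exact ⟨⟨(x : G), hxC⟩, Finset.mem_univ _, by rw [hLfn, if_pos hconj]; exact one_ne_zero, rfl⟩
      · intro c _ _
        rw [hLfn, fn_cls]
    rw [h2, h3, sum_fn_cls] at h1
    simp only [hLfn, ite_mul, one_mul, zero_mul] at h1
    rw [← Finset.sum_filter, Finset.sum_congr rfl fun K hK => show centralChar _ (crep K) =
      ((Subgroup.centralizer ({t} : Set C⟨Q⟩)).index : ℂ) by
        simp only [centralChar, mul_one, div_one, hindex K hK], Finset.sum_const,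
      nsmul_eq_mul, ← Nat.cast_mul, Nat.cast_inj] at h1
    exact h1
  -- the congruence
  have hIp' : (I.card : Res M) * res M (centralChar (ξ : _ → ℂ) t) ≠ 0 := by
    have h := res_omega_block_eq hM hf.1 hQT hCT hF he (by
        rw [hFb, br, trunc_eq_self (suppOn_bi f), bi_mul_self hM he])
      (isCentralFn_cls g) (integral_cls g) hθ hξ
    rw [omega_cls_irr, ← hL, omega_eq_sum_classes _ (isClassFunction_irr ξ) hLc] at h
    simp only [hLfn, ite_mul, one_mul, zero_mul] at h
    rw [← Finset.sum_filter, res_sum _ _ fun K _ => centralChar_mem_place hM ξ _,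
      Finset.sum_congr rfl fun K hK => show res M (centralChar (ξ : _ → ℂ) (crep K)) =
        res M (centralChar (ξ : _ → ℂ) t) by
        obtain ⟨x, hx⟩ := hclass K hK
        have hmem : irrEquiv (conjSubEquiv (hcs (x : G) x.2)) ξ ∈ f := by
          have heq : conjSet C⟨Q⟩ C⟨Q⟩ (x : G) f = f :=
            bi_injective hM (IsPBlock.conjSet (hcs (x : G) x.2) he) he (by
              rw [bi_conjSet (hcs (x : G) x.2), hfix (x : G) x.2])
          rw [← heq, conjSet_eq_image (hcs (x : G) x.2)]
          exact ⟨ξ, hξ, rfl⟩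
        rw [IsPBlock.res_centralChar_eq hM he hξ hmem,
          show centralChar (irrEquiv (conjSubEquiv (hcs (x : G) x.2)) ξ : _ → ℂ) (crep K) =
            centralChar (ξ : _ → ℂ) (conjSubEquiv (hcs (x : G) x.2) (crep K)) from
            centralChar_comp _ _ _, hx, MulEquiv.apply_symm_apply],
      Finset.sum_const, nsmul_eq_mul] at h
    intro h0
    refine ((isDefectClass_iff hM hF g).1 hg).2 θ hθ ?_
    rw [← res_eq_zero_iff (centralChar_mem_place hM θ g), h]
    exact h0
  have hIp : ¬ p ∣ I.card := fun hd =>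
    left_ne_zero_of_mul hIp' ((res_natCast_eq_zero_iff (M := M) hM I.card).2 hd)
  have hξt : ¬ Small M (centralChar (ξ : _ → ℂ) t) := fun h =>
    right_ne_zero_of_mul hIp' ((res_eq_zero_iff (centralChar_mem_place hM ξ t)).2 h)
  -- p-parts
  set Z : Subgroup G := D.map T.subtype ⊓ C⟨Q⟩ with hZ
  have hDp : IsPGroup p D := IsDefectGroup.isPGroup hD
  have hCg : p ^ (Nat.card (Subgroup.centralizer ({g} : Set T))).factorization p =
      Nat.card (D.map T.subtype) := by
    rw [← card_centSyl S, ← (show D = centSyl S from hDS)]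
    exact Nat.card_congr (Subgroup.equivMapOfInjective _ _ T.subtype_injective).toEquiv
  have hDg : ∀ y ∈ D, y * g = g * y := fun y hy => by
    rw [hDS] at hy
    exact Subgroup.mem_centralizer_singleton_iff.1 (Subgroup.map_subtype_le _ hy)
  -- a conjugate of every p-subgroup of the centraliser of `t` lies in `Z`
  have hupper : ∀ R : Subgroup C⟨Q⟩, IsPGroup p R → R ≤ Subgroup.centralizer ({t} : Set C⟨Q⟩) →
      Nat.card R ≤ Nat.card Z := by
    intro R hR hRt
    set R' : Subgroup T := (R.map (Subgroup.subtype C⟨Q⟩)).subgroupOf T with hR'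
    have hle : R' ≤ Subgroup.centralizer ({g} : Set T) := by
      rintro z ⟨w, hw, hwz⟩
      rw [Subgroup.mem_centralizer_singleton_iff]
      refine Subtype.ext ?_
      rw [Subgroup.coe_mul, Subgroup.coe_mul, show ((z : T) : G) = (w : G) from hwz.symm]
      exact congrArg Subtype.val (Subgroup.mem_centralizer_singleton_iff.1 (hRt hw) :)
    obtain ⟨c, -, hc⟩ := exists_conj_le_sylow ((hR.map _).comap_subtype (K := T)) hle S
    have hRC : R' ≤ C⟨Q⟩.subgroupOf T := by
      rintro z ⟨w, -, hwz⟩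
      show (z : G) ∈ C⟨Q⟩
      rw [← show (w : G) = z from hwz]; exact w.2
    have h1 : R' ≤ ((D.map T.subtype ⊓ C⟨Q⟩).subgroupOf T).map (MulAut.conj c).toMonoidHom := by
      intro z hz
      obtain ⟨w, hw, rfl⟩ := hc hz
      have hw' : w ∈ D := by rw [hDS]; exact hw
      refine ⟨w, ⟨⟨w, hw', rfl⟩, ?_⟩, rfl⟩
      have h2 := (show (C⟨Q⟩.subgroupOf T).Normal by infer_instance).conj_mem _ (hRC hz) c⁻¹
      simpa [Subgroup.mem_subgroupOf, mul_assoc] using h2
    have h2 := Subgroup.card_le_of_le h1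
    rw [card_map_conj, Nat.card_congr (Subgroup.subgroupOfEquivOfLe
      (inf_le_left.trans (Subgroup.map_subtype_le D) : D.map T.subtype ⊓ C⟨Q⟩ ≤ T)).toEquiv] at h2
    refine le_trans (le_of_eq ?_) h2
    rw [Nat.card_congr (Subgroup.subgroupOfEquivOfLe
      ((Subgroup.map_subtype_le R).trans hCT)).toEquiv]
    exact Nat.card_congr (Subgroup.equivMapOfInjective _ _ (Subgroup.subtype_injective _)).toEquiv
  have hCt : p ^ (Nat.card (Subgroup.centralizer ({t} : Set C⟨Q⟩))).factorization p = Nat.card Z := by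
    have S' : Sylow p (Subgroup.centralizer ({t} : Set C⟨Q⟩)) := default
    rw [← card_centSyl S']
    refine le_antisymm (hupper _ (isPGroup_centSyl S') (Subgroup.map_subtype_le _)) ?_
    have hZp : IsPGroup p Z := (hDp.map _).to_le inf_le_left
    obtain ⟨S'', hS''⟩ := exists_sylow_ge (g := t) (Q := Z.subgroupOf C⟨Q⟩) hZp.comap_subtype (by
      intro y hy
      rw [Subgroup.mem_centralizer_singleton_iff]
      obtain ⟨d, hd, hdy⟩ := hy.1
      refine Subtype.ext ?_
      have h := congrArg Subtype.val (hDg d hd)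
      rw [Subgroup.coe_mul, Subgroup.coe_mul, show ((d : T) : G) = (y : G) from hdy] at h
      exact h)
    rw [← Nat.card_congr (Subgroup.subgroupOfEquivOfLe (inf_le_right : Z ≤ C⟨Q⟩)).toEquiv,
      card_centSyl S', ← card_centSyl S'']
    exact Subgroup.card_le_of_le hS''
  have hp : p.Prime := Fact.out
  refine ⟨?_, ?_⟩
  · -- the intersection is a defect group
    have hne : br (D.map T.subtype) (bi M T F) ≠ 0 := br_defect_ne_zero hM hF hD
    obtain ⟨D₁, hD₁, hle⟩ := exists_defect_ge_of_br hM he (H := C⟨Q⟩)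
      ((hDp.map _).to_le inf_le_left : IsPGroup p Z) inf_le_right (fun h0 => hne (by
        rw [hFb, ← br_br (inf_le_left : Z ≤ D.map T.subtype), h0, br_zero]))
    suffices Z.subgroupOf C⟨Q⟩ = D₁ by rw [this]; exact hD₁
    refine Subgroup.eq_of_le_of_card_ge hle ?_
    rw [Nat.card_congr (Subgroup.subgroupOfEquivOfLe (inf_le_right : Z ≤ C⟨Q⟩)).toEquiv]
    have hunit : ¬ Small M (centralChar (ξ : _ → ℂ) t) := hξt
    obtain ⟨s, hts, hsD⟩ := exists_conj_mem_centralizer_defectGroup hM he hD₁ hξ hunit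
    obtain ⟨c, rfl⟩ := isConj_iff.1 hts
    have h3 := conj_le_centralizer hsD c⁻¹
    rw [show c⁻¹ * (c * t * c⁻¹) * c⁻¹⁻¹ = t by group] at h3
    rw [← card_map_conj D₁ c⁻¹]
    exact hupper _ ((IsDefectGroup.isPGroup hD₁).map _) h3
  have e1 : (Nat.card (D.map T.subtype)).factorization p =
      (Nat.card (Subgroup.centralizer ({g} : Set T))).factorization p := by
    rw [← hCg, hp.factorization_pow, Finsupp.single_eq_same]
  have e2 : (Nat.card Z).factorization p =
      (Nat.card (Subgroup.centralizer ({t} : Set C⟨Q⟩))).factorization p := by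
    rw [← hCt, hp.factorization_pow, Finsupp.single_eq_same]
  have e3 := congrArg (fun n : ℕ => n.factorization p)
    (Subgroup.card_mul_index (Subgroup.centralizer ({g} : Set T)))
  have e4 := congrArg (fun n : ℕ => n.factorization p)
    (Subgroup.card_mul_index (Subgroup.centralizer ({t} : Set C⟨Q⟩)))
  have e5 := congrArg (fun n : ℕ => n.factorization p)
    (Cfsg.Lib.Coprime.card_sup_mul_card_inf (N := C⟨Q⟩) (H := D.map T.subtype) (fun y hy =>
      centralizer_le_normalizer_centralizer (hT.le_normalizer (Subgroup.map_subtype_le D hy)) le_rfl))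
  have hne : I.card ≠ 0 := fun h => hIp (h ▸ dvd_zero p)
  simp only [Nat.factorization_mul Nat.card_pos.ne' Subgroup.index_ne_zero_of_finite,
    Finsupp.add_apply] at e3 e4
  simp only [Nat.factorization_mul Nat.card_pos.ne' Nat.card_pos.ne', Finsupp.add_apply,
    inf_comm C⟨Q⟩ (D.map T.subtype), ← hZ] at e5
  rw [hcount, Nat.factorization_mul hne Subgroup.index_ne_zero_of_finite, Finsupp.add_apply,
    Nat.factorization_eq_zero_of_not_dvd hIp] at e3
  omega

end Cfsg.Lib.Blocks
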