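import Mathlib
import Cfsg.Agent.Blocks.FirstMain
import Cfsg.Agent.Blocks.StabDefect
import Cfsg.Agent.Blocks.Defect2

/-!
# The Brauer homomorphism and blocks of local subgroups

Subgroups `H` with `P C(P) ≤ H ≤ N(P)`: every block of `H` carries a pair on `P`, induction is
defined and is read off by the truncated central character; consequences for defect groups of
induced blocks.
-/

set_option autoImplicit false
set_option linter.unusedSectionVars false

namespace Cfsg.Lib.Blocks

open Cfsg.Lib.Chars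

universe u

variable {G : Type u} [Group G] [Fintype G] {M : Ideal AlgInt} {p : ℕ}

local notation "C⟨" P "⟩" => Subgroup.centralizer (SetLike.coe P)

/-- A normal `p`-subgroup lies in every defect group. -/
theorem normal_le_defectGroup [Fact p.Prime] (hM : IsPModular p M) {P : Subgroup G} [P.Normal]
    (hP : IsPGroup p P) {B : Set (IrrCharacter G)} (hB : IsPBlock M B) {D : Subgroup G}
    (hD : IsDefectGroup p M B D) : P ≤ D := by
  obtain ⟨g, hg, -⟩ := id hD
  have hgc : g ∈ C⟨P⟩ := by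
    by_contra h
    refine ((isDefectClass_iff hM hB g).1 hg).1 ?_
    rw [blockCoeff_eq_zero_of_not_mem_centralizer hM hP hB h]
    exact small_zero
  obtain ⟨x, hx⟩ := exists_le_conj_defectGroup hM hB hD hP hgc ((isDefectClass_iff hM hB g).1 hg).1
  intro y hy
  obtain ⟨z, hz, hzy⟩ := hx (Subgroup.Normal.conj_mem ‹_› y hy x)
  simp only [MulEquiv.coe_toMonoidHom, MulAut.conj_apply, mul_left_inj, mul_right_inj] at hzy
  exact hzy ▸ hz

lemma normal_subgroupOf_of_le_normalizer {P H : Subgroup G}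
    (hHN : H ≤ Subgroup.normalizer (P : Set G)) : (P.subgroupOf H).Normal :=
  ⟨fun y hy h => (Subgroup.mem_normalizer_iff.1 (hHN h.2) (y : G)).1 hy⟩

/-- A block of `H`, with `P` normal in `H` and `C(P) ≤ H`, carries a pair on `P`. -/
theorem exists_local_pair [Fact p.Prime] (hM : IsPModular p M) {P H : Subgroup G} [Fintype H]
    (hP : IsPGroup p P) (hPH : P ≤ H) (hCH : C⟨P⟩ ≤ H)
    (hHN : H ≤ Subgroup.normalizer (P : Set G)) {b : Set (IrrCharacter H)} (hb : IsPBlock M b) :
    ∃ f : Set (IrrCharacter C⟨P⟩), IsBrauerPair p M P f ∧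
      br P (bi M H b) * bi M C⟨P⟩ f = bi M C⟨P⟩ f := by
  classical
  haveI := charP_res hM
  letI := Fintype.ofFinite C⟨P⟩
  have hs := suppOn_centralizer_of_idem hP hPH
    (fun t ht y hy => (Subgroup.mem_normalizer_iff.1 (hHN ht) y).1 hy) (suppOn_bi b) (invOn_bi b)
    (bi_mul_self hM hb)
  obtain ⟨f, hf, hne⟩ : ∃ f, IsPBlock M f ∧ bi M H b * bi M C⟨P⟩ f ≠ 0 := by
    by_contra h
    push Not at h
    refine bi_ne_zero hM hb ?_
    rw [← mul_one (bi M H b), ← sum_bi (H := C⟨P⟩) hM, Finset.mul_sum]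
    exact Finset.sum_eq_zero fun f hf => h f ((mem_blocksFinset hM).1 hf)
  refine ⟨f, ⟨hP, hf⟩, ?_⟩
  rw [br, trunc_eq_self hs]
  exact (mul_bi_eq_or hM hs ((invOn_bi b).mono hCH) (bi_mul_self hM hb) hf).resolve_right hne

/-- Induction from a local subgroup is always defined. -/
theorem inducedBlockDefined_local [Fact p.Prime] (hM : IsPModular p M) {P H : Subgroup G}
    (hP : IsPGroup p P) (hPH : P ≤ H) (hCH : C⟨P⟩ ≤ H)
    (hHN : H ≤ Subgroup.normalizer (P : Set G)) {b : Set (IrrCharacter H)} (hb : IsPBlock M b) :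
    InducedBlockDefined M H b := by
  classical
  letI := Fintype.ofFinite H
  obtain ⟨f, hf, hbr⟩ := exists_local_pair hM hP hPH hCH hHN hb
  obtain ⟨B, hB, -⟩ := existsUnique_block hM hf
  exact ⟨B, isInducedBlock_of_pair hM hPH hCH hb hbr hB⟩

lemma brauerCentralChar_eq_omega (P H : Subgroup G) [Fintype H] (ξ : H → ℂ) (g : G) :
    brauerCentralChar P H ξ g = omega ξ (resElem H (trunc C⟨P⟩ (cls ℂ g))) := by
  classical
  unfold brauerCentralChar
  rw [finsum_mem_eq_sum_of_inter_support_eq _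
    (t := Finset.univ.filter fun h : H => IsConj g (h : G) ∧ (h : G) ∈ C⟨P⟩) (by simp),
    ← Finset.sum_div, omega, chiEval, Finset.sum_filter]
  congr 1
  refine Finset.sum_congr rfl fun h _ => ?_
  rw [fn_resElem]
  by_cases hc : (h : G) ∈ C⟨P⟩
  · rw [fn_trunc_mem _ hc, fn_cls]
    simp only [hc, and_true]
    split_ifs <;> simp
  · rw [fn_trunc_not_mem _ hc, zero_mul, if_neg (fun h => hc h.2)]

/-- The truncated central character is the induced central character modulo the place. -/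
theorem memLocalIdeal_brauerCentralChar_sub [Fact p.Prime] (hM : IsPModular p M)
    {P H : Subgroup G} [Fintype H] (hP : IsPGroup p P) (hPH : P ≤ H) (hCH : C⟨P⟩ ≤ H)
    (hHN : H ≤ Subgroup.normalizer (P : Set G)) {b : Set (IrrCharacter H)} (hb : IsPBlock M b)
    {θ : IrrCharacter H} (hθ : θ ∈ b) (g : G) :
    brauerCentralChar P H (θ : H → ℂ) g ∈ place M ∧
    IsAlgebraic ℚ (brauerCentralChar P H (θ : H → ℂ) g) ∧
    res M (brauerCentralChar P H (θ : H → ℂ) g) = res M (inducedCentralChar H (θ : H → ℂ) g) := by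
  classical
  letI := Fintype.ofFinite C⟨P⟩
  obtain ⟨f, hf, hbr⟩ := exists_local_pair hM hP hPH hCH hHN hb
  obtain ⟨ξ, hξ⟩ := IsPBlock.nonempty hM hf.2
  set z := resElem H (trunc C⟨P⟩ (cls ℂ g)) with hz
  have hzfn : ∀ h : H, fn z h =
      if IsConj g (h : G) ∧ (h : G) ∈ C⟨P⟩ then 1 else 0 := fun h => by
    rw [hz, fn_resElem]
    by_cases hc : (h : G) ∈ C⟨P⟩
    · rw [fn_trunc_mem _ hc, fn_cls]; simp only [hc, and_true]
    · rw [fn_trunc_not_mem _ hc, if_neg (fun h => hc h.2)]
  have hzc : IsCentralFn z := fun a x => by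
    rw [hzfn, hzfn]
    refine if_congr (and_congr ?_ ?_) rfl rfl
    · have h1 : IsConj (a : G) ((x * a * x⁻¹ : H) : G) := isConj_iff.2 ⟨x, rfl⟩
      exact ⟨fun h => h.trans h1.symm, fun h => h.trans h1⟩
    · have hn := centralizer_le_normalizer_centralizer (hHN x.2) (le_refl P)
      exact (Subgroup.mem_normalizer_iff.1 hn (a : G)).symm
  have hzi : Integral M z := fun h => by rw [hzfn]; split_ifs <;> simp [one_mem, zero_mem]
  refine ⟨?_, ?_, ?_⟩
  · rw [brauerCentralChar_eq_omega]; exact omega_mem_place hM θ hzc hzi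
  · rw [brauerCentralChar_eq_omega, ← hz, omega_eq_sum_classes _ (isClassFunction_irr θ) hzc]
    refine isAlgebraic_of_isIntegral (IsIntegral.sum _ fun C _ => ?_)
    refine IsIntegral.mul ?_ (isIntegral_centralChar_irrChar θ _)
    rw [hzfn]
    split_ifs
    exacts [isIntegral_one, isIntegral_zero]
  rw [brauerCentralChar_eq_omega, ← hz, inducedCentralChar_eq_omega,
    res_omega_block_eq hM hP hPH hCH hb hf.2 hbr hzc hzi hθ hξ,
    res_omega_block_eq hM hP hPH hCH hb hf.2 hbr ((isCentralFn_cls g).resElem H)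
      ((integral_cls g).resElem H) hθ hξ]
  congr 2
  refine fn_ext fun c => ?_
  rw [fn_resElem, fn_resElem, fn_extElem_mem H _ (hCH c.2), fn_extElem_mem H _ (hCH c.2), hzfn,
    fn_resElem, fn_cls]
  exact if_congr ⟨fun h => h.1, fun h => ⟨h, c.2⟩⟩ rfl rfl

/-- A subgroup with nonzero Brauer image of the block lies in a defect group, and conversely; here
in the form: inducing blocks exist exactly in that case. -/
theorem exists_inducing_iff [Fact p.Prime] (hM : IsPModular p M) {P H : Subgroup G}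
    (hP : IsPGroup p P) (hPH : P ≤ H) (hCH : C⟨P⟩ ≤ H)
    (hHN : H ≤ Subgroup.normalizer (P : Set G)) {B : Set (IrrCharacter G)} (hB : IsPBlock M B) :
    (∃ b : Set (IrrCharacter H), IsInducedBlock M H b B) ↔
      ∃ D : Subgroup G, IsDefectGroup p M B D ∧ ∃ x : G,
        P.map (MulAut.conj x).toMonoidHom ≤ D := by
  classical
  haveI := charP_res hM
  letI := Fintype.ofFinite H
  letI := Fintype.ofFinite C⟨P⟩
  constructor
  · rintro ⟨b, hb⟩
    obtain ⟨D₀, hD₀⟩ := exists_defectGroup hM hb.1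
    haveI := normal_subgroupOf_of_le_normalizer hHN
    have hle := normal_le_defectGroup hM (G := H) (P := P.subgroupOf H) hP.comap_subtype hb.1 hD₀
    obtain ⟨E, hE, hDE⟩ := exists_defectGroup_ge_of_induced hM H hb hD₀
    refine ⟨E, hE, 1, ?_⟩
    rw [map_conj_one]
    exact fun y hy => hDE ⟨⟨y, hPH hy⟩, hle hy, rfl⟩
  · rintro ⟨D, hD, x, hx⟩
    obtain ⟨e, hmax⟩ := exists_pair_of_defect hM hB (IsDefectGroup.conj hM hB hD x⁻¹)
    have hPD : P ≤ D.map (MulAut.conj x⁻¹).toMonoidHom := le_conj_inv_of_conj_le hx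
    obtain ⟨f, hf, -⟩ := existsUnique_subpairLE hM hmax.1.1 hPD
    have hfB := isBrauerPairOf_of_le hM hmax hf
    obtain ⟨b, hb, hne⟩ : ∃ b, IsPBlock M b ∧ br P (bi M H b) * bi M C⟨P⟩ f ≠ 0 := by
      by_contra h
      push Not at h
      refine bi_ne_zero hM hfB.1.2 ?_
      rw [← one_mul (bi M C⟨P⟩ f), ← br_one P, ← sum_bi (H := H) hM, br_sum, Finset.sum_mul]
      exact Finset.sum_eq_zero fun b hb => h b ((mem_blocksFinset hM).1 hb)
    refine ⟨b, isInducedBlock_of_pair hM hPH hCH hb ?_ hfB⟩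
    refine (mul_bi_eq_or hM (suppOn_br _ _)
      (invOn_br ((invOn_bi b).mono hCH) fun k hk y hy => centralizer_normalizes hk hy) ?_
      hfB.1.2).resolve_right hne
    rw [← br_mul hP ((invOn_bi b).mono hPH) ((invOn_bi b).mono hPH), bi_mul_self hM hb]

/-- For a pair on a defect group, the centraliser's block has the centre as its defect group. -/
theorem defectGroup_centralizer_of_maximal [Fact p.Prime] (hM : IsPModular p M)
    {B : Set (IrrCharacter G)} {P : Subgroup G} {e : Set (IrrCharacter C⟨P⟩)}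
    (hmax : IsMaximalBrauerPair p M B P e) {D : Subgroup C⟨P⟩} (hD : IsDefectGroup p M e D) :
    D.map (Subgroup.subtype C⟨P⟩) = P ⊓ C⟨P⟩ := by
  obtain ⟨x, hx, hDx⟩ := exists_conj_defect hM hmax hmax.1 hD
  have hPx : P.map (MulAut.conj x).toMonoidHom = P :=
    Subgroup.eq_of_le_of_card_ge (subpairLE_le hx) (card_map_conj P x).ge
  rw [hPx] at hDx
  have hxN : x⁻¹ ∈ Subgroup.normalizer (P : Set G) := by
    refine inv_mem (Subgroup.mem_normalizer_iff.2 fun y => ?_)
    constructor
    · intro hy; rw [← hPx]; exact ⟨y, hy, rfl⟩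
    · intro hy
      rw [← hPx] at hy
      obtain ⟨z, hz, hzy⟩ := hy
      simp only [MulEquiv.coe_toMonoidHom, MulAut.conj_apply, mul_left_inj, mul_right_inj] at hzy
      exact hzy ▸ hz
  have h := congrArg (Subgroup.map (MulAut.conj x⁻¹).toMonoidHom) hDx
  rw [map_conj_map, inv_mul_cancel, map_conj_one,
    Subgroup.map_inf _ _ _ (MulAut.conj x⁻¹).injective, map_inf_conj,
    map_conj_of_mem_normalizer hxN] at h
  exact h

lemma isPPart_coe {H : Subgroup G} {h x : H} (hx : IsPPart p h x) :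
    IsPPart p (h : G) (x : G) := by
  obtain ⟨y, hy, hc, hk, hny⟩ := hx
  exact ⟨y, congrArg Subtype.val hy, hc.map H.subtype, by simpa using hk, by simpa using hny⟩

/-- Nonsmall central character: a conjugate centralises the defect group with `p`-part in it. -/
theorem exists_conj_pPart_mem_center [Fact p.Prime] (hM : IsPModular p M)
    {B : Set (IrrCharacter G)} (hB : IsPBlock M B) {P : Subgroup G}
    (hP : IsDefectGroup p M B P) {χ : IrrCharacter G} (hχ : χ ∈ B) {g : G}
    (hg : ¬ Small M (centralChar (χ : G → ℂ) g)) :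
    ∃ x : G, IsConj g x ∧ x ∈ C⟨P⟩ ∧ ∀ z : G, IsPPart p x z → z ∈ P := by
  classical
  letI := Fintype.ofFinite C⟨P⟩
  obtain ⟨e, hmax⟩ := exists_pair_of_defect hM hB hP
  obtain ⟨θ, hθ⟩ := IsPBlock.nonempty hM hmax.1.1.2
  have hind := ((isBrauerPairOf_iff hM B P e).1 hmax.1).2
  have hres := (isInducedBlock_iff hM C⟨P⟩ hmax.1.1.2 hB hθ hχ).1 hind g
  have hns : ¬ Small M (inducedCentralChar C⟨P⟩ (θ : C⟨P⟩ → ℂ) g) := fun h => hg <| by
    rw [← res_eq_zero_iff (centralChar_mem_place hM χ g), ← hres,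
      res_eq_zero_iff (inducedCentralChar_mem_place hM _ θ g)]
    exact h
  obtain ⟨h, hgh, hh⟩ := exists_conj_centralChar_not_small hM C⟨P⟩ θ hns
  refine ⟨h, hgh, h.2, fun z hz => ?_⟩
  obtain ⟨s, hs⟩ := exists_isPPart hM.1 h
  obtain rfl := IsPPart.eq hM.1 hz (isPPart_coe hs)
  by_contra hzP
  refine hh ?_
  have hval : (θ : C⟨P⟩ → ℂ) h = 0 :=
    apply_eq_zero_of_forall_not_mem hM hmax.1.1.2 hθ hs fun D hD hzD => hzP <| by
        have h1 := defectGroup_centralizer_of_maximal hM hmax hD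
        exact (h1.le ⟨_, hzD, rfl⟩).1
  rw [centralChar, hval, mul_zero, zero_div]
  exact small_zero

end Cfsg.Lib.Blocks
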