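import Mathlib
import Cfsg.Agent.Blocks.Embed

/-!
# The Brauer map and graded idempotents

An element of the group algebra graded by the cosets of a normal subgroup `N`: an idempotent below
a block `c` of `N` is not killed by the Brauer map at a `p`-subgroup of `N` that does not kill `c`.
The proof shows that the invariant elements below `c` killed by the Brauer map form a graded ring
whose degree one part, hence the whole ring, is nilpotent.
-/

set_option autoImplicit false
set_option linter.unusedSectionVars false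

namespace Cfsg.Lib.Blocks

open Cfsg.Lib.Chars

universe u

section Seg

variable {A : Type*} [Monoid A]

/-- The product of `n` consecutive terms starting at `i`. -/
def seg (a : ℕ → A) (i : ℕ) : ℕ → A
  | 0 => 1
  | n + 1 => seg a i n * a (i + n)

lemma seg_zero (a : ℕ → A) (i : ℕ) : seg a i 0 = 1 := rfl

lemma seg_succ (a : ℕ → A) (i n : ℕ) : seg a i (n + 1) = seg a i n * a (i + n) := rfl

lemma seg_add (a : ℕ → A) (i m : ℕ) : ∀ n, seg a i (m + n) = seg a i m * seg a (i + m) n
  | 0 => by rw [Nat.add_zero, seg_zero, mul_one]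
  | n + 1 => by rw [← Nat.add_assoc, seg_succ, seg_add a i m n, seg_succ, mul_assoc, Nat.add_assoc]

lemma seg_congr {a b : ℕ → A} {i : ℕ} :
    ∀ {n : ℕ}, (∀ k < n, a (i + k) = b (i + k)) → seg a i n = seg b i n
  | 0, _ => rfl
  | n + 1, h => by
    rw [seg_succ, seg_succ, seg_congr (fun k hk => h k (Nat.lt_succ_of_lt hk)),
      h n (Nat.lt_succ_self n)]

end Seg

variable {G : Type u} [Group G] [Fintype G] {M : Ideal AlgInt} {p : ℕ}

/-- A product of as many central elements with small central characters as there are irreducible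
characters vanishes modulo `M`. -/
theorem seg_eq_zero_of_omega_small (hM : IsPModular p M) {N : Subgroup G} [Fintype N]
    (z : ℕ → MonoidAlgebra ℂ N) (hzc : ∀ i, IsCentralFn (z i)) (hzi : ∀ i, Integral M (z i))
    (hsm : ∀ i, ∀ θ : IrrCharacter N, Small M (omega (θ : N → ℂ) (z i))) :
    seg (fun i => rx M N (z i)) 0 (Fintype.card (IrrCharacter N)) = 0 := by
  classical
  set m := Fintype.card (IrrCharacter N)
  set ψ := (Fintype.equivFin (IrrCharacter N)).symm with hψ
  have key : ∀ n, n ≤ m → ∃ w : MonoidAlgebra ℂ N, IsCentralFn w ∧ Integral M w ∧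
      (∀ j : Fin m, (j : ℕ) < n → omega (ψ j : N → ℂ) w = 0) ∧
      rx M N w = seg (fun i => rx M N (z i)) 0 n := by
    intro n
    induction n with
    | zero => exact fun _ => ⟨1, isCentralFn_one, integral_one, by simp, rx_one⟩
    | succ n ih =>
      intro hn
      obtain ⟨w, w1, w2, w3, w4⟩ := ih (Nat.le_of_succ_le hn)
      set l := omega (ψ ⟨n, hn⟩ : N → ℂ) (z n) with hl
      have hmem : l ∈ place M := (hsm n (ψ ⟨n, hn⟩)).mem_place
      refine ⟨w * (z n - l • 1), w1.mul ((hzc n).sub (isCentralFn_one.smul _)),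
        w2.mul ((hzi n).sub (integral_one.smul hmem)), fun j hj => ?_, ?_⟩
      · rw [omega_mul _ w1, omega_sub, omega_smul, omega_one, mul_one]
        rcases Nat.lt_succ_iff_lt_or_eq.1 hj with hj | hj
        · rw [w3 j hj, zero_mul]
        · rw [show j = ⟨n, hn⟩ from Fin.ext hj, hl, sub_self, mul_zero]
      · rw [rx_mul w2 ((hzi n).sub (integral_one.smul hmem)), w4, seg_succ, Nat.zero_add]
        congr 1
        refine rx_congr ?_
        rw [red_sub (hzi n) (integral_one.smul hmem), red_smul integral_one hmem,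
          (res_eq_zero_iff hmem).2 (hsm n (ψ ⟨n, hn⟩)), zero_smul, sub_zero]
  obtain ⟨w, w1, -, w3, w4⟩ := key m le_rfl
  rw [← w4, show w = 0 from eq_zero_of_omega_eq_zero w1 fun θ => by
    obtain ⟨j, rfl⟩ := ψ.surjective θ
    exact w3 j j.2]
  refine fn_ext fun g => ?_
  by_cases hg : g ∈ N
  · rw [fn_rx_mem _ hg, fn_zero, fn_zero, res_zero]
  · rw [suppOn_rx _ g hg, fn_zero]

variable [Fact p.Prime]

/-- The invariant elements below a block that are killed by the Brauer map. -/
def Killed (M : Ideal AlgInt) (N T R : Subgroup G) (c : Set (IrrCharacter N))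
    (a : MonoidAlgebra (Res M) G) : Prop :=
  SuppOn T a ∧ InvOn N a ∧ a * bi M N c = a ∧ br R a = 0

lemma Killed.mul (hM : IsPModular p M) {N T R : Subgroup G} {c : Set (IrrCharacter N)}
    (hR : IsPGroup p R) (hRN : R ≤ N) {a b : MonoidAlgebra (Res M) G}
    (ha : Killed M N T R c a) (hb : Killed M N T R c b) : Killed M N T R c (a * b) := by
  haveI := charP_res hM
  refine ⟨ha.1.mul hb.1, ha.2.1.mul hb.2.1, by rw [mul_assoc, hb.2.2.1], ?_⟩
  rw [br_mul hR (ha.2.1.mono hRN) (hb.2.1.mono hRN), ha.2.2.2, zero_mul]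

/-- Elements of degree one have small central characters. -/
lemma exists_lift_small (hM : IsPModular p M) {N T R : Subgroup G} [Fintype N]
    {c : Set (IrrCharacter N)} (hc : IsPBlock M c) (hR : IsPGroup p R) (hRN : R ≤ N)
    (hbr : br R (bi M N c) ≠ 0) {a : MonoidAlgebra (Res M) G} (ha : Killed M N T R c a)
    (hs : SuppOn N a) :
    ∃ z : MonoidAlgebra ℂ N, IsCentralFn z ∧ Integral M z ∧ rx M N z = a ∧
      ∀ θ : IrrCharacter N, Small M (omega (θ : N → ℂ) z) := by
  classical
  haveI := charP_res hM
  choose lift hlift1 hlift2 using exists_res_eq (M := M)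
  set z : MonoidAlgebra ℂ N := ofFn fun h => lift (fn a (h : G)) with hz
  have hzc : IsCentralFn z := isCentralFn_ofFn fun g h => by
    simp only [Subgroup.coe_mul, Subgroup.coe_inv]; rw [ha.2.1 _ h.2]
  have hzi : Integral M z := fun h => by rw [hz, fn_ofFn]; exact hlift1 _
  have hrx : rx M N z = a := fn_ext fun g => by
    by_cases hg : g ∈ N
    · rw [fn_rx_mem _ hg, hz, fn_ofFn, hlift2]
    · rw [suppOn_rx _ g hg, hs g hg]
  have hec := isCentralFn_blockElem c
  have hei := integral_blockElem hM hc
  have hred : red M (z * blockElem c) = red M z := rx_inj (by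
    rw [rx_mul hzi hei, hrx, ← bi_eq_rx, ha.2.2.1])
  have hout : ∀ θ : IrrCharacter N, θ ∉ c → Small M (omega (θ : N → ℂ) z) := fun θ hθ => by
    have h := res_omega_eq_of_red_eq hM θ (hzc.mul hec) (hzi.mul hei) hzc hzi hred
    rw [omega_mul θ hzc, omega_blockElem, if_neg hθ, mul_zero, res_zero] at h
    exact (res_eq_zero_iff (omega_mem_place hM θ hzc hzi)).1 h.symm
  refine ⟨z, hzc, hzi, hrx, fun θ => ?_⟩
  by_cases hθ : θ ∈ c
  swap
  · exact hout θ hθ
  by_contra hns
  set l := omega (θ : N → ℂ) z with hl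
  have hlm : l ∈ place M := omega_mem_place hM θ hzc hzi
  have hs0 : res M l ≠ 0 := fun h => hns ((res_eq_zero_iff hlm).1 h)
  have hnil : IsNilpotent (red M (z - l • blockElem c)) := by
    refine isNilpotent_red_of_omega_small hM (hzc.sub (hec.smul _)) (hzi.sub (hei.smul hlm))
      fun φ => ?_
    rw [omega_sub, omega_smul, omega_blockElem]
    split_ifs with hφ
    · rw [mul_one, hl, ← res_eq_iff (omega_mem_place hM φ hzc hzi) hlm]
      exact res_omega_eq_of_sameBlock hM (IsPBlock.sameBlock hM hc hφ hθ) hzc hzi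
    · rw [mul_zero, sub_zero]; exact hout φ hφ
  obtain ⟨k, hk⟩ := hnil
  set w := z - l • blockElem c with hw
  have hwi : Integral M w := hzi.sub (hei.smul hlm)
  have hpow : ∀ j : ℕ, ∃ v : MonoidAlgebra ℂ N, Integral M v ∧
      red M v = red M w ^ (j + 1) ∧ rx M N v = rx M N w ^ (j + 1) := by
    intro j
    induction j with
    | zero => exact ⟨w, hwi, (pow_one _).symm, (pow_one _).symm⟩
    | succ j ih =>
      obtain ⟨v, v1, v2, v3⟩ := ih
      exact ⟨v * w, v1.mul hwi, by rw [red_mul v1 hwi, v2, ← pow_succ],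
        by rw [rx_mul v1 hwi, v3, ← pow_succ]⟩
  obtain ⟨v, -, v2, v3⟩ := hpow k
  have hy : rx M N w ^ (k + 1) = 0 := by
    rw [← v3]
    refine fn_ext fun g => ?_
    by_cases hg : g ∈ N
    · rw [fn_rx_mem _ hg, ← fn_red, v2, pow_succ, hk, zero_mul, fn_zero, fn_zero]
    · rw [suppOn_rx _ g hg, fn_zero]
  have hrxw : rx M N w = a - res M l • bi M N c := fn_ext fun g => by
    rw [← hrx, bi_eq_rx, fn_sub, fn_smul]
    by_cases hg : g ∈ N
    · rw [fn_rx_mem _ hg, fn_rx_mem _ hg, fn_rx_mem _ hg, hw, fn_sub, fn_smul,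
        res_sub (hzi _) (mul_mem hlm (hei _)), res_mul hlm (hei _)]
    · rw [suppOn_rx _ g hg, suppOn_rx _ g hg, suppOn_rx _ g hg, mul_zero, sub_zero]
  set y := rx M N w with hydef
  have hyinv : InvOn R y := (invOn_rx (hzc.sub (hec.smul _))).mono hRN
  have hbry : br R y = (-(res M l)) • br R (bi M N c) := fn_ext fun g => by
    by_cases hg : g ∈ Subgroup.centralizer (R : Set G)
    · have ha0 : fn a g = 0 := by
        rw [← fn_trunc_mem a hg]; exact (congrArg (fun x => fn x g) ha.2.2.2).trans (fn_zero g)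
      rw [fn_smul, br, br, fn_trunc_mem _ hg, fn_trunc_mem _ hg, hrxw, fn_sub, fn_smul, ha0,
        zero_sub, neg_mul]
    · rw [fn_smul, suppOn_br R _ g hg, suppOn_br R _ g hg, mul_zero]
  have hbb : br R (bi M N c) * br R (bi M N c) = br R (bi M N c) := by
    rw [← br_mul hR ((invOn_bi c).mono hRN) ((invOn_bi c).mono hRN), bi_mul_self hM hc]
  have hinvpow : ∀ j : ℕ, InvOn R (y ^ (j + 1)) ∧
      br R (y ^ (j + 1)) = (-(res M l)) ^ (j + 1) • br R (bi M N c) := by
    intro j
    induction j with
    | zero => rw [Nat.zero_add, pow_one, pow_one]; exact ⟨hyinv, hbry⟩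
    | succ j ih =>
      refine ⟨by rw [pow_succ y]; exact ih.1.mul hyinv, ?_⟩
      rw [pow_succ y, br_mul hR ih.1 hyinv, ih.2, hbry, smul_mul_assoc, mul_smul_comm, smul_smul,
        hbb, ← pow_succ]
  have h0 := (hinvpow k).2
  rw [hy, br_zero] at h0
  refine hbr ?_
  have hne : (-(res M l)) ^ (k + 1) ≠ 0 := pow_ne_zero _ (neg_ne_zero.2 hs0)
  refine fn_ext fun g => ?_
  have := congrArg (fun x => fn x g) h0
  simp only [fn_zero, fn_smul] at this
  rw [fn_zero]
  exact (mul_eq_zero.1 this.symm).resolve_left hne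

/-- **The Brauer map on idempotents below a block of a normal subgroup**: it kills such an
idempotent only if it kills the block. -/
theorem br_ne_zero_of_graded (hM : IsPModular p M) {N T R : Subgroup G} [Fintype N] (hNT : N ≤ T)
    (hTN : ∀ t ∈ T, ∀ n ∈ N, t * n * t⁻¹ ∈ N) {c : Set (IrrCharacter N)} (hc : IsPBlock M c)
    (hR : IsPGroup p R) (hRN : R ≤ N) (hbr : br R (bi M N c) ≠ 0)
    {e : MonoidAlgebra (Res M) G} (hes : SuppOn T e) (hei : InvOn N e) (hee : e * e = e)
    (hec : e * bi M N c = e) (hne : e ≠ 0) : br R e ≠ 0 := by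
  classical
  intro hbe
  letI : Fintype (G ⧸ N) := Fintype.ofFinite _
  set K := Killed M N T R c with hKdef
  have heK : K e := ⟨hes, hei, hec, hbe⟩
  set tq : (G ⧸ N) → MonoidAlgebra (Res M) G → MonoidAlgebra (Res M) G :=
    fun q a => ofFn fun g => if (g : G ⧸ N) = q then fn a g else 0 with htq
  have hfn : ∀ q a g, fn (tq q a) g = if (g : G ⧸ N) = q then fn a g else 0 := fun q a g => by
    rw [htq, fn_ofFn]
  -- homogeneous killed elements
  set Hom : MonoidAlgebra (Res M) G → Prop :=
    fun a => K a ∧ ∃ d ∈ T, ∀ g, fn a g ≠ 0 → d⁻¹ * g ∈ N with hHom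
  have hzeroK : K 0 := ⟨fun g _ => fn_zero g, fun _ _ g => by rw [fn_zero, fn_zero],
    zero_mul _, br_zero R⟩
  have hHom0 : Hom 0 := ⟨hzeroK, 1, T.one_mem, fun g hg => absurd (fn_zero g) hg⟩
  have htqHom : ∀ q, Hom (tq q e) := by
    intro q
    refine ⟨⟨?_, ?_, ?_, ?_⟩, ?_⟩
    · intro g hg; rw [hfn, hes g hg]; simp
    · intro n hn g
      rw [hfn, hfn, hei n hn g]
      by_cases hg : g ∈ T
      · have hq : ((n * g * n⁻¹ : G) : G ⧸ N) = (g : G ⧸ N) := by
          rw [QuotientGroup.eq]
          have h1 := hTN g⁻¹ (T.inv_mem hg) n⁻¹ (N.inv_mem hn)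
          rw [inv_inv] at h1
          rw [show (n * g * n⁻¹)⁻¹ * g = n * (g⁻¹ * n⁻¹ * g) by group]
          exact N.mul_mem hn h1
        rw [hq]
      · rw [hes g hg]; simp
    · refine fn_ext fun g => ?_
      rw [fn_mul', hfn]
      conv_rhs => rw [← hec, fn_mul']
      rw [Finset.sum_congr rfl fun h _ => show fn (tq q e) (g * h⁻¹) * fn (bi M N c) h =
        if (g : G ⧸ N) = q then fn e (g * h⁻¹) * fn (bi M N c) h else 0 by
          by_cases hh : h ∈ N
          · rw [hfn, QuotientGroup.mk_mul_of_mem g (N.inv_mem hh), ite_mul, zero_mul]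
          · rw [suppOn_bi c h hh]; simp]
      split_ifs
      · rfl
      · exact Finset.sum_const_zero
    · refine fn_ext fun g => ?_
      by_cases hg : g ∈ Subgroup.centralizer (R : Set G)
      · have h0 : fn e g = 0 := by
          rw [← fn_trunc_mem e hg]; exact (congrArg (fun x => fn x g) hbe).trans (fn_zero g)
        rw [br, fn_trunc_mem _ hg, hfn, h0, fn_zero]; simp
      · rw [suppOn_br R _ g hg, fn_zero]
    · by_cases hq : ∃ d ∈ T, ((d : G) : G ⧸ N) = q
      · obtain ⟨d, hd, hdq⟩ := hq
        refine ⟨d, hd, fun g hg => ?_⟩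
        rw [hfn] at hg
        rw [← QuotientGroup.eq, hdq]
        by_contra h
        exact hg (if_neg fun h' => h h'.symm)
      · refine ⟨1, T.one_mem, fun g hg => absurd ?_ hg⟩
        rw [hfn]
        by_cases hgT : g ∈ T
        · rw [if_neg fun h' => hq ⟨g, hgT, h'⟩]
        · rw [hes g hgT]; simp
  -- segments of homogeneous sequences
  set m := Fintype.card (IrrCharacter N) with hm
  set L := Fintype.card (G ⧸ N) * m with hL
  have hvanish : ∀ a : ℕ → MonoidAlgebra (Res M) G, (∀ i, Hom (a i)) → seg a 0 L = 0 := by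
    intro a ha
    choose haK d hdT hd using ha
    set s : ℕ → G := fun i => seg d 0 i with hs
    have hsT : ∀ i, s i ∈ T := by
      intro i
      induction i with
      | zero => exact T.one_mem
      | succ i ih => exact T.mul_mem ih (hdT _)
    have hsupp : ∀ i n g, fn (seg a i n) g ≠ 0 →
        g ∈ T ∧ (s (i + n))⁻¹ * s i * g ∈ N := by
      intro i n
      induction n with
      | zero =>
        intro g hg
        rw [seg_zero, fn_one] at hg
        have : (1 : G) = g := by
          by_contra h; exact hg (if_neg h)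
        subst this
        simp
      | succ n ih =>
        intro g hg
        rw [seg_succ, fn_mul] at hg
        obtain ⟨h, -, hh⟩ := Finset.exists_ne_zero_of_sum_ne_zero hg
        obtain ⟨hhT, hh1⟩ := ih h (left_ne_zero_of_mul hh)
        have hh2 := hd _ _ (right_ne_zero_of_mul hh)
        have hgT : h⁻¹ * g ∈ T := by
          by_contra h'
          exact right_ne_zero_of_mul hh ((haK _).1 _ h')
        refine ⟨by simpa using T.mul_mem hhT hgT, ?_⟩
        have hsucc : s (i + (n + 1)) = s (i + n) * d (i + n) := by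
          show seg d 0 (i + n + 1) = _
          rw [seg_succ, Nat.zero_add]
        rw [hsucc, show (s (i + n) * d (i + n))⁻¹ * s i * g =
          (d (i + n))⁻¹ * ((s (i + n))⁻¹ * s i * h) * d (i + n) *
            ((d (i + n))⁻¹ * (h⁻¹ * g)) by group]
        refine N.mul_mem ?_ hh2
        simpa using hTN _ (T.inv_mem (hdT (i + n))) _ hh1
    have hsegK : ∀ i n, K (seg a i (n + 1)) := by
      intro i n
      induction n with
      | zero => rw [seg_succ, seg_zero, one_mul]; exact haK _
      | succ n ih => rw [seg_succ]; exact Killed.mul hM hR hRN ih (haK _)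
    -- pigeonhole on the prefixes
    obtain ⟨q, hq⟩ := Fintype.exists_lt_card_fiber_of_mul_lt_card (n := m)
      (fun i : Fin (L + 1) => ((s i : G) : G ⧸ N)) (by rw [Fintype.card_fin, hL]; omega)
    set I := Finset.univ.filter fun i : Fin (L + 1) => ((s i : G) : G ⧸ N) = q with hI
    set o := I.orderEmbOfFin (rfl : I.card = I.card) with ho
    have hIm : m < I.card := hq
    set i : ℕ → ℕ := fun k => if h : k < I.card then ((o ⟨k, h⟩ : Fin (L + 1)) : ℕ) else L
      with hi
    have hiv : ∀ k, (hk : k < I.card) → i k = ((o ⟨k, hk⟩ : Fin (L + 1)) : ℕ) :=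
      fun k hk => by rw [hi]; exact dif_pos hk
    have hile : ∀ k, k ≤ m → i k ≤ L := fun k hk => by
      rw [hiv k (lt_of_le_of_lt hk hIm)]; exact Nat.le_of_lt_succ (Fin.is_lt _)
    have hlt : ∀ k, k < m → i k < i (k + 1) := fun k hk => by
      rw [hiv k (lt_trans hk hIm), hiv (k + 1) (lt_of_le_of_lt hk hIm)]
      exact o.strictMono (by simp [Fin.lt_def])
    have hiq : ∀ k, k ≤ m → ((s (i k) : G) : G ⧸ N) = q := fun k hk => by
      rw [hiv k (lt_of_le_of_lt hk hIm)]
      exact (Finset.mem_filter.1 (Finset.orderEmbOfFin_mem I rfl _)).2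
    have hmono : ∀ k, k ≤ m → i 0 ≤ i k := by
      intro k
      induction k with
      | zero => exact fun _ => le_rfl
      | succ k ih => exact fun hk => (ih (by omega)).trans (hlt k (by omega)).le
    -- the gaps have degree one
    set b : ℕ → MonoidAlgebra (Res M) G :=
      fun k => if k < m then seg a (i k) (i (k + 1) - i k) else 0 with hb
    have hbK : ∀ k, K (b k) ∧ SuppOn N (b k) := by
      intro k
      by_cases hk : k < m
      · rw [hb]; simp only [if_pos hk]
        obtain ⟨n, hn⟩ := Nat.exists_eq_add_of_lt (hlt k hk)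
        refine ⟨by rw [show i (k + 1) - i k = n + 1 by omega]; exact hsegK _ _, fun g hg => ?_⟩
        by_contra hne'
        obtain ⟨-, h1⟩ := hsupp _ _ _ hne'
        rw [Nat.add_sub_cancel' (hlt k hk).le] at h1
        have h2 : (s (i (k + 1)))⁻¹ * s (i k) ∈ N := by
          rw [← QuotientGroup.eq, hiq (k + 1) hk, hiq k hk.le]
        exact hg (by simpa [mul_assoc] using N.mul_mem (N.inv_mem h2) h1)
      · rw [hb]; simp only [if_neg hk]
        exact ⟨hzeroK, fun g _ => fn_zero g⟩
    choose z hzc hzi hzr hzs using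
      fun k => exists_lift_small hM hc hR hRN hbr (hbK k).1 (hbK k).2
    have hbzero : seg b 0 m = 0 := by
      rw [← seg_eq_zero_of_omega_small hM z hzc hzi hzs]
      exact seg_congr fun k _ => (hzr _).symm
    have htel : ∀ k, k ≤ m → seg b 0 k = seg a (i 0) (i k - i 0) := by
      intro k
      induction k with
      | zero => intro _; rw [Nat.sub_self, seg_zero, seg_zero]
      | succ k ih =>
        intro hk
        have h0 := hmono k (by omega)
        have h1 := hlt k (by omega)
        rw [seg_succ, ih (by omega), Nat.zero_add,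
          show i (k + 1) - i 0 = (i k - i 0) + (i (k + 1) - i k) by omega, seg_add,
          Nat.add_sub_cancel' h0, hb]
        simp only [if_pos (show k < m by omega)]
    have h0 := hmono m le_rfl
    have h1 := hile m le_rfl
    rw [show L = (i 0 + (i m - i 0)) + (L - i m) by omega, seg_add, seg_add, Nat.zero_add,
      ← htel m le_rfl, hbzero, mul_zero, zero_mul]
  -- the powers of `e`
  have hclos : ∀ n, e ^ n ∈ AddSubmonoid.closure
      {x | ∃ a : ℕ → MonoidAlgebra (Res M) G, (∀ i, Hom (a i)) ∧ x = seg a 0 n} := by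
    intro n
    induction n with
    | zero => exact AddSubmonoid.subset_closure ⟨fun _ => 0, fun _ => hHom0, by rw [pow_zero]; rfl⟩
    | succ n ih =>
      rw [pow_succ]
      have hsum : e = ∑ q : G ⧸ N, tq q e := fn_ext fun g => by
        rw [fn_sum]; simp only [hfn]; rw [Finset.sum_ite_eq]; simp
      conv => arg 2; arg 2; rw [hsum]
      rw [Finset.mul_sum]
      refine AddSubmonoid.sum_mem _ fun q _ => ?_
      generalize e ^ n = x₀ at ih ⊢
      induction ih using AddSubmonoid.closure_induction with
      | mem x hx =>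
        obtain ⟨a, ha, rfl⟩ := hx
        refine AddSubmonoid.subset_closure ⟨Function.update a n (tq q e), fun j => ?_, ?_⟩
        · by_cases hj : j = n
          · subst hj; rw [Function.update_self]; exact htqHom q
          · rw [Function.update_of_ne hj]; exact ha j
        · rw [seg_succ, Nat.zero_add, Function.update_self, seg_congr (a := Function.update a n _)
            (b := a) fun k hk => Function.update_of_ne (by omega) _ _]
      | zero => rw [zero_mul]; exact zero_mem _
      | add x y _ _ hx hy => rw [add_mul]; exact add_mem hx hy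
  have hpow : e ^ L = 0 := by
    have hall : ∀ x ∈ AddSubmonoid.closure
        {x | ∃ a : ℕ → MonoidAlgebra (Res M) G, (∀ i, Hom (a i)) ∧ x = seg a 0 L}, x = 0 := by
      intro x hx
      induction hx using AddSubmonoid.closure_induction with
      | mem x hx => obtain ⟨a, ha, rfl⟩ := hx; exact hvanish a ha
      | zero => rfl
      | add x y _ _ hx hy => rw [hx, hy, add_zero]
    exact hall _ (hclos L)
  refine hne ?_
  have hidem : ∀ n : ℕ, e ^ (n + 1) = e := fun n => by
    induction n with
    | zero => rw [pow_one]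
    | succ n ih => rw [pow_succ, ih, hee]
  rw [← hidem L, pow_succ, hpow, zero_mul]

end Cfsg.Lib.Blocks
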