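import Mathlib
import Cfsg.Agent.Blocks.StabDefect
import Cfsg.Agent.Fusion.Saturation

/-!
# The fusion system of a block

Brauer pairs below a maximal pair and the conjugations between them form a saturated fusion
system.
-/

set_option autoImplicit false
set_option linter.unusedSectionVars false

namespace Cfsg.Lib.Blocks

open Cfsg.Lib.Fusion (IsMap img extSub)

universe u

variable {G : Type u} [Group G] [Fintype G] {M : Ideal AlgInt} {p : ℕ}

local notation "C⟨" P "⟩" => Subgroup.centralizer (SetLike.coe P)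

/-- The chain of normal inclusions, on indices. -/
abbrev IdxLE (p : ℕ) (M : Ideal AlgInt) (a b : BrauerPairIdx G) : Prop :=
  Relation.ReflTransGen (NormalSubpairRel p M) a b

lemma idxLE_conj [Fact p.Prime] (hM : IsPModular p M) {a b : BrauerPairIdx G}
    (h : IdxLE p M a b) (x : G) : IdxLE p M (conjIdx x a) (conjIdx x b) :=
  subpairLE_conj hM h x

lemma conjIdx_conjIdx (hM : IsPModular p M) {a : BrauerPairIdx G} (ha : IsPBlock M a.2) (x y : G) :
    conjIdx x (conjIdx y a) = conjIdx (x * y) a := by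
  refine idx_ext hM (map_conj_map a.1 x y) (isPBlock_conjBlock _ x (isPBlock_conjBlock _ y ha))
    (isPBlock_conjBlock _ _ ha) ?_
  show bi M _ (conjBlock _ x (conjBlock a.1 y a.2)) = bi M _ (conjBlock a.1 (x * y) a.2)
  rw [bi_conjBlock, bi_conjBlock, bi_conjBlock, cj_cj]

lemma conjIdx_one (hM : IsPModular p M) {a : BrauerPairIdx G} (ha : IsPBlock M a.2) :
    conjIdx 1 a = a := by
  refine idx_ext hM (map_conj_one a.1) (isPBlock_conjBlock _ _ ha) ha ?_
  show bi M _ (conjBlock a.1 1 a.2) = bi M _ a.2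
  rw [bi_conjBlock, cj_one]

lemma conjIdx_eq_self (hM : IsPModular p M) {a : BrauerPairIdx G} (ha : IsPBlock M a.2) {x : G}
    (hx : x ∈ Subgroup.normalizer (a.1 : Set G)) (hfix : cj x (bi M _ a.2) = bi M _ a.2) :
    conjIdx x a = a := by
  refine idx_ext hM (map_conj_of_mem_normalizer hx) (isPBlock_conjBlock _ _ ha) ha ?_
  show bi M _ (conjBlock a.1 x a.2) = bi M _ a.2
  rw [bi_conjBlock, hfix]

lemma conjIdx_of_mem (hM : IsPModular p M) {P : Subgroup G} {e : Set (IrrCharacter C⟨P⟩)}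
    (he : IsPBlock M e) {x : G} (hx : x ∈ P) : conjIdx x (⟨P, e⟩ : BrauerPairIdx G) = ⟨P, e⟩ :=
  conjIdx_eq_self hM he (Subgroup.le_normalizer hx) (cj_eq_self_of_suppOn (suppOn_bi e) hx)

lemma bi_congr_idx {a b : BrauerPairIdx G} (h : a = b) : bi M _ a.2 = bi M _ b.2 := by
  subst h; rfl

/-- Uniqueness below a pair, on indices. -/
lemma idx_unique [Fact p.Prime] (hM : IsPModular p M) {a a' b : BrauerPairIdx G}
    (hb : IsBrauerPair p M b.1 b.2) (h : IdxLE p M a b) (h' : IdxLE p M a' b) (he : a.1 = a'.1) :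
    a = a' := by
  obtain ⟨Q, f⟩ := a
  obtain ⟨Q', f'⟩ := a'
  obtain rfl : Q = Q' := he
  obtain rfl : f = f' :=
    ExistsUnique.unique (existsUnique_subpairLE hM hb (subpairLE_le h)) h h'
  rfl

/-- A conjugation of the block's fusion system. -/
def BlockConj (p : ℕ) (M : Ideal AlgInt) (P : Subgroup G) (e : Set (IrrCharacter C⟨P⟩))
    (Q : Subgroup G) (g : G) : Prop :=
  Q.map (MulAut.conj g).toMonoidHom ≤ P ∧
    ∃ f : Set (IrrCharacter C⟨Q⟩), SubpairLE p M Q f P e ∧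
      SubpairLE p M (Q.map (MulAut.conj g).toMonoidHom) (conjBlock Q g f) P e

lemma blockConj_iff [Fact p.Prime] (hM : IsPModular p M) {P Q : Subgroup G}
    {e : Set (IrrCharacter C⟨P⟩)} (hPe : IsBrauerPair p M P e) {f : Set (IrrCharacter C⟨Q⟩)}
    (hle : SubpairLE p M Q f P e) (g : G) :
    BlockConj p M P e Q g ↔ IdxLE p M (conjIdx g ⟨Q, f⟩) ⟨P, e⟩ := by
  constructor
  · rintro ⟨-, f', hf', hg⟩
    obtain rfl : f' = f :=
      ExistsUnique.unique (existsUnique_subpairLE hM hPe (subpairLE_le hle)) hf' hle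
    exact hg
  · exact fun h => ⟨subpairLE_le h, f, hle, h⟩

lemma BlockConj.le [Fact p.Prime] {P Q : Subgroup G} {e : Set (IrrCharacter C⟨P⟩)} {g : G}
    (h : BlockConj p M P e Q g) : Q ≤ P := by
  obtain ⟨-, f, hf, -⟩ := h; exact subpairLE_le hf

lemma BlockConj.comp [Fact p.Prime] (hM : IsPModular p M) {P Q Q' : Subgroup G}
    {e : Set (IrrCharacter C⟨P⟩)} (hPe : IsBrauerPair p M P e) {g k : G}
    (h : BlockConj p M P e Q g) (h' : BlockConj p M P e Q' k)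
    (hle : Q.map (MulAut.conj g).toMonoidHom ≤ Q') : BlockConj p M P e Q (k * g) := by
  obtain ⟨-, f, hf, hg⟩ := h
  obtain ⟨-, f', hf', hk⟩ := h'
  have hQ' := subpairLE_isBrauerPair hPe hf'
  obtain ⟨m, hm, -⟩ := existsUnique_subpairLE hM hQ' hle
  have heq : (⟨_, m⟩ : BrauerPairIdx G) = conjIdx g ⟨Q, f⟩ :=
    idx_unique (a := ⟨_, m⟩) hM (b := ⟨P, e⟩) hPe (hm.trans hf') hg rfl
  refine (blockConj_iff hM hPe hf _).2 ?_
  rw [← conjIdx_conjIdx (a := ⟨Q, f⟩) hM (subpairLE_isBrauerPair hPe hf).2, ← heq]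
  exact (idxLE_conj hM hm k).trans hk

lemma BlockConj.inv [Fact p.Prime] (hM : IsPModular p M) {P Q : Subgroup G}
    {e : Set (IrrCharacter C⟨P⟩)} (hPe : IsBrauerPair p M P e) {g : G}
    (h : BlockConj p M P e Q g) :
    BlockConj p M P e (Q.map (MulAut.conj g).toMonoidHom) g⁻¹ := by
  obtain ⟨-, f, hf, hg⟩ := h
  refine (blockConj_iff hM hPe hg _).2 ?_
  show IdxLE p M (conjIdx g⁻¹ (conjIdx g ⟨Q, f⟩)) ⟨P, e⟩
  rw [conjIdx_conjIdx (a := ⟨Q, f⟩) hM (subpairLE_isBrauerPair hPe hf).2, inv_mul_cancel,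
    conjIdx_one (a := ⟨Q, f⟩) hM (subpairLE_isBrauerPair hPe hf).2]
  exact hf

lemma blockConj_of_mem [Fact p.Prime] (hM : IsPModular p M) {P Q : Subgroup G}
    {e : Set (IrrCharacter C⟨P⟩)} (hPe : IsBrauerPair p M P e) (hQ : Q ≤ P) {g : G} (hg : g ∈ P) :
    BlockConj p M P e Q g := by
  obtain ⟨f, hf, -⟩ := existsUnique_subpairLE hM hPe hQ
  refine (blockConj_iff hM hPe hf g).2 ?_
  rw [← conjIdx_of_mem hM hPe.2 hg]
  exact idxLE_conj hM hf g

/-- The fusion system of a block on a pair. -/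
noncomputable def blockSystem [Fact p.Prime] (hM : IsPModular p M) {P : Subgroup G}
    {e : Set (IrrCharacter C⟨P⟩)} (hPe : IsBrauerPair p M P e) : FusionSystem P where
  Hom Q := {φ | Q ≤ P ∧ ∃ g : G, (∀ u : Q, φ u = g * (u : G) * g⁻¹) ∧ BlockConj p M P e Q g}
  le_of_mem := by
    rintro Q φ ⟨hQ, g, hg, hc, -⟩
    exact ⟨hQ, fun x => by rw [hg]; exact hc ⟨x, x.2, rfl⟩⟩
  injective_of_mem := by
    rintro Q φ ⟨-, g, hg, -⟩ a b hab
    rw [hg, hg] at hab
    exact Subtype.ext (mul_left_cancel (mul_right_cancel hab))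
  conj_mem := by
    intro Q g hQ hg
    exact ⟨hQ, g, fun _ => rfl, blockConj_of_mem hM hPe hQ hg⟩
  comp_mem := by
    rintro Q Q' φ ψ ⟨hQ, g, hg, hgc⟩ ⟨-, k, hk, hkc⟩ h
    refine ⟨hQ, k * g, fun u => ?_, BlockConj.comp hM hPe hgc hkc ?_⟩
    · show ψ ⟨φ u, h u⟩ = _
      rw [hk]
      show k * φ u * k⁻¹ = _
      rw [hg, mul_inv_rev]
      simp only [mul_assoc]
    · rintro _ ⟨u, hu, rfl⟩
      have := h ⟨u, hu⟩
      rw [hg] at this
      simpa using this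
  inv_mem := by
    rintro Q φ ⟨hQ, g, hg, hgc⟩
    refine ⟨conjHom φ.range g⁻¹, ⟨?_, g⁻¹, fun _ => rfl, ?_⟩, fun x => ?_⟩
    · rw [range_conj_eq hg]; exact hgc.1
    · rw [range_conj_eq hg]; exact BlockConj.inv hM hPe hgc
    · show g⁻¹ * φ x * g⁻¹⁻¹ = (x : G)
      rw [hg]; group

theorem isBlockFusionSystemOn_blockSystem [Fact p.Prime] (hM : IsPModular p M)
    {B : Set (IrrCharacter G)} {P : Subgroup G} {e : Set (IrrCharacter C⟨P⟩)}
    (hmax : IsMaximalBrauerPair p M B P e) :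
    IsBlockFusionSystemOn p M B P e (blockSystem hM hmax.1.1) :=
  ⟨hmax, fun _ _ => Iff.rfl⟩

/-! ### Chains inside a subgroup -/

/-- A pair seen inside a subgroup containing it. -/
noncomputable def downIdx {X : Subgroup G} (a : BrauerPairIdx G) (h : a.1 ≤ X) : BrauerPairIdx X :=
  ⟨a.1.subgroupOf X, downSet h a.2⟩

theorem normalSubpair_down [Fact p.Prime] (hM : IsPModular p M) {X : Subgroup G} [Fintype X]
    {a b : BrauerPairIdx G} (h : NormalSubpairRel p M a b) (ha : a.1 ≤ X) (hb : b.1 ≤ X)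
    (hC : C⟨a.1⟩ ≤ X) : NormalSubpairRel p M (downIdx a ha) (downIdx b hb) := by
  obtain ⟨hA, hB, hle, hN, hfix, hbr⟩ := (isNormalSubpair_iff hM _ _ _ _).1 h
  have hCb : C⟨b.1⟩ ≤ X := (le_centralizer_of_le hle).trans hC
  refine (isNormalSubpair_iff (G := X) hM _ _ _ _).2 ⟨⟨hA.1.comap_subtype, ?_⟩,
    ⟨hB.1.comap_subtype, ?_⟩, fun x hx => hle hx, ?_, ?_, ?_⟩
  · exact isPBlock_downSet ha hC hA.2
  · exact isPBlock_downSet hb hCb hB.2
  · intro x hx
    refine Subgroup.mem_normalizer_iff.2 fun y => ?_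
    exact Subgroup.mem_normalizer_iff.1 (hN hx) (y : G)
  · intro x hx
    rw [← (emb_injective X).eq_iff, ← cj_emb]
    show cj (x : G) (emb X (bi M _ (downSet ha a.2))) = emb X (bi M _ (downSet ha a.2))
    rw [emb_bi_downSet ha hC]
    exact hfix _ hx
  · rw [← (emb_injective X).eq_iff, emb_mul]
    show emb X (br (b.1.subgroupOf X) (bi M _ (downSet ha a.2))) * emb X (bi M _ (downSet hb b.2))
      = emb X (bi M _ (downSet hb b.2))
    rw [emb_br X b.1 hb, emb_bi_downSet ha hC, emb_bi_downSet hb hCb]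
    exact hbr

theorem idxLE_down [Fact p.Prime] (hM : IsPModular p M) {X : Subgroup G} [Fintype X]
    {a b : BrauerPairIdx G} (h : IdxLE p M a b) (hb : b.1 ≤ X) :
    ∀ ha : a.1 ≤ X, C⟨a.1⟩ ≤ X → IdxLE p M (downIdx a ha) (downIdx b hb) := by
  induction h using Relation.ReflTransGen.head_induction_on with
  | refl => exact fun _ _ => Relation.ReflTransGen.refl
  | @head a c hac hcb ih =>
    intro ha hC
    have hc : c.1 ≤ X := le_trans (subpairLE_le (p := p) (M := M) hcb) hb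
    exact Relation.ReflTransGen.head (normalSubpair_down hM hac ha hc hC)
      (ih hc ((le_centralizer_of_le hac.2.2.1).trans hC))

/-! ### Saturation -/

/-- At a fully normalised subgroup the normaliser part is the defect group. -/
theorem defect_of_fullyNormalized [Fact p.Prime] (hM : IsPModular p M) {B : Set (IrrCharacter G)}
    {P Q T : Subgroup G} {e : Set (IrrCharacter C⟨P⟩)} {F : FusionSystem P}
    (hF : IsBlockFusionSystemOn p M B P e F) {f : Set (IrrCharacter C⟨Q⟩)}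
    (hle : SubpairLE p M Q f P e) (hfn : F.IsFullyNormalized Q) (hT : IsPairStab Q f T) :
    P ⊓ Subgroup.normalizer (Q : Set G) ≤ T ∧
    IsDefectGroup p M f ((P ⊓ C⟨Q⟩).subgroupOf C⟨Q⟩) ∧
    (Nat.card T).factorization p =
      (Nat.card (C⟨Q⟩ ⊔ (P ⊓ Subgroup.normalizer (Q : Set G)) : Subgroup G)).factorization p := by
  classical
  letI := Fintype.ofFinite T
  have hmax := hF.1
  have hB := isBrauerPairOf_of_le hM hmax hle
  obtain ⟨F₀, hF₀, -, hF₀b, -⟩ := hT.exists_block hM hB.1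
  obtain ⟨hPT, D, hD, hPD⟩ := exists_defect_stab_ge hM hmax.1.1 hle hT hF₀ hF₀b
  obtain ⟨x, hx, heq, -⟩ := exists_conj_defect_stab hM hmax hB hT hF₀ hF₀b hD
  have h1 := hfn.2 _ ((blockFusion_isConj_iff hM hF hle _).2 ⟨x, rfl, hx⟩)
  obtain rfl : (P ⊓ Subgroup.normalizer (Q : Set G)).subgroupOf T = D := by
    refine Subgroup.eq_of_le_of_card_ge hPD ?_
    rw [Nat.card_congr (Subgroup.subgroupOfEquivOfLe hPT).toEquiv]
    refine le_trans (le_of_eq ?_) h1
    rw [FusionSystem.normalizerIn, ← heq, card_map_conj]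
    exact Nat.card_congr (Subgroup.equivMapOfInjective _ _ (Subgroup.subtype_injective _)).toEquiv
  obtain ⟨h2, h3⟩ := stab_defect hM hB.1 hT hF₀ hF₀b hD
  rw [Subgroup.map_subgroupOf_eq_of_le hPT] at h2 h3
  refine ⟨hPT, ?_, h3⟩
  rwa [inf_assoc, inf_eq_right.2 (Subgroup.centralizer_le_normalizer (Q : Set G))] at h2

lemma stab_iff_blockConj [Fact p.Prime] (hM : IsPModular p M) {P Q T : Subgroup G}
    {e : Set (IrrCharacter C⟨P⟩)} (hPe : IsBrauerPair p M P e) {f : Set (IrrCharacter C⟨Q⟩)}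
    (hle : SubpairLE p M Q f P e) (hT : IsPairStab Q f T) (g : G) :
    g ∈ T ↔ g ∈ Subgroup.normalizer (Q : Set G) ∧ BlockConj p M P e Q g := by
  have hf := (subpairLE_isBrauerPair hPe hle).2
  rw [hT g]
  refine and_congr_right fun hg => ?_
  rw [stabilizes_iff_of_normalizer hM hf hg, blockConj_iff hM hPe hle]
  constructor
  · intro h
    rw [conjIdx_eq_self (a := ⟨Q, f⟩) hM hf hg h]
    exact hle
  · intro h
    have heq : conjIdx g ⟨Q, f⟩ = ⟨Q, f⟩ :=
      idx_unique hM (b := ⟨P, e⟩) hPe h hle (map_conj_of_mem_normalizer hg)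
    have h1 := bi_congr_idx (M := M) heq
    simp only [conjIdx] at h1
    rwa [bi_conjBlock] at h1

/-- The automiser is induced by the stabiliser. -/
theorem autGroup_blockSystem [Fact p.Prime] (hM : IsPModular p M) {B : Set (IrrCharacter G)}
    {P Q T : Subgroup G} {e : Set (IrrCharacter C⟨P⟩)} {F : FusionSystem P}
    (hF : IsBlockFusionSystemOn p M B P e F) {f : Set (IrrCharacter C⟨Q⟩)}
    (hle : SubpairLE p M Q f P e) (hT : IsPairStab Q f T) :
    F.autGroup Q = autInducedBy T Q := by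
  have hQP := subpairLE_le hle
  ext α
  rw [Cfsg.Lib.Fusion.mem_autGroup hQP, Cfsg.Lib.Fusion.mem_autInducedBy, hF.2]
  constructor
  · rintro ⟨-, g, hg, hc⟩
    have hgN : g ∈ Subgroup.normalizer (Q : Set G) :=
      Cfsg.Lib.Fusion.mem_normalizer_of_mem_autInducedBy (α := α) fun x => hg x
    exact ⟨g, (stab_iff_blockConj hM hF.1.1.1 hle hT g).2 ⟨hgN, hc⟩, fun x => hg x⟩
  · rintro ⟨g, hg, hαg⟩
    obtain ⟨-, hc⟩ := (stab_iff_blockConj hM hF.1.1.1 hle hT g).1 hg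
    exact ⟨hQP, g, fun x => hαg x, hc⟩

/-- Fully normalised subgroups are fully automised. -/
theorem fullyAutomized_block [Fact p.Prime] (hM : IsPModular p M) {B : Set (IrrCharacter G)}
    {P Q : Subgroup G} {e : Set (IrrCharacter C⟨P⟩)} {F : FusionSystem P}
    (hF : IsBlockFusionSystemOn p M B P e F) (hfn : F.IsFullyNormalized Q) :
    F.IsFullyAutomized p Q := by
  classical
  have hPe := hF.1.1.1
  obtain ⟨f, hle, -⟩ := existsUnique_subpairLE hM hPe hfn.1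
  have hf := (subpairLE_isBrauerPair hPe hle).2
  obtain ⟨T, hT⟩ : ∃ T : Subgroup G, IsPairStab Q f T := ⟨_, (isPairStab_iff hM hf).2 rfl⟩
  obtain ⟨hPT, -, hv⟩ := defect_of_fullyNormalized hM hF hle hfn hT
  obtain ⟨-, hCT⟩ := hT.self_le hM hf
  rw [Cfsg.Lib.Fusion.isFullyAutomized_iff hPe.1]
  refine ⟨hfn.1, ?_⟩
  rw [autGroup_blockSystem hM hF hle hT]
  set ψ : T →* MulAut Q := Q.normalizerMonoidHom.comp (Subgroup.inclusion hT.le_normalizer) with hψ
  set Y := P ⊓ Subgroup.normalizer (Q : Set G) with hY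
  have e1 : autInducedBy T Q = ψ.range := by
    ext α
    rw [Cfsg.Lib.Fusion.mem_autInducedBy]
    constructor
    · rintro ⟨g, hg, eg⟩
      exact ⟨⟨g, hg⟩, MulEquiv.ext fun x => Subtype.ext (eg x).symm⟩
    · rintro ⟨g, rfl⟩
      exact ⟨g, g.2, fun x => rfl⟩
  have e2 : autInducedBy P Q = (Y.subgroupOf T).map ψ := by
    ext α
    rw [Cfsg.Lib.Fusion.mem_autInducedBy]
    constructor
    · rintro ⟨g, hg, eg⟩
      have hgN := Cfsg.Lib.Fusion.mem_normalizer_of_mem_autInducedBy eg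
      exact ⟨⟨g, hPT ⟨hg, hgN⟩⟩, ⟨hg, hgN⟩, MulEquiv.ext fun x => Subtype.ext (eg x).symm⟩
    · rintro ⟨g, hg, rfl⟩
      exact ⟨g, hg.1, fun x => rfl⟩
  have hker : C⟨Q⟩.subgroupOf T ≤ ψ.ker := by
    intro c hc
    refine MulEquiv.ext fun x => Subtype.ext ?_
    show (c : G) * x * (c : G)⁻¹ = x
    have hx : (x : G) * c = c * x := Subgroup.mem_centralizer_iff.1 hc (x : G) x.2
    rw [← hx, mul_inv_cancel_right]
  have hidx : ¬ p ∣ ((C⟨Q⟩ ⊔ Y).subgroupOf T).index := by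
    have h := congrArg (fun n : ℕ => n.factorization p)
      (Subgroup.card_mul_index ((C⟨Q⟩ ⊔ Y).subgroupOf T))
    have hc : Nat.card ((C⟨Q⟩ ⊔ Y).subgroupOf T) = Nat.card (C⟨Q⟩ ⊔ Y : Subgroup G) :=
      Nat.card_congr (Subgroup.subgroupOfEquivOfLe (sup_le hCT hPT)).toEquiv
    simp only [Nat.factorization_mul Nat.card_pos.ne' Subgroup.index_ne_zero_of_finite,
      Finsupp.add_apply, hc, hv] at h
    intro hd
    have := (Fact.out : p.Prime).factorization_pos_of_dvd Subgroup.index_ne_zero_of_finite hd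
    omega
  rw [e1, e2, MonoidHom.range_eq_map, Subgroup.relIndex_map_map, top_sup_eq,
    Subgroup.relIndex_top_right]
  refine fun hdvd => hidx (hdvd.trans (Subgroup.index_dvd_of_le ?_))
  rw [Subgroup.subgroupOf_sup hCT hPT]
  exact sup_le (hker.trans le_sup_right) le_sup_left

/-- Fully normalised subgroups are receptive. -/
theorem receptive_block [Fact p.Prime] (hM : IsPModular p M) {B : Set (IrrCharacter G)}
    {P Q : Subgroup G} {e : Set (IrrCharacter C⟨P⟩)} {F : FusionSystem P}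
    (hF : IsBlockFusionSystemOn p M B P e F) (hfn : F.IsFullyNormalized Q) :
    F.IsReceptive Q := by
  classical
  have hPe := hF.1.1.1
  have hQP := hfn.1
  obtain ⟨f, hle, -⟩ := existsUnique_subpairLE hM hPe hQP
  have hfp := subpairLE_isBrauerPair hPe hle
  obtain ⟨T, hT⟩ : ∃ T : Subgroup G, IsPairStab Q f T := ⟨_, (isPairStab_iff hM hfp.2).2 rfl⟩
  obtain ⟨hPT, hdef, -⟩ := defect_of_fullyNormalized hM hF hle hfn hT
  obtain ⟨hQT, hCT⟩ := hT.self_le hM hfp.2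
  refine Cfsg.Lib.Fusion.receptive_of_extend hQP fun R φ hφ hi => ?_
  obtain ⟨φh, hφh, hφe⟩ := id hφ
  obtain ⟨hR, g, hg, hgc⟩ := (hF.2 R φh).1 hφh
  have hgφ : ∀ x ∈ R, φ x = g * x * g⁻¹ := fun x hx => (hφe ⟨x, hx⟩).symm.trans (hg ⟨x, hx⟩)
  have hRg : R.map (MulAut.conj g).toMonoidHom = Q := by
    rw [← hi, ← range_conj_eq hg, hφ.range_eq hφe]
  obtain ⟨h, hh, -⟩ := existsUnique_subpairLE hM hPe hR
  have hgc' : IdxLE p M (conjIdx g ⟨R, h⟩) ⟨P, e⟩ := (blockConj_iff hM hPe hh g).1 hgc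
  have hRQ : conjIdx g ⟨R, h⟩ = ⟨Q, f⟩ :=
    idx_unique hM (b := ⟨P, e⟩) hPe hgc' hle hRg
  set Y := P ⊓ Subgroup.normalizer (Q : Set G) with hY
  set X : Subgroup G := C⟨Q⟩ ⊔ Y with hX
  have hXT : X ≤ T := sup_le hCT hPT
  have hXN : X ≤ Subgroup.normalizer (Q : Set G) := hXT.trans hT.le_normalizer
  have hCX : C⟨Q⟩ ≤ X := le_sup_left
  have hYX : Y ≤ X := le_sup_right
  have hQY : Q ≤ Y := le_inf hQP Subgroup.le_normalizer
  -- the extender, moved to `X`
  set N := extSub P R φ with hN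
  have hNP : N ≤ P := (Cfsg.Lib.Fusion.extSub_le R φ).trans inf_le_left
  have hRN : R ≤ N := Cfsg.Lib.Fusion.le_extSub hφ
  set N' := N.map (MulAut.conj g).toMonoidHom with hN'
  have hN'X : N' ≤ X := by
    rintro _ ⟨t, ht, rfl⟩
    obtain ⟨-, htn, k, hk, ek⟩ := Cfsg.Lib.Fusion.mem_extSub.1 ht
    have hkN : k ∈ Subgroup.normalizer (Q : Set G) := by
      refine Cfsg.Lib.Fusion.mem_normalizer_of_maps_finite fun y hy => ?_
      rw [← hRg] at hy
      obtain ⟨x, hx, rfl⟩ := hy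
      show k * (g * x * g⁻¹) * k⁻¹ ∈ Q
      rw [← hgφ x hx, ← ek x hx, ← hi]
      exact Cfsg.Lib.Fusion.IsMap.apply_mem_img ((Subgroup.mem_normalizer_iff.1 htn x).1 hx)
    have hc : k⁻¹ * (g * t * g⁻¹) ∈ C⟨Q⟩ := by
      refine Subgroup.mem_centralizer_iff.2 fun y hy => ?_
      rw [← hRg] at hy
      obtain ⟨x, hx, rfl⟩ := hy
      have h2 := ek x hx
      rw [hgφ x hx, hgφ _ ((Subgroup.mem_normalizer_iff.1 htn x).1 hx)] at h2
      show g * x * g⁻¹ * (k⁻¹ * (g * t * g⁻¹)) = k⁻¹ * (g * t * g⁻¹) * (g * x * g⁻¹)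
      calc g * x * g⁻¹ * (k⁻¹ * (g * t * g⁻¹))
          = k⁻¹ * (k * (g * x * g⁻¹) * k⁻¹) * (g * t * g⁻¹) := by group
        _ = k⁻¹ * (g * t * g⁻¹) * (g * x * g⁻¹) := by rw [← h2]; group
    have := X.mul_mem (hYX ⟨hk, hkN⟩) (hCX hc)
    simpa [mul_assoc] using this
  obtain ⟨hN₁, hn, -⟩ := existsUnique_subpairLE hM hPe hNP
  have hNpair := subpairLE_isBrauerPair hPe hn
  have hRn : IdxLE p M ⟨R, h⟩ ⟨N, hN₁⟩ := by
    obtain ⟨h', hh', -⟩ := existsUnique_subpairLE hM hNpair hRN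
    rwa [idx_unique hM (b := ⟨P, e⟩) hPe hh (hh'.trans hn) rfl]
  have hQn : IdxLE p M ⟨Q, f⟩ (conjIdx g ⟨N, hN₁⟩) := hRQ ▸ idxLE_conj hM hRn g
  have hN'pair : IsBrauerPair p M N' (conjBlock N g hN₁) := IsBrauerPair.conjBlock hNpair g
  have hQN' : Q ≤ N' := subpairLE_le hQn
  obtain ⟨-, -, -, -, -, hbrN⟩ := (isNormalSubpair_iff hM _ _ _ _).1
    (normalSubpair_of_le hM hN'pair hQn Relation.ReflTransGen.refl hQN' (hN'X.trans hXN))
  obtain ⟨fY, hfY, -⟩ := existsUnique_subpairLE hM hPe (inf_le_left : Y ≤ P)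
  have hYpair := subpairLE_isBrauerPair hPe hfY
  obtain ⟨-, -, -, -, -, hbrY⟩ := (isNormalSubpair_iff hM _ _ _ _).1
    (normalSubpair_of_le hM hPe hle hfY hQY inf_le_right)
  -- the block of `X`
  letI := Fintype.ofFinite X
  obtain ⟨E, hE, hEe⟩ := exists_block_stabilizer hM hfp.1 (hQY.trans hYX) hXN hCX hfp.2
    fun x hx => ((hT x).1 (hXT hx)).2
  have hEb : bi M X E = bi M C⟨Q⟩ f := by rw [← red_bx, hEe, red_bx]
  have hCY : C⟨Y⟩ ≤ X := (le_centralizer_of_le hQY).trans hCX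
  have hCN' : C⟨N'⟩ ≤ X := (le_centralizer_of_le hQN').trans hCX
  have hpY : IsBrauerPairOf p M E (Y.subgroupOf X) (downSet hYX fY) :=
    (pair_down_iff hM hYX hCY hYpair.1 hE hYpair.2).2 (by rw [hEb]; exact hbrY)
  have hpN : IsBrauerPairOf p M E (N'.subgroupOf X) (downSet hN'X (conjBlock N g hN₁)) :=
    (pair_down_iff hM hN'X hCN' hN'pair.1 hE hN'pair.2).2 (by rw [hEb]; exact hbrN)
  have hYdef : IsDefectGroup p M E (Y.subgroupOf X) := by
    obtain ⟨D, hD⟩ := exists_defectGroup hM hE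
    obtain ⟨x, hx⟩ := exists_le_conj_of_pair hM hD hpY
    suffices hcard : Nat.card (D.map X.subtype) ≤ Nat.card Y by
      have heq : Y.subgroupOf X = D.map (MulAut.conj x).toMonoidHom := by
        refine Subgroup.eq_of_le_of_card_ge hx ?_
        rw [card_map_conj, Nat.card_congr (Subgroup.subgroupOfEquivOfLe hYX).toEquiv]
        rwa [← Nat.card_congr (Subgroup.equivMapOfInjective D _ X.subtype_injective).toEquiv] at hcard
      rw [heq]
      exact IsDefectGroup.conj hM hE hD x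
    set D' := D.map X.subtype with hD'
    have hDX : D' ≤ X := Subgroup.map_subtype_le D
    have hD'p : IsPGroup p D' := (IsDefectGroup.isPGroup hD).map _
    have hne := br_defect_ne_zero hM hE hD
    letI := Fintype.ofFinite C⟨Q⟩
    obtain ⟨D₁, hD₁, hle₁⟩ := exists_defect_ge_of_br hM hfp.2 (H := C⟨Q⟩)
      (hD'p.to_le inf_le_left : IsPGroup p (D' ⊓ C⟨Q⟩ : Subgroup G)) inf_le_right (fun h0 => hne (by
        rw [hEb, ← br_br (inf_le_left : D' ⊓ C⟨Q⟩ ≤ D'), h0, br_zero]))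
    have h1 : Nat.card (D' ⊓ C⟨Q⟩ : Subgroup G) ≤ Nat.card (P ⊓ C⟨Q⟩ : Subgroup G) := by
      rw [← Nat.card_congr (Subgroup.subgroupOfEquivOfLe
        (inf_le_right : D' ⊓ C⟨Q⟩ ≤ C⟨Q⟩)).toEquiv, ← Nat.card_congr (Subgroup.subgroupOfEquivOfLe
        (inf_le_right : P ⊓ C⟨Q⟩ ≤ C⟨Q⟩)).toEquiv, ← IsDefectGroup.card_eq hM hfp.2 hD₁ hdef]
      exact Subgroup.card_le_of_le hle₁
    have hnorm : ∀ Z : Subgroup G, Z ≤ X → Z ≤ Subgroup.normalizer (C⟨Q⟩ : Set G) := fun Z hZ y hy =>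
      centralizer_le_normalizer_centralizer (hXN (hZ hy)) le_rfl
    have eD := Cfsg.Lib.Coprime.card_sup_mul_card_inf (hnorm D' hDX)
    have eY := Cfsg.Lib.Coprime.card_sup_mul_card_inf (hnorm Y hYX)
    have eYC : C⟨Q⟩ ⊓ Y = P ⊓ C⟨Q⟩ := by
      rw [inf_comm, hY, inf_assoc,
        inf_eq_right.2 (Subgroup.centralizer_le_normalizer (Q : Set G))]
    rw [← hX, eYC] at eY
    rw [inf_comm C⟨Q⟩ D'] at eD
    have h2 : Nat.card (C⟨Q⟩ ⊔ D' : Subgroup G) ≤ Nat.card X :=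
      Subgroup.card_le_of_le (sup_le hCX hDX)
    refine Nat.le_of_mul_le_mul_left ?_ (Nat.card_pos (α := C⟨Q⟩))
    rw [← eD, ← eY]
    exact Nat.mul_le_mul h2 h1
  obtain ⟨m, hm⟩ := exists_conj_subpairLE (G := X) hM (isMaximal_of_isDefectGroup hM hpY hYdef) hpN
  set N'' := N'.map (MulAut.conj (m : G)).toMonoidHom with hN''
  have hmap : (N'.subgroupOf X).map (MulAut.conj m).toMonoidHom = N''.subgroupOf X := by
    ext y
    constructor
    · rintro ⟨z, hz, rfl⟩; exact ⟨(z : G), hz, rfl⟩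
    · rintro ⟨z, hz, hzy⟩
      exact ⟨⟨z, hN'X hz⟩, hz, Subtype.ext hzy⟩
  have hN''Y : N'' ≤ Y := by
    rintro _ ⟨z, hz, rfl⟩
    have h1 := subpairLE_le hm (show m * ⟨z, hN'X hz⟩ * m⁻¹ ∈ _ from ⟨⟨z, hN'X hz⟩, hz, rfl⟩)
    exact h1
  have hN''P : N'' ≤ P := hN''Y.trans inf_le_left
  obtain ⟨k, hk, -⟩ := existsUnique_subpairLE hM hPe hN''P
  have hkY : IdxLE p M ⟨N'', k⟩ ⟨Y, fY⟩ := by
    obtain ⟨k', hk', -⟩ := existsUnique_subpairLE hM hYpair hN''Y
    rwa [idx_unique hM (b := ⟨P, e⟩) hPe hk (hk'.trans hfY) rfl]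
  have hQN'' : Q ≤ N'' := by
    rw [← map_conj_of_mem_normalizer (hXN m.2)]; exact Subgroup.map_mono hQN'
  have hCN'' : C⟨N''⟩ ≤ X := (le_centralizer_of_le hQN'').trans hCX
  have hdown : IdxLE p M (downIdx ⟨N'', k⟩ (hN''Y.trans hYX)) (downIdx ⟨Y, fY⟩ hYX) :=
    idxLE_down hM hkY hYX _ hCN''
  have hidx := idx_unique (G := X) hM hpY.1 hm hdown hmap
  have hkey : conjIdx (m : G) (conjIdx g ⟨N, hN₁⟩) = ⟨N'', k⟩ := by
    refine idx_ext hM rfl (isPBlock_conjBlock _ _ hN'pair.2) (subpairLE_isBrauerPair hPe hk).2 ?_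
    have h := congrArg (fun a : BrauerPairIdx X => emb X (bi M _ a.2)) hidx
    simp only [downIdx, bi_conjBlock, ← cj_emb, emb_bi_downSet hN'X hCN',
      emb_bi_downSet (hN''Y.trans hYX) hCN''] at h
    show bi M _ (conjBlock N' (m : G) (conjBlock N g hN₁)) = bi M C⟨N''⟩ k
    rw [bi_conjBlock]
    exact h
  -- split off the part in `P`
  have hYnorm : Y ≤ Subgroup.normalizer (C⟨Q⟩ : Set G) := fun y hy =>
    centralizer_le_normalizer_centralizer hy.2 le_rfl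
  obtain ⟨y, hy, c, hc, hm'⟩ : ∃ y ∈ Y, ∃ c ∈ C⟨Q⟩, (m : G) = y * c := by
    have h1 : (m : G) ∈ ((Y ⊔ C⟨Q⟩ : Subgroup G) : Set G) := by rw [sup_comm]; exact m.2
    rw [Subgroup.coe_mul_of_left_le_normalizer_right _ _ hYnorm] at h1
    obtain ⟨y, hy, c, hc, hyc⟩ := h1
    exact ⟨y, hy, c, hc, hyc.symm⟩
  have hfin : IdxLE p M (conjIdx (c * g) ⟨N, hN₁⟩) ⟨P, e⟩ := by
    have h1 := idxLE_conj hM hk y⁻¹
    rw [← hkey, conjIdx_of_mem hM hPe.2 (P.inv_mem hy.1),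
      conjIdx_conjIdx (a := ⟨N, hN₁⟩) hM hNpair.2,
      conjIdx_conjIdx (a := ⟨N, hN₁⟩) hM hNpair.2, hm',
      show y⁻¹ * (y * c * g) = c * g by group] at h1
    exact h1
  refine ⟨fun t => (c * g) * t * (c * g)⁻¹, ⟨conjHom N (c * g), (hF.2 N _).2
    ⟨hNP, c * g, fun _ => rfl, (blockConj_iff hM hPe hn _).2 hfin⟩, fun _ => rfl⟩, fun x hx => ?_⟩
  rw [hgφ x hx]
  have h1 : g * x * g⁻¹ ∈ Q := hRg ▸ ⟨x, hx, rfl⟩
  have h2 := Subgroup.mem_centralizer_iff.1 hc _ h1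
  calc c * g * x * (c * g)⁻¹ = c * (g * x * g⁻¹) * c⁻¹ := by group
    _ = g * x * g⁻¹ := by rw [← h2]; group

/-- **The fusion system of a block is saturated.** -/
theorem saturated_block [Fact p.Prime] (hM : IsPModular p M) {B : Set (IrrCharacter G)}
    {P : Subgroup G} {e : Set (IrrCharacter C⟨P⟩)} {F : FusionSystem P}
    (hF : IsBlockFusionSystemOn p M B P e F) : F.IsSaturated p :=
  Cfsg.Lib.Fusion.saturated_of_props (fun _ h => fullyAutomized_block hM hF h)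
    fun _ h => receptive_block hM hF h

end Cfsg.Lib.Blocks
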