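import Mathlib
import Cfsg.Agent.Blocks.BrauerHom
import Cfsg.Agent.Chars.IrrTools

/-!
# Characters of defect zero modulo a central `p`-subgroup
-/

set_option autoImplicit false
set_option linter.unusedSectionVars false

namespace Cfsg.Lib.Blocks

open Cfsg.Lib.Chars

universe u

variable {G : Type u} [Group G] [Fintype G] {M : Ideal AlgInt} {p : ℕ}

/-- A central element acts by a scalar on the values of an irreducible character. -/
lemma apply_mul_central (χ : IrrCharacter G) {d : G} (hd : d ∈ Subgroup.center G) (g : G) :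
    (χ : G → ℂ) (d * g) = (χ : G → ℂ) d / (χ : G → ℂ) 1 * (χ : G → ℂ) g := by
  classical
  have h1 : (χ : G → ℂ) 1 ≠ 0 := IsIrrCharacter.apply_one_ne_zero χ.2
  have hc : IsCentralFn (MonoidAlgebra.single d (1 : ℂ)) := fun x y => by
    rw [fn_single, fn_single]
    refine if_congr ⟨fun h => ?_, fun h => ?_⟩ rfl rfl
    · calc d = y⁻¹ * (y * d) := by group
        _ = y⁻¹ * (d * y) := by rw [Subgroup.mem_center_iff.1 hd y]
        _ = x := by rw [h]; group
    · subst h
      rw [Subgroup.mem_center_iff.1 hd y, mul_inv_cancel_right]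
  have h := chiEval_central_mul χ hc (MonoidAlgebra.single g 1)
  rw [MonoidAlgebra.single_mul_single, one_mul, chiEval_single, chiEval_single, one_mul,
    omega, chiEval_single, one_mul, one_mul] at h
  exact h

/-- Conjugates in a coset of a central subgroup on the kernel side, for nonvanishing values. -/
lemma apply_eq_of_commutator_mem {D : Subgroup G} (hDZ : D ≤ Subgroup.center G)
    (χ : IrrCharacter G) {y x : G} (hy : (χ : G → ℂ) y ≠ 0) (hx : x * y * x⁻¹ * y⁻¹ ∈ D) :
    (χ : G → ℂ) (x * y * x⁻¹ * y⁻¹) = (χ : G → ℂ) 1 := by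
  have h1 := apply_mul_central χ (hDZ hx) y
  rw [inv_mul_cancel_right, isClassFunction_irr χ] at h1
  have h2 : (χ : G → ℂ) (x * y * x⁻¹ * y⁻¹) / (χ : G → ℂ) 1 = 1 :=
    mul_right_cancel₀ hy (h1.symm.trans (one_mul _).symm)
  rwa [div_eq_one_iff_eq (IsIrrCharacter.apply_one_ne_zero χ.2)] at h2

/-- The kernel of `χ` on a central subgroup. -/
noncomputable def centralKer (D : Subgroup G) (hDZ : D ≤ Subgroup.center G) (χ : IrrCharacter G) :
    Subgroup G where
  carrier := {d | d ∈ D ∧ (χ : G → ℂ) d = (χ : G → ℂ) 1}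
  one_mem' := ⟨D.one_mem, rfl⟩
  mul_mem' {a b} ha hb := ⟨D.mul_mem ha.1 hb.1, by
    rw [apply_mul_central χ (hDZ ha.1) b, ha.2,
      div_self (IsIrrCharacter.apply_one_ne_zero χ.2), one_mul, hb.2]⟩
  inv_mem' {a} ha := ⟨D.inv_mem ha.1, by
    have := apply_mul_central χ (hDZ ha.1) a⁻¹
    rwa [mul_inv_cancel, ha.2, div_self (IsIrrCharacter.apply_one_ne_zero χ.2), one_mul, eq_comm]
      at this⟩

/-- The central character of the quotient by the centre part, as an algebraic integer. -/
lemma isIntegral_quotientCentralChar {D : Subgroup G} [D.Normal] (hDZ : D ≤ Subgroup.center G)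
    (χ : IrrCharacter G) (y : G) :
    IsIntegral ℤ (((Subgroup.centralizer ({QuotientGroup.mk' D y} : Set (G ⧸ D))).index : ℂ) *
      (χ : G → ℂ) y / (χ : G → ℂ) 1) := by
  classical
  by_cases hy : (χ : G → ℂ) y = 0
  · rw [hy, mul_zero, zero_div]; exact isIntegral_zero
  set K := centralKer D hDZ χ
  haveI hKn : K.Normal := ⟨fun d hd g => by
    rwa [Subgroup.mem_center_iff.1 (hDZ hd.1) g, mul_inv_cancel_right]⟩
  have hπs : Function.Surjective (QuotientGroup.mk' K) := QuotientGroup.mk'_surjective K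
  obtain ⟨χ', hχ'c, hχ'⟩ := exists_factor (QuotientGroup.mk' K) hπs (isCharacter_of_irr χ.2)
    fun k hk => by
      rw [QuotientGroup.ker_mk'] at hk
      exact hk.2
  have hχ'i : IsIrrCharacter (G ⧸ K) χ' :=
    irr_of_comp_irr hχ'c (QuotientGroup.mk' K) (by rw [← hχ']; exact χ.2)
  letI := Fintype.ofFinite (G ⧸ K)
  have hint := isIntegral_centralChar_irrChar (⟨χ', hχ'i⟩ : IrrCharacter (G ⧸ K))
    (QuotientGroup.mk' K y)
  have hidx : (Subgroup.centralizer ({QuotientGroup.mk' K y} : Set (G ⧸ K))).index =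
      (Subgroup.centralizer ({QuotientGroup.mk' D y} : Set (G ⧸ D))).index := by
    rw [← Subgroup.index_comap_of_surjective _ hπs,
      ← Subgroup.index_comap_of_surjective _ (QuotientGroup.mk'_surjective D)]
    congr 1
    ext x
    have key : ∀ (N : Subgroup G) [N.Normal], N ≤ Subgroup.center G →
        (QuotientGroup.mk' N x ∈ Subgroup.centralizer ({QuotientGroup.mk' N y} : Set (G ⧸ N)) ↔
          x * y * x⁻¹ * y⁻¹ ∈ N) := fun N hN hNZ => by
      rw [Subgroup.mem_centralizer_singleton_iff, ← QuotientGroup.eq_one_iff,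
        ← map_mul, ← map_mul, ← mul_inv_eq_one, ← map_inv, ← map_mul]
      simp [mul_assoc]
    rw [Subgroup.mem_comap, Subgroup.mem_comap, key K (fun d hd => hDZ hd.1), key D hDZ]
    exact ⟨fun h => h.1, fun h => ⟨h, apply_eq_of_commutator_mem hDZ χ hy h⟩⟩
  have hc : centralChar χ' (QuotientGroup.mk' K y) =
      ((Subgroup.centralizer ({QuotientGroup.mk' D y} : Set (G ⧸ D))).index : ℂ) *
        (χ : G → ℂ) y / (χ : G → ℂ) 1 := by
    rw [centralChar, hidx]
    have e : ∀ x, χ' (QuotientGroup.mk' K x) = (χ : G → ℂ) x := fun x => (congrFun hχ' x).symm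
    rw [e, ← map_one (QuotientGroup.mk' K), e]
  rw [← hc]
  exact hint

/-- The squared norm, grouped along classes of the quotient by a central subgroup. -/
lemma sum_quotient_classes {D : Subgroup G} [D.Normal] (hDZ : D ≤ Subgroup.center G)
    (χ : IrrCharacter G) [Fintype (ConjClasses (G ⧸ D))] :
    ∑ C : ConjClasses (G ⧸ D), ((Subgroup.centralizer ({crep C} : Set (G ⧸ D))).index : ℂ) *
      ((χ : G → ℂ) (crep C).out * (χ : G → ℂ) (crep C).out⁻¹) = (D.index : ℂ) := by
  classical
  letI := Fintype.ofFinite (G ⧸ D)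
  set f : G → ℂ := fun g => (χ : G → ℂ) g * (χ : G → ℂ) g⁻¹ with hf
  have hfD : ∀ d ∈ D, ∀ g, f (d * g) = f g := fun d hd g => by
    have hu : (χ : G → ℂ) d / (χ : G → ℂ) 1 * ((χ : G → ℂ) d⁻¹ / (χ : G → ℂ) 1) = 1 := by
      have := apply_mul_central χ (hDZ hd) d⁻¹
      rw [mul_inv_cancel] at this
      rw [← mul_div_assoc, ← this, div_self (IsIrrCharacter.apply_one_ne_zero χ.2)]
    simp only [hf]
    rw [mul_inv_rev, show g⁻¹ * d⁻¹ = d⁻¹ * g⁻¹ from
        Subgroup.mem_center_iff.1 (hDZ (D.inv_mem hd)) g⁻¹,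
      apply_mul_central χ (hDZ hd), apply_mul_central χ (hDZ (D.inv_mem hd))]
    linear_combination ((χ : G → ℂ) g * (χ : G → ℂ) g⁻¹) * hu
  set F : G ⧸ D → ℂ := fun q => f q.out with hF
  have hFπ : ∀ g : G, F (QuotientGroup.mk g) = f g := fun g => by
    obtain ⟨m, hm⟩ := QuotientGroup.mk_out_eq_mul D g
    show f _ = f g
    rw [hm, show g * (m : G) = (m : G) * g from Subgroup.mem_center_iff.1 (hDZ m.2) g, hfD _ m.2]
  have hFc : IsClassFunction (G ⧸ D) F := fun q x => by
    obtain ⟨g, rfl⟩ := QuotientGroup.mk_surjective q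
    obtain ⟨a, rfl⟩ := QuotientGroup.mk_surjective x
    rw [← QuotientGroup.mk_mul, ← QuotientGroup.mk_inv, ← QuotientGroup.mk_mul, hFπ, hFπ]
    simp only [hf]
    rw [isClassFunction_irr χ g a, show (a * g * a⁻¹)⁻¹ = a * g⁻¹ * a⁻¹ by group,
      isClassFunction_irr χ g⁻¹ a]
  have hnorm : ∑ g, f g = (Fintype.card G : ℂ) := by
    have h1 := classInner_self_irr χ.2
    rw [classInner_def, Nat.card_eq_fintype_card, inv_mul_eq_one₀
      (Nat.cast_ne_zero.2 Fintype.card_ne_zero)] at h1
    rw [h1]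
    refine Finset.sum_congr rfl fun g _ => ?_
    simp only [hf]
    rw [← IsCharacter.conj_inv (isCharacter_of_irr χ.2)]
  have hsum : ∑ g, f g = (Nat.card D : ℂ) * ∑ q, F q := by
    have hinv : ∀ g : G, ∀ d ∈ D, f (g * d) = f g := fun g d hd => by
      rw [show g * d = d * g from Subgroup.mem_center_iff.1 (hDZ hd) g, hfD d hd]
    rw [sum_invariant D f hinv, nsmul_eq_mul]
  have hcls : ∑ q, F q = ∑ C : ConjClasses (G ⧸ D),
      ((Subgroup.centralizer ({crep C} : Set (G ⧸ D))).index : ℂ) * F (crep C) := by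
    rw [← Finset.sum_fiberwise_of_maps_to (t := Finset.univ)
      (g := fun q : G ⧸ D => ConjClasses.mk q) fun _ _ => Finset.mem_univ _]
    refine Finset.sum_congr rfl fun C _ => ?_
    rw [Finset.sum_congr rfl (g := fun _ => F (crep C)) fun q hq => ?_, Finset.sum_const,
      nsmul_eq_mul]
    · congr 1
      rw [← sum_fn_cls (crep C)]
      simp only [fn_cls, ← ConjClasses.mk_eq_mk_iff_isConj, mk_crep]
      rw [Finset.card_filter, Nat.cast_sum]
      simp only [Nat.cast_ite, Nat.cast_one, Nat.cast_zero]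
      exact Finset.sum_congr rfl fun q _ => if_congr eq_comm rfl rfl
    · have hq' : IsConj q (crep C) := by
        rw [← ConjClasses.mk_eq_mk_iff_isConj, mk_crep]; exact (Finset.mem_filter.1 hq).2
      obtain ⟨a, ha⟩ := isConj_iff.1 hq'
      rw [← ha, hFc]
  rw [← hcls]
  have hD0 : (Nat.card D : ℂ) ≠ 0 := Nat.cast_ne_zero.2 Nat.card_pos.ne'
  refine mul_left_cancel₀ hD0 ?_
  rw [← hsum, hnorm, ← Nat.cast_mul, Subgroup.card_mul_index, Nat.card_eq_fintype_card]

/-- **Defect zero modulo a central `p`-subgroup**: the subgroup is a defect group. -/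
theorem isDefectGroup_central [Fact p.Prime] (hM : IsPModular p M) {D : Subgroup G}
    (hD : IsPGroup p D) (hDZ : D ≤ Subgroup.center G) (χ : IrrCharacter G)
    (hdeg : (deg (χ : G → ℂ)).factorization p = D.index.factorization p) :
    IsDefectGroup p M (blockOf M (χ : G → ℂ)) D := by
  classical
  haveI : D.Normal := ⟨fun d hd g => by
    rwa [Subgroup.mem_center_iff.1 (hDZ hd) g, mul_inv_cancel_right]⟩
  letI : Fintype (ConjClasses (G ⧸ D)) := Fintype.ofFinite _
  have hB : IsPBlock M (blockOf M (χ : G → ℂ)) := isPBlock_blockOf χ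
  have hχB := mem_blockOf_self hM χ
  have h1 : (χ : G → ℂ) 1 ≠ 0 := IsIrrCharacter.apply_one_ne_zero χ.2
  set n : G ⧸ D → ℕ := fun q => (Subgroup.centralizer ({q} : Set (G ⧸ D))).index with hn
  -- some class of the quotient contributes a unit
  obtain ⟨C, hC⟩ : ∃ C : ConjClasses (G ⧸ D), ¬ Small M
      ((n (crep C) : ℂ) * (χ : G → ℂ) (crep C).out / (χ : G → ℂ) 1 *
        (χ : G → ℂ) (crep C).out⁻¹) := by
    by_contra h
    push Not at h
    have hs : Small M ((D.index : ℂ) / (χ : G → ℂ) 1) := by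
      rw [← sum_quotient_classes hDZ χ, Finset.sum_div]
      refine small_sum _ _ fun C _ => ?_
      have := h C
      rwa [show ∀ a b c d : ℂ, a * b / c * d = a * (b * d) / c from fun a b c d => by ring] at this
    have hu : IsUnitAt M ((D.index : ℂ) / (χ : G → ℂ) 1) := by
      show (place M).valuation _ = 1
      rw [irr_apply_one_eq_deg, map_div₀, valuation_natCast_eq_of_factorization hM
        Subgroup.index_ne_zero_of_finite (deg_irr_pos χ).ne' hdeg.symm, div_self]
      exact (Valuation.ne_zero_iff _).2 (Nat.cast_ne_zero.2 (deg_irr_pos χ).ne')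
    exact hu.not_small hs
  set y : G := (crep C).out with hy
  have hyC : QuotientGroup.mk' D y = crep C := QuotientGroup.out_eq' _
  have hcomap : ∀ q, n q = ((Subgroup.centralizer ({q} : Set (G ⧸ D))).comap
      (QuotientGroup.mk' D)).index := fun q =>
    (Subgroup.index_comap_of_surjective _ (QuotientGroup.mk'_surjective D)).symm
  have hint : ∀ g : G, ((n (QuotientGroup.mk' D g) : ℂ) * (χ : G → ℂ) g / (χ : G → ℂ) 1) ∈
      place M := fun g => isIntegral_mem_place hM (isIntegral_quotientCentralChar hDZ χ g)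
  have hnv : ∀ g : G, (χ : G → ℂ) g ∈ place M := fun g =>
    isIntegral_mem_place hM (IsCharacter.isIntegral (isCharacter_of_irr χ.2) g)
  have ht1 : ¬ Small M ((n (crep C) : ℂ) * (χ : G → ℂ) y / (χ : G → ℂ) 1) := fun h =>
    hC (h.mul_mem (hnv _))
  have ht2 : ¬ Small M ((χ : G → ℂ) y⁻¹) := fun h => hC (h.mem_mul (by
    rw [← hyC]; exact hint y))
  have hninv : n (QuotientGroup.mk' D y⁻¹) = n (crep C) := by
    show (Subgroup.centralizer ({QuotientGroup.mk' D y⁻¹} : Set (G ⧸ D))).index =
      (Subgroup.centralizer ({crep C} : Set (G ⧸ D))).index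
    rw [map_inv, hyC]
    congr 1
    ext q
    simp only [Subgroup.mem_centralizer_singleton_iff]
    exact ⟨fun h => by have := (Commute.inv_right h :); rwa [inv_inv] at this, fun h =>
      (Commute.inv_right h :)⟩
  -- valuations
  have hv2 : (place M).valuation ((χ : G → ℂ) y⁻¹) = 1 := isUnitAt_iff.2 ⟨hnv _, ht2⟩
  have hv1 : (place M).valuation ((n (crep C) : ℂ) * (χ : G → ℂ) y / (χ : G → ℂ) 1) = 1 :=
    isUnitAt_iff.2 ⟨hyC ▸ hint y, ht1⟩
  have hi : ((n (crep C) : ℂ) * (χ : G → ℂ) y⁻¹ / (χ : G → ℂ) 1) ∈ place M := hninv ▸ hint y⁻¹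
  rw [← ValuationSubring.valuation_le_one_iff, map_div₀, map_mul, hv2, mul_one] at hi
  rw [map_div₀, map_mul] at hv1
  have hvy : (place M).valuation ((χ : G → ℂ) y) = 1 := by
    refine le_antisymm ((ValuationSubring.valuation_le_one_iff _ _).2 (hnv y)) ?_
    calc (1 : (place M).ValueGroup) = (place M).valuation ((n (crep C) : ℂ)) /
          (place M).valuation ((χ : G → ℂ) 1) * (place M).valuation ((χ : G → ℂ) y) := by
            rw [← hv1]; rw [mul_div_right_comm]
      _ ≤ 1 * (place M).valuation ((χ : G → ℂ) y) := mul_le_mul_left hi _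
      _ = _ := one_mul _
  rw [hvy, mul_one] at hv1
  -- the index is the `p`-part of the index of `D`
  set C' := (Subgroup.centralizer ({crep C} : Set (G ⧸ D))).comap (QuotientGroup.mk' D) with hC'
  have hidx : C'.index.factorization p = D.index.factorization p := by
    have hle : ∀ a b : ℕ, a ≠ 0 → b ≠ 0 → (place M).valuation (a : ℂ) = (place M).valuation (b : ℂ) →
        b.factorization p ≤ a.factorization p := fun a b ha hb hab => by
      rw [← valuation_prime_pow_le_iff hM, ← valuation_natCast hM ha, ← valuation_natCast hM hb,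
        hab]
    have hne : (place M).valuation ((χ : G → ℂ) 1) ≠ 0 := (Valuation.ne_zero_iff _).2 h1
    rw [div_eq_one_iff_eq hne, irr_apply_one_eq_deg, hcomap, ← hC'] at hv1
    have a1 := hle _ _ Subgroup.index_ne_zero_of_finite (deg_irr_pos χ).ne' hv1
    have a2 := hle _ _ (deg_irr_pos χ).ne' Subgroup.index_ne_zero_of_finite hv1.symm
    omega
  have hCy : Subgroup.centralizer ({y} : Set G) ≤ C' := fun x hx => by
    rw [Subgroup.mem_centralizer_singleton_iff] at hx
    rw [hC', Subgroup.mem_comap, Subgroup.mem_centralizer_singleton_iff, ← hyC, ← map_mul, ← map_mul,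
      hx]
  have hDy : D ≤ Subgroup.centralizer ({y} : Set G) := fun d hd =>
    Subgroup.mem_centralizer_singleton_iff.2 (Subgroup.mem_center_iff.1 (hDZ hd) y).symm
  -- compare `p`-parts of the orders
  have hp := hM.1
  have e1 := congrArg (fun m : ℕ => m.factorization p)
    (Subgroup.card_mul_index (Subgroup.centralizer ({y} : Set G)))
  have e2 := congrArg (fun m : ℕ => m.factorization p) (Subgroup.card_mul_index C')
  have e3 := congrArg (fun m : ℕ => m.factorization p) (Subgroup.card_mul_index D)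
  have d1 := (Nat.factorization_le_iff_dvd Nat.card_pos.ne' Nat.card_pos.ne').2
    (Subgroup.card_dvd_of_le hDy) p
  have d2 := (Nat.factorization_le_iff_dvd Nat.card_pos.ne' Nat.card_pos.ne').2
    (Subgroup.card_dvd_of_le hCy) p
  simp only [Nat.factorization_mul Nat.card_pos.ne' Subgroup.index_ne_zero_of_finite,
    Finsupp.add_apply] at e1 e2 e3
  have hcard : (Nat.card (Subgroup.centralizer ({y} : Set G))).factorization p =
      (Nat.card D).factorization p := by omega
  have homega : ¬ Small M (centralChar (χ : G → ℂ) y) := by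
    refine IsUnitAt.not_small (show (place M).valuation _ = 1 from ?_)
    rw [centralChar, map_div₀, map_mul, hvy, mul_one, valuation_natCast_eq_of_factorization hM
      Subgroup.index_ne_zero_of_finite Subgroup.index_ne_zero_of_finite (b := D.index) (by omega),
      valuation_natCast_eq_of_factorization hM Subgroup.index_ne_zero_of_finite (deg_irr_pos χ).ne'
      hdeg.symm, irr_apply_one_eq_deg, div_self]
    exact (Valuation.ne_zero_iff _).2 (Nat.cast_ne_zero.2 (deg_irr_pos χ).ne')
  have hle := defect_le_of_centralChar hM hB hχB homega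
  rw [hcard] at hle
  obtain ⟨E, hE⟩ := exists_defectGroup hM hB
  have hDE := normal_le_defectGroup hM hD hB hE
  suffices D = E by rw [this]; exact hE
  refine Subgroup.eq_of_le_of_card_ge hDE ?_
  obtain ⟨k, hk⟩ := IsPGroup.iff_card.1 hD
  rw [hk, hp.factorization_pow, Finsupp.single_eq_same] at hle
  rw [IsDefectGroup.card hM hB hE, hk]
  exact Nat.pow_le_pow_right hp.pos hle

end Cfsg.Lib.Blocks
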