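import Mathlib
import Cfsg.Agent.Blocks.CentralDefect
import Cfsg.Agent.Blocks.BlockSystem
import Cfsg.Agent.Chars.Degree
import Cfsg.Agent.S0887

/-!
# Characters of defect zero and maximal pairs; weights
-/

set_option autoImplicit false
set_option linter.unusedSectionVars false

namespace Cfsg.Lib.Blocks

open Cfsg.Lib.Chars
open scoped ComplexConjugate

universe u

variable {G : Type u} [Group G] [Fintype G] {M : Ideal AlgInt} {p : ℕ}

local notation "C⟨" P "⟩" => Subgroup.centralizer (SetLike.coe P)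

/-- A constituent shares the kernel of a character. -/
lemma constituent_apply_eq {H : Type u} [Group H] [Fintype H] {f : H → ℂ}
    (hf : IsCharacter H f) (θ : IrrCharacter H) (hne : classInner f (θ : H → ℂ) ≠ 0) {x : H}
    (hx : f x = f 1) : (θ : H → ℂ) x = (θ : H → ℂ) 1 := by
  classical
  obtain ⟨m, hm⟩ := IsCharacter.exists_decomp hf
  have hval : ∀ y, f y = ∑ ψ : IrrCharacter H, (m ψ : ℂ) * (ψ : H → ℂ) y := fun y => by
    rw [hm]; simp [Finset.sum_apply]
  have hmθ : m θ ≠ 0 := fun h0 => hne (by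
    rw [hm]
    simp only [← Nat.cast_smul_eq_nsmul ℂ]
    rw [classInner_irrSum (fun ψ => (m ψ : ℂ)) θ, h0, Nat.cast_zero])
  have hre : ∑ ψ : IrrCharacter H, (m ψ : ℝ) * (((ψ : H → ℂ) 1).re - ((ψ : H → ℂ) x).re) = 0 := by
    simp only [mul_sub, Finset.sum_sub_distrib, sub_eq_zero]
    have h := congrArg Complex.re ((hval 1).symm.trans (hx.symm.trans (hval x)))
    simpa [Complex.re_sum, Complex.mul_re] using h
  have h0 := (Finset.sum_eq_zero_iff_of_nonneg fun ψ _ => mul_nonneg (Nat.cast_nonneg _)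
    (sub_nonneg.2 (IsCharacter.re_le (isCharacter_of_irr ψ.2) x))).1 hre θ (Finset.mem_univ _)
  exact IsCharacter.eq_apply_one_of_re_eq (isCharacter_of_irr θ.2)
    (sub_eq_zero.1 ((mul_eq_zero.1 h0).resolve_left (Nat.cast_ne_zero.2 hmθ))).symm

/-- Constituents on `C` of the members of a block with the idempotent of `e` lie in `e`. -/
lemma constituent_mem {T C : Subgroup G} [Fintype T] [Fintype C] (hCT : C ≤ T)
    {e : Set (IrrCharacter C)} {F : Set (IrrCharacter T)}
    (hFe : ∀ t : T, blockCoeff F t = subgroupBlockCoeff C e (t : G)) {χ : IrrCharacter T}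
    (hχ : χ ∈ F) (θ : IrrCharacter C)
    (hne : classInner (fun c : C => (χ : T → ℂ) ⟨(c : G), hCT c.2⟩) (θ : C → ℂ) ≠ 0) : θ ∈ e := by
  classical
  set f : C → ℂ := fun c => (χ : T → ℂ) ⟨(c : G), hCT c.2⟩ with hf
  have hfc : IsCharacter C f :=
    IsCharacter.comp_hom (isCharacter_of_irr χ.2) (Subgroup.inclusion hCT)
  obtain ⟨m, hm⟩ := IsCharacter.exists_decomp hfc
  have hmθ : m θ ≠ 0 := fun h0 => hne (by
    rw [hm]
    simp only [← Nat.cast_smul_eq_nsmul ℂ]
    rw [classInner_irrSum (fun ψ => (m ψ : ℂ)) θ, h0, Nat.cast_zero])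
  have h1 : chiEval (χ : T → ℂ) (blockElem F) = (χ : T → ℂ) 1 := by
    have := omega_blockElem F χ
    rw [if_pos hχ, omega, div_eq_one_iff_eq (IsIrrCharacter.apply_one_ne_zero χ.2)] at this
    exact this
  have h2 : chiEval (χ : T → ℂ) (blockElem F) = chiEval f (blockElem e) := by
    simp only [chiEval, fn_blockElem, hFe, hf]
    symm
    refine Finset.sum_bij_ne_zero (fun c _ _ => (⟨(c : G), hCT c.2⟩ : T))
      (fun _ _ _ => Finset.mem_univ _) ?_ ?_ ?_
    · intro a _ _ b _ _ h
      exact Subtype.ext (congrArg Subtype.val h :)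
    · intro t _ ht
      have htC : (t : G) ∈ C := by
        by_contra h
        rw [subgroupBlockCoeff, dif_neg h, zero_mul] at ht
        exact ht rfl
      refine ⟨⟨(t : G), htC⟩, Finset.mem_univ _, ?_, rfl⟩
      rw [subgroupBlockCoeff, dif_pos htC] at ht
      exact ht
    · intro c _ _
      rw [subgroupBlockCoeff, dif_pos c.2]
  have h3 : chiEval f (blockElem e) =
      ∑ ψ : IrrCharacter C, (m ψ : ℂ) * chiEval (ψ : C → ℂ) (blockElem e) := by
    simp only [chiEval, Finset.mul_sum]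
    rw [Finset.sum_comm]
    refine Finset.sum_congr rfl fun c _ => ?_
    rw [hm, Finset.sum_apply, Finset.mul_sum]
    refine Finset.sum_congr rfl fun ψ _ => ?_
    simp only [Pi.smul_apply, nsmul_eq_mul]
    ring
  have h4 : ∀ ψ : IrrCharacter C, chiEval (ψ : C → ℂ) (blockElem e) =
      if ψ ∈ e then (deg (ψ : C → ℂ) : ℂ) else 0 := fun ψ => by
    have := omega_blockElem e ψ
    rw [omega] at this
    split_ifs at this ⊢ with hψ
    · rw [div_eq_one_iff_eq (IsIrrCharacter.apply_one_ne_zero ψ.2)] at this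
      rw [this, irr_apply_one_eq_deg]
    · exact (div_eq_zero_iff.1 this).resolve_right (IsIrrCharacter.apply_one_ne_zero ψ.2)
  have h5 : (χ : T → ℂ) 1 = ∑ ψ : IrrCharacter C, (m ψ : ℂ) * (deg (ψ : C → ℂ) : ℂ) := by
    rw [show (χ : T → ℂ) 1 = f 1 from rfl, hm]
    simp [Finset.sum_apply, irr_apply_one_eq_deg]
  by_contra hθ
  have h6 : ∑ ψ : IrrCharacter C, m ψ * deg (ψ : C → ℂ) =
      ∑ ψ : IrrCharacter C, if ψ ∈ e then m ψ * deg (ψ : C → ℂ) else 0 := by
    apply Nat.cast_injective (R := ℂ)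
    push_cast
    rw [← h5, ← h1, h2, h3]
    refine Finset.sum_congr rfl fun ψ _ => ?_
    rw [h4]; split_ifs <;> simp
  have h7 : (∑ ψ : IrrCharacter C, if ψ ∈ e then m ψ * deg (ψ : C → ℂ) else 0) <
      ∑ ψ : IrrCharacter C, m ψ * deg (ψ : C → ℂ) := by
    refine Finset.sum_lt_sum (fun ψ _ => ?_) ⟨θ, Finset.mem_univ _, ?_⟩
    · split_ifs <;> omega
    · rw [if_neg hθ]
      exact Nat.mul_pos (Nat.pos_of_ne_zero hmθ) (deg_irr_pos θ)
  omega

/-- A `p`-central defect group carries a character of defect zero modulo it. -/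
theorem exists_trivial_of_central_defect [Fact p.Prime] (hM : IsPModular p M)
    {b : Set (IrrCharacter G)} (hb : IsPBlock M b) {Z : Subgroup G} (hZ : IsDefectGroup p M b Z)
    (hZc : Z ≤ Subgroup.center G) :
    ∃ θ ∈ b, (∀ z ∈ Z, (θ : G → ℂ) z = (θ : G → ℂ) 1) ∧
      (deg (θ : G → ℂ)).factorization p + (Nat.card Z).factorization p =
        (Nat.card G).factorization p := by
  classical
  obtain ⟨g, hg, -⟩ := id hZ
  have hns := ((isDefectClass_iff hM hb g).1 hg).1
  have hgp := not_dvd_orderOf_of_not_small hM hb hns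
  haveI : Z.Normal := ⟨fun d hd x => by
    rwa [Subgroup.mem_center_iff.1 (hZc hd) x, mul_inv_cancel_right]⟩
  letI := Fintype.ofFinite Z
  have hone : ∑ z : Z, blockCoeff b ((z : G) * g) = blockCoeff b g := by
    rw [Finset.sum_eq_single (1 : Z)]
    · rw [OneMemClass.coe_one, one_mul]
    · intro z _ hz
      refine blockCoeff_eq_zero_of_singular hM hb ?_
      have hzp := exists_orderOf_eq_of_mem hM.1 (IsDefectGroup.isPGroup hZ) z.2
      have hcm : Commute (z : G) g := (Subgroup.mem_center_iff.1 (hZc z.2) g).symm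
      obtain ⟨k, hk⟩ := hzp
      rw [hcm.orderOf_mul_eq_mul_orderOf_of_coprime (by
        rw [hk]; exact ((hM.1.coprime_iff_not_dvd).2 hgp).pow_left k), hk]
      rcases k with _ | k
      · exact absurd (Subtype.ext (orderOf_eq_one_iff.1 hk)) hz
      · exact (dvd_pow_self p k.succ_ne_zero).mul_right _
    · intro h; exact absurd (Finset.mem_univ _) h
  obtain ⟨θ, hθ, hker⟩ : ∃ θ ∈ b, ∀ z ∈ Z, (θ : G → ℂ) z = (θ : G → ℂ) 1 := by
    by_contra hno
    push Not at hno
    refine hns ?_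
    rw [← hone]
    simp only [blockCoeff_eq_sum]
    rw [← Finset.mul_sum, Finset.sum_comm]
    convert small_zero (M := M) using 1
    refine mul_eq_zero.2 (Or.inr (Finset.sum_eq_zero fun θ hθ => ?_))
    obtain ⟨z₀, hz₀, hne⟩ := hno θ (by simpa using hθ)
    rw [← Finset.mul_sum]
    refine mul_eq_zero.2 (Or.inr ?_)
    set c := (θ : G → ℂ) z₀ / (θ : G → ℂ) 1 with hcdef
    have hc : c ≠ 1 := fun h => by
      rw [hcdef, div_eq_one_iff_eq (IsIrrCharacter.apply_one_ne_zero θ.2)] at h
      exact hne h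
    have hshift : ∑ z : Z, conj ((θ : G → ℂ) ((z : G) * g)) =
        conj c * ∑ z : Z, conj ((θ : G → ℂ) ((z : G) * g)) := by
      rw [Finset.mul_sum]
      refine (Fintype.sum_equiv (Equiv.mulLeft (⟨z₀, hz₀⟩ : Z)) _ _ fun z => ?_).symm
      rw [Equiv.coe_mulLeft, Subgroup.coe_mul, ← map_mul]
      show conj (c * _) = conj ((θ : G → ℂ) (z₀ * (z : G) * g))
      rw [mul_assoc z₀ (z : G) g, apply_mul_central θ (hZc hz₀)]
    have h3 : (1 - conj c) * ∑ z : Z, conj ((θ : G → ℂ) ((z : G) * g)) = 0 := by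
      rw [sub_mul, one_mul, ← hshift, sub_self]
    refine (mul_eq_zero.1 h3).resolve_left (sub_ne_zero.2 fun h => hc ?_)
    simpa using congrArg (starRingEnd ℂ) h.symm
  refine ⟨θ, hθ, hker, ?_⟩
  have hge := (degree_bounds hM hb hg).1 θ hθ
  have hdvd := deg_dvd_index_of_le_ker θ.2 Z hker
  have h1 := (Nat.factorization_le_iff_dvd (deg_irr_pos θ).ne' Subgroup.index_ne_zero_of_finite).2
    hdvd p
  have e1 := congrArg (fun n : ℕ => n.factorization p) (Subgroup.card_mul_index Z)
  have e2 := congrArg (fun n : ℕ => n.factorization p)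
    (Subgroup.card_mul_index (Subgroup.centralizer ({g} : Set G)))
  simp only [Nat.factorization_mul Nat.card_pos.ne' Subgroup.index_ne_zero_of_finite,
    Finsupp.add_apply] at e1 e2
  obtain ⟨-, -, S, hZS⟩ := id hZ
  have e3 : (Nat.card Z).factorization p = blockDefect p b := by
    rw [IsDefectGroup.card hM hb hZ, hM.1.factorization_pow, Finsupp.single_eq_same]
  have e4 := le_defect_of_blockCoeff hM hb hns
  omega

lemma centralPart_le_center (Q : Subgroup G) :
    ((Q ⊓ C⟨Q⟩).subgroupOf C⟨Q⟩ : Subgroup C⟨Q⟩) ≤ Subgroup.center C⟨Q⟩ := fun z hz =>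
  Subgroup.mem_center_iff.2 fun c =>
    Subtype.ext ((Subgroup.mem_centralizer_iff.1 c.2 (z : G) hz.1).symm)

lemma card_centralPart (Q : Subgroup G) :
    Nat.card ((Q ⊓ C⟨Q⟩).subgroupOf C⟨Q⟩ : Subgroup C⟨Q⟩) = Nat.card (Q ⊓ C⟨Q⟩ : Subgroup G) :=
  Nat.card_congr (Subgroup.subgroupOfEquivOfLe inf_le_right).toEquiv

/-- A character of defect zero modulo the centre of `Q` makes the centre a defect group. -/
theorem centralPart_defect [Fact p.Prime] (hM : IsPModular p M) {Q : Subgroup G}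
    {e : Set (IrrCharacter C⟨Q⟩)} [Fintype C⟨Q⟩] (he : IsBrauerPair p M Q e)
    {θ : IrrCharacter C⟨Q⟩} (hθ : θ ∈ e)
    (hdeg : (deg (θ : C⟨Q⟩ → ℂ)).factorization p +
      (Nat.card (Q ⊓ C⟨Q⟩ : Subgroup G)).factorization p = (Nat.card C⟨Q⟩).factorization p) :
    IsDefectGroup p M e ((Q ⊓ C⟨Q⟩).subgroupOf C⟨Q⟩) := by
  rw [IsPBlock.eq_blockOf hM he.2 hθ]
  refine isDefectGroup_central (D := (Q ⊓ C⟨Q⟩).subgroupOf C⟨Q⟩) hM
    (he.1.to_le inf_le_left).comap_subtype (centralPart_le_center Q) θ ?_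
  have e1 := congrArg (fun n : ℕ => n.factorization p)
    (Subgroup.card_mul_index ((Q ⊓ C⟨Q⟩).subgroupOf C⟨Q⟩))
  simp only [Nat.factorization_mul Nat.card_pos.ne' Subgroup.index_ne_zero_of_finite,
    Finsupp.add_apply, card_centralPart] at e1
  omega

/-- **Maximal pairs**: a character of defect zero modulo the centre and no further `p`-elements
in the stabiliser. -/
theorem maximal_iff_weightless [Fact p.Prime] (hM : IsPModular p M) {Q : Subgroup G}
    {e : Set (IrrCharacter C⟨Q⟩)} (he : IsBrauerPair p M Q e) :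
    (∃ B : Set (IrrCharacter G), IsMaximalBrauerPair p M B Q e) ↔
      ∃ θ ∈ e, (∀ z : C⟨Q⟩, (z : G) ∈ Q → (θ : C⟨Q⟩ → ℂ) z = (θ : C⟨Q⟩ → ℂ) 1) ∧
        (deg (θ : C⟨Q⟩ → ℂ)).factorization p +
          (Nat.card (Q ⊓ C⟨Q⟩ : Subgroup G)).factorization p = (Nat.card C⟨Q⟩).factorization p ∧
        (∀ g : G, g ∈ Subgroup.normalizer (Q : Set G) → StabilizesBlock C⟨Q⟩ e g →
          (∃ k : ℕ, orderOf g = p ^ k) → g ∈ Q ⊔ C⟨Q⟩) := by
  classical
  haveI := charP_res hM
  letI := Fintype.ofFinite C⟨Q⟩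
  constructor
  · rintro ⟨B, hmax⟩
    obtain ⟨D, hD⟩ := exists_defectGroup hM he.2
    have hDeq := defectGroup_centralizer_of_maximal hM hmax hD
    have hDZ : D = (Q ⊓ C⟨Q⟩).subgroupOf C⟨Q⟩ := by rw [← hDeq, subgroupOf_map_self]
    obtain ⟨θ, hθ, hker, hdeg⟩ := exists_trivial_of_central_defect (G := C⟨Q⟩) hM he.2
      (hDZ ▸ hD) (centralPart_le_center Q)
    rw [card_centralPart] at hdeg
    refine ⟨θ, hθ, fun z hz => hker z ⟨hz, z.2⟩, hdeg, fun g hgN hgS hgp => ?_⟩
    set T : Subgroup G := Subgroup.normalizer (Q : Set G) ⊓ stabElem (bi M C⟨Q⟩ e) with hTdef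
    have hT : IsPairStab Q e T := (isPairStab_iff hM he.2).2 rfl
    letI := Fintype.ofFinite T
    obtain ⟨hQT, hCT⟩ := hT.self_le hM he.2
    obtain ⟨F, hF, -, hFb, -⟩ := hT.exists_block hM he
    obtain ⟨E, hE⟩ := exists_defectGroup hM hF
    have hQE := self_le_defect_stab hM he.1 hQT hT.le_normalizer hF hE
    have hEQ : E.map T.subtype = Q := by
      by_contra hne
      have hlt : Q < E.map T.subtype := lt_of_le_of_ne hQE (Ne.symm hne)
      refine br_defect_ne_zero hM hF hE ?_
      rw [hFb]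
      refine noExtension_of_maximal hM hmax _ ((IsDefectGroup.isPGroup hE).map _) hlt
        ((Subgroup.map_subtype_le E).trans hT.le_normalizer) fun x hx => ?_
      exact (stabilizes_iff_of_normalizer hM he.2 (hT.le_normalizer (Subgroup.map_subtype_le E hx))).1
        ((hT x).1 (Subgroup.map_subtype_le E hx)).2
    have hv := (stab_defect hM he hT hF hFb hE).2
    rw [hEQ] at hv
    have hgT : g ∈ T := (hT g).2 ⟨hgN, hgS⟩
    set W : Subgroup T := (C⟨Q⟩ ⊔ Q).subgroupOf T with hW
    have hWle : C⟨Q⟩ ⊔ Q ≤ T := sup_le hCT hQT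
    haveI : W.Normal := by
      refine normal_subgroupOf_of_le_normalizer (fun t ht => ?_)
      have h1 := centralizer_le_normalizer_centralizer (hT.le_normalizer ht) (le_refl Q)
      have h2 := hT.le_normalizer ht
      refine Subgroup.mem_normalizer_iff.2 fun y => ?_
      have hmap : (C⟨Q⟩ ⊔ Q).map (MulAut.conj t).toMonoidHom = C⟨Q⟩ ⊔ Q := by
        rw [Subgroup.map_sup, map_conj_of_mem_normalizer h1, map_conj_of_mem_normalizer h2]
      constructor
      · intro hy; rw [← hmap]; exact ⟨y, hy, rfl⟩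
      · intro hy
        rw [← hmap] at hy
        obtain ⟨z, hz, hzy⟩ := hy
        simp only [MulEquiv.coe_toMonoidHom, MulAut.conj_apply, mul_left_inj, mul_right_inj] at hzy
        exact hzy ▸ hz
    have hidx : W.index.factorization p = 0 := by
      have e1 := congrArg (fun n : ℕ => n.factorization p) (Subgroup.card_mul_index W)
      simp only [Nat.factorization_mul Nat.card_pos.ne' Subgroup.index_ne_zero_of_finite,
        Finsupp.add_apply] at e1
      rw [show Nat.card W = Nat.card (C⟨Q⟩ ⊔ Q : Subgroup G) from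
        Nat.card_congr (Subgroup.subgroupOfEquivOfLe hWle).toEquiv] at e1
      omega
    have hgW : (⟨g, hgT⟩ : T) ∈ W := by
      obtain ⟨k, hk⟩ := hgp
      rw [← QuotientGroup.eq_one_iff, ← orderOf_eq_one_iff]
      refine Nat.eq_one_of_dvd_coprimes (a := p ^ k) (b := W.index) ?_ ?_ ?_
      · exact (Nat.Coprime.pow_left k ((hM.1.coprime_iff_not_dvd).2 fun h =>
          (hM.1.factorization_pos_of_dvd Subgroup.index_ne_zero_of_finite h).ne' hidx))
      · refine (orderOf_map_dvd (QuotientGroup.mk' W) ⟨g, hgT⟩).trans ?_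
        rw [Subgroup.orderOf_mk, hk]
      · rw [Subgroup.index_eq_card]; exact orderOf_dvd_natCard _
    rw [sup_comm]
    exact hgW
  · rintro ⟨θ, hθ, -, hdeg, hstab⟩
    obtain ⟨B, hB, -⟩ := existsUnique_block hM he
    have hZ := centralPart_defect hM he hθ hdeg
    have hno : NoExtension M p Q e := by
      intro R hRp hlt hRN hfix
      by_contra hne
      have hRle : R ≤ Q ⊔ C⟨Q⟩ := fun x hx => hstab x (hRN hx)
        ((stabilizes_iff_of_normalizer hM he.2 (hRN hx)).2 (hfix x hx))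
        (exists_orderOf_eq_of_mem hM.1 hRp hx)
      obtain ⟨D, hD, hle⟩ := exists_defect_ge_of_br hM he.2 (hRp.to_le inf_le_left)
        (inf_le_right : R ⊓ C⟨Q⟩ ≤ C⟨Q⟩) (fun h0 => hne (by
          rw [← br_br (inf_le_left : R ⊓ C⟨Q⟩ ≤ R), h0, br_zero]))
      obtain ⟨a, ha⟩ := IsDefectGroup.exists_eq_conj hM he.2 hZ hD
      refine not_le_of_gt hlt fun x hx => ?_
      obtain ⟨q, hq, c, hc, rfl⟩ := Set.mem_mul.1 (by
        have := hRle hx
        rw [← SetLike.mem_coe, Subgroup.coe_mul_of_right_le_normalizer_left Q C⟨Q⟩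
          (Subgroup.centralizer_le_normalizer _)] at this
        exact this)
      refine Q.mul_mem hq ?_
      have hcR : c ∈ R := by
        have := R.mul_mem (R.inv_mem (hlt.le hq)) hx
        rwa [inv_mul_cancel_left] at this
      obtain ⟨z, hz, hzc⟩ := (ha ▸ hle) (show (⟨c, hc⟩ : C⟨Q⟩) ∈ _ from ⟨hcR, hc⟩)
      have hzz := Subgroup.mem_center_iff.1 (centralPart_le_center Q hz) a
      simp only [MulEquiv.coe_toMonoidHom, MulAut.conj_apply] at hzc
      rw [hzz, mul_inv_cancel_right] at hzc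
      rw [← show (z : G) = c from congrArg Subtype.val hzc]
      exact hz.1
    exact ⟨B, isMaximal_of_isDefectGroup hM hB (isDefectGroup_of_noExtension hM hB hno)⟩

/-- **Weights**: the pair is centric and the subgroup is the `p`-core of the stabiliser. -/
theorem centric_radical_of_weight [Fact p.Prime] (hM : IsPModular p M) {Q : Subgroup G}
    {e : Set (IrrCharacter C⟨Q⟩)} (he : IsBrauerPair p M Q e) {T : Subgroup G} [Fintype T]
    (hT : IsPairStab Q e T) {F : Set (IrrCharacter T)}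
    (hFe : ∀ t : T, blockCoeff F t = subgroupBlockCoeff C⟨Q⟩ e (t : G)) {χ : IrrCharacter T}
    (hχ : χ ∈ F)
    (hχQ : ∀ q : T, (q : G) ∈ Q → (χ : T → ℂ) q = (χ : T → ℂ) 1)
    (hdeg : (deg (χ : T → ℂ)).factorization p + (Nat.card Q).factorization p =
      (Nat.card T).factorization p) :
    IsDefectGroup p M e ((Q ⊓ C⟨Q⟩).subgroupOf C⟨Q⟩) ∧
      ∀ R : Subgroup G, R ≤ T → IsPGroup p R → T ≤ Subgroup.normalizer (R : Set G) → R ≤ Q := by
  classical
  letI := Fintype.ofFinite C⟨Q⟩
  obtain ⟨hQT, hCT⟩ := hT.self_le hM he.2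
  -- a constituent on a normal subgroup containing `Q`
  have key : ∀ (N : Subgroup T) [Fintype N], N.Normal → Q.subgroupOf T ≤ N →
      ∃ φ : IrrCharacter N, classInner (fun n : N => (χ : T → ℂ) n) (φ : N → ℂ) ≠ 0 ∧
        (∀ n : N, ((n : T) : G) ∈ Q → (φ : N → ℂ) n = (φ : N → ℂ) 1) ∧
        (Nat.card N).factorization p ≤
          (deg (φ : N → ℂ)).factorization p + (Nat.card Q).factorization p := by
    intro N _ hN hQN
    obtain ⟨φ, hφi, hφ⟩ := exists_constituent (N := N) (isCharacter_of_irr χ.2)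
      (IsIrrCharacter.apply_one_ne_zero χ.2)
    refine ⟨⟨φ, hφi⟩, hφ, fun n hn => constituent_apply_eq
      (IsCharacter.restrict (isCharacter_of_irr χ.2) N) ⟨φ, hφi⟩ hφ
      (show (χ : T → ℂ) (n : T) = (χ : T → ℂ) (1 : N) by
        rw [hχQ n hn, OneMemClass.coe_one]), ?_⟩
    obtain ⟨hd1, hd2⟩ := Cfsg.Agent.S0887.result N (χ : T → ℂ) χ.2 φ hφi hφ
      (deg (χ : T → ℂ)) (deg φ) (irr_apply_one_eq_deg χ) (irr_apply_one_eq_deg ⟨φ, hφi⟩)
    obtain ⟨r, hr⟩ := hd1
    rw [hr, Nat.mul_div_cancel_left _ (deg_irr_pos ⟨φ, hφi⟩)] at hd2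
    have hr0 : r ≠ 0 := fun h => (deg_irr_pos χ).ne' (by rw [hr, h, mul_zero])
    have e0 := (Nat.factorization_le_iff_dvd hr0 Subgroup.index_ne_zero_of_finite).2 hd2 p
    have e1 := congrArg (fun n : ℕ => n.factorization p) (Subgroup.card_mul_index N)
    simp only [Nat.factorization_mul Nat.card_pos.ne' Subgroup.index_ne_zero_of_finite,
      Finsupp.add_apply] at e1
    have e9 : (deg (χ : T → ℂ)).factorization p = (deg φ).factorization p + r.factorization p := by
      rw [hr, Nat.factorization_mul (deg_irr_pos ⟨φ, hφi⟩).ne' hr0, Finsupp.add_apply]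
    show _ ≤ (deg φ).factorization p + _
    omega
  refine ⟨?_, fun R hRT hRp hTR => ?_⟩
  · -- the product with the centraliser
    set W : Subgroup T := (C⟨Q⟩ ⊔ Q).subgroupOf T with hW
    have hWle : C⟨Q⟩ ⊔ Q ≤ T := sup_le hCT hQT
    have hWn : W.Normal := by
      refine normal_subgroupOf_of_le_normalizer (fun t ht => ?_)
      have h2 := hT.le_normalizer ht
      have h1 := centralizer_le_normalizer_centralizer h2 (le_refl Q)
      refine Subgroup.mem_normalizer_iff.2 fun y => ?_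
      have hmap : (C⟨Q⟩ ⊔ Q).map (MulAut.conj t).toMonoidHom = C⟨Q⟩ ⊔ Q := by
        rw [Subgroup.map_sup, map_conj_of_mem_normalizer h1, map_conj_of_mem_normalizer h2]
      constructor
      · intro hy; rw [← hmap]; exact ⟨y, hy, rfl⟩
      · intro hy
        rw [← hmap] at hy
        obtain ⟨z, hz, hzy⟩ := hy
        simp only [MulEquiv.coe_toMonoidHom, MulAut.conj_apply, mul_left_inj, mul_right_inj] at hzy
        exact hzy ▸ hz
    letI := Fintype.ofFinite W
    obtain ⟨φ, hφ, hφQ, hle⟩ := key W hWn fun y hy => Subgroup.mem_sup_right hy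
    -- restrict to the centraliser
    let i : C⟨Q⟩ →* W :=
      { toFun := fun c => ⟨⟨(c : G), hCT c.2⟩, Subgroup.mem_sup_left c.2⟩
        map_one' := rfl
        map_mul' := fun _ _ => rfl }
    set Q' : Subgroup W := ((Q.subgroupOf T).subgroupOf W)
    haveI : Q'.Normal := ⟨fun y hy w =>
      (Subgroup.mem_normalizer_iff.1 (hT.le_normalizer (w : T).2) ((y : T) : G)).1 hy⟩
    letI := Fintype.ofFinite (W ⧸ Q')
    obtain ⟨φ', hφ'c, hφ'⟩ := exists_factor (QuotientGroup.mk' Q') (QuotientGroup.mk'_surjective Q')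
      (isCharacter_of_irr φ.2) fun k hk => hφQ k (by rwa [QuotientGroup.ker_mk'] at hk)
    have hφ'i : IsIrrCharacter (W ⧸ Q') φ' :=
      irr_of_comp_irr hφ'c (QuotientGroup.mk' Q') (by rw [← hφ']; exact φ.2)
    have hsurj : Function.Surjective ((QuotientGroup.mk' Q').comp i) := by
      intro w
      obtain ⟨w, rfl⟩ := QuotientGroup.mk_surjective w
      obtain ⟨c, hc, q, hq, hcq⟩ := Set.mem_mul.1 (by
        have hw : ((w : T) : G) ∈ C⟨Q⟩ ⊔ Q := w.2
        rw [← SetLike.mem_coe, Subgroup.coe_mul_of_left_le_normalizer_right C⟨Q⟩ Q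
          (Subgroup.centralizer_le_normalizer _)] at hw
        exact hw)
      refine ⟨⟨c, hc⟩, (QuotientGroup.eq.2 ?_)⟩
      show c⁻¹ * ((w : T) : G) ∈ Q
      rw [← hcq, inv_mul_cancel_left]
      exact hq
    have hθi : IsIrrCharacter C⟨Q⟩ (fun c => (φ : W → ℂ) (i c)) := by
      have h := IsIrrCharacter.comp_surjective hφ'i _ hsurj
      have e : (fun c : C⟨Q⟩ => (φ : W → ℂ) (i c)) =
          fun c => φ' ((QuotientGroup.mk' Q').comp i c) := funext fun c => congrFun hφ' (i c)
      rw [e]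
      exact h
    set θ : IrrCharacter C⟨Q⟩ := ⟨_, hθi⟩ with hθ
    have hθd : deg (θ : C⟨Q⟩ → ℂ) = deg (φ : W → ℂ) := by
      apply Nat.cast_injective (R := ℂ)
      rw [← irr_apply_one_eq_deg, ← irr_apply_one_eq_deg]
      show (φ : W → ℂ) (i 1) = _
      rw [map_one]
    -- it is a constituent of the restriction
    have hθe : θ ∈ e := by
      refine constituent_mem hCT hFe hχ θ ?_
      obtain ⟨m, hm⟩ := IsCharacter.exists_decomp (IsCharacter.restrict (isCharacter_of_irr χ.2) W)
      intro h0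
      have hexp : (fun c : C⟨Q⟩ => (χ : T → ℂ) ⟨(c : G), hCT c.2⟩) =
          ∑ ψ : IrrCharacter W, m ψ • fun c => (ψ : W → ℂ) (i c) := by
        funext c
        rw [show (χ : T → ℂ) ⟨(c : G), hCT c.2⟩ = (fun w : W => (χ : T → ℂ) w) (i c) from rfl, hm]
        simp [Finset.sum_apply]
      choose k hk using fun ψ : IrrCharacter W => IsCharacter.exists_mult
        (IsCharacter.comp_hom (isCharacter_of_irr ψ.2) i) hθi
      rw [hexp, classInner_sum_left] at h0
      have hkφ : k φ = 1 := Nat.cast_injective (R := ℂ) (by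
        rw [← hk φ, Nat.cast_one]
        exact classInner_self_irr hθi)
      have hmφ : m φ ≠ 0 := fun h => hφ (by
        rw [hm, classInner_sum_left]
        refine Finset.sum_eq_zero fun ψ _ => ?_
        rw [classInner_nsmul_left, classInner_irrChar ψ.2 φ.2]
        split_ifs with h'
        · rw [Subtype.ext h' , h, Nat.cast_zero, zero_mul]
        · rw [mul_zero])
      have h1 : ((∑ ψ : IrrCharacter W, m ψ * k ψ : ℕ) : ℂ) = 0 := by
        push_cast
        rw [← h0]
        exact Finset.sum_congr rfl fun ψ _ => by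
          rw [classInner_nsmul_left, show (θ : C⟨Q⟩ → ℂ) = fun c => (φ : W → ℂ) (i c) from rfl, hk]
      have h2 := Finset.sum_eq_zero_iff.1 (Nat.cast_eq_zero.1 h1) φ (Finset.mem_univ _)
      rw [hkφ, mul_one] at h2
      exact hmφ h2
    -- degrees
    refine centralPart_defect hM he hθe ?_
    haveI : ((Q ⊓ C⟨Q⟩).subgroupOf C⟨Q⟩).Normal := ⟨fun d hd x => by
      rwa [Subgroup.mem_center_iff.1 (centralPart_le_center Q hd) x, mul_inv_cancel_right]⟩
    have hdvd := deg_dvd_index_of_le_ker θ.2 ((Q ⊓ C⟨Q⟩).subgroupOf C⟨Q⟩) fun z hz => by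
      show (φ : W → ℂ) (i z) = (φ : W → ℂ) (i 1)
      rw [map_one]; exact hφQ (i z) hz.1
    have h1 := (Nat.factorization_le_iff_dvd (deg_irr_pos θ).ne'
      Subgroup.index_ne_zero_of_finite).2 hdvd p
    have e1 := congrArg (fun n : ℕ => n.factorization p) (Subgroup.card_mul_index ((Q ⊓ C⟨Q⟩).subgroupOf C⟨Q⟩))
    have e2 := congrArg (fun n : ℕ => n.factorization p)
      (Cfsg.Lib.Coprime.card_sup_mul_card_inf (N := Q) (H := C⟨Q⟩)
        (Subgroup.centralizer_le_normalizer _))
    simp only [Nat.factorization_mul Nat.card_pos.ne' Subgroup.index_ne_zero_of_finite,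
      Finsupp.add_apply, card_centralPart] at e1
    simp only [Nat.factorization_mul Nat.card_pos.ne' Nat.card_pos.ne', Finsupp.add_apply,
      sup_comm Q C⟨Q⟩] at e2
    rw [show Nat.card W = Nat.card (C⟨Q⟩ ⊔ Q : Subgroup G) from
      Nat.card_congr (Subgroup.subgroupOfEquivOfLe hWle).toEquiv, ← hθd] at hle
    omega
  · set N : Subgroup T := (Q ⊔ R).subgroupOf T with hN
    have hNle : Q ⊔ R ≤ T := sup_le hQT hRT
    have hNn : N.Normal := by
      refine normal_subgroupOf_of_le_normalizer (fun t ht => ?_)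
      refine Subgroup.mem_normalizer_iff.2 fun y => ?_
      have hmap : (Q ⊔ R).map (MulAut.conj t).toMonoidHom = Q ⊔ R := by
        rw [Subgroup.map_sup, map_conj_of_mem_normalizer (hT.le_normalizer ht),
          map_conj_of_mem_normalizer (hTR ht)]
      constructor
      · intro hy; rw [← hmap]; exact ⟨y, hy, rfl⟩
      · intro hy
        rw [← hmap] at hy
        obtain ⟨z, hz, hzy⟩ := hy
        simp only [MulEquiv.coe_toMonoidHom, MulAut.conj_apply, mul_left_inj, mul_right_inj] at hzy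
        exact hzy ▸ hz
    letI := Fintype.ofFinite N
    obtain ⟨φ, -, hφQ, hle⟩ := key N hNn fun y hy => Subgroup.mem_sup_left hy
    have hNp : IsPGroup p (Q ⊔ R : Subgroup G) :=
      IsPGroup.to_sup_of_normal_left' (H := Q) (K := R) he.1 hRp (hRT.trans hT.le_normalizer)
    obtain ⟨a, ha⟩ := IsPGroup.iff_card.1 hNp
    obtain ⟨b, hb⟩ := IsPGroup.iff_card.1 he.1
    have hba : b ≤ a := (Nat.pow_le_pow_iff_right hM.1.one_lt).1
      (ha ▸ hb ▸ Subgroup.card_le_of_le (le_sup_left : Q ≤ Q ⊔ R))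
    set Q' : Subgroup N := (Q.subgroupOf T).subgroupOf N
    letI := Fintype.ofFinite Q'
    have hQ' : Nat.card Q' = p ^ b := by
      rw [← hb, Nat.card_congr (Subgroup.subgroupOfEquivOfLe
        (show Q.subgroupOf T ≤ N from fun y hy => Subgroup.mem_sup_left hy)).toEquiv,
        Nat.card_congr (Subgroup.subgroupOfEquivOfLe hQT).toEquiv]
    have hN' : Nat.card N = p ^ a := by
      rw [← ha, hN, Nat.card_congr (Subgroup.subgroupOfEquivOfLe hNle).toEquiv]
    rw [hN', hb, hM.1.factorization_pow, Finsupp.single_eq_same, hM.1.factorization_pow,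
      Finsupp.single_eq_same] at hle
    -- the squared degree is at most the index
    have hsq : Nat.card Q' * deg (φ : N → ℂ) ^ 2 ≤ Nat.card N := by
      have h1 := classInner_self_irr φ.2
      rw [classInner_def, Nat.card_eq_fintype_card, inv_mul_eq_one₀
        (Nat.cast_ne_zero.2 Fintype.card_ne_zero)] at h1
      have h2 : (Fintype.card N : ℝ) = ∑ n : N, Complex.normSq ((φ : N → ℂ) n) := by
        have h := congrArg Complex.re h1
        simpa [Complex.re_sum, Complex.mul_conj] using h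
      have h3 : ∑ n ∈ Finset.univ.filter (fun n : N => n ∈ Q'),
          Complex.normSq ((φ : N → ℂ) n) ≤ (Fintype.card N : ℝ) := by
        rw [h2]
        exact Finset.sum_le_sum_of_subset_of_nonneg (Finset.filter_subset _ _)
          fun n _ _ => Complex.normSq_nonneg _
      rw [Finset.sum_congr rfl fun n hn => show Complex.normSq ((φ : N → ℂ) n) =
          ((deg (φ : N → ℂ) : ℝ) * (deg (φ : N → ℂ) : ℝ)) by
        rw [hφQ n (Finset.mem_filter.1 hn).2, irr_apply_one_eq_deg, Complex.normSq_natCast],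
        Finset.sum_const, nsmul_eq_mul, ← Fintype.card_subtype] at h3
      rw [Nat.card_eq_fintype_card (α := N), Nat.card_eq_fintype_card (α := Q'), sq]
      have h4 : ((Fintype.card Q' * (deg (φ : N → ℂ) * deg (φ : N → ℂ)) : ℕ) : ℝ) ≤
          ((Fintype.card N : ℕ) : ℝ) := by
        push_cast
        convert h3 using 2
      exact_mod_cast h4
    have hpow : p ^ (a - b) ≤ deg (φ : N → ℂ) := Nat.le_of_dvd (deg_irr_pos φ)
      ((hM.1.pow_dvd_iff_le_factorization (deg_irr_pos φ).ne').2 (by omega))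
    have hab : a = b := by
      have h1 : p ^ (b + 2 * (a - b)) ≤ p ^ a := by
        rw [pow_add, pow_mul', ← hQ', ← hN']
        exact (Nat.mul_le_mul_left _ (Nat.pow_le_pow_left hpow 2)).trans hsq
      have := (Nat.pow_le_pow_iff_right hM.1.one_lt).1 h1
      omega
    exact le_sup_right.trans (Subgroup.eq_of_le_of_card_ge le_sup_left
      (le_of_eq (by rw [ha, hb, hab]))).ge

end Cfsg.Lib.Blocks
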