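import Mathlib
import Cfsg.Agent.Blocks.Weights
import Cfsg.Agent.Chars.Clifford

/-!
# Covering of blocks of normal subgroups

A central element supported on a normal subgroup `N` has the same central character on an
irreducible character and on each of its constituents; applied to the idempotent of an orbit of
blocks of `N` this gives the basic properties of covering.
-/

set_option autoImplicit false
set_option linter.unusedSectionVars false

namespace Cfsg.Lib.Blocks

open Cfsg.Lib.Chars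
open scoped ComplexConjugate

universe u

variable {G : Type u} [Group G] [Fintype G] {M : Ideal AlgInt} {p : ℕ}

/-- Conjugation of the irreducible characters of a normal subgroup. -/
noncomputable def cjIrr (N : Subgroup G) [N.Normal] (g : G) :
    IrrCharacter N ≃ IrrCharacter N :=
  irrEquiv (MulAut.conjNormal g)

lemma cjIrr_val (N : Subgroup G) [N.Normal] (g : G) (θ : IrrCharacter N) :
    ((cjIrr N g θ : IrrCharacter N) : N → ℂ) = conjN N g (θ : N → ℂ) := by
  rw [conjN_eq_comp]; rfl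

lemma cjIrr_mul (N : Subgroup G) [N.Normal] (a b : G) (θ : IrrCharacter N) :
    cjIrr N (a * b) θ = cjIrr N b (cjIrr N a θ) :=
  Subtype.ext (by rw [cjIrr_val, cjIrr_val, cjIrr_val, conjN_mul])

lemma cjIrr_one (N : Subgroup G) [N.Normal] (θ : IrrCharacter N) : cjIrr N 1 θ = θ :=
  Subtype.ext (by rw [cjIrr_val, conjN_one])

/-- The union of the conjugates of a set of characters of a normal subgroup. -/
def orb (N : Subgroup G) [N.Normal] (A : Set (IrrCharacter N)) : Set (IrrCharacter N) :=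
  {ψ | ∃ g : G, ∃ θ ∈ A, ψ = cjIrr N g θ}

lemma subset_orb (N : Subgroup G) [N.Normal] (A : Set (IrrCharacter N)) : A ⊆ orb N A :=
  fun θ hθ => ⟨1, θ, hθ, (cjIrr_one N θ).symm⟩

lemma cjIrr_mem_orb {N : Subgroup G} [N.Normal] {A : Set (IrrCharacter N)} {ψ : IrrCharacter N}
    (h : ψ ∈ orb N A) (x : G) : cjIrr N x ψ ∈ orb N A := by
  obtain ⟨g, θ, hθ, rfl⟩ := h
  exact ⟨g * x, θ, hθ, (cjIrr_mul N g x θ).symm⟩

lemma image_cjIrr_orb (N : Subgroup G) [N.Normal] (A : Set (IrrCharacter N)) (x : G) :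
    cjIrr N x '' orb N A = orb N A := by
  refine Set.Subset.antisymm ?_ fun ψ hψ => ⟨cjIrr N x⁻¹ ψ, cjIrr_mem_orb hψ _, ?_⟩
  · rintro _ ⟨ψ, hψ, rfl⟩
    exact cjIrr_mem_orb hψ x
  · rw [← cjIrr_mul, inv_mul_cancel, cjIrr_one]

/-- The idempotent of a union of blocks has integral coefficients. -/
lemma integral_blockElem_union (hM : IsPModular p M) {S : Set (IrrCharacter G)}
    (hS : ∀ ψ ∈ S, blockOf M (ψ : G → ℂ) ⊆ S) : Integral M (blockElem S) := by
  classical
  have h : blockElem S =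
      ∑ c ∈ (blocksFinset M G).filter (fun c => c ⊆ S), blockElem c := by
    refine eq_of_omega_eq (isCentralFn_blockElem S)
      (IsCentralFn.sum _ _ fun c _ => isCentralFn_blockElem c) fun χ => ?_
    rw [omega_sum, omega_blockElem, Finset.sum_congr rfl fun c _ => omega_blockElem c χ]
    split_ifs with hχ
    · rw [Finset.sum_eq_single (blockOf M (χ : G → ℂ)), if_pos (mem_blockOf_self hM χ)]
      · exact fun c hc hne => if_neg fun h' =>
          hne (IsPBlock.eq_blockOf hM ((mem_blocksFinset hM).1 (Finset.mem_filter.1 hc).1) h')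
      · exact fun h' => absurd (Finset.mem_filter.2
          ⟨(mem_blocksFinset hM).2 (isPBlock_blockOf χ), hS χ hχ⟩) h'
    · symm
      refine Finset.sum_eq_zero fun c hc => if_neg fun h' => hχ ?_
      have hcS : c ⊆ S := (Finset.mem_filter.1 hc).2
      exact hcS h'
  rw [h]
  intro g
  rw [fn_sum]
  exact sum_mem fun c hc =>
    integral_blockElem hM ((mem_blocksFinset hM).1 (Finset.mem_filter.1 hc).1) g

/-- In a group of order prime to `p` every idempotent is integral. -/
lemma integral_blockElem_pPrime (hM : IsPModular p M) (h : ¬ p ∣ Nat.card G)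
    (S : Set (IrrCharacter G)) : Integral M (blockElem S) := by
  classical
  intro g
  rw [fn_blockElem, blockCoeff_eq_sum]
  refine mul_mem (isUnitAt_natCast hM h).inv.mem_place (sum_mem fun χ _ => ?_)
  have hint := fun x => IsCharacter.isIntegral (isCharacter_of_irr χ.2) x
  rw [← IsCharacter.conj_inv (isCharacter_of_irr χ.2)]
  exact mul_mem (isIntegral_mem_place hM (hint 1)) (isIntegral_mem_place hM (hint _))

/-- The orbit of a block is a union of blocks. -/
lemma blockOf_subset_orb (hM : IsPModular p M) {N : Subgroup G} [N.Normal] [Fintype N]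
    {b : Set (IrrCharacter N)} (hb : IsPBlock M b) {ψ : IrrCharacter N} (hψ : ψ ∈ orb N b) :
    blockOf M (ψ : N → ℂ) ⊆ orb N b := by
  obtain ⟨g, θ, hθ, rfl⟩ := hψ
  have himg : IsPBlock M (cjIrr N g '' b) := IsPBlock.image_irrEquiv _ hb
  rw [← IsPBlock.eq_blockOf hM himg (Set.mem_image_of_mem _ hθ)]
  rintro _ ⟨θ', hθ', rfl⟩
  exact ⟨g, θ', hθ', rfl⟩

lemma resElem_bx (H : Subgroup G) [Fintype H] (b : Set (IrrCharacter H)) :
    resElem H (bx H b) = blockElem b := fn_ext fun h => by
  rw [fn_resElem, fn_bx, subgroupBlockCoeff, dif_pos h.2, fn_blockElem]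

/-- An invariant set of characters has a central idempotent. -/
lemma isCentralFn_bx {N : Subgroup G} [N.Normal] [Fintype N] {S : Set (IrrCharacter N)}
    (hS : ∀ x : G, cjIrr N x '' S = S) : IsCentralFn (bx N S) := by
  intro g x
  rw [fn_bx, fn_bx, subgroupBlockCoeff, subgroupBlockCoeff]
  by_cases hg : g ∈ N
  · rw [dif_pos hg, dif_pos (Subgroup.Normal.conj_mem ‹_› g hg x)]
    have h := blockCoeff_image (MulAut.conjNormal x : N ≃* N) S ⟨g, hg⟩
    rw [show irrEquiv (MulAut.conjNormal x : N ≃* N) '' S = S from hS x] at h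
    rw [h]
    exact congrArg _ (Subtype.ext (MulAut.conjNormal_apply x ⟨g, hg⟩).symm)
  · rw [dif_neg hg, dif_neg fun h' => hg ?_]
    simpa [mul_assoc] using Subgroup.Normal.conj_mem ‹N.Normal› _ h' x⁻¹

lemma isCentralFn_bx_orb {N : Subgroup G} [N.Normal] [Fintype N] (A : Set (IrrCharacter N)) :
    IsCentralFn (bx N (orb N A)) :=
  isCentralFn_bx (image_cjIrr_orb N A)

lemma integral_bx_of {H : Subgroup G} [Fintype H] {S : Set (IrrCharacter H)}
    (h : Integral M (blockElem S)) : Integral M (bx H S) := by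
  rw [bx_eq_extElem]; exact h.extElem

lemma suppOn_cls {N : Subgroup G} [N.Normal] {g : G} (hg : g ∈ N) :
    SuppOn N (cls ℂ g) := fun x hx => by
  classical
  rw [fn_cls, if_neg]
  intro hc
  obtain ⟨y, rfl⟩ := isConj_iff.1 hc
  exact hx (Subgroup.Normal.conj_mem ‹_› g hg y)

/-- **Central characters and restriction**: on a central element supported on `N`, a character
and each of its constituents have the same central character. -/
theorem omega_eq_of_constituent (N : Subgroup G) [N.Normal] [Fintype N]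
    {a : MonoidAlgebra ℂ G} (ha : IsCentralFn a) (hs : SuppOn N a) (χ : IrrCharacter G)
    (θ : IrrCharacter N) (hθ : classInner (fun n : N => (χ : G → ℂ) n) (θ : N → ℂ) ≠ 0) :
    omega (χ : G → ℂ) a = omega (θ : N → ℂ) (resElem N a) := by
  classical
  set e := classInner (fun n : N => (χ : G → ℂ) n) (θ : N → ℂ) with he
  have hcl := clifford N χ.2 θ.2 hθ
  have h1 : chiEval (χ : G → ℂ) a = chiEval (fun n : N => (χ : G → ℂ) n) (resElem N a) := by
    simp only [chiEval, fn_resElem]
    symm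
    refine Finset.sum_bij_ne_zero (fun n _ _ => (n : G)) (fun _ _ _ => Finset.mem_univ _)
      (fun a _ _ b _ _ h => Subtype.ext h) ?_ (fun _ _ _ => rfl)
    intro g _ hg
    have hgN : g ∈ N := by
      by_contra h
      exact hg (by rw [hs g h, zero_mul])
    exact ⟨⟨g, hgN⟩, Finset.mem_univ _, hg, rfl⟩
  have h2 : ∀ ψ ∈ conjOrbit N (θ : N → ℂ),
      chiEval ψ (resElem N a) = chiEval (θ : N → ℂ) (resElem N a) ∧ ψ 1 = (θ : N → ℂ) 1 := by
    intro ψ hψ
    obtain ⟨g, rfl⟩ := (mem_conjOrbit N).1 hψ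
    refine ⟨?_, congrArg (θ : N → ℂ) (Subtype.ext (by simp))⟩
    simp only [chiEval, fn_resElem, conjN_eq_comp]
    refine Fintype.sum_equiv (MulAut.conjNormal g).toEquiv _ _ fun n => ?_
    simp only [MulEquiv.toEquiv_eq_coe, MulEquiv.coe_toEquiv, MulAut.conjNormal_apply]
    rw [ha (n : G) g]
  have hcard : ((conjOrbit N (θ : N → ℂ)).card : ℂ) ≠ 0 :=
    Nat.cast_ne_zero.2 (Finset.card_ne_zero.2 ⟨_, (mem_conjOrbit N).2 ⟨1, rfl⟩⟩)
  have h3 : chiEval (fun n : N => (χ : G → ℂ) n) (resElem N a) =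
      e * ((conjOrbit N (θ : N → ℂ)).card * chiEval (θ : N → ℂ) (resElem N a)) := by
    rw [hcl]
    simp only [chiEval, Pi.smul_apply, Finset.sum_apply, smul_eq_mul, Finset.mul_sum]
    rw [Finset.sum_comm]
    have h' : ∀ ψ ∈ conjOrbit N (θ : N → ℂ),
        ∑ n : N, fn (resElem N a) n * (e * ψ n) = e * chiEval (θ : N → ℂ) (resElem N a) :=
      fun ψ hψ => by
        rw [← (h2 ψ hψ).1, chiEval, Finset.mul_sum]
        exact Finset.sum_congr rfl fun n _ => by ring
    rw [Finset.sum_congr rfl h', Finset.sum_const, nsmul_eq_mul]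
    simp only [chiEval, Finset.mul_sum]
    exact Finset.sum_congr rfl fun n _ => by ring
  have h4 : (χ : G → ℂ) 1 = e * ((conjOrbit N (θ : N → ℂ)).card * (θ : N → ℂ) 1) := by
    have := congrFun hcl 1
    simp only [OneMemClass.coe_one, Pi.smul_apply, Finset.sum_apply, smul_eq_mul] at this
    rw [this, Finset.sum_congr rfl fun ψ hψ => (h2 ψ hψ).2, Finset.sum_const, nsmul_eq_mul]
  rw [omega, omega, h1, h3, h4, mul_div_mul_left _ _ hθ, mul_div_mul_left _ _ hcard]

/-- The idempotent of an invariant set of characters detects the constituents. -/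
lemma omega_bx_of_constituent {N : Subgroup G} [N.Normal] [Fintype N]
    {S : Set (IrrCharacter N)} (hS : ∀ x : G, cjIrr N x '' S = S) (χ : IrrCharacter G)
    (θ : IrrCharacter N) (hθ : classInner (fun n : N => (χ : G → ℂ) n) (θ : N → ℂ) ≠ 0)
    [Decidable (θ ∈ S)] :
    omega (χ : G → ℂ) (bx N S) = if θ ∈ S then 1 else 0 := by
  rw [omega_eq_of_constituent N (isCentralFn_bx hS) (suppOn_bx N S) χ θ hθ, resElem_bx,
    omega_blockElem]

lemma exists_irr_constituent (N : Subgroup G) [N.Normal] [Fintype N] (χ : IrrCharacter G) :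
    ∃ θ : IrrCharacter N, classInner (fun n : N => (χ : G → ℂ) n) (θ : N → ℂ) ≠ 0 := by
  obtain ⟨θ, hθ, h⟩ := exists_constituent N (isCharacter_of_irr χ.2)
    (IsIrrCharacter.apply_one_ne_zero χ.2)
  exact ⟨⟨θ, hθ⟩, h⟩

lemma constituent_cjIrr {N : Subgroup G} [N.Normal] [Fintype N] {χ : IrrCharacter G}
    {θ : IrrCharacter N} (h : classInner (fun n : N => (χ : G → ℂ) n) (θ : N → ℂ) ≠ 0) (g : G) :
    classInner (fun n : N => (χ : G → ℂ) n) (cjIrr N g θ : N → ℂ) ≠ 0 := by
  rw [cjIrr_val, classInner_restrict_conjN N (isClassFunction_irr χ)]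
  exact h

/-- If the orbit of `A` has an integral idempotent, having a constituent in it is a block
property. -/
lemma mem_orb_of_sameBlock (hM : IsPModular p M) {N : Subgroup G} [N.Normal] [Fintype N]
    {A : Set (IrrCharacter N)} (hint : Integral M (blockElem (orb N A))) {χ χ' : IrrCharacter G}
    (h : SameBlock M (χ : G → ℂ) χ') {θ ψ : IrrCharacter N}
    (hθ : classInner (fun n : N => (χ : G → ℂ) n) (θ : N → ℂ) ≠ 0)
    (hψ : classInner (fun n : N => (χ' : G → ℂ) n) (ψ : N → ℂ) ≠ 0) (hθA : θ ∈ orb N A) :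
    ψ ∈ orb N A := by
  classical
  have h' := res_omega_eq_of_sameBlock hM h (isCentralFn_bx_orb A) (integral_bx_of hint)
  rw [omega_bx_of_constituent (image_cjIrr_orb N A) χ θ hθ,
    omega_bx_of_constituent (image_cjIrr_orb N A) χ' ψ hψ, if_pos hθA] at h'
  by_contra hc
  rw [if_neg hc, res_eq_iff (one_mem _) (zero_mem _), sub_zero] at h'
  exact not_small_one h'

/-- **Constituents of one block lie in conjugate blocks.** -/
theorem constituent_mem_orb (hM : IsPModular p M) {N : Subgroup G} [N.Normal] [Fintype N]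
    {B : Set (IrrCharacter G)} (hB : IsPBlock M B) {b : Set (IrrCharacter N)}
    (hb : IsPBlock M b) {χ χ' : IrrCharacter G} (hχ : χ ∈ B) (hχ' : χ' ∈ B)
    {θ ψ : IrrCharacter N} (hθb : θ ∈ b)
    (hθ : classInner (fun n : N => (χ : G → ℂ) n) (θ : N → ℂ) ≠ 0)
    (hψ : classInner (fun n : N => (χ' : G → ℂ) n) (ψ : N → ℂ) ≠ 0) : ψ ∈ orb N b :=
  mem_orb_of_sameBlock hM (integral_blockElem_union hM fun _ h => blockOf_subset_orb hM hb h)
    (IsPBlock.sameBlock hM hB hχ hχ') hθ hψ (subset_orb N b hθb)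

/-- Every member of a covering block has a constituent in the covered block. -/
theorem exists_constituent_mem (hM : IsPModular p M) {N : Subgroup G} [N.Normal] [Fintype N]
    {B : Set (IrrCharacter G)} (hB : IsPBlock M B) {b : Set (IrrCharacter N)}
    (hb : IsPBlock M b)
    (hcov : ∃ χ ∈ B, ∃ θ ∈ b, classInner (fun n : N => (χ : G → ℂ) n) (θ : N → ℂ) ≠ 0)
    {χ' : IrrCharacter G} (hχ' : χ' ∈ B) :
    ∃ θ ∈ b, classInner (fun n : N => (χ' : G → ℂ) n) (θ : N → ℂ) ≠ 0 := by
  obtain ⟨χ, hχ, θ, hθb, hθ⟩ := hcov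
  obtain ⟨ψ, hψ⟩ := exists_irr_constituent N χ'
  obtain ⟨g, θ', hθ', rfl⟩ := constituent_mem_orb hM hB hb hχ hχ' hθb hθ hψ
  refine ⟨θ', hθ', ?_⟩
  have := constituent_cjIrr hψ g⁻¹
  rwa [← cjIrr_mul, mul_inv_cancel, cjIrr_one] at this

/-- Central characters of a normal subgroup decide the constituents. -/
theorem constituent_iff_centralChar (N : Subgroup G) [N.Normal] [Fintype N] (χ : IrrCharacter G)
    (θ : IrrCharacter N) :
    classInner (fun n : N => (χ : G → ℂ) n) (θ : N → ℂ) ≠ 0 ↔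
      ∀ n : N, centralChar (χ : G → ℂ) (n : G) = inducedCentralChar N (θ : N → ℂ) (n : G) := by
  classical
  letI : Fintype (ConjClasses G) := Fintype.ofFinite _
  refine ⟨fun h n => ?_, fun h => ?_⟩
  · rw [inducedCentralChar_eq_omega, ← omega_cls_irr,
      omega_eq_of_constituent N (isCentralFn_cls _) (suppOn_cls n.2) χ θ h]
  · obtain ⟨ψ, hψ⟩ := exists_irr_constituent N χ
    have hinv := image_cjIrr_orb N ({θ} : Set (IrrCharacter N))
    have h1 := omega_bx_of_constituent hinv χ ψ hψ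
    have h2 : omega (χ : G → ℂ) (bx N (orb N {θ})) =
        omega (θ : N → ℂ) (resElem N (bx N (orb N {θ}))) := by
      rw [omega_eq_sum_classes _ (isClassFunction_irr χ) (isCentralFn_bx hinv),
        omega_resElem_eq_sum N _ (isCentralFn_bx hinv)]
      refine Finset.sum_congr rfl fun C _ => ?_
      by_cases hC : crep C ∈ N
      · rw [h ⟨_, hC⟩]
      · rw [suppOn_bx N _ _ hC, zero_mul, zero_mul]
    rw [resElem_bx, omega_blockElem, if_pos (subset_orb N _ (Set.mem_singleton θ)), h1] at h2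
    have hmem : ψ ∈ orb N {θ} := by
      by_contra hc
      rw [if_neg hc] at h2
      exact zero_ne_one h2
    obtain ⟨g, θ', hθ', rfl⟩ := hmem
    rw [Set.mem_singleton_iff] at hθ'
    subst hθ'
    have := constituent_cjIrr hψ g⁻¹
    rwa [← cjIrr_mul, mul_inv_cancel, cjIrr_one] at this

/-- **Passman's covering criterion.** -/
theorem covers_iff (hM : IsPModular p M) {N : Subgroup G} [N.Normal] [Fintype N]
    {B : Set (IrrCharacter G)} (hB : IsPBlock M B) {b : Set (IrrCharacter N)}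
    (hb : IsPBlock M b) :
    (∃ χ ∈ B, ∃ θ ∈ b, classInner (fun n : N => (χ : G → ℂ) n) (θ : N → ℂ) ≠ 0) ↔
      ∀ χ ∈ B, ∀ θ ∈ b, ∀ n : N,
        res M (centralChar (χ : G → ℂ) (n : G)) =
          res M (inducedCentralChar N (θ : N → ℂ) (n : G)) := by
  classical
  letI : Fintype (ConjClasses G) := Fintype.ofFinite _
  refine ⟨fun hcov χ hχ θ hθ n => ?_, fun h => ?_⟩
  · obtain ⟨θ', hθ', hc⟩ := exists_constituent_mem hM hB hb hcov hχ
    rw [(constituent_iff_centralChar N χ θ').1 hc n]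
    exact res_inducedCentralChar_eq hM N hb hθ' hθ _
  · obtain ⟨χ, hχ⟩ := IsPBlock.nonempty hM hB
    obtain ⟨θ, hθ⟩ := IsPBlock.nonempty hM hb
    obtain ⟨ψ, hψ⟩ := exists_irr_constituent N χ
    have hint : Integral M (blockElem (orb N b)) :=
      integral_blockElem_union hM fun _ h => blockOf_subset_orb hM hb h
    have hzi := integral_bx_of hint
    have hzc := isCentralFn_bx_orb b
    have h2 : res M (omega (χ : G → ℂ) (bx N (orb N b))) =
        res M (omega (θ : N → ℂ) (resElem N (bx N (orb N b)))) := by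
      rw [omega_eq_sum_classes _ (isClassFunction_irr χ) hzc, omega_resElem_eq_sum N _ hzc,
        res_sum _ _ fun C _ => mul_mem (hzi _) (centralChar_mem_place hM χ _),
        res_sum _ _ fun C _ => mul_mem (hzi _) (inducedCentralChar_mem_place hM N θ _)]
      refine Finset.sum_congr rfl fun C _ => ?_
      rw [res_mul (hzi _) (centralChar_mem_place hM χ _),
        res_mul (hzi _) (inducedCentralChar_mem_place hM N θ _)]
      by_cases hC : crep C ∈ N
      · rw [h χ hχ θ hθ ⟨_, hC⟩]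
      · rw [suppOn_bx N _ _ hC, res_zero, zero_mul, zero_mul]
    rw [omega_bx_of_constituent (image_cjIrr_orb N b) χ ψ hψ, resElem_bx, omega_blockElem,
      if_pos (subset_orb N b hθ)] at h2
    have hmem : ψ ∈ orb N b := by
      by_contra hc
      rw [if_neg hc, res_eq_iff (zero_mem _) (one_mem _), zero_sub] at h2
      exact not_small_one (by simpa using h2.neg)
    obtain ⟨g, θ', hθ', rfl⟩ := hmem
    refine ⟨χ, hχ, θ', hθ', ?_⟩
    have := constituent_cjIrr hψ g⁻¹
    rwa [← cjIrr_mul, mul_inv_cancel, cjIrr_one] at this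

/-- Over a normal subgroup of `p`-power index the covering block is unique. -/
theorem existsUnique_covering (hM : IsPModular p M) (N : Subgroup G) [N.Normal] [Fintype N]
    {k : ℕ} (hidx : N.index = p ^ k) {b : Set (IrrCharacter N)} (hb : IsPBlock M b) :
    ∃! B : Set (IrrCharacter G), IsPBlock M B ∧
      ∃ χ ∈ B, ∃ θ ∈ b, classInner (fun n : N => (χ : G → ℂ) n) (θ : N → ℂ) ≠ 0 := by
  classical
  obtain ⟨θ, hθ⟩ := IsPBlock.nonempty hM hb
  obtain ⟨χ, hχi, hχ⟩ := exists_over N θ.2
  refine ⟨blockOf M χ, ⟨isPBlock_blockOf ⟨χ, hχi⟩, ⟨χ, hχi⟩, mem_blockOf_self hM (⟨χ, hχi⟩ : IrrCharacter G), θ, hθ, hχ⟩, ?_⟩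
  rintro B ⟨hB, χ', hχ', θ', hθ', hc⟩
  set B₀ := blockOf M χ with hB₀
  have hB₀b : IsPBlock M B₀ := isPBlock_blockOf ⟨χ, hχi⟩
  have hχB₀ : (⟨χ, hχi⟩ : IrrCharacter G) ∈ B₀ := mem_blockOf_self hM (⟨χ, hχi⟩ : IrrCharacter G)
  have hs : SuppOn N (blockElem B₀) := fun g hg => by
    rw [fn_blockElem]
    refine blockCoeff_eq_zero_of_singular hM hB₀b ?_
    by_contra hreg
    exact hg (mem_of_pRegular_of_index_eq_pow hM.1 N hidx hreg)
  have h1 := omega_eq_of_constituent N (isCentralFn_blockElem B₀) hs ⟨χ, hχi⟩ θ hχ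
  have h2 := omega_eq_of_constituent N (isCentralFn_blockElem B₀) hs χ' θ' hc
  have h3 := res_omega_eq_of_sameBlock hM (IsPBlock.sameBlock hM hb hθ hθ')
    ((isCentralFn_blockElem B₀).resElem N) ((integral_blockElem hM hB₀b).resElem N)
  rw [← h1, ← h2, omega_blockElem, omega_blockElem, if_pos hχB₀] at h3
  have hmem : χ' ∈ B₀ := by
    by_contra hn
    rw [if_neg hn, res_eq_iff (one_mem _) (zero_mem _), sub_zero] at h3
    exact not_small_one h3
  exact IsPBlock.eq_of_mem_inter hM hB hB₀b hχ' hmem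

/-- Over a normal `p'`-subgroup, constituents are a block invariant. -/
theorem constituent_of_sameBlock_pPrime (hM : IsPModular p M) (N : Subgroup G) [N.Normal]
    [Fintype N] (hN : ¬ p ∣ Nat.card N) {χ χ' : IrrCharacter G}
    (h : SameBlock M (χ : G → ℂ) χ') {θ : IrrCharacter N}
    (hθ : classInner (fun n : N => (χ : G → ℂ) n) (θ : N → ℂ) ≠ 0) :
    classInner (fun n : N => (χ' : G → ℂ) n) (θ : N → ℂ) ≠ 0 := by
  obtain ⟨ψ, hψ⟩ := exists_irr_constituent N χ'
  obtain ⟨g, θ', hθ', rfl⟩ := mem_orb_of_sameBlock hM (integral_blockElem_pPrime hM hN _) h hθ hψ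
    (subset_orb N {θ} rfl)
  rw [Set.mem_singleton_iff] at hθ'
  subst hθ'
  have := constituent_cjIrr hψ g⁻¹
  rwa [← cjIrr_mul, mul_inv_cancel, cjIrr_one] at this

/-- **Blocks of the quotient by a normal `p'`-subgroup are blocks.** -/
theorem exists_inflated_of_sameBlock (hM : IsPModular p M) (N : Subgroup G) [N.Normal]
    (hN : ¬ p ∣ Nat.card N) (χ : IrrCharacter (G ⧸ N)) (ψ : IrrCharacter G)
    (h : SameBlock M ((χ : G ⧸ N → ℂ) ∘ QuotientGroup.mk) (ψ : G → ℂ)) :
    ∃ ψ' : IrrCharacter (G ⧸ N), (ψ : G → ℂ) = (ψ' : G ⧸ N → ℂ) ∘ QuotientGroup.mk ∧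
      SameBlock M (χ : G ⧸ N → ℂ) (ψ' : G ⧸ N → ℂ) := by
  classical
  letI := Fintype.ofFinite N
  letI := Fintype.ofFinite (G ⧸ N)
  have hsurj : Function.Surjective (QuotientGroup.mk' N) := QuotientGroup.mk'_surjective N
  set χG : IrrCharacter G :=
    ⟨fun x => (χ : G ⧸ N → ℂ) (QuotientGroup.mk' N x),
      IsIrrCharacter.comp_surjective χ.2 _ hsurj⟩ with hχG
  have hsame : SameBlock M (χG : G → ℂ) (ψ : G → ℂ) := h
  have htriv : classInner (fun n : N => (χG : G → ℂ) n) ((principal N : IrrCharacter N) : N → ℂ) ≠ 0 := by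
    have hval : ∀ n : N, (χG : G → ℂ) n = (χ : G ⧸ N → ℂ) 1 := fun n => by
      show (χ : G ⧸ N → ℂ) (QuotientGroup.mk' N n) = _
      exact congrArg _ ((QuotientGroup.eq_one_iff _).2 n.2)
    simp only [classInner_def, hval, principal, map_one, mul_one, Finset.sum_const,
      nsmul_eq_mul, Finset.card_univ, Nat.card_eq_fintype_card]
    rw [← mul_assoc, inv_mul_cancel₀ (Nat.cast_ne_zero.2 Fintype.card_ne_zero), one_mul]
    exact IsIrrCharacter.apply_one_ne_zero χ.2
  have hψ1 := constituent_of_sameBlock_pPrime hM N hN hsame htriv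
  obtain ⟨e, -, he⟩ := restrict_eq_mult_of_invariant N ψ.2 (principal N).2
    (fun g => funext fun n => by simp [conjN, principal]) hψ1
  have hker : ∀ k ∈ (QuotientGroup.mk' N).ker, (ψ : G → ℂ) k = (ψ : G → ℂ) 1 := fun k hk => by
    rw [QuotientGroup.ker_mk'] at hk
    have e1 := congrFun he ⟨k, hk⟩
    have e2 := congrFun he 1
    simp only [Pi.smul_apply, smul_eq_mul, principal, mul_one, OneMemClass.coe_one] at e1 e2
    rw [e1, e2]
  obtain ⟨f, hf, hfψ⟩ := exists_factor _ hsurj (isCharacter_of_irr ψ.2) hker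
  have hfi : Cfsg.IsIrrCharacter (G ⧸ N) f :=
    IsIrrCharacter.descend hf _ hsurj (hfψ ▸ ψ.2)
  refine ⟨⟨f, hfi⟩, hfψ, (sameBlock_iff_res hM χ ⟨f, hfi⟩).2 fun q => ?_⟩
  set a : MonoidAlgebra ℂ G :=
    ofFn fun x : G => if IsConj q (QuotientGroup.mk' N x) then 1 else 0 with ha
  have hac : IsCentralFn a := isCentralFn_ofFn fun g x => by
    have hconj : IsConj (QuotientGroup.mk' N g) (QuotientGroup.mk' N (x * g * x⁻¹)) :=
      isConj_iff.2 ⟨QuotientGroup.mk' N x, by rw [map_mul, map_mul, map_inv]⟩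
    exact if_congr ⟨fun h' => h'.trans hconj.symm, fun h' => h'.trans hconj⟩ rfl rfl
  have hai : Integral M a := fun x => by
    rw [ha, fn_ofFn]; split_ifs <;> simp [one_mem, zero_mem]
  have hcardpre : (Nat.card {x : G // IsConj q (QuotientGroup.mk' N x)} : ℂ) =
      (Nat.card N : ℂ) * (Nat.card {y : G ⧸ N // IsConj q y} : ℂ) := by
    have := QuotientGroup.card_preimage_mk N {y : G ⧸ N | IsConj q y}
    exact_mod_cast this
  have hkey : ∀ φ : IrrCharacter (G ⧸ N),
      omega (fun x => (φ : G ⧸ N → ℂ) (QuotientGroup.mk' N x)) a =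
        (Nat.card N : ℂ) * centralChar (φ : G ⧸ N → ℂ) q := fun φ => by
    rw [omega, chiEval, ha, map_one, centralChar, ← card_isConj, ← mul_div_assoc, ← mul_assoc,
      ← hcardpre]
    congr 1
    simp only [fn_ofFn, ite_mul, one_mul, zero_mul]
    rw [← Finset.sum_filter, Finset.sum_congr rfl fun x hx =>
      (classFunction_eq_of_isConj (isClassFunction_irr φ) (Finset.mem_filter.1 hx).2).symm,
      Finset.sum_const, nsmul_eq_mul, Nat.card_eq_fintype_card, Fintype.card_subtype]
  have h1 := res_omega_eq_of_sameBlock hM hsame hac hai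
  rw [hfψ, show (χG : G → ℂ) = fun x => (χ : G ⧸ N → ℂ) (QuotientGroup.mk' N x) from rfl,
    hkey χ, hkey ⟨f, hfi⟩, res_mul (natCast_mem_place _) (centralChar_mem_place hM χ q),
    res_mul (natCast_mem_place _) (centralChar_mem_place hM ⟨f, hfi⟩ q)] at h1
  refine mul_left_cancel₀ ?_ h1
  rw [res_natCast, ne_eq, res_natCast_eq_zero_iff hM]
  exact hN

/-- A block inducing `B` consists of constituents of `B`. -/
theorem exists_constituent_of_induced (hM : IsPModular p M) (H : Subgroup G) [Fintype H]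
    {b : Set (IrrCharacter H)} {B : Set (IrrCharacter G)} (hind : IsInducedBlock M H b B)
    {ξ : IrrCharacter H} (hξ : ξ ∈ b) :
    ∃ χ ∈ B, classInner (fun h : H => (χ : G → ℂ) h) (ξ : H → ℂ) ≠ 0 := by
  classical
  obtain ⟨φ, hφ⟩ := IsPBlock.nonempty hM hind.2.1
  have h1 := res_omega_resElem_of_induced hM H hind hξ hφ (isCentralFn_blockElem B)
    (integral_blockElem hM hind.2.1)
  rw [omega_blockElem, if_pos hφ, res_one] at h1
  by_contra hno
  push Not at hno
  refine one_ne_zero (α := Res M) ?_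
  rw [← h1]
  convert res_zero (M := M) using 2
  have h2 : ∀ χ ∈ B, ∑ h : H, conj ((χ : G → ℂ) h) * (ξ : H → ℂ) h = 0 := fun χ hχ => by
    have h3 := congrArg conj (hno χ hχ)
    simp only [classInner_def, map_mul, map_sum, Complex.conj_conj, map_zero, map_inv₀,
      Complex.conj_natCast, mul_eq_zero, inv_eq_zero, Nat.cast_eq_zero,
      Nat.card_pos.ne', false_or] at h3
    exact h3
  simp only [omega, chiEval, fn_resElem, fn_blockElem, blockCoeff_eq_sum, Finset.mul_sum,
    Finset.sum_mul]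
  rw [Finset.sum_comm, Finset.sum_eq_zero, zero_div]
  intro χ hχ
  have h4 := congrArg (fun z => (Nat.card G : ℂ)⁻¹ * (χ : G → ℂ) 1 * z)
    (h2 χ (Finset.mem_filter.1 hχ).2)
  simp only [Finset.mul_sum, mul_zero] at h4
  rw [← h4]
  exact Finset.sum_congr rfl fun h _ => by ring

end Cfsg.Lib.Blocks
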