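import Mathlib
import Cfsg.Agent.Blocks.Covering
import Cfsg.Agent.Chars.IrrTools

/-!
# The stabiliser correspondence

For a block `b` of a normal subgroup with stabiliser `T`, cutting a character of the group over `b`
by the idempotent of `b` gives the inverse of induction from `T`.
-/

set_option autoImplicit false
set_option linter.unusedSectionVars false

namespace Cfsg.Lib.Blocks

open Cfsg.Lib.Chars
open scoped ComplexConjugate

universe u

variable {G : Type u} [Group G] [Fintype G] {M : Ideal AlgInt} {p : ℕ}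

lemma resElem_emb (T : Subgroup G) (y : MonoidAlgebra ℂ T) : resElem T (emb T y) = y :=
  fn_ext fun t => by rw [fn_resElem, fn_emb_coe]

lemma emb_resElem (T : Subgroup G) {a : MonoidAlgebra ℂ G} (ha : SuppOn T a) :
    emb T (resElem T a) = a := fn_ext fun g => by
  by_cases hg : g ∈ T
  · rw [fn_emb_mem T _ hg, fn_resElem]
  · rw [fn_emb_not_mem T _ hg, ha g hg]

lemma emb_single (T : Subgroup G) (t : T) (r : ℂ) :
    emb T (MonoidAlgebra.single t r) = MonoidAlgebra.single (t : G) r := fn_ext fun g => by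
  classical
  by_cases hg : g ∈ T
  · rw [fn_emb_mem T _ hg, fn_single, fn_single]
    exact if_congr ⟨fun h => congrArg Subtype.val h, fun h => Subtype.ext h⟩ rfl rfl
  · rw [fn_emb_not_mem T _ hg, fn_single, if_neg fun h : (t : G) = g => hg (h ▸ t.2)]

lemma chiEval_mul_comm {χ : G → ℂ} (hχ : IsClassFunction G χ) (a b : MonoidAlgebra ℂ G) :
    chiEval χ (a * b) = chiEval χ (b * a) := by
  classical
  conv_lhs => rw [eq_sum_single a, eq_sum_single b]
  conv_rhs => rw [eq_sum_single a, eq_sum_single b]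
  simp only [Finset.sum_mul, Finset.mul_sum, chiEval_sum, MonoidAlgebra.single_mul_single,
    chiEval_single]
  rw [Finset.sum_comm]
  refine Finset.sum_congr rfl fun x _ => Finset.sum_congr rfl fun y _ => ?_
  rw [classFunction_mul_comm hχ y x]
  ring

lemma chiEval_cj {χ : G → ℂ} (hχ : IsClassFunction G χ) (x : G) (a : MonoidAlgebra ℂ G) :
    chiEval χ (cj x a) = chiEval χ a := by
  simp only [chiEval, fn_cj]
  refine Fintype.sum_equiv (MulAut.conj x⁻¹).toEquiv _ _ fun g => ?_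
  simp only [MulEquiv.toEquiv_eq_coe, MulEquiv.coe_toEquiv, MulAut.conj_apply, inv_inv]
  rw [show χ (x⁻¹ * g * x) = χ g by rw [← hχ g x⁻¹, inv_inv]]

lemma cj_single (x g : G) (r : ℂ) :
    cj x (MonoidAlgebra.single g r) = MonoidAlgebra.single (x * g * x⁻¹) r := fn_ext fun c => by
  classical
  rw [fn_cj, fn_single, fn_single]
  refine if_congr ⟨?_, ?_⟩ rfl rfl
  · rintro rfl; group
  · rintro rfl; group

lemma chiEval_emb (χ : G → ℂ) (T : Subgroup G) [Fintype T] (y : MonoidAlgebra ℂ T) :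
    chiEval χ (emb T y) = chiEval (fun t : T => χ t) y := by
  classical
  simp only [chiEval]
  symm
  refine Finset.sum_bij_ne_zero (fun t _ _ => (t : G)) (fun _ _ _ => Finset.mem_univ _)
    (fun a _ _ b _ _ h => Subtype.ext h) ?_ (fun t _ _ => by rw [fn_emb_coe])
  intro g _ hg
  have hgT : g ∈ T := by
    by_contra h
    exact hg (by rw [fn_emb_not_mem T y h, zero_mul])
  refine ⟨⟨g, hgT⟩, Finset.mem_univ _, ?_, rfl⟩
  rwa [← fn_emb_mem T y hgT]

lemma chiEval_fun_sum {ι : Type*} (s : Finset ι) (c : ι → ℂ) (f : ι → G → ℂ)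
    (a : MonoidAlgebra ℂ G) :
    chiEval (fun g => ∑ i ∈ s, c i * f i g) a = ∑ i ∈ s, c i * chiEval (f i) a := by
  simp only [chiEval, Finset.mul_sum]
  rw [Finset.sum_comm]
  exact Finset.sum_congr rfl fun i _ => Finset.sum_congr rfl fun g _ => by ring

/-- Central characters of induced functions. -/
theorem omega_indFun (T : Subgroup G) [Fintype T] (ψ : T → ℂ) {a : MonoidAlgebra ℂ G}
    (ha : IsCentralFn a) : omega (indFun T ψ) a = omega ψ (resElem T a) := by
  classical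
  have h : chiEval (indFun T ψ) a = (T.index : ℂ) * chiEval ψ (resElem T a) := by
    simp only [chiEval, indFun_apply, Finset.mul_sum]
    rw [Finset.sum_comm]
    have hx : ∀ x : G, ∑ g, fn a g * ((Nat.card T : ℂ)⁻¹ * extendByZero T ψ (x⁻¹ * g * x)) =
        (Nat.card T : ℂ)⁻¹ * chiEval ψ (resElem T a) := fun x => by
      have e : ∑ g, fn a g * extendByZero T ψ (x⁻¹ * g * x) =
          ∑ g, fn a g * extendByZero T ψ g := by
        refine Fintype.sum_equiv (MulAut.conj x⁻¹).toEquiv _ _ fun g => ?_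
        simp only [MulEquiv.toEquiv_eq_coe, MulEquiv.coe_toEquiv, MulAut.conj_apply, inv_inv]
        have := ha g x⁻¹
        rw [inv_inv] at this
        rw [this]
      have e2 : ∑ g, fn a g * extendByZero T ψ g = chiEval ψ (resElem T a) := by
        simp only [chiEval, fn_resElem]
        rw [← Finset.sum_filter_add_sum_filter_not Finset.univ (fun t : G => t ∈ T),
          Finset.sum_eq_zero (s := Finset.univ.filter fun t : G => ¬ t ∈ T) fun t ht => by
            rw [extendByZero_not_mem ψ (Finset.mem_filter.1 ht).2, mul_zero], add_zero,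
          Finset.sum_subtype (p := (· ∈ T)) (Finset.univ.filter (· ∈ T)) (fun g => by simp)]
        exact Finset.sum_congr rfl fun t _ => by rw [extendByZero_apply]
      rw [← e2, ← e, Finset.mul_sum]
      exact Finset.sum_congr rfl fun g _ => by ring
    rw [Finset.sum_congr rfl fun x _ => hx x, Finset.sum_const, Finset.card_univ, nsmul_eq_mul,
      ← Nat.card_eq_fintype_card (α := G), ← T.card_mul_index, Nat.cast_mul]
    have : (Nat.card T : ℂ) ≠ 0 := Nat.cast_ne_zero.2 Nat.card_pos.ne'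
    simp only [chiEval, ← Finset.mul_sum]
    field_simp
  rw [omega, omega, h, indFun_one, mul_div_mul_left]
  exact Nat.cast_ne_zero.2 T.index_ne_zero_of_finite

lemma bx_cjIrr (N : Subgroup G) [N.Normal] [Fintype N] (S : Set (IrrCharacter N)) (g : G) :
    bx N (cjIrr N g '' S) = cj g⁻¹ (bx N S) := fn_ext fun x => by
  rw [fn_cj, fn_bx, fn_bx, inv_inv, subgroupBlockCoeff, subgroupBlockCoeff]
  by_cases hx : x ∈ N
  · rw [dif_pos hx, dif_pos (Subgroup.Normal.conj_mem ‹_› x hx g)]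
    have h := blockCoeff_image (MulAut.conjNormal g : N ≃* N) S ⟨x, hx⟩
    refine h.trans ?_
    exact congrArg _ (Subtype.ext (MulAut.conjNormal_apply g ⟨x, hx⟩))
  · rw [dif_neg hx, dif_neg fun h => hx ?_]
    simpa [mul_assoc] using Subgroup.Normal.conj_mem ‹N.Normal› _ h g⁻¹

/-- A character pairs nontrivially with a block idempotent iff it has a constituent in the block. -/
lemma chiEval_blockElem_ne_zero_iff {f : G → ℂ} (hf : IsCharacter G f)
    (b : Set (IrrCharacter G)) :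
    chiEval f (blockElem b) ≠ 0 ↔ ∃ θ ∈ b, classInner f (θ : G → ℂ) ≠ 0 := by
  classical
  obtain ⟨m, hm⟩ := IsCharacter.exists_decomp hf
  have hf' : f = fun g => ∑ ψ : IrrCharacter G, (m ψ : ℂ) * (ψ : G → ℂ) g := by
    rw [hm]; funext g; simp [Finset.sum_apply]
  have hin : ∀ θ : IrrCharacter G, classInner f (θ : G → ℂ) = (m θ : ℂ) := fun θ => by
    rw [hm]
    simp only [← Nat.cast_smul_eq_nsmul ℂ]
    rw [classInner_irrSum (fun ψ => (m ψ : ℂ)) θ]
  have hval : ∀ ψ : IrrCharacter G, chiEval (ψ : G → ℂ) (blockElem b) =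
      ((if ψ ∈ b then deg (ψ : G → ℂ) else 0 : ℕ) : ℂ) := fun ψ => by
    have := omega_blockElem b ψ
    rw [omega] at this
    split_ifs at this ⊢ with h
    · rw [div_eq_one_iff_eq (IsIrrCharacter.apply_one_ne_zero ψ.2)] at this
      rw [this, irr_apply_one_eq_deg]
    · rw [Nat.cast_zero]
      exact (div_eq_zero_iff.1 this).resolve_right (IsIrrCharacter.apply_one_ne_zero ψ.2)
  have hev : chiEval f (blockElem b) =
      ((∑ ψ : IrrCharacter G, m ψ * if ψ ∈ b then deg (ψ : G → ℂ) else 0 : ℕ) : ℂ) := by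
    rw [hf', chiEval_fun_sum, Nat.cast_sum]
    exact Finset.sum_congr rfl fun ψ _ => by rw [hval, Nat.cast_mul]
  rw [hev, Nat.cast_ne_zero, ne_eq, Finset.sum_eq_zero_iff]
  push Not
  constructor
  · rintro ⟨ψ, -, h⟩
    have hb : ψ ∈ b := by
      by_contra hb
      exact h (by rw [if_neg hb, mul_zero])
    exact ⟨ψ, hb, by rw [hin]; exact Nat.cast_ne_zero.2 (left_ne_zero_of_mul h)⟩
  · rintro ⟨θ, hθ, h⟩
    rw [hin] at h
    refine ⟨θ, Finset.mem_univ _, ?_⟩
    rw [if_pos hθ]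
    exact mul_ne_zero (Nat.cast_ne_zero.1 h) (deg_irr_pos θ).ne'

section Stab

variable {N : Subgroup G} [N.Normal] [Fintype N] {b : Set (IrrCharacter N)} {T : Subgroup G}
  [Fintype T]

/-- The cut of a character by the idempotent of `b`, as a function on `T`. -/
noncomputable def cut (b : Set (IrrCharacter N)) (T : Subgroup G) (χ : G → ℂ) : T → ℂ :=
  fun t => chiEval χ (bx N b * MonoidAlgebra.single (t : G) 1)

lemma cut_one (χ : G → ℂ) : cut b T χ 1 = chiEval χ (bx N b) := by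
  rw [cut, OneMemClass.coe_one, ← MonoidAlgebra.one_def, mul_one]

lemma resElem_bx_mul_self (hNT : N ≤ T) :
    resElem T (bx N b) * resElem T (bx N b) = resElem T (bx N b) := by
  refine emb_injective T ?_
  rw [emb_mul, emb_resElem T ((suppOn_bx N b).mono hNT), bx_mul_self]

lemma chiEval_resElem_bx (hNT : N ≤ T) (f : T → ℂ) :
    chiEval f (resElem T (bx N b)) =
      chiEval (fun n : N => f ⟨(n : G), hNT n.2⟩) (blockElem b) := by
  classical
  simp only [chiEval, fn_resElem, fn_bx, fn_blockElem]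
  symm
  refine Finset.sum_bij_ne_zero (fun n _ _ => (⟨(n : G), hNT n.2⟩ : T))
    (fun _ _ _ => Finset.mem_univ _) ?_ ?_ ?_
  · intro a _ _ b _ _ h
    exact Subtype.ext (congrArg Subtype.val h :)
  · intro t _ ht
    have htN : (t : G) ∈ N := by
      by_contra h
      rw [subgroupBlockCoeff, dif_neg h, zero_mul] at ht
      exact ht rfl
    refine ⟨⟨(t : G), htN⟩, Finset.mem_univ _, ?_, rfl⟩
    rw [subgroupBlockCoeff, dif_pos htN] at ht
    exact ht
  · intro n _ _
    rw [subgroupBlockCoeff, dif_pos n.2]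

lemma invOn_bx_stab (hT : ∀ g, g ∈ T ↔ cjIrr N g '' b = b) : InvOn T (bx N b) :=
  invOn_iff.2 fun t ht => by
    have h := bx_cjIrr N b t⁻¹
    rw [(hT _).1 (T.inv_mem ht), inv_inv] at h
    exact h.symm

lemma isCentralFn_resElem_bx (hT : ∀ g, g ∈ T ↔ cjIrr N g '' b = b) :
    IsCentralFn (resElem T (bx N b)) := fun g h => by
  simp only [fn_resElem, Subgroup.coe_mul, Subgroup.coe_inv]
  exact invOn_bx_stab hT (h : G) h.2 g

lemma omega_resElem_bx_eq_or (hT : ∀ g, g ∈ T ↔ cjIrr N g '' b = b) (hNT : N ≤ T)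
    (ψ : IrrCharacter T) :
    omega (ψ : T → ℂ) (resElem T (bx N b)) = 0 ∨ omega (ψ : T → ℂ) (resElem T (bx N b)) = 1 := by
  refine IsIdempotentElem.iff_eq_zero_or_one.1 ?_
  show _ * _ = _
  rw [← omega_mul ψ (isCentralFn_resElem_bx hT), resElem_bx_mul_self hNT]

lemma omega_resElem_bx_iff (hT : ∀ g, g ∈ T ↔ cjIrr N g '' b = b) (hNT : N ≤ T)
    (ψ : IrrCharacter T) :
    omega (ψ : T → ℂ) (resElem T (bx N b)) = 1 ↔
      ∃ θ ∈ b, classInner (fun n : N => (ψ : T → ℂ) ⟨(n : G), hNT n.2⟩) (θ : N → ℂ) ≠ 0 := by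
  have hres : IsCharacter N (fun n : N => (ψ : T → ℂ) ⟨(n : G), hNT n.2⟩) :=
    IsCharacter.comp_hom (isCharacter_of_irr ψ.2) (Subgroup.inclusion hNT)
  rw [← chiEval_blockElem_ne_zero_iff hres, ← chiEval_resElem_bx hNT]
  constructor
  · intro h h0
    rw [omega, h0, zero_div] at h
    exact zero_ne_one h
  · intro h
    refine (omega_resElem_bx_eq_or hT hNT ψ).resolve_left fun h0 => h ?_
    rw [omega, div_eq_zero_iff] at h0
    exact h0.resolve_right (IsIrrCharacter.apply_one_ne_zero ψ.2)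

open scoped Classical in
/-- The cut is the part over `b` of the restriction. -/
lemma cut_eq_sum (hT : ∀ g, g ∈ T ↔ cjIrr N g '' b = b) (hNT : N ≤ T) (χ : IrrCharacter G) :
    ∃ m : IrrCharacter T → ℕ,
      (∀ φ : IrrCharacter T,
        classInner (fun t : T => (χ : G → ℂ) t) (φ : T → ℂ) = (m φ : ℂ)) ∧
      cut b T (χ : G → ℂ) =
        ∑ φ ∈ Finset.univ.filter (fun φ : IrrCharacter T =>
          omega (φ : T → ℂ) (resElem T (bx N b)) = 1), m φ • (φ : T → ℂ) := by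
  obtain ⟨m, hm⟩ := IsCharacter.exists_decomp (IsCharacter.restrict (isCharacter_of_irr χ.2) T)
  refine ⟨m, fun φ => ?_, ?_⟩
  · rw [hm]
    simp only [← Nat.cast_smul_eq_nsmul ℂ]
    rw [classInner_irrSum (fun ψ => (m ψ : ℂ)) φ]
  · funext t
    have hres : (fun t : T => (χ : G → ℂ) t) =
        fun t => ∑ φ : IrrCharacter T, (m φ : ℂ) * (φ : T → ℂ) t := by
      rw [hm]; funext t; simp [Finset.sum_apply]
    rw [cut, show bx N b * MonoidAlgebra.single (t : G) (1 : ℂ) =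
      emb T (resElem T (bx N b) * MonoidAlgebra.single t 1) by
        rw [emb_mul, emb_resElem T ((suppOn_bx N b).mono hNT), emb_single],
      chiEval_emb, hres, chiEval_fun_sum, Finset.sum_apply, Finset.sum_filter]
    refine Finset.sum_congr rfl fun φ _ => ?_
    rw [chiEval_central_mul φ (isCentralFn_resElem_bx hT), chiEval_single, one_mul]
    rcases omega_resElem_bx_eq_or hT hNT φ with h | h
    · rw [h, if_neg zero_ne_one, zero_mul, mul_zero]
    · rw [h, if_pos rfl, one_mul, Pi.smul_apply, nsmul_eq_mul]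

lemma isCharacter_cut (hT : ∀ g, g ∈ T ↔ cjIrr N g '' b = b) (hNT : N ≤ T)
    (χ : IrrCharacter G) : IsCharacter T (cut b T (χ : G → ℂ)) := by
  classical
  obtain ⟨m, -, hm⟩ := cut_eq_sum hT hNT χ
  rw [hm]
  exact IsCharacter.sum _ _ fun φ _ => IsCharacter.nsmul (isCharacter_of_irr φ.2) _

lemma constituent_of_cut_one_ne_zero (χ : IrrCharacter G) (h : cut b T (χ : G → ℂ) 1 ≠ 0) :
    ∃ θ ∈ b, classInner (fun n : N => (χ : G → ℂ) n) (θ : N → ℂ) ≠ 0 := by
  rw [← chiEval_blockElem_ne_zero_iff (IsCharacter.restrict (isCharacter_of_irr χ.2) N)]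
  rw [cut_one, ← emb_resElem N (suppOn_bx N b), chiEval_emb, resElem_bx] at h
  exact h

/-- A character over `b` is induced from its cut. -/
theorem eq_indFun_cut (hM : IsPModular p M) (hb : IsPBlock M b)
    (hT : ∀ g, g ∈ T ↔ cjIrr N g '' b = b) (χ : IrrCharacter G)
    (hχ : ∃ θ ∈ b, classInner (fun n : N => (χ : G → ℂ) n) (θ : N → ℂ) ≠ 0) :
    (χ : G → ℂ) = indFun T (cut b T (χ : G → ℂ)) := by
  classical
  obtain ⟨θ, hθb, hθ⟩ := hχ
  set c := bx N b with hc
  have hclass := isClassFunction_irr χ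
  have hsupp : ∀ x : G, SuppOn N (cj x c) := fun x g hg => by
    rw [fn_cj, suppOn_bx N b _ fun h => hg ?_]
    simpa [mul_assoc] using Subgroup.Normal.conj_mem ‹N.Normal› _ h x
  set w : MonoidAlgebra ℂ G := ∑ x : G, cj x c with hw
  have hwc : IsCentralFn w := invOn_top_iff.1 <| invOn_iff.2 fun k _ => by
    rw [hw, cj_sum]
    exact Fintype.sum_equiv (Equiv.mulLeft k) _ _ fun x => by rw [cj_cj]; rfl
  have hωw : omega (χ : G → ℂ) w = (Nat.card T : ℂ) := by
    rw [omega_eq_of_constituent N hwc (SuppOn.sum _ fun x _ => hsupp x) χ θ hθ]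
    have hres : resElem N w = ∑ x : G, blockElem (cjIrr N x⁻¹ '' b) := fn_ext fun n => by
      rw [fn_resElem, hw, fn_sum, fn_sum]
      refine Finset.sum_congr rfl fun x _ => ?_
      rw [← resElem_bx N (cjIrr N x⁻¹ '' b), bx_cjIrr, inv_inv, fn_resElem]
    rw [hres, omega_sum]
    have hiff : ∀ x : G, θ ∈ cjIrr N x⁻¹ '' b ↔ x ∈ T := fun x => by
      refine ⟨fun h => ?_, fun h => ((hT _).1 (T.inv_mem h)).symm ▸ hθb⟩
      rw [← T.inv_mem_iff, hT]
      exact IsPBlock.eq_of_mem_inter hM (IsPBlock.image_irrEquiv _ hb) hb h hθb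
    simp only [omega_blockElem, hiff]
    rw [Finset.sum_boole, Nat.card_eq_fintype_card, Fintype.card_subtype]
  have hzero : ∀ y : G, y ∉ T → chiEval (χ : G → ℂ) (c * MonoidAlgebra.single y 1) = 0 := by
    intro y hy
    have hcy : c * cj y c = 0 := by
      rw [show cj y c = bx N (cjIrr N y⁻¹ '' b) by rw [bx_cjIrr, inv_inv]]
      refine bx_mul_bx hM hb (IsPBlock.image_irrEquiv _ hb) fun h => hy ?_
      rw [← T.inv_mem_iff, hT]
      exact h.symm
    have hcomm : MonoidAlgebra.single y (1 : ℂ) * c = cj y c * MonoidAlgebra.single y 1 :=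
      fn_ext fun g => by
        rw [fn_single_mul, fn_mul_single, one_mul, mul_one, fn_cj]
        congr 1
        group
    calc chiEval (χ : G → ℂ) (c * MonoidAlgebra.single y 1)
        = chiEval (χ : G → ℂ) (c * (c * MonoidAlgebra.single y 1)) := by
          rw [← mul_assoc, hc, bx_mul_self]
      _ = chiEval (χ : G → ℂ) (c * MonoidAlgebra.single y 1 * c) := chiEval_mul_comm hclass _ _
      _ = 0 := by
          rw [mul_assoc, hcomm, ← mul_assoc, hcy, zero_mul]
          simp [chiEval]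
  funext g
  rw [indFun_apply]
  have hsum : ∑ x : G, extendByZero T (cut b T (χ : G → ℂ)) (x⁻¹ * g * x) =
      chiEval (χ : G → ℂ) (w * MonoidAlgebra.single g 1) := by
    rw [hw, Finset.sum_mul, chiEval_sum]
    refine Finset.sum_congr rfl fun x _ => ?_
    have h1 : cj x c * MonoidAlgebra.single g (1 : ℂ) =
        cj x (c * MonoidAlgebra.single (x⁻¹ * g * x) 1) := by
      rw [cj_mul, cj_single]
      congr 2
      group
    rw [h1, chiEval_cj hclass]
    by_cases hx : x⁻¹ * g * x ∈ T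
    · rw [extendByZero_mem _ hx]; rfl
    · rw [extendByZero_not_mem _ hx, hzero _ hx]
  rw [hsum, chiEval_central_mul χ hwc, hωw, chiEval_single, one_mul, ← mul_assoc,
    inv_mul_cancel₀ (Nat.cast_ne_zero.2 Nat.card_pos.ne'), one_mul]

/-- Characters over `b` have irreducible cuts, over `b`. -/
theorem isIrr_cut (hM : IsPModular p M) (hb : IsPBlock M b)
    (hT : ∀ g, g ∈ T ↔ cjIrr N g '' b = b) (hNT : N ≤ T) (χ : IrrCharacter G)
    (hχ : ∃ θ ∈ b, classInner (fun n : N => (χ : G → ℂ) n) (θ : N → ℂ) ≠ 0) :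
    ∃ φ : IrrCharacter T, (φ : T → ℂ) = cut b T (χ : G → ℂ) ∧
      omega (φ : T → ℂ) (resElem T (bx N b)) = 1 := by
  classical
  have hind := eq_indFun_cut hM hb hT χ hχ
  have hf : IsIrrCharacter T (cut b T (χ : G → ℂ)) :=
    irr_of_indFun_irr T (isCharacter_cut hT hNT χ) (hind ▸ χ.2)
  refine ⟨⟨_, hf⟩, rfl, ?_⟩
  obtain ⟨m, -, hm⟩ := cut_eq_sum hT hNT χ
  by_contra hne
  refine one_ne_zero (α := ℂ) ?_
  have h1 : classInner (cut b T (χ : G → ℂ)) (cut b T (χ : G → ℂ)) = 1 :=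
    classInner_self_irr hf
  rw [← h1]
  conv_lhs => arg 1; rw [hm]
  rw [classInner_sum_left, Finset.sum_eq_zero]
  intro φ hφ
  rw [classInner_nsmul_left, classInner_irrChar φ.2 hf, if_neg, mul_zero]
  intro h
  refine hne ?_
  have hmem := (Finset.mem_filter.1 hφ).2
  rwa [show φ = ⟨_, hf⟩ from Subtype.ext h] at hmem

/-- A character of `T` over `b` induces irreducibly, with itself as cut. -/
theorem exists_induced_of_over (hM : IsPModular p M) (hb : IsPBlock M b)
    (hT : ∀ g, g ∈ T ↔ cjIrr N g '' b = b) (hNT : N ≤ T) (ψ : IrrCharacter T)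
    (hψ : omega (ψ : T → ℂ) (resElem T (bx N b)) = 1) :
    ∃ χ : IrrCharacter G, (χ : G → ℂ) = indFun T (ψ : T → ℂ) ∧
      (∃ θ ∈ b, classInner (fun n : N => (χ : G → ℂ) n) (θ : N → ℂ) ≠ 0) ∧
      cut b T (χ : G → ℂ) = ψ := by
  classical
  have hchar := IsCharacter.indFun (G := G) (isCharacter_of_irr ψ.2)
  have hne : indFun T (ψ : T → ℂ) 1 ≠ 0 := by
    rw [indFun_one]
    exact mul_ne_zero (Nat.cast_ne_zero.2 T.index_ne_zero_of_finite)
      (IsIrrCharacter.apply_one_ne_zero ψ.2)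
  obtain ⟨m, hm⟩ := IsCharacter.exists_decomp hchar
  obtain ⟨χ, hχm⟩ : ∃ χ : IrrCharacter G, m χ ≠ 0 := by
    by_contra h
    push Not at h
    exact hne (by rw [hm]; simp [h])
  have hres : classInner (fun t : T => (χ : G → ℂ) t) (ψ : T → ℂ) ≠ 0 := by
    rw [← frobenius_reciprocity' T (ψ : T → ℂ) (isClassFunction_irr χ),
      ← classInner_conj_symm, hm]
    simp only [← Nat.cast_smul_eq_nsmul ℂ]
    rw [classInner_irrSum (fun φ => (m φ : ℂ)) χ, map_natCast]
    exact Nat.cast_ne_zero.2 hχm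
  obtain ⟨k, hk, hcut⟩ := cut_eq_sum hT hNT χ
  have hkψ : k ψ ≠ 0 := fun h => hres (by rw [hk, h, Nat.cast_zero])
  have hcutψ : classInner (cut b T (χ : G → ℂ)) (ψ : T → ℂ) ≠ 0 := by
    rw [hcut, classInner_sum_left, Finset.sum_eq_single ψ]
    · rw [classInner_nsmul_left, classInner_self_irr ψ.2, mul_one]
      exact Nat.cast_ne_zero.2 hkψ
    · intro φ _ hφ
      rw [classInner_nsmul_left, classInner_irr_ne hφ, mul_zero]
    · intro h
      refine absurd ?_ h
      rw [Finset.mem_filter]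
      exact ⟨Finset.mem_univ _, hψ⟩
  have hov : ∃ θ ∈ b, classInner (fun n : N => (χ : G → ℂ) n) (θ : N → ℂ) ≠ 0 := by
    refine constituent_of_cut_one_ne_zero (T := T) χ fun h0 => hcutψ ?_
    rw [eq_zero_of_apply_one (isCharacter_cut hT hNT χ) h0, classInner_zero_left]
  obtain ⟨φ, hφ, -⟩ := isIrr_cut hM hb hT hNT χ hov
  have hφψ : φ = ψ := by
    by_contra h
    rw [← hφ, classInner_irr_ne h] at hcutψ
    exact hcutψ rfl
  subst hφψ
  exact ⟨χ, by rw [hφ]; exact eq_indFun_cut hM hb hT χ hov, hov, hφ.symm⟩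

lemma invOn_emb {a : MonoidAlgebra ℂ T} (ha : IsCentralFn a) : InvOn T (emb T a) :=
  invOn_iff.2 fun t ht => by
    rw [show t = ((⟨t, ht⟩ : T) : G) from rfl, cj_emb]
    congr 1
    exact fn_ext fun s => by
      rw [fn_cj]
      have := ha s (⟨t, ht⟩ : T)⁻¹
      rwa [inv_inv] at this

lemma omega_transfer (hT : ∀ g, g ∈ T ↔ cjIrr N g '' b = b) [Fintype (G ⧸ T)] (χ : IrrCharacter G)
    (ψ : IrrCharacter T) (h : (χ : G → ℂ) = indFun T (ψ : T → ℂ))
    (hcut : cut b T (χ : G → ℂ) = ψ) (a : MonoidAlgebra ℂ T) :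
    omega (χ : G → ℂ) (∑ q : G ⧸ T, cj q.out (bx N b * emb T a)) = omega (ψ : T → ℂ) a := by
  classical
  have h1 : chiEval (χ : G → ℂ) (bx N b * emb T a) = chiEval (ψ : T → ℂ) a := by
    have hdec : emb T a = ∑ t : T, fn a t • MonoidAlgebra.single (t : G) (1 : ℂ) := by
      refine fn_ext fun g => ?_
      rw [fn_sum]
      by_cases hg : g ∈ T
      · rw [fn_emb_mem T a hg, Finset.sum_eq_single (⟨g, hg⟩ : T)]
        · rw [fn_smul, fn_single, if_pos rfl, mul_one]
        · intro t _ ht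
          rw [fn_smul, fn_single, if_neg fun h' : (t : G) = g => ht (Subtype.ext h'), mul_zero]
        · exact fun h' => absurd (Finset.mem_univ _) h'
      · rw [fn_emb_not_mem T a hg]
        exact (Finset.sum_eq_zero fun t _ => by
          rw [fn_smul, fn_single, if_neg fun h' : (t : G) = g => hg (h' ▸ t.2), mul_zero]).symm
    rw [hdec, Finset.mul_sum, chiEval_sum]
    refine Finset.sum_congr rfl fun t _ => ?_
    rw [mul_smul_comm, chiEval_smul, ← congrFun hcut t]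
    rfl
  rw [omega, chiEval_sum, Finset.sum_congr rfl fun q _ =>
    (chiEval_cj (isClassFunction_irr χ) q.out (bx N b * emb T a)).trans h1, Finset.sum_const,
    Finset.card_univ, nsmul_eq_mul, congrFun h 1, indFun_one,
    Subgroup.index_eq_card, Nat.card_eq_fintype_card, omega, mul_div_mul_left]
  exact Nat.cast_ne_zero.2 Fintype.card_ne_zero

lemma isCentralFn_transfer (hT : ∀ g, g ∈ T ↔ cjIrr N g '' b = b) [Fintype (G ⧸ T)]
    {a : MonoidAlgebra ℂ T} (ha : IsCentralFn a) :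
    IsCentralFn (∑ q : G ⧸ T, cj q.out (bx N b * emb T a)) := by
  classical
  have hinv : InvOn T (bx N b * emb T a) := (invOn_bx_stab hT).mul (invOn_emb ha)
  refine invOn_top_iff.1 (invOn_iff.2 fun k _ => ?_)
  rw [cj_sum]
  refine Fintype.sum_equiv (MulAction.toPerm k) _ _ fun q => ?_
  rw [cj_cj, MulAction.toPerm_apply]
  have hmem : ((k • q).out)⁻¹ * (k * q.out) ∈ T := by
    rw [← QuotientGroup.eq, QuotientGroup.out_eq']
    conv_lhs => rw [← QuotientGroup.out_eq' q]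
    rfl
  conv_lhs => rw [show k * q.out = (k • q).out * ((k • q).out⁻¹ * (k * q.out)) by group, ← cj_cj,
    invOn_iff.1 hinv _ hmem]

/-- Induction preserves and reflects blocks over `b`. -/
theorem sameBlock_indFun_iff (hM : IsPModular p M) (hb : IsPBlock M b)
    (hT : ∀ g, g ∈ T ↔ cjIrr N g '' b = b) {χ χ' : IrrCharacter G} {ψ ψ' : IrrCharacter T}
    (hψ : (χ : G → ℂ) = indFun T (ψ : T → ℂ)) (hψ' : (χ' : G → ℂ) = indFun T (ψ' : T → ℂ))
    (hc : cut b T (χ : G → ℂ) = ψ) (hc' : cut b T (χ' : G → ℂ) = ψ') :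
    SameBlock M (χ : G → ℂ) χ' ↔ SameBlock M (ψ : T → ℂ) ψ' := by
  classical
  letI := Fintype.ofFinite (G ⧸ T)
  constructor
  · intro h
    refine (sameBlock_iff_res hM ψ ψ').2 fun t => ?_
    have hint : Integral M (∑ q : G ⧸ T, cj q.out (bx N b * emb T (cls ℂ t))) := fun g => by
      rw [fn_sum]
      refine sum_mem fun q _ => ?_
      rw [fn_cj]
      refine (integral_bx hM hb).mul (fun x => ?_) _
      by_cases hx : x ∈ T
      · rw [fn_emb_mem T _ hx]; exact integral_cls t _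
      · rw [fn_emb_not_mem T _ hx]; exact zero_mem _
    have h1 := res_omega_eq_of_sameBlock hM h (isCentralFn_transfer hT (isCentralFn_cls t)) hint
    rwa [omega_transfer hT χ ψ hψ hc, omega_transfer hT χ' ψ' hψ' hc', omega_cls_irr,
      omega_cls_irr] at h1
  · intro h
    refine (sameBlock_iff_res hM χ χ').2 fun g => ?_
    have h1 := res_omega_eq_of_sameBlock hM h ((isCentralFn_cls g).resElem T)
      ((integral_cls g).resElem T)
    rw [← omega_cls_irr, ← omega_cls_irr, hψ, hψ', omega_indFun T _ (isCentralFn_cls g),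
      omega_indFun T _ (isCentralFn_cls g), h1]

/-- The induced character determines the induced block. -/
theorem isInducedBlock_of_indFun (hM : IsPModular p M) {B' : Set (IrrCharacter T)}
    (hB' : IsPBlock M B') {ψ : IrrCharacter T} (hψ : ψ ∈ B') (χ : IrrCharacter G)
    (h : (χ : G → ℂ) = indFun T (ψ : T → ℂ)) :
    IsInducedBlock M T B' (blockOf M (χ : G → ℂ)) := by
  refine (isInducedBlock_iff hM T hB' (isPBlock_blockOf χ) hψ (mem_blockOf_self hM χ)).2
    fun g => ?_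
  rw [inducedCentralChar_eq_omega, ← omega_indFun T _ (isCentralFn_cls g), ← h, omega_cls_irr]

lemma eq_blockOf_of_induced (hM : IsPModular p M) {B' : Set (IrrCharacter T)}
    {B : Set (IrrCharacter G)} (hind : IsInducedBlock M T B' B) {ψ : IrrCharacter T} (hψ : ψ ∈ B')
    (χ : IrrCharacter G) (h : (χ : G → ℂ) = indFun T (ψ : T → ℂ)) :
    B = blockOf M (χ : G → ℂ) := by
  obtain ⟨φ, hφ⟩ := IsPBlock.nonempty hM hind.2.1
  refine IsPBlock.eq_of_mem_inter hM hind.2.1 (isPBlock_blockOf χ) hφ ?_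
  refine (sameBlock_iff_res hM χ φ).2 fun g => ?_
  rw [← (isInducedBlock_iff hM T hind.1 hind.2.1 hψ hφ).1 hind g, inducedCentralChar_eq_omega,
    ← omega_indFun T _ (isCentralFn_cls g), ← h, omega_cls_irr]

/-- Covering is a property of the whole block. -/
lemma omega_resElem_bx_of_mem (hM : IsPModular p M) (hb : IsPBlock M b)
    (hT : ∀ g, g ∈ T ↔ cjIrr N g '' b = b) (hNT : N ≤ T) {B' : Set (IrrCharacter T)}
    (hB' : IsPBlock M B')
    (hcov : ∃ ψ ∈ B', ∃ θ ∈ b,
      classInner (fun n : N => (ψ : T → ℂ) ⟨(n : G), hNT n.2⟩) (θ : N → ℂ) ≠ 0)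
    {ψ : IrrCharacter T} (hψ : ψ ∈ B') :
    omega (ψ : T → ℂ) (resElem T (bx N b)) = 1 := by
  obtain ⟨ψ₀, hψ₀, hθ⟩ := hcov
  have h0 := (omega_resElem_bx_iff hT hNT ψ₀).2 hθ
  refine (omega_resElem_bx_eq_or hT hNT ψ).resolve_left fun h => ?_
  have h1 := res_omega_eq_of_sameBlock hM (IsPBlock.sameBlock hM hB' hψ₀ hψ)
    (isCentralFn_resElem_bx hT) ((integral_bx hM hb).resElem T)
  rw [h0, h, res_eq_iff (one_mem _) (zero_mem _), sub_zero] at h1
  exact not_small_one h1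

/-- **The Fong–Reynolds correspondence of blocks.** -/
theorem reynolds (hM : IsPModular p M) (hb : IsPBlock M b)
    (hT : ∀ g, g ∈ T ↔ cjIrr N g '' b = b) (hNT : N ≤ T) {B' : Set (IrrCharacter T)}
    (hB' : IsPBlock M B')
    (hcov : ∃ ψ ∈ B', ∃ θ ∈ b,
      classInner (fun n : N => (ψ : T → ℂ) ⟨(n : G), hNT n.2⟩) (θ : N → ℂ) ≠ 0) :
    ∃ B : Set (IrrCharacter G), IsInducedBlock M T B' B ∧
      (∃ χ ∈ B, ∃ θ ∈ b, classInner (fun n : N => (χ : G → ℂ) n) (θ : N → ℂ) ≠ 0) ∧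
      (∀ ψ ∈ B', IsIrrCharacter G (indFun T (ψ : T → ℂ))) ∧
      ∀ χ : IrrCharacter G, χ ∈ B ↔ ∃ ψ ∈ B', (χ : G → ℂ) = indFun T (ψ : T → ℂ) := by
  obtain ⟨ψ₀, hψ₀⟩ := IsPBlock.nonempty hM hB'
  obtain ⟨χ₀, hχ₀, hov₀, hc₀⟩ := exists_induced_of_over hM hb hT hNT ψ₀
    (omega_resElem_bx_of_mem hM hb hT hNT hB' hcov hψ₀)
  refine ⟨_, isInducedBlock_of_indFun hM hB' hψ₀ χ₀ hχ₀, ⟨χ₀, mem_blockOf_self hM χ₀, hov₀⟩,
    fun ψ hψ => ?_, fun χ => ⟨fun hχ => ?_, ?_⟩⟩
  · obtain ⟨χ, hχ, -⟩ := exists_induced_of_over hM hb hT hNT ψ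
      (omega_resElem_bx_of_mem hM hb hT hNT hB' hcov hψ)
    exact hχ ▸ χ.2
  · have hov := exists_constituent_mem hM (isPBlock_blockOf χ₀) hb
      ⟨χ₀, mem_blockOf_self hM χ₀, hov₀⟩ hχ
    obtain ⟨φ, hφ, hφ1⟩ := isIrr_cut hM hb hT hNT χ hov
    have hind : (χ : G → ℂ) = indFun T (φ : T → ℂ) := hφ ▸ eq_indFun_cut hM hb hT χ hov
    refine ⟨φ, ?_, hind⟩
    rw [IsPBlock.eq_blockOf hM hB' hψ₀, mem_blockOf_iff,
      ← sameBlock_indFun_iff hM hb hT hχ₀ hind hc₀ hφ.symm]
    exact hχ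
  · rintro ⟨ψ, hψ, hind⟩
    obtain ⟨χ', hχ', -, hc'⟩ := exists_induced_of_over hM hb hT hNT ψ
      (omega_resElem_bx_of_mem hM hb hT hNT hB' hcov hψ)
    obtain rfl : χ' = χ := Subtype.ext (hχ'.trans hind.symm)
    rw [mem_blockOf_iff, sameBlock_indFun_iff hM hb hT hχ₀ hind hc₀ hc']
    exact IsPBlock.sameBlock hM hB' hψ₀ hψ

/-- Distinct blocks over `b` induce distinct blocks. -/
theorem reynolds_injective (hM : IsPModular p M) (hb : IsPBlock M b)
    (hT : ∀ g, g ∈ T ↔ cjIrr N g '' b = b) (hNT : N ≤ T) {B₁ B₂ : Set (IrrCharacter T)}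
    (h₁ : IsPBlock M B₁) (h₂ : IsPBlock M B₂)
    (c₁ : ∃ ψ ∈ B₁, ∃ θ ∈ b,
      classInner (fun n : N => (ψ : T → ℂ) ⟨(n : G), hNT n.2⟩) (θ : N → ℂ) ≠ 0)
    (c₂ : ∃ ψ ∈ B₂, ∃ θ ∈ b,
      classInner (fun n : N => (ψ : T → ℂ) ⟨(n : G), hNT n.2⟩) (θ : N → ℂ) ≠ 0)
    {B : Set (IrrCharacter G)} (i₁ : IsInducedBlock M T B₁ B) (i₂ : IsInducedBlock M T B₂ B) :
    B₁ = B₂ := by
  obtain ⟨ψ₁, m₁⟩ := IsPBlock.nonempty hM h₁
  obtain ⟨ψ₂, m₂⟩ := IsPBlock.nonempty hM h₂
  obtain ⟨χ₁, e₁, -, d₁⟩ := exists_induced_of_over hM hb hT hNT ψ₁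
    (omega_resElem_bx_of_mem hM hb hT hNT h₁ c₁ m₁)
  obtain ⟨χ₂, e₂, -, d₂⟩ := exists_induced_of_over hM hb hT hNT ψ₂
    (omega_resElem_bx_of_mem hM hb hT hNT h₂ c₂ m₂)
  have hsame : SameBlock M (χ₁ : G → ℂ) χ₂ := by
    rw [← mem_blockOf_iff, ← eq_blockOf_of_induced hM i₁ m₁ χ₁ e₁,
      eq_blockOf_of_induced hM i₂ m₂ χ₂ e₂]
    exact mem_blockOf_self hM χ₂
  refine IsPBlock.eq_of_mem_inter hM h₁ h₂ ?_ m₂
  rw [IsPBlock.eq_blockOf hM h₁ m₁]
  exact (sameBlock_indFun_iff hM hb hT e₁ e₂ d₁ d₂).1 hsame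

/-- Every block over `b` is induced from `T`. -/
theorem reynolds_surjective (hM : IsPModular p M) (hb : IsPBlock M b)
    (hT : ∀ g, g ∈ T ↔ cjIrr N g '' b = b) (hNT : N ≤ T) {B : Set (IrrCharacter G)}
    (hB : IsPBlock M B)
    (hcov : ∃ χ ∈ B, ∃ θ ∈ b, classInner (fun n : N => (χ : G → ℂ) n) (θ : N → ℂ) ≠ 0) :
    ∃ B' : Set (IrrCharacter T), IsPBlock M B' ∧
      (∃ ψ ∈ B', ∃ θ ∈ b,
        classInner (fun n : N => (ψ : T → ℂ) ⟨(n : G), hNT n.2⟩) (θ : N → ℂ) ≠ 0) ∧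
      IsInducedBlock M T B' B := by
  obtain ⟨χ, hχ, hov⟩ := hcov
  obtain ⟨φ, hφ, hφ1⟩ := isIrr_cut hM hb hT hNT χ hov
  have hind : (χ : G → ℂ) = indFun T (φ : T → ℂ) := hφ ▸ eq_indFun_cut hM hb hT χ hov
  refine ⟨_, isPBlock_blockOf φ, ⟨φ, mem_blockOf_self hM φ,
    (omega_resElem_bx_iff hT hNT φ).1 hφ1⟩, ?_⟩
  rw [IsPBlock.eq_blockOf hM hB hχ]
  exact isInducedBlock_of_indFun hM (isPBlock_blockOf φ) (mem_blockOf_self hM φ) χ hind

/-- The correspondence preserves defect groups and heights. -/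
theorem reynolds_defect (hM : IsPModular p M) (hb : IsPBlock M b)
    (hT : ∀ g, g ∈ T ↔ cjIrr N g '' b = b) (hNT : N ≤ T) {B' : Set (IrrCharacter T)}
    (hB' : IsPBlock M B')
    (hcov : ∃ ψ ∈ B', ∃ θ ∈ b,
      classInner (fun n : N => (ψ : T → ℂ) ⟨(n : G), hNT n.2⟩) (θ : N → ℂ) ≠ 0)
    {B : Set (IrrCharacter G)} (hind : IsInducedBlock M T B' B) :
    (∀ D : Subgroup T, IsDefectGroup p M B' D → IsDefectGroup p M B (D.map T.subtype)) ∧
      ∀ ψ ∈ B', ∃ χ ∈ B, (χ : G → ℂ) = indFun T (ψ : T → ℂ) ∧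
        blockHeight p B (χ : G → ℂ) = blockHeight p B' (ψ : T → ℂ) := by
  classical
  obtain ⟨B₀, hind₀, -, hirr, hmem⟩ := reynolds hM hb hT hNT hB' hcov
  obtain ⟨ψ₀, hψ₀⟩ := IsPBlock.nonempty hM hB'
  have hBeq : B = B₀ := by
    rw [eq_blockOf_of_induced hM hind hψ₀ ⟨_, hirr ψ₀ hψ₀⟩ rfl,
      eq_blockOf_of_induced hM hind₀ hψ₀ ⟨_, hirr ψ₀ hψ₀⟩ rfl]
  subst hBeq
  set v := fun (χ : IrrCharacter G) => (charDegree (χ : G → ℂ)).factorization p with hv
  set v' := fun (ψ : IrrCharacter T) => (charDegree (ψ : T → ℂ)).factorization p with hv'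
  have hdeg : ∀ (χ : IrrCharacter G) (ψ : IrrCharacter T),
      (χ : G → ℂ) = indFun T (ψ : T → ℂ) →
      v χ = T.index.factorization p + v' ψ := fun χ ψ h => by
    have e : deg (χ : G → ℂ) = T.index * deg (ψ : T → ℂ) := by
      apply Nat.cast_injective (R := ℂ)
      rw [Nat.cast_mul, ← irr_apply_one_eq_deg, ← irr_apply_one_eq_deg, h, indFun_one]
    show (deg (χ : G → ℂ)).factorization p = _
    rw [e, Nat.factorization_mul T.index_ne_zero_of_finite (deg_irr_pos ψ).ne', Finsupp.add_apply]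
    rfl
  have hinf : sInf (v '' B) = T.index.factorization p + sInf (v' '' B') := by
    obtain ⟨ψ, hψ, hmin⟩ := Nat.sInf_mem (Set.Nonempty.image v' ⟨ψ₀, hψ₀⟩)
    refine le_antisymm ?_ (le_csInf (Set.Nonempty.image v (IsPBlock.nonempty hM hind.2.1)) ?_)
    · rw [← hmin, ← hdeg (⟨_, hirr ψ hψ⟩ : IrrCharacter G) ψ rfl]
      exact Nat.sInf_le ⟨_, (hmem _).2 ⟨ψ, hψ, rfl⟩, rfl⟩
    · rintro _ ⟨χ, hχ, rfl⟩
      obtain ⟨φ, hφ, hχφ⟩ := (hmem χ).1 hχ
      rw [hdeg χ φ hχφ]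
      have h' : sInf (v' '' B') ≤ v' φ := Nat.sInf_le ⟨φ, hφ, rfl⟩
      omega
  have hG : (Nat.card G).factorization p =
      (Nat.card T).factorization p + T.index.factorization p := by
    rw [← T.card_mul_index, Nat.factorization_mul Nat.card_pos.ne' T.index_ne_zero_of_finite,
      Finsupp.add_apply]
  refine ⟨fun D hD => ?_, fun ψ hψ => ⟨⟨_, hirr ψ hψ⟩, (hmem _).2 ⟨ψ, hψ, rfl⟩, rfl, ?_⟩⟩
  · obtain ⟨E, hE, hle⟩ := exists_defectGroup_ge_of_induced hM T hind hD
    have hdef : blockDefect p B = blockDefect p B' := by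
      show (Nat.card G).factorization p - sInf (v '' B) =
        (Nat.card T).factorization p - sInf (v' '' B')
      omega
    have hcard : Nat.card (D.map T.subtype : Subgroup G) = Nat.card E := by
      rw [IsDefectGroup.card hM hind.2.1 hE, hdef, ← IsDefectGroup.card hM hB' hD]
      exact (Nat.card_congr (D.equivMapOfInjective T.subtype T.subtype_injective).toEquiv).symm
    rwa [Subgroup.eq_of_le_of_card_ge hle hcard.ge]
  · show v ⟨_, hirr ψ hψ⟩ - sInf (v '' B) = v' ψ - sInf (v' '' B')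
    rw [hdeg (⟨_, hirr ψ hψ⟩ : IrrCharacter G) ψ rfl, hinf]
    omega

end Stab

end Cfsg.Lib.Blocks
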