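import Mathlib
import Cfsg.Agent.Blocks.Reynolds
import Cfsg.Agent.Blocks.GradedBr
import Cfsg.Agent.Blocks.LocalDefect
import Cfsg.Agent.Coprime.Sylow

/-!
# Defect groups of covering blocks
-/

set_option autoImplicit false
set_option linter.unusedSectionVars false

namespace Cfsg.Lib.Blocks

open Cfsg.Lib.Chars
open scoped ComplexConjugate

universe u

variable {G : Type u} [Group G] [Fintype G] {M : Ideal AlgInt} {p : ℕ}

/-- Conjugation of the idempotent of a set of characters of a normal subgroup. -/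
lemma bi_cjIrr (N : Subgroup G) [N.Normal] [Fintype N] (S : Set (IrrCharacter N)) (g : G) :
    bi M N (cjIrr N g '' S) = cj g⁻¹ (bi M N S) := by
  rw [← red_bx, bx_cjIrr, red_cj, red_bx]

/-- Stabilising a block of a normal subgroup, in terms of conjugation of characters. -/
lemma stabilizesBlock_iff_cjIrr (hM : IsPModular p M) {N : Subgroup G} [N.Normal] [Fintype N]
    {c : Set (IrrCharacter N)} (hc : IsPBlock M c) (x : G) :
    StabilizesBlock N c x ↔ cjIrr N x⁻¹ '' c = c := by
  rw [stabilizesBlock_iff hM hc x, Subgroup.normalizer_eq_top, and_iff_right (Subgroup.mem_top x)]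
  constructor
  · intro h
    refine bi_injective hM (IsPBlock.image_irrEquiv _ hc) hc ?_
    rw [bi_cjIrr, inv_inv, h]
  · intro h
    have := bi_cjIrr (M := M) N c x⁻¹
    rw [h, inv_inv] at this
    exact this.symm

/-- The idempotent of a covered block meets that of the covering block. -/
lemma red_mul_bi_ne_zero (hM : IsPModular p M) {N : Subgroup G} [N.Normal] [Fintype N]
    {B : Set (IrrCharacter G)} (hB : IsPBlock M B) {c : Set (IrrCharacter N)}
    (hc : IsPBlock M c)
    (hcov : ∃ χ ∈ B, ∃ θ ∈ c, classInner (fun n : N => (χ : G → ℂ) n) (θ : N → ℂ) ≠ 0) :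
    red M (blockElem B) * bi M N c ≠ 0 := by
  classical
  intro h0
  obtain ⟨χ, hχ, hθ⟩ := hcov
  rw [← chiEval_blockElem_ne_zero_iff (IsCharacter.restrict (isCharacter_of_irr χ.2) N)] at hθ
  have hei := integral_blockElem hM hB
  have hcomm : blockElem B * bx N c = bx N c * blockElem B :=
    IsCentralFn.comm (isCentralFn_blockElem B) _
  have hz : blockElem B * bx N c = 0 := by
    refine eq_of_red_eq_of_idem (M := M) ?_ (mul_zero 0) (by rw [mul_zero, zero_mul])
      (hei.mul (integral_bx hM hc)) integral_zero ?_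
    · rw [mul_assoc, ← mul_assoc (bx N c), ← hcomm, mul_assoc, bx_mul_self, ← mul_assoc,
        blockElem_mul_self]
    · rw [red_mul hei (integral_bx hM hc), red_bx, h0, red_zero]
  refine hθ ?_
  have h1 := chiEval_central_mul χ (isCentralFn_blockElem B) (bx N c)
  rw [hz, omega_blockElem, if_pos hχ, one_mul, ← emb_resElem N (suppOn_bx N c), chiEval_emb,
    resElem_bx] at h1
  rw [← h1]
  simp [chiEval]

/-- The converse. -/
lemma covers_of_red_mul_bi_ne_zero (hM : IsPModular p M) {N : Subgroup G} [N.Normal] [Fintype N]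
    {B : Set (IrrCharacter G)} (hB : IsPBlock M B) {c : Set (IrrCharacter N)}
    (hc : IsPBlock M c) (hne : red M (blockElem B) * bi M N c ≠ 0) :
    ∃ χ ∈ B, ∃ θ ∈ c, classInner (fun n : N => (χ : G → ℂ) n) (θ : N → ℂ) ≠ 0 := by
  classical
  by_contra hno
  push Not at hno
  refine hne ?_
  have hzc := isCentralFn_bx_orb (N := N) c
  have h0 : blockElem B * bx N (orb N c) = 0 :=
    eq_zero_of_omega_eq_zero ((isCentralFn_blockElem B).mul hzc) fun χ => by
      rw [omega_mul χ (isCentralFn_blockElem B), omega_blockElem]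
      split_ifs with hχ
      · obtain ⟨ψ, hψ⟩ := exists_irr_constituent N χ
        rw [one_mul, omega_bx_of_constituent (image_cjIrr_orb N c) χ ψ hψ, if_neg]
        rintro ⟨g, θ, hθ, rfl⟩
        have := constituent_cjIrr hψ g⁻¹
        rw [← cjIrr_mul, mul_inv_cancel, cjIrr_one] at this
        exact this (hno χ hχ θ hθ)
      · rw [zero_mul]
  have hc' : bx N (orb N c) * bx N c = bx N c := by
    rw [bx_eq_extElem, bx_eq_extElem, extElem_mul]
    congr 1
    refine eq_of_omega_eq ((isCentralFn_blockElem _).mul (isCentralFn_blockElem _))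
      (isCentralFn_blockElem _) fun θ => ?_
    rw [omega_mul θ (isCentralFn_blockElem _), omega_blockElem, omega_blockElem]
    by_cases h : θ ∈ c
    · rw [if_pos h, if_pos (subset_orb N c h), one_mul]
    · rw [if_neg h, mul_zero]
  rw [← red_bx, ← red_mul (integral_blockElem hM hB) (integral_bx hM hc), ← hc', ← mul_assoc, h0,
    zero_mul, red_zero]

lemma cj_red_blockElem (B : Set (IrrCharacter G)) (x : G) :
    cj x (red M (blockElem B)) = red M (blockElem B) :=
  invOn_iff.1 (invOn_top_iff.2 (isCentralFn_blockElem B).red) x (Subgroup.mem_top x)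

/-- A `p`-subgroup with nonzero Brauer image of the block idempotent lies in a defect group. -/
lemma exists_le_conj_of_br (hM : IsPModular p M) {B : Set (IrrCharacter G)} (hB : IsPBlock M B)
    {D : Subgroup G} (hD : IsDefectGroup p M B D) {R : Subgroup G} (hR : IsPGroup p R)
    (hne : br R (red M (blockElem B)) ≠ 0) :
    ∃ x : G, R ≤ D.map (MulAut.conj x).toMonoidHom := by
  by_contra hno
  refine hne (fn_ext fun g => ?_)
  by_cases hg : g ∈ Subgroup.centralizer (R : Set G)
  · rw [br, fn_trunc_mem _ hg, fn_red, fn_zero, res_eq_zero_iff (integral_blockElem hM hB g),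
      fn_blockElem]
    by_contra hns
    exact hno (exists_le_conj_defectGroup hM hB hD hR hg hns)
  · rw [br, fn_trunc_not_mem _ hg, fn_zero]

lemma br_defectGroup_ne_zero (hM : IsPModular p M) {B : Set (IrrCharacter G)} (hB : IsPBlock M B)
    {D : Subgroup G} (hD : IsDefectGroup p M B D) : br D (red M (blockElem B)) ≠ 0 := by
  obtain ⟨g, hg, S, rfl⟩ := hD
  intro h0
  refine ((isDefectClass_iff hM hB g).1 hg).1 ?_
  have h := congrArg (fun w => fn w g) h0
  simp only [fn_zero] at h
  rwa [br, fn_trunc_mem _ (mem_centralizer_centSyl S), fn_red,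
    res_eq_zero_iff (integral_blockElem hM hB g), fn_blockElem] at h

variable [Fact p.Prime]

/-- **A covered block has a defect group inside a defect group of the covering block.** -/
theorem covered_defect_le (hM : IsPModular p M) {N : Subgroup G} [N.Normal] [Fintype N]
    {B : Set (IrrCharacter G)} (hB : IsPBlock M B) {P : Subgroup G} (hP : IsDefectGroup p M B P)
    {c : Set (IrrCharacter N)} (hc : IsPBlock M c)
    (hcov : ∃ χ ∈ B, ∃ θ ∈ c, classInner (fun n : N => (χ : G → ℂ) n) (θ : N → ℂ) ≠ 0)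
    {D : Subgroup N} (hD : IsDefectGroup p M c D) :
    ∃ x : G, D.map N.subtype ≤ P.map (MulAut.conj x).toMonoidHom := by
  haveI := charP_res hM
  set R := D.map N.subtype with hR
  have hRp : IsPGroup p R := (IsDefectGroup.isPGroup hD).map _
  have hRN : R ≤ N := Subgroup.map_subtype_le _
  have hcc : InvOn N (red M (blockElem B)) :=
    (invOn_top_iff.2 (isCentralFn_blockElem B).red).mono le_top
  have hec : red M (blockElem B) * red M (blockElem B) = red M (blockElem B) := by
    rw [← red_mul (integral_blockElem hM hB) (integral_blockElem hM hB), blockElem_mul_self]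
  have hne : br R (red M (blockElem B) * bi M N c) ≠ 0 := by
    refine br_ne_zero_of_graded hM (T := ⊤) le_top (fun t _ n hn => ‹N.Normal›.conj_mem n hn t) hc
      hRp hRN (br_defect_ne_zero hM hc hD) (fun g hg => absurd (Subgroup.mem_top g) hg)
      (hcc.mul (invOn_bi c)) ?_ (by rw [mul_assoc, bi_mul_self hM hc])
      (red_mul_bi_ne_zero hM hB hc hcov)
    rw [mul_assoc, ← mul_assoc (bi M N c), ← hcc.comm (suppOn_bi c), mul_assoc,
      bi_mul_self hM hc, ← mul_assoc, hec]
  refine exists_le_conj_of_br hM hB hP hRp fun h0 => hne ?_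
  rw [br_mul hRp (hcc.mono hRN) ((invOn_bi c).mono hRN), h0, zero_mul]

lemma card_map_subtype' (N : Subgroup G) (D : Subgroup N) :
    Nat.card (D.map N.subtype : Subgroup G) = Nat.card D :=
  (Nat.card_congr (D.equivMapOfInjective N.subtype N.subtype_injective).toEquiv).symm

lemma map_conj_inf_normal (P : Subgroup G) {N : Subgroup G} [hN : N.Normal] (x : G) :
    P.map (MulAut.conj x).toMonoidHom ⊓ N = (P ⊓ N).map (MulAut.conj x).toMonoidHom := by
  have hn : N.map (MulAut.conj x).toMonoidHom = N := by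
    ext g
    constructor
    · rintro ⟨y, hy, rfl⟩; exact hN.conj_mem y hy x
    · exact fun hg => ⟨x⁻¹ * g * x, by simpa using hN.conj_mem g hg x⁻¹, by simp [mul_assoc]⟩
  rw [Subgroup.map_inf _ _ _ (MulAut.conj x).injective, hn]

/-- **A block stable under a defect group with the expected defect group.** -/
theorem exists_stable_covered (hM : IsPModular p M) (N : Subgroup G) [N.Normal] [Fintype N]
    {B : Set (IrrCharacter G)} (hB : IsPBlock M B) {P : Subgroup G}
    (hP : IsDefectGroup p M B P) :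
    ∃ c : Set (IrrCharacter N), IsPBlock M c ∧ (∀ x ∈ P, StabilizesBlock N c x) ∧
      (∃ χ ∈ B, ∃ θ ∈ c, classInner (fun n : N => (χ : G → ℂ) n) (θ : N → ℂ) ≠ 0) ∧
      IsDefectGroup p M c ((P ⊓ N).subgroupOf N) := by
  classical
  haveI := charP_res hM
  have hPp := IsDefectGroup.isPGroup hP
  set e := red M (blockElem B) with he
  have hec : IsCentralFn e := (isCentralFn_blockElem B).red
  -- the action of `P` on the blocks of `N`
  let α : Type u := {c : Set (IrrCharacter N) // IsPBlock M c}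
  letI : Fintype α := Fintype.ofFinite α
  letI act : MulAction P α :=
    { smul := fun k c => ⟨cjIrr N (k : G)⁻¹ '' c.1, IsPBlock.image_irrEquiv _ c.2⟩
      one_smul := fun c => Subtype.ext (by
        show cjIrr N ((1 : P) : G)⁻¹ '' c.1 = c.1
        simp only [OneMemClass.coe_one, inv_one, cjIrr_one, Set.image_id'])
      mul_smul := fun a b c => Subtype.ext (by
        show cjIrr N ((a * b : P) : G)⁻¹ '' c.1 =
          cjIrr N (a : G)⁻¹ '' (cjIrr N (b : G)⁻¹ '' c.1)
        simp only [Subgroup.coe_mul, mul_inv_rev, cjIrr_mul, Set.image_image]) }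
  have hF : ∀ (k : P) (c : α), br P (e * bi M N (k • c).1) = br P (e * bi M N c.1) := by
    intro k c
    rw [show (k • c).1 = cjIrr N (k : G)⁻¹ '' c.1 from rfl, bi_cjIrr, inv_inv]
    conv_lhs => rw [he, ← cj_red_blockElem B (k : G), ← cj_mul, ← he]
    have hmap : P.map (MulAut.conj (k : G)).toMonoidHom = P := by
      ext g
      constructor
      · rintro ⟨y, hy, rfl⟩; exact P.mul_mem (P.mul_mem k.2 hy) (P.inv_mem k.2)
      · exact fun hg => ⟨(k : G)⁻¹ * g * k, P.mul_mem (P.mul_mem (P.inv_mem k.2) hg) k.2,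
          by simp [mul_assoc]⟩
    have hbrcj := cj_br (k : G) P (e * bi M N c.1)
    rw [hmap] at hbrcj
    rw [← hbrcj]
    refine fn_ext fun g => ?_
    rw [fn_cj]
    by_cases hg : g ∈ Subgroup.centralizer (P : Set G)
    · have hk : (k : G)⁻¹ * g * k = g := by
        rw [mul_assoc, ← (Subgroup.mem_centralizer_iff.1 hg (k : G) k.2), inv_mul_cancel_left]
      rw [hk]
    · rw [suppOn_br P _ g hg, suppOn_br P _ _ fun h => hg ?_]
      refine Subgroup.mem_centralizer_iff.2 fun y hy => ?_
      have hy' : (k : G)⁻¹ * y * k ∈ P := P.mul_mem (P.mul_mem (P.inv_mem k.2) hy) k.2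
      have h1 := Subgroup.mem_centralizer_iff.1 h _ hy'
      calc y * g = (k : G) * (((k : G)⁻¹ * y * k) * ((k : G)⁻¹ * g * k)) * (k : G)⁻¹ := by group
        _ = g * y := by rw [h1]; group
  have hsum : ∑ c : α, br P (e * bi M N c.1) = br P e := by
    have h1 : ∑ c : α, bi M N c.1 = (1 : MonoidAlgebra (Res M) G) := by
      rw [← sum_bi (H := N) hM, Finset.sum_subtype (blocksFinset M N)
        (fun b => mem_blocksFinset hM) (bi M N)]
    simp only [br]
    rw [← trunc_sum, ← Finset.mul_sum, h1, mul_one]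
  obtain ⟨c, hcfix, hcne⟩ : ∃ c : α, c ∈ MulAction.fixedPoints P α ∧
      br P (e * bi M N c.1) ≠ 0 := by
    by_contra hno
    push Not at hno
    refine br_defectGroup_ne_zero hM hB hP ?_
    rw [← he, ← hsum, sum_eq_sum_fixed hPp (fun r => fn_ext fun g => by
      rw [← Nat.cast_smul_eq_nsmul (Res M), fn_smul, CharP.cast_eq_zero, zero_mul, fn_zero])
      (fun c : α => br P (e * bi M N c.1)) hF]
    exact Finset.sum_eq_zero fun c hc => hno c (Finset.mem_filter.1 hc).2
  have hst : ∀ x ∈ P, StabilizesBlock N c.1 x := fun x hx =>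
    (stabilizesBlock_iff_cjIrr hM c.2 x).2 (congrArg Subtype.val (hcfix ⟨x, hx⟩))
  have hinv : InvOn P (bi M N c.1) := invOn_iff.2 fun x hx =>
    ((stabilizesBlock_iff hM c.2 x).1 (hst x hx)).2
  have hprod : e * bi M N c.1 ≠ 0 := fun h => hcne (by rw [h, br_zero])
  have hcov := covers_of_red_mul_bi_ne_zero hM hB c.2 hprod
  refine ⟨c.1, c.2, hst, hcov, ?_⟩
  set R := P ⊓ N with hR
  have hRp : IsPGroup p R := hPp.to_le inf_le_left
  have hne : br R (bi M N c.1) ≠ 0 := by
    intro h0
    refine hcne ?_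
    rw [br_mul hPp ((invOn_top_iff.2 hec).mono le_top) hinv,
      ← br_br (inf_le_left : R ≤ P) (bi M N c.1), h0, br_zero, mul_zero]
  obtain ⟨D, hD, hle⟩ := exists_defect_ge_of_br hM c.2 hRp inf_le_right hne
  obtain ⟨x, hx⟩ := covered_defect_le hM hB hP c.2 hcov hD
  have hx' : D.map N.subtype ≤ (P ⊓ N).map (MulAut.conj x).toMonoidHom := by
    rw [← map_conj_inf_normal]
    exact le_inf hx (Subgroup.map_subtype_le _)
  have hcard : Nat.card D ≤ Nat.card (R.subgroupOf N) := by
    rw [Nat.card_congr (Subgroup.subgroupOfEquivOfLe (inf_le_right : R ≤ N)).toEquiv,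
      ← card_map_subtype', ← card_map_conj (P ⊓ N) x]
    exact Subgroup.card_le_of_le hx'
  rwa [Subgroup.eq_of_le_of_card_ge hle hcard]

/-- Defect groups of conjugate blocks. -/
lemma isDefectGroup_cjIrr {N : Subgroup G} [N.Normal] [Fintype N] {b : Set (IrrCharacter N)}
    {Q : Subgroup G} (hQN : Q ≤ N) (hQ : IsDefectGroup p M b (Q.subgroupOf N)) (g : G) :
    IsDefectGroup p M (cjIrr N g '' b) ((Q.map (MulAut.conj g⁻¹).toMonoidHom).subgroupOf N) := by
  have h := IsDefectGroup.image_irrEquiv (MulAut.conjNormal g : N ≃* N) hQ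
  have heq : (Q.subgroupOf N).map (MulAut.conjNormal g : N ≃* N).symm.toMonoidHom =
      (Q.map (MulAut.conj g⁻¹).toMonoidHom).subgroupOf N := by
    ext n
    simp only [Subgroup.mem_map, Subgroup.mem_subgroupOf]
    constructor
    · rintro ⟨m, hm, rfl⟩
      exact ⟨(m : G), hm, by simp [MulAut.conjNormal_symm_apply]⟩
    · rintro ⟨y, hy, hyn⟩
      refine ⟨⟨y, hQN hy⟩, hy, Subtype.ext ?_⟩
      rw [← hyn]
      simp [MulAut.conjNormal_symm_apply]
  rwa [heq] at h

/-- **A covering block has a defect group meeting `N` in a given defect group.** -/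
theorem exists_defect_inf_eq (hM : IsPModular p M) {N : Subgroup G} [N.Normal] [Fintype N]
    {b : Set (IrrCharacter N)} (hb : IsPBlock M b) {Q : Subgroup G} (hQN : Q ≤ N)
    (hQ : IsDefectGroup p M b (Q.subgroupOf N)) {B : Set (IrrCharacter G)} (hB : IsPBlock M B)
    (hcov : ∃ χ ∈ B, ∃ θ ∈ b, classInner (fun n : N => (χ : G → ℂ) n) (θ : N → ℂ) ≠ 0) :
    ∃ P : Subgroup G, IsDefectGroup p M B P ∧ P ⊓ N = Q := by
  obtain ⟨P, hP⟩ := exists_defectGroup hM hB
  obtain ⟨c, hc, -, ⟨χ', hχ', ψ, hψc, hψ⟩, hdef⟩ := exists_stable_covered hM N hB hP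
  obtain ⟨χ, hχ, θ, hθb, hθ⟩ := hcov
  obtain ⟨g, θ', hθ', rfl⟩ := constituent_mem_orb hM hB hb hχ hχ' hθb hθ hψ
  have hcg : c = cjIrr N g '' b :=
    IsPBlock.eq_of_mem_inter hM hc (IsPBlock.image_irrEquiv _ hb) hψc ⟨θ', hθ', rfl⟩
  subst hcg
  obtain ⟨n, hn⟩ := IsDefectGroup.exists_eq_conj hM hc (isDefectGroup_cjIrr hQN hQ g) hdef
  have hQ'N : Q.map (MulAut.conj g⁻¹).toMonoidHom ≤ N := by
    rintro _ ⟨y, hy, rfl⟩
    exact Subgroup.Normal.conj_mem ‹_› y (hQN hy) g⁻¹
  have h1 := congrArg (fun K : Subgroup N => K.map N.subtype) hn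
  simp only [Subgroup.map_map] at h1
  rw [show (N.subtype.comp (MulAut.conj n).toMonoidHom) =
      (MulAut.conj (n : G)).toMonoidHom.comp N.subtype from MonoidHom.ext fun _ => rfl,
    ← Subgroup.map_map, Subgroup.map_subgroupOf_eq_of_le inf_le_right,
    Subgroup.map_subgroupOf_eq_of_le hQ'N, map_conj_map] at h1
  refine ⟨P.map (MulAut.conj ((n : G) * g⁻¹)⁻¹).toMonoidHom, IsDefectGroup.conj hM hB hP _, ?_⟩
  rw [map_conj_inf_normal, h1, map_conj_map, inv_mul_cancel, map_conj_one]

/-- The class of an element of `N` in `G`, for an invariant block of `N`. -/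
lemma res_inducedCentralChar_of_invariant (hM : IsPModular p M) {N : Subgroup G} [N.Normal]
    [Fintype N] {b : Set (IrrCharacter N)} (hb : IsPBlock M b)
    (hinv : ∀ g : G, cjIrr N g '' b = b) (t : N) {θ : IrrCharacter N} (hθ : θ ∈ b) :
    ∃ r : ℕ, (Subgroup.centralizer ({(t : G)} : Set G)).index =
        r * (Subgroup.centralizer ({t} : Set N)).index ∧
      res M (inducedCentralChar N (θ : N → ℂ) (t : G)) =
        r • res M (centralChar (θ : N → ℂ) t) := by
  classical
  letI : Fintype (ConjClasses N) := Fintype.ofFinite _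
  set L : MonoidAlgebra ℂ N := resElem N (cls ℂ (t : G)) with hL
  have hLc : IsCentralFn L := (isCentralFn_cls _).resElem N
  have hLfn : ∀ m : N, fn L m = if IsConj (t : G) (m : G) then 1 else 0 := fun m => by
    rw [hL, fn_resElem, fn_cls]
  set I : Finset (ConjClasses N) :=
    Finset.univ.filter fun K => IsConj (t : G) ((crep K : N) : G) with hI
  have hclass : ∀ K ∈ I, ∃ x : G, crep K = MulAut.conjNormal x t := fun K hK => by
    obtain ⟨x, hx⟩ := isConj_iff.1 (Finset.mem_filter.1 hK).2
    exact ⟨x, Subtype.ext (by rw [MulAut.conjNormal_apply, hx])⟩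
  have hindex : ∀ K ∈ I, (Subgroup.centralizer ({crep K} : Set N)).index =
      (Subgroup.centralizer ({t} : Set N)).index := fun K hK => by
    obtain ⟨x, hx⟩ := hclass K hK
    rw [hx, ← comap_centralizer_singleton (MulAut.conjNormal x : N ≃* N) t,
      Subgroup.index_comap_of_surjective _
        (f := (MulAut.conjNormal x : N ≃* N).toMonoidHom) (MulAut.conjNormal x).surjective]
  refine ⟨I.card, ?_, ?_⟩
  · have h1 : omega (fun _ : N => (1 : ℂ)) L = ∑ x : G, fn (cls ℂ (t : G)) x := by
      simp only [omega, chiEval, mul_one, div_one, hL, fn_resElem]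
      rw [← Finset.sum_filter_add_sum_filter_not Finset.univ (fun x : G => x ∈ N),
        Finset.sum_eq_zero (s := Finset.univ.filter fun x : G => ¬ x ∈ N) fun x hx =>
          suppOn_cls t.2 x (Finset.mem_filter.1 hx).2, add_zero,
        Finset.sum_subtype (p := (· ∈ N)) (Finset.univ.filter (· ∈ N)) (fun g => by simp)]
    rw [omega_eq_sum_classes _ (fun _ _ => rfl) hLc, sum_fn_cls] at h1
    simp only [hLfn, ite_mul, one_mul, zero_mul] at h1
    rw [← Finset.sum_filter, Finset.sum_congr rfl fun K hK => show centralChar _ (crep K) =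
      ((Subgroup.centralizer ({t} : Set N)).index : ℂ) by
        simp only [centralChar, mul_one, div_one, hindex K hK], Finset.sum_const,
      nsmul_eq_mul, ← Nat.cast_mul, Nat.cast_inj] at h1
    exact h1.symm
  · rw [inducedCentralChar_eq_omega, omega_eq_sum_classes _ (isClassFunction_irr θ) hLc]
    simp only [hLfn, ite_mul, one_mul, zero_mul]
    rw [← Finset.sum_filter, res_sum _ _ fun K _ => centralChar_mem_place hM θ _,
      Finset.sum_congr rfl fun K hK => show res M (centralChar (θ : N → ℂ) (crep K)) =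
        res M (centralChar (θ : N → ℂ) t) by
        obtain ⟨x, hx⟩ := hclass K hK
        rw [hx, ← centralChar_comp (MulAut.conjNormal x : N ≃* N) (θ : N → ℂ) t]
        refine IsPBlock.res_centralChar_eq hM hb (χ := cjIrr N x θ) (ψ := θ) ?_ hθ t
        rw [← hinv x]
        exact Set.mem_image_of_mem _ hθ,
      Finset.sum_const]

/-- Some covering block of an invariant block has the largest possible defect. -/
theorem exists_covering_large (hM : IsPModular p M) {N : Subgroup G} [N.Normal] [Fintype N]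
    {b : Set (IrrCharacter N)} (hb : IsPBlock M b) (hinv : ∀ g : G, cjIrr N g '' b = b) :
    ∃ B : Set (IrrCharacter G), IsPBlock M B ∧
      (∃ χ ∈ B, ∃ θ ∈ b, classInner (fun n : N => (χ : G → ℂ) n) (θ : N → ℂ) ≠ 0) ∧
      blockDefect p B = blockDefect p b + N.index.factorization p := by
  classical
  letI : Fintype (ConjClasses G) := Fintype.ofFinite _
  obtain ⟨θ, hθ⟩ := IsPBlock.nonempty hM hb
  set z := bx N b with hz
  have hzc : IsCentralFn z := isCentralFn_bx hinv
  have hzi : Integral M z := integral_bx hM hb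
  set S : Finset (Set (IrrCharacter G)) := (blocksFinset M G).filter fun B =>
    ∃ χ ∈ B, ∃ θ ∈ b, classInner (fun n : N => (χ : G → ℂ) n) (θ : N → ℂ) ≠ 0 with hS
  have hSb : ∀ B ∈ S, IsPBlock M B := fun B hB =>
    (mem_blocksFinset hM).1 (Finset.mem_filter.1 hB).1
  have hzsum : z = ∑ B ∈ S, blockElem B := by
    refine eq_of_omega_eq hzc (IsCentralFn.sum _ _ fun B _ => isCentralFn_blockElem B) fun χ => ?_
    obtain ⟨ψ, hψ⟩ := exists_irr_constituent N χ
    rw [omega_bx_of_constituent hinv χ ψ hψ, omega_sum,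
      Finset.sum_congr rfl fun B _ => omega_blockElem B χ]
    have hiff : ψ ∈ b ↔ blockOf M (χ : G → ℂ) ∈ S := by
      refine ⟨fun h => Finset.mem_filter.2 ⟨(mem_blocksFinset hM).2 (isPBlock_blockOf χ),
        χ, mem_blockOf_self hM χ, ψ, h, hψ⟩, fun h => ?_⟩
      obtain ⟨χ', hχ', θ', hθ', hc⟩ := (Finset.mem_filter.1 h).2
      obtain ⟨g, θ'', hθ'', rfl⟩ := constituent_mem_orb hM (isPBlock_blockOf χ) hb hχ'
        (mem_blockOf_self hM χ) hθ' hc hψ
      rw [← hinv g]
      exact Set.mem_image_of_mem _ hθ''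
    by_cases h : ψ ∈ b
    · rw [if_pos h, Finset.sum_eq_single (blockOf M (χ : G → ℂ)), if_pos (mem_blockOf_self hM χ)]
      · exact fun B hB hne => if_neg fun h' => hne (IsPBlock.eq_blockOf hM (hSb B hB) h')
      · exact fun h' => absurd (hiff.1 h) h'
    · rw [if_neg h]
      refine (Finset.sum_eq_zero fun B hB => if_neg fun h' => h (hiff.2 ?_)).symm
      rw [← IsPBlock.eq_blockOf hM (hSb B hB) h']
      exact hB
  -- a class carrying the idempotent
  have h1 : res M (omega (θ : N → ℂ) (resElem N z)) = 1 := by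
    rw [hz, resElem_bx, omega_blockElem, if_pos hθ, res_one]
  rw [omega_resElem_eq_sum N _ hzc,
    res_sum _ _ fun C _ => mul_mem (hzi _) (inducedCentralChar_mem_place hM N θ _)] at h1
  obtain ⟨C, -, hC⟩ := Finset.exists_ne_zero_of_sum_ne_zero (h1 ▸ (one_ne_zero : (1 : Res M) ≠ 0))
  rw [res_mul (hzi _) (inducedCentralChar_mem_place hM N θ _)] at hC
  have hCN : crep C ∈ N := by
    by_contra h
    exact left_ne_zero_of_mul hC (by rw [hz, suppOn_bx N b _ h, res_zero])
  set t : N := ⟨crep C, hCN⟩ with ht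
  obtain ⟨r, hr1, hr2⟩ := res_inducedCentralChar_of_invariant hM hb hinv t hθ
  have hcoef : ¬ Small M (blockCoeff b t) := fun h => left_ne_zero_of_mul hC (by
    rw [res_eq_zero_iff (hzi _), hz, fn_bx, subgroupBlockCoeff, dif_pos hCN]
    exact h)
  have hind : res M (inducedCentralChar N (θ : N → ℂ) (t : G)) ≠ 0 := right_ne_zero_of_mul hC
  have hrp : ¬ p ∣ r := fun h => hind (by
    rw [hr2, nsmul_eq_mul, (res_natCast_eq_zero_iff (M := M) hM r).2 h, zero_mul])
  have hcc : res M (centralChar (θ : N → ℂ) t) ≠ 0 := fun h => hind (by rw [hr2, h, smul_zero])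
  have hdefN : IsDefectClass M b t := (isDefectClass_iff hM hb t).2 ⟨hcoef, fun ψ hψ h => hcc (by
    rw [IsPBlock.res_centralChar_eq hM hb hθ hψ, res_eq_zero_iff (centralChar_mem_place hM ψ t)]
    exact h)⟩
  obtain ⟨B, hBS, hBt⟩ : ∃ B ∈ S, ¬ Small M (blockCoeff B (t : G)) := by
    by_contra hno
    push Not at hno
    refine left_ne_zero_of_mul hC ?_
    rw [res_eq_zero_iff (hzi _), hzsum, fn_sum]
    exact small_sum _ _ fun B hB => by rw [fn_blockElem]; exact hno B hB
  have hB := hSb B hBS
  have hcov := (Finset.mem_filter.1 hBS).2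
  have hdefG : IsDefectClass M B (t : G) := (isDefectClass_iff hM hB _).2 ⟨hBt, fun χ hχ h =>
    hind (by
      rw [← (covers_iff hM hB hb).1 hcov χ hχ θ hθ t,
        res_eq_zero_iff (centralChar_mem_place hM χ _)]
      exact h)⟩
  refine ⟨B, hB, hcov, ?_⟩
  have S1 : Sylow p (Subgroup.centralizer ({(t : G)} : Set G)) := default
  have S2 : Sylow p (Subgroup.centralizer ({t} : Set N)) := default
  have e1 := IsDefectGroup.card hM hB (D := centSyl S1) ⟨_, hdefG, S1, rfl⟩
  have e2 := IsDefectGroup.card hM hb (D := centSyl S2) ⟨_, hdefN, S2, rfl⟩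
  rw [card_centSyl] at e1 e2
  have d1 := Nat.pow_right_injective (Fact.out : p.Prime).two_le e1
  have d2 := Nat.pow_right_injective (Fact.out : p.Prime).two_le e2
  have f1 := congrArg (fun n : ℕ => n.factorization p)
    (Subgroup.card_mul_index (Subgroup.centralizer ({(t : G)} : Set G)))
  have f2 := congrArg (fun n : ℕ => n.factorization p)
    (Subgroup.card_mul_index (Subgroup.centralizer ({t} : Set N)))
  have f3 := congrArg (fun n : ℕ => n.factorization p) (Subgroup.card_mul_index N)
  have hr0 : r ≠ 0 := fun h => hrp (h ▸ dvd_zero p)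
  have f4 : (Subgroup.centralizer ({(t : G)} : Set G)).index.factorization p =
      (Subgroup.centralizer ({t} : Set N)).index.factorization p := by
    rw [hr1, Nat.factorization_mul hr0 Subgroup.index_ne_zero_of_finite, Finsupp.add_apply,
      Nat.factorization_eq_zero_of_not_dvd hrp, zero_add]
  simp only [Nat.factorization_mul Nat.card_pos.ne' Subgroup.index_ne_zero_of_finite,
    Finsupp.add_apply] at f1 f2 f3
  omega

/-- **Fong**: covering blocks of largest defect over an invariant block. -/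
theorem fong_max_defect (hM : IsPModular p M) {N : Subgroup G} [N.Normal] [Fintype N]
    {b : Set (IrrCharacter N)} (hb : IsPBlock M b) (hinv : ∀ g : G, cjIrr N g '' b = b)
    {B : Set (IrrCharacter G)} (hB : IsPBlock M B)
    (hcov : ∃ χ ∈ B, ∃ θ ∈ b, classInner (fun n : N => (χ : G → ℂ) n) (θ : N → ℂ) ≠ 0)
    (hmax : ∀ B' : Set (IrrCharacter G), IsPBlock M B' →
      (∃ χ ∈ B', ∃ θ ∈ b, classInner (fun n : N => (χ : G → ℂ) n) (θ : N → ℂ) ≠ 0) →
      blockDefect p B' ≤ blockDefect p B)
    {P : Subgroup G} (hP : IsDefectGroup p M B P) :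
    ¬ p ∣ (P ⊔ N).index ∧ IsDefectGroup p M b ((P ⊓ N).subgroupOf N) ∧
      blockDefect p B = blockDefect p b + N.index.factorization p := by
  have hp : p.Prime := Fact.out
  obtain ⟨B₀, hB₀, hcov₀, hd₀⟩ := exists_covering_large hM hb hinv
  have hle := hmax B₀ hB₀ hcov₀
  obtain ⟨c, hc, -, ⟨χ', hχ', ψ, hψc, hψ⟩, hdef⟩ := exists_stable_covered hM N hB hP
  obtain ⟨χ, hχ, θ, hθb, hθ⟩ := hcov
  obtain ⟨g, θ', hθ', rfl⟩ := constituent_mem_orb hM hB hb hχ hχ' hθb hθ hψ
  have hcb : c = b :=
    IsPBlock.eq_of_mem_inter hM hc hb hψc (hinv g ▸ Set.mem_image_of_mem _ hθ')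
  subst hcb
  have c1 : Nat.card (P ⊓ N : Subgroup G) = p ^ blockDefect p c := by
    rw [← IsDefectGroup.card hM hc hdef,
      Nat.card_congr (Subgroup.subgroupOfEquivOfLe (inf_le_right : P ⊓ N ≤ N)).toEquiv]
  have c2 := IsDefectGroup.card hM hB hP
  have e := congrArg (fun n : ℕ => n.factorization p)
    (Cfsg.Lib.Coprime.card_sup_mul_card_inf (N := N) (H := P)
      (fun y _ => by rw [Subgroup.normalizer_eq_top]; exact Subgroup.mem_top y))
  have i1 := congrArg (fun n : ℕ => n.factorization p) (Subgroup.card_mul_index N)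
  have i2 := congrArg (fun n : ℕ => n.factorization p) (Subgroup.card_mul_index (P ⊔ N))
  simp only [inf_comm N P, sup_comm N P,
    Nat.factorization_mul Nat.card_pos.ne' Nat.card_pos.ne', Finsupp.add_apply] at e
  rw [c1, c2, hp.factorization_pow, hp.factorization_pow, Finsupp.single_eq_same,
    Finsupp.single_eq_same] at e
  simp only [Nat.factorization_mul Nat.card_pos.ne' Subgroup.index_ne_zero_of_finite,
    Finsupp.add_apply] at i1 i2
  refine ⟨fun hdvd => ?_, hdef, by omega⟩
  have := hp.factorization_pos_of_dvd Subgroup.index_ne_zero_of_finite hdvd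
  omega

/-- Over an index a power of `p`, a stable block supplies a block idempotent. -/
theorem exists_blockCoeff_eq (hM : IsPModular p M) {N : Subgroup G} [N.Normal] [Fintype N]
    {k : ℕ} (hidx : N.index = p ^ k) {c : Set (IrrCharacter N)} (hc : IsPBlock M c)
    (hinv : ∀ g : G, cjIrr N g '' c = c) :
    ∃ B : Set (IrrCharacter G), IsPBlock M B ∧
      ∀ g : G, blockCoeff B g = subgroupBlockCoeff N c g := by
  classical
  obtain ⟨B, ⟨hB, hcov⟩, huniq⟩ := existsUnique_covering hM N hidx hc
  refine ⟨B, hB, ?_⟩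
  suffices h : blockElem B = bx N c by
    intro g
    rw [← fn_blockElem, h, fn_bx]
  refine eq_of_omega_eq (isCentralFn_blockElem B) (isCentralFn_bx hinv) fun χ => ?_
  obtain ⟨ψ, hψ⟩ := exists_irr_constituent N χ
  rw [omega_blockElem, omega_bx_of_constituent hinv χ ψ hψ]
  refine if_congr ⟨fun hχ => ?_, fun hψc => ?_⟩ rfl rfl
  · obtain ⟨χ₀, hχ₀, θ, hθc, hθ⟩ := hcov
    obtain ⟨g, θ', hθ', rfl⟩ := constituent_mem_orb hM hB hc hχ₀ hχ hθc hθ hψ
    rw [← hinv g]
    exact Set.mem_image_of_mem _ hθ'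
  · rw [← huniq _ ⟨isPBlock_blockOf χ, χ, mem_blockOf_self hM χ, ψ, hψc, hψ⟩]
    exact mem_blockOf_self hM χ

/-- The defect groups of such a block. -/
theorem defect_of_blockCoeff_eq (hM : IsPModular p M) {N : Subgroup G} [N.Normal] [Fintype N]
    {k : ℕ} (hidx : N.index = p ^ k) {c : Set (IrrCharacter N)} (hc : IsPBlock M c)
    (hinv : ∀ g : G, cjIrr N g '' c = c) {B : Set (IrrCharacter G)} (hB : IsPBlock M B)
    (heq : ∀ g : G, blockCoeff B g = subgroupBlockCoeff N c g) {P : Subgroup G}
    (hP : IsDefectGroup p M B P) :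
    N ⊔ P = ⊤ ∧ IsDefectGroup p M c ((P ⊓ N).subgroupOf N) := by
  classical
  have hp : p.Prime := Fact.out
  obtain ⟨χ, hχ⟩ := IsPBlock.nonempty hM hB
  obtain ⟨ψ, hψ⟩ := exists_irr_constituent N χ
  have hbx : blockElem B = bx N c := fn_ext fun g => by rw [fn_blockElem, fn_bx, heq]
  have hψc : ψ ∈ c := by
    have h := omega_bx_of_constituent hinv χ ψ hψ
    rw [← hbx, omega_blockElem, if_pos hχ] at h
    by_contra hn
    rw [if_neg hn] at h
    exact one_ne_zero h
  have hcov : ∃ χ ∈ B, ∃ θ ∈ c, classInner (fun n : N => (χ : G → ℂ) n) (θ : N → ℂ) ≠ 0 :=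
    ⟨χ, hχ, ψ, hψc, hψ⟩
  obtain ⟨B₁, -, huniq⟩ := existsUnique_covering hM N hidx hc
  obtain ⟨h1, h2, -⟩ := fong_max_defect hM hc hinv hB hcov (fun B' hB' hc' => by
    rw [huniq B' ⟨hB', hc'⟩, huniq B ⟨hB, hcov⟩]) hP
  refine ⟨?_, h2⟩
  rw [sup_comm, ← Subgroup.index_eq_one]
  have hd : (P ⊔ N).index ∣ p ^ k := hidx ▸ Subgroup.index_dvd_of_le le_sup_right
  obtain ⟨j, -, hj⟩ := (Nat.dvd_prime_pow hp).1 hd
  rcases j with _ | j
  · rw [hj, pow_zero]
  · exact absurd (hj ▸ dvd_pow_self p j.succ_ne_zero) h1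

/-- A block below a stable one, inside the overgroup of `p`-power index. -/
lemma exists_block_overgroup (hM : IsPModular p M) {N L : Subgroup G} [N.Normal] [Fintype N]
    [Fintype L] (hNL : N ≤ L) (hreg : ∀ g ∈ L, ¬ p ∣ orderOf g → g ∈ N)
    {c : Set (IrrCharacter N)} (hc : IsPBlock M c) (hst : InvOn L (bi M N c)) :
    ∃ E : Set (IrrCharacter L), IsPBlock M E ∧ bi M L E = bi M N c := by
  classical
  obtain ⟨S, hS, hSe⟩ := exists_eq_sum_bi hM ((suppOn_bi c).mono hNL) hst (bi_mul_self hM hc)
  obtain ⟨E, hE⟩ : S.Nonempty := by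
    rw [Finset.nonempty_iff_ne_empty]
    rintro rfl
    exact bi_ne_zero hM hc (by rw [hSe, Finset.sum_empty])
  have hEb : IsPBlock M E := (mem_blocksFinset hM).1 (hS hE)
  have hmul : bi M N c * bi M L E = bi M L E := by
    rw [hSe, Finset.sum_mul, Finset.sum_eq_single E]
    · exact bi_mul_self hM hEb
    · exact fun d hd hne => bi_mul_bi hM ((mem_blocksFinset hM).1 (hS hd)) hEb hne
    · exact fun h => absurd hE h
  have hmul' : bi M L E * bi M N c = bi M L E := by rw [← hst.comm (suppOn_bi E), hmul]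
  have hsupp : SuppOn N (bi M L E) := fun g hg => by
    by_cases hgL : g ∈ L
    · rw [bi, fn_ofFn, subgroupBlockCoeff, dif_pos hgL,
        blockCoeff_eq_zero_of_singular hM hEb, res_zero]
      rw [Subgroup.orderOf_mk]
      by_contra h
      exact hg (hreg g hgL h)
    · exact suppOn_bi E g hgL
  refine ⟨E, hEb, ?_⟩
  rcases mul_bi_eq_or hM hsupp ((invOn_bi E).mono hNL) (bi_mul_self hM hEb) hc with h | h
  · exact hmul'.symm.trans h
  · exact absurd (hmul'.symm.trans h) (bi_ne_zero hM hEb)

/-- Some coefficient of a stable block is centralised outside the normal subgroup. -/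
lemma exists_pElem_br_ne_zero (hM : IsPModular p M) {N L : Subgroup G} [N.Normal] [Fintype N]
    (hreg : ∀ g ∈ L, ¬ p ∣ orderOf g → g ∈ N) {c : Set (IrrCharacter N)} (hc : IsPBlock M c)
    (hNL : N ≤ L) (hinv : ∀ x ∈ L, cjIrr N x '' c = c) (hne : N ≠ L) :
    ∃ R : Subgroup G, IsPGroup p R ∧ R ≤ L ∧ ¬ R ≤ N ∧ br R (bi M N c) ≠ 0 := by
  classical
  haveI := charP_res hM
  have hp : p.Prime := Fact.out
  obtain ⟨y, hyL, hyN⟩ : ∃ y ∈ L, y ∉ N := by
    by_contra h
    push Not at h
    exact hne (le_antisymm hNL h)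
  -- a `p`-element outside `N`
  obtain ⟨s, z, hz, -, hzk, hzreg⟩ := exists_isPPart hp y
  set u := y ^ s with hu
  have huN : u ∉ N := fun h => hyN (by
    rw [← hz]
    refine N.mul_mem h (hreg z ?_ hzreg)
    have hzy : z = u⁻¹ * y := by rw [← hz, inv_mul_cancel_left]
    rw [hzy]
    exact L.mul_mem (L.inv_mem (L.pow_mem hyL s)) hyL)
  have huP : IsPGroup p (Subgroup.zpowers u) := isPGroup_zpowers hp hzk
  have huL : Subgroup.zpowers u ≤ L := Subgroup.zpowers_le.2 (L.pow_mem hyL s)
  letI : Fintype (ConjClasses N) := Fintype.ofFinite _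
  let φ : Subgroup.zpowers u →* MulAut N := MulAut.conjNormal.comp (Subgroup.zpowers u).subtype
  letI act : MulAction (Subgroup.zpowers u) (ConjClasses N) :=
    { smul := fun k K => ConjClasses.map (φ k).toMonoidHom K
      one_smul := fun K => by
        induction K using Quotient.inductionOn with
        | _ g => exact congrArg ConjClasses.mk (show φ 1 g = g by rw [map_one]; rfl)
      mul_smul := fun a b K => by
        induction K using Quotient.inductionOn with
        | _ g => exact congrArg ConjClasses.mk (show φ (a * b) g = φ a (φ b g) by rw [map_mul]; rfl) }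
  obtain ⟨θ, hθ⟩ := IsPBlock.nonempty hM hc
  set F : ConjClasses N → Res M := fun K =>
    res M (blockCoeff c (crep K)) * res M (centralChar (θ : N → ℂ) (crep K)) with hF
  have hFinv : ∀ (k : Subgroup.zpowers u) (K : ConjClasses N), F (k • K) = F K := by
    intro k K
    have hrep : IsConj (crep (k • K)) (φ k (crep K)) := by
      rw [← ConjClasses.mk_eq_mk_iff_isConj, mk_crep]
      conv_lhs => rw [← mk_crep K]
      rfl
    have h1 : blockCoeff c (crep (k • K)) = blockCoeff c (crep K) := by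
      rw [← fn_blockElem, (isCentralFn_blockElem c).apply_isConj hrep, fn_blockElem,
        show φ k (crep K) = MulAut.conjNormal (k : G) (crep K) from rfl,
        ← blockCoeff_image (MulAut.conjNormal (k : G) : N ≃* N),
        show irrEquiv (MulAut.conjNormal (k : G) : N ≃* N) '' c = c from hinv _ (huL k.2)]
    have h2 : res M (centralChar (θ : N → ℂ) (crep (k • K))) =
        res M (centralChar (θ : N → ℂ) (crep K)) := by
      rw [centralChar_conj θ hrep,
        show φ k (crep K) = MulAut.conjNormal (k : G) (crep K) from rfl,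
        ← centralChar_comp (MulAut.conjNormal (k : G) : N ≃* N) (θ : N → ℂ) (crep K)]
      refine IsPBlock.res_centralChar_eq hM hc (χ := cjIrr N (k : G) θ) (ψ := θ) ?_ hθ _
      rw [← hinv _ (huL k.2)]
      exact Set.mem_image_of_mem _ hθ
    rw [hF]
    simp only [h1, h2]
  have hsum : ∑ K : ConjClasses N, F K = 1 := by
    have h := omega_eq_sum_classes _ (isClassFunction_irr θ) (isCentralFn_blockElem c)
    rw [omega_blockElem, if_pos hθ] at h
    have h' := congrArg (res M) h
    rw [res_one, res_sum _ _ fun C _ =>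
      mul_mem (integral_blockElem hM hc _) (centralChar_mem_place hM θ _)] at h'
    rw [h']
    refine Finset.sum_congr rfl fun C _ => ?_
    rw [res_mul (integral_blockElem hM hc _) (centralChar_mem_place hM θ _), fn_blockElem]
  rw [sum_eq_sum_fixed huP (fun r => by rw [nsmul_eq_mul, CharP.cast_eq_zero, zero_mul]) F
    hFinv] at hsum
  obtain ⟨K, hK, hKne⟩ := Finset.exists_ne_zero_of_sum_ne_zero
    (hsum ▸ (one_ne_zero : (1 : Res M) ≠ 0))
  have hfix := (Finset.mem_filter.1 hK).2 ⟨u, Subgroup.mem_zpowers u⟩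
  set t := crep K with ht
  have hconj : IsConj (MulAut.conjNormal u t) t := by
    rw [← ConjClasses.mk_eq_mk_iff_isConj, ht, mk_crep]
    conv_rhs => rw [← hfix]
    conv_rhs => rw [← mk_crep K]
    rfl
  obtain ⟨n, hn⟩ := isConj_iff.1 hconj
  set w := (n : G) * u with hw
  have hwt : Commute w (t : G) := by
    have h : (n : G) * (u * (t : G) * u⁻¹) * (n : G)⁻¹ = (t : G) := congrArg Subtype.val hn
    show w * (t : G) = (t : G) * w
    conv_rhs => rw [← h]
    rw [hw]
    group
  have hwL : w ∈ L := L.mul_mem (hNL n.2) (L.pow_mem hyL s)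
  have hwN : w ∉ N := fun h => huN ((N.mul_mem_cancel_left n.2).1 h)
  obtain ⟨s', z', hz', -, hzk', hzreg'⟩ := exists_isPPart hp w
  refine ⟨Subgroup.zpowers (w ^ s'), isPGroup_zpowers hp hzk',
    Subgroup.zpowers_le.2 (L.pow_mem hwL s'), fun h => ?_, fun h0 => ?_⟩
  · have h1 : w ^ s' ∈ N := h (Subgroup.mem_zpowers _)
    refine hwN ?_
    rw [← hz']
    refine N.mul_mem h1 (hreg z' ?_ hzreg')
    have hzw : z' = (w ^ s')⁻¹ * w := by
      conv_rhs => arg 2; rw [← hz']
      rw [inv_mul_cancel_left]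
    rw [hzw]
    exact L.mul_mem (L.inv_mem (L.pow_mem hwL s')) hwL
  · have htC : (t : G) ∈ Subgroup.centralizer ((Subgroup.zpowers (w ^ s') : Subgroup G) : Set G) :=
      Subgroup.mem_centralizer_iff.2 fun x hx => by
        obtain ⟨i, rfl⟩ := Subgroup.mem_zpowers_iff.1 hx
        exact ((hwt.pow_left s').zpow_left i).eq
    have h := congrArg (fun a => fn a (t : G)) h0
    simp only [fn_zero] at h
    rw [br, fn_trunc_mem _ htC, bi, fn_ofFn, subgroupBlockCoeff, dif_pos t.2] at h
    exact left_ne_zero_of_mul hKne h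

/-- **A covering block with defect group inside `N` sees no `p`-part of the stabiliser.** -/
theorem stab_inf_eq (hM : IsPModular p M) {N L : Subgroup G} [N.Normal] [L.Normal] [Fintype N]
    (hNL : N ≤ L) {k : ℕ} (hLN : (N.subgroupOf L).index = p ^ k) {B : Set (IrrCharacter G)}
    (hB : IsPBlock M B) {c : Set (IrrCharacter N)} (hc : IsPBlock M c)
    (hcov : ∃ χ ∈ B, ∃ θ ∈ c, classInner (fun n : N => (χ : G → ℂ) n) (θ : N → ℂ) ≠ 0)
    {D : Subgroup G} (hD : IsDefectGroup p M B D) (hDN : D ≤ N) {T : Subgroup G}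
    (hT : ∀ x : G, x ∈ T ↔ StabilizesBlock N c x) : T ⊓ L = N := by
  classical
  haveI := charP_res hM
  letI := Fintype.ofFinite (T ⊓ L : Subgroup G)
  have hT' : ∀ x, x ∈ T → cjIrr N x '' c = c := fun x hx => by
    have h := (stabilizesBlock_iff_cjIrr hM hc x⁻¹).1 ((hT _).1 (T.inv_mem hx))
    rwa [inv_inv] at h
  have hNT : N ≤ T := fun n hn => (hT n).2 ((stabilizesBlock_iff_cjIrr hM hc n).2 (by
    ext θ
    have h : ∀ θ : IrrCharacter N, cjIrr N n⁻¹ θ = θ := fun θ => Subtype.ext (by
      rw [cjIrr_val]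
      exact conjN_of_mem (isClassFunction_irr θ) ⟨n⁻¹, N.inv_mem hn⟩)
    simp [h]))
  have hNL1 : N ≤ T ⊓ L := le_inf hNT hNL
  have hreg : ∀ g ∈ L, ¬ p ∣ orderOf g → g ∈ N := fun g hg hgp => by
    haveI : (N.subgroupOf L).Normal := Subgroup.normal_subgroupOf
    letI := Fintype.ofFinite L
    have h := mem_of_pRegular_of_index_eq_pow hM.1 (N.subgroupOf L) hLN (g := ⟨g, hg⟩)
      (by rwa [Subgroup.orderOf_mk])
    exact h
  by_contra hne
  obtain ⟨R, hRp, hRL, hRN, hbr⟩ := exists_pElem_br_ne_zero hM (L := T ⊓ L)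
    (fun g hg => hreg g hg.2) hc hNL1 (fun x hx => hT' x hx.1) (Ne.symm hne)
  have hinv : InvOn T (bi M N c) := invOn_iff.2 fun x hx =>
    ((stabilizesBlock_iff hM hc x).1 ((hT x).1 hx)).2
  obtain ⟨E, hE, hEc⟩ := exists_block_overgroup hM hNL1 (fun g hg => hreg g hg.2) hc
    (hinv.mono inf_le_left)
  set e := red M (blockElem B) * bi M N c with he
  set eB := red M (blockElem B) with heB
  have hec : InvOn T eB := (invOn_top_iff.2 (isCentralFn_blockElem B).red).mono le_top
  have hecN : InvOn N eB := hec.mono hNT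
  have hBB : eB * eB = eB := by
    rw [heB, ← red_mul (integral_blockElem hM hB) (integral_blockElem hM hB), blockElem_mul_self]
  have hcomm : bi M N c * eB = eB * bi M N c := (hecN.comm (suppOn_bi c)).symm
  -- `e` is supported on the stabiliser
  have hsupp : SuppOn T e := by
    have hdec : e = ∑ x : G, fn eB x • (bi M N c * MonoidAlgebra.single x 1 * bi M N c) := by
      calc e = bi M N c * eB * bi M N c := by
            rw [hcomm, mul_assoc, bi_mul_self hM hc]
        _ = _ := by
            conv_lhs => rw [eq_sum_single eB, Finset.mul_sum, Finset.sum_mul]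
            refine Finset.sum_congr rfl fun x _ => ?_
            rw [← smul_mul_assoc, ← mul_smul_comm, MonoidAlgebra.smul_single, smul_eq_mul, mul_one]
    rw [hdec]
    refine SuppOn.sum _ fun x _ g hg => ?_
    rw [fn_smul]
    refine mul_eq_zero_of_right _ ?_
    by_cases hx : x ∈ T
    · refine (((suppOn_bi c).mono hNT).mul (?_ : SuppOn T _)).mul ((suppOn_bi c).mono hNT) g hg
      intro y hy
      rw [fn_single, if_neg fun h : x = y => hy (h ▸ hx)]
    · have hxc : bi M N c * MonoidAlgebra.single x 1 * bi M N c =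
          bi M N c * cj x (bi M N c) * MonoidAlgebra.single x 1 := by
        rw [mul_assoc, mul_assoc]
        congr 1
        refine fn_ext fun a => ?_
        rw [fn_single_mul, fn_mul_single, one_mul, mul_one, fn_cj]
        congr 1
        group
      have h0 : bi M N c * cj x (bi M N c) = 0 := by
        have h := bi_cjIrr (M := M) N c x⁻¹
        rw [inv_inv] at h
        rw [← h]
        refine bi_mul_bi hM hc (IsPBlock.image_irrEquiv _ hc) fun h' => hx ?_
        exact (hT x).2 ((stabilizesBlock_iff_cjIrr hM hc x).2 h'.symm)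
      rw [hxc, h0, zero_mul, fn_zero]
  have hTN : ∀ t ∈ T, ∀ n ∈ T ⊓ L, t * n * t⁻¹ ∈ T ⊓ L := fun t ht n hn =>
    ⟨T.mul_mem (T.mul_mem ht hn.1) (T.inv_mem ht), Subgroup.Normal.conj_mem ‹L.Normal› n hn.2 t⟩
  have hne' : br R e ≠ 0 := by
    refine br_ne_zero_of_graded hM inf_le_left hTN hE hRp hRL (by rwa [hEc]) hsupp
      ((hec.mul hinv).mono inf_le_left) ?_ (by rw [hEc, he, mul_assoc, bi_mul_self hM hc])
      (red_mul_bi_ne_zero hM hB hc hcov)
    rw [he, mul_assoc, ← mul_assoc (bi M N c), hcomm, mul_assoc, bi_mul_self hM hc, ← mul_assoc,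
      hBB]
  obtain ⟨x, hx⟩ := exists_le_conj_of_br hM hB hD hRp fun h0 => hne' (by
    rw [he, br_mul hRp (hec.mono (hRL.trans inf_le_left)) (hinv.mono (hRL.trans inf_le_left)),
      h0, zero_mul])
  refine hRN (hx.trans ?_)
  rintro _ ⟨y, hy, rfl⟩
  exact Subgroup.Normal.conj_mem ‹N.Normal› y (hDN hy) x

end Cfsg.Lib.Blocks
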