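import Mathlib
import Cfsg.Agent.Blocks.CoveringDefect
import Cfsg.Agent.Blocks.BrauerHom

/-!
# Blocks and quotient groups
-/

set_option autoImplicit false
set_option linter.unusedSectionVars false

namespace Cfsg.Lib.Blocks

open Cfsg.Lib.Chars
open scoped ComplexConjugate

universe u

variable {G : Type u} [Group G] [Fintype G] {M : Ideal AlgInt} {p : ℕ}

/-- The image of an element of the group algebra in that of the quotient. -/
noncomputable def qmap (N : Subgroup G) [N.Normal] (a : MonoidAlgebra ℂ G) :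
    MonoidAlgebra ℂ (G ⧸ N) := by
  classical
  exact ofFn fun q => ∑ x ∈ Finset.univ.filter (fun x : G => (x : G ⧸ N) = q), fn a x

lemma fn_qmap (N : Subgroup G) [N.Normal] (a : MonoidAlgebra ℂ G) (q : G ⧸ N)
    [DecidableEq (G ⧸ N)] :
    fn (qmap N a) q = ∑ x ∈ Finset.univ.filter (fun x : G => (x : G ⧸ N) = q), fn a x := by
  rw [qmap, fn_ofFn]
  congr 1
  ext x
  simp

lemma integral_qmap (N : Subgroup G) [N.Normal] {a : MonoidAlgebra ℂ G} (ha : Integral M a) :
    Integral M (qmap N a) := fun q => by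
  classical
  rw [fn_qmap]
  exact sum_mem fun x _ => ha x

lemma isCentralFn_qmap (N : Subgroup G) [N.Normal] {a : MonoidAlgebra ℂ G} (ha : IsCentralFn a) :
    IsCentralFn (qmap N a) := fun q r => by
  classical
  obtain ⟨y, rfl⟩ := QuotientGroup.mk_surjective r
  rw [fn_qmap, fn_qmap]
  refine Finset.sum_nbij' (fun x => y⁻¹ * x * y) (fun x => y * x * y⁻¹) ?_ ?_ ?_ ?_ ?_
  · intro x hx
    simp only [Finset.mem_coe, Finset.mem_filter, Finset.mem_univ, true_and] at hx ⊢
    rw [QuotientGroup.mk_mul, QuotientGroup.mk_mul, QuotientGroup.mk_inv, hx]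
    group
  · intro x hx
    simp only [Finset.mem_coe, Finset.mem_filter, Finset.mem_univ, true_and] at hx ⊢
    rw [QuotientGroup.mk_mul, QuotientGroup.mk_mul, QuotientGroup.mk_inv, hx]
  · intro x _; group
  · intro x _; group
  · intro x _
    rw [← ha (y⁻¹ * x * y) y]
    congr 1
    group

lemma omega_qmap (N : Subgroup G) [N.Normal] [Fintype (G ⧸ N)] (φ : G ⧸ N → ℂ)
    (a : MonoidAlgebra ℂ G) :
    omega φ (qmap N a) = omega (fun x : G => φ (x : G ⧸ N)) a := by
  classical
  simp only [omega, chiEval, fn_qmap, QuotientGroup.mk_one, Finset.sum_mul]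
  congr 1
  rw [← Finset.sum_fiberwise Finset.univ (fun x : G => (x : G ⧸ N)) fun x => fn a x * φ (x : G ⧸ N)]
  exact Finset.sum_congr rfl fun q _ => Finset.sum_congr rfl fun x hx => by
    rw [(Finset.mem_filter.1 hx).2]

/-- The inflation of a character of a quotient. -/
noncomputable def inflate (N : Subgroup G) [N.Normal] (φ : IrrCharacter (G ⧸ N)) :
    IrrCharacter G :=
  ⟨(φ : G ⧸ N → ℂ) ∘ QuotientGroup.mk,
    IsIrrCharacter.comp_surjective φ.2 (QuotientGroup.mk' N) (QuotientGroup.mk'_surjective N)⟩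

lemma inflate_val (N : Subgroup G) [N.Normal] (φ : IrrCharacter (G ⧸ N)) (x : G) :
    (inflate N φ : G → ℂ) x = (φ : G ⧸ N → ℂ) (x : G ⧸ N) := rfl

lemma omega_qmap_blockElem (N : Subgroup G) [N.Normal] [Fintype (G ⧸ N)]
    (B : Set (IrrCharacter G)) (φ : IrrCharacter (G ⧸ N)) [Decidable (inflate N φ ∈ B)] :
    omega (φ : G ⧸ N → ℂ) (qmap N (blockElem B)) = if inflate N φ ∈ B then 1 else 0 := by
  rw [omega_qmap, show (fun x : G => (φ : G ⧸ N → ℂ) (x : G ⧸ N)) = (inflate N φ : G → ℂ) from rfl,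
    omega_blockElem]

/-- A `p`-subgroup of the quotient is the image of one of the group. -/
lemma exists_pGroup_map_eq (hp : p.Prime) (N : Subgroup G) [N.Normal] (Dbar : Subgroup (G ⧸ N))
    (hD : IsPGroup p Dbar) :
    ∃ S : Subgroup G, IsPGroup p S ∧ S.map (QuotientGroup.mk' N) = Dbar := by
  haveI := Fact.mk hp
  set J := Dbar.comap (QuotientGroup.mk' N) with hJ
  let f : J →* Dbar := (QuotientGroup.mk' N).subgroupComap Dbar
  have hf : Function.Surjective f := fun ⟨q, hq⟩ => by
    obtain ⟨x, rfl⟩ := QuotientGroup.mk'_surjective N q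
    exact ⟨⟨x, hq⟩, rfl⟩
  let S : Sylow p J := default
  have htop : (S.mapSurjective hf : Subgroup Dbar) = ⊤ :=
    ((S.mapSurjective hf).is_maximal' ((hD.to_subgroup ⊤)) le_top).symm
  refine ⟨(S : Subgroup J).map J.subtype, S.2.map _, ?_⟩
  rw [Sylow.coe_mapSurjective] at htop
  rw [Subgroup.map_map,
    show (QuotientGroup.mk' N).comp J.subtype = Dbar.subtype.comp f from rfl,
    ← Subgroup.map_map, htop, ← MonoidHom.range_eq_map, Subgroup.range_subtype]

/-- **Blocks of a quotient inside a block of the group.** -/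
theorem exists_defect_map_ge (hM : IsPModular p M) (N : Subgroup G) [N.Normal]
    [Fintype (G ⧸ N)] {Bbar : Set (IrrCharacter (G ⧸ N))} (hBbar : IsPBlock M Bbar)
    {B : Set (IrrCharacter G)} (hB : IsPBlock M B) (hsub : ∀ φ ∈ Bbar, inflate N φ ∈ B)
    {Dbar : Subgroup (G ⧸ N)} (hD : IsDefectGroup p M Bbar Dbar) :
    ∃ P : Subgroup G, IsDefectGroup p M B P ∧ Dbar ≤ P.map (QuotientGroup.mk' N) := by
  classical
  haveI := Fact.mk hM.1
  haveI := charP_res hM
  set z := qmap N (blockElem B) with hz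
  have hzc : IsCentralFn z := isCentralFn_qmap N (isCentralFn_blockElem B)
  have hzi : Integral M z := integral_qmap N (integral_blockElem hM hB)
  have hbi := integral_blockElem hM hBbar
  have hmul : z * blockElem Bbar = blockElem Bbar := by
    refine eq_of_omega_eq (hzc.mul (isCentralFn_blockElem _)) (isCentralFn_blockElem _) fun φ => ?_
    rw [omega_mul φ hzc, omega_blockElem]
    split_ifs with h
    · rw [hz, omega_qmap_blockElem, if_pos (hsub φ h), mul_one]
    · rw [mul_zero]
  have hDp := IsDefectGroup.isPGroup hD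
  have hne : br Dbar (red M z) ≠ 0 := fun h0 => br_defectGroup_ne_zero hM hBbar hD (by
    rw [← hmul, red_mul hzi hbi, br_mul hDp ((invOn_top_iff.2 hzc.red).mono le_top)
      ((invOn_top_iff.2 (isCentralFn_blockElem Bbar).red).mono le_top), h0, zero_mul])
  obtain ⟨q, hq⟩ : ∃ q, fn (br Dbar (red M z)) q ≠ 0 := by
    by_contra hc
    push Not at hc
    exact hne (fn_ext fun q => by rw [hc q, fn_zero])
  have hqC : q ∈ Subgroup.centralizer (Dbar : Set (G ⧸ N)) := by
    by_contra h
    exact hq (suppOn_br Dbar _ q h)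
  rw [br, fn_trunc_mem _ hqC, fn_red] at hq
  obtain ⟨S, hSp, hSD⟩ := exists_pGroup_map_eq hM.1 N Dbar hDp
  let α : Type u := {x : G // (x : G ⧸ N) = q}
  have hfix : ∀ s : S, ∀ x : α, (((s : G) * x.1 * (s : G)⁻¹ : G) : G ⧸ N) = q := fun s x => by
    have hs : ((s : G) : G ⧸ N) ∈ Dbar := hSD ▸ Subgroup.mem_map_of_mem _ s.2
    rw [QuotientGroup.mk_mul, QuotientGroup.mk_mul, QuotientGroup.mk_inv, x.2,
      Subgroup.mem_centralizer_iff.1 hqC _ hs, mul_inv_cancel_right]
  letI act : MulAction S α :=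
    { smul := fun s x => ⟨(s : G) * x.1 * (s : G)⁻¹, hfix s x⟩
      one_smul := fun x => Subtype.ext (by
        show ((1 : S) : G) * x.1 * ((1 : S) : G)⁻¹ = x.1
        simp)
      mul_smul := fun a b x => Subtype.ext (by
        show ((a * b : S) : G) * x.1 * ((a * b : S) : G)⁻¹ =
          (a : G) * ((b : G) * x.1 * (b : G)⁻¹) * (a : G)⁻¹
        simp [mul_assoc]) }
  have hsum : res M (fn z q) = ∑ x : α, res M (blockCoeff B x.1) := by
    rw [hz, fn_qmap, res_sum _ _ fun x _ => integral_blockElem hM hB x,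
      Finset.sum_subtype (p := fun x : G => (x : G ⧸ N) = q)
        (Finset.univ.filter fun x : G => (x : G ⧸ N) = q) (fun g => by simp)]
    exact Finset.sum_congr rfl fun x _ => by rw [fn_blockElem]
  rw [hsum, sum_eq_sum_fixed hSp (fun r => by rw [nsmul_eq_mul, CharP.cast_eq_zero, zero_mul])
    (fun x : α => res M (blockCoeff B x.1))
    (fun s x => congrArg (res M) (blockCoeff_conj B x.1 (s : G)))] at hq
  obtain ⟨x, hx, hxne⟩ := Finset.exists_ne_zero_of_sum_ne_zero hq
  have hxC : x.1 ∈ Subgroup.centralizer (S : Set G) := Subgroup.mem_centralizer_iff.2 fun s hs => by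
    have h := congrArg Subtype.val ((Finset.mem_filter.1 hx).2 ⟨s, hs⟩)
    change s * x.1 * s⁻¹ = x.1 at h
    exact (mul_inv_eq_iff_eq_mul.1 h)
  obtain ⟨P, hP⟩ := exists_defectGroup hM hB
  obtain ⟨a, ha⟩ := exists_le_conj_defectGroup hM hB hP hSp hxC
    fun h => hxne ((res_eq_zero_iff (blockCoeff_mem_place hM hB _)).2 h)
  exact ⟨_, IsDefectGroup.conj hM hB hP a, hSD ▸ Subgroup.map_mono ha⟩

lemma eq_one_of_regular_mul (hp : p.Prime) {N : Subgroup G} (hN : IsPGroup p N) {g : G}
    (hgN : g ∈ Subgroup.centralizer (N : Set G)) (hg : ¬ p ∣ orderOf g) {n : G} (hn : n ∈ N)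
    (h : ¬ p ∣ orderOf (g * n)) : n = 1 := by
  have hc : Commute n g := Subgroup.mem_centralizer_iff.1 hgN n hn
  have hpart := isPPart_mul hc (exists_orderOf_eq_of_mem hp hN hn) hg
  rw [hc.eq] at hpart
  exact IsPPart.eq hp hpart ((isPPart_one_iff hp).2 h)

/-- **A block contains a block of the quotient by a normal `p`-subgroup with the same defect
groups.** -/
theorem exists_block_quotient (hM : IsPModular p M) (N : Subgroup G) [N.Normal]
    [Fintype (G ⧸ N)] (hN : IsPGroup p N) {B : Set (IrrCharacter G)} (hB : IsPBlock M B) :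
    ∃ Bbar : Set (IrrCharacter (G ⧸ N)), IsPBlock M Bbar ∧ (∀ φ ∈ Bbar, inflate N φ ∈ B) ∧
      ∀ Dbar : Subgroup (G ⧸ N), IsDefectGroup p M Bbar Dbar ↔
        ∃ P : Subgroup G, IsDefectGroup p M B P ∧ Dbar = P.map (QuotientGroup.mk' N) := by
  classical
  haveI := Fact.mk hM.1
  set f := QuotientGroup.mk' N with hf
  have hfs : Function.Surjective f := QuotientGroup.mk'_surjective N
  obtain ⟨g, hg⟩ := exists_defectClass hM hB
  obtain ⟨hns, hcc⟩ := (isDefectClass_iff hM hB g).1 hg
  have hgreg := not_dvd_orderOf_of_not_small hM hB hns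
  have hgC : g ∈ Subgroup.centralizer (N : Set G) := by
    by_contra h
    rw [blockCoeff_eq_zero_of_not_mem_centralizer hM hN hB h] at hns
    exact hns small_zero
  set z := qmap N (blockElem B) with hz
  have hzc : IsCentralFn z := isCentralFn_qmap N (isCentralFn_blockElem B)
  have hzi : Integral M z := integral_qmap N (integral_blockElem hM hB)
  have hzq : fn z (g : G ⧸ N) = blockCoeff B g := by
    rw [hz, fn_qmap, Finset.sum_eq_single g, fn_blockElem]
    · intro x hx hne
      rw [fn_blockElem]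
      refine blockCoeff_eq_zero_of_singular hM hB ?_
      by_contra hreg
      have hxn : g⁻¹ * x ∈ N := QuotientGroup.eq.1 (Finset.mem_filter.1 hx).2.symm
      have h1 := eq_one_of_regular_mul hM.1 hN hgC hgreg hxn (by rwa [mul_inv_cancel_left])
      exact hne (inv_mul_eq_one.1 h1).symm
    · intro h
      refine absurd ?_ h
      rw [Finset.mem_filter]
      exact ⟨Finset.mem_univ _, rfl⟩
  set S : Finset (Set (IrrCharacter (G ⧸ N))) :=
    (blocksFinset M (G ⧸ N)).filter fun c => ∀ φ ∈ c, inflate N φ ∈ B with hS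
  have hzS : z = ∑ c ∈ S, blockElem c := by
    refine eq_of_omega_eq hzc (IsCentralFn.sum _ _ fun c _ => isCentralFn_blockElem c) fun φ => ?_
    rw [hz, omega_qmap_blockElem, omega_sum, Finset.sum_congr rfl fun c _ => omega_blockElem c φ]
    have hsame : ∀ ψ ∈ blockOf M (φ : G ⧸ N → ℂ), inflate N φ ∈ B → inflate N ψ ∈ B := by
      intro ψ hψ hφ
      have h := res_omega_eq_of_sameBlock hM hψ hzc hzi
      rw [hz, omega_qmap_blockElem, omega_qmap_blockElem, if_pos hφ] at h
      by_contra hc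
      rw [if_neg hc, res_one, res_zero] at h
      exact one_ne_zero h
    by_cases hφ : inflate N φ ∈ B
    · rw [if_pos hφ, Finset.sum_eq_single (blockOf M (φ : G ⧸ N → ℂ)),
        if_pos (mem_blockOf_self hM φ)]
      · exact fun c hc hne => if_neg fun h' => hne
          (IsPBlock.eq_blockOf hM ((mem_blocksFinset hM).1 (Finset.mem_filter.1 hc).1) h')
      · exact fun h' => absurd (Finset.mem_filter.2 ⟨(mem_blocksFinset hM).2 (isPBlock_blockOf φ),
          fun ψ hψ => hsame ψ hψ hφ⟩) h'
    · rw [if_neg hφ]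
      refine (Finset.sum_eq_zero fun c hc => if_neg fun h' => hφ ?_).symm
      have hsub' : ∀ ψ ∈ c, inflate N ψ ∈ B := (Finset.mem_filter.1 hc).2
      exact hsub' φ h'
  obtain ⟨Bbar, hBS, hBq⟩ : ∃ c ∈ S, ¬ Small M (blockCoeff c (g : G ⧸ N)) := by
    by_contra hc
    push Not at hc
    refine hns ?_
    rw [← hzq, hzS, fn_sum]
    exact small_sum _ _ fun c hcS => by rw [fn_blockElem]; exact hc c hcS
  have hBbar : IsPBlock M Bbar := (mem_blocksFinset hM).1 (Finset.mem_filter.1 hBS).1
  have hsub := (Finset.mem_filter.1 hBS).2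
  -- the centraliser of the image
  have hcomap : (Subgroup.centralizer ({f g} : Set (G ⧸ N))).comap f =
      Subgroup.centralizer ({g} : Set G) := by
    ext y
    simp only [Subgroup.mem_comap, Subgroup.mem_centralizer_singleton_iff]
    refine ⟨fun h => ?_, fun h => by rw [← map_mul, ← map_mul, h]⟩
    have h1 : g⁻¹ * (y * g * y⁻¹) ∈ N := by
      rw [← QuotientGroup.eq, QuotientGroup.mk_mul, QuotientGroup.mk_mul, QuotientGroup.mk_inv]
      rw [show ((y : G) : G ⧸ N) * (g : G ⧸ N) = (g : G ⧸ N) * (y : G ⧸ N) from h,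
        mul_inv_cancel_right]
    have h2 := eq_one_of_regular_mul hM.1 hN hgC hgreg h1 (by
      have h0 : orderOf (y * g * y⁻¹) = orderOf g :=
        orderOf_injective (MulAut.conj y).toMonoidHom (MulAut.conj y).injective g
      rw [mul_inv_cancel_left, h0]
      exact hgreg)
    have h3 : y * g * y⁻¹ = g := (inv_mul_eq_one.1 h2).symm
    calc y * g = y * g * y⁻¹ * y := by group
      _ = g * y := by rw [h3]
  have hdc : IsDefectClass M Bbar (g : G ⧸ N) := by
    refine (isDefectClass_iff hM hBbar _).2 ⟨hBq, fun φ hφ h => hcc _ (hsub φ hφ) ?_⟩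
    convert h using 1
    rw [centralChar, centralChar, inflate_val, inflate_val, QuotientGroup.mk_one, ← hcomap,
      Subgroup.index_comap_of_surjective _ hfs]
    rfl
  -- its Sylow subgroups
  set Sy : Sylow p (Subgroup.centralizer ({g} : Set G)) := default with hSy
  let f' : Subgroup.centralizer ({g} : Set G) →* Subgroup.centralizer ({f g} : Set (G ⧸ N)) :=
    (f.subgroupComap _).comp (Subgroup.inclusion hcomap.ge)
  have hf' : Function.Surjective f' := fun ⟨q, hq⟩ => by
    obtain ⟨y, rfl⟩ := hfs q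
    exact ⟨⟨y, hcomap.le hq⟩, rfl⟩
  have hP : IsDefectGroup p M B (centSyl Sy) := ⟨g, hg, Sy, rfl⟩
  have hPbar : IsDefectGroup p M Bbar ((centSyl Sy).map f) := by
    refine ⟨f g, hdc, Sy.mapSurjective hf', ?_⟩
    show (centSyl Sy).map f = centSyl (Sy.mapSurjective hf')
    unfold centSyl
    rw [Sylow.coe_mapSurjective, Subgroup.map_map, Subgroup.map_map]
    rfl
  refine ⟨Bbar, hBbar, hsub, fun Dbar => ⟨fun hD => ?_, ?_⟩⟩
  · obtain ⟨r, hr⟩ := IsDefectGroup.exists_eq_conj hM hBbar hPbar hD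
    obtain ⟨y, rfl⟩ := hfs r
    refine ⟨_, IsDefectGroup.conj hM hB hP y, ?_⟩
    rw [hr]
    conv_rhs => rw [Subgroup.map_map]
    rw [show f.comp (MulAut.conj y).toMonoidHom =
      (MulAut.conj (f y)).toMonoidHom.comp f from MonoidHom.ext fun x => by
        simp [MulAut.conj_apply], ← Subgroup.map_map]
  · rintro ⟨P, hP', rfl⟩
    obtain ⟨y, rfl⟩ := IsDefectGroup.exists_eq_conj hM hB hP hP'
    rw [Subgroup.map_map, show f.comp (MulAut.conj y).toMonoidHom =
      (MulAut.conj (f y)).toMonoidHom.comp f from MonoidHom.ext fun x => by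
        simp [MulAut.conj_apply], ← Subgroup.map_map]
    exact IsDefectGroup.conj hM hBbar hPbar _

/-- A group with `C(O_p) ≤ O_p` has one block. -/
theorem sameBlock_of_self_centralizing (hM : IsPModular p M) {P : Subgroup G} [P.Normal]
    (hP : IsPGroup p P) (hC : Subgroup.centralizer (P : Set G) ≤ P) (χ ψ : IrrCharacter G) :
    SameBlock M (χ : G → ℂ) (ψ : G → ℂ) := by
  classical
  haveI := Fact.mk hM.1
  set B := blockOf M (χ : G → ℂ) with hBdef
  have hB : IsPBlock M B := isPBlock_blockOf χ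
  have he : blockElem B = blockCoeff B 1 • (1 : MonoidAlgebra ℂ G) := fn_ext fun g => by
    rw [fn_blockElem, fn_smul, fn_one]
    by_cases h1 : (1 : G) = g
    · rw [if_pos h1, mul_one, h1]
    · rw [if_neg h1, mul_zero]
      by_contra hne
      have hgC : g ∈ Subgroup.centralizer (P : Set G) := by
        by_contra h
        exact hne (blockCoeff_eq_zero_of_not_mem_centralizer hM hP hB h)
      have hreg : ¬ p ∣ orderOf g := fun h => hne (blockCoeff_eq_zero_of_singular hM hB h)
      refine h1 (Eq.symm ?_)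
      obtain ⟨k, hk⟩ := exists_orderOf_eq_of_mem hM.1 hP (hC hgC)
      rcases k with _ | k
      · exact orderOf_eq_one_iff.1 hk
      · exact absurd (hk ▸ dvd_pow_self p k.succ_ne_zero) hreg
  have h1 := omega_blockElem B χ
  have h2 := omega_blockElem B ψ
  rw [he, omega_smul, omega_one] at h1 h2
  rw [if_pos (mem_blockOf_self hM χ)] at h1
  rw [h1] at h2
  by_contra hc
  rw [if_neg (fun h : ψ ∈ B => hc h)] at h2
  exact one_ne_zero h2

end Cfsg.Lib.Blocks
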