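import Mathlib
import Cfsg.Prelude.Def_Characters
import Cfsg.Agent.Chars.Values
import Cfsg.Agent.Chars.Gallagher
import Cfsg.Agent.Blocks.BrauerInduction

/-!
# Indicators of sections
-/

set_option autoImplicit false
set_option linter.unusedSectionVars false

namespace Cfsg.Lib.Blocks

open scoped ComplexConjugate
open Cfsg.Lib.Chars

universe u

variable {G : Type u} [Group G]

lemma pow_eq_self_of_modEq_one {x : G} {n t : ℕ} (hx : orderOf x ∣ n) (ht : t ≡ 1 [MOD n]) :
    x ^ t = x := by
  conv_rhs => rw [← pow_one x]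
  exact pow_eq_pow_iff_modEq.2 (ht.of_dvd hx)

lemma pow_eq_one_of_modEq_zero {x : G} {m t : ℕ} (hx : orderOf x ∣ m) (ht : t ≡ 0 [MOD m]) :
    x ^ t = 1 :=
  orderOf_dvd_iff_pow_eq_one.1 (hx.trans (Nat.modEq_zero_iff_dvd.1 ht))

/-- In a nilpotent group the projection on a Hall part is a homomorphism. -/
lemma mul_pow_of_isNilpotent [Finite G] [Group.IsNilpotent G] {m n t : ℕ}
    (hG : Nat.card G ∣ m * n) (hcop : Nat.Coprime m n) (ht0 : t ≡ 0 [MOD m])
    (ht1 : t ≡ 1 [MOD n]) (x y : G) : (x * y) ^ t = x ^ t * y ^ t := by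
  obtain ⟨e⟩ := (Group.isNilpotent_of_finite_tfae (G := G)).out 0 4 rfl rfl |>.mp ‹_›
  obtain ⟨a, rfl⟩ := e.surjective x
  obtain ⟨b, rfl⟩ := e.surjective y
  rw [← map_mul, ← map_pow, ← map_pow, ← map_pow, ← map_mul]
  congr 1
  funext p P
  simp only [Pi.mul_apply, Pi.pow_apply]
  haveI : Fact (p : ℕ).Prime := ⟨Nat.prime_of_mem_primeFactors p.2⟩
  obtain ⟨k, hk⟩ := IsPGroup.iff_card.1 P.2
  have hdvd : Nat.card P ∣ m * n := P.toSubgroup.card_subgroup_dvd_card.trans hG
  have hord : ∀ c : P, orderOf c ∣ Nat.card P := fun c => orderOf_dvd_natCard c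
  by_cases hpm : (p : ℕ) ∣ m
  · have hpn : Nat.Coprime (Nat.card P) n := by
      rw [hk]; exact Nat.Coprime.pow_left _ (Nat.Coprime.coprime_dvd_left hpm hcop)
    have h := hpn.dvd_of_dvd_mul_right hdvd
    rw [pow_eq_one_of_modEq_zero ((hord _).trans h) ht0,
      pow_eq_one_of_modEq_zero ((hord _).trans h) ht0,
      pow_eq_one_of_modEq_zero ((hord _).trans h) ht0, mul_one]
  · have hpn : Nat.Coprime (Nat.card P) m := by
      rw [hk]; exact Nat.Coprime.pow_left _ ((Nat.Prime.coprime_iff_not_dvd Fact.out).2 hpm)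
    have h := hpn.dvd_of_dvd_mul_left hdvd
    rw [pow_eq_self_of_modEq_one ((hord _).trans h) ht1,
      pow_eq_self_of_modEq_one ((hord _).trans h) ht1,
      pow_eq_self_of_modEq_one ((hord _).trans h) ht1]

variable [Fintype G]

lemma classInner_generalized_int {θ : G → ℂ} (hθ : IsGeneralizedCharacter G θ) {χ : G → ℂ}
    (hχ : IsCharacter G χ) : ∃ z : ℤ, classInner θ χ = z := by
  obtain ⟨a, b, ha, hb, rfl⟩ := hθ
  obtain ⟨i, hi⟩ := classInner_char_nat ha hχ
  obtain ⟨j, hj⟩ := classInner_char_nat hb hχ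
  exact ⟨(i : ℤ) - j, by rw [classInner_sub_left, hi, hj]; push_cast; rfl⟩

open scoped Classical in
/-- **The indicator of a section, scaled, is an integral combination.** -/
theorem isIntegral_classInner_section {m n t : ℕ} (hmn : Nat.card G = m * n)
    (hcop : Nat.Coprime m n) (ht0 : t ≡ 0 [MOD m]) (ht1 : t ≡ 1 [MOD n]) (g : G)
    {χ : G → ℂ} (hχ : IsCharacter G χ) :
    IsIntegral ℤ (classInner (fun x => if IsConj (x ^ t) g then (n : ℂ) else 0) χ) := by
  classical
  set ϑ : G → ℂ := fun x => if IsConj (x ^ t) g then (n : ℂ) else 0 with hϑ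
  have hcl : IsClassFunction G ϑ := fun a h => by
    have h1 : IsConj ((h * a * h⁻¹) ^ t) (a ^ t) := by
      rw [conj_pow]; exact (isConj_iff.2 ⟨h, rfl⟩).symm
    show (if IsConj ((h * a * h⁻¹) ^ t) g then (n : ℂ) else 0) = if IsConj (a ^ t) g then _ else _
    exact if_congr ⟨fun h2 => h1.symm.trans h2, fun h2 => h1.trans h2⟩ rfl rfl
  have key : ∀ ψ ∈ indSpan (IsElem (G := G)), IsIntegral ℤ (classInner (ϑ * ψ) χ) := by
    intro ψ hψ
    induction hψ using AddSubgroup.closure_induction with
    | mem ψ hh =>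
      obtain ⟨E, θ, ⟨q, hq, hel⟩, hθ, rfl⟩ := hh
      haveI := isNilpotent_of_isElementary hq hel
      rw [indFun_mul_of_classFunction E θ hcl,
        frobenius_reciprocity E _ (isClassFunction_isChar hχ)]
      have hEd : Nat.card E ∣ m * n := hmn ▸ E.card_subgroup_dvd_card
      let f : E →* E := MonoidHom.mk' (fun e => e ^ t) (mul_pow_of_isNilpotent hEd hcop ht0 ht1)
      set V : Subgroup E := f.range with hV
      have hVn : Nat.card V ∣ n := by
        have hcopV : Nat.Coprime (Nat.card V) m := Nat.coprime_of_dvd fun r hr hrV hrm => by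
          haveI := Fact.mk hr
          obtain ⟨⟨v, e, rfl⟩, hv⟩ := exists_prime_orderOf_dvd_card' r hrV
          rw [← Subgroup.orderOf_coe] at hv
          have h1 : (f e) ^ n = 1 := by
            show (e ^ t) ^ n = 1
            rw [← pow_mul]
            refine pow_eq_one_of_modEq_zero (m := m * n)
              ((orderOf_dvd_natCard e).trans hEd) ?_
            simpa using Nat.ModEq.mul_right' n ht0
          exact hr.ne_one (Nat.eq_one_of_dvd_coprimes hcop hrm
            (hv ▸ orderOf_dvd_of_pow_eq_one h1))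
        exact hcopV.dvd_of_dvd_mul_left (V.card_subgroup_dvd_card.trans hEd)
      set h : V → ℂ := fun v => if IsConj ((v : E) : G) g then (n : ℂ) else 0 with hh
      have hhc : IsClassFunction V h := fun a b => by
        have h1 : IsConj (((b * a * b⁻¹ : V) : E) : G) ((a : E) : G) := by
          simp only [Subgroup.coe_mul, Subgroup.coe_inv]
          exact (isConj_iff.2 ⟨_, rfl⟩).symm
        exact if_congr ⟨fun h2 => h1.symm.trans h2, fun h2 => h1.trans h2⟩ rfl rfl
      have ha : ∀ ξ : IrrCharacter V, IsIntegral ℤ (classInner h ξ) := by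
        intro ξ
        obtain ⟨c, hc⟩ := hVn
        rw [classInner_def, Finset.mul_sum]
        refine IsIntegral.sum _ fun v _ => ?_
        rw [hh]
        dsimp only
        split_ifs
        · rw [← mul_assoc, hc, Nat.cast_mul,
            inv_mul_cancel_left₀ (Nat.cast_ne_zero.2 Nat.card_pos.ne'),
            ← IsCharacter.conj_inv (isCharacter_of_irr ξ.2)]
          exact (isIntegral_algebraMap (R := ℤ) (x := (c : ℤ))).mul
            (IsCharacter.isIntegral (isCharacter_of_irr ξ.2) _)
        · rw [zero_mul, mul_zero]; exact isIntegral_zero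
      have hres : (fun x : E => ϑ x) * θ = ∑ ξ : IrrCharacter V,
          classInner h ξ • ((fun x : E => (ξ : V → ℂ) (f.rangeRestrict x)) * θ) := by
        funext x
        rw [Pi.mul_apply, Finset.sum_apply,
          show ϑ (x : G) = h (f.rangeRestrict x) from rfl, classFunction_expand_apply hhc,
          Finset.sum_mul]
        exact Finset.sum_congr rfl fun ξ _ => mul_assoc _ _ _
      rw [hres, classInner_sum_left]
      refine IsIntegral.sum _ fun ξ _ => ?_
      rw [classInner_smul_left]
      obtain ⟨z, hz⟩ := classInner_generalized_int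
        (IsGeneralizedCharacter.mul (IsGeneralizedCharacter.comp_hom
          (IsCharacter.isGeneralized (isCharacter_of_irr ξ.2)) f.rangeRestrict) hθ)
        (IsCharacter.restrict hχ E)
      rw [hz]
      exact (ha ξ).mul isIntegral_algebraMap
    | zero => rw [mul_zero, classInner_zero_left]; exact isIntegral_zero
    | add a b _ _ ha hb => rw [mul_add, classInner_add_left]; exact ha.add hb
    | neg a _ ha => rw [mul_neg, classInner_neg_left]; exact ha.neg
  have h := key _ one_mem_indSpan_isElem
  rwa [show ϑ * (fun _ : G => (1 : ℂ)) = ϑ by funext x; simp] at h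

end Cfsg.Lib.Blocks
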