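import Mathlib
import Cfsg.Agent.Blocks.Quotient
import Cfsg.Agent.Blocks.Defect2
import Cfsg.Agent.Blocks.Orth2
import Cfsg.Agent.Blocks.Columns
import Cfsg.Agent.Chars.DefectZero

/-!
# Blocks of `P C(P)` with defect group `P`

The block has a unique character trivial on `P`; on `x y` with `x ∈ P` and `y` regular every member
is a multiple of `χ(x)` times that character at `y`, and the block has `k(P)` members.
-/

set_option autoImplicit false
set_option linter.unusedSectionVars false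

namespace Cfsg.Lib.Blocks

open Cfsg.Lib.Chars
open scoped ComplexConjugate

universe u

variable {G : Type u} [Group G] [Fintype G] {M : Ideal AlgInt} {p : ℕ}

/-- Two characters of defect zero in the same block are equal. -/
theorem eq_of_sameBlock_defect_zero (hM : IsPModular p M) {φ φ' : IrrCharacter G}
    (h : SameBlock M (φ : G → ℂ) φ')
    (hd : (deg (φ : G → ℂ)).factorization p = (Nat.card G).factorization p)
    (hd' : (deg (φ' : G → ℂ)).factorization p = (Nat.card G).factorization p) : φ = φ' := by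
  classical
  by_contra hne
  set a : MonoidAlgebra ℂ G := ofFn fun q => conj ((φ' : G → ℂ) q) with ha
  have hac : IsCentralFn a := isCentralFn_ofFn fun g x => by rw [isClassFunction_irr φ' g x]
  have hai : Integral M a := fun q => by
    rw [ha, fn_ofFn]
    exact isIntegral_mem_place hM ((IsCharacter.isIntegral (isCharacter_of_irr φ'.2) q).map
      (starRingEnd ℂ).toIntAlgHom)
  have hom : ∀ ψ : IrrCharacter G, omega (ψ : G → ℂ) a =
      (Nat.card G : ℂ) * classInner (ψ : G → ℂ) (φ' : G → ℂ) / (ψ : G → ℂ) 1 := by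
    intro ψ
    rw [omega, classInner_def, ← mul_assoc,
      mul_inv_cancel₀ (Nat.cast_ne_zero.2 Nat.card_pos.ne'), one_mul]
    congr 1
    exact Finset.sum_congr rfl fun q _ => by rw [ha, fn_ofFn, mul_comm]
  have h1 : omega (φ : G → ℂ) a = 0 := by
    rw [hom, classInner_irr_ne hne, mul_zero, zero_div]
  have h2 : IsUnitAt M (omega (φ' : G → ℂ) a) := by
    rw [hom, classInner_irr_self, mul_one, irr_apply_one_eq_deg]
    show (place M).valuation _ = 1
    rw [map_div₀, valuation_natCast_eq_of_factorization hM Nat.card_pos.ne' (deg_irr_pos φ').ne'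
      hd'.symm, div_self]
    exact (Valuation.ne_zero_iff _).2 (Nat.cast_ne_zero.2 (deg_irr_pos φ').ne')
  have h3 := res_omega_eq_of_sameBlock hM h hac hai
  rw [h1, res_zero, eq_comm, res_eq_zero_iff (omega_mem_place hM φ' hac hai)] at h3
  exact h2.not_small h3

variable [Fact p.Prime] {P : Subgroup G} [P.Normal]

lemma regular_mem_centralizer (hP : IsPGroup p P) (hG : P ⊔ Subgroup.centralizer (P : Set G) = ⊤)
    {y : G} (hy : ¬ p ∣ orderOf y) : y ∈ Subgroup.centralizer (P : Set G) := by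
  have hp : p.Prime := Fact.out
  set C := Subgroup.centralizer (P : Set G)
  haveI : C.Normal := Subgroup.normal_centralizer
  have h1 : C.index ∣ Nat.card P := by
    rw [← Subgroup.relIndex_top_right, ← hG, Subgroup.relIndex_sup_right]
    exact Subgroup.relIndex_dvd_card _ _
  obtain ⟨k, hk⟩ := IsPGroup.iff_card.1 hP
  rw [hk] at h1
  obtain ⟨i, -, hi⟩ := (Nat.dvd_prime_pow hp).1 h1
  exact mem_of_pRegular_of_index_eq_pow hp C hi hy

lemma exists_regular_lift (hM : IsPModular p M) {q : G ⧸ P} (hq : ¬ p ∣ orderOf q) :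
    ∃ y : G, ¬ p ∣ orderOf y ∧ (y : G ⧸ P) = q := by
  obtain ⟨g, rfl⟩ := QuotientGroup.mk_surjective q
  obtain ⟨x, y, hxy, hc, ⟨k, hk⟩, hy⟩ := exists_isPPart' hM.1 g
  refine ⟨y, hy, ?_⟩
  have hx1 : (x : G ⧸ P) = 1 := by
    refine orderOf_eq_one_iff.1 (Nat.eq_one_of_dvd_coprimes
      ((hM.1.coprime_iff_not_dvd.2 hq).pow_left k).symm ?_
      (hk ▸ orderOf_map_dvd (QuotientGroup.mk' P) x))
    have hgy : orderOf (y : G ⧸ P) ∣ orderOf y := orderOf_map_dvd (QuotientGroup.mk' P) y
    have e : (x : G ⧸ P) = (g : G ⧸ P) * ((y : G ⧸ P))⁻¹ := by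
      rw [← hxy, QuotientGroup.mk_mul, mul_inv_cancel_right]
    have hcq : Commute (g : G ⧸ P) (y : G ⧸ P) := by
      rw [← hxy]
      exact ((hc.mul_left (Commute.refl y)).map (QuotientGroup.mk' P))
    have h := hcq.inv_right.orderOf_mul_dvd_lcm
    rw [← e, orderOf_inv] at h
    have hdx : orderOf (x : G ⧸ P) ∣ orderOf (g : G ⧸ P) * orderOf y :=
      h.trans (Nat.lcm_dvd (dvd_mul_right _ _) (hgy.trans (dvd_mul_left _ _)))
    have hco : Nat.Coprime (orderOf (x : G ⧸ P)) (orderOf y) := by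
      refine Nat.Coprime.of_dvd_left (hk ▸ orderOf_map_dvd (QuotientGroup.mk' P) x) ?_
      exact ((hM.1.coprime_iff_not_dvd.2 hy).pow_left k)
    exact hco.dvd_of_dvd_mul_right hdx
  rw [← hxy, QuotientGroup.mk_mul, hx1, one_mul]

lemma regular_of_quotient (hM : IsPModular p M) {y : G} (hy : ¬ p ∣ orderOf y) :
    ¬ p ∣ orderOf (y : G ⧸ P) :=
  fun h => hy (h.trans (orderOf_map_dvd (QuotientGroup.mk' P) y))

lemma regular_unique' (hP : IsPGroup p P)
    (hreg : ∀ z : G, ¬ p ∣ orderOf z → z ∈ Subgroup.centralizer (P : Set G))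
    {y y' : G} (hy : ¬ p ∣ orderOf y) (hy' : ¬ p ∣ orderOf y')
    (h : (y : G ⧸ P) = (y' : G ⧸ P)) : y = y' := by
  have h1 : y⁻¹ * y' ∈ P := QuotientGroup.eq.1 h
  have h2 := eq_one_of_regular_mul (Fact.out : p.Prime) hP (hreg y hy) hy h1
    (by rwa [mul_inv_cancel_left])
  exact inv_mul_eq_one.1 h2

lemma regular_unique (hP : IsPGroup p P) (hG : P ⊔ Subgroup.centralizer (P : Set G) = ⊤)
    {y y' : G} (hy : ¬ p ∣ orderOf y) (hy' : ¬ p ∣ orderOf y')
    (h : (y : G ⧸ P) = (y' : G ⧸ P)) : y = y' :=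
  regular_unique' hP (fun _ hz => regular_mem_centralizer hP hG hz) hy hy' h

/-- Inflation from `G ⧸ P` reflects blocks. -/
lemma sameBlock_of_inflate (hM : IsPModular p M) (hP : IsPGroup p P)
    (hreg : ∀ z : G, ¬ p ∣ orderOf z → z ∈ Subgroup.centralizer (P : Set G)) {φ φ' : IrrCharacter (G ⧸ P)}
    (h : SameBlock M (inflate P φ : G → ℂ) (inflate P φ')) :
    φ' ∈ blockOf M (φ : G ⧸ P → ℂ) := by
  classical
  haveI : Fintype (G ⧸ P) := Fintype.ofFinite _
  set B' := blockOf M (φ : G ⧸ P → ℂ) with hB'def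
  have hB' : IsPBlock M B' := isPBlock_blockOf φ
  set a : MonoidAlgebra ℂ G :=
    ofFn fun x => if p ∣ orderOf x then 0 else blockCoeff B' (x : G ⧸ P) with ha
  have hac : IsCentralFn a := isCentralFn_ofFn fun g x => by
    rw [show orderOf (x * g * x⁻¹) = orderOf g from
      orderOf_injective (MulAut.conj x).toMonoidHom (MulAut.conj x).injective g]
    split_ifs with hdiv
    · rfl
    · rw [QuotientGroup.mk_mul, QuotientGroup.mk_mul, QuotientGroup.mk_inv, blockCoeff_conj]
  have hai : Integral M a := fun x => by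
    rw [ha, fn_ofFn]
    by_cases hdiv : p ∣ orderOf x
    · simp [hdiv, zero_mem]
    · simp [hdiv, blockCoeff_mem_place hM hB' (x : G ⧸ P)]
  have hq : qmap P a = blockElem B' := fn_ext fun q => by
    rw [fn_qmap, fn_blockElem]
    by_cases hq : p ∣ orderOf q
    · rw [blockCoeff_eq_zero_of_singular hM hB' hq]
      refine Finset.sum_eq_zero fun x hx => ?_
      rw [ha, fn_ofFn]
      refine if_pos (hq.trans ?_)
      rw [← (Finset.mem_filter.1 hx).2]
      exact orderOf_map_dvd (QuotientGroup.mk' P) x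
    · obtain ⟨y, hy, rfl⟩ := exists_regular_lift (P := P) hM hq
      rw [Finset.sum_eq_single y]
      · rw [ha, fn_ofFn]; exact if_neg hy
      · intro x hx hne
        rw [ha, fn_ofFn]
        refine if_pos ?_
        by_contra hx'
        exact hne (regular_unique' hP hreg hx' hy (Finset.mem_filter.1 hx).2)
      · intro h'
        exact (h' (Finset.mem_filter.2 ⟨Finset.mem_univ _, rfl⟩)).elim
  have h1 := res_omega_eq_of_sameBlock hM h hac hai
  have e : ∀ ψ : IrrCharacter (G ⧸ P), omega (inflate P ψ : G → ℂ) a =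
      omega (ψ : G ⧸ P → ℂ) (blockElem B') := fun ψ => by
    rw [← hq, omega_qmap]; rfl
  rw [e, e, omega_blockElem, omega_blockElem, if_pos (mem_blockOf_self hM φ)] at h1
  by_contra hn
  rw [if_neg hn, res_one, res_zero] at h1
  exact one_ne_zero h1

/-- Inflation preserves blocks. -/
lemma sameBlock_inflate (hM : IsPModular p M) [Fintype (G ⧸ P)] {φ φ' : IrrCharacter (G ⧸ P)}
    (h : SameBlock M (φ : G ⧸ P → ℂ) φ') :
    SameBlock M (inflate P φ : G → ℂ) (inflate P φ') := by
  classical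
  refine (sameBlock_iff_res hM _ _).2 fun g => ?_
  rw [← omega_cls_irr, ← omega_cls_irr]
  have e : ∀ ψ : IrrCharacter (G ⧸ P), omega (inflate P ψ : G → ℂ) (cls ℂ g) =
      omega (ψ : G ⧸ P → ℂ) (qmap P (cls ℂ g)) := fun ψ => by rw [omega_qmap]; rfl
  rw [e, e]
  exact res_omega_eq_of_sameBlock hM h (isCentralFn_qmap P (isCentralFn_cls g))
    (integral_qmap P (integral_cls g))

/-- The values at `x y` with `x ∈ P`, `y` regular. -/
lemma apply_mul_regular (hP : IsPGroup p P) (hG : P ⊔ Subgroup.centralizer (P : Set G) = ⊤)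
    (χ : IrrCharacter G) {x y : G} (hx : x ∈ P) (hy : ¬ p ∣ orderOf y) :
    (χ : G → ℂ) (x * y) = (χ : G → ℂ) x / (χ : G → ℂ) 1 * (χ : G → ℂ) y := by
  classical
  have hyc := regular_mem_centralizer hP hG hy
  set S := Finset.univ.filter fun z : G => IsConj x z
  have hconst : ∀ z ∈ S, (χ : G → ℂ) (z * y) = (χ : G → ℂ) (x * y) := by
    intro z hz
    obtain ⟨a, rfl⟩ := isConj_iff.1 (Finset.mem_filter.1 hz).2
    obtain ⟨r, hr, c, hc, rfl⟩ :=
      Subgroup.mem_sup_of_normal_left.1 (show a ∈ P ⊔ Subgroup.centralizer (P : Set G) by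
        rw [hG]; exact Subgroup.mem_top _)
    have hcx : c * x = x * c := (Subgroup.mem_centralizer_iff.1 hc x hx).symm
    have hry : r * y = y * r := Subgroup.mem_centralizer_iff.1 hyc r hr
    have e1 : r * c * x * (r * c)⁻¹ = r * x * r⁻¹ := by
      rw [mul_inv_rev, show r * c * x * (c⁻¹ * r⁻¹) = r * (c * x) * c⁻¹ * r⁻¹ by group, hcx]
      group
    rw [e1, ← isClassFunction_irr χ (x * y) r]
    refine congrArg (χ : G → ℂ) ?_
    calc r * x * r⁻¹ * y = r * x * r⁻¹ * (y * r) * r⁻¹ := by group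
      _ = r * x * r⁻¹ * (r * y) * r⁻¹ := by rw [hry]
      _ = r * (x * y) * r⁻¹ := by group
  have h := chiEval_central_mul χ (isCentralFn_cls (R := ℂ) x) (MonoidAlgebra.single y 1)
  rw [omega_cls_irr, chiEval_single, one_mul] at h
  have hL : chiEval (χ : G → ℂ) (cls ℂ x * MonoidAlgebra.single y 1) =
      (S.card : ℂ) * (χ : G → ℂ) (x * y) := by
    rw [← nsmul_eq_mul, ← Finset.sum_const, chiEval, ← Equiv.sum_comp (Equiv.mulRight y)]
    rw [Finset.sum_filter]
    refine Finset.sum_congr rfl fun z _ => ?_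
    rw [Equiv.coe_mulRight, fn_mul_single, mul_inv_cancel_right, mul_one, fn_cls]
    by_cases hz : IsConj x z
    · rw [if_pos hz, if_pos hz, one_mul, hconst z (Finset.mem_filter.2 ⟨Finset.mem_univ _, hz⟩)]
    · rw [if_neg hz, if_neg hz, zero_mul]
  have hS : (S.card : ℂ) = ((Subgroup.centralizer ({x} : Set G)).index : ℂ) := by
    rw [← card_isConj, Nat.card_eq_fintype_card, Fintype.card_subtype]
  have hS0 : (S.card : ℂ) ≠ 0 := Nat.cast_ne_zero.2
    (Finset.card_ne_zero.2 ⟨x, Finset.mem_filter.2 ⟨Finset.mem_univ _, IsConj.refl x⟩⟩)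
  rw [hL, centralChar, ← hS] at h
  refine mul_left_cancel₀ hS0 (h.trans ?_)
  ring

variable {B : Set (IrrCharacter G)}

lemma defectGroup_eq_normal (hM : IsPModular p M) (hB : IsPBlock M B)
    (hD : IsDefectGroup p M B P) {D : Subgroup G} (hD' : IsDefectGroup p M B D) : D = P := by
  obtain ⟨a, ha⟩ := IsDefectGroup.exists_eq_conj hM hB hD hD'
  rw [ha]
  ext g
  rw [Subgroup.mem_map]
  constructor
  · rintro ⟨y, hy, rfl⟩
    exact ‹P.Normal›.conj_mem y hy a
  · intro hg
    exact ⟨a⁻¹ * g * a, by simpa using ‹P.Normal›.conj_mem g hg a⁻¹, by simp [mul_assoc]⟩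

/-- The canonical character. -/
theorem exists_canonical (hM : IsPModular p M) (hP : IsPGroup p P)
    (hG : P ⊔ Subgroup.centralizer (P : Set G) = ⊤) (hB : IsPBlock M B)
    (hD : IsDefectGroup p M B P) :
    ∃ φ : IrrCharacter (G ⧸ P), inflate P φ ∈ B ∧
      (deg (φ : G ⧸ P → ℂ)).factorization p = (Nat.card (G ⧸ P)).factorization p ∧
      ∀ φ' : IrrCharacter (G ⧸ P), inflate P φ' ∈ B → φ' = φ := by
  classical
  haveI : Fintype (G ⧸ P) := Fintype.ofFinite _
  obtain ⟨Bbar, hBb, hsub, hdef⟩ := exists_block_quotient hM P hP hB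
  have hbot : IsDefectGroup p M Bbar (⊥ : Subgroup (G ⧸ P)) := (hdef ⊥).2 ⟨P, hD, by
    rw [eq_comm, Subgroup.map_eq_bot_iff, QuotientGroup.ker_mk']⟩
  obtain ⟨φ, hφ⟩ := IsPBlock.nonempty hM hBb
  have hfull : ∀ φ' ∈ Bbar, (deg ((φ' : IrrCharacter (G ⧸ P)) : G ⧸ P → ℂ)).factorization p =
      (Nat.card (G ⧸ P)).factorization p := by
    intro φ' hφ'
    obtain ⟨g, hg, S, hS⟩ := hbot
    have hc := card_centSyl S
    rw [show centSyl S = (⊥ : Subgroup (G ⧸ P)) from hS.symm, Subgroup.card_bot] at hc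
    have hc0 : (Nat.card (Subgroup.centralizer ({g} : Set (G ⧸ P)))).factorization p = 0 :=
      (Nat.pow_eq_one.1 hc.symm).resolve_left hM.1.one_lt.ne'
    have h1 := (degree_bounds hM hBb hg).1 φ' hφ'
    have h2 := congrArg (fun n : ℕ => n.factorization p)
      (Subgroup.card_mul_index (Subgroup.centralizer ({g} : Set (G ⧸ P))))
    simp only [Nat.factorization_mul Nat.card_pos.ne' Subgroup.index_ne_zero_of_finite,
      Finsupp.add_apply, hc0, zero_add] at h2
    exact le_antisymm ((Nat.factorization_le_iff_dvd (deg_irr_pos φ').ne' Nat.card_pos.ne').2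
      (IsIrrCharacter.deg_dvd φ'.2) p) (h2 ▸ h1)
  refine ⟨φ, hsub φ hφ, hfull φ hφ, fun φ' hφ' => ?_⟩
  have hmem : φ' ∈ Bbar := by
    rw [IsPBlock.eq_blockOf hM hBb hφ]
    exact sameBlock_of_inflate hM hP (fun _ hz => regular_mem_centralizer hP hG hz) (IsPBlock.sameBlock hM hB (hsub φ hφ) hφ')
  exact (eq_of_sameBlock_defect_zero hM (IsPBlock.sameBlock hM hBb hφ hmem) (hfull φ hφ)
    (hfull φ' hmem)).symm

/-- On regular elements every member is a multiple of the canonical character. -/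
theorem apply_regular_eq (hM : IsPModular p M) (hP : IsPGroup p P)
    (hG : P ⊔ Subgroup.centralizer (P : Set G) = ⊤) (hB : IsPBlock M B)
    {φ : IrrCharacter (G ⧸ P)}
    (huniq : ∀ φ' : IrrCharacter (G ⧸ P), inflate P φ' ∈ B → φ' = φ)
    {χ : IrrCharacter G} (hχ : χ ∈ B) {y : G} (hy : ¬ p ∣ orderOf y) :
    (χ : G → ℂ) y = (χ : G → ℂ) 1 / (φ : G ⧸ P → ℂ) 1 * (φ : G ⧸ P → ℂ) (y : G ⧸ P) := by
  classical
  haveI : Fintype (G ⧸ P) := Fintype.ofFinite _
  let h : G ⧸ P → ℂ := fun q => ∑ x ∈ Finset.univ.filter (fun x : G => (x : G ⧸ P) = q),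
    pRegularPart p (χ : G → ℂ) x
  have hval : ∀ z : G, ¬ p ∣ orderOf z → h (z : G ⧸ P) = (χ : G → ℂ) z := fun z hz => by
    show ∑ x ∈ _, _ = _
    rw [Finset.sum_eq_single z]
    · rw [pRegularPart_apply, if_neg hz]
    · intro x hx hne
      rw [pRegularPart_apply, if_pos]
      by_contra hx'
      exact hne (regular_unique hP hG hx' hz (Finset.mem_filter.1 hx).2)
    · intro h'
      exact (h' (Finset.mem_filter.2 ⟨Finset.mem_univ _, rfl⟩)).elim
  have hcls : IsClassFunction (G ⧸ P) h := by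
    intro q r
    obtain ⟨a, rfl⟩ := QuotientGroup.mk_surjective r
    refine Finset.sum_equiv (MulAut.conj a⁻¹).toEquiv (fun x => ?_) (fun x _ => ?_)
    · simp only [Finset.mem_filter, Finset.mem_univ, true_and, MulEquiv.toEquiv_eq_coe,
        MulEquiv.coe_toEquiv, MulAut.conj_apply, inv_inv, QuotientGroup.mk_mul, QuotientGroup.mk_inv]
      constructor
      · intro e; rw [e]; group
      · intro e; rw [← e]; group
    · simp only [MulEquiv.toEquiv_eq_coe, MulEquiv.coe_toEquiv, MulAut.conj_apply]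
      rw [pRegularPart_apply, pRegularPart_apply, isClassFunction_irr χ x a⁻¹,
        show orderOf (a⁻¹ * x * a⁻¹⁻¹) = orderOf x from
          orderOf_injective (MulAut.conj a⁻¹).toMonoidHom (MulAut.conj a⁻¹).injective x]
  have hzero : ∀ φ' : IrrCharacter (G ⧸ P), φ' ≠ φ → classInner h (φ' : G ⧸ P → ℂ) = 0 := by
    intro φ' hne
    have h1 : ∑ q, h q * conj ((φ' : G ⧸ P → ℂ) q) =
        ∑ x : G, pRegularPart p (χ : G → ℂ) x * conj ((inflate P φ' : G → ℂ) x) := by
      rw [← Finset.sum_fiberwise Finset.univ (fun x : G => (x : G ⧸ P))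
        fun x => pRegularPart p (χ : G → ℂ) x * conj ((inflate P φ' : G → ℂ) x)]
      refine Finset.sum_congr rfl fun q _ => ?_
      rw [Finset.sum_mul]
      exact Finset.sum_congr rfl fun x hx => by rw [inflate_val, (Finset.mem_filter.1 hx).2]
    have h2 := classInner_pRegularPart_eq_zero hM hB hχ (ψ := inflate P φ')
      (fun hmem => hne (huniq φ' hmem))
    rw [classInner_def, mul_eq_zero, inv_eq_zero, Nat.cast_eq_zero, or_iff_right Nat.card_pos.ne'] at h2
    rw [classInner_def, h1, h2, mul_zero]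
  have hexp : ∀ q, h q = classInner h (φ : G ⧸ P → ℂ) * (φ : G ⧸ P → ℂ) q := fun q => by
    rw [classFunction_expand_apply hcls q, Finset.sum_eq_single φ]
    · intro φ' _ hne; rw [hzero φ' hne, zero_mul]
    · exact fun h' => absurd (Finset.mem_univ _) h'
  have e1 := (hval 1 (by rw [orderOf_one]; exact hM.1.not_dvd_one)).symm.trans (hexp _)
  have e2 := (hval y hy).symm.trans (hexp _)
  rw [QuotientGroup.mk_one] at e1
  rw [e2, e1, mul_div_cancel_right₀ _ (IsIrrCharacter.apply_one_ne_zero φ.2)]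

/-- The values of the members. -/
theorem apply_eq_canonical (hM : IsPModular p M) (hP : IsPGroup p P)
    (hG : P ⊔ Subgroup.centralizer (P : Set G) = ⊤) (hB : IsPBlock M B)
    {φ : IrrCharacter (G ⧸ P)}
    (huniq : ∀ φ' : IrrCharacter (G ⧸ P), inflate P φ' ∈ B → φ' = φ)
    {χ : IrrCharacter G} (hχ : χ ∈ B) {x y : G} (hx : x ∈ P) (hy : ¬ p ∣ orderOf y) :
    (χ : G → ℂ) (x * y) = (χ : G → ℂ) x / (φ : G ⧸ P → ℂ) 1 * (φ : G ⧸ P → ℂ) (y : G ⧸ P) := by
  rw [apply_mul_regular hP hG χ hx hy, apply_regular_eq hM hP hG hB huniq hχ hy]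
  have := IsIrrCharacter.apply_one_ne_zero χ.2
  field_simp

/-- **The block has `k(P)` members.** -/
theorem card_block_eq_card_classes (hM : IsPModular p M) (hP : IsPGroup p P)
    (hG : P ⊔ Subgroup.centralizer (P : Set G) = ⊤) (hB : IsPBlock M B)
    (hD : IsDefectGroup p M B P) : Nat.card B = Nat.card (ConjClasses P) := by
  classical
  obtain ⟨φ, hφB, -, huniq⟩ := exists_canonical hM hP hG hB hD
  set θ := inflate P φ with hθ
  have hθval : ∀ {x y : G}, x ∈ P → (θ : G → ℂ) (x * y) = (θ : G → ℂ) y := fun {x y} hx => by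
    rw [hθ, inflate_val, inflate_val, QuotientGroup.mk_mul, (QuotientGroup.eq_one_iff x).2 hx, one_mul]
  have hθ1 : (θ : G → ℂ) 1 = (φ : G ⧸ P → ℂ) 1 := by rw [hθ, inflate_val, QuotientGroup.mk_one]
  have hφ0 := IsIrrCharacter.apply_one_ne_zero φ.2
  letI : Fintype (ConjClasses P) := Fintype.ofFinite _
  letI : Fintype B := Fintype.ofFinite B
  let u : ConjClasses P → G := fun c => ((crep c : P) : G)
  let L : (B → ℂ) →ₗ[ℂ] (ConjClasses P → ℂ) :=
    { toFun := fun a c => ∑ χ : B, a χ * ((χ : IrrCharacter G) : G → ℂ) (u c)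
      map_add' := fun a b => funext fun c => by
        simp [add_mul, Finset.sum_add_distrib]
      map_smul' := fun r a => funext fun c => by
        simp [Finset.mul_sum, mul_assoc] }
  have hinj : Function.Injective L := by
    rw [← LinearMap.ker_eq_bot, LinearMap.ker_eq_bot']
    intro a ha
    have hP0 : ∀ x ∈ P, ∑ χ : B, a χ * ((χ : IrrCharacter G) : G → ℂ) x = 0 := by
      intro x hx
      have hc := congrFun ha (ConjClasses.mk ⟨x, hx⟩)
      obtain ⟨r, hr⟩ := isConj_iff.1 (isConj_crep_mk (⟨x, hx⟩ : P))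
      have hr' : (r : G) * u (ConjClasses.mk ⟨x, hx⟩) * (r : G)⁻¹ = x := congrArg Subtype.val hr
      refine Eq.trans (Finset.sum_congr rfl fun (χ : B) _ => ?_) hc
      exact congrArg (a χ * ·) ((congrArg ((χ : IrrCharacter G) : G → ℂ) hr').symm.trans
        (isClassFunction_irr (χ : IrrCharacter G) _ _))
    have hall : ∀ g : G, ∑ χ : B, a χ * ((χ : IrrCharacter G) : G → ℂ) g = 0 := by
      intro g
      obtain ⟨x, y, hxy, hc, hpow, hy⟩ := exists_isPPart' hM.1 g
      by_cases hx : x ∈ P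
      · subst hxy
        rw [Finset.sum_congr rfl fun (χ : B) _ => by
          rw [apply_eq_canonical hM hP hG hB huniq χ.2 hx hy, ← mul_assoc, ← mul_div_assoc]]
        rw [← Finset.sum_mul, ← Finset.sum_div, hP0 x hx, zero_div, zero_mul]
      · refine Finset.sum_eq_zero fun χ _ => ?_
        rw [apply_eq_zero_of_forall_not_mem hM hB χ.2 ⟨y, hxy, hc, hpow, hy⟩ (fun D hD' => by
          rw [defectGroup_eq_normal hM hB hD hD']; exact hx), mul_zero]
    have hli := (linearIndependent_irr (G := G)).comp (fun χ : B => (χ : IrrCharacter G))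
      Subtype.val_injective
    exact funext fun χ => Fintype.linearIndependent_iff.1 hli a (funext fun g => by
      simpa [Finset.sum_apply] using hall g) χ
  have hsurj : Function.Surjective L := by
    rw [← LinearMap.range_eq_top, eq_top_iff]
    rintro F -
    rw [show F = ∑ c, F c • Pi.single c (1 : ℂ) by
      funext d; simp [Finset.sum_apply, Pi.single_apply]]
    refine sum_mem fun c _ => Submodule.smul_mem _ _ ?_
    let T : Finset G := Finset.univ.filter fun z => IsConj (u c) z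
    have hTP : ∀ z ∈ T, z ∈ P := fun z hz => by
      obtain ⟨a, rfl⟩ := isConj_iff.1 (Finset.mem_filter.1 hz).2
      exact ‹P.Normal›.conj_mem _ (crep c).2 a
    let f : G → ℂ := fun g => ∑ z ∈ T, pRegularPart p (θ : G → ℂ) (z⁻¹ * g)
    have hfc : IsClassFunction G f := by
      intro g a
      refine Finset.sum_equiv (MulAut.conj a⁻¹).toEquiv (fun z => ?_) (fun z _ => ?_)
      · simp only [T, Finset.mem_filter, Finset.mem_univ, true_and, MulEquiv.toEquiv_eq_coe,
          MulEquiv.coe_toEquiv]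
        exact ⟨fun h => h.trans (isConj_iff.2 ⟨a⁻¹, rfl⟩),
          fun h => h.trans (isConj_iff.2 ⟨a, by simp [mul_assoc]⟩)⟩
      · simp only [MulEquiv.toEquiv_eq_coe, MulEquiv.coe_toEquiv, MulAut.conj_apply]
        rw [pRegularPart_apply, pRegularPart_apply,
          show (a⁻¹ * z * a⁻¹⁻¹)⁻¹ * g = a⁻¹ * (z⁻¹ * (a * g * a⁻¹)) * a⁻¹⁻¹ by group,
          isClassFunction_irr θ, show orderOf (a⁻¹ * (z⁻¹ * (a * g * a⁻¹)) * a⁻¹⁻¹) =
            orderOf (z⁻¹ * (a * g * a⁻¹)) from
          orderOf_injective (MulAut.conj a⁻¹).toMonoidHom (MulAut.conj a⁻¹).injective _]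
    have hout : ∀ ψ : IrrCharacter G, ψ ∉ B → classInner f (ψ : G → ℂ) = 0 := by
      intro ψ hψ
      have h2 := classInner_pRegularPart_eq_zero hM hB hφB hψ
      rw [classInner_def, mul_eq_zero, inv_eq_zero, Nat.cast_eq_zero, or_iff_right Nat.card_pos.ne'] at h2
      rw [classInner_def]
      simp only [f, Finset.sum_mul]
      rw [Finset.sum_comm, Finset.sum_eq_zero fun z hz => ?_, mul_zero]
      rw [← Equiv.sum_comp (Equiv.mulLeft z)]
      have : ∀ y : G, pRegularPart p (θ : G → ℂ) (z⁻¹ * (Equiv.mulLeft z y)) *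
          conj ((ψ : G → ℂ) (Equiv.mulLeft z y)) = conj ((ψ : G → ℂ) z / (ψ : G → ℂ) 1) *
            (pRegularPart p (θ : G → ℂ) y * conj ((ψ : G → ℂ) y)) := fun y => by
        rw [Equiv.coe_mulLeft, inv_mul_cancel_left]
        by_cases hy : p ∣ orderOf y
        · rw [pRegularPart_apply, if_pos hy, zero_mul, zero_mul, mul_zero]
        · rw [apply_mul_regular hP hG ψ (hTP z hz) hy, map_mul]; ring
      rw [Finset.sum_congr rfl fun y _ => this y, ← Finset.mul_sum, h2, mul_zero]
    refine ⟨fun χ : B => classInner f ((χ : IrrCharacter G) : G → ℂ) / (φ : G ⧸ P → ℂ) 1, ?_⟩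
    funext d
    show ∑ χ : B, _ / _ * _ = _
    have hsum : ∑ χ : B, classInner f ((χ : IrrCharacter G) : G → ℂ) *
        ((χ : IrrCharacter G) : G → ℂ) (u d) = f (u d) := by
      rw [classFunction_expand_apply hfc (u d), ← Finset.sum_subtype
        (Finset.univ.filter (· ∈ B)) (fun χ => by simp)
        (fun χ : IrrCharacter G => classInner f (χ : G → ℂ) * (χ : G → ℂ) (u d))]
      refine Finset.sum_subset (Finset.subset_univ _) fun χ _ hχ => ?_
      rw [hout χ (fun h => hχ (Finset.mem_filter.2 ⟨Finset.mem_univ _, h⟩)), zero_mul]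
    simp only [div_mul_eq_mul_div, ← Finset.sum_div]
    rw [hsum]
    have hfd : ∀ z ∈ T, pRegularPart p (θ : G → ℂ) (z⁻¹ * u d) =
        if z = u d then (θ : G → ℂ) 1 else 0 := by
      intro z hz
      by_cases hzd : z = u d
      · rw [if_pos hzd, hzd, inv_mul_cancel, pRegularPart_apply,
          if_neg (by rw [orderOf_one]; exact hM.1.not_dvd_one)]
      · rw [if_neg hzd, pRegularPart_apply, if_pos]
        obtain ⟨k, hk⟩ := exists_orderOf_eq_of_mem hM.1 hP (mul_mem (inv_mem (hTP z hz)) (crep d).2)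
        have hk0 : k ≠ 0 := fun h0 => hzd (inv_mul_eq_one.1 (orderOf_eq_one_iff.1 (by
          rw [hk, h0, pow_zero])))
        rw [hk]; exact dvd_pow_self p hk0
    rw [show f (u d) = _ from Finset.sum_congr rfl hfd, Finset.sum_ite_eq']
    have hiff : u d ∈ T ↔ d = c := by
      constructor
      · intro h
        obtain ⟨a, ha⟩ := isConj_iff.1 (Finset.mem_filter.1 h).2
        obtain ⟨r, hr, s, hs, rfl⟩ :=
          Subgroup.mem_sup_of_normal_left.1 (show a ∈ P ⊔ Subgroup.centralizer (P : Set G) by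
            rw [hG]; exact Subgroup.mem_top _)
        have hsx : s * u c = u c * s := (Subgroup.mem_centralizer_iff.1 hs _ (crep c).2).symm
        rw [← mk_crep d, ← mk_crep c, eq_comm, ConjClasses.mk_eq_mk_iff_isConj]
        refine isConj_iff.2 ⟨⟨r, hr⟩, Subtype.ext ?_⟩
        show r * u c * r⁻¹ = u d
        rw [← ha, mul_inv_rev, show r * s * u c * (s⁻¹ * r⁻¹) = r * (s * u c) * s⁻¹ * r⁻¹ by group, hsx]
        group
      · rintro rfl
        exact Finset.mem_filter.2 ⟨Finset.mem_univ _, IsConj.refl _⟩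
    rw [Pi.single_apply]
    by_cases hdc : d = c
    · rw [if_pos hdc, if_pos (hiff.2 hdc), hθ1, div_self hφ0]
    · rw [if_neg hdc, if_neg (fun h => hdc (hiff.1 h)), zero_div]
  have e := (LinearEquiv.ofBijective L ⟨hinj, hsurj⟩).finrank_eq
  rw [Module.finrank_fintype_fun_eq_card, Module.finrank_fintype_fun_eq_card] at e
  rw [Nat.card_eq_fintype_card, Nat.card_eq_fintype_card, e]

end Cfsg.Lib.Blocks
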