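import Mathlib
import Cfsg.Prelude.Def_Blocks
import Cfsg.Agent.Blocks.Columns
import Cfsg.Agent.Blocks.CanonicalCharacter
import Cfsg.Agent.Blocks.CentralDefect
import Cfsg.Agent.Blocks.PiSection
import Cfsg.Agent.Blocks.BrauerInduction

/-!
# The principal 2-block modulo a central subgroup of order two
-/

set_option autoImplicit false
set_option linter.unusedSectionVars false

namespace Cfsg.Lib.Blocks

open Cfsg.Lib.Chars
open scoped ComplexConjugate

universe u

variable {H : Type u} [Group H] [Fintype H] {M : Ideal AlgInt}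

/-- A central involution acts on a character as a sign. -/
lemma apply_central_sign (θ : IrrCharacter H) {z : H} (hzc : z ∈ Subgroup.center H)
    (hz2 : z * z = 1) : ∃ s : ℤ, (s = 1 ∨ s = -1) ∧ (θ : H → ℂ) z = (s : ℂ) * (θ : H → ℂ) 1 ∧
      ∀ c : H, (θ : H → ℂ) (z * c) = (s : ℂ) * (θ : H → ℂ) c := by
  have h1 : (θ : H → ℂ) 1 ≠ 0 := IsIrrCharacter.apply_one_ne_zero θ.2
  have h := apply_mul_central θ hzc z
  rw [hz2] at h
  have hsq : ((θ : H → ℂ) z / (θ : H → ℂ) 1) ^ 2 = 1 := by
    field_simp at h ⊢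
    linear_combination -h
  rcases sq_eq_one_iff.1 hsq with hs | hs
  · refine ⟨1, Or.inl rfl, ?_, fun c => ?_⟩
    · rw [Int.cast_one, one_mul]; exact (div_eq_one_iff_eq h1).1 hs
    · rw [apply_mul_central θ hzc c, hs, Int.cast_one]
  · refine ⟨-1, Or.inr rfl, ?_, fun c => ?_⟩
    · push_cast; field_simp at hs; linear_combination hs
    · rw [apply_mul_central θ hzc c, hs]; push_cast; rfl

/-- The translate of a character by a central involution is a generalized character. -/
lemma isGeneralized_translate {χ : H → ℂ} (hχ : IsCharacter H χ) {z : H}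
    (hzc : z ∈ Subgroup.center H) (hz2 : z * z = 1) :
    IsGeneralizedCharacter H (fun c => χ (z * c)) := by
  classical
  choose s hs hsz hsc using fun θ : IrrCharacter H => apply_central_sign θ hzc hz2
  choose m hm using fun θ : IrrCharacter H => IsCharacter.exists_mult hχ θ.2
  refine isGeneralized_of_coeff (fun a h => ?_) fun θ => ⟨(m θ : ℤ) * s θ, ?_⟩
  · show χ (z * (h * a * h⁻¹)) = χ (z * a)
    rw [show z * (h * a * h⁻¹) = h * (z * a) * h⁻¹ by
      rw [← mul_assoc, ← mul_assoc, ← Subgroup.mem_center_iff.1 hzc h, mul_assoc h z a],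
      isClassFunction_isChar hχ]
  · have he : (fun c => χ (z * c)) =
        ∑ ψ : IrrCharacter H, ((m ψ : ℂ) * (s ψ : ℂ)) • (ψ : H → ℂ) := funext fun c => by
      rw [classFunction_expand_apply (isClassFunction_isChar hχ) (z * c), Finset.sum_apply]
      refine Finset.sum_congr rfl fun ψ _ => ?_
      rw [hm, hsc, Pi.smul_apply, smul_eq_mul, mul_assoc]
    rw [he, classInner_irrSum]
    push_cast
    ring

variable {X : Subgroup H} [X.Normal] [Fintype (H ⧸ X)] {z : H}
  (hzc : z ∈ Subgroup.center H) (hz2 : z * z = 1) (hX : ∀ c, c ∈ X ↔ c = 1 ∨ c = z)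
  (hM : IsPModular 2 M)

include hzc hz2 hX hM

lemma central_two_isPGroup : IsPGroup 2 X := fun c => ⟨1, Subtype.ext (by
  rcases (hX c.1).1 c.2 with h | h <;> simp [pow_two, h, hz2])⟩

lemma central_two_mem_centralizer (c : H) : c ∈ Subgroup.centralizer (X : Set H) :=
  Subgroup.mem_centralizer_iff.2 fun d hd => by
    rcases (hX d).1 hd with h | h
    · simp [h]
    · rw [h]; exact (Subgroup.mem_center_iff.1 hzc c).symm

/-- Membership of an inflated character in the principal block. -/
lemma inflate_mem_principal_iff (θ : IrrCharacter (H ⧸ X)) :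
    inflate X θ ∈ principalBlock M H ↔ θ ∈ principalBlock M (H ⧸ X) := by
  haveI : Fact (Nat.Prime 2) := ⟨Nat.prime_two⟩
  have e : (inflate X (principal (H ⧸ X)) : H → ℂ) = fun _ => 1 := rfl
  constructor
  · intro h
    refine sameBlock_of_inflate (φ := principal (H ⧸ X)) hM (central_two_isPGroup hzc hz2 hX hM)
      (fun c _ => central_two_mem_centralizer hzc hz2 hX hM c) ?_
    rw [e]
    exact h
  · intro h
    have h' := sameBlock_inflate (P := X) hM (φ := principal (H ⧸ X)) (φ' := θ) h
    rw [e] at h'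
    exact h'

/-- On regular elements the principal part of a translated character is an integral combination
of the principal block of the quotient. -/
theorem exists_regular_coeff [DecidablePred (· ∈ principalBlock M (H ⧸ X))] {χ : H → ℂ}
    (hχ : IsCharacter H χ) :
    ∃ m : IrrCharacter (H ⧸ X) → ℤ, ∀ y : H, ¬ 2 ∣ orderOf y →
      blockPart (principalBlock M H) (fun c => χ (z * c)) y =
        ∑ θ ∈ Finset.univ.filter (· ∈ principalBlock M (H ⧸ X)),
          (m θ : ℂ) * (θ : H ⧸ X → ℂ) (y : H ⧸ X) := by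
  classical
  haveI : Fact (Nat.Prime 2) := ⟨Nat.prime_two⟩
  set φ : H → ℂ := fun c => χ (z * c) with hφdef
  have hφ : IsGeneralizedCharacter H φ := isGeneralized_translate hχ hzc hz2
  obtain ⟨v, n, hn, hHn⟩ :=
    Nat.exists_eq_pow_mul_and_not_dvd (Nat.card_pos (α := H)).ne' 2 (by norm_num)
  have hco : (2 ^ v).Coprime n := ((Nat.prime_two.coprime_iff_not_dvd).2 hn).pow_left v
  obtain ⟨t, ht0, ht1⟩ := Nat.chineseRemainder hco 0 1
  have hreg : ∀ y : H, ¬ 2 ∣ orderOf y → y ^ t = y := fun y hy =>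
    pow_eq_self_of_modEq_one (((Nat.prime_two.coprime_iff_not_dvd).2 hy).pow_left v |>.symm
      |>.dvd_of_dvd_mul_left (hHn ▸ orderOf_dvd_natCard y)) ht1
  have hzt : z ^ t = 1 := by
    refine pow_eq_one_of_modEq_zero ?_ ht0
    have h2 : orderOf z ∣ 2 := orderOf_dvd_of_pow_eq_one (by rw [pow_two, hz2])
    refine Nat.Coprime.dvd_of_dvd_mul_right ?_ (hHn ▸ orderOf_dvd_natCard z)
    exact Nat.Coprime.coprime_dvd_left h2 ((Nat.prime_two.coprime_iff_not_dvd).2 hn)
  have hXt : ∀ a b : H, (a : H ⧸ X) = (b : H ⧸ X) → a ^ t = b ^ t := by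
    intro a b h
    rcases (hX _).1 (QuotientGroup.eq.1 h) with h' | h'
    · rw [inv_mul_eq_one.1 h']
    · rw [inv_mul_eq_iff_eq_mul.1 h', (show Commute a z from
        Subgroup.mem_center_iff.1 hzc a).mul_pow, hzt, mul_one]
  set F : H ⧸ X → ℂ := fun q => φ (q.out ^ t) with hF
  have hFc : ∀ c : H, F (c : H ⧸ X) = φ (c ^ t) := fun c => by
    show φ ((c : H ⧸ X).out ^ t) = _
    rw [hXt _ c (QuotientGroup.out_eq' _)]
  have hFcl : IsClassFunction (H ⧸ X) F := by
    intro a b
    obtain ⟨a, rfl⟩ := QuotientGroup.mk_surjective a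
    obtain ⟨b, rfl⟩ := QuotientGroup.mk_surjective b
    rw [← QuotientGroup.mk_inv, ← QuotientGroup.mk_mul, ← QuotientGroup.mk_mul, hFc, hFc, conj_pow]
    exact isClassFunction_generalized hφ _ _
  have hFgen : IsGeneralizedCharacter (H ⧸ X) F := by
    refine isGeneralized_of_elementary hFcl fun E hE => ?_
    obtain ⟨q, hq, hel⟩ := hE
    haveI := isNilpotent_of_isElementary hq hel
    set E' := E.comap (QuotientGroup.mk' X) with hE'
    let f : E' →* E := (QuotientGroup.mk' X).subgroupComap E
    haveI : Group.IsNilpotent E' := by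
      refine Subgroup.isNilpotent_of_ker_le_center f fun c hc => ?_
      have h1 : ((c : H) : H ⧸ X) = 1 := congrArg Subtype.val (MonoidHom.mem_ker.1 hc)
      refine Subgroup.mem_center_iff.2 fun d => Subtype.ext ?_
      exact (Subgroup.mem_centralizer_iff.1 (central_two_mem_centralizer hzc hz2 hX hM (d : H))
        (c : H) ((QuotientGroup.eq_one_iff (c : H)).1 h1)).symm
    have hmul := mul_pow_of_isNilpotent (G := E') (hHn ▸ E'.card_subgroup_dvd_card) hco ht0 ht1
    have hval : ∀ a : H, ∀ e : E, (a : H ⧸ X) = e → (e : H ⧸ X).out ^ t = a ^ t := fun a e h =>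
      (hXt _ _ ((QuotientGroup.out_eq' _).trans h.symm))
    have hmem : ∀ e : E, (e : H ⧸ X).out ∈ E' := fun e => by
      show ((e : H ⧸ X).out : H ⧸ X) ∈ E
      rw [QuotientGroup.out_eq']
      exact e.2
    let θ : E →* H := MonoidHom.mk' (fun e => (e : H ⧸ X).out ^ t) fun e e' => by
      have h := congrArg Subtype.val
        (hmul ⟨_, hmem e⟩ ⟨_, hmem e'⟩)
      simp only [Subgroup.coe_mul, SubgroupClass.coe_pow] at h
      rw [← h]
      refine hval _ _ ?_
      rw [QuotientGroup.mk_mul, QuotientGroup.out_eq', QuotientGroup.out_eq', Subgroup.coe_mul]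
    obtain ⟨a, b, ha, hb, hab⟩ := hφ
    refine ⟨fun e => a (θ e), fun e => b (θ e), IsCharacter.comp_hom ha θ,
      IsCharacter.comp_hom hb θ, funext fun e => ?_⟩
    show φ ((e : H ⧸ X).out ^ t) = _
    rw [hab]
    rfl
  choose m hm using fun θ : IrrCharacter (H ⧸ X) => IsGeneralizedCharacter.exists_mult hFgen θ.2
  refine ⟨m, fun y hy => ?_⟩
  have hb : IsPBlock M (principalBlock M H) := isPBlock_blockOf (principal H)
  rw [blockPart_congr_regular hM hb (θ' := fun c => ∑ θ : IrrCharacter (H ⧸ X),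
    (m θ : ℂ) * (inflate X θ : H → ℂ) c) (fun c hc => ?_) hy, blockPart_sum_smul, Finset.sum_filter]
  · refine Finset.sum_congr rfl fun θ _ => ?_
    rw [blockPart_eq_sum, Finset.sum_congr rfl fun ψ _ => by
      rw [classInner_irrCharacter, ite_mul, one_mul, zero_mul], Finset.sum_ite_eq]
    simp only [Finset.mem_filter, Finset.mem_univ, true_and,
      inflate_mem_principal_iff hzc hz2 hX hM]
    rw [mul_ite, mul_zero]
    rfl
  · have h := classFunction_expand_apply hFcl (c : H ⧸ X)
    rw [hFc, hreg c hc] at h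
    refine h.trans (Finset.sum_congr rfl fun θ _ => ?_)
    rw [hm]
    rfl

/-- On regular elements the kernel of the principal block is twice that of the quotient. -/
theorem colKer_central_two {y w : H} (hy : ¬ 2 ∣ orderOf y) (hw : ¬ 2 ∣ orderOf w) (hz1 : z ≠ 1) :
    colKer (principalBlock M H) y w =
      2 * colKer (principalBlock M (H ⧸ X)) (y : H ⧸ X) (w : H ⧸ X) := by
  classical
  haveI : Fact (Nat.Prime 2) := ⟨Nat.prime_two⟩
  have hb : IsPBlock M (principalBlock M H) := isPBlock_blockOf (principal H)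
  choose s hs hsz hsc using fun θ : IrrCharacter H => apply_central_sign θ hzc hz2
  have hsing : 2 ∣ orderOf (z * w) := by
    by_contra h
    have hp : IsPPart 2 (z * w) z := isPPart_mul
      (show Commute z w from (Subgroup.mem_center_iff.1 hzc w).symm)
      ⟨1, by rw [pow_one]; exact orderOf_eq_prime (by rwa [pow_two]) hz1⟩ hw
    exact hz1 (IsPPart.eq Nat.prime_two hp ((isPPart_one_iff Nat.prime_two).2 h))
  have h0 := block_orthogonality_regular hM hb hy hsing
  rw [Finset.sum_congr rfl fun (ψ : IrrCharacter H) _ => show _ = (s ψ : ℂ) * ((ψ : H → ℂ) y *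
    conj ((ψ : H → ℂ) w)) by rw [hsc, map_mul, map_intCast]; ring] at h0
  rw [← add_zero (colKer (principalBlock M H) y w), ← h0, colKer_eq, colKer_eq,
    ← Finset.sum_add_distrib, Finset.mul_sum]
  have hker : ∀ ψ : IrrCharacter H, s ψ = 1 → ∃ θ : IrrCharacter (H ⧸ X), inflate X θ = ψ := by
    intro ψ h1
    have hinv : ∀ a b : H, (a : H ⧸ X) = (b : H ⧸ X) → (ψ : H → ℂ) a = (ψ : H → ℂ) b := by
      intro a b h
      rcases (hX _).1 (QuotientGroup.eq.1 h) with h' | h'
      · rw [inv_mul_eq_one.1 h']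
      · rw [inv_mul_eq_iff_eq_mul.1 h', Subgroup.mem_center_iff.1 hzc a, hsc, h1, Int.cast_one,
          one_mul]
    have hc : IsClassFunction (H ⧸ X) (fun q => (ψ : H → ℂ) q.out) := by
      intro a b
      obtain ⟨a, rfl⟩ := QuotientGroup.mk_surjective a
      obtain ⟨b, rfl⟩ := QuotientGroup.mk_surjective b
      rw [← QuotientGroup.mk_inv, ← QuotientGroup.mk_mul, ← QuotientGroup.mk_mul]
      exact (hinv _ (b * a * b⁻¹) (QuotientGroup.out_eq' _)).trans
        ((isClassFunction_irr ψ _ _).trans (hinv _ a (QuotientGroup.out_eq' _)).symm)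
    have hcomp : (fun c : H => (ψ : H → ℂ) ((QuotientGroup.mk' X c).out)) = (ψ : H → ℂ) :=
      funext fun c => hinv _ c (QuotientGroup.out_eq' _)
    have hchar : IsCharacter (H ⧸ X) (fun q => (ψ : H → ℂ) q.out) := by
      obtain ⟨n, ρ, hρ, hρχ⟩ := ψ.2
      have hk : ∀ c ∈ X, ρ c = 1 := fun c hc => by
        rcases (hX c).1 hc with h | h
        · rw [h, map_one]
        · rw [h]
          refine (eq_id_of_character_eq_finrank ρ z).1 ?_
          rw [← ρ.char_one, hρχ, hsz, h1, Int.cast_one, one_mul]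
      refine ⟨n, QuotientGroup.lift X ρ hk, funext fun q => ?_⟩
      obtain ⟨c, rfl⟩ := QuotientGroup.mk_surjective q
      show _ = (ψ : H → ℂ) (c : H ⧸ X).out
      rw [hinv _ c (QuotientGroup.out_eq' _), ← hρχ]
      rfl
    refine ⟨⟨_, IsIrrCharacter.descend hchar (QuotientGroup.mk' X) (QuotientGroup.mk'_surjective X)
      (by rw [hcomp]; exact ψ.2)⟩, Subtype.ext hcomp⟩
  refine Eq.symm (Finset.sum_bij_ne_zero (fun θ _ _ => inflate X θ) ?_ ?_ ?_ ?_)
  · intro θ hθ _
    exact Finset.mem_filter.2 ⟨Finset.mem_univ _,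
      (inflate_mem_principal_iff hzc hz2 hX hM θ).2 (Finset.mem_filter.1 hθ).2⟩
  · intro θ₁ _ _ θ₂ _ _ h
    refine Subtype.ext (funext fun q => ?_)
    obtain ⟨c, rfl⟩ := QuotientGroup.mk_surjective q
    exact congrFun (congrArg Subtype.val h) c
  · intro ψ hψ hne
    rcases hs ψ with h1 | h1
    · obtain ⟨θ, rfl⟩ := hker ψ h1
      refine ⟨θ, Finset.mem_filter.2 ⟨Finset.mem_univ _,
        (inflate_mem_principal_iff hzc hz2 hX hM θ).1 (Finset.mem_filter.1 hψ).2⟩, ?_, rfl⟩
      rw [h1] at hne
      intro h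
      apply hne
      rw [inflate_val, inflate_val]
      push_cast
      linear_combination h
    · exact absurd (by rw [h1]; push_cast; ring) hne
  · intro θ hθ _
    have h1 : s (inflate X θ) = 1 := by
      rcases hs (inflate X θ) with h | h
      · exact h
      exfalso
      have e := hsz (inflate X θ)
      rw [h, inflate_val, inflate_val, (QuotientGroup.eq_one_iff (N := X) z).2 ((hX z).2 (Or.inr rfl)),
        QuotientGroup.mk_one] at e
      push_cast at e
      exact IsIrrCharacter.apply_one_ne_zero θ.2 (by linear_combination e / 2)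
    rw [h1, inflate_val, inflate_val]
    push_cast
    ring

end Cfsg.Lib.Blocks
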