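import Mathlib

/-!
# The arithmetic of the principal 2-block with a quaternion Sylow subgroup of order eight
-/

set_option autoImplicit false
set_option linter.unusedSectionVars false

namespace Cfsg.Lib.Blocks

variable {ι : Type*} [Fintype ι] [DecidableEq ι]

lemma abs_le_one_of_sum_sq {v : ι → ℤ} (h : ∑ k, v k * v k = 3) (k : ι) :
    v k = 0 ∨ v k = 1 ∨ v k = -1 := by
  have h1 : v k * v k ≤ 3 := h ▸ Finset.single_le_sum (fun i _ => mul_self_nonneg (v i))
    (Finset.mem_univ k)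
  have h2 : v k < 2 := by nlinarith
  have h3 : -2 < v k := by nlinarith
  omega

lemma card_support_eq {v : ι → ℤ} (h : ∑ k, v k * v k = 3) :
    (Finset.univ.filter fun k => v k ≠ 0).card = 3 := by
  have e : ∀ k, v k * v k = if v k ≠ 0 then (1 : ℤ) else 0 := fun k => by
    rcases abs_le_one_of_sum_sq h k with h | h | h <;> simp [h]
  rw [Finset.sum_congr rfl fun k _ => e k, Finset.sum_boole] at h
  exact_mod_cast h

/-- Two columns with entries `0, ±1` and scalar products `3, 3, 1` meet in exactly one row. -/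
lemma exists_unique_meet {v w : ι → ℤ} {a : ι → ℤ} (ha : ∀ k, 0 < a k) (hv : ∑ k, v k * v k = 3)
    (hw : ∑ k, w k * w k = 3) (hvw : ∑ k, v k * w k = 1) (hav : ∑ k, a k * v k = ∑ k, a k * w k) :
    ∃ r, v r ≠ 0 ∧ v r = w r ∧ ∀ k, v k ≠ 0 → w k ≠ 0 → k = r := by
  set D := Finset.univ.filter fun k => v k * w k ≠ 0 with hD
  have hsum : ∑ k ∈ D, v k * w k = 1 := by
    rw [hD, Finset.sum_filter_ne_zero]; exact hvw
  have hpm : ∀ k ∈ D, v k * w k = 1 ∨ v k * w k = -1 := fun k hk => by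
    have hk' := (Finset.mem_filter.1 hk).2
    rcases abs_le_one_of_sum_sq hv k with h | h | h <;>
      rcases abs_le_one_of_sum_sq hw k with h' | h' | h' <;> simp_all
  have hle : D.card ≤ 3 := (card_support_eq hv) ▸ Finset.card_le_card fun k hk =>
    Finset.mem_filter.2 ⟨Finset.mem_univ _, fun h => (Finset.mem_filter.1 hk).2 (by rw [h, zero_mul])⟩
  have hone : D.card = 1 := by
    rcases Nat.lt_trichotomy D.card 1 with h | h | h
    · have h0 : D = ∅ := Finset.card_eq_zero.1 (Nat.lt_one_iff.1 h)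
      rw [h0, Finset.sum_empty] at hsum
      exact absurd hsum (by norm_num)
    · exact h
    exfalso
    rcases (show D.card = 2 ∨ D.card = 3 by omega) with h2 | h3
    · obtain ⟨x, y, hxy, he⟩ := Finset.card_eq_two.1 h2
      have hx := hpm x (he ▸ Finset.mem_insert_self _ _)
      have hy := hpm y (he ▸ Finset.mem_insert_of_mem (Finset.mem_singleton_self _))
      rw [he, Finset.sum_pair hxy] at hsum
      omega
    -- equal supports: the difference is concentrated in one row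
    have hsame : ∀ k, v k ≠ 0 ↔ w k ≠ 0 := fun k => by
      have e1 : D = Finset.univ.filter fun k => v k ≠ 0 := Finset.eq_of_subset_of_card_le
        (fun k hk => Finset.mem_filter.2 ⟨Finset.mem_univ _,
          fun h => (Finset.mem_filter.1 hk).2 (by rw [h, zero_mul])⟩) (by rw [h3, card_support_eq hv])
      have e2 : D = Finset.univ.filter fun k => w k ≠ 0 := Finset.eq_of_subset_of_card_le
        (fun k hk => Finset.mem_filter.2 ⟨Finset.mem_univ _,
          fun h => (Finset.mem_filter.1 hk).2 (by rw [h, mul_zero])⟩) (by rw [h3, card_support_eq hw])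
      have := Finset.ext_iff.1 (e1.symm.trans e2) k
      simpa using this
    have hd : ∑ k, (v k - w k) * (v k - w k) = 4 := by
      have e : ∀ k, (v k - w k) * (v k - w k) = v k * v k + w k * w k - 2 * (v k * w k) :=
        fun k => by ring
      rw [Finset.sum_congr rfl fun k _ => e k, Finset.sum_sub_distrib, Finset.sum_add_distrib,
        ← Finset.mul_sum, hv, hw, hvw]
      norm_num
    have hval : ∀ k, v k - w k = 0 ∨ v k - w k = 2 ∨ v k - w k = -2 := fun k => by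
      have := hsame k
      rcases abs_le_one_of_sum_sq hv k with h | h | h <;>
        rcases abs_le_one_of_sum_sq hw k with h' | h' | h' <;> simp_all
    obtain ⟨r, hr⟩ : ∃ r, v r - w r ≠ 0 := by
      by_contra hcon
      push Not at hcon
      simp [hcon] at hd
    have hz : ∀ k, k ≠ r → v k - w k = 0 := by
      intro k hk
      by_contra hk'
      have h8 : (v k - w k) * (v k - w k) + (v r - w r) * (v r - w r) ≤ 4 := by
        rw [← hd, ← Finset.sum_pair (f := fun k => (v k - w k) * (v k - w k)) hk]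
        exact Finset.sum_le_sum_of_subset_of_nonneg (Finset.subset_univ _)
          fun i _ _ => mul_self_nonneg _
      rcases hval k with h | h | h <;> rcases hval r with h' | h' | h' <;> simp_all
    have h0 : ∑ k, a k * (v k - w k) = 0 := by
      simp only [mul_sub, Finset.sum_sub_distrib, hav, sub_self]
    rw [Finset.sum_eq_single r (fun k _ hk => by rw [hz k hk, mul_zero])
      (fun h => absurd (Finset.mem_univ r) h)] at h0
    rcases mul_eq_zero.1 h0 with h | h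
    · exact (ha r).ne' h
    · exact hr h
  obtain ⟨r, he⟩ := Finset.card_eq_one.1 hone
  rw [he, Finset.sum_singleton] at hsum
  have hr : v r ≠ 0 := fun h => by rw [h, zero_mul] at hsum; exact zero_ne_one hsum
  refine ⟨r, hr, ?_, fun k hk hk' => ?_⟩
  · rcases abs_le_one_of_sum_sq hv r with h | h | h <;> simp_all
    omega
  · have : k ∈ D := Finset.mem_filter.2 ⟨Finset.mem_univ _, mul_ne_zero hk hk'⟩
    rw [he] at this
    exact Finset.mem_singleton.1 this

/-- A column with three nonzero rows. -/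
lemma exists_third {v : ι → ℤ} (hv : ∑ k, v k * v k = 3) {r s : ι} (hrs : r ≠ s) (hr : v r ≠ 0)
    (hs : v s ≠ 0) : ∃ o, o ≠ r ∧ o ≠ s ∧ v o ≠ 0 ∧
      (∀ k, v k ≠ 0 → k = r ∨ k = s ∨ k = o) ∧
      ∀ f : ι → ℚ, ∑ k, f k * (v k : ℚ) = f r * v r + (f s * v s + f o * v o) := by
  set S := Finset.univ.filter fun k => v k ≠ 0 with hS
  have hc : ((S.erase r).erase s).card = 1 := by
    rw [Finset.card_erase_of_mem (by simp [hS, hs, hrs.symm]), Finset.card_erase_of_mem (by simp [hS, hr]),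
      hS, card_support_eq hv]
  obtain ⟨o, ho⟩ := Finset.card_eq_one.1 hc
  have hmem : o ∈ (S.erase r).erase s := ho ▸ Finset.mem_singleton_self o
  simp only [Finset.mem_erase, hS, Finset.mem_filter] at hmem
  obtain ⟨h1, h2, -, h3⟩ := hmem
  have hall : ∀ k, v k ≠ 0 → k = r ∨ k = s ∨ k = o := by
    intro k hk
    by_contra hcon
    push Not at hcon
    have : k ∈ (S.erase r).erase s := by simp [hS, hk, hcon.1, hcon.2.1]
    rw [ho, Finset.mem_singleton] at this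
    exact hcon.2.2 this
  refine ⟨o, h2, h1, h3, hall, fun f => ?_⟩
  rw [← Finset.sum_subset (Finset.subset_univ {r, s, o}) fun k _ hk => ?_,
    Finset.sum_insert (by simp [hrs, Ne.symm h2]), Finset.sum_pair (Ne.symm h1)]
  simp only [Finset.mem_insert, Finset.mem_singleton] at hk
  rw [show v k = 0 from by_contra fun h => hk (hall k h), Int.cast_zero, mul_zero]

/-- The column relations force a row whose value at the involution is its degree, and exactly
six rows are not entirely zero. -/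
theorem quaternion_comb {a b e v₁ v₂ v₃ : ι → ℤ} {x₁ x₂ x₃ : ℤ} (ha : ∀ k, 0 < a k)
    (hx₁ : Odd x₁) (hx₂ : Odd x₂) (hx₃ : Odd x₃) (hx : x₁ + x₂ + x₃ = -1)
    (hb : ∀ k, b k = v₁ k * x₁ + v₂ k * x₂ + v₃ k * x₃) (hpar : ∀ k, 2 ∣ b k - e k)
    (h11 : ∑ k, v₁ k * v₁ k = 3) (h22 : ∑ k, v₂ k * v₂ k = 3) (h33 : ∑ k, v₃ k * v₃ k = 3)
    (hee : ∑ k, e k * e k = 3) (h12 : ∑ k, v₁ k * v₂ k = 1) (h13 : ∑ k, v₁ k * v₃ k = 1)
    (h23 : ∑ k, v₂ k * v₃ k = 1) (h1e : ∑ k, v₁ k * e k = 1) (h2e : ∑ k, v₂ k * e k = 1)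
    (h3e : ∑ k, v₃ k * e k = 1) (ha₁ : ∑ k, a k * v₁ k = 1) (ha₂ : ∑ k, a k * v₂ k = 1)
    (ha₃ : ∑ k, a k * v₃ k = 1) (hae : ∑ k, a k * e k = -1)
    (hw₁ : ∑ k, ((b k : ℚ) ^ 2 / a k) * v₁ k = 1) (hw₂ : ∑ k, ((b k : ℚ) ^ 2 / a k) * v₂ k = 1)
    (hw₃ : ∑ k, ((b k : ℚ) ^ 2 / a k) * v₃ k = 1)
    (hwe : ∑ k, ((b k : ℚ) ^ 2 / a k) * e k = -1) :
    (∃ k, b k = a k) ∧
      (Finset.univ.filter fun k => v₁ k ≠ 0 ∨ v₂ k ≠ 0 ∨ v₃ k ≠ 0 ∨ e k ≠ 0).card = 6 := by
  obtain ⟨r₃, hr₃, hr₃', hu₃⟩ := exists_unique_meet ha h11 h22 h12 (ha₁.trans ha₂.symm)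
  obtain ⟨r₂, hr₂, hr₂', hu₂⟩ := exists_unique_meet ha h11 h33 h13 (ha₁.trans ha₃.symm)
  obtain ⟨r₁, hr₁, hr₁', hu₁⟩ := exists_unique_meet ha h22 h33 h23 (ha₂.trans ha₃.symm)
  have hodd : ∀ k, Odd (v₁ k + v₂ k + v₃ k) → e k ≠ 0 := by
    intro k hk hk'
    obtain ⟨p, hp⟩ := hx₁
    obtain ⟨q, hq⟩ := hx₂
    obtain ⟨s, hs⟩ := hx₃
    obtain ⟨m, hm⟩ := hk
    obtain ⟨c, hc⟩ := hpar k
    rw [hk', hb k, hp, hq, hs] at hc
    have : 2 * (v₁ k * p + v₂ k * q + v₃ k * s) + (2 * m + 1) = 2 * c := by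
      rw [← hm]; linarith
    omega
  have hecard := card_support_eq hee
  set E := Finset.univ.filter fun k => e k ≠ 0 with hE
  -- no row meets all three columns
  have h32 : r₃ ≠ r₂ := by
    intro hr
    have hv3 : v₃ r₃ = v₁ r₃ := by rw [hr]; exact hr₂'.symm
    have hsub : (Finset.univ.filter fun k => v₁ k ≠ 0) ∪ (Finset.univ.filter fun k => v₂ k ≠ 0) ⊆ E := by
      intro k hk
      simp only [Finset.mem_union, Finset.mem_filter, Finset.mem_univ, true_and] at hk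
      refine Finset.mem_filter.2 ⟨Finset.mem_univ _, hodd k ?_⟩
      have hone1 := abs_le_one_of_sum_sq h11 k
      have hone2 := abs_le_one_of_sum_sq h22 k
      by_cases hkr : k = r₃
      · rw [hkr] at hone1 ⊢
        rw [← hr₃', hv3]
        rcases hone1 with h | h | h <;> [exact absurd h hr₃; (rw [h]; decide); (rw [h]; decide)]
      rcases hk with h | h
      · have e2 : v₂ k = 0 := by_contra fun h' => hkr (hu₃ k h h')
        have e3 : v₃ k = 0 := by_contra fun h' => hkr ((hu₂ k h h').trans hr.symm)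
        rw [e2, e3, add_zero, add_zero]
        rcases hone1 with h' | h' | h' <;> [exact absurd h' h; (rw [h']; decide); (rw [h']; decide)]
      · have e1 : v₁ k = 0 := by_contra fun h' => hkr (hu₃ k h' h)
        have e3 : v₃ k = 0 := by
          by_contra h'
          have h3 : v₂ r₃ ≠ 0 := hr₃' ▸ hr₃
          have h4 : v₃ r₃ ≠ 0 := hv3 ▸ hr₃
          exact hkr ((hu₁ k h h').trans (hu₁ r₃ h3 h4).symm)
        rw [e1, e3, zero_add, add_zero]
        rcases hone2 with h' | h' | h' <;> [exact absurd h' h; (rw [h']; decide); (rw [h']; decide)]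
    have h5 : 5 ≤ ((Finset.univ.filter fun k => v₁ k ≠ 0) ∪ (Finset.univ.filter fun k => v₂ k ≠ 0)).card := by
      have hint : ((Finset.univ.filter fun k => v₁ k ≠ 0) ∩ (Finset.univ.filter fun k => v₂ k ≠ 0)).card ≤ 1 :=
        Finset.card_le_one.2 fun p hp q hq => by
          simp only [Finset.mem_inter, Finset.mem_filter] at hp hq
          rw [hu₃ p hp.1.2 hp.2.2, hu₃ q hq.1.2 hq.2.2]
      have := Finset.card_union_add_card_inter (Finset.univ.filter fun k => v₁ k ≠ 0)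
        (Finset.univ.filter fun k => v₂ k ≠ 0)
      rw [card_support_eq h11, card_support_eq h22] at this
      omega
    have := Finset.card_le_card hsub
    omega
  have e31 : v₃ r₃ = 0 := by_contra fun h => h32 (hu₂ r₃ hr₃ h)
  have e22 : v₂ r₂ = 0 := by_contra fun h => h32 (hu₃ r₂ hr₂ h).symm
  have e13 : v₁ r₁ = 0 := by
    by_contra h
    exact h32 ((hu₃ r₁ h hr₁).symm.trans (hu₂ r₁ h (hr₁' ▸ hr₁)))
  have h31 : r₃ ≠ r₁ := fun h => hr₃ (h ▸ e13)
  have h21 : r₂ ≠ r₁ := fun h => hr₂ (h ▸ e13)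
  obtain ⟨o₁, o13, o12, ho₁, hall₁, hs₁⟩ := exists_third h11 h32 hr₃ hr₂
  obtain ⟨o₂, o23, o21, ho₂, hall₂, hs₂⟩ := exists_third h22 h31 (hr₃' ▸ hr₃) hr₁
  obtain ⟨o₃, o32, o31, ho₃, hall₃, hs₃⟩ :=
    exists_third h33 h21 (hr₂' ▸ hr₂) (hr₁' ▸ hr₁)
  have f12 : v₂ o₁ = 0 := by_contra fun h => o13 (hu₃ o₁ ho₁ h)
  have f13 : v₃ o₁ = 0 := by_contra fun h => o12 (hu₂ o₁ ho₁ h)
  have f21 : v₁ o₂ = 0 := by_contra fun h => o23 (hu₃ o₂ h ho₂)
  have f23 : v₃ o₂ = 0 := by_contra fun h => o21 (hu₁ o₂ ho₂ h)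
  have f31 : v₁ o₃ = 0 := by_contra fun h => o32 (hu₂ o₃ h ho₃)
  have f32 : v₂ o₃ = 0 := by_contra fun h => o31 (hu₁ o₃ h ho₃)
  have q12 : o₁ ≠ o₂ := fun h => ho₁ (h ▸ f21)
  have q13 : o₁ ≠ o₃ := fun h => ho₁ (h ▸ f31)
  have q23 : o₂ ≠ o₃ := fun h => ho₂ (h ▸ f32)
  have hoddv : ∀ {v : ι → ℤ}, ∑ k, v k * v k = 3 → ∀ k, v k ≠ 0 → Odd (v k) := by
    intro v hv k hk
    rcases abs_le_one_of_sum_sq hv k with h | h | h <;>
      [exact absurd h hk; (rw [h]; decide); (rw [h]; decide)]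
  have g1 : e o₁ ≠ 0 := hodd o₁ (by rw [f12, f13, add_zero, add_zero]; exact hoddv h11 _ ho₁)
  have g2 : e o₂ ≠ 0 := hodd o₂ (by rw [f21, f23, zero_add, add_zero]; exact hoddv h22 _ ho₂)
  have g3 : e o₃ ≠ 0 := hodd o₃ (by rw [f31, f32, zero_add, zero_add]; exact hoddv h33 _ ho₃)
  have hEeq : E = {o₁, o₂, o₃} := (Finset.eq_of_subset_of_card_le
    (by intro k hk; simp only [Finset.mem_insert, Finset.mem_singleton] at hk
        refine Finset.mem_filter.2 ⟨Finset.mem_univ _, ?_⟩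
        rcases hk with rfl | rfl | rfl <;> assumption)
    (by rw [hecard, Finset.card_eq_three.2 ⟨o₁, o₂, o₃, q12, q13, q23, rfl⟩])).symm
  have hez : ∀ k, k ≠ o₁ → k ≠ o₂ → k ≠ o₃ → e k = 0 := by
    intro k a1 a2 a3
    by_contra h
    have : k ∈ E := Finset.mem_filter.2 ⟨Finset.mem_univ _, h⟩
    simp [hEeq, a1, a2, a3] at this
  have er₃ : e r₃ = 0 := hez r₃ o13.symm o23.symm fun h => ho₃ (h ▸ e31)
  have er₂ : e r₂ = 0 := hez r₂ o12.symm (fun h => ho₂ (h ▸ e22)) o32.symm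
  have er₁ : e r₁ = 0 := hez r₁ (fun h => ho₁ (h ▸ e13)) o21.symm o31.symm
  have ev : ∀ {v : ι → ℤ}, ∑ k, v k * v k = 3 → ∀ o, v o ≠ 0 → v o * e o = 1 → e o = v o := by
    intro v hv o ho h
    rcases abs_le_one_of_sum_sq hv o with h' | h' | h' <;>
      [exact absurd h' ho; (rw [h'] at h ⊢; omega); (rw [h'] at h ⊢; omega)]
  have k1 := hs₁ fun k => (e k : ℚ)
  have k2 := hs₂ fun k => (e k : ℚ)
  have k3 := hs₃ fun k => (e k : ℚ)
  simp only [er₁, er₂, er₃, Int.cast_zero, zero_mul, zero_add] at k1 k2 k3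
  have ev₁ : e o₁ = v₁ o₁ := ev h11 o₁ ho₁ (by
    rw [← h1e, mul_comm]
    apply Int.cast_injective (α := ℚ)
    push_cast
    rw [← k1]
    exact Finset.sum_congr rfl fun k _ => mul_comm _ _)
  have ev₂ : e o₂ = v₂ o₂ := ev h22 o₂ ho₂ (by
    rw [← h2e, mul_comm]
    apply Int.cast_injective (α := ℚ)
    push_cast
    rw [← k2]
    exact Finset.sum_congr rfl fun k _ => mul_comm _ _)
  have ev₃ : e o₃ = v₃ o₃ := ev h33 o₃ ho₃ (by
    rw [← h3e, mul_comm]
    apply Int.cast_injective (α := ℚ)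
    push_cast
    rw [← k3]
    exact Finset.sum_congr rfl fun k _ => mul_comm _ _)
  have hse : ∀ f : ι → ℚ, ∑ k, f k * (e k : ℚ) = f o₁ * e o₁ + (f o₂ * e o₂ + f o₃ * e o₃) := by
    intro f
    rw [← Finset.sum_subset (Finset.subset_univ {o₁, o₂, o₃}) fun k _ hk => ?_,
      Finset.sum_insert (by simp [q12, q13]), Finset.sum_pair q23]
    simp only [Finset.mem_insert, Finset.mem_singleton, not_or] at hk
    rw [hez k hk.1 hk.2.1 hk.2.2, Int.cast_zero, mul_zero]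
  have castsum : ∀ {v : ι → ℤ} {c : ℤ}, ∑ k, a k * v k = c →
      ∑ k, (a k : ℚ) * (v k : ℚ) = (c : ℚ) := fun h => by exact_mod_cast h
  have A1 := (hs₁ fun k => (a k : ℚ)).symm.trans (castsum ha₁)
  have A2 := (hs₂ fun k => (a k : ℚ)).symm.trans (castsum ha₂)
  have A3 := (hs₃ fun k => (a k : ℚ)).symm.trans (castsum ha₃)
  have Ae := (hse fun k => (a k : ℚ)).symm.trans (castsum hae)
  rw [hs₁] at hw₁
  rw [hs₂] at hw₂
  rw [hs₃] at hw₃
  rw [hse] at hwe
  rw [← hr₃'] at A2 hw₂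
  rw [← hr₂', ← hr₁'] at A3 hw₃
  rw [ev₁, ev₂, ev₃] at Ae hwe
  push_cast at A1 A2 A3 Ae
  -- the shared row of the first two columns against the own row of the third
  set X := (x₃ : ℚ) with hX
  set p := (a o₃ : ℚ) * (v₃ o₃ : ℚ) with hp
  set P := (a r₃ : ℚ) * (v₁ r₃ : ℚ) with hPdef
  have hP : P = 1 + p := by linarith
  have sq3 : (v₃ o₃ : ℚ) * (v₃ o₃ : ℚ) = 1 := by
    rcases abs_le_one_of_sum_sq h33 o₃ with h | h | h <;> simp [h] at hr₃ ho₃ ⊢
  have sq1 : (v₁ r₃ : ℚ) * (v₁ r₃ : ℚ) = 1 := by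
    rcases abs_le_one_of_sum_sq h11 r₃ with h | h | h <;> simp [h] at hr₃ ho₃ ⊢
  have hao : (a o₃ : ℚ) ≠ 0 := Int.cast_ne_zero.2 (ha o₃).ne'
  have har : (a r₃ : ℚ) ≠ 0 := Int.cast_ne_zero.2 (ha r₃).ne'
  have hb3 : (b o₃ : ℚ) = (v₃ o₃ : ℚ) * X := by rw [hb, f31, f32, hX]; push_cast; ring
  have hbr : (b r₃ : ℚ) = -((v₁ r₃ : ℚ) * (1 + X)) := by
    rw [hb, e31, ← hr₃', hX]
    have : (x₁ : ℚ) + x₂ + x₃ = -1 := by exact_mod_cast hx
    push_cast
    linear_combination (v₁ r₃ : ℚ) * this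
  have hW : (b r₃ : ℚ) ^ 2 / a r₃ * v₁ r₃ = 1 + (b o₃ : ℚ) ^ 2 / a o₃ * v₃ o₃ := by linarith
  have hPne : P ≠ 0 := mul_ne_zero har fun h => by simp [h] at sq1
  have hpne : p ≠ 0 := mul_ne_zero hao fun h => by simp [h] at sq3
  have e1 : (b r₃ : ℚ) ^ 2 / a r₃ * v₁ r₃ = (1 + X) ^ 2 / P := by
    rw [hbr, div_mul_eq_mul_div, div_eq_div_iff har hPne, hPdef]
    linear_combination (1 + X) ^ 2 * (a r₃ : ℚ) * ((v₁ r₃ : ℚ) * (v₁ r₃ : ℚ) + 1) * sq1
  have e2 : (b o₃ : ℚ) ^ 2 / a o₃ * v₃ o₃ = X ^ 2 / p := by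
    rw [hb3, div_mul_eq_mul_div, div_eq_div_iff hao hpne, hp]
    linear_combination X ^ 2 * (a o₃ : ℚ) * ((v₃ o₃ : ℚ) * (v₃ o₃ : ℚ) + 1) * sq3
  rw [e1, e2, div_eq_iff hPne, hP, add_mul, one_mul, div_mul_eq_mul_div] at hW
  have hsq : (p - X) ^ 2 = 0 := by
    field_simp at hW
    linear_combination -hW
  refine ⟨⟨o₃, ?_⟩, ?_⟩
  · apply Int.cast_injective (α := ℚ)
    have : p = X := sub_eq_zero.1 ((pow_eq_zero_iff two_ne_zero).1 hsq)
    rw [hb3, ← this, hp]
    linear_combination (a o₃ : ℚ) * sq3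
  · have hset : (Finset.univ.filter fun k => v₁ k ≠ 0 ∨ v₂ k ≠ 0 ∨ v₃ k ≠ 0 ∨ e k ≠ 0) =
        ({r₁, r₂, r₃} : Finset ι) ∪ {o₁, o₂, o₃} := by
      ext k
      simp only [Finset.mem_filter, Finset.mem_univ, true_and, Finset.mem_union, Finset.mem_insert,
        Finset.mem_singleton]
      constructor
      · rintro (h | h | h | h)
        · rcases hall₁ k h with h | h | h <;> simp [h]
        · rcases hall₂ k h with h | h | h <;> simp [h]
        · rcases hall₃ k h with h | h | h <;> simp [h]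
        · by_contra hcon
          simp only [not_or] at hcon
          exact h (hez k hcon.2.1 hcon.2.2.1 hcon.2.2.2)
      · rintro ((rfl | rfl | rfl) | (rfl | rfl | rfl))
        · exact Or.inr (Or.inl hr₁)
        · exact Or.inl hr₂
        · exact Or.inl hr₃
        · exact Or.inl ho₁
        · exact Or.inr (Or.inl ho₂)
        · exact Or.inr (Or.inr (Or.inl ho₃))
    have hd : Disjoint ({r₁, r₂, r₃} : Finset ι) {o₁, o₂, o₃} := by
      simp only [Finset.disjoint_insert_left, Finset.disjoint_singleton_left, Finset.mem_insert,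
        Finset.mem_singleton, not_or]
      exact ⟨⟨fun h => ho₁ (h ▸ e13), o21.symm, o31.symm⟩,
        ⟨o12.symm, fun h => ho₂ (h ▸ e22), o32.symm⟩,
        ⟨o13.symm, o23.symm, fun h => ho₃ (h ▸ e31)⟩⟩
    rw [hset, Finset.card_union_of_disjoint hd,
      Finset.card_eq_three.2 ⟨r₁, r₂, r₃, h21.symm, h31.symm, h32.symm, rfl⟩,
      Finset.card_eq_three.2 ⟨o₁, o₂, o₃, q12, q13, q23, rfl⟩]

end Cfsg.Lib.Blocks
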