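import Mathlib
import Cfsg.Prelude.Def_Blocks
import Cfsg.Prelude.Def_BlockRank
import Cfsg.Agent.Blocks.Columns
import Cfsg.Agent.Blocks.Orth2
import Cfsg.Agent.Blocks.Feit
import Cfsg.Agent.Blocks.Third
import Cfsg.Agent.Chars.DefectZero
import Cfsg.Agent.Chars.Count
import Cfsg.Agent.Chars.Sums
import Cfsg.Agent.Chars.Values
import Cfsg.Agent.S0944

/-!
# The principal 2-block with a Klein four Sylow subgroup and one class of involutions
-/

set_option autoImplicit false
set_option linter.unusedSectionVars false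

namespace Cfsg.Lib.Blocks

open Cfsg.Lib.Chars
open scoped ComplexConjugate

universe u

variable {G : Type u} [Group G] [Fintype G] {M : Ideal AlgInt}

/-- An element normalizing an abelian Sylow 2-subgroup whose square centralizes a member does
so itself. -/
lemma commute_of_sq {P : Sylow 2 G} (hab : ∀ a ∈ (P : Subgroup G), ∀ b ∈ (P : Subgroup G), Commute a b)
    {n : G} (hn : n ∈ Subgroup.normalizer ((P : Subgroup G) : Set G)) {a : G}
    (ha : a ∈ (P : Subgroup G)) (h2 : Commute (n * n) a) : Commute n a := by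
  haveI : Fact (Nat.Prime 2) := ⟨Nat.prime_two⟩
  obtain ⟨e, r, hr, hn'⟩ := Nat.exists_eq_pow_mul_and_not_dvd (orderOf_pos n).ne' 2 (by norm_num)
  have hK : IsPGroup 2 (Subgroup.zpowers (n ^ r)) := by
    refine IsPGroup.iff_orderOf.2 fun g => ?_
    obtain ⟨j, hj⟩ : ∃ j : ℤ, (n ^ r) ^ j = (g : G) := g.2
    have h1 : (g : G) ^ 2 ^ e = 1 := by
      rw [← hj, ← zpow_natCast, ← zpow_mul, mul_comm, zpow_mul, zpow_natCast, ← pow_mul,
        show r * 2 ^ e = orderOf n by rw [hn', mul_comm], pow_orderOf_eq_one, one_zpow]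
    obtain ⟨k, -, hk⟩ := (Nat.dvd_prime_pow Nat.prime_two).1 (orderOf_dvd_of_pow_eq_one h1)
    exact ⟨k, by rw [← Subgroup.orderOf_coe, hk]⟩
  have hle := hK.to_sup_of_normal_right' P.2 (Subgroup.zpowers_le.2 (pow_mem hn r))
  have hmem : n ^ r ∈ (P : Subgroup G) := by
    have := P.3 hle le_sup_right
    exact this ▸ (le_sup_left : _ ≤ Subgroup.zpowers (n ^ r) ⊔ (P : Subgroup G))
      (Subgroup.mem_zpowers _)
  obtain ⟨k, hk⟩ : Odd r := Nat.not_even_iff_odd.1 fun h => hr (even_iff_two_dvd.1 h)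
  have e1 : n = n ^ r * ((n * n) ^ k)⁻¹ := by
    rw [eq_mul_inv_iff_mul_eq, ← pow_two, ← pow_mul, ← pow_succ', hk]
  rw [e1]
  exact (hab _ hmem a ha).mul_left (h2.pow_left k).inv_left

/-- A group in which every element of a set squares to one is abelian on it. -/
lemma commute_of_sq_eq_one {Q : Subgroup G} (h : ∀ u ∈ Q, u * u = 1) {a b : G} (ha : a ∈ Q)
    (hb : b ∈ Q) : Commute a b := by
  have h1 := h _ (mul_mem ha hb)
  show a * b = b * a
  calc a * b = a * b * (b * (a * a) * b) := by rw [h a ha, mul_one, h b hb, mul_one]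
    _ = a * (b * b) * a * (a * b) := by group
    _ = b * b * a * a * (a * b) := by rw [h b hb, mul_one, one_mul]
    _ = b * (b * a) * (a * a * b) := by group
    _ = b * a := by
        rw [h a ha, one_mul]
        calc b * (b * a) * b = b * b * a * b := by group
          _ = a * b := by rw [h b hb, one_mul]
          _ = (a * b)⁻¹ := eq_inv_of_mul_eq_one_left h1
          _ = b⁻¹ * a⁻¹ := mul_inv_rev a b
          _ = b * a := by
              rw [inv_eq_of_mul_eq_one_right (h a ha), inv_eq_of_mul_eq_one_right (h b hb)]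

/-- The centralizer of an involution of a Klein four Sylow subgroup has a normal complement to
it, whose members are its elements of odd order. -/
theorem exists_odd_complement (Q : Sylow 2 G) (hQc : Nat.card (Q : Subgroup G) = 4)
    (hQ2 : ∀ u ∈ (Q : Subgroup G), u * u = 1) {z : G} (hz : z ∈ (Q : Subgroup G)) (hz1 : z ≠ 1) :
    ∃ L : Subgroup (Subgroup.centralizer ({z} : Set G)), L.Normal ∧ L.index = 4 ∧
      ¬ 2 ∣ Nat.card L ∧ ∀ c, c ∈ L ↔ ¬ 2 ∣ orderOf c := by
  classical
  haveI : Fact (Nat.Prime 2) := ⟨Nat.prime_two⟩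
  set C := Subgroup.centralizer ({z} : Set G) with hC
  have hle : (Q : Subgroup G) ≤ C := fun u hu =>
    Subgroup.mem_centralizer_singleton_iff.2 (commute_of_sq_eq_one hQ2 hu hz).eq
  set R : Sylow 2 C := Q.subtype hle with hR
  have hRmem : ∀ c : C, c ∈ (R : Subgroup C) ↔ (c : G) ∈ (Q : Subgroup G) := fun c => Iff.rfl
  have hRc : Nat.card (R : Subgroup C) = 4 := by
    rw [← hQc]
    exact Nat.card_congr (Subgroup.subgroupOfEquivOfLe hle).toEquiv
  have hRab : ∀ a ∈ (R : Subgroup C), ∀ b ∈ (R : Subgroup C), Commute a b := fun a ha b hb =>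
    Subtype.ext (commute_of_sq_eq_one hQ2 ((hRmem a).1 ha) ((hRmem b).1 hb)).eq
  have hNC : Subgroup.normalizer (R : Set C) ≤ Subgroup.centralizer (R : Set C) := by
    intro n hn
    refine Subgroup.mem_centralizer_iff.2 fun a ha => ?_
    refine (commute_of_sq hRab hn ha ?_).symm.eq
    have hb := (Subgroup.mem_set_normalizer_iff.1 hn a).1 ha
    have hnz : Commute (n : G) z := Subgroup.mem_centralizer_singleton_iff.1 n.2
    set b : C := n * a * n⁻¹ with hbdef
    by_cases haz : (a : G) = z ∨ (a : G) = 1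
    · refine Subtype.ext ?_
      rcases haz with h | h
      · simp only [Subgroup.coe_mul, h]
        exact (hnz.mul_left hnz).eq
      · simp [h]
    push Not at haz
    have h4 : ({1, z, (a : G), z * (a : G)} : Finset G).card = 4 := by
      rw [Finset.card_eq_four]
      refine ⟨1, z, (a : G), z * (a : G), Ne.symm hz1, Ne.symm haz.2, ?_, Ne.symm haz.1, ?_, ?_, rfl⟩
      · intro h
        exact haz.1 (by
          have := eq_inv_of_mul_eq_one_right h.symm
          rw [this, inv_eq_of_mul_eq_one_right (hQ2 z hz)])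
      · intro h; exact haz.2 (mul_eq_left.1 h.symm)
      · intro h; exact hz1 (mul_eq_right.1 h.symm)
    have hall : ({1, z, (a : G), z * (a : G)} : Finset G) =
        Finset.univ.filter (fun g => g ∈ (Q : Subgroup G)) := by
      refine Finset.eq_of_subset_of_card_le ?_ ?_
      · intro g hg
        simp only [Finset.mem_insert, Finset.mem_singleton] at hg
        refine Finset.mem_filter.2 ⟨Finset.mem_univ _, ?_⟩
        rcases hg with rfl | rfl | rfl | rfl
        · exact one_mem _
        · exact hz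
        · exact (hRmem a).1 ha
        · exact mul_mem hz ((hRmem a).1 ha)
      · rw [h4, ← Fintype.card_subtype, ← Nat.card_eq_fintype_card]
        exact le_of_eq hQc
    have hbmem : (b : G) ∈ ({1, z, (a : G), z * (a : G)} : Finset G) :=
      hall ▸ Finset.mem_filter.2 ⟨Finset.mem_univ _, (hRmem b).1 hb⟩
    simp only [Finset.mem_insert, Finset.mem_singleton] at hbmem
    have hbv : (b : G) = (n : G) * (a : G) * (n : G)⁻¹ := by simp [hbdef]
    rw [hbv] at hbmem
    rcases hbmem with h | h | h | h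
    · exact absurd (conj_eq_one_iff.1 h) haz.2
    · refine absurd ?_ haz.1
      calc (a : G) = (n : G)⁻¹ * ((n : G) * (a : G) * (n : G)⁻¹) * (n : G) := by group
        _ = z := by rw [h, mul_assoc, ← hnz.eq, inv_mul_cancel_left]
    · refine Subtype.ext ?_
      have h' : Commute (n : G) (a : G) := mul_inv_eq_iff_eq_mul.1 h
      simp only [Subgroup.coe_mul]
      exact (h'.mul_left h').eq
    · refine Subtype.ext ?_
      simp only [Subgroup.coe_mul]
      have h' : (n : G) * (a : G) = z * (a : G) * (n : G) := mul_inv_eq_iff_eq_mul.1 h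
      calc (n : G) * (n : G) * (a : G) = (n : G) * (z * (a : G) * (n : G)) := by rw [mul_assoc, h']
        _ = z * ((n : G) * (a : G)) * (n : G) := by
            rw [← mul_assoc, ← mul_assoc, hnz.eq, mul_assoc z]
        _ = (z * z) * (a : G) * ((n : G) * (n : G)) := by rw [h']; group
        _ = (a : G) * ((n : G) * (n : G)) := by rw [hQ2 z hz, one_mul]
  set L := (MonoidHom.transferSylow R hNC).ker with hL
  have hcompl := MonoidHom.ker_transferSylow_isComplement' R hNC
  have hidx : L.index = 4 := hcompl.symm.index_eq_card.trans hRc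
  have hodd : ¬ 2 ∣ Nat.card L := hcompl.index_eq_card ▸ R.not_dvd_index
  refine ⟨L, inferInstance, hidx, hodd, fun c => ⟨fun hc h => hodd ?_, fun hc => ?_⟩⟩
  · exact h.trans (by rw [← Subgroup.orderOf_mk (H := L) c hc]; exact orderOf_dvd_natCard _)
  · exact mem_of_pRegular_of_index_eq_pow Nat.prime_two L (k := 2) hidx hc

variable {P : Sylow 2 G} (hP : Nat.card (P : Subgroup G) = 4)
  (hexp : ∀ u ∈ (P : Subgroup G), u * u = 1)

include hP hexp

/-- Every 2-element lies in a Klein four Sylow subgroup. -/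
lemma exists_klein_sylow {u : G} (hu : ∃ k : ℕ, orderOf u = 2 ^ k) :
    ∃ Q : Sylow 2 G, u ∈ (Q : Subgroup G) ∧ Nat.card (Q : Subgroup G) = 4 ∧
      ∀ v ∈ (Q : Subgroup G), v * v = 1 := by
  haveI : Fact (Nat.Prime 2) := ⟨Nat.prime_two⟩
  obtain ⟨k, hk⟩ := hu
  obtain ⟨Q, hQ⟩ := (IsPGroup.of_card (p := 2) (n := k)
    (by rw [Nat.card_zpowers, hk] : Nat.card (Subgroup.zpowers u) = 2 ^ k)).exists_le_sylow
  refine ⟨Q, hQ (Subgroup.mem_zpowers u), ?_, fun v hv => ?_⟩
  · rw [Q.card_eq_multiplicity, ← P.card_eq_multiplicity, hP]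
  · obtain ⟨g, hg⟩ := MulAction.exists_smul_eq G P Q
    rw [← hg, Sylow.coe_subgroup_smul, Subgroup.mem_pointwise_smul_iff_inv_smul_mem] at hv
    have := hexp _ hv
    rw [← smul_mul'] at this
    exact (smul_eq_iff_eq_inv_smul _).1 this |>.trans (smul_one _)

/-- An element of even order is an involution times a commuting element of odd order. -/
lemma exists_involution_decomp {g : G} (hg : 2 ∣ orderOf g) :
    ∃ x y : G, orderOf x = 2 ∧ g = x * y ∧ Commute x y ∧ ¬ 2 ∣ orderOf y := by
  haveI : Fact (Nat.Prime 2) := ⟨Nat.prime_two⟩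
  obtain ⟨x, y, hy, hc, hx, hny⟩ := exists_isPPart' (p := 2) Nat.prime_two g
  obtain ⟨Q, hxQ, -, hQ2⟩ := exists_klein_sylow hP hexp hx
  refine ⟨x, y, orderOf_eq_prime (by rw [pow_two]; exact hQ2 x hxQ) ?_, hy.symm, hc, hny⟩
  rintro rfl
  rw [one_mul] at hy
  exact hny (hy ▸ hg)

variable (hM : IsPModular 2 M)

include hM

/-- The kernel of the principal block in the section of an involution. -/
theorem colKer_involution_section {z y w : G} (hz : orderOf z = 2) (hy : Commute z y)
    (hw : Commute z w) (hy2 : ¬ 2 ∣ orderOf y) (hw2 : ¬ 2 ∣ orderOf w) :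
    colKer (principalBlock M G) (z * y) (z * w) = 4 := by
  classical
  obtain ⟨Q, hzQ, hQc, hQ2⟩ := exists_klein_sylow hP hexp ⟨1, by rw [hz, pow_one]⟩
  have hz1 : z ≠ 1 := fun h => by rw [h, orderOf_one] at hz; omega
  set H := Subgroup.centralizer ({z} : Set G) with hH
  obtain ⟨L, hLn, hLi, hLo, hL⟩ : ∃ L : Subgroup H, L.Normal ∧ L.index = 4 ∧
      ¬ 2 ∣ Nat.card L ∧ ∀ c, c ∈ L ↔ ¬ 2 ∣ orderOf c :=
    exists_odd_complement Q hQc hQ2 hzQ hz1
  letI := Fintype.ofFinite H
  have hH' : H = Subgroup.centralizer (Subgroup.zpowers z : Set G) := (centralizer_zpowers z).symm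
  set y' : H := ⟨y, Subgroup.mem_centralizer_singleton_iff.2 hy.symm.eq⟩
  set w' : H := ⟨w, Subgroup.mem_centralizer_singleton_iff.2 hw.symm.eq⟩
  have hy' : ¬ 2 ∣ orderOf y' := by rw [← Subgroup.orderOf_coe]; exact hy2
  have hw' : ¬ 2 ∣ orderOf w' := by rw [← Subgroup.orderOf_coe]; exact hw2
  have hx : ∃ k : ℕ, orderOf z = 2 ^ k := ⟨1, by rw [hz, pow_one]⟩
  have hB : IsPBlock M (principalBlock M G) := isPBlock_blockOf (principal G)
  show colKer _ (z * (y' : G)) (z * (w' : G)) = 4
  rw [colKer_section hM hx hH' hB hy' hw', filter_induced_principal hM hx hH',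
    Finset.sum_singleton, colKer_eq]
  refine Eq.trans (Finset.sum_congr (Finset.filter_congr fun χ _ =>
    mem_principalBlock_iff hM L hLo (k := 2) hLi χ) fun χ hχ => ?_)
    ((sum_sq_trivial_on L).trans (by rw [hLi]; norm_num))
  rw [(Finset.mem_filter.1 hχ).2 y' ((hL y').2 hy'), (Finset.mem_filter.1 hχ).2 w' ((hL w').2 hw'),
    irr_apply_one_eq_deg, Complex.conj_natCast]

/-- The principal block is constant on the section of an involution. -/
theorem apply_involution_mul {z y : G} (hz : orderOf z = 2) (hy : Commute z y)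
    (hy2 : ¬ 2 ∣ orderOf y) {χ : IrrCharacter G} (hχ : χ ∈ principalBlock M G) :
    (χ : G → ℂ) (z * y) = (χ : G → ℂ) z := by
  classical
  have h1 : ¬ 2 ∣ orderOf (1 : G) := by rw [orderOf_one]; norm_num
  have k1 := colKer_involution_section hP hexp hM hz hy hy hy2 hy2
  have k2 := colKer_involution_section hP hexp hM hz hy (Commute.one_right z) hy2 h1
  have k3 := colKer_involution_section hP hexp hM hz (Commute.one_right z) hy h1 hy2
  have k4 := colKer_involution_section hP hexp hM hz (Commute.one_right z) (Commute.one_right z) h1 h1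
  rw [mul_one] at k2 k3 k4
  rw [colKer_eq] at k1 k2 k3 k4
  set S := Finset.univ.filter (fun φ : IrrCharacter G => φ ∈ principalBlock M G)
  have hsum : ((∑ φ ∈ S, Complex.normSq ((φ : G → ℂ) (z * y) - (φ : G → ℂ) z) : ℝ) : ℂ) = 0 := by
    rw [Complex.ofReal_sum, Finset.sum_congr rfl fun (φ : IrrCharacter G) (_ : φ ∈ S) => show
      ((Complex.normSq ((φ : G → ℂ) (z * y) - (φ : G → ℂ) z) : ℝ) : ℂ) =
        (φ : G → ℂ) (z * y) * conj ((φ : G → ℂ) (z * y)) - (φ : G → ℂ) (z * y) * conj ((φ : G → ℂ) z)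
        - ((φ : G → ℂ) z * conj ((φ : G → ℂ) (z * y)) - (φ : G → ℂ) z * conj ((φ : G → ℂ) z)) by
      rw [← Complex.mul_conj, map_sub]; ring]
    rw [Finset.sum_sub_distrib, Finset.sum_sub_distrib, Finset.sum_sub_distrib, k1, k2, k3, k4]
    ring
  have h0 := (Finset.sum_eq_zero_iff_of_nonneg fun φ _ => Complex.normSq_nonneg _).1
    (Complex.ofReal_eq_zero.1 hsum) χ (Finset.mem_filter.2 ⟨Finset.mem_univ _, hχ⟩)
  exact sub_eq_zero.1 (Complex.normSq_eq_zero.1 h0)

variable (hone : ∀ s t : G, orderOf s = 2 → orderOf t = 2 → IsConj s t)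

include hone

/-- The principal block has four characters, each constant and `±1` on the elements of even
order. -/
theorem klein_values [DecidablePred (· ∈ principalBlock M G)] :
    ∃ ε : IrrCharacter G → ℤ, (Finset.univ.filter (· ∈ principalBlock M G)
      : Finset (IrrCharacter G)).card = 4 ∧ ε (principal G) = 1 ∧
      ∀ χ ∈ principalBlock M G, (ε χ = 1 ∨ ε χ = -1) ∧
        ∀ g : G, 2 ∣ orderOf g → (χ : G → ℂ) g = (ε χ : ℂ) := by
  classical
  haveI : Fact (Nat.Prime 2) := ⟨Nat.prime_two⟩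
  have h2G : 2 ∣ Nat.card G := by
    refine (show 2 ∣ Nat.card (P : Subgroup G) by rw [hP]; norm_num).trans ?_
    exact Subgroup.card_subgroup_dvd_card _
  obtain ⟨z, hz⟩ := exists_prime_orderOf_dvd_card' 2 h2G
  choose n hn using fun χ : IrrCharacter G => (Cfsg.Agent.S0944.result χ z hz)
  have hval : ∀ χ ∈ principalBlock M G, ∀ g : G, 2 ∣ orderOf g →
      (χ : G → ℂ) g = (n χ : ℂ) := by
    intro χ hχ g hg
    obtain ⟨x, y, hx, rfl, hc, hy⟩ := exists_involution_decomp hP hexp hg
    obtain ⟨a, ha⟩ := isConj_iff.1 (hone x z hx hz)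
    rw [apply_involution_mul hP hexp hM hx hc hy hχ, ← (hn χ).1, ← ha, isClassFunction_irr χ]
  have hB : IsPBlock M (principalBlock M G) := isPBlock_blockOf (principal G)
  have h1B : principal G ∈ principalBlock M G := mem_blockOf_self hM (principal G)
  have hnp : n (principal G) = 1 := by
    have := (hn (principal G)).1
    exact_mod_cast this.symm.trans (show ((principal G : IrrCharacter G) : G → ℂ) z = 1 from rfl)
  have hne : ∀ χ ∈ principalBlock M G, n χ ≠ 0 := by
    intro χ hχ h0
    have hvan : ∀ g : G, orderOf g = 2 → (χ : G → ℂ) g = 0 := fun g hg => by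
      rw [hval χ hχ g (dvd_of_eq hg.symm), h0, Int.cast_zero]
    have hne1 : χ ≠ principal G := fun h => by rw [h, hnp] at h0; exact one_ne_zero h0
    have hfac : (Nat.card G).factorization 2 ≠ 0 :=
      (Nat.prime_two.factorization_pos_of_dvd Nat.card_pos.ne' h2G).ne'
    have hreg := (regInt_height_zero hM hB h1B (blockHeight_one _) hχ).1
    apply hreg
    apply Int.cast_injective (α := ℂ)
    rw [regInt_spec Nat.prime_two, Int.cast_zero, mul_eq_zero]
    right
    have e : classInner (pRegularPart 2 ((principal G : IrrCharacter G) : G → ℂ)) (χ : G → ℂ) =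
        classInner ((principal G : IrrCharacter G) : G → ℂ) (χ : G → ℂ) := by
      rw [classInner_def, classInner_def]
      congr 1
      refine Finset.sum_congr rfl fun g _ => ?_
      rw [pRegularPart_apply]
      split_ifs with hg
      · rw [hval χ hχ g hg, h0, Int.cast_zero, map_zero, mul_zero, mul_zero]
      · rfl
    rw [e, classInner_irr_ne (Ne.symm hne1)]
  have hz2 : 2 ∣ orderOf z := dvd_of_eq hz.symm
  have k4 := colKer_involution_section hP hexp hM hz (Commute.one_right z) (Commute.one_right z)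
    (by rw [orderOf_one]; norm_num) (by rw [orderOf_one]; norm_num)
  rw [mul_one, colKer_eq, Finset.sum_congr rfl fun χ hχ => by
    rw [hval χ (Finset.mem_filter.1 hχ).2 z hz2, map_intCast, ← Int.cast_mul], ← Int.cast_sum,
    show (4 : ℂ) = ((4 : ℤ) : ℂ) by norm_num, Int.cast_inj] at k4
  set S := Finset.univ.filter (fun φ : IrrCharacter G => φ ∈ principalBlock M G) with hS
  have hpS : principal G ∈ S := Finset.mem_filter.2 ⟨Finset.mem_univ _, h1B⟩
  have hsq : ∀ χ ∈ S, n χ * n χ = 1 := by
    intro χ hχ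
    by_cases hc : χ = principal G
    · rw [hc, hnp, one_mul]
    have hle : n χ * n χ + n (principal G) * n (principal G) ≤ 4 := by
      refine le_trans (le_of_eq ?_) (le_of_le_of_eq (Finset.sum_le_sum_of_subset_of_nonneg
        (s := {χ, principal G}) ?_ fun φ _ _ => mul_self_nonneg (n φ)) k4)
      · rw [Finset.sum_pair hc]
      · intro φ hφ
        rcases Finset.mem_insert.1 hφ with rfl | hφ
        · exact hχ
        · exact Finset.mem_singleton.1 hφ ▸ hpS
    have h0 := hne χ (Finset.mem_filter.1 hχ).2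
    rw [hnp] at hle
    have h1 : n χ < 2 := by nlinarith
    have h2 : -2 < n χ := by nlinarith
    interval_cases hv : n χ <;> simp_all
  refine ⟨n, ?_, hnp, fun χ hχ => ⟨?_, hval χ hχ⟩⟩
  · rw [Finset.sum_congr rfl hsq, Finset.sum_const, nsmul_one] at k4
    exact_mod_cast k4
  · exact mul_self_eq_one_iff.1 (hsq χ (Finset.mem_filter.2 ⟨Finset.mem_univ _, hχ⟩))

/-- The regular rank is three. -/
theorem klein_blockRank : blockRank 2 (principalBlock M G) = 3 := by
  classical
  obtain ⟨ε, hcard, hε1, hε⟩ := klein_values hP hexp hM hone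
  haveI : Fact (Nat.Prime 2) := ⟨Nat.prime_two⟩
  have h2G : 2 ∣ Nat.card G := by
    refine (show 2 ∣ Nat.card (P : Subgroup G) by rw [hP]; norm_num).trans ?_
    exact Subgroup.card_subgroup_dvd_card _
  obtain ⟨z, hz⟩ := exists_prime_orderOf_dvd_card' 2 h2G
  have hz2 : 2 ∣ orderOf z := dvd_of_eq hz.symm
  have hB : IsPBlock M (principalBlock M G) := isPBlock_blockOf (principal G)
  have h1B : principal G ∈ principalBlock M G := mem_blockOf_self hM (principal G)
  set S := Finset.univ.filter (fun φ : IrrCharacter G => φ ∈ principalBlock M G) with hS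
  set s : ℕ := (Finset.univ.filter (fun g : G => 2 ∣ orderOf g)).card with hs
  have hsq : ∀ χ ∈ S, ((ε χ : ℂ)) * (ε χ : ℂ) = 1 := fun χ hχ => by
    rcases (hε χ (Finset.mem_filter.1 hχ).2).1 with h | h <;> rw [h] <;> norm_num
  have hG : (Nat.card G : ℂ) ≠ 0 := Nat.cast_ne_zero.2 Nat.card_pos.ne'
  have hsing : ∀ χ ∈ S, ∑ g ∈ Finset.univ.filter (fun g : G => 2 ∣ orderOf g), (χ : G → ℂ) g =
      (s : ℂ) * (ε χ : ℂ) := fun χ hχ => by
    rw [Finset.sum_congr rfl fun g hg => (hε χ (Finset.mem_filter.1 hχ).2).2 g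
      (Finset.mem_filter.1 hg).2, Finset.sum_const, nsmul_eq_mul]
  have hreg : ∀ χ ∈ S, ∑ g ∈ Finset.univ.filter (fun g : G => ¬ 2 ∣ orderOf g), (χ : G → ℂ) g =
      (if χ = principal G then (Nat.card G : ℂ) else 0) - (s : ℂ) * (ε χ : ℂ) := fun χ hχ => by
    have h := classInner_irrCharacter χ (principal G)
    rw [classInner_def, inv_mul_eq_iff_eq_mul₀ hG] at h
    rw [← hsing χ hχ, eq_sub_iff_add_eq, Finset.sum_filter_not_add_sum_filter]
    refine Eq.trans (Finset.sum_congr rfl fun g _ => ?_) (h.trans (by split_ifs <;> simp))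
    show (χ : G → ℂ) g = (χ : G → ℂ) g * conj (1 : ℂ)
    rw [map_one, mul_one]
  have hzero : ∑ χ ∈ S, (ε χ : ℂ) * ∑ g ∈ Finset.univ.filter (fun g : G => ¬ 2 ∣ orderOf g),
      (χ : G → ℂ) g = 0 := by
    simp only [Finset.mul_sum]
    rw [Finset.sum_comm]
    refine Finset.sum_eq_zero fun g hg => ?_
    rw [← block_orthogonality_regular hM hB (Finset.mem_filter.1 hg).2 hz2]
    exact Finset.sum_congr rfl fun χ hχ => by
      rw [(hε χ (Finset.mem_filter.1 hχ).2).2 z hz2, map_intCast, mul_comm]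
  rw [Finset.sum_congr rfl fun χ hχ => by
    rw [hreg χ hχ, mul_sub, show (ε χ : ℂ) * ((s : ℂ) * (ε χ : ℂ)) = (s : ℂ) * ((ε χ : ℂ) * (ε χ : ℂ))
      by ring, hsq χ hχ, mul_one, mul_ite, mul_zero],
    Finset.sum_sub_distrib, Finset.sum_const, hcard, Finset.sum_ite_eq',
    if_pos (Finset.mem_filter.2 ⟨Finset.mem_univ _, h1B⟩), hε1, nsmul_eq_mul] at hzero
  push_cast at hzero
  have hrank := sum_colKer_regular hM hB
  have htot : ∑ w : G, colKer (principalBlock M G) w w = (4 : ℂ) * (Nat.card G : ℂ) := by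
    simp only [colKer_eq]
    rw [Finset.sum_comm, Finset.sum_congr rfl fun (χ : IrrCharacter G) _ => show ∑ w : G, (χ : G → ℂ) w *
      conj ((χ : G → ℂ) w) = (Nat.card G : ℂ) by
        have h := classInner_irr_self χ
        rw [classInner_def, inv_mul_eq_iff_eq_mul₀ hG, mul_one] at h
        exact h, Finset.sum_const, hcard, nsmul_eq_mul]
    norm_num
  have hsingK : ∑ w ∈ Finset.univ.filter (fun g : G => 2 ∣ orderOf g),
      colKer (principalBlock M G) w w = (s : ℂ) * 4 := by
    rw [Finset.sum_congr rfl fun w hw => show colKer (principalBlock M G) w w = 4 by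
      rw [colKer_eq, Finset.sum_congr rfl fun χ hχ => by
        rw [(hε χ (Finset.mem_filter.1 hχ).2).2 w (Finset.mem_filter.1 hw).2, map_intCast,
          hsq χ hχ], Finset.sum_const, hcard, nsmul_eq_mul]
      norm_num, Finset.sum_const, nsmul_eq_mul]
  rw [← Finset.sum_filter_not_add_sum_filter (s := Finset.univ) (p := fun g : G => 2 ∣ orderOf g),
    hrank, hsingK] at htot
  have : (blockRank 2 (principalBlock M G) : ℂ) = 3 :=
    mul_left_cancel₀ hG (by linear_combination htot + hzero)
  exact_mod_cast this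

/-- The degree of a member is congruent to its sign modulo four. -/
theorem klein_deg_congr {χ : IrrCharacter G} {e : ℤ}
    (he : ∀ g : G, 2 ∣ orderOf g → (χ : G → ℂ) g = (e : ℂ)) :
    (4 : ℤ) ∣ (deg (χ : G → ℂ) : ℤ) - e := by
  classical
  haveI : Fact (Nat.Prime 2) := ⟨Nat.prime_two⟩
  letI := Fintype.ofFinite (P : Subgroup G)
  obtain ⟨m, hm⟩ := IsCharacter.exists_mult
    (IsCharacter.restrict (isCharacter_of_irr χ.2) (P : Subgroup G))
    (isIrrCharacter_one (G := (P : Subgroup G)))
  rw [classInner_def, inv_mul_eq_iff_eq_mul₀ (Nat.cast_ne_zero.2 Nat.card_pos.ne'),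
    ← Finset.add_sum_erase _ _ (Finset.mem_univ (1 : (P : Subgroup G))), hP] at hm
  rw [Finset.sum_congr rfl fun (u : (P : Subgroup G)) (hu : u ∈ Finset.univ.erase 1) => show (χ : G → ℂ) (u : G) * conj (1 : ℂ) = (e : ℂ) by
      have hne : (u : G) ≠ 1 := fun h => Finset.ne_of_mem_erase hu (Subtype.ext h)
      rw [map_one, mul_one, he]
      exact (orderOf_eq_prime (p := 2) (by rw [pow_two]; exact hexp _ u.2) hne).symm.dvd,
    Finset.sum_const, Finset.card_erase_of_mem (Finset.mem_univ _), Finset.card_univ,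
    ← Nat.card_eq_fintype_card, hP, map_one, mul_one, OneMemClass.coe_one, irr_apply_one_eq_deg,
    nsmul_eq_mul] at hm
  have h : (deg (χ : G → ℂ) : ℤ) + 3 * e = 4 * (m : ℤ) := by
    apply Int.cast_injective (α := ℂ)
    push_cast at hm ⊢
    linear_combination hm
  exact ⟨(m : ℤ) - e, by linarith⟩

end Cfsg.Lib.Blocks
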