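import Mathlib
import Cfsg.Prelude.Def_Blocks
import Cfsg.Agent.Blocks.KleinFour
import Cfsg.Agent.Blocks.Eigen
import Cfsg.Agent.S0950

/-!
# Groups with a quaternion Sylow 2-subgroup of order eight
-/

set_option autoImplicit false
set_option linter.unusedSectionVars false

namespace Cfsg.Lib.Blocks

open Cfsg.Lib.Chars
open scoped ComplexConjugate

universe u

variable {G : Type u} [Group G] [Fintype G] {M : Ideal AlgInt}

/-- The facts about a quaternion group of order eight that are used. -/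
lemma q8_facts {Q : Subgroup G} (e : Q ≃* QuaternionGroup 2) :
    Nat.card Q = 8 ∧
    (∃ z ∈ Q, orderOf z = 2 ∧ (∀ u ∈ Q, u * u = 1 → u = 1 ∨ u = z) ∧
      ∀ u ∈ Q, u * u ≠ 1 → u * u = z) ∧
    (∀ u ∈ Q, ∀ v ∈ Q, u * u ≠ 1 → Commute u v → v ∈ Subgroup.zpowers u) ∧
    (∀ u ∈ Q, ∃ v ∈ Q, v * u * v⁻¹ = u⁻¹) ∧
    ∃ u ∈ Q, u * u ≠ 1 := by
  have f1 : ∀ u : QuaternionGroup 2, u * u = 1 → u = 1 ∨ u = .a 2 := by decide
  have f2 : ∀ u : QuaternionGroup 2, u * u ≠ 1 → u * u = .a 2 := by decide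
  have f3 : ∀ u v : QuaternionGroup 2, u * u ≠ 1 → u * v = v * u →
      v = 1 ∨ v = u ∨ v = u * u ∨ v = u * u * u := by decide
  have f4 : ∀ u : QuaternionGroup 2, ∃ v : QuaternionGroup 2, v * u * v⁻¹ = u⁻¹ := by decide
  have hinj : ∀ {u v : Q}, e u = e v → (u : G) = v := fun h => congrArg Subtype.val (e.injective h)
  have hsq : ∀ {u : G} (hu : u ∈ Q), u * u = 1 ↔ e ⟨u, hu⟩ * e ⟨u, hu⟩ = 1 := fun {u} hu => by
    rw [← map_mul, ← map_one e, e.injective.eq_iff, Subtype.ext_iff]; rfl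
  refine ⟨?_, ⟨(e.symm (.a 2) : Q), (e.symm (.a 2)).2, ?_, fun u hu h => ?_, fun u hu h => ?_⟩,
    fun u hu v hv h hc => ?_, fun u hu => ?_, ?_⟩
  · rw [Nat.card_congr e.toEquiv, Nat.card_eq_fintype_card, QuaternionGroup.card]
  · rw [Subgroup.orderOf_coe, MulEquiv.orderOf_eq]
    refine orderOf_eq_prime (p := 2) ?_ ?_ <;> decide
  · rcases f1 _ ((hsq hu).1 h) with h' | h'
    · exact Or.inl (hinj (h'.trans (map_one e).symm))
    · exact Or.inr (hinj (h'.trans (e.apply_symm_apply _).symm))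
  · refine hinj (u := ⟨u, hu⟩ * ⟨u, hu⟩) ?_
    rw [map_mul, e.apply_symm_apply]
    exact f2 _ (mt (hsq hu).2 h)
  · have hc' : e ⟨u, hu⟩ * e ⟨v, hv⟩ = e ⟨v, hv⟩ * e ⟨u, hu⟩ := by
      rw [← map_mul, ← map_mul]; exact congrArg e (Subtype.ext hc.eq)
    rcases f3 _ _ (mt (hsq hu).2 h) hc' with h' | h' | h' | h'
    · rw [show v = 1 from hinj (h'.trans (map_one e).symm)]; exact one_mem _
    · rw [show v = u from hinj h']; exact Subgroup.mem_zpowers u
    · rw [← map_mul] at h'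
      rw [show v = u * u from hinj h']
      exact mul_mem (Subgroup.mem_zpowers u) (Subgroup.mem_zpowers u)
    · rw [← map_mul, ← map_mul] at h'
      rw [show v = u * u * u from hinj h']
      exact mul_mem (mul_mem (Subgroup.mem_zpowers u) (Subgroup.mem_zpowers u))
        (Subgroup.mem_zpowers u)
  · obtain ⟨v, hv⟩ := f4 (e ⟨u, hu⟩)
    refine ⟨(e.symm v : Q), (e.symm v).2, hinj (u := e.symm v * ⟨u, hu⟩ * (e.symm v)⁻¹)
      (v := (⟨u, hu⟩ : Q)⁻¹) ?_⟩
    rw [map_mul, map_mul, map_inv, map_inv, e.apply_symm_apply, hv]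
  · refine ⟨(e.symm (.a 1) : Q), (e.symm (.a 1)).2, fun h => ?_⟩
    rw [hsq (e.symm (.a 1)).2, Subtype.coe_eta, e.apply_symm_apply] at h
    revert h
    decide

variable {S : Sylow 2 G} (eS : (S : Subgroup G) ≃* QuaternionGroup 2)

include eS

/-- Every 2-element lies in a quaternion Sylow subgroup. -/
lemma exists_q8_sylow {u : G} (hu : ∃ k : ℕ, orderOf u = 2 ^ k) :
    ∃ Q : Sylow 2 G, u ∈ (Q : Subgroup G) ∧ Nonempty ((Q : Subgroup G) ≃* QuaternionGroup 2) := by
  haveI : Fact (Nat.Prime 2) := ⟨Nat.prime_two⟩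
  obtain ⟨k, hk⟩ := hu
  obtain ⟨Q, hQ⟩ := (IsPGroup.of_card (p := 2) (n := k)
    (by rw [Nat.card_zpowers, hk] : Nat.card (Subgroup.zpowers u) = 2 ^ k)).exists_le_sylow
  exact ⟨Q, hQ (Subgroup.mem_zpowers u), ⟨(Sylow.equiv Q S).trans eS⟩⟩

/-- Commuting involutions are equal. -/
lemma eq_of_commute_involutions {s t : G} (hs : orderOf s = 2) (ht : orderOf t = 2)
    (hc : Commute s t) : s = t := by
  haveI : Fact (Nat.Prime 2) := ⟨Nat.prime_two⟩
  have hsP : IsPGroup 2 (Subgroup.zpowers s) :=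
    IsPGroup.of_card (n := 1) (by rw [Nat.card_zpowers, hs, pow_one])
  have htP : IsPGroup 2 (Subgroup.zpowers t) :=
    IsPGroup.of_card (n := 1) (by rw [Nat.card_zpowers, ht, pow_one])
  have hle : Subgroup.zpowers s ≤ Subgroup.normalizer (Subgroup.zpowers t : Set G) := by
    refine le_trans (Subgroup.zpowers_le.2 ?_) (Subgroup.centralizer_le_normalizer _)
    rw [centralizer_zpowers, Subgroup.mem_centralizer_singleton_iff]
    exact hc.eq
  obtain ⟨Q, hQ⟩ := (hsP.to_sup_of_normal_right' htP hle).exists_le_sylow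
  obtain ⟨z, -, -, h1, -⟩ := (q8_facts ((Sylow.equiv Q S).trans eS)).2.1
  have key : ∀ w : G, orderOf w = 2 → w ∈ (Q : Subgroup G) → w = z := fun w hw hwQ =>
    (h1 w hwQ (by rw [← pow_two, ← hw, pow_orderOf_eq_one])).resolve_left fun h => by
      rw [h, orderOf_one] at hw; omega
  rw [key s hs (hQ (Subgroup.mem_sup_left (Subgroup.mem_zpowers s))),
    key t ht (hQ (Subgroup.mem_sup_right (Subgroup.mem_zpowers t)))]

/-- A 2-element has order at most four, and its square is an involution if it is not one. -/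
lemma two_element_cases {u : G} (hu : ∃ k : ℕ, orderOf u = 2 ^ k) :
    u = 1 ∨ orderOf u = 2 ∨ (orderOf u = 4 ∧ orderOf (u * u) = 2) := by
  haveI : Fact (Nat.Prime 2) := ⟨Nat.prime_two⟩
  obtain ⟨Q, huQ, ⟨eQ⟩⟩ := exists_q8_sylow eS hu
  obtain ⟨z, -, hz, h1, h2⟩ := (q8_facts eQ).2.1
  by_cases h : u * u = 1
  · by_cases h' : u = 1
    · exact Or.inl h'
    · exact Or.inr (Or.inl (orderOf_eq_prime (by rwa [pow_two]) h'))
  · refine Or.inr (Or.inr ⟨?_, h2 u huQ h ▸ hz⟩)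
    refine orderOf_eq_prime_pow (p := 2) (n := 1) (by rwa [pow_one, pow_two]) ?_
    rw [show 2 ^ (1 + 1) = 2 + 2 by norm_num, pow_add, pow_two, h2 u huQ h, ← pow_two, ← hz,
      pow_orderOf_eq_one]

/-- The product of two involutions has odd order. -/
lemma odd_mul_involutions {s t : G} (hs : orderOf s = 2) (ht : orderOf t = 2) :
    ¬ 2 ∣ orderOf (s * t) := by
  intro h2
  obtain ⟨m, hm⟩ := h2
  have hn := orderOf_pos (s * t)
  set w := (s * t) ^ m with hw
  have hw2 : orderOf w = 2 := by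
    rw [hw, orderOf_pow_of_dvd (by omega) ⟨2, by rw [hm, mul_comm]⟩, hm,
      Nat.mul_div_cancel _ (by omega : 0 < m)]
  have hs' : s * s = 1 := by rw [← pow_two, ← hs, pow_orderOf_eq_one]
  have ht' : t * t = 1 := by rw [← pow_two, ← ht, pow_orderOf_eq_one]
  have hwi : w⁻¹ = w := inv_eq_of_mul_eq_one_right (by rw [← pow_two, ← hw2, pow_orderOf_eq_one])
  have hsw : s * w * s⁻¹ = w := by
    rw [hw, ← conj_pow, show s * (s * t) * s⁻¹ = (s * t)⁻¹ by
      rw [mul_inv_rev, ← mul_assoc, hs', one_mul, inv_eq_of_mul_eq_one_right ht'], inv_pow]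
    exact hwi
  have e1 : w = s := (eq_of_commute_involutions eS hs hw2 (mul_inv_eq_iff_eq_mul.1 hsw)).symm
  have hc : Commute w (s * t) := (Commute.refl (s * t)).pow_left m
  have hst : Commute s t := by
    have h := (e1 ▸ hc : Commute s (s * t)).eq
    show s * t = t * s
    rw [mul_assoc s t s] at h
    exact mul_left_cancel h
  have e2 := eq_of_commute_involutions eS hs ht hst
  rw [← e2, hs', orderOf_one] at hm
  omega

/-- All involutions are conjugate. -/
lemma involutions_conj {s t : G} (hs : orderOf s = 2) (ht : orderOf t = 2) : IsConj s t := by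
  obtain ⟨k, hk⟩ : Odd (orderOf (s * t)) :=
    Nat.not_even_iff_odd.1 fun h => odd_mul_involutions eS hs ht (even_iff_two_dvd.1 h)
  have hs' : s * s = 1 := by rw [← pow_two, ← hs, pow_orderOf_eq_one]
  have ht' : t * t = 1 := by rw [← pow_two, ← ht, pow_orderOf_eq_one]
  have hts : t * (s * t) = (s * t)⁻¹ * t := by
    rw [mul_inv_rev, inv_eq_of_mul_eq_one_right hs', inv_eq_of_mul_eq_one_right ht', ← mul_assoc]
  have hmove : ∀ m : ℕ, t * (s * t) ^ m = ((s * t) ^ m)⁻¹ * t := by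
    intro m
    induction m with
    | zero => simp
    | succ m ih => rw [pow_succ, ← mul_assoc, ih, mul_assoc, hts, ← mul_assoc, ← mul_inv_rev,
        ← pow_succ', ← pow_succ]
  refine isConj_iff.2 ⟨(s * t) ^ k, ?_⟩
  calc (s * t) ^ k * s * ((s * t) ^ k)⁻¹ = (s * t) ^ k * (s * t) * t * ((s * t) ^ k)⁻¹ := by
        rw [mul_assoc ((s * t) ^ k) (s * t) t, mul_assoc s t t, ht', mul_one]
    _ = (s * t) ^ (k + 1) * (t * ((s * t) ^ k)⁻¹) := by rw [pow_succ]; group
    _ = (s * t) ^ (k + 1) * ((s * t) ^ k * t) := by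
        congr 1
        rw [mul_inv_eq_iff_eq_mul, mul_assoc, hmove k, ← mul_assoc, mul_inv_cancel, one_mul]
    _ = t := by
        rw [← mul_assoc, ← pow_add, show k + 1 + k = orderOf (s * t) by omega, pow_orderOf_eq_one,
          one_mul]

variable (hnc : ∀ N : Subgroup G, N.Normal → ¬ Subgroup.IsComplement' N (S : Subgroup G))

include hnc

/-- All elements of order four are conjugate. -/
lemma order_four_conj {i j : G} (hi : orderOf i = 4) (hj : orderOf j = 4) : IsConj i j := by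
  haveI : Fact (Nat.Prime 2) := ⟨Nat.prime_two⟩
  have inS : ∀ {u : G}, orderOf u = 4 →
      ∃ u' ∈ (S : Subgroup G), orderOf u' = 4 ∧ IsConj u u' := by
    intro u hu
    obtain ⟨Q, huQ, -⟩ := exists_q8_sylow eS (u := u) ⟨2, by rw [hu]; norm_num⟩
    obtain ⟨g, hg⟩ := MulAction.exists_smul_eq G Q S
    refine ⟨g * u * g⁻¹, ?_, ?_, isConj_iff.2 ⟨g, rfl⟩⟩
    · rw [← hg, Sylow.coe_subgroup_smul]
      exact Subgroup.smul_mem_pointwise_smul u (MulAut.conj g) _ huQ
    · rw [← MulAut.conj_apply, MulEquiv.orderOf_eq, hu]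
  obtain ⟨i', hiS, hi4, hci⟩ := inS hi
  obtain ⟨j', hjS, hj4, hcj⟩ := inS hj
  refine hci.trans (IsConj.trans ?_ hcj.symm)
  obtain ⟨n, -, hn⟩ := Cfsg.Agent.S0950.result S eS hnc (Subgroup.zpowers i') (Subgroup.zpowers j')
    (Subgroup.zpowers_le.2 hiS) (Subgroup.zpowers_le.2 hjS)
    (by rw [Nat.card_zpowers, hi4]) (by rw [Nat.card_zpowers, hj4])
  rw [MonoidHom.map_zpowers] at hn
  have hmem : n * i' * n⁻¹ ∈ Subgroup.zpowers j' := hn ▸ Subgroup.mem_zpowers _
  classical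
  obtain ⟨m, hm⟩ := mem_zpowers_iff_mem_range_orderOf.1 hmem |> Finset.mem_image.1
  rw [hj4, Finset.mem_range] at hm
  have hm4 : orderOf (j' ^ m) = 4 := by rw [hm.2, ← MulAut.conj_apply, MulEquiv.orderOf_eq, hi4]
  rw [orderOf_pow, hj4] at hm4
  obtain ⟨v, -, hv⟩ := (q8_facts eS).2.2.2.1 j' hjS
  have h13 : m = 1 ∨ m = 3 := by
    obtain ⟨hlt, -⟩ := hm
    interval_cases m <;> simp_all
  rcases h13 with rfl | rfl
  · exact isConj_iff.2 ⟨n, by rw [← hm.2, pow_one]⟩
  · refine (isConj_iff.2 ⟨n, hm.2.symm⟩).trans (isConj_iff.2 ⟨v⁻¹, ?_⟩)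
    have : j' ^ 3 = j'⁻¹ := eq_inv_of_mul_eq_one_left (by rw [← pow_succ, show 3 + 1 = orderOf j' by omega, pow_orderOf_eq_one])
    rw [this, ← hv]
    group

end Cfsg.Lib.Blocks
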