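import Mathlib
import Cfsg.Agent.Blocks.QuaternionBasics

/-!
# The centralizers of 2-elements for a quaternion Sylow 2-subgroup of order eight
-/

set_option autoImplicit false
set_option linter.unusedSectionVars false

namespace Cfsg.Lib.Blocks

open Cfsg.Lib.Chars
open scoped ComplexConjugate

universe u

variable {G : Type u} [Group G] [Fintype G] {M : Ideal AlgInt}

variable {S : Sylow 2 G} (eS : (S : Subgroup G) ≃* QuaternionGroup 2)

include eS

/-- The centralizer of an element of order four has a normal 2-complement of index four. -/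
lemma exists_odd_four {i : G} (hi : orderOf i = 4) :
    ∃ L : Subgroup (Subgroup.centralizer ({i} : Set G)), L.Normal ∧ L.index = 4 ∧
      ¬ 2 ∣ Nat.card L ∧ ∀ c, c ∈ L ↔ ¬ 2 ∣ orderOf c := by
  classical
  haveI : Fact (Nat.Prime 2) := ⟨Nat.prime_two⟩
  set C := Subgroup.centralizer ({i} : Set G) with hC
  have hiC : i ∈ C := Subgroup.mem_centralizer_singleton_iff.2 rfl
  have hP : IsPGroup 2 (Subgroup.zpowers (⟨i, hiC⟩ : C)) :=
    IsPGroup.of_card (n := 2) (by rw [Nat.card_zpowers, Subgroup.orderOf_mk, hi]; norm_num)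
  obtain ⟨R, hR⟩ := hP.exists_le_sylow
  have hsub : ∀ c ∈ (R : Subgroup C), c ∈ Subgroup.zpowers (⟨i, hiC⟩ : C) := by
    intro c hc
    obtain ⟨Q, hQ⟩ := (R.2.map C.subtype).exists_le_sylow
    obtain ⟨-, -, h3, -, -⟩ := q8_facts ((Sylow.equiv Q S).trans eS)
    have hiQ : i ∈ (Q : Subgroup G) :=
      hQ ⟨⟨i, hiC⟩, hR (Subgroup.mem_zpowers _), rfl⟩
    have hne : i * i ≠ 1 := fun h => by
      have := orderOf_le_of_pow_eq_one (x := i) (n := 2) two_pos (by rw [pow_two, h])
      omega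
    obtain ⟨m, hm⟩ := h3 i hiQ (c : G) (hQ ⟨c, hc, rfl⟩) hne
      (Subgroup.mem_centralizer_singleton_iff.1 c.2).symm
    exact ⟨m, Subtype.ext (by simpa using hm)⟩
  have hReq : (R : Subgroup C) = Subgroup.zpowers (⟨i, hiC⟩ : C) := le_antisymm hsub hR
  have hRc : Nat.card (R : Subgroup C) = 4 := by
    rw [hReq, Nat.card_zpowers, Subgroup.orderOf_mk, hi]
  have hNC : Subgroup.normalizer (R : Set C) ≤ Subgroup.centralizer (R : Set C) := by
    intro n _
    refine Subgroup.mem_centralizer_iff.2 fun a ha => ?_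
    obtain ⟨m, hm⟩ := hsub a ha
    rw [← hm]
    refine ((Commute.zpow_left ?_ m).eq)
    exact Subtype.ext (Subgroup.mem_centralizer_singleton_iff.1 n.2).symm
  set L := (MonoidHom.transferSylow R hNC).ker with hL
  have hcompl := MonoidHom.ker_transferSylow_isComplement' R hNC
  have hidx : L.index = 4 := hcompl.symm.index_eq_card.trans hRc
  have hodd : ¬ 2 ∣ Nat.card L := hcompl.index_eq_card ▸ R.not_dvd_index
  refine ⟨L, inferInstance, hidx, hodd, fun c => ⟨fun hc h => hodd ?_, fun hc => ?_⟩⟩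
  · exact h.trans (by rw [← Subgroup.orderOf_mk (H := L) c hc]; exact orderOf_dvd_natCard _)
  · exact mem_of_pRegular_of_index_eq_pow Nat.prime_two L (k := 2) hidx hc

variable (hM : IsPModular 2 M)

include hM

/-- The kernel of the principal block in the section of an element of order four. -/
theorem colKer_four_section {i y w : G} (hi : orderOf i = 4) (hy : Commute i y)
    (hw : Commute i w) (hy2 : ¬ 2 ∣ orderOf y) (hw2 : ¬ 2 ∣ orderOf w) :
    colKer (principalBlock M G) (i * y) (i * w) = 4 := by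
  classical
  set H := Subgroup.centralizer ({i} : Set G) with hH
  obtain ⟨L, hLn, hLi, hLo, hL⟩ : ∃ L : Subgroup H, L.Normal ∧ L.index = 4 ∧
      ¬ 2 ∣ Nat.card L ∧ ∀ c, c ∈ L ↔ ¬ 2 ∣ orderOf c := exists_odd_four eS hi
  letI := Fintype.ofFinite H
  have hH' : H = Subgroup.centralizer (Subgroup.zpowers i : Set G) := (centralizer_zpowers i).symm
  set y' : H := ⟨y, Subgroup.mem_centralizer_singleton_iff.2 hy.symm.eq⟩
  set w' : H := ⟨w, Subgroup.mem_centralizer_singleton_iff.2 hw.symm.eq⟩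
  have hy' : ¬ 2 ∣ orderOf y' := by rw [← Subgroup.orderOf_coe]; exact hy2
  have hw' : ¬ 2 ∣ orderOf w' := by rw [← Subgroup.orderOf_coe]; exact hw2
  have hx : ∃ k : ℕ, orderOf i = 2 ^ k := ⟨2, by rw [hi]; norm_num⟩
  have hB : IsPBlock M (principalBlock M G) := isPBlock_blockOf (principal G)
  show colKer _ (i * (y' : G)) (i * (w' : G)) = 4
  rw [colKer_section hM hx hH' hB hy' hw', filter_induced_principal hM hx hH',
    Finset.sum_singleton, colKer_eq]
  refine Eq.trans (Finset.sum_congr (Finset.filter_congr fun χ _ =>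
    mem_principalBlock_iff hM L hLo (k := 2) hLi χ) fun χ hχ => ?_)
    ((sum_sq_trivial_on L).trans (by rw [hLi]; norm_num))
  rw [(Finset.mem_filter.1 hχ).2 y' ((hL y').2 hy'), (Finset.mem_filter.1 hχ).2 w' ((hL w').2 hw'),
    irr_apply_one_eq_deg, Complex.conj_natCast]

/-- The principal block is constant on the section of an element of order four. -/
theorem apply_four_mul {i y : G} (hi : orderOf i = 4) (hy : Commute i y) (hy2 : ¬ 2 ∣ orderOf y)
    {χ : IrrCharacter G} (hχ : χ ∈ principalBlock M G) :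
    (χ : G → ℂ) (i * y) = (χ : G → ℂ) i := by
  classical
  have h1 : ¬ 2 ∣ orderOf (1 : G) := by rw [orderOf_one]; norm_num
  have k1 := colKer_four_section eS hM hi hy hy hy2 hy2
  have k2 := colKer_four_section eS hM hi hy (Commute.one_right i) hy2 h1
  have k3 := colKer_four_section eS hM hi (Commute.one_right i) hy h1 hy2
  have k4 := colKer_four_section eS hM hi (Commute.one_right i) (Commute.one_right i) h1 h1
  rw [mul_one] at k2 k3 k4
  rw [colKer_eq] at k1 k2 k3 k4
  set T := Finset.univ.filter (fun φ : IrrCharacter G => φ ∈ principalBlock M G)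
  have hsum : ((∑ φ ∈ T, Complex.normSq ((φ : G → ℂ) (i * y) - (φ : G → ℂ) i) : ℝ) : ℂ) = 0 := by
    rw [Complex.ofReal_sum, Finset.sum_congr rfl fun (φ : IrrCharacter G) (_ : φ ∈ T) => show
      ((Complex.normSq ((φ : G → ℂ) (i * y) - (φ : G → ℂ) i) : ℝ) : ℂ) =
        (φ : G → ℂ) (i * y) * conj ((φ : G → ℂ) (i * y)) - (φ : G → ℂ) (i * y) * conj ((φ : G → ℂ) i)
        - ((φ : G → ℂ) i * conj ((φ : G → ℂ) (i * y)) - (φ : G → ℂ) i * conj ((φ : G → ℂ) i)) by
      rw [← Complex.mul_conj, map_sub]; ring]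
    rw [Finset.sum_sub_distrib, Finset.sum_sub_distrib, Finset.sum_sub_distrib, k1, k2, k3, k4]
    ring
  have h0 := (Finset.sum_eq_zero_iff_of_nonneg fun φ _ => Complex.normSq_nonneg _).1
    (Complex.ofReal_eq_zero.1 hsum) χ (Finset.mem_filter.2 ⟨Finset.mem_univ _, hχ⟩)
  exact sub_eq_zero.1 (Complex.normSq_eq_zero.1 h0)

omit hM

variable (hnc : ∀ N : Subgroup G, N.Normal → ¬ Subgroup.IsComplement' N (S : Subgroup G))

include hnc

/-- Values at an element of order four are integers congruent to those at its square. -/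
theorem exists_four_values {i : G} (hi : orderOf i = 4) (χ : IrrCharacter G) :
    ∃ e b : ℤ, (χ : G → ℂ) i = (e : ℂ) ∧ (χ : G → ℂ) (i * i) = (b : ℂ) ∧ 2 ∣ b - e := by
  classical
  have hinv : IsConj i i⁻¹ := order_four_conj eS hnc hi (by rw [orderOf_inv, hi])
  have hreal : conj ((χ : G → ℂ) i) = (χ : G → ℂ) i := by
    rw [← IsCharacter.conj_inv (isCharacter_of_irr χ.2)]
    obtain ⟨g, hg⟩ := isConj_iff.1 hinv
    rw [← hg, isClassFunction_irr χ]
  obtain ⟨d, hd⟩ := exists_weights (isCharacter_of_irr χ.2) i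
  have key : ∀ ω : ℂ, ω ^ 4 = 1 → ∃ a c k : ℤ, ω = (a : ℂ) + (c : ℂ) * Complex.I ∧
      ω ^ 2 = (k : ℂ) ∧ 2 ∣ k - (a + c) := by
    intro ω hω
    rcases sq_eq_one_iff.1 (show (ω ^ 2) ^ 2 = 1 by rw [← pow_mul]; exact hω) with h | h
    · rcases sq_eq_one_iff.1 h with rfl | rfl
      · exact ⟨1, 0, 1, by simp, by simp, by norm_num⟩
      · exact ⟨-1, 0, 1, by simp, by simp, by norm_num⟩
    · rw [← Complex.I_sq] at h
      rcases sq_eq_sq_iff_eq_or_eq_neg.1 h with rfl | rfl
      · exact ⟨0, 1, -1, by simp, by simp, by norm_num⟩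
      · exact ⟨0, -1, -1, by simp, by simp, by norm_num⟩
  have hsum : ∀ T : Finset ℂ, (∀ ω ∈ T, ω ^ 4 = 1) → ∃ A C K : ℤ,
      ∑ ω ∈ T, (d ω : ℂ) * ω = (A : ℂ) + (C : ℂ) * Complex.I ∧
      ∑ ω ∈ T, (d ω : ℂ) * ω ^ 2 = (K : ℂ) ∧ 2 ∣ K - (A + C) := by
    intro T
    induction T using Finset.induction_on with
    | empty => exact fun _ => ⟨0, 0, 0, by simp, by simp, by norm_num⟩
    | insert x T hx ih =>
      intro hT
      obtain ⟨A, C, K, h1, h2, h3⟩ := ih fun ω hω => hT ω (Finset.mem_insert_of_mem hω)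
      obtain ⟨a, c, k, g1, g2, g3⟩ := key x (hT x (Finset.mem_insert_self _ _))
      refine ⟨(d x : ℤ) * a + A, (d x : ℤ) * c + C, (d x : ℤ) * k + K, ?_, ?_, ?_⟩
      · rw [Finset.sum_insert hx, h1, g1]; push_cast; ring
      · rw [Finset.sum_insert hx, h2, g2]; push_cast; ring
      · have : (d x : ℤ) * k + K - ((d x : ℤ) * a + A + ((d x : ℤ) * c + C)) =
            (d x : ℤ) * (k - (a + c)) + (K - (A + C)) := by ring
        rw [this]
        exact dvd_add (dvd_mul_of_dvd_right g3 _) h3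
  obtain ⟨A, C, K, h1, h2, h3⟩ := hsum (Polynomial.nthRootsFinset (orderOf i) (1 : ℂ)) fun ω hω => by
    rw [Polynomial.mem_nthRootsFinset (orderOf_pos i)] at hω
    rwa [hi] at hω
  have e1 := hd 1
  simp only [pow_one] at e1
  have e2 := hd 2
  rw [pow_two i] at e2
  rw [e1, h1] at hreal
  have hC : C = 0 := by
    have := congrArg Complex.im hreal
    simp at this
    exact_mod_cast (by linarith : (C : ℝ) = 0)
  refine ⟨A, K, ?_, e2.trans h2, by rwa [hC, add_zero] at h3⟩
  rw [e1, h1, hC]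
  simp

omit hnc in
/-- The quotient of the centralizer of an involution by that involution has a Klein four Sylow
subgroup. -/
theorem klein_quotient {z : G} (hz : orderOf z = 2) (X : Subgroup (Subgroup.centralizer ({z} : Set G)))
    [X.Normal] (hX : ∀ c, c ∈ X ↔ (c : G) = 1 ∨ (c : G) = z) :
    ∃ P : Sylow 2 (Subgroup.centralizer ({z} : Set G) ⧸ X),
      Nat.card (P : Subgroup (Subgroup.centralizer ({z} : Set G) ⧸ X)) = 4 ∧
        ∀ u ∈ (P : Subgroup (Subgroup.centralizer ({z} : Set G) ⧸ X)), u * u = 1 := by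
  classical
  haveI : Fact (Nat.Prime 2) := ⟨Nat.prime_two⟩
  obtain ⟨Q, hzQ, ⟨eQ⟩⟩ := exists_q8_sylow eS (u := z) ⟨1, by rw [hz, pow_one]⟩
  obtain ⟨hcard, ⟨z', -, -, h1, h2⟩, -⟩ := q8_facts eQ
  have hzz : z = z' := (h1 z hzQ (by rw [← pow_two, ← hz, pow_orderOf_eq_one])).resolve_left
    fun h => by rw [h, orderOf_one] at hz; omega
  subst hzz
  have hle : (Q : Subgroup G) ≤ Subgroup.centralizer ({z} : Set G) := fun u hu => by
    rw [Subgroup.mem_centralizer_singleton_iff]
    by_cases h : u * u = 1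
    · rcases h1 u hu h with h | h <;> simp [h]
    · rw [← h2 u hu h]; group
  set R : Sylow 2 (Subgroup.centralizer ({z} : Set G)) := Q.subtype hle with hR
  have hRmem : ∀ c, c ∈ R.toSubgroup ↔ (c : G) ∈ (Q : Subgroup G) := fun c => Iff.rfl
  set f := QuotientGroup.mk' X
  refine ⟨R.mapSurjective (QuotientGroup.mk'_surjective X), ?_, ?_⟩
  · rw [Sylow.coe_mapSurjective]
    have hXle : X ≤ R.toSubgroup := fun c hc => (hRmem c).2 (by
      rcases (hX c).1 hc with h | h <;> rw [h]
      exacts [one_mem _, hzQ])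
    have hXc : Nat.card X = 2 := by
      rw [Nat.card_eq_two_iff]
      refine ⟨1, ⟨⟨z, hle hzQ⟩, (hX _).2 (Or.inr rfl)⟩, fun h => ?_, ?_⟩
      · have := congrArg (fun c : X => ((c : Subgroup.centralizer ({z} : Set G)) : G)) h
        simp only [OneMemClass.coe_one] at this
        rw [← this, orderOf_one] at hz
        omega
      · refine Set.eq_univ_of_forall fun c => ?_
        rcases (hX c.1).1 c.2 with h | h
        · exact Or.inl (Subtype.ext (Subtype.ext h))
        · exact Or.inr (Subtype.ext (Subtype.ext h))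
    have hRc : Nat.card R.toSubgroup = 8 :=
      (Nat.card_congr (Subgroup.subgroupOfEquivOfLe hle).toEquiv).trans hcard
    rw [← Subgroup.relIndex_bot_left]
    have h := Subgroup.relIndex_map_map f ⊥ R.toSubgroup
    rw [Subgroup.map_bot, QuotientGroup.ker_mk', bot_sup_eq, sup_eq_left.2 hXle] at h
    rw [h]
    have h' := Subgroup.relIndex_mul_relIndex ⊥ X R.toSubgroup bot_le hXle
    rw [Subgroup.relIndex_bot_left, Subgroup.relIndex_bot_left, hXc, hRc] at h'
    omega
  · intro u hu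
    rw [Sylow.coe_mapSurjective] at hu
    obtain ⟨c, hc, rfl⟩ := hu
    rw [← map_mul, QuotientGroup.mk'_apply, QuotientGroup.eq_one_iff, hX, Subgroup.coe_mul]
    by_cases h : (c : G) * c = 1
    · exact Or.inl h
    · exact Or.inr (h2 _ ((hRmem c).1 hc) h)

/-- The involutions of the quotient are conjugate. -/
theorem klein_quotient_conj {z : G} (hz : orderOf z = 2)
    (X : Subgroup (Subgroup.centralizer ({z} : Set G))) [X.Normal]
    (hX : ∀ c, c ∈ X ↔ (c : G) = 1 ∨ (c : G) = z)
    (s t : Subgroup.centralizer ({z} : Set G) ⧸ X) (hs : orderOf s = 2) (ht : orderOf t = 2) :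
    IsConj s t := by
  classical
  have lift : ∀ s : Subgroup.centralizer ({z} : Set G) ⧸ X, orderOf s = 2 →
      ∃ a : Subgroup.centralizer ({z} : Set G), (a : _ ⧸ X) = s ∧ orderOf (a : G) = 4 ∧
        (a : G) * a = z := by
    intro s hs
    obtain ⟨a, rfl⟩ := QuotientGroup.mk_surjective s
    have ha : a * a ∈ X := (QuotientGroup.eq_one_iff (N := X) (a * a)).1 (by
      rw [QuotientGroup.mk_mul, ← pow_two, ← hs, pow_orderOf_eq_one])
    have hna : a ∉ X := fun h => by
      rw [(QuotientGroup.eq_one_iff (N := X) a).2 h, orderOf_one] at hs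
      omega
    have hna' : (a : G) ≠ 1 ∧ (a : G) ≠ z := by
      constructor <;> intro h <;> exact hna ((hX a).2 (by simp [h]))
    rcases (hX (a * a)).1 ha with h | h <;> rw [Subgroup.coe_mul] at h
    · exact absurd (eq_of_commute_involutions eS (orderOf_eq_prime (by rwa [pow_two]) hna'.1) hz
        (Subgroup.mem_centralizer_singleton_iff.1 a.2)) hna'.2
    · refine ⟨a, rfl, orderOf_eq_prime_pow (p := 2) (n := 1) ?_ ?_, h⟩
      · rw [pow_one, pow_two, h]; intro h1; rw [h1, orderOf_one] at hz; omega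
      · rw [show 2 ^ (1 + 1) = 2 * 2 by norm_num, pow_mul, pow_two (a : G), h, ← hz,
          pow_orderOf_eq_one]
  obtain ⟨a, rfl, ha, haz⟩ := lift s hs
  obtain ⟨b, rfl, hb, hbz⟩ := lift t ht
  obtain ⟨g, hg⟩ := isConj_iff.1 (order_four_conj eS hnc ha hb)
  have hgz : g * z * g⁻¹ = z := by
    calc g * z * g⁻¹ = g * ((a : G) * a) * g⁻¹ := by rw [haz]
      _ = (g * a * g⁻¹) * (g * a * g⁻¹) := by group
      _ = z := by rw [hg, hbz]
  refine isConj_iff.2 ⟨((⟨g, Subgroup.mem_centralizer_singleton_iff.2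
    (mul_inv_eq_iff_eq_mul.1 hgz)⟩ : Subgroup.centralizer ({z} : Set G)) : _ ⧸ X), ?_⟩
  rw [← QuotientGroup.mk_inv, ← QuotientGroup.mk_mul, ← QuotientGroup.mk_mul]
  exact congrArg _ (Subtype.ext hg)

end Cfsg.Lib.Blocks
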