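import Mathlib
import Cfsg.Agent.Blocks.QuaternionLocal
import Cfsg.Agent.Blocks.QuaternionComb
import Cfsg.Agent.Blocks.CentralTwo

/-!
# The principal 2-block with a quaternion Sylow subgroup of order eight
-/

set_option autoImplicit false
set_option linter.unusedSectionVars false

namespace Cfsg.Lib.Blocks

open Cfsg.Lib.Chars
open scoped ComplexConjugate

universe u

variable {G : Type u} [Group G] [Fintype G] {M : Ideal AlgInt}

/-- With a Klein four Sylow subgroup and one class of involutions there are three functions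
spanning the principal block on the regular elements, independent there. -/
theorem klein_basis (hM : IsPModular 2 M) {P : Sylow 2 G} (hP : Nat.card (P : Subgroup G) = 4)
    (hexp : ∀ u ∈ (P : Subgroup G), u * u = 1)
    (hone : ∀ s t : G, orderOf s = 2 → orderOf t = 2 → IsConj s t)
    [DecidablePred (· ∈ principalBlock M G)] :
    ∃ φ₁ φ₂ φ₃ : G → ℂ, ∃ ψ₁ ψ₂ ψ₃ : IrrCharacter G, ∃ s₁ s₂ s₃ x₁ x₂ x₃ : ℤ,
      (φ₁ = fun g => (s₁ : ℂ) * (ψ₁ : G → ℂ) g) ∧ (φ₂ = fun g => (s₂ : ℂ) * (ψ₂ : G → ℂ) g) ∧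
      (φ₃ = fun g => (s₃ : ℂ) * (ψ₃ : G → ℂ) g) ∧
      s₁ * s₁ = 1 ∧ s₂ * s₂ = 1 ∧ s₃ * s₃ = 1 ∧ φ₁ 1 = x₁ ∧ φ₂ 1 = x₂ ∧ φ₃ 1 = x₃ ∧
      Odd x₁ ∧ Odd x₂ ∧ Odd x₃ ∧
      (∀ g : G, ¬ 2 ∣ orderOf g → φ₁ g + φ₂ g + φ₃ g = -1) ∧
      (∀ f : IrrCharacter G → ℂ, ∑ θ ∈ Finset.univ.filter (· ∈ principalBlock M G), f θ =
        f (principal G) + (f ψ₁ + (f ψ₂ + f ψ₃))) ∧
      (∀ a₁ a₂ a₃ : ℂ, (∀ g : G, ¬ 2 ∣ orderOf g → a₁ * φ₁ g + a₂ * φ₂ g + a₃ * φ₃ g = 0) →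
        a₁ = 0 ∧ a₂ = 0 ∧ a₃ = 0) := by
  classical
  haveI : Fact (Nat.Prime 2) := ⟨Nat.prime_two⟩
  obtain ⟨ε, hcard, hε1, hε⟩ := klein_values hP hexp hM hone
  have hB : IsPBlock M (principalBlock M G) := isPBlock_blockOf (principal G)
  have h1B : principal G ∈ principalBlock M G := mem_blockOf_self hM (principal G)
  set T := Finset.univ.filter (fun φ : IrrCharacter G => φ ∈ principalBlock M G) with hT
  have hpT : principal G ∈ T := Finset.mem_filter.2 ⟨Finset.mem_univ _, h1B⟩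
  obtain ⟨ψ₁, ψ₂, ψ₃, h12, h13, h23, he⟩ := Finset.card_eq_three.1
    (show (T.erase (principal G)).card = 3 by rw [Finset.card_erase_of_mem hpT, hT, hcard])
  have hne : ∀ ψ ∈ ({ψ₁, ψ₂, ψ₃} : Finset (IrrCharacter G)), ψ ≠ principal G ∧ ψ ∈ principalBlock M G :=
    fun ψ hψ => ⟨Finset.ne_of_mem_erase (he.symm ▸ hψ),
      (Finset.mem_filter.1 (Finset.mem_of_mem_erase (he.symm ▸ hψ))).2⟩
  obtain ⟨hn1, hb1⟩ := hne ψ₁ (by simp)
  obtain ⟨hn2, hb2⟩ := hne ψ₂ (by simp)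
  obtain ⟨hn3, hb3⟩ := hne ψ₃ (by simp)
  have hsum : ∀ f : IrrCharacter G → ℂ, ∑ θ ∈ T, f θ = f (principal G) + (f ψ₁ + (f ψ₂ + f ψ₃)) := by
    intro f
    rw [← Finset.add_sum_erase _ _ hpT, he, Finset.sum_insert (by simp [h12, h13]),
      Finset.sum_pair h23]
  have hsq : ∀ ψ ∈ principalBlock M G, ε ψ * ε ψ = 1 := fun ψ hψ => by
    rcases (hε ψ hψ).1 with h | h <;> rw [h] <;> norm_num
  have h2G : 2 ∣ Nat.card G := by
    refine (show 2 ∣ Nat.card (P : Subgroup G) by rw [hP]; norm_num).trans ?_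
    exact Subgroup.card_subgroup_dvd_card _
  obtain ⟨z, hz⟩ := exists_prime_orderOf_dvd_card' 2 h2G
  have hz2 : 2 ∣ orderOf z := dvd_of_eq hz.symm
  have hodd : ∀ ψ ∈ principalBlock M G, Odd (ε ψ * (deg (ψ : G → ℂ) : ℤ)) := by
    intro ψ hψ
    have h4 := klein_deg_congr hP hexp hM hone (hε ψ hψ).2
    obtain ⟨c, hc⟩ := h4
    rcases (hε ψ hψ).1 with h | h <;> rw [h] at hc ⊢
    · exact ⟨2 * c, by linarith⟩
    · exact ⟨-2 * c, by linarith⟩
  have hR : ∀ g : G, ¬ 2 ∣ orderOf g → (1 : ℂ) + ((ε ψ₁ : ℂ) * (ψ₁ : G → ℂ) g +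
      ((ε ψ₂ : ℂ) * (ψ₂ : G → ℂ) g + (ε ψ₃ : ℂ) * (ψ₃ : G → ℂ) g)) = 0 := by
    intro g hg
    have h := block_orthogonality_regular hM hB hg hz2
    rw [Finset.sum_congr rfl fun θ hθ => by
      rw [(hε θ (Finset.mem_filter.1 hθ).2).2 z hz2, map_intCast, mul_comm], hsum, hε1] at h
    push_cast at h
    rw [one_mul] at h
    exact h
  refine ⟨_, _, _, ψ₁, ψ₂, ψ₃, ε ψ₁, ε ψ₂, ε ψ₃, ε ψ₁ * (deg (ψ₁ : G → ℂ) : ℤ),
    ε ψ₂ * (deg (ψ₂ : G → ℂ) : ℤ), ε ψ₃ * (deg (ψ₃ : G → ℂ) : ℤ), rfl, rfl, rfl, hsq _ hb1, hsq _ hb2,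
    hsq _ hb3, ?_, ?_, ?_, hodd _ hb1, hodd _ hb2, hodd _ hb3, fun g hg => ?_, hsum, ?_⟩
  · rw [irr_apply_one_eq_deg]; push_cast; rfl
  · rw [irr_apply_one_eq_deg]; push_cast; rfl
  · rw [irr_apply_one_eq_deg]; push_cast; rfl
  · linear_combination hR g hg
  intro a₁ a₂ a₃ h0
  set A := (a₁ + a₂ + a₃) / 4 with hA
  set c : IrrCharacter G → ℂ := fun θ => if θ = principal G then -A else
    if θ = ψ₁ then (a₁ - A) * (ε ψ₁ : ℂ) else if θ = ψ₂ then (a₂ - A) * (ε ψ₂ : ℂ) else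
    if θ = ψ₃ then (a₃ - A) * (ε ψ₃ : ℂ) else 0 with hc
  have hz0 : (∑ θ : IrrCharacter G, c θ • (θ : G → ℂ)) = 0 := by
    funext g
    rw [Finset.sum_apply, ← Finset.sum_subset (Finset.subset_univ T) (fun θ _ hθ => ?_), hsum]
    · simp only [hc, ↓reduceIte, if_neg hn1, if_neg hn2, if_neg hn3, if_neg h12.symm,
        if_neg h13.symm, if_neg h23.symm, Pi.smul_apply, smul_eq_mul, Pi.zero_apply,
        show ((principal G : IrrCharacter G) : G → ℂ) g = 1 from rfl, mul_one]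
      by_cases hg : 2 ∣ orderOf g
      · rw [(hε _ hb1).2 g hg, (hε _ hb2).2 g hg, (hε _ hb3).2 g hg, mul_assoc, mul_assoc, mul_assoc,
          ← Int.cast_mul, ← Int.cast_mul, ← Int.cast_mul, hsq _ hb1, hsq _ hb2, hsq _ hb3, hA]
        push_cast
        ring
      · have := h0 g hg
        have hR' := hR g hg
        linear_combination this - A * hR'
    · have hθ' : θ ∉ principalBlock M G := fun h => hθ (Finset.mem_filter.2 ⟨Finset.mem_univ _, h⟩)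
      rw [Pi.smul_apply, show c θ = 0 by
        simp only [hc]
        rw [if_neg fun h => hθ' (by rw [h]; exact h1B), if_neg fun h => hθ' (by rw [h]; exact hb1),
          if_neg fun h => hθ' (by rw [h]; exact hb2), if_neg fun h => hθ' (by rw [h]; exact hb3)],
        zero_smul]
  have hc0 : ∀ θ, c θ = 0 := fun θ => by
    have h := classInner_irrSum c θ
    rw [hz0] at h
    rw [← h, classInner_def]
    simp
  have hA0 : A = 0 := by
    have := hc0 (principal G)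
    simpa [hc] using this
  have hne' : ∀ ψ ∈ principalBlock M G, (ε ψ : ℂ) ≠ 0 := fun ψ hψ h => by
    have := hsq ψ hψ
    rw [Int.cast_eq_zero.1 h] at this
    simp at this
  refine ⟨?_, ?_, ?_⟩
  · have := hc0 ψ₁
    simp only [hc, if_neg hn1, ↓reduceIte, hA0, sub_zero, mul_eq_zero] at this
    exact this.resolve_right (hne' _ hb1)
  · have := hc0 ψ₂
    simp only [hc, if_neg hn2, if_neg h12.symm, ↓reduceIte, hA0, sub_zero, mul_eq_zero] at this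
    exact this.resolve_right (hne' _ hb2)
  · have := hc0 ψ₃
    simp only [hc, if_neg hn3, if_neg h13.symm, if_neg h23.symm, ↓reduceIte, hA0, sub_zero,
      mul_eq_zero] at this
    exact this.resolve_right (hne' _ hb3)

variable {S : Sylow 2 G} (eS : (S : Subgroup G) ≃* QuaternionGroup 2)
  (hnc : ∀ N : Subgroup G, N.Normal → ¬ Subgroup.IsComplement' N (S : Subgroup G))
  (hM : IsPModular 2 M)

include eS hnc hM

/-- The section of the involution: integral columns on three independent functions. -/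
theorem exists_columns {z : G} (hz : orderOf z = 2) [DecidablePred (· ∈ principalBlock M G)] :
    ∃ v₁ v₂ v₃ : IrrCharacter G → ℤ, ∃ x₁ x₂ x₃ : ℤ, ∃ φ₁ φ₂ φ₃ : G → ℂ,
      φ₁ 1 = x₁ ∧ φ₂ 1 = x₂ ∧ φ₃ 1 = x₃ ∧ Odd x₁ ∧ Odd x₂ ∧ Odd x₃ ∧ x₁ + x₂ + x₃ = -1 ∧
      (v₁ (principal G) = -1 ∧ v₂ (principal G) = -1 ∧ v₃ (principal G) = -1) ∧
      (∀ χ ∈ principalBlock M G, ∀ y : G, Commute z y → ¬ 2 ∣ orderOf y →
        (χ : G → ℂ) (z * y) = v₁ χ * φ₁ y + v₂ χ * φ₂ y + v₃ χ * φ₃ y) ∧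
      (∀ a₁ a₂ a₃ : ℂ, (∀ y : G, Commute z y → ¬ 2 ∣ orderOf y →
        a₁ * φ₁ y + a₂ * φ₂ y + a₃ * φ₃ y = 0) → a₁ = 0 ∧ a₂ = 0 ∧ a₃ = 0) ∧
      (∑ χ ∈ Finset.univ.filter (· ∈ principalBlock M G), v₁ χ * v₁ χ = 4) ∧
      (∑ χ ∈ Finset.univ.filter (· ∈ principalBlock M G), v₂ χ * v₂ χ = 4) ∧
      (∑ χ ∈ Finset.univ.filter (· ∈ principalBlock M G), v₃ χ * v₃ χ = 4) ∧
      (∑ χ ∈ Finset.univ.filter (· ∈ principalBlock M G), v₁ χ * v₂ χ = 2) ∧
      (∑ χ ∈ Finset.univ.filter (· ∈ principalBlock M G), v₁ χ * v₃ χ = 2) ∧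
      (∑ χ ∈ Finset.univ.filter (· ∈ principalBlock M G), v₂ χ * v₃ χ = 2) := by
  classical
  haveI : Fact (Nat.Prime 2) := ⟨Nat.prime_two⟩
  have hz1 : z ≠ 1 := fun h => by rw [h, orderOf_one] at hz; omega
  set H := Subgroup.centralizer ({z} : Set G) with hH
  set zH : H := ⟨z, Subgroup.mem_centralizer_singleton_iff.2 rfl⟩ with hzH
  have hzc : zH ∈ Subgroup.center H := Subgroup.mem_center_iff.2 fun c =>
    Subtype.ext (Subgroup.mem_centralizer_singleton_iff.1 c.2)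
  have hzz : zH * zH = 1 := Subtype.ext (by
    rw [Subgroup.coe_mul, OneMemClass.coe_one, hzH]
    show z * z = 1
    rw [← pow_two, ← hz, pow_orderOf_eq_one])
  set X := Subgroup.zpowers zH with hXdef
  haveI : X.Normal := ⟨fun c hc d => by
    have hcc : c ∈ Subgroup.center H := (Subgroup.zpowers_le.2 hzc) hc
    rwa [Subgroup.mem_center_iff.1 hcc d, mul_inv_cancel_right]⟩
  have hX : ∀ c, c ∈ X ↔ c = 1 ∨ c = zH := by
    intro c
    constructor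
    · rintro ⟨m, rfl⟩
      rcases Int.even_or_odd' m with ⟨j, rfl | rfl⟩
      · refine Or.inl ?_
        show zH ^ (2 * j) = 1
        rw [zpow_mul, zpow_two, hzz, one_zpow]
      · refine Or.inr ?_
        show zH ^ (2 * j + 1) = zH
        rw [zpow_add, zpow_mul, zpow_two, hzz, one_zpow, one_mul, zpow_one]
    · rintro (rfl | rfl)
      · exact one_mem _
      · exact Subgroup.mem_zpowers _
  have hX' : ∀ c, c ∈ X ↔ (c : G) = 1 ∨ (c : G) = z := fun c => by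
    rw [hX, Subtype.ext_iff, Subtype.ext_iff, OneMemClass.coe_one]
  letI := Fintype.ofFinite H
  letI := Fintype.ofFinite (H ⧸ X)
  obtain ⟨P, hP, hexp⟩ := klein_quotient eS hz X hX'
  obtain ⟨φ₁, φ₂, φ₃, ψ₁, ψ₂, ψ₃, s₁, s₂, s₃, x₁, x₂, x₃, e₁, e₂, e₃, q₁, q₂, q₃, f₁, f₂, f₃,
    o₁, o₂, o₃, hneg, hsum, hind⟩ :=
    klein_basis hM hP hexp (fun s t hs ht => klein_quotient_conj eS hnc hz X hX' s t hs ht)
  have hH' : H = Subgroup.centralizer (Subgroup.zpowers z : Set G) := (centralizer_zpowers z).symm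
  have hx : ∃ k : ℕ, orderOf z = 2 ^ k := ⟨1, by rw [hz, pow_one]⟩
  have hB : IsPBlock M (principalBlock M G) := isPBlock_blockOf (principal G)
  choose m hm using fun χ : IrrCharacter G => exists_regular_coeff (X := X) hzc hzz hX hM
    (IsCharacter.restrict (isCharacter_of_irr χ.2) H)
  -- the transported functions
  let lift : (H ⧸ X → ℂ) → G → ℂ := fun φ y => if h : y ∈ H then φ ((⟨y, h⟩ : H) : H ⧸ X) else 0
  have hlift : ∀ (φ : H ⧸ X → ℂ) (y : H), lift φ (y : G) = φ (y : H ⧸ X) := fun φ y => by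
    simp only [lift, dif_pos y.2]
  have hp1 : ∀ {K : Type u} [Group K] [Fintype K] (q : K),
      ((principal K : IrrCharacter K) : K → ℂ) q = 1 := fun q => rfl
  have hregq : ∀ y : H, ¬ 2 ∣ orderOf y → ¬ 2 ∣ orderOf (y : H ⧸ X) := fun y hy h =>
    hy (h.trans (orderOf_map_dvd (QuotientGroup.mk' X) y))
  set v₁ : IrrCharacter G → ℤ := fun χ => s₁ * m χ ψ₁ - m χ (principal (H ⧸ X)) with hv₁
  set v₂ : IrrCharacter G → ℤ := fun χ => s₂ * m χ ψ₂ - m χ (principal (H ⧸ X)) with hv₂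
  set v₃ : IrrCharacter G → ℤ := fun χ => s₃ * m χ ψ₃ - m χ (principal (H ⧸ X)) with hv₃
  have hval : ∀ χ ∈ principalBlock M G, ∀ y : H, ¬ 2 ∣ orderOf y → (χ : G → ℂ) (z * (y : G)) =
      v₁ χ * φ₁ (y : H ⧸ X) + v₂ χ * φ₂ (y : H ⧸ X) + v₃ χ * φ₃ (y : H ⧸ X) := by
    intro χ hχ y hy
    rw [apply_mul_eq_sum_blockPart hM hx hH' hB hχ hy, filter_induced_principal hM hx hH',
      Finset.sum_singleton,
      show (fun c : H => (χ : G → ℂ) (z * (c : G))) =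
        fun c : H => (fun d : H => (χ : G → ℂ) (d : G)) (zH * c) from rfl,
      hm χ y hy, hsum, e₁, e₂, e₃]
    have h := hneg _ (hregq y hy)
    rw [e₁, e₂, e₃] at h
    have c₁ : ((s₁ : ℂ)) * s₁ = 1 := by exact_mod_cast q₁
    have c₂ : ((s₂ : ℂ)) * s₂ = 1 := by exact_mod_cast q₂
    have c₃ : ((s₃ : ℂ)) * s₃ = 1 := by exact_mod_cast q₃
    simp only [hv₁, hv₂, hv₃, hp1] at h ⊢
    push_cast
    linear_combination (m χ (principal (H ⧸ X)) : ℂ) * h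
      - (m χ ψ₁ : ℂ) * (ψ₁ : H ⧸ X → ℂ) (y : H ⧸ X) * c₁
      - (m χ ψ₂ : ℂ) * (ψ₂ : H ⧸ X → ℂ) (y : H ⧸ X) * c₂
      - (m χ ψ₃ : ℂ) * (ψ₃ : H ⧸ X → ℂ) (y : H ⧸ X) * c₃
  have hind' : ∀ a₁ a₂ a₃ : ℂ, (∀ y : H, ¬ 2 ∣ orderOf y →
      a₁ * φ₁ (y : H ⧸ X) + a₂ * φ₂ (y : H ⧸ X) + a₃ * φ₃ (y : H ⧸ X) = 0) →
      a₁ = 0 ∧ a₂ = 0 ∧ a₃ = 0 := fun a₁ a₂ a₃ h => hind a₁ a₂ a₃ fun q hq => by
    obtain ⟨y, hy, rfl⟩ := exists_regular_lift (P := X) hM hq
    exact h y hy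
  have hone1 : ¬ 2 ∣ orderOf (1 : H) := by rw [orderOf_one]; norm_num
  have hxs : x₁ + x₂ + x₃ = -1 := by
    apply Int.cast_injective (α := ℂ)
    push_cast
    rw [← f₁, ← f₂, ← f₃]
    exact hneg _ (by rw [orderOf_one]; norm_num)
  have hprin : v₁ (principal G) = -1 ∧ v₂ (principal G) = -1 ∧ v₃ (principal G) = -1 := by
    have h := hind' ((v₁ (principal G) : ℂ) + 1) ((v₂ (principal G) : ℂ) + 1)
      ((v₃ (principal G) : ℂ) + 1) fun y hy => by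
      have h1 := hval _ (mem_blockOf_self hM (principal G)) y hy
      rw [show ((principal G : IrrCharacter G) : G → ℂ) (z * (y : G)) = 1 from rfl] at h1
      linear_combination -h1 + hneg _ (hregq y hy)
    obtain ⟨h1, h2, h3⟩ := h
    refine ⟨?_, ?_, ?_⟩
    · have : (v₁ (principal G) : ℂ) = ((-1 : ℤ) : ℂ) := by push_cast; linear_combination h1
      exact_mod_cast this
    · have : (v₂ (principal G) : ℂ) = ((-1 : ℤ) : ℂ) := by push_cast; linear_combination h2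
      exact_mod_cast this
    · have : (v₃ (principal G) : ℂ) = ((-1 : ℤ) : ℂ) := by push_cast; linear_combination h3
      exact_mod_cast this
  set T := Finset.univ.filter (fun χ : IrrCharacter G => χ ∈ principalBlock M G) with hT
  -- the kernel in the section
  have hker : ∀ y w : H, ¬ 2 ∣ orderOf y → ¬ 2 ∣ orderOf w →
      ∑ χ ∈ T, (χ : G → ℂ) (z * (y : G)) * conj ((χ : G → ℂ) (z * (w : G))) =
      2 * (φ₁ (y : H ⧸ X) + φ₂ (y : H ⧸ X) + φ₃ (y : H ⧸ X)) *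
        conj (φ₁ (w : H ⧸ X) + φ₂ (w : H ⧸ X) + φ₃ (w : H ⧸ X)) +
      2 * (φ₁ (y : H ⧸ X) * conj (φ₁ (w : H ⧸ X)) + φ₂ (y : H ⧸ X) * conj (φ₂ (w : H ⧸ X)) +
        φ₃ (y : H ⧸ X) * conj (φ₃ (w : H ⧸ X))) := by
    intro y w hy hw
    rw [hT, ← colKer_eq, colKer_section hM hx hH' hB hy hw, filter_induced_principal hM hx hH',
      Finset.sum_singleton, colKer_central_two hzc hzz hX hM hy hw
        (fun h => hz1 (congrArg Subtype.val h)), colKer_eq, hsum,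
      hneg _ (hregq y hy), hneg _ (hregq w hw), e₁, e₂, e₃]
    simp only [hp1, map_mul, map_intCast, map_neg, map_one]
    have c₁ : ((s₁ : ℂ)) * s₁ = 1 := by exact_mod_cast q₁
    have c₂ : ((s₂ : ℂ)) * s₂ = 1 := by exact_mod_cast q₂
    have c₃ : ((s₃ : ℂ)) * s₃ = 1 := by exact_mod_cast q₃
    linear_combination (-2 : ℂ) * (ψ₁ : H ⧸ X → ℂ) (y : H ⧸ X) * conj ((ψ₁ : H ⧸ X → ℂ) (w : H ⧸ X)) * c₁
      - (2 : ℂ) * (ψ₂ : H ⧸ X → ℂ) (y : H ⧸ X) * conj ((ψ₂ : H ⧸ X → ℂ) (w : H ⧸ X)) * c₂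
      - (2 : ℂ) * (ψ₃ : H ⧸ X → ℂ) (y : H ⧸ X) * conj ((ψ₃ : H ⧸ X → ℂ) (w : H ⧸ X)) * c₃
  -- entries of the Gram matrix
  let N : (IrrCharacter G → ℤ) → (IrrCharacter G → ℤ) → ℂ := fun a b =>
    ∑ χ ∈ T, (a χ : ℂ) * (b χ : ℂ)
  have hgram : ∀ y w : H, ¬ 2 ∣ orderOf y → ¬ 2 ∣ orderOf w →
      (N v₁ v₁ * conj (φ₁ (w : H ⧸ X)) + N v₁ v₂ * conj (φ₂ (w : H ⧸ X)) + N v₁ v₃ * conj (φ₃ (w : H ⧸ X))
        - (4 * conj (φ₁ (w : H ⧸ X)) + 2 * conj (φ₂ (w : H ⧸ X)) + 2 * conj (φ₃ (w : H ⧸ X)))) * φ₁ (y : H ⧸ X) +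
      (N v₂ v₁ * conj (φ₁ (w : H ⧸ X)) + N v₂ v₂ * conj (φ₂ (w : H ⧸ X)) + N v₂ v₃ * conj (φ₃ (w : H ⧸ X))
        - (2 * conj (φ₁ (w : H ⧸ X)) + 4 * conj (φ₂ (w : H ⧸ X)) + 2 * conj (φ₃ (w : H ⧸ X)))) * φ₂ (y : H ⧸ X) +
      (N v₃ v₁ * conj (φ₁ (w : H ⧸ X)) + N v₃ v₂ * conj (φ₂ (w : H ⧸ X)) + N v₃ v₃ * conj (φ₃ (w : H ⧸ X))
        - (2 * conj (φ₁ (w : H ⧸ X)) + 2 * conj (φ₂ (w : H ⧸ X)) + 4 * conj (φ₃ (w : H ⧸ X)))) * φ₃ (y : H ⧸ X)
      = 0 := by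
    intro y w hy hw
    have h := hker y w hy hw
    rw [Finset.sum_congr rfl fun χ hχ => by
      rw [hval χ (Finset.mem_filter.1 hχ).2 y hy, hval χ (Finset.mem_filter.1 hχ).2 w hw]] at h
    simp only [map_add, map_mul, map_intCast] at h
    rw [Finset.sum_congr rfl fun (χ : IrrCharacter G) (_ : χ ∈ T) => show _ =
      (v₁ χ : ℂ) * v₁ χ * (φ₁ (y : H ⧸ X) * conj (φ₁ (w : H ⧸ X))) +
      (v₁ χ : ℂ) * v₂ χ * (φ₁ (y : H ⧸ X) * conj (φ₂ (w : H ⧸ X))) +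
      (v₁ χ : ℂ) * v₃ χ * (φ₁ (y : H ⧸ X) * conj (φ₃ (w : H ⧸ X))) +
      (v₂ χ : ℂ) * v₁ χ * (φ₂ (y : H ⧸ X) * conj (φ₁ (w : H ⧸ X))) +
      (v₂ χ : ℂ) * v₂ χ * (φ₂ (y : H ⧸ X) * conj (φ₂ (w : H ⧸ X))) +
      (v₂ χ : ℂ) * v₃ χ * (φ₂ (y : H ⧸ X) * conj (φ₃ (w : H ⧸ X))) +
      (v₃ χ : ℂ) * v₁ χ * (φ₃ (y : H ⧸ X) * conj (φ₁ (w : H ⧸ X))) +
      (v₃ χ : ℂ) * v₂ χ * (φ₃ (y : H ⧸ X) * conj (φ₂ (w : H ⧸ X))) +
      (v₃ χ : ℂ) * v₃ χ * (φ₃ (y : H ⧸ X) * conj (φ₃ (w : H ⧸ X))) by ring] at h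
    simp only [Finset.sum_add_distrib, ← Finset.sum_mul] at h
    linear_combination h
  have hN : ∀ {a₁ a₂ a₃ : ℂ}, (∀ w : H, ¬ 2 ∣ orderOf w →
      a₁ * conj (φ₁ (w : H ⧸ X)) + a₂ * conj (φ₂ (w : H ⧸ X)) + a₃ * conj (φ₃ (w : H ⧸ X)) = 0) →
      a₁ = 0 ∧ a₂ = 0 ∧ a₃ = 0 := by
    intro a₁ a₂ a₃ h
    obtain ⟨h1, h2, h3⟩ := hind' (conj a₁) (conj a₂) (conj a₃) fun w hw => by
      have := congrArg conj (h w hw)
      simpa using this
    exact ⟨star_eq_zero.1 h1, star_eq_zero.1 h2, star_eq_zero.1 h3⟩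
  obtain ⟨g11, g12, g13⟩ := hN (a₁ := N v₁ v₁ - 4) (a₂ := N v₁ v₂ - 2) (a₃ := N v₁ v₃ - 2)
    fun w hw => by linear_combination (hind' _ _ _ fun y hy => hgram y w hy hw).1
  obtain ⟨g21, g22, g23⟩ := hN (a₁ := N v₂ v₁ - 2) (a₂ := N v₂ v₂ - 4) (a₃ := N v₂ v₃ - 2)
    fun w hw => by linear_combination (hind' _ _ _ fun y hy => hgram y w hy hw).2.1
  obtain ⟨g31, g32, g33⟩ := hN (a₁ := N v₃ v₁ - 2) (a₂ := N v₃ v₂ - 2) (a₃ := N v₃ v₃ - 4)
    fun w hw => by linear_combination (hind' _ _ _ fun y hy => hgram y w hy hw).2.2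
  have toInt : ∀ (a b : IrrCharacter G → ℤ) (c : ℤ), N a b - (c : ℂ) = 0 →
      ∑ χ ∈ T, a χ * b χ = c := fun a b c h => by
    apply Int.cast_injective (α := ℂ)
    push_cast
    exact sub_eq_zero.1 h
  refine ⟨v₁, v₂, v₃, x₁, x₂, x₃, lift φ₁, lift φ₂, lift φ₃, ?_, ?_, ?_, o₁, o₂, o₃, hxs, hprin,
    fun χ hχ y hy hy2 => ?_, fun a₁ a₂ a₃ h => hind' a₁ a₂ a₃ fun y hy => ?_,
    toInt _ _ 4 (by push_cast; exact g11), toInt _ _ 4 (by push_cast; exact g22),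
    toInt _ _ 4 (by push_cast; exact g33), toInt _ _ 2 (by push_cast; exact g12),
    toInt _ _ 2 (by push_cast; exact g13), toInt _ _ 2 (by push_cast; exact g23)⟩
  · rw [← f₁]; exact (hlift φ₁ 1)
  · rw [← f₂]; exact (hlift φ₂ 1)
  · rw [← f₃]; exact (hlift φ₃ 1)
  · obtain ⟨y, rfl⟩ : ∃ y' : H, (y' : G) = y :=
      ⟨⟨y, Subgroup.mem_centralizer_singleton_iff.2 hy.symm.eq⟩, rfl⟩
    rw [hlift, hlift, hlift]
    exact hval χ hχ y (by rwa [← Subgroup.orderOf_coe])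
  · have := h (y : G) (Subgroup.mem_centralizer_singleton_iff.1 y.2).symm
      (by rwa [Subgroup.orderOf_coe])
    rwa [hlift, hlift, hlift] at this

/-- The principal block contains a non-principal character with the involution in its kernel,
and has seven members. -/
theorem quaternion_block :
    (∃ χ ∈ principalBlock M G, χ ≠ principal G ∧
      ∃ z : G, orderOf z = 2 ∧ (χ : G → ℂ) z = (χ : G → ℂ) 1) ∧
    Nat.card (principalBlock M G) = 7 := by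
  classical
  haveI : Fact (Nat.Prime 2) := ⟨Nat.prime_two⟩
  obtain ⟨i, hiS, hi2⟩ := (q8_facts eS).2.2.2.2
  obtain ⟨k, hk⟩ : ∃ k : ℕ, orderOf i = 2 ^ k := by
    obtain ⟨k, hk⟩ := IsPGroup.iff_orderOf.1 S.2 ⟨i, hiS⟩
    exact ⟨k, by rw [← hk, Subgroup.orderOf_mk]⟩
  obtain ⟨hi, hz⟩ : orderOf i = 4 ∧ orderOf (i * i) = 2 := by
    rcases two_element_cases eS ⟨k, hk⟩ with h | h | h
    · exact absurd (by rw [h, one_mul]) hi2
    · exact absurd (by rw [← pow_two, ← h, pow_orderOf_eq_one]) hi2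
    · exact h
  set z := i * i with hzdef
  obtain ⟨v₁, v₂, v₃, x₁, x₂, x₃, φ₁, φ₂, φ₃, f₁, f₂, f₃, o₁, o₂, o₃, hxs, ⟨p₁, p₂, p₃⟩, hval,
    hind, g11, g22, g33, g12, g13, g23⟩ := exists_columns eS hnc hM hz
  choose e b he hb hpar using fun χ : IrrCharacter G => exists_four_values eS hnc hi χ
  have hB : IsPBlock M (principalBlock M G) := isPBlock_blockOf (principal G)
  have h1B : principal G ∈ principalBlock M G := mem_blockOf_self hM (principal G)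
  set T := Finset.univ.filter (fun χ : IrrCharacter G => χ ∈ principalBlock M G) with hT
  have h1r : ¬ 2 ∣ orderOf (1 : G) := by rw [orderOf_one]; norm_num
  have hpe : e (principal G) = 1 := by
    have := he (principal G)
    exact_mod_cast this.symm.trans (show ((principal G : IrrCharacter G) : G → ℂ) i = 1 from rfl)
  have hpb : b (principal G) = 1 := by
    have := hb (principal G)
    exact_mod_cast this.symm.trans (show ((principal G : IrrCharacter G) : G → ℂ) (i * i) = 1 from rfl)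
  have hbv : ∀ χ ∈ principalBlock M G, b χ = v₁ χ * x₁ + v₂ χ * x₂ + v₃ χ * x₃ := by
    intro χ hχ
    apply Int.cast_injective (α := ℂ)
    have h := hval χ hχ 1 (Commute.one_right z) h1r
    rw [mul_one, f₁, f₂, f₃] at h
    push_cast
    rw [← hb χ, ← h]
  have hpp : ∀ y : G, Commute z y → ¬ 2 ∣ orderOf y → IsPPart 2 (z * y) z := fun y hy hy2 =>
    isPPart_mul hy ⟨1, by rw [hz, pow_one]⟩ hy2
  have hsing : ∀ y : G, Commute z y → ¬ 2 ∣ orderOf y → 2 ∣ orderOf (z * y) := by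
    intro y hy hy2
    by_contra h
    have hz1 := IsPPart.eq Nat.prime_two (hpp y hy hy2) ((isPPart_one_iff Nat.prime_two).2 h)
    rw [hz1, orderOf_one] at hz
    omega
  have hi2' : 2 ∣ orderOf i := by rw [hi]; norm_num
  -- relations of the columns
  have col : ∀ F : IrrCharacter G → ℂ,
      (∀ y : G, Commute z y → ¬ 2 ∣ orderOf y → ∑ χ ∈ T, F χ * (χ : G → ℂ) (z * y) = 0) →
      (∑ χ ∈ T, F χ * (v₁ χ : ℂ) = 0) ∧ (∑ χ ∈ T, F χ * (v₂ χ : ℂ) = 0) ∧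
        (∑ χ ∈ T, F χ * (v₃ χ : ℂ) = 0) := by
    intro F hF
    refine hind _ _ _ fun y hy hy2 => ?_
    rw [← hF y hy hy2, Finset.sum_mul, Finset.sum_mul, Finset.sum_mul, ← Finset.sum_add_distrib,
      ← Finset.sum_add_distrib]
    refine Finset.sum_congr rfl fun χ hχ => ?_
    rw [hval χ (Finset.mem_filter.1 hχ).2 y hy hy2]
    ring
  obtain ⟨a1, a2, a3⟩ := col (fun χ => (deg (χ : G → ℂ) : ℂ)) fun y hy hy2 => by
    rw [← block_orthogonality_regular' hM hB (hsing y hy hy2) h1r]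
    exact Finset.sum_congr rfl fun χ _ => by
      rw [irr_apply_one_eq_deg, Complex.conj_natCast, mul_comm]
  obtain ⟨c1, c2, c3⟩ := col (fun χ => (e χ : ℂ)) fun y hy hy2 => by
    rw [← block_orthogonality_conj hM hB (hpp y hy hy2)
      (isPPart_self Nat.prime_two ⟨2, by rw [hi]; norm_num⟩ : IsPPart 2 i i) fun h => by
        obtain ⟨g, hg⟩ := isConj_iff.1 h
        rw [← hg, ← MulAut.conj_apply, MulEquiv.orderOf_eq, hz] at hi
        omega]
    exact Finset.sum_congr rfl fun χ _ => by rw [he χ, map_intCast, mul_comm]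
  have ae : ∑ χ ∈ T, (deg (χ : G → ℂ) : ℂ) * (e χ : ℂ) = 0 := by
    rw [← block_orthogonality_regular hM hB h1r hi2']
    exact Finset.sum_congr rfl fun χ _ => by rw [irr_apply_one_eq_deg, he χ, map_intCast]
  have ee : ∑ χ ∈ T, e χ * e χ = 4 := by
    apply Int.cast_injective (α := ℂ)
    push_cast
    have h := colKer_four_section eS hM hi (Commute.one_right i) (Commute.one_right i) h1r h1r
    rw [mul_one, colKer_eq] at h
    rw [← h]
    exact Finset.sum_congr rfl fun χ _ => by rw [he χ, map_intCast]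
  -- products of two involutions have odd order
  have hzero : ∀ w : G, 2 ∣ orderOf w →
      ∑ χ : IrrCharacter G, ((b χ : ℂ) ^ 2 / (χ : G → ℂ) 1) * (χ : G → ℂ) w = 0 := by
    intro w hw
    have h := class_mult_formula (i * i) (i * i) w⁻¹
    haveI : IsEmpty {p : G × G // IsConj (i * i) p.1 ∧ IsConj (i * i) p.2 ∧ p.1 * p.2 = w⁻¹} := by
      refine ⟨fun ⟨p, h1, h2, h3⟩ => ?_⟩
      obtain ⟨g, hg⟩ := isConj_iff.1 h1
      obtain ⟨g', hg'⟩ := isConj_iff.1 h2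
      refine odd_mul_involutions eS (s := p.1) (t := p.2) ?_ ?_ ?_
      · rw [← hg, ← MulAut.conj_apply, MulEquiv.orderOf_eq, hz]
      · rw [← hg', ← MulAut.conj_apply, MulEquiv.orderOf_eq, hz]
      · rw [h3, orderOf_inv]; exact hw
    rw [Nat.card_of_isEmpty, Nat.cast_zero, eq_comm, mul_eq_zero] at h
    have hcard : (Nat.card {x : G // IsConj (i * i) x} : ℂ) * (Nat.card {x : G // IsConj (i * i) x} : ℂ) /
        (Nat.card G : ℂ) ≠ 0 :=
      div_ne_zero (mul_ne_zero (Nat.cast_ne_zero.2 (card_isConj_pos _).ne')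
        (Nat.cast_ne_zero.2 (card_isConj_pos _).ne')) (Nat.cast_ne_zero.2 Nat.card_pos.ne')
    rw [← h.resolve_left hcard]
    refine Finset.sum_congr rfl fun χ _ => ?_
    rw [hb χ, IsCharacter.conj_inv (isCharacter_of_irr χ.2), Complex.conj_conj]
    ring
  have hzeroT : ∀ w : G, 2 ∣ orderOf w →
      ∑ χ ∈ T, ((b χ : ℂ) ^ 2 / (χ : G → ℂ) 1) * (χ : G → ℂ) w = 0 := by
    intro w hw
    rw [hT, ← blockPart_irrSum, blockPart_eq_colKer, Finset.sum_eq_zero fun u _ => ?_, mul_zero]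
    by_cases hu : 2 ∣ orderOf u
    · rw [hzero u hu, zero_mul]
    · rw [colKer_eq, block_orthogonality_regular' hM hB hw hu, mul_zero]
  obtain ⟨w1, w2, w3⟩ := col (fun χ => (b χ : ℂ) ^ 2 / (χ : G → ℂ) 1)
    fun y hy hy2 => hzeroT _ (hsing y hy hy2)
  have we : ∑ χ ∈ T, ((b χ : ℂ) ^ 2 / (χ : G → ℂ) 1) * (e χ : ℂ) = 0 := by
    rw [← hzeroT i hi2']
    exact Finset.sum_congr rfl fun χ _ => by rw [he χ]
  -- the non-principal rows
  have hpT : principal G ∈ T := Finset.mem_filter.2 ⟨Finset.mem_univ _, h1B⟩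
  let ι := {χ : IrrCharacter G // χ ∈ T.erase (principal G)}
  have hsplit : ∀ {R : Type} [AddCommMonoid R] (f : IrrCharacter G → R),
      ∑ χ ∈ T, f χ = f (principal G) + ∑ k : ι, f k.1 := by
    intro R _ f
    rw [← Finset.add_sum_erase _ _ hpT]
    exact congrArg _ (Finset.sum_coe_sort _ f).symm
  have hdeg1 : deg ((principal G : IrrCharacter G) : G → ℂ) = 1 := by
    have h := irr_apply_one_eq_deg (principal G)
    exact_mod_cast h.symm.trans (show ((principal G : IrrCharacter G) : G → ℂ) 1 = 1 from rfl)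
  have hpos : ∀ χ : IrrCharacter G, 0 < deg (χ : G → ℂ) := fun χ => by
    rcases Nat.eq_zero_or_pos (deg (χ : G → ℂ)) with h | h
    · exact absurd (by rw [irr_apply_one_eq_deg, h, Nat.cast_zero])
        (IsIrrCharacter.apply_one_ne_zero χ.2)
    · exact h
  have R : ∀ (c : ℤ) (a f : IrrCharacter G → ℤ), ∑ χ ∈ T, a χ * f χ = c →
      ∑ k : ι, a k.1 * f k.1 = c - a (principal G) * f (principal G) := fun c a f h => by
    rw [← h, hsplit]; ring
  have toZ : ∀ (f : IrrCharacter G → ℤ), ∑ χ ∈ T, (deg (χ : G → ℂ) : ℂ) * (f χ : ℂ) = 0 →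
      ∑ χ ∈ T, (deg (χ : G → ℂ) : ℤ) * f χ = 0 := fun f h => by
    apply Int.cast_injective (α := ℂ); push_cast; exact h
  have toQ : ∀ (f : IrrCharacter G → ℤ), f (principal G) = -1 ∨ f (principal G) = 1 →
      ∑ χ ∈ T, ((b χ : ℂ) ^ 2 / (χ : G → ℂ) 1) * (f χ : ℂ) = 0 →
      ∑ k : ι, ((b k.1 : ℚ) ^ 2 / ((deg (k.1 : G → ℂ) : ℤ) : ℚ)) * (f k.1 : ℚ) =
        -(f (principal G) : ℚ) := fun f _ h => by
    apply Rat.cast_injective (α := ℂ)
    push_cast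
    rw [hsplit, hpb, show ((principal G : IrrCharacter G) : G → ℂ) 1 = 1 from rfl] at h
    simp only [irr_apply_one_eq_deg] at h
    push_cast at h
    linear_combination h
  have toI : ∀ (f : IrrCharacter G → ℤ), ∑ χ ∈ T, (e χ : ℂ) * (f χ : ℂ) = 0 →
      ∑ χ ∈ T, f χ * e χ = 0 := fun f h => by
    apply Int.cast_injective (α := ℂ); push_cast; rw [← h]
    exact Finset.sum_congr rfl fun χ _ => mul_comm _ _
  obtain ⟨⟨r, hr⟩, hsix⟩ := quaternion_comb (ι := ι)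
    (a := fun k => (deg (k.1 : G → ℂ) : ℤ)) (b := fun k => b k.1) (e := fun k => e k.1)
    (v₁ := fun k => v₁ k.1) (v₂ := fun k => v₂ k.1) (v₃ := fun k => v₃ k.1)
    (x₁ := x₁) (x₂ := x₂) (x₃ := x₃)
    (fun k => by exact_mod_cast hpos k.1) o₁ o₂ o₃ hxs
    (fun k => hbv k.1 (Finset.mem_filter.1 (Finset.mem_of_mem_erase k.2)).2)
    (fun k => hpar k.1)
    (by rw [R 4 v₁ v₁ g11, p₁]; norm_num) (by rw [R 4 v₂ v₂ g22, p₂]; norm_num)
    (by rw [R 4 v₃ v₃ g33, p₃]; norm_num) (by rw [R 4 e e ee, hpe]; norm_num)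
    (by rw [R 2 v₁ v₂ g12, p₁, p₂]; norm_num) (by rw [R 2 v₁ v₃ g13, p₁, p₃]; norm_num)
    (by rw [R 2 v₂ v₃ g23, p₂, p₃]; norm_num) (by rw [R 0 v₁ e (toI _ c1), p₁, hpe]; norm_num)
    (by rw [R 0 v₂ e (toI _ c2), p₂, hpe]; norm_num) (by rw [R 0 v₃ e (toI _ c3), p₃, hpe]; norm_num)
    (by rw [R 0 _ v₁ (toZ _ a1), p₁, hdeg1]; norm_num)
    (by rw [R 0 _ v₂ (toZ _ a2), p₂, hdeg1]; norm_num)
    (by rw [R 0 _ v₃ (toZ _ a3), p₃, hdeg1]; norm_num)
    (by rw [R 0 _ e (toZ _ ae), hpe, hdeg1]; norm_num)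
    (by rw [toQ v₁ (Or.inl p₁) w1, p₁]; norm_num) (by rw [toQ v₂ (Or.inl p₂) w2, p₂]; norm_num)
    (by rw [toQ v₃ (Or.inl p₃) w3, p₃]; norm_num) (by rw [toQ e (Or.inr hpe) we, hpe]; norm_num)
  refine ⟨⟨r.1, (Finset.mem_filter.1 (Finset.mem_of_mem_erase r.2)).2, Finset.ne_of_mem_erase r.2,
    z, hz, ?_⟩, ?_⟩
  · rw [irr_apply_one_eq_deg, hzdef, hb]
    exact_mod_cast hr
  -- every row is non-zero
  have hall : ∀ k : ι, v₁ k.1 ≠ 0 ∨ v₂ k.1 ≠ 0 ∨ v₃ k.1 ≠ 0 ∨ e k.1 ≠ 0 := by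
    intro k
    by_contra hcon
    push Not at hcon
    obtain ⟨u1, u2, u3, ue⟩ := hcon
    have hkB : k.1 ∈ principalBlock M G := (Finset.mem_filter.1 (Finset.mem_of_mem_erase k.2)).2
    have hvan : ∀ g : G, 2 ∣ orderOf g → (k.1 : G → ℂ) g = 0 := by
      intro g hg
      obtain ⟨x, y, hxy, hc, hx, hy⟩ := exists_isPPart' (p := 2) Nat.prime_two g
      rcases two_element_cases eS hx with h | h | ⟨h, -⟩
      · rw [h, one_mul] at hxy
        exact absurd (hxy ▸ hg) hy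
      · obtain ⟨a, ha⟩ := isConj_iff.1 (involutions_conj eS h hz)
        have hc' : Commute z (a * y * a⁻¹) := ha ▸ hc.map (MulAut.conj a).toMonoidHom
        have hy' : ¬ 2 ∣ orderOf (a * y * a⁻¹) := by
          rwa [← MulAut.conj_apply, MulEquiv.orderOf_eq]
        have h0 := hval k.1 hkB _ hc' hy'
        rw [← ha, show a * x * a⁻¹ * (a * y * a⁻¹) = a * (x * y) * a⁻¹ by group, hxy,
          isClassFunction_irr k.1, u1, u2, u3] at h0
        rw [h0]; simp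
      · obtain ⟨a, ha⟩ := isConj_iff.1 (order_four_conj eS hnc h hi)
        rw [← hxy, apply_four_mul eS hM h hc hy hkB, ← isClassFunction_irr k.1 x a, ha, he, ue,
          Int.cast_zero]
    have hne1 : k.1 ≠ principal G := Finset.ne_of_mem_erase k.2
    have hreg := (regInt_height_zero hM hB h1B (blockHeight_one _) hkB).1
    apply hreg
    apply Int.cast_injective (α := ℂ)
    rw [regInt_spec Nat.prime_two, Int.cast_zero, mul_eq_zero]
    right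
    have e' : classInner (pRegularPart 2 ((principal G : IrrCharacter G) : G → ℂ)) (k.1 : G → ℂ) =
        classInner ((principal G : IrrCharacter G) : G → ℂ) (k.1 : G → ℂ) := by
      rw [classInner_def, classInner_def]
      congr 1
      refine Finset.sum_congr rfl fun g _ => ?_
      rw [pRegularPart_apply]
      split_ifs with hg
      · rw [hvan g hg, map_zero, mul_zero, mul_zero]
      · rfl
    rw [e', classInner_irr_ne (Ne.symm hne1)]
  rw [Finset.filter_true_of_mem fun k _ => hall k, Finset.card_univ, Fintype.card_coe,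
    Finset.card_erase_of_mem hpT] at hsix
  rw [Nat.card_eq_fintype_card, Fintype.card_subtype]
  have hp := Finset.card_pos.2 ⟨_, hpT⟩
  rw [hT] at hsix hp
  omega

end Cfsg.Lib.Blocks
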