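import Mathlib
import Cfsg.Prelude.Def_Local
import Cfsg.Agent.Blocks.QuaternionBlock
import Cfsg.Agent.Blocks.Feit3
import Cfsg.Agent.Components.Cores

/-!
# The Brauer–Suzuki theorem for the quaternion group of order eight
-/

set_option autoImplicit false
set_option linter.unusedSectionVars false

namespace Cfsg.Lib.Blocks

open Cfsg.Lib.Chars

universe u

/-- A normal subgroup inherits the absence of odd normal subgroups. -/
lemma odd_core_trivial_of_normal {G : Type u} [Group G] [Finite G] (N : Subgroup G) [N.Normal]
    (hO : ∀ K : Subgroup G, K.Normal → Odd (Nat.card K) → K = ⊥) :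
    ∀ K : Subgroup N, K.Normal → Odd (Nat.card K) → K = ⊥ := by
  intro K hK hodd
  set O := pPrimeCore 2 N with hOdef
  have hKO : K ≤ O := Cfsg.Lib.Components.le_pPrimeCore (Nat.coprime_two_right.2 hodd)
  have hOodd : Odd (Nat.card O) :=
    Nat.coprime_two_right.1 (Cfsg.Lib.Components.coprime_card_pPrimeCore 2)
  have hnorm : (O.map N.subtype).Normal := by
    refine ⟨?_⟩
    rintro _ ⟨x, hx, rfl⟩ g
    let f : N ≃* N := MulAut.conjNormal g
    haveI : (O.map f.toMonoidHom).Normal := (inferInstance : O.Normal).map _ f.surjective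
    have hle : O.map f.toMonoidHom ≤ O := Cfsg.Lib.Components.le_pPrimeCore (by
      rw [Subgroup.card_map_of_injective (f := f.toMonoidHom) f.injective]
      exact Nat.coprime_two_right.2 hOodd)
    exact ⟨f x, hle ⟨x, hx, rfl⟩, MulAut.conjNormal_apply _ _⟩
  have h0 := hO _ hnorm (by rwa [Subgroup.card_map_of_injective (Subgroup.subtype_injective N)])
  rw [Subgroup.map_eq_bot_iff_of_injective _ (Subgroup.subtype_injective N)] at h0
  exact le_bot_iff.1 (hKO.trans h0.le)

/-- Without odd normal subgroups a quaternion Sylow subgroup and a central involution give a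
centre of order two. -/
lemma card_center_of_central_involution {G : Type u} [Group G] [Finite G] {S : Sylow 2 G}
    (eS : (S : Subgroup G) ≃* QuaternionGroup 2)
    (hO : ∀ K : Subgroup G, K.Normal → Odd (Nat.card K) → K = ⊥) {z : G} (hz : orderOf z = 2)
    (hzc : z ∈ Subgroup.center G) : Nat.card (Subgroup.center G) = 2 := by
  classical
  letI := Fintype.ofFinite G
  haveI : Fact (Nat.Prime 2) := ⟨Nat.prime_two⟩
  have hp : IsPGroup 2 (Subgroup.center G) := by
    refine IsPGroup.iff_orderOf.2 fun c => ?_
    rw [← Subgroup.orderOf_coe]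
    obtain ⟨k, n, hn, hkn⟩ := Nat.exists_eq_pow_mul_and_not_dvd (orderOf_pos (c : G)).ne' 2 (by norm_num)
    refine ⟨k, ?_⟩
    suffices hn1 : n = 1 by rw [hkn, hn1, mul_one]
    have hK : Subgroup.zpowers ((c : G) ^ 2 ^ k) = ⊥ := hO _
      ⟨fun y hy g => by
        have hyc : y ∈ Subgroup.center G := (Subgroup.zpowers_le.2 (pow_mem c.2 _)) hy
        rwa [Subgroup.mem_center_iff.1 hyc g, mul_inv_cancel_right]⟩
      (by rw [Nat.card_zpowers, orderOf_pow_of_dvd (pow_ne_zero k two_ne_zero) ⟨n, hkn⟩, hkn,
            Nat.mul_div_cancel_left _ (pow_pos two_pos k)]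
          exact Nat.not_even_iff_odd.1 fun h => hn (even_iff_two_dvd.1 h))
    rw [Subgroup.zpowers_eq_bot, ← orderOf_eq_one_iff,
      orderOf_pow_of_dvd (pow_ne_zero k two_ne_zero) ⟨n, hkn⟩, hkn,
      Nat.mul_div_cancel_left _ (pow_pos two_pos k)] at hK
    exact hK
  obtain ⟨Q, hQ⟩ := hp.exists_le_sylow
  obtain ⟨g, hg⟩ := MulAction.exists_smul_eq G Q S
  have hle : Subgroup.center G ≤ (S : Subgroup G) := fun c hc => by
    rw [← hg, Sylow.coe_subgroup_smul, Subgroup.mem_pointwise_smul_iff_inv_smul_mem]
    have e : (MulAut.conj g)⁻¹ • c = c := by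
      show g⁻¹ * c * g = c
      rw [mul_assoc, ← Subgroup.mem_center_iff.1 hc g, inv_mul_cancel_left]
    rw [e]
    exact hQ hc
  obtain ⟨-, ⟨w, -, -, h1, h2⟩, h3, h4, -⟩ := q8_facts eS
  have hsub : ∀ c ∈ Subgroup.center G, c = 1 ∨ c = z := by
    have key : ∀ c ∈ Subgroup.center G, c = 1 ∨ c = w := by
      intro c hc
      refine h1 c (hle hc) ?_
      obtain ⟨v, -, hv⟩ := h4 c (hle hc)
      rw [Subgroup.mem_center_iff.1 hc v, mul_inv_cancel_right] at hv
      exact eq_inv_iff_mul_eq_one.1 hv
    intro c hc
    rcases key c hc with h | h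
    · exact Or.inl h
    · refine Or.inr (h.trans ((key z hzc).resolve_left fun h0 => ?_).symm)
      rw [h0, orderOf_one] at hz
      omega
  rw [Nat.card_eq_two_iff]
  refine ⟨1, ⟨z, hzc⟩, fun h => ?_, Set.eq_univ_of_forall fun c => ?_⟩
  · have := congrArg Subtype.val h
    simp only [OneMemClass.coe_one] at this
    rw [← this, orderOf_one] at hz
    omega
  · rcases hsub c.1 c.2 with h | h
    · exact Or.inl (Subtype.ext h)
    · exact Or.inr (Subtype.ext h)

/-- A group with a quaternion Sylow subgroup and no normal complement to it has a proper normal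
subgroup containing all involutions. -/
lemma exists_normal_with_involutions {G : Type u} [Group G] [Finite G] {S : Sylow 2 G}
    (eS : (S : Subgroup G) ≃* QuaternionGroup 2)
    (hnc : ∀ N : Subgroup G, N.Normal → ¬ Subgroup.IsComplement' N (S : Subgroup G)) :
    ∃ N : Subgroup G, N.Normal ∧ N ≠ ⊤ ∧ ∀ z : G, orderOf z = 2 → z ∈ N := by
  classical
  letI := Fintype.ofFinite G
  obtain ⟨M, hM⟩ := exists_isPModular Nat.prime_two
  obtain ⟨⟨χ, -, hne, z, hz, hval⟩, -⟩ := quaternion_block eS hnc hM
  set N := kerSubgroup (χ : G → ℂ) (isCharacter_of_irr χ.2) with hN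
  haveI : N.Normal := kerSubgroup_normal (isCharacter_of_irr χ.2)
  refine ⟨N, inferInstance, fun htop => hne ?_, fun t ht => ?_⟩
  · have hconst : ∀ g : G, (χ : G → ℂ) g = (χ : G → ℂ) 1 := fun g =>
      (mem_kerSubgroup (isCharacter_of_irr χ.2) g).1 (show g ∈ N from htop ▸ Subgroup.mem_top g)
    by_contra h
    have h0 := classInner_irr_ne h
    rw [classInner_def, Finset.sum_congr rfl fun (g : G) _ => show (χ : G → ℂ) g *
      starRingEnd ℂ (((principal G : IrrCharacter G) : G → ℂ) g) = (χ : G → ℂ) 1 by
        rw [show ((principal G : IrrCharacter G) : G → ℂ) g = 1 from rfl, map_one, mul_one, hconst],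
      Finset.sum_const, nsmul_eq_mul, Finset.card_univ, ← Nat.card_eq_fintype_card,
      inv_mul_cancel_left₀ (Nat.cast_ne_zero.2 Nat.card_pos.ne')] at h0
    exact IsIrrCharacter.apply_one_ne_zero χ.2 h0
  · obtain ⟨g, hg⟩ := isConj_iff.1 (involutions_conj eS hz ht)
    rw [← hg]
    exact (inferInstance : N.Normal).conj_mem z ((mem_kerSubgroup _ z).2 hval) g

/-- **The Brauer–Suzuki theorem for the quaternion group of order eight.** -/
theorem brauer_suzuki_q8 : ∀ (n : ℕ) {G : Type u} [Group G] [Finite G], Nat.card G = n →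
    ∀ {S : Sylow 2 G}, ((S : Subgroup G) ≃* QuaternionGroup 2) →
      (∀ K : Subgroup G, K.Normal → Odd (Nat.card K) → K = ⊥) →
      Nat.card (Subgroup.center G) = 2 := by
  intro n
  induction n using Nat.strong_induction_on with
  | _ n ih =>
    intro G _ _ hn S eS hO
    classical
    letI := Fintype.ofFinite G
    haveI : Fact (Nat.Prime 2) := ⟨Nat.prime_two⟩
    obtain ⟨-, ⟨z, hzS, hz, h1, h2⟩, -⟩ := q8_facts eS
    refine card_center_of_central_involution eS hO hz ?_
    by_cases hnc : ∀ N : Subgroup G, N.Normal → ¬ Subgroup.IsComplement' N (S : Subgroup G)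
    swap
    · push Not at hnc
      obtain ⟨K, hK, hc⟩ := hnc
      have hKodd : Odd (Nat.card K) := by
        rw [Nat.odd_iff, ← Nat.two_dvd_ne_zero, ← hc.index_eq_card]
        exact S.not_dvd_index
      have hST : (S : Subgroup G) = ⊤ := by
        rw [hO K hK hKodd] at hc
        exact Subgroup.isComplement'_bot_left.1 hc
      refine Subgroup.mem_center_iff.2 fun u => ?_
      have hu : u ∈ (S : Subgroup G) := hST ▸ Subgroup.mem_top u
      by_cases hu2 : u * u = 1
      · rcases h1 u hu hu2 with h | h <;> simp [h]
      · rw [← h2 u hu hu2]; group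
    obtain ⟨N, hN, hNtop, hNz⟩ := exists_normal_with_involutions eS hnc
    -- an involution of a normal subgroup generated inside `S` which is unique is central
    suffices hfix : ∀ g : G, g * z * g⁻¹ = z from
      Subgroup.mem_center_iff.2 fun g => mul_inv_eq_iff_eq_mul.1 (hfix g)
    intro g
    have hgz : orderOf (g * z * g⁻¹) = 2 := by rw [← MulAut.conj_apply, MulEquiv.orderOf_eq, hz]
    have huniq : ∀ t ∈ (S : Subgroup G), orderOf t = 2 → t = z := fun t ht ht2 =>
      (h1 t ht (by rw [← pow_two, ← ht2, pow_orderOf_eq_one])).resolve_left fun h => by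
        rw [h, orderOf_one] at ht2; omega
    by_cases hSN : (S : Subgroup G) ≤ N
    · set T : Sylow 2 N := S.subtype hSN with hT
      have eT : (T : Subgroup N) ≃* QuaternionGroup 2 :=
        (Subgroup.subgroupOfEquivOfLe hSN).trans eS
      have hlt : Nat.card N < n := hn ▸
        lt_of_le_of_ne (Nat.le_of_dvd Nat.card_pos N.card_subgroup_dvd_card)
          fun h => hNtop (Subgroup.eq_top_of_card_eq N h)
      have hc2 := ih _ hlt (G := N) rfl eT (odd_core_trivial_of_normal N hO)
      -- the centre of `N` has one involution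
      have hzN : z ∈ N := hSN hzS
      obtain ⟨a, b, hab, huniv⟩ := Nat.card_eq_two_iff.1 hc2
      obtain ⟨w, hw1⟩ : ∃ w : Subgroup.center N, w ≠ 1 := by
        by_cases ha : a = 1
        · exact ⟨b, fun h => hab (ha.trans h.symm)⟩
        · exact ⟨a, ha⟩
      have hall : ∀ c : Subgroup.center N, c = 1 ∨ c = w := by
        intro c
        have hc : c = a ∨ c = b := by simpa using (huniv.symm ▸ Set.mem_univ c : c ∈ ({a, b} : Set _))
        have hw' : w = a ∨ w = b := by simpa using (huniv.symm ▸ Set.mem_univ w : w ∈ ({a, b} : Set _))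
        have h1' : (1 : Subgroup.center N) = a ∨ (1 : Subgroup.center N) = b := by
          simpa using (huniv.symm ▸ Set.mem_univ 1 : (1 : Subgroup.center N) ∈ ({a, b} : Set _))
        grind
      have hwo : orderOf ((w : N) : G) = 2 := by
        rw [Subgroup.orderOf_coe, Subgroup.orderOf_coe]
        refine orderOf_eq_prime ?_ hw1
        exact orderOf_dvd_iff_pow_eq_one.1 (hc2 ▸ orderOf_dvd_natCard w)
      have hwz : ((w : N) : G) = z := by
        refine eq_of_commute_involutions eS hwo hz ?_
        exact (congrArg Subtype.val (Subgroup.mem_center_iff.1 w.2 ⟨z, hzN⟩)).symm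
      have hmem : (MulAut.conjNormal g : MulAut N) (w : N) ∈ Subgroup.center N := by
        refine Subgroup.mem_center_iff.2 fun d => ?_
        have h := congrArg (MulAut.conjNormal g : MulAut N)
          (Subgroup.mem_center_iff.1 w.2 ((MulAut.conjNormal g : MulAut N).symm d))
        rwa [map_mul, map_mul, MulEquiv.apply_symm_apply] at h
      rcases hall ⟨_, hmem⟩ with h | h
      · have := congrArg (fun c : Subgroup.center N => ((c : N) : G)) h
        simp only [MulAut.conjNormal_apply, hwz, OneMemClass.coe_one] at this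
        rw [this, orderOf_one] at hgz
        omega
      · have := congrArg (fun c : Subgroup.center N => ((c : N) : G)) h
        simpa only [MulAut.conjNormal_apply, hwz] using this
    · -- the Sylow subgroup of `N` is cyclic
      set T : Sylow 2 N := Classical.arbitrary _ with hT
      obtain ⟨Q, hQ⟩ := (T.2.map N.subtype).exists_le_sylow
      have eQ : (Q : Subgroup G) ≃* QuaternionGroup 2 := (Sylow.equiv Q S).trans eS
      obtain ⟨hcard, ⟨w, -, -, q1, -⟩, q3, -, -⟩ := q8_facts eQ
      set A := (T : Subgroup N).map N.subtype with hA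
      have hlt : Nat.card A < 8 := by
        have hle := Nat.le_of_dvd Nat.card_pos (Subgroup.card_dvd_of_le hQ)
        rw [hcard] at hle
        refine lt_of_le_of_ne hle fun h => hSN ?_
        have hQN : (Q : Subgroup G) ≤ N := by
          rw [← Subgroup.eq_of_le_of_card_ge hQ (by rw [h, hcard])]
          exact Subgroup.map_subtype_le _
        obtain ⟨x, hx⟩ := MulAction.exists_smul_eq G Q S
        intro s hs
        rw [← hx, Sylow.coe_subgroup_smul, Subgroup.mem_pointwise_smul_iff_inv_smul_mem] at hs
        have h' : x⁻¹ * s * x ∈ N := hQN hs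
        have := hN.conj_mem _ h' x
        rwa [show x * (x⁻¹ * s * x) * x⁻¹ = s by group] at this
      have hd : Nat.card A ∣ 8 := hcard ▸ Subgroup.card_dvd_of_le hQ
      have hcyc : IsCyclic A := by
        by_cases h4 : ∃ a ∈ A, a * a ≠ 1
        · obtain ⟨a, haA, ha⟩ := h4
          have h2A : 4 ≤ Nat.card A := by
            have ha4 : orderOf a = 4 := by
              rcases two_element_cases eQ (IsPGroup.iff_orderOf.1 Q.2 ⟨a, hQ haA⟩ |>.imp fun k hk =>
                by rw [← hk, Subgroup.orderOf_mk]) with h | h | h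
              · exact absurd (by rw [h, one_mul]) ha
              · exact absurd (by rw [← pow_two, ← h, pow_orderOf_eq_one]) ha
              · exact h.1
            rw [← ha4, ← Nat.card_zpowers]
            exact Nat.le_of_dvd Nat.card_pos (Subgroup.card_dvd_of_le (Subgroup.zpowers_le.2 haA))
          have h4' : Nat.card A = 4 := by
            generalize Nat.card A = c at hd hlt h2A ⊢
            interval_cases c <;> first | rfl | omega
          have ha4 : Nat.card (Subgroup.zpowers a) = 4 := by
            refine le_antisymm (h4' ▸ Nat.le_of_dvd Nat.card_pos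
              (Subgroup.card_dvd_of_le (Subgroup.zpowers_le.2 haA))) ?_
            rw [Nat.card_zpowers]
            rcases two_element_cases eQ (IsPGroup.iff_orderOf.1 Q.2 ⟨a, hQ haA⟩ |>.imp fun k hk =>
              by rw [← hk, Subgroup.orderOf_mk]) with h | h | h
            · exact absurd (by rw [h, one_mul]) ha
            · exact absurd (by rw [← pow_two, ← h, pow_orderOf_eq_one]) ha
            · exact h.1.ge
          rw [← Subgroup.eq_of_le_of_card_ge (Subgroup.zpowers_le.2 haA) (by rw [h4', ha4])]
          infer_instance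
        · push Not at h4
          have hle : Nat.card A ≤ 2 := by
            have hsub : ∀ a : A, (a : G) = 1 ∨ (a : G) = w := fun a => q1 _ (hQ a.2) (h4 _ a.2)
            refine le_trans (Nat.card_le_card_of_injective
              (fun a : A => decide ((a : G) = 1)) fun a b h => Subtype.ext ?_) (by simp)
            simp only [decide_eq_decide] at h
            rcases hsub a with ha | ha <;> rcases hsub b with hb | hb <;>
              first
                | exact ha.trans hb.symm
                | exact ha.trans (h.1 ha).symm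
                | exact (h.2 hb).trans hb.symm
          rcases Nat.eq_or_lt_of_le hle with h2 | h2
          · exact isCyclic_of_prime_card (p := 2) h2
          · haveI : Subsingleton A :=
              (Nat.card_eq_one_iff_unique.1 (by have := Nat.card_pos (α := A); omega)).1
            exact isCyclic_of_subsingleton
      haveI : IsCyclic (T : Subgroup N) :=
        ((Subgroup.equivMapOfInjective (T : Subgroup N) N.subtype N.subtype_injective).isCyclic).2 hcyc
      have h2N : 2 ∣ Nat.card N := by
        rw [← hz]
        exact Subgroup.orderOf_dvd_natCard N (hNz z hz)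
      have hc := IsCyclic.isComplement' (P := T) ((Nat.minFac_eq_two_iff _).mpr h2N) inferInstance
      have hbot := odd_core_trivial_of_normal N hO _ inferInstance (by
        rw [Nat.odd_iff, ← Nat.two_dvd_ne_zero, ← hc.index_eq_card]
        exact T.not_dvd_index)
      rw [hbot] at hc
      have hTtop : (T : Subgroup N) = ⊤ := Subgroup.isComplement'_bot_left.1 hc
      have hmem : ∀ t : G, orderOf t = 2 → t ∈ (Q : Subgroup G) := fun t ht =>
        hQ ⟨⟨t, hNz t ht⟩, hTtop ▸ Subgroup.mem_top _, rfl⟩
      have hQu : ∀ t : G, orderOf t = 2 → t = w := fun t ht =>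
        (q1 t (hmem t ht) (by rw [← pow_two, ← ht, pow_orderOf_eq_one])).resolve_left fun h => by
          rw [h, orderOf_one] at ht; omega
      rw [hQu _ hgz, hQu z hz]

end Cfsg.Lib.Blocks
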