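import Mathlib
import Cfsg.Prelude.Def_Local
import Cfsg.Prelude.Def_TwoFusion
import Cfsg.Agent.S0201
import Cfsg.Agent.S0943
import Cfsg.Agent.S0944
import Cfsg.Agent.InvolCalc.Isolated
import Cfsg.Agent.Frobenius.UniqueSubgroup
import Cfsg.Agent.Blocks.Third
import Cfsg.Agent.Blocks.Feit3

/-!
# Glauberman's theorem on isolated involutions
-/

set_option autoImplicit false
set_option linter.unusedSectionVars false

namespace Cfsg.Lib.Blocks

open Cfsg.Lib.Chars
open scoped ComplexConjugate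

universe u

variable {G : Type u} [Group G] [Finite G] {z : G}

lemma isolated_conj_mul_self (hz : IsIsolatedInvolution z) (g : G) :
    Odd (orderOf (z * (g * z * g⁻¹))) :=
  Cfsg.Lib.Isolated.odd_orderOf_mul' hz g

/-- An isolated involution stays isolated in a subgroup. -/
lemma isolated_subgroup (hz : IsIsolatedInvolution z) (H : Subgroup G) (hzH : z ∈ H) :
    IsIsolatedInvolution (⟨z, hzH⟩ : H) :=
  ⟨by rw [Subgroup.orderOf_mk]; exact hz.1, fun g hg =>
    Subtype.ext (hz.2 g (congrArg Subtype.val hg.eq))⟩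

/-- An isolated involution stays isolated modulo a normal subgroup not containing it in which
the only element of odd order of the form `[z, g]` ... is trivial in the quotient. -/
lemma isolated_quotient (hz : IsIsolatedInvolution z) (K : Subgroup G) [K.Normal] (hzK : z ∉ K) :
    IsIsolatedInvolution (z : G ⧸ K) := by
  have hz2 : z * z = 1 := by rw [← pow_two, ← hz.1, pow_orderOf_eq_one]
  have hzb : (z : G ⧸ K) * z = 1 := by rw [← QuotientGroup.mk_mul, hz2, QuotientGroup.mk_one]
  refine ⟨orderOf_eq_prime (by rw [pow_two, hzb]) fun h => hzK ((QuotientGroup.eq_one_iff z).1 h),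
    fun gb hgb => ?_⟩
  obtain ⟨g, rfl⟩ := QuotientGroup.mk_surjective gb
  rw [← QuotientGroup.mk_inv, ← QuotientGroup.mk_mul, ← QuotientGroup.mk_mul] at hgb ⊢
  have hzi : z⁻¹ = z := inv_eq_of_mul_eq_one_right hz2
  set s := g * z * g⁻¹ with hs
  have hs2 : (s : G ⧸ K) * s = 1 := by
    rw [← QuotientGroup.mk_mul, hs, show g * z * g⁻¹ * (g * z * g⁻¹) = g * (z * z) * g⁻¹ by group,
      hz2, mul_one, mul_inv_cancel, QuotientGroup.mk_one]
  have hw2 : ((z * s : G) : G ⧸ K) ^ 2 = 1 := by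
    rw [pow_two, QuotientGroup.mk_mul, hgb.symm.mul_mul_mul_comm, hzb, hs2, one_mul]
  have hodd : Odd (orderOf ((z * s : G) : G ⧸ K)) :=
    (isolated_conj_mul_self hz g).of_dvd_nat (orderOf_map_dvd (QuotientGroup.mk' K) _)
  have h1 : orderOf ((z * s : G) : G ⧸ K) = 1 := by
    rcases (Nat.dvd_prime Nat.prime_two).1 (orderOf_dvd_of_pow_eq_one hw2) with h | h
    · exact h
    · rw [h] at hodd; exact absurd hodd (by decide)
  rw [orderOf_eq_one_iff, QuotientGroup.eq_one_iff] at h1
  refine (QuotientGroup.eq.2 ?_).symm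
  rwa [hzi]

/-- The product of an isolated involution with a conjugate of a commuting involution. -/
lemma product_decomp (hz : IsIsolatedInvolution z) {t : G} (ht : orderOf t = 2) (hzt : Commute z t)
    (hne : t ≠ z) (g : G) :
    ∃ c o : G, Commute c z ∧ Commute o (z * t) ∧ Odd (orderOf o) ∧ z * o * z⁻¹ = o⁻¹ ∧
      z * (g * t * g⁻¹) = c * ((z * t) * o) * c⁻¹ := by
  have hz2 : z * z = 1 := by rw [← pow_two, ← hz.1, pow_orderOf_eq_one]
  have hzi : z⁻¹ = z := inv_eq_of_mul_eq_one_right hz2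
  set y := g * t * g⁻¹ with hy
  have hy2 : orderOf y = 2 := by rw [hy, ← MulAut.conj_apply, MulEquiv.orderOf_eq, ht]
  have hyy : y * y = 1 := by rw [← pow_two, ← hy2, pow_orderOf_eq_one]
  set d := z * y with hd
  have hrot : ∀ i : ℤ, d ^ i * z * (d ^ i)⁻¹ = d ^ (2 * i) * z := fun i =>
    Cfsg.Lib.InvolCalc.conj_rot hz.1 hy2 i
  -- the square of the product has odd order
  have hd2 : Odd (orderOf (d ^ 2)) := by
    have h := isolated_conj_mul_self hz d
    have e : z * (d * z * d⁻¹) = (d ^ 2)⁻¹ := by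
      have h1 := hrot 1
      rw [zpow_one, mul_one, show ((2 : ℤ)) = ((2 : ℕ) : ℤ) from rfl, zpow_natCast] at h1
      rw [h1, hd, pow_two, mul_inv_rev, mul_inv_rev, hzi, inv_eq_of_mul_eq_one_right hyy]
      calc z * (z * y * (z * y) * z) = (z * z) * y * z * y * z := by group
        _ = y * z * (y * z) := by rw [hz2]; group
    rwa [e, orderOf_inv] at h
  -- its order is even
  have hev : Even (orderOf d) := by
    by_contra ho
    rw [Nat.not_even_iff_odd] at ho
    obtain ⟨k, hk⟩ := ho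
    have h1 := hrot k
    rw [show (2 * (k : ℤ)) = ((2 * k : ℕ) : ℤ) by push_cast; ring, zpow_natCast, zpow_natCast] at h1
    have h2 : d ^ (2 * k) * z = y := by
      have h3 : d ^ (2 * k) = d⁻¹ := eq_inv_of_mul_eq_one_left (by
        rw [← pow_succ, ← hk, pow_orderOf_eq_one])
      rw [h3, hd, mul_inv_rev, hzi, inv_eq_of_mul_eq_one_right hyy, mul_assoc, hz2, mul_one]
    rw [h2, hy] at h1
    refine hne ?_
    have h3 : (g⁻¹ * d ^ k) * z * (g⁻¹ * d ^ k)⁻¹ = t := by
      calc (g⁻¹ * d ^ k) * z * (g⁻¹ * d ^ k)⁻¹ = g⁻¹ * (d ^ k * z * (d ^ k)⁻¹) * g := by group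
        _ = t := by rw [h1]; group
    rw [← h3]
    exact hz.2 _ (h3 ▸ hzt)
  obtain ⟨m, hm⟩ := hev
  have hmodd : Odd m := by
    rwa [orderOf_pow' d two_ne_zero, hm, ← two_mul, Nat.gcd_eq_right ⟨m, rfl⟩,
      Nat.mul_div_cancel_left _ two_pos] at hd2
  obtain ⟨j, hj⟩ := hmodd
  set w := d ^ m with hw
  have hw2 : w * w = 1 := by rw [hw, ← pow_add, ← hm, pow_orderOf_eq_one]
  have hwi : w⁻¹ = w := inv_eq_of_mul_eq_one_right hw2
  have hflip : ∀ i : ℕ, z * d ^ i * z⁻¹ = (d ^ i)⁻¹ := by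
    intro i
    rw [← conj_pow, show z * d * z⁻¹ = d⁻¹ by
      rw [hd, mul_inv_rev, inv_eq_of_mul_eq_one_right hyy, hzi, ← mul_assoc, hz2, one_mul], inv_pow]
  have hzw : Commute z w := by
    have h := hflip m
    rw [← hw, hwi, mul_inv_eq_iff_eq_mul] at h
    exact h
  -- `z w` is conjugate to `t`
  obtain ⟨k, hk⟩ : ∃ k : G, k * t * k⁻¹ = z * w := by
    refine ⟨(d ^ j)⁻¹ * g, ?_⟩
    have hzd : z * d = y := by rw [hd, ← mul_assoc, hz2, one_mul]
    have hflip' : d ^ j * z = z * (d ^ j)⁻¹ := by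
      rw [← hflip j, ← mul_assoc, ← mul_assoc, hz2, one_mul, hzi]
    calc (d ^ j)⁻¹ * g * t * ((d ^ j)⁻¹ * g)⁻¹ = (d ^ j)⁻¹ * y * d ^ j := by rw [hy]; group
      _ = (d ^ j)⁻¹ * (z * d) * d ^ j := by rw [hzd]
      _ = z * w := by
          have h' : (d ^ j)⁻¹ * z = z * d ^ j := by
            rw [← hflip j]
            rw [mul_assoc, inv_mul_cancel, mul_one]
          rw [← mul_assoc, h', hw, hj, mul_assoc, mul_assoc, ← pow_succ', ← pow_add]
          congr 2
          omega
  obtain ⟨c, -, hcz, hct⟩ := Cfsg.Lib.Isolated.fusion hz ⊤ (Subgroup.le_normalizer (Subgroup.mem_top z))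
    (x := t) (h := k) hzt.symm (by rw [hk]; exact ((Commute.refl z).mul_left hzw.symm))
    (Subgroup.mem_top k)
  rw [hk] at hct
  have hcw : c * (z * t) * c⁻¹ = w := by
    calc c * (z * t) * c⁻¹ = (c * z * c⁻¹) * (c * t * c⁻¹) := by group
      _ = z * (z * w) := by rw [hct, hcz.eq, mul_inv_cancel_right]
      _ = w := by rw [← mul_assoc, hz2, one_mul]
  set o := d ^ (m + 1) with ho
  have hcw' : c⁻¹ * w * c = z * t := by rw [← hcw]; group
  have hwo : w * o = d := by
    rw [hw, ho, ← pow_add, show m + (m + 1) = orderOf d + 1 by omega, pow_succ, pow_orderOf_eq_one,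
      one_mul]
  refine ⟨c, c⁻¹ * o * c, hcz, ?_, ?_, ?_, ?_⟩
  · rw [← hcw']
    show c⁻¹ * o * c * (c⁻¹ * w * c) = c⁻¹ * w * c * (c⁻¹ * o * c)
    rw [show c⁻¹ * o * c * (c⁻¹ * w * c) = c⁻¹ * (o * w) * c by group,
      show c⁻¹ * w * c * (c⁻¹ * o * c) = c⁻¹ * (w * o) * c by group, hw, ho, ← pow_add, ← pow_add,
      add_comm]
  · rw [show c⁻¹ * o * c = MulAut.conj c⁻¹ o by simp, MulEquiv.orderOf_eq, ho,
      show m + 1 = 2 * (j + 1) by omega, pow_mul]
    exact hd2.of_dvd_nat (orderOf_pow_dvd _)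
  · calc z * (c⁻¹ * o * c) * z⁻¹ = c⁻¹ * (z * o * z⁻¹) * c := by
          rw [← mul_assoc, ← mul_assoc, show z * c⁻¹ = c⁻¹ * z from hcz.inv_left.symm.eq,
            mul_assoc _ c z⁻¹, show c * z⁻¹ = z⁻¹ * c from hcz.inv_right.eq]
          group
      _ = c⁻¹ * o⁻¹ * c := by rw [ho, hflip]
      _ = (c⁻¹ * o * c)⁻¹ := by group
  · rw [← hcw', show c * (c⁻¹ * w * c * (c⁻¹ * o * c)) * c⁻¹ = w * o by group, hwo]

/-- The principal block is constant on `v O(C(v))`. -/
lemma apply_mul_core [Fintype G] {M : Ideal AlgInt} (hM : IsPModular 2 M) {v o : G}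
    (hv : orderOf v = 2) (hvo : Commute v o)
    (ho : ⟨o, Subgroup.mem_centralizer_singleton_iff.2 hvo.symm.eq⟩ ∈
      pPrimeCore 2 (Subgroup.centralizer ({v} : Set G)))
    {χ : IrrCharacter G} (hχ : χ ∈ principalBlock M G) :
    (χ : G → ℂ) (v * o) = (χ : G → ℂ) v := by
  classical
  set H := Subgroup.centralizer ({v} : Set G) with hH
  letI := Fintype.ofFinite H
  set o' : H := ⟨o, Subgroup.mem_centralizer_singleton_iff.2 hvo.symm.eq⟩
  have hH' : H = Subgroup.centralizer (Subgroup.zpowers v : Set G) := (centralizer_zpowers v).symm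
  have hx : ∃ k : ℕ, orderOf v = 2 ^ k := ⟨1, by rw [hv, pow_one]⟩
  have hB : IsPBlock M (principalBlock M G) := isPBlock_blockOf (principal G)
  have hcop := Cfsg.Lib.Components.coprime_card_pPrimeCore (G := H) 2
  have hK : ¬ 2 ∣ Nat.card (pPrimeCore 2 H) := fun h => by
    have := Nat.eq_one_of_dvd_coprimes hcop h dvd_rfl
    omega
  have ho2 : ¬ 2 ∣ orderOf o' := fun h => hK (h.trans (Subgroup.orderOf_dvd_natCard _ ho))
  have h1 : ¬ 2 ∣ orderOf (1 : H) := by rw [orderOf_one]; norm_num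
  have e : ∀ y : H, ¬ 2 ∣ orderOf y → (χ : G → ℂ) (v * (y : G)) =
      blockPart (principalBlock M H) (fun c : H => (χ : G → ℂ) (v * (c : G))) y := fun y hy => by
    rw [apply_mul_eq_sum_blockPart hM hx hH' hB hχ hy, filter_induced_principal hM hx hH',
      Finset.sum_singleton]
  show (χ : G → ℂ) (v * (o' : G)) = _
  conv_rhs => rw [← mul_one v, ← OneMemClass.coe_one H, e 1 h1]
  rw [e o' ho2, blockPart_eq_sum, blockPart_eq_sum]
  refine Finset.sum_congr rfl fun ψ hψ => ?_
  rw [apply_eq_of_mem_normal_pPrime hM (pPrimeCore 2 H) hK (Finset.mem_filter.1 hψ).2 ho]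

omit [Finite G] in
/-- The statement proved by induction. -/
def ZStarProp (z : G) : Prop :=
  ∀ g : G, z * g * z⁻¹ * g⁻¹ ∈ pPrimeCore 2 G

/-- Multiplicativity of the principal block on the two classes. -/
lemma char_mul_isolated [Fintype G] {M : Ideal AlgInt} (hM : IsPModular 2 M)
    (hz : IsIsolatedInvolution z) {t : G} (ht : orderOf t = 2) (hzt : Commute z t) (hne : t ≠ z)
    (hv : orderOf (z * t) = 2)
    (hrec : ZStarProp (⟨z, Subgroup.mem_centralizer_singleton_iff.2
      ((Commute.refl z).mul_right hzt).eq⟩ : Subgroup.centralizer ({z * t} : Set G)))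
    {χ : IrrCharacter G} (hχ : χ ∈ principalBlock M G) :
    (χ : G → ℂ) z * (χ : G → ℂ) t = (χ : G → ℂ) 1 * (χ : G → ℂ) (z * t) := by
  refine Cfsg.Agent.S0943.result χ z t fun x y hx hy => ?_
  obtain ⟨a, rfl⟩ := isConj_iff.1 hx
  obtain ⟨b, rfl⟩ := isConj_iff.1 hy
  rw [show a * z * a⁻¹ * (b * t * b⁻¹) = a * (z * ((a⁻¹ * b) * t * (a⁻¹ * b)⁻¹)) * a⁻¹ by group,
    isClassFunction_irr χ]
  obtain ⟨c, o, -, hco, hodd, hflip, he⟩ := product_decomp hz ht hzt hne (a⁻¹ * b)
  rw [he, isClassFunction_irr χ]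
  refine apply_mul_core hM hv hco.symm ?_ hχ
  set o' : Subgroup.centralizer ({z * t} : Set G) :=
    ⟨o, Subgroup.mem_centralizer_singleton_iff.2 hco.eq⟩ with ho'
  show o' ∈ _
  have h := inv_mem (hrec o')
  obtain ⟨k, hk⟩ := hodd
  have e : o' = ((⟨z, Subgroup.mem_centralizer_singleton_iff.2
      ((Commute.refl z).mul_right hzt).eq⟩ * o' * (⟨z, Subgroup.mem_centralizer_singleton_iff.2
      ((Commute.refl z).mul_right hzt).eq⟩)⁻¹ * o'⁻¹)⁻¹ :
        Subgroup.centralizer ({z * t} : Set G)) ^ (k + 1) := by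
    refine Subtype.ext ?_
    push_cast
    rw [show z * o * z⁻¹ * o⁻¹ = (o * o)⁻¹ by rw [hflip, mul_inv_rev], inv_inv, ← pow_two,
      ← pow_mul, show 2 * (k + 1) = orderOf o + 1 by omega, pow_succ, pow_orderOf_eq_one, one_mul]
  rw [e]
  exact pow_mem h _

/-- Without odd normal subgroups, an isolated involution in a proper normal subgroup is
central, if the theorem holds for that subgroup. -/
lemma central_of_mem_normal (hz : IsIsolatedInvolution z)
    (hO : ∀ K : Subgroup G, K.Normal → Odd (Nat.card K) → K = ⊥) (N : Subgroup G) [N.Normal]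
    (hzN : z ∈ N) (hrec : ZStarProp (⟨z, hzN⟩ : N)) : z ∈ Subgroup.center G := by
  have hbot : pPrimeCore 2 N = ⊥ := odd_core_trivial_of_normal N hO _ inferInstance
    (Nat.coprime_two_right.1 (Cfsg.Lib.Components.coprime_card_pPrimeCore 2))
  refine Subgroup.mem_center_iff.2 fun g => ?_
  have hgN : g * z * g⁻¹ ∈ N := (inferInstance : N.Normal).conj_mem z hzN g
  have h := hrec ⟨_, hgN⟩
  rw [hbot, Subgroup.mem_bot, mul_inv_eq_one] at h
  have hc : z * (g * z * g⁻¹) * z⁻¹ = g * z * g⁻¹ := congrArg Subtype.val h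
  exact mul_inv_eq_iff_eq_mul.1 (hz.2 g (mul_inv_eq_iff_eq_mul.1 hc))

/-- A central involution different from an isolated one. -/
lemma central_of_central_involution (hz : IsIsolatedInvolution z)
    (hO : ∀ K : Subgroup G, K.Normal → Odd (Nat.card K) → K = ⊥) {v : G} (hv : orderOf v = 2)
    (hvc : v ∈ Subgroup.center G) (hvz : v ≠ z)
    (hrec : ∀ [(Subgroup.zpowers v).Normal], ZStarProp (z : G ⧸ Subgroup.zpowers v)) :
    z ∈ Subgroup.center G := by
  classical
  haveI : Fact (Nat.Prime 2) := ⟨Nat.prime_two⟩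
  set X := Subgroup.zpowers v with hX
  haveI : X.Normal := ⟨fun c hc d => by
    have hcc : c ∈ Subgroup.center G := (Subgroup.zpowers_le.2 hvc) hc
    rwa [Subgroup.mem_center_iff.1 hcc d, mul_inv_cancel_right]⟩
  have hXc : Nat.card X = 2 := by rw [hX, Nat.card_zpowers, hv]
  set K := (pPrimeCore 2 (G ⧸ X)).comap (QuotientGroup.mk' X) with hK
  haveI : K.Normal := (inferInstance : (pPrimeCore 2 (G ⧸ X)).Normal).comap _
  have hKc : Nat.card K = 2 * Nat.card (pPrimeCore 2 (G ⧸ X)) := by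
    let f := (QuotientGroup.mk' X).subgroupComap (pPrimeCore 2 (G ⧸ X))
    have hf : Function.Surjective f := fun ⟨q, hq⟩ => by
      obtain ⟨x, rfl⟩ := QuotientGroup.mk'_surjective X q
      exact ⟨⟨x, hq⟩, rfl⟩
    have hker : f.ker = X.subgroupOf K := by
      ext c
      rw [MonoidHom.mem_ker, Subgroup.mem_subgroupOf, ← QuotientGroup.eq_one_iff]
      exact ⟨fun h => congrArg Subtype.val h, fun h => Subtype.ext h⟩
    have hXK : X ≤ K := fun c hc => by
      show (c : G ⧸ X) ∈ pPrimeCore 2 (G ⧸ X)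
      rw [(QuotientGroup.eq_one_iff c).2 hc]
      exact one_mem _
    rw [← Subgroup.card_mul_index f.ker, Subgroup.index_ker, f.range_eq_top.2 hf, Subgroup.card_top,
      hker, Nat.card_congr (Subgroup.subgroupOfEquivOfLe hXK).toEquiv, hXc]
  have hodd : Odd (Nat.card (pPrimeCore 2 (G ⧸ X))) :=
    Nat.coprime_two_right.1 (Cfsg.Lib.Components.coprime_card_pPrimeCore 2)
  obtain ⟨P, hP⟩ : ∃ P : Sylow 2 K, (P : Subgroup K) = X.subgroupOf K := by
    have hXK : X ≤ K := fun c hc => by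
      show (c : G ⧸ X) ∈ pPrimeCore 2 (G ⧸ X)
      rw [(QuotientGroup.eq_one_iff c).2 hc]
      exact one_mem _
    refine ⟨Sylow.ofCard (X.subgroupOf K) ?_, rfl⟩
    rw [Nat.card_congr (Subgroup.subgroupOfEquivOfLe hXK).toEquiv, hXc, hKc,
      Nat.factorization_mul two_ne_zero hodd.pos.ne', Finsupp.add_apply, Nat.prime_two.factorization_self,
      Nat.factorization_eq_zero_of_not_dvd fun h => by
        obtain ⟨a, ha⟩ := hodd; obtain ⟨b, hb⟩ := h; omega, add_zero, pow_one]
  haveI : IsCyclic (P : Subgroup K) := isCyclic_of_prime_card (p := 2) (by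
    rw [hP, Nat.card_congr (Subgroup.subgroupOfEquivOfLe (H := X) (K := K) fun c hc => by
      show (c : G ⧸ X) ∈ pPrimeCore 2 (G ⧸ X)
      rw [(QuotientGroup.eq_one_iff c).2 hc]
      exact one_mem _).toEquiv, hXc])
  have hc := IsCyclic.isComplement' (P := P)
    ((Nat.minFac_eq_two_iff _).mpr ⟨_, hKc⟩) inferInstance
  have hbot := odd_core_trivial_of_normal K hO _ inferInstance (by
    rw [Nat.odd_iff, ← Nat.two_dvd_ne_zero, ← hc.index_eq_card]
    exact P.not_dvd_index)
  rw [hbot, hP] at hc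
  have hKX : K ≤ X := fun c hc' =>
    (Subgroup.isComplement'_bot_left.1 hc).ge (Subgroup.mem_top (⟨c, hc'⟩ : K))
  refine Subgroup.mem_center_iff.2 fun g => ?_
  have hmem : z * g * z⁻¹ * g⁻¹ ∈ X := hKX (by
    show ((z * g * z⁻¹ * g⁻¹ : G) : G ⧸ X) ∈ pPrimeCore 2 (G ⧸ X)
    rw [QuotientGroup.mk_mul, QuotientGroup.mk_mul, QuotientGroup.mk_mul, QuotientGroup.mk_inv,
      QuotientGroup.mk_inv]
    exact hrec _)
  have hz2 : z⁻¹ = z := inv_eq_of_mul_eq_one_right (by rw [← pow_two, ← hz.1, pow_orderOf_eq_one])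
  have hodd' := isolated_conj_mul_self hz g
  rw [show z * (g * z * g⁻¹) = z * g * z⁻¹ * g⁻¹ by rw [hz2]; group] at hodd'
  have h1 : orderOf (z * g * z⁻¹ * g⁻¹) = 1 := Nat.eq_one_of_dvd_coprimes
    (Nat.coprime_two_right.2 hodd') dvd_rfl (hXc ▸ Subgroup.orderOf_dvd_natCard X hmem)
  rw [orderOf_eq_one_iff, mul_inv_eq_one, mul_inv_eq_iff_eq_mul] at h1
  exact h1.symm

/-- An involution commuting with no other involution. -/
lemma central_of_unique (hz : IsIsolatedInvolution z)
    (hO : ∀ K : Subgroup G, K.Normal → Odd (Nat.card K) → K = ⊥)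
    (huniq : ∀ t : G, orderOf t = 2 → Commute z t → t = z) : z ∈ Subgroup.center G := by
  classical
  haveI : Fact (Nat.Prime 2) := ⟨Nat.prime_two⟩
  obtain ⟨P, hP⟩ := (IsPGroup.of_card (p := 2) (n := 1)
    (by rw [Nat.card_zpowers, hz.1, pow_one] : Nat.card (Subgroup.zpowers z) = 2 ^ 1)).exists_le_sylow
  have hzP : z ∈ (P : Subgroup G) := hP (Subgroup.mem_zpowers z)
  have hcen : ∀ g ∈ (P : Subgroup G), Commute z g := by
    intro g hg
    obtain ⟨k, hk⟩ := IsPGroup.iff_orderOf.1 P.2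
      ⟨z * (g * z * g⁻¹), mul_mem hzP (mul_mem (mul_mem hg hzP) (inv_mem hg))⟩
    rw [Subgroup.orderOf_mk] at hk
    have h1 := isolated_conj_mul_self hz g
    rw [hk] at h1
    rcases Nat.eq_zero_or_pos k with rfl | hk0
    · rw [pow_zero, orderOf_eq_one_iff] at hk
      have h2 : g * z * g⁻¹ = z := by
        rw [eq_inv_of_mul_eq_one_right hk, inv_eq_of_mul_eq_one_right (by
          rw [← pow_two, ← hz.1, pow_orderOf_eq_one])]
      exact (mul_inv_eq_iff_eq_mul.1 h2).symm
    · exact absurd h1 (Nat.not_odd_iff_even.2 ((Nat.even_pow' hk0.ne').2 even_two))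
  have hu : ∀ x y : (P : Subgroup G), orderOf x = 2 → orderOf y = 2 → y ∈ Subgroup.zpowers x := by
    intro x y hx hy
    rw [← Subgroup.orderOf_coe] at hx hy
    have e : y = x := Subtype.ext ((huniq _ hy (hcen _ y.2)).trans (huniq _ hx (hcen _ x.2)).symm)
    rw [e]
    exact Subgroup.mem_zpowers x
  have hcyc : IsCyclic (P : Subgroup G) → z ∈ Subgroup.center G := fun hc => by
    have h2 : 2 ∣ Nat.card G := hz.1 ▸ orderOf_dvd_natCard z
    have hcompl := IsCyclic.isComplement' (P := P) ((Nat.minFac_eq_two_iff _).mpr h2) hc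
    have hbot := hO _ inferInstance (by
      rw [Nat.odd_iff, ← Nat.two_dvd_ne_zero, ← hcompl.index_eq_card]
      exact P.not_dvd_index)
    rw [hbot] at hcompl
    exact Subgroup.mem_center_iff.2 fun g =>
      (hcen g ((Subgroup.isComplement'_bot_left.1 hcompl).symm ▸ Subgroup.mem_top g)).symm
  rcases Cfsg.Lib.UniqueSub.isCyclic_or_quaternion P.2 hu with hc | ⟨-, n, ⟨e⟩⟩
  · exact hcyc hc
  obtain _ | n := n
  · haveI : IsCyclic (QuaternionGroup (2 ^ 0)) := QuaternionGroup.quaternionGroup_one_isCyclic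
    exact hcyc (e.isCyclic.2 inferInstance)
  have h2 := Cfsg.Agent.S0201.result P n e hO
  obtain ⟨⟨c, hc⟩, hco⟩ := exists_prime_orderOf_dvd_card' 2 (dvd_of_eq h2.symm)
  rw [Subgroup.orderOf_mk] at hco
  exact huniq c hco (Subgroup.mem_center_iff.1 hc z) ▸ hc

/-- The case where another involution commutes with the isolated one. -/
lemma central_of_commuting [Fintype G] (hz : IsIsolatedInvolution z)
    (hO : ∀ K : Subgroup G, K.Normal → Odd (Nat.card K) → K = ⊥) {t : G} (ht : orderOf t = 2)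
    (hzt : Commute z t) (hne : t ≠ z)
    (hsub : ∀ (H : Subgroup G) (hzH : z ∈ H), H ≠ ⊤ → ZStarProp (⟨z, hzH⟩ : H))
    (hquo : ∀ (v : G) [(Subgroup.zpowers v).Normal], orderOf v = 2 → v ≠ z →
      ZStarProp (z : G ⧸ Subgroup.zpowers v)) :
    z ∈ Subgroup.center G := by
  classical
  by_contra hcen
  have hz2 : z * z = 1 := by rw [← pow_two, ← hz.1, pow_orderOf_eq_one]
  have ht2 : t * t = 1 := by rw [← pow_two, ← ht, pow_orderOf_eq_one]
  have ht1 : t ≠ 1 := fun h => by rw [h, orderOf_one] at ht; omega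
  set v := z * t with hv
  have hv2 : orderOf v = 2 := by
    refine orderOf_eq_prime ?_ fun h => hne ?_
    · rw [pow_two, hv, hzt.symm.mul_mul_mul_comm, hz2, ht2, one_mul]
    · exact (eq_inv_of_mul_eq_one_right (show z * t = 1 from h)).trans
        (inv_eq_of_mul_eq_one_right hz2)
  have hvz : v ≠ z := fun h => ht1 (mul_eq_left.1 h)
  have hzv : Commute z v := (Commute.refl z).mul_right hzt
  have hzvt : z * v = t := by rw [hv, ← mul_assoc, hz2, one_mul]
  have hnorm : ∀ (N : Subgroup G) [N.Normal], z ∈ N → N = ⊤ := fun N _ hzN => by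
    by_contra h
    exact hcen (central_of_mem_normal hz hO N hzN (hsub N hzN h))
  have hC : ∀ w : G, orderOf w = 2 → w ≠ z → Subgroup.centralizer ({w} : Set G) ≠ ⊤ := fun w hw hwz h =>
    hcen (central_of_central_involution hz hO hw (Subgroup.mem_center_iff.2 fun g =>
      Subgroup.mem_centralizer_singleton_iff.1 (h.symm ▸ Subgroup.mem_top g)) hwz
      fun {_} => hquo w hw hwz)
  obtain ⟨M, hM⟩ := exists_isPModular Nat.prime_two
  have hB : IsPBlock M (principalBlock M G) := isPBlock_blockOf (principal G)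
  have hrel1 : ∀ χ ∈ principalBlock M G, (χ : G → ℂ) z * (χ : G → ℂ) t = (χ : G → ℂ) 1 * (χ : G → ℂ) v :=
    fun χ hχ => char_mul_isolated hM hz ht hzt hne hv2 (hsub _ _ (hC v hv2 hvz)) hχ
  have hrel2 : ∀ χ ∈ principalBlock M G, (χ : G → ℂ) z * (χ : G → ℂ) v = (χ : G → ℂ) 1 * (χ : G → ℂ) t :=
    fun χ hχ => by
    have h := char_mul_isolated hM hz hv2 hzv hvz (by rw [hzvt]; exact ht)
      (hsub _ _ (by rw [hzvt]; exact hC t ht hne)) hχ
    rwa [hzvt] at h
  -- a character with a non-zero value at `t` represents `z` by `-1` and is linear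
  have hlin : ∀ χ ∈ principalBlock M G, (χ : G → ℂ) t ≠ 0 → χ ≠ principal G →
      (χ : G → ℂ) 1 = 1 ∧ (χ : G → ℂ) z = -1 ∧ (χ : G → ℂ) v = -(χ : G → ℂ) t := by
    intro χ hχ ht0 hχ1
    have hsq : ((χ : G → ℂ) z) ^ 2 = ((χ : G → ℂ) 1) ^ 2 := by
      refine mul_right_cancel₀ ht0 ?_
      linear_combination (χ : G → ℂ) z * hrel1 χ hχ + (χ : G → ℂ) 1 * hrel2 χ hχ
    set N := kerSubgroup (χ : G → ℂ) (isCharacter_of_irr χ.2) with hN
    haveI : N.Normal := kerSubgroup_normal (isCharacter_of_irr χ.2)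
    have hNtop : N ≠ ⊤ := fun htop => hχ1 (by
      by_contra h
      have h0 := classInner_irr_ne h
      rw [classInner_def, Finset.sum_congr rfl fun (g : G) _ => show (χ : G → ℂ) g *
        conj (((principal G : IrrCharacter G) : G → ℂ) g) = (χ : G → ℂ) 1 by
          rw [show ((principal G : IrrCharacter G) : G → ℂ) g = 1 from rfl, map_one, mul_one]
          exact (mem_kerSubgroup (isCharacter_of_irr χ.2) g).1 (show g ∈ N from htop ▸ Subgroup.mem_top g),
        Finset.sum_const, nsmul_eq_mul, Finset.card_univ, ← Nat.card_eq_fintype_card,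
        inv_mul_cancel_left₀ (Nat.cast_ne_zero.2 Nat.card_pos.ne')] at h0
      exact IsIrrCharacter.apply_one_ne_zero χ.2 h0)
    have hzn : (χ : G → ℂ) z = -(χ : G → ℂ) 1 :=
      (sq_eq_sq_iff_eq_or_eq_neg.1 hsq).resolve_left fun h =>
        hNtop (hnorm N ((mem_kerSubgroup _ z).2 h))
    -- commutators with `z` lie in the kernel
    have hcomm : ∀ g : G, z * g * z⁻¹ * g⁻¹ ∈ N := by
      intro g
      obtain ⟨n, ρ, -, hρχ⟩ := χ.2
      obtain ⟨ω, hω, -⟩ := scalar_of_norm_character_eq ρ z (by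
        rw [hρχ, hzn, norm_neg, ← hρχ, ρ.char_one, Complex.norm_natCast])
      refine (mem_kerSubgroup (isCharacter_of_irr χ.2) _).2 ?_
      rw [← hρχ]
      refine ((eq_id_of_character_eq_finrank ρ _).2 ?_).trans ρ.char_one.symm
      have hid : ρ z * ρ g = ρ g * ρ z := by
        rw [hω]
        ext x
        simp
      rw [map_mul, map_mul, map_mul, hid, mul_assoc (ρ g), ← map_mul ρ z z⁻¹, mul_inv_cancel, map_one,
        mul_one, ← map_mul, mul_inv_cancel, map_one]
      rfl
    haveI hK : (N ⊔ Subgroup.zpowers z).Normal := by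
      refine ⟨fun x hx g => ?_⟩
      have hg : MulAut.conj g x ∈ (N ⊔ Subgroup.zpowers z).map (MulAut.conj g).toMonoidHom := ⟨x, hx, rfl⟩
      rw [Subgroup.map_sup, MonoidHom.map_zpowers] at hg
      refine (sup_le ?_ ?_ : N.map (MulAut.conj g).toMonoidHom ⊔
        Subgroup.zpowers ((MulAut.conj g).toMonoidHom z) ≤ N ⊔ Subgroup.zpowers z) hg
      · rintro _ ⟨y, hy, rfl⟩
        exact Subgroup.mem_sup_left ((inferInstance : N.Normal).conj_mem y hy g)
      · refine Subgroup.zpowers_le.2 ?_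
        show g * z * g⁻¹ ∈ _
        rw [show g * z * g⁻¹ = (z * g * z⁻¹ * g⁻¹)⁻¹ * z by group]
        exact mul_mem (Subgroup.mem_sup_left (inv_mem (hcomm g)))
          (Subgroup.mem_sup_right (Subgroup.mem_zpowers z))
    have htop := hnorm (N ⊔ Subgroup.zpowers z) (Subgroup.mem_sup_right (Subgroup.mem_zpowers z))
    have hval : ∀ g : G, (χ : G → ℂ) g = (χ : G → ℂ) 1 ∨ (χ : G → ℂ) g = -(χ : G → ℂ) 1 := by
      intro g
      obtain ⟨n, hn, s, hs, rfl⟩ := Subgroup.mem_sup_of_normal_left.1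
        (show g ∈ N ⊔ Subgroup.zpowers z by rw [htop]; exact Subgroup.mem_top g)
      rw [IsCharacter.ker_mul (isCharacter_of_irr χ.2) ((mem_kerSubgroup _ n).1 hn)]
      obtain ⟨i, rfl⟩ := hs
      rcases Int.even_or_odd' i with ⟨j, rfl | rfl⟩
      · left
        show (χ : G → ℂ) (z ^ (2 * j)) = _
        rw [zpow_mul, zpow_two, hz2, one_zpow]
      · right
        show (χ : G → ℂ) (z ^ (2 * j + 1)) = _
        rw [zpow_add, zpow_mul, zpow_two, hz2, one_zpow, one_mul, zpow_one, hzn]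
    have hd : (χ : G → ℂ) 1 ^ 2 = 1 := by
      have h := classInner_irr_self χ
      rw [classInner_def, Finset.sum_congr rfl fun (g : G) _ => show (χ : G → ℂ) g * conj ((χ : G → ℂ) g) =
        (χ : G → ℂ) 1 ^ 2 by
          rcases hval g with e | e <;> rw [e, irr_apply_one_eq_deg] <;> simp [pow_two],
        Finset.sum_const, nsmul_eq_mul, Finset.card_univ, ← Nat.card_eq_fintype_card,
        inv_mul_cancel_left₀ (Nat.cast_ne_zero.2 Nat.card_pos.ne')] at h
      exact h
    have h1 : (χ : G → ℂ) 1 = 1 := by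
      rcases sq_eq_one_iff.1 hd with h | h
      · exact h
      · rw [irr_apply_one_eq_deg] at h
        have h' := congrArg Complex.re h
        simp at h'
        have : (0 : ℝ) ≤ (deg (χ : G → ℂ) : ℝ) := Nat.cast_nonneg _
        linarith
    refine ⟨h1, by rw [hzn, h1], ?_⟩
    have h := hrel1 χ hχ
    rw [hzn, h1] at h
    linear_combination -h
  -- a member with negative value, for both involutions
  have hneg : ∀ w : G, orderOf w = 2 →
      (∀ χ ∈ principalBlock M G, (χ : G → ℂ) w ≠ 0 → χ ≠ principal G → (χ : G → ℂ) 1 = 1) →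
      ∃ χ ∈ principalBlock M G, χ ≠ principal G ∧ (χ : G → ℂ) 1 = 1 ∧ (χ : G → ℂ) w = -1 := by
    intro w hw hdeg
    by_contra hcon
    push Not at hcon
    have h0 := block_orthogonality_regular' hM hB (dvd_of_eq hw.symm : 2 ∣ orderOf w)
      (show ¬ 2 ∣ orderOf (1 : G) by rw [orderOf_one]; norm_num)
    set T := Finset.univ.filter (fun χ : IrrCharacter G => χ ∈ principalBlock M G) with hT
    have hterm : ∀ χ ∈ T, (χ : G → ℂ) w * conj ((χ : G → ℂ) 1) =
        if (χ : G → ℂ) w ≠ 0 then 1 else 0 := by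
      intro χ hχ
      have hχB := (Finset.mem_filter.1 hχ).2
      by_cases hw0 : (χ : G → ℂ) w = 0
      · rw [if_neg (not_not.2 hw0), hw0, zero_mul]
      rw [if_pos hw0]
      by_cases hp : χ = principal G
      · rw [hp, show ((principal G : IrrCharacter G) : G → ℂ) w = 1 from rfl,
          show ((principal G : IrrCharacter G) : G → ℂ) 1 = 1 from rfl, map_one, one_mul]
      have h1 := hdeg χ hχB hw0 hp
      obtain ⟨f, hf⟩ := exists_hom_of_deg_one (isCharacter_of_irr χ.2) h1
      have hww : (χ : G → ℂ) w = 1 ∨ (χ : G → ℂ) w = -1 := by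
        refine sq_eq_one_iff.1 ?_
        rw [hf]
        show ((f w : ℂˣ) : ℂ) ^ 2 = 1
        rw [← Units.val_pow_eq_pow_val, ← map_pow, ← hw, pow_orderOf_eq_one, map_one, Units.val_one]
      rw [h1, map_one, mul_one]
      exact hww.resolve_right fun h => hcon χ hχB hp h1 h
    rw [Finset.sum_congr rfl hterm, Finset.sum_boole, Nat.cast_eq_zero, Finset.card_eq_zero] at h0
    have hmem : principal G ∈ T.filter (fun χ : IrrCharacter G => (χ : G → ℂ) w ≠ 0) := by
      refine Finset.mem_filter.2 ⟨Finset.mem_filter.2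
        ⟨Finset.mem_univ _, mem_blockOf_self hM (principal G)⟩, ?_⟩
      rw [show ((principal G : IrrCharacter G) : G → ℂ) w = 1 from rfl]
      exact one_ne_zero
    rw [h0] at hmem
    exact absurd hmem (Finset.notMem_empty _)
  have htv : ∀ χ ∈ principalBlock M G, (χ : G → ℂ) v ≠ 0 → (χ : G → ℂ) t ≠ 0 := fun χ hχ hv0 ht0 => by
    have h := hrel1 χ hχ
    rw [ht0, mul_zero, eq_comm, mul_eq_zero] at h
    exact hv0 (h.resolve_left (IsIrrCharacter.apply_one_ne_zero χ.2))
  obtain ⟨χ, hχ, hχ1, hd, hχt⟩ := hneg t ht fun χ hχ h hp => (hlin χ hχ h hp).1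
  obtain ⟨ψ, hψ, hψ1, hd', hψv⟩ := hneg v hv2 fun χ hχ h hp => (hlin χ hχ (htv χ hχ h) hp).1
  obtain ⟨-, hχz, -⟩ := hlin χ hχ (by rw [hχt]; norm_num) hχ1
  obtain ⟨-, hψz, hψt⟩ := hlin ψ hψ (htv ψ hψ (by rw [hψv]; norm_num)) hψ1
  rw [hψv, neg_inj] at hψt
  obtain ⟨f, hf⟩ := exists_hom_of_deg_one (isCharacter_of_irr χ.2) hd
  obtain ⟨f', hf'⟩ := exists_hom_of_deg_one (isCharacter_of_irr ψ.2) hd'
  rw [hf] at hχz hχt
  rw [hf'] at hψz hψt
  simp only at hχz hχt hψz hψt
  have hzker : z ∈ (f * f').ker := by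
    rw [MonoidHom.mem_ker, MonoidHom.mul_apply]
    apply Units.ext
    rw [Units.val_mul, hχz, hψz]
    norm_num
  have htop := hnorm _ hzker
  have htker : t ∈ (f * f').ker := htop ▸ Subgroup.mem_top t
  rw [MonoidHom.mem_ker, MonoidHom.mul_apply] at htker
  have h := congrArg (fun x : ℂˣ => (x : ℂ)) htker
  simp only [Units.val_mul, Units.val_one] at h
  rw [hχt, ← hψt] at h
  norm_num at h

/-- **Glauberman's theorem.** -/
theorem zstar : ∀ (n : ℕ) {G : Type u} [Group G] [Finite G], Nat.card G = n →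
    ∀ {z : G}, IsIsolatedInvolution z → ZStarProp z := by
  intro n
  induction n using Nat.strong_induction_on with
  | _ n ih =>
    intro G _ _ hn z hz
    classical
    letI := Fintype.ofFinite G
    have hlt : ∀ (K : Subgroup G) [K.Normal], 1 < Nat.card K → Nat.card (G ⧸ K) < n := by
      intro K _ hK
      have h := Subgroup.card_mul_index K
      rw [Subgroup.index_eq_card] at h
      rw [← hn, ← h]
      exact lt_mul_of_one_lt_left Nat.card_pos hK
    by_cases hO : ∀ K : Subgroup G, K.Normal → Odd (Nat.card K) → K = ⊥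
    · have hcen : z ∈ Subgroup.center G := by
        by_cases huniq : ∀ t : G, orderOf t = 2 → Commute z t → t = z
        · exact central_of_unique hz hO huniq
        push Not at huniq
        obtain ⟨t, ht, hzt, hne⟩ := huniq
        refine central_of_commuting hz hO ht hzt hne (fun H hzH hH => ?_) (fun v _ hv hvz => ?_)
        · exact ih _ (hn ▸ lt_of_le_of_ne (Nat.le_of_dvd Nat.card_pos H.card_subgroup_dvd_card)
            fun h => hH (Subgroup.eq_top_of_card_eq H h)) rfl (isolated_subgroup hz H hzH)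
        · refine ih _ (hlt _ (by rw [Nat.card_zpowers, hv]; norm_num)) rfl
            (isolated_quotient hz _ fun h => ?_)
          obtain ⟨i, hi⟩ := h
          rcases Int.even_or_odd' i with ⟨j, rfl | rfl⟩
          · have hv2 : v * v = 1 := by rw [← pow_two, ← hv, pow_orderOf_eq_one]
            have h1 : z = 1 := by
              rw [← hi]
              show v ^ (2 * j) = 1
              rw [zpow_mul, zpow_two, hv2, one_zpow]
            have := hz.1
            rw [h1, orderOf_one] at this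
            omega
          · have hv2 : v * v = 1 := by rw [← pow_two, ← hv, pow_orderOf_eq_one]
            refine hvz ?_
            rw [← hi]
            show v = v ^ (2 * j + 1)
            rw [zpow_add, zpow_mul, zpow_two, hv2, one_zpow, one_mul, zpow_one]
      intro g
      rw [show z * g * z⁻¹ * g⁻¹ = 1 by rw [← Subgroup.mem_center_iff.1 hcen g]; group]
      exact one_mem _
    push Not at hO
    obtain ⟨K₀, hK₀, hodd₀, hne₀⟩ := hO
    set O := pPrimeCore 2 G with hOdef
    have hOodd : Odd (Nat.card O) :=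
      Nat.coprime_two_right.1 (Cfsg.Lib.Components.coprime_card_pPrimeCore 2)
    have hOne : 1 < Nat.card O := by
      rw [Subgroup.one_lt_card_iff_ne_bot]
      exact fun h => hne₀ (le_bot_iff.1 ((Cfsg.Lib.Components.le_pPrimeCore
        (Nat.coprime_two_right.2 hodd₀)).trans h.le))
    have hzO : z ∉ O := fun h => by
      have h1 := hOodd.of_dvd_nat (Subgroup.orderOf_dvd_natCard O h)
      rw [hz.1] at h1
      exact absurd h1 (by decide)
    intro g
    have hrec := ih _ (hlt O hOne) rfl (isolated_quotient hz O hzO) (g : G ⧸ O)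
    set K := (pPrimeCore 2 (G ⧸ O)).comap (QuotientGroup.mk' O) with hK
    haveI : K.Normal := (inferInstance : (pPrimeCore 2 (G ⧸ O)).Normal).comap _
    have hKodd : (Nat.card K).Coprime 2 := by
      let f := (QuotientGroup.mk' O).subgroupComap (pPrimeCore 2 (G ⧸ O))
      have hker : Nat.card f.ker ∣ Nat.card O := by
        have : f.ker = O.subgroupOf K := by
          ext c
          rw [MonoidHom.mem_ker, Subgroup.mem_subgroupOf, ← QuotientGroup.eq_one_iff]
          exact ⟨fun h => congrArg Subtype.val h, fun h => Subtype.ext h⟩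
        rw [this]
        exact Subgroup.card_comap_dvd_of_injective O K.subtype K.subtype_injective
      rw [← Subgroup.card_mul_index f.ker, Subgroup.index_ker]
      exact (Nat.Coprime.coprime_dvd_left hker (Nat.coprime_two_right.2 hOodd)).mul_left
        (Nat.Coprime.coprime_dvd_left (Subgroup.card_subgroup_dvd_card _)
          (Cfsg.Lib.Components.coprime_card_pPrimeCore 2))
    refine Cfsg.Lib.Components.le_pPrimeCore hKodd ?_
    show ((z * g * z⁻¹ * g⁻¹ : G) : G ⧸ O) ∈ pPrimeCore 2 (G ⧸ O)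
    rw [QuotientGroup.mk_mul, QuotientGroup.mk_mul, QuotientGroup.mk_mul, QuotientGroup.mk_inv,
      QuotientGroup.mk_inv]
    exact hrec

end Cfsg.Lib.Blocks
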