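import Mathlib
import Cfsg.Prelude.Def_BlockRank
import Cfsg.Agent.Chars.Construct
import Cfsg.Agent.Chars.Irr

/-!
# Orbit sums of linear characters of an abelian Sylow subgroup with a Frobenius normalizer
-/

set_option autoImplicit false
set_option linter.unusedSectionVars false

namespace Cfsg.Lib.Blocks

open Cfsg.Lib.Chars
open scoped ComplexConjugate

universe u

variable {G : Type u} [Group G] {p : ℕ}

/-- An abelian Sylow subgroup on which the normalizer acts as a Frobenius group. -/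
structure FrobeniusNormalizer (P : Sylow p G) : Prop where
  comm : ∀ a ∈ (P : Subgroup G), ∀ b ∈ (P : Subgroup G), a * b = b * a
  frob : ∀ y : G, y ∈ (P : Subgroup G) → y ≠ 1 →
    Subgroup.centralizer ({y} : Set G) ⊓ Subgroup.normalizer ((P : Subgroup G) : Set G) ≤
      Subgroup.centralizer ((P : Subgroup G) : Set G)

/-- The index of the centraliser in the normalizer. -/
noncomputable def frobIndex (P : Sylow p G) : ℕ :=
  (Subgroup.centralizer ((P : Subgroup G) : Set G)).relIndex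
    (Subgroup.normalizer ((P : Subgroup G) : Set G))

/-- Conjugation of `P` by an element of its normalizer. -/
def conjSyl (P : Sylow p G) (n : Subgroup.normalizer ((P : Subgroup G) : Set G)) :
    (P : Subgroup G) →* (P : Subgroup G) where
  toFun y := ⟨(n : G) * y * (n : G)⁻¹, (Subgroup.mem_normalizer_iff.1 n.2 _).1 y.2⟩
  map_one' := Subtype.ext (by simp)
  map_mul' a b := Subtype.ext (by simp [mul_assoc])

lemma coe_conjSyl (P : Sylow p G) (n : Subgroup.normalizer ((P : Subgroup G) : Set G))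
    (y : (P : Subgroup G)) : (conjSyl P n y : G) = (n : G) * y * (n : G)⁻¹ := rfl

lemma conjSyl_mul (P : Sylow p G) (a b : Subgroup.normalizer ((P : Subgroup G) : Set G))
    (y : (P : Subgroup G)) : conjSyl P (a * b) y = conjSyl P a (conjSyl P b y) :=
  Subtype.ext (by simp [coe_conjSyl, mul_assoc])

lemma conjSyl_one (P : Sylow p G) (y : (P : Subgroup G)) : conjSyl P 1 y = y :=
  Subtype.ext (by simp [coe_conjSyl])

/-- Invariance under the normalizer. -/
def SylInvariant (P : Sylow p G) {R : Type*} (f : ↥(P : Subgroup G) → R) : Prop :=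
  ∀ n y, f (conjSyl P n y) = f y

variable [Finite G]

/-- The sum over the orbit of a linear character. -/
noncomputable def thetaFun (P : Sylow p G) (ψ : (P : Subgroup G) →* ℂˣ) :
    ↥(P : Subgroup G) → ℂ := by
  classical
  haveI := Fintype.ofFinite G
  exact fun y => (Nat.card (Subgroup.centralizer ((P : Subgroup G) : Set G)) : ℂ)⁻¹ *
    ∑ n : Subgroup.normalizer ((P : Subgroup G) : Set G), ((ψ (conjSyl P n y) : ℂˣ) : ℂ)

lemma thetaFun_apply (P : Sylow p G) [Fintype (Subgroup.normalizer ((P : Subgroup G) : Set G))]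
    (ψ : (P : Subgroup G) →* ℂˣ) (y : (P : Subgroup G)) :
    thetaFun P ψ y = (Nat.card (Subgroup.centralizer ((P : Subgroup G) : Set G)) : ℂ)⁻¹ *
      ∑ n : Subgroup.normalizer ((P : Subgroup G) : Set G), ((ψ (conjSyl P n y) : ℂˣ) : ℂ) := by
  classical
  unfold thetaFun
  congr! 3

lemma card_normalizer_eq (P : Sylow p G) :
    Nat.card (Subgroup.normalizer ((P : Subgroup G) : Set G)) =
      Nat.card (Subgroup.centralizer ((P : Subgroup G) : Set G)) * frobIndex P := by
  rw [← Subgroup.card_mul_index ((Subgroup.centralizer ((P : Subgroup G) : Set G)).subgroupOf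
    (Subgroup.normalizer ((P : Subgroup G) : Set G))), Nat.card_congr
    (Subgroup.subgroupOfEquivOfLe (Subgroup.centralizer_le_normalizer _)).toEquiv]
  rfl

lemma frobIndex_pos (P : Sylow p G) : 0 < frobIndex P :=
  Nat.pos_of_ne_zero fun h => by
    have := card_normalizer_eq P
    rw [h, mul_zero] at this
    exact Nat.card_pos.ne' this

variable {P : Sylow p G}

lemma thetaFun_invariant (ψ : (P : Subgroup G) →* ℂˣ) : SylInvariant P (thetaFun P ψ) := by
  classical
  haveI := Fintype.ofFinite G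
  intro n y
  rw [thetaFun_apply, thetaFun_apply]
  congr 1
  exact Fintype.sum_equiv (Equiv.mulRight n) _ _ fun k => by
    rw [← conjSyl_mul]; rfl

lemma thetaFun_one (ψ : (P : Subgroup G) →* ℂˣ) : thetaFun P ψ 1 = (frobIndex P : ℂ) := by
  classical
  haveI := Fintype.ofFinite G
  rw [thetaFun_apply]
  simp only [map_one, Units.val_one, Finset.sum_const, nsmul_eq_mul, mul_one, Finset.card_univ]
  rw [← Nat.card_eq_fintype_card, card_normalizer_eq, Nat.cast_mul,
    inv_mul_cancel_left₀ (Nat.cast_ne_zero.2 Nat.card_pos.ne')]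

/-- The orbit of a linear character. -/
def sylOrbit (P : Sylow p G) (ψ : (P : Subgroup G) →* ℂˣ) : Set ((P : Subgroup G) →* ℂˣ) :=
  {ψ' | ∃ n : G, n ∈ Subgroup.normalizer ((P : Subgroup G) : Set G) ∧
    ∀ w w' : (P : Subgroup G), (w' : G) = n * w * n⁻¹ → ψ' w' = ψ w}

lemma mem_sylOrbit_iff {ψ ψ' : (P : Subgroup G) →* ℂˣ} :
    ψ' ∈ sylOrbit P ψ ↔ ∃ n, ψ' = ψ.comp (conjSyl P n) := by
  constructor
  · rintro ⟨n, hn, h⟩
    refine ⟨⟨n⁻¹, inv_mem hn⟩, MonoidHom.ext fun y => ?_⟩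
    rw [MonoidHom.comp_apply]
    exact h _ _ (by rw [coe_conjSyl]; group)
  · rintro ⟨n, rfl⟩
    refine ⟨((n⁻¹ : Subgroup.normalizer ((P : Subgroup G) : Set G)) : G), (n⁻¹).2, fun w w' h => ?_⟩
    rw [MonoidHom.comp_apply]
    congr 1
    refine Subtype.ext ?_
    rw [coe_conjSyl, h]
    simp [mul_assoc]

variable (h : FrobeniusNormalizer P)
include h

lemma comp_conjSyl_of_mem_centralizer (ψ : (P : Subgroup G) →* ℂˣ)
    {n : Subgroup.normalizer ((P : Subgroup G) : Set G)}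
    (hn : (n : G) ∈ Subgroup.centralizer ((P : Subgroup G) : Set G)) :
    ψ.comp (conjSyl P n) = ψ := by
  refine MonoidHom.ext fun y => ?_
  rw [MonoidHom.comp_apply]
  congr 1
  refine Subtype.ext ?_
  rw [coe_conjSyl, ← hn (y : G) y.2, mul_inv_cancel_right]

lemma mem_centralizer_of_fixed {ψ : (P : Subgroup G) →* ℂˣ} (hψ : ψ ≠ 1)
    {n : Subgroup.normalizer ((P : Subgroup G) : Set G)} (hn : ψ.comp (conjSyl P n) = ψ) :
    (n : G) ∈ Subgroup.centralizer ((P : Subgroup G) : Set G) := by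
  classical
  by_contra hC
  refine hψ (MonoidHom.ext fun z => ?_)
  let f : ↥(P : Subgroup G) → ↥(P : Subgroup G) := fun y => conjSyl P n y * y⁻¹
  have hf : Function.Injective f := by
    intro a b hab
    have hc : ∀ u v : (P : Subgroup G), u * v = v * u := fun u v =>
      Subtype.ext (h.comm _ u.2 _ v.2)
    have h1 : conjSyl P n (b⁻¹ * a) = b⁻¹ * a := by
      rw [map_mul, map_inv, inv_mul_eq_iff_eq_mul]
      have h2 : conjSyl P n a = conjSyl P n b * b⁻¹ * a := by
        have e : conjSyl P n a * a⁻¹ = conjSyl P n b * b⁻¹ := hab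
        rw [← e, inv_mul_cancel_right]
      rw [h2, mul_assoc]
    by_contra hne
    have hne1 : ((b⁻¹ * a : (P : Subgroup G)) : G) ≠ 1 := fun h1 =>
      hne (inv_mul_eq_one.1 (Subtype.ext h1 : b⁻¹ * a = 1)).symm
    refine hC (h.frob _ (b⁻¹ * a).2 hne1 ⟨?_, n.2⟩)
    refine Subgroup.mem_centralizer_singleton_iff.2 ?_
    have h3 := congrArg Subtype.val h1
    rw [coe_conjSyl] at h3
    calc (n : G) * _ = (n : G) * ((b⁻¹ * a : (P : Subgroup G)) : G) * (n : G)⁻¹ * n := by group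
      _ = _ := by rw [h3]
  obtain ⟨y, rfl⟩ := (Finite.injective_iff_surjective.1 hf) z
  show ψ (conjSyl P n y * y⁻¹) = 1
  rw [map_mul, map_inv, ← MonoidHom.comp_apply, hn, mul_inv_cancel]

open scoped Classical in
lemma card_translates {ψ φ : (P : Subgroup G) →* ℂˣ} (hψ : ψ ≠ 1)
    [Fintype (Subgroup.normalizer ((P : Subgroup G) : Set G))] (hφ : φ ∈ sylOrbit P ψ) :
    (Finset.univ.filter fun n => ψ.comp (conjSyl P n) = φ).card =
      Nat.card (Subgroup.centralizer ((P : Subgroup G) : Set G)) := by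
  obtain ⟨n₀, rfl⟩ := mem_sylOrbit_iff.1 hφ
  rw [← Fintype.card_subtype, ← Nat.card_eq_fintype_card]
  refine Nat.card_congr ⟨fun n => ⟨((n.1 * n₀⁻¹ : _) : G), mem_centralizer_of_fixed h hψ ?_⟩,
    fun c => ⟨⟨(c : G), Subgroup.centralizer_le_normalizer _ c.2⟩ * n₀, ?_⟩, ?_, ?_⟩
  · refine MonoidHom.ext fun y => ?_
    rw [MonoidHom.comp_apply, conjSyl_mul]
    have e := DFunLike.congr_fun n.2 (conjSyl P n₀⁻¹ y)
    rw [MonoidHom.comp_apply, MonoidHom.comp_apply, ← conjSyl_mul P n₀, mul_inv_cancel,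
      conjSyl_one] at e
    exact e
  · refine MonoidHom.ext fun y => ?_
    rw [MonoidHom.comp_apply, conjSyl_mul]
    exact DFunLike.congr_fun (comp_conjSyl_of_mem_centralizer h ψ
      (n := ⟨(c : G), Subgroup.centralizer_le_normalizer _ c.2⟩) c.2) _
  · exact fun n => Subtype.ext (Subtype.ext (by simp))
  · exact fun c => Subtype.ext (by simp)

lemma thetaFun_eq_sum {ψ : (P : Subgroup G) →* ℂˣ} (hψ : ψ ≠ 1)
    [Fintype ((P : Subgroup G) →* ℂˣ)] [DecidablePred (· ∈ sylOrbit P ψ)] (y : (P : Subgroup G)) :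
    thetaFun P ψ y =
      ∑ φ ∈ Finset.univ.filter (· ∈ sylOrbit P ψ), ((φ y : ℂˣ) : ℂ) := by
  classical
  haveI := Fintype.ofFinite G
  rw [thetaFun_apply, ← Finset.sum_fiberwise_of_maps_to
    (g := fun n => ψ.comp (conjSyl P n)) (t := Finset.univ.filter (· ∈ sylOrbit P ψ))
    (fun n _ => Finset.mem_filter.2 ⟨Finset.mem_univ _, mem_sylOrbit_iff.2 ⟨n, rfl⟩⟩),
    Finset.mul_sum]
  refine Finset.sum_congr rfl fun φ hφ => ?_
  rw [Finset.sum_congr rfl fun n hn =>
    show ((ψ (conjSyl P n y) : ℂˣ) : ℂ) = ((φ y : ℂˣ) : ℂ) by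
      rw [← (Finset.mem_filter.1 hn).2]; rfl,
    Finset.sum_const, nsmul_eq_mul, show (Finset.univ.filter fun n => ψ.comp (conjSyl P n) = φ).card =
      Nat.card (Subgroup.centralizer ((P : Subgroup G) : Set G)) by
        convert card_translates h hψ (Finset.mem_filter.1 hφ).2,
    inv_mul_cancel_left₀ (Nat.cast_ne_zero.2 Nat.card_pos.ne')]

lemma card_sylOrbit {ψ : (P : Subgroup G) →* ℂˣ} (hψ : ψ ≠ 1)
    [Fintype ((P : Subgroup G) →* ℂˣ)] [DecidablePred (· ∈ sylOrbit P ψ)] :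
    (Finset.univ.filter (· ∈ sylOrbit P ψ)).card = frobIndex P := by
  apply Nat.cast_injective (R := ℂ)
  rw [← thetaFun_one ψ, thetaFun_eq_sum h hψ]
  simp

omit h in
lemma self_mem_sylOrbit (ψ : (P : Subgroup G) →* ℂˣ) : ψ ∈ sylOrbit P ψ :=
  mem_sylOrbit_iff.2 ⟨1, MonoidHom.ext fun y => by rw [MonoidHom.comp_apply, conjSyl_one]⟩

omit h in
lemma ne_one_of_mem_sylOrbit {ψ φ : (P : Subgroup G) →* ℂˣ} (hψ : ψ ≠ 1)
    (hφ : φ ∈ sylOrbit P ψ) : φ ≠ 1 := by
  obtain ⟨n, rfl⟩ := mem_sylOrbit_iff.1 hφ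
  intro h1
  refine hψ (MonoidHom.ext fun y => ?_)
  have e := DFunLike.congr_fun h1 (conjSyl P n⁻¹ y)
  rwa [MonoidHom.comp_apply, ← conjSyl_mul, mul_inv_cancel, conjSyl_one] at e

omit h in
lemma thetaFun_eq_of_mem {ψ φ : (P : Subgroup G) →* ℂˣ}
    (hφ : φ ∈ sylOrbit P ψ) : thetaFun P φ = thetaFun P ψ := by
  classical
  haveI := Fintype.ofFinite G
  obtain ⟨n, rfl⟩ := mem_sylOrbit_iff.1 hφ
  funext y
  rw [thetaFun_apply, thetaFun_apply]
  congr 1
  exact Fintype.sum_equiv (Equiv.mulLeft n) _ _ fun k => by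
    rw [MonoidHom.comp_apply, ← conjSyl_mul]; rfl

omit h in
lemma isGeneralized_one_syl :
    IsGeneralizedCharacter (P : Subgroup G) (fun _ => (1 : ℂ)) :=
  IsCharacter.isGeneralized (isCharacter_linear (1 : (P : Subgroup G) →* ℂˣ))

lemma thetaFun_generalized {ψ : (P : Subgroup G) →* ℂˣ} (hψ : ψ ≠ 1)
    [Finite ((P : Subgroup G) →* ℂˣ)] : IsGeneralizedCharacter (P : Subgroup G) (thetaFun P ψ) := by
  classical
  haveI := Fintype.ofFinite G
  haveI := Fintype.ofFinite ((P : Subgroup G) →* ℂˣ)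
  rw [show thetaFun P ψ = ∑ φ ∈ Finset.univ.filter (· ∈ sylOrbit P ψ),
    fun y => ((φ y : ℂˣ) : ℂ) from funext fun y => by rw [thetaFun_eq_sum h hψ, Finset.sum_apply]]
  refine Finset.sum_induction _ (IsGeneralizedCharacter (P : Subgroup G))
    (fun a b ha hb => IsGeneralizedCharacter.add ha hb) isGeneralized_zero fun φ _ =>
      IsCharacter.isGeneralized (isCharacter_linear φ)

lemma finite_dual : Finite ((P : Subgroup G) →* ℂˣ) := by
  letI : CommGroup (P : Subgroup G) :=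
    { (inferInstance : Group (P : Subgroup G)) with
      mul_comm := fun u v => Subtype.ext (h.comm _ u.2 _ v.2) }
  infer_instance

lemma card_dual : Nat.card ((P : Subgroup G) →* ℂˣ) = Nat.card (P : Subgroup G) := by
  letI : CommGroup (P : Subgroup G) :=
    { (inferInstance : Group (P : Subgroup G)) with
      mul_comm := fun u v => Subtype.ext (h.comm _ u.2 _ v.2) }
  exact CommGroup.card_monoidHom_of_hasEnoughRootsOfUnity _ ℂ

lemma exists_char_ne_one {y : (P : Subgroup G)} (hy : y ≠ 1) :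
    ∃ φ : (P : Subgroup G) →* ℂˣ, φ y ≠ 1 := by
  letI : CommGroup (P : Subgroup G) :=
    { (inferInstance : Group (P : Subgroup G)) with
      mul_comm := fun u v => Subtype.ext (h.comm _ u.2 _ v.2) }
  exact CommGroup.exists_apply_ne_one_of_hasEnoughRootsOfUnity _ ℂ hy

lemma sum_dual_apply [Fintype ((P : Subgroup G) →* ℂˣ)] [DecidableEq (P : Subgroup G)]
    (y : (P : Subgroup G)) :
    ∑ φ : (P : Subgroup G) →* ℂˣ, ((φ y : ℂˣ) : ℂ) =
      if y = 1 then (Nat.card (P : Subgroup G) : ℂ) else 0 := by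
  classical
  split_ifs with hy
  · subst hy
    simp [← Nat.card_eq_fintype_card, card_dual h]
  · obtain ⟨φ₀, h0⟩ := exists_char_ne_one h hy
    have h1 : ((φ₀ y : ℂˣ) : ℂ) * ∑ φ : (P : Subgroup G) →* ℂˣ, ((φ y : ℂˣ) : ℂ) =
        ∑ φ : (P : Subgroup G) →* ℂˣ, ((φ y : ℂˣ) : ℂ) := by
      rw [Finset.mul_sum]
      exact Fintype.sum_equiv (Equiv.mulLeft φ₀) _ _ fun φ => by
        simp [Equiv.coe_mulLeft, MonoidHom.mul_apply]
    exact (by
      by_contra hne
      exact h0 (Units.ext (mul_right_cancel₀ hne (h1.trans (one_mul _).symm))))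

lemma sum_syl_mul_conj [Fintype (P : Subgroup G)] (φ φ' : (P : Subgroup G) →* ℂˣ)
    [Decidable (φ = φ')] :
    ∑ y : (P : Subgroup G), ((φ y : ℂˣ) : ℂ) * conj ((φ' y : ℂˣ) : ℂ) =
      if φ = φ' then (Nat.card (P : Subgroup G) : ℂ) else 0 := by
  classical
  have hconj : ∀ y, conj ((φ' y : ℂˣ) : ℂ) = ((φ' y⁻¹ : ℂˣ) : ℂ) := fun y =>
    (IsCharacter.conj_inv (isCharacter_linear φ') y).symm
  split_ifs with he
  · subst he
    rw [Finset.sum_congr rfl fun y _ => by
      rw [hconj, ← Units.val_mul, ← map_mul, mul_inv_cancel, map_one, Units.val_one]]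
    simp [Nat.card_eq_fintype_card]
  · obtain ⟨y₀, h0⟩ : ∃ y₀, (φ * φ'⁻¹) y₀ ≠ 1 := by
      by_contra hcon
      push Not at hcon
      exact he (MonoidHom.ext fun y => by simpa [mul_inv_eq_one] using hcon y)
    have h2 : ∀ y, ((φ y : ℂˣ) : ℂ) * conj ((φ' y : ℂˣ) : ℂ) = (((φ * φ'⁻¹) y : ℂˣ) : ℂ) := by
      intro y
      rw [hconj, MonoidHom.mul_apply, MonoidHom.inv_apply, Units.val_mul, map_inv]
    rw [Finset.sum_congr rfl fun y _ => h2 y]
    generalize (φ * φ'⁻¹) = ξ at h0 ⊢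
    have h1 : ((ξ y₀ : ℂˣ) : ℂ) * ∑ y, ((ξ y : ℂˣ) : ℂ) = ∑ y, ((ξ y : ℂˣ) : ℂ) := by
      rw [Finset.mul_sum]
      exact Fintype.sum_equiv (Equiv.mulLeft y₀) _ _ fun y => by
        simp [Equiv.coe_mulLeft, map_mul]
    by_contra hne
    exact h0 (Units.ext (mul_right_cancel₀ hne (h1.trans (one_mul _).symm)))

lemma sum_thetaFun {ψ : (P : Subgroup G) →* ℂˣ} (hψ : ψ ≠ 1) [Fintype (P : Subgroup G)] :
    ∑ y : (P : Subgroup G), thetaFun P ψ y = 0 := by
  classical
  haveI := finite_dual h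
  haveI := Fintype.ofFinite ((P : Subgroup G) →* ℂˣ)
  simp only [thetaFun_eq_sum h hψ]
  rw [Finset.sum_comm]
  refine Finset.sum_eq_zero fun φ hφ => ?_
  have h0 := sum_syl_mul_conj h φ 1
  rw [if_neg (ne_one_of_mem_sylOrbit hψ (Finset.mem_filter.1 hφ).2)] at h0
  simpa using h0

lemma sum_thetaFun_mul_conj {ψ φ : (P : Subgroup G) →* ℂˣ} (hψ : ψ ≠ 1) (hφ : φ ≠ 1)
    [Fintype (P : Subgroup G)] [Decidable (thetaFun P ψ = thetaFun P φ)] :
    ∑ y : (P : Subgroup G), thetaFun P ψ y * conj (thetaFun P φ y) =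
      if thetaFun P ψ = thetaFun P φ then (frobIndex P * Nat.card (P : Subgroup G) : ℂ) else 0 := by
  classical
  haveI := finite_dual h
  haveI := Fintype.ofFinite ((P : Subgroup G) →* ℂˣ)
  have key : ∑ y : (P : Subgroup G), thetaFun P ψ y * conj (thetaFun P φ y) =
      (Nat.card (P : Subgroup G) : ℂ) *
        ((Finset.univ.filter (· ∈ sylOrbit P ψ)) ∩ (Finset.univ.filter (· ∈ sylOrbit P φ))).card := by
    simp only [thetaFun_eq_sum h hψ, thetaFun_eq_sum h hφ, map_sum, Finset.sum_mul_sum]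
    rw [Finset.sum_comm]
    rw [Finset.sum_congr rfl fun a _ => Finset.sum_comm]
    simp only [sum_syl_mul_conj h, Finset.sum_ite_eq]
    rw [← Finset.sum_filter, Finset.filter_mem_eq_inter, Finset.sum_const, nsmul_eq_mul, mul_comm]
  rw [key]
  split_ifs with he
  · have hs : Finset.univ.filter (· ∈ sylOrbit P ψ) ∩ Finset.univ.filter (· ∈ sylOrbit P φ) =
        Finset.univ.filter (· ∈ sylOrbit P ψ) := by
      refine Finset.inter_eq_left.2 fun a ha => ?_
      by_contra hb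
      -- equal orbit sums have a common translate
      have hint : Finset.univ.filter (· ∈ sylOrbit P ψ) ∩ Finset.univ.filter (· ∈ sylOrbit P φ) = ∅ := by
        refine Finset.eq_empty_of_forall_notMem fun b hb' => hb ?_
        obtain ⟨h1, h2⟩ := Finset.mem_inter.1 hb'
        obtain ⟨n, hn⟩ := mem_sylOrbit_iff.1 (Finset.mem_filter.1 ha).2
        obtain ⟨k, hk⟩ := mem_sylOrbit_iff.1 (Finset.mem_filter.1 h1).2
        obtain ⟨l, hl⟩ := mem_sylOrbit_iff.1 (Finset.mem_filter.1 h2).2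
        refine Finset.mem_filter.2 ⟨Finset.mem_univ _, mem_sylOrbit_iff.2 ⟨l * k⁻¹ * n, ?_⟩⟩
        refine MonoidHom.ext fun y => ?_
        have e := DFunLike.congr_fun (hk.symm.trans hl) (conjSyl P (k⁻¹ * n) y)
        rw [MonoidHom.comp_apply, MonoidHom.comp_apply, ← conjSyl_mul, ← conjSyl_mul,
          mul_inv_cancel_left] at e
        rw [hn, MonoidHom.comp_apply, MonoidHom.comp_apply, e, mul_assoc]
      have h0 : ∑ y : (P : Subgroup G), thetaFun P ψ y * conj (thetaFun P ψ y) = 0 := by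
        calc _ = ∑ y : (P : Subgroup G), thetaFun P ψ y * conj (thetaFun P φ y) := by rw [← he]
          _ = 0 := by rw [key, hint]; simp
      simp only [thetaFun_eq_sum h hψ, map_sum, Finset.sum_mul_sum] at h0
      rw [Finset.sum_comm, Finset.sum_congr rfl fun a _ => Finset.sum_comm] at h0
      simp only [sum_syl_mul_conj h, Finset.sum_ite_eq] at h0
      rw [← Finset.sum_filter, Finset.filter_mem_eq_inter, Finset.inter_self, Finset.sum_const,
        nsmul_eq_mul, card_sylOrbit h hψ] at h0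
      exact mul_ne_zero (Nat.cast_ne_zero.2 (frobIndex_pos P).ne')
        (Nat.cast_ne_zero.2 Nat.card_pos.ne') h0
    rw [hs, card_sylOrbit h hψ, mul_comm]
  · rw [Finset.eq_empty_of_forall_notMem
      (s := Finset.univ.filter (· ∈ sylOrbit P ψ) ∩ Finset.univ.filter (· ∈ sylOrbit P φ))
      fun b hb => he ?_]
    · simp
    · obtain ⟨h1, h2⟩ := Finset.mem_inter.1 hb
      rw [← thetaFun_eq_of_mem (Finset.mem_filter.1 h1).2, thetaFun_eq_of_mem (Finset.mem_filter.1 h2).2]

/-- The sum of all nontrivial characters, grouped in orbits, against an invariant function. -/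
lemma sum_invariant_mul_thetaFun {ψ : (P : Subgroup G) →* ℂˣ} [Fintype (P : Subgroup G)]
    {r : ↥(P : Subgroup G) → ℂ} (hr : SylInvariant P r) :
    ∑ y : (P : Subgroup G), r y * conj (thetaFun P ψ y) =
      (frobIndex P : ℂ) * ∑ y : (P : Subgroup G), r y * conj ((ψ y : ℂˣ) : ℂ) := by
  classical
  haveI := Fintype.ofFinite G
  simp only [thetaFun_apply, map_mul, map_sum, map_inv₀, Complex.conj_natCast, Finset.mul_sum]
  rw [Finset.sum_comm, Finset.sum_congr rfl fun n _ => show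
    ∑ y : (P : Subgroup G), r y * ((Nat.card (Subgroup.centralizer ((P : Subgroup G) : Set G)) : ℂ)⁻¹ *
      conj ((ψ (conjSyl P n y) : ℂˣ) : ℂ)) =
    (Nat.card (Subgroup.centralizer ((P : Subgroup G) : Set G)) : ℂ)⁻¹ *
      ∑ y : (P : Subgroup G), r y * conj ((ψ y : ℂˣ) : ℂ) by
      rw [Finset.mul_sum]
      exact Fintype.sum_equiv
        ⟨conjSyl P n, conjSyl P n⁻¹,
          fun y => by rw [← conjSyl_mul, inv_mul_cancel, conjSyl_one],
          fun y => by rw [← conjSyl_mul, mul_inv_cancel, conjSyl_one]⟩ _ _ fun y => by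
        simp only [Equiv.coe_fn_mk]
        conv_lhs => rw [← hr n y]
        ring,
    Finset.sum_const, Finset.card_univ, ← Nat.card_eq_fintype_card, card_normalizer_eq,
    nsmul_eq_mul, Nat.cast_mul, ← Finset.mul_sum]
  field_simp

lemma mem_sylOrbit_of_thetaFun_eq {ψ φ : (P : Subgroup G) →* ℂˣ} (hψ : ψ ≠ 1) (hφ : φ ≠ 1)
    (he : thetaFun P φ = thetaFun P ψ) : φ ∈ sylOrbit P ψ := by
  classical
  haveI := Fintype.ofFinite G
  haveI := finite_dual h
  haveI := Fintype.ofFinite ((P : Subgroup G) →* ℂˣ)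
  have h1 := sum_invariant_mul_thetaFun h (ψ := φ) (thetaFun_invariant ψ)
  rw [sum_thetaFun_mul_conj h hψ hφ, if_pos he.symm] at h1
  have h2 : ∑ y : (P : Subgroup G), thetaFun P ψ y * conj ((φ y : ℂˣ) : ℂ) ≠ 0 := fun h0 => by
    rw [h0, mul_zero] at h1
    exact mul_ne_zero (Nat.cast_ne_zero.2 (frobIndex_pos P).ne')
      (Nat.cast_ne_zero.2 Nat.card_pos.ne') h1
  simp only [thetaFun_eq_sum h hψ, Finset.sum_mul] at h2
  rw [Finset.sum_comm] at h2
  simp only [sum_syl_mul_conj h, Finset.sum_ite_eq'] at h2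
  by_contra hn
  exact h2 (if_neg fun hm => hn (Finset.mem_filter.1 hm).2)

end Cfsg.Lib.Blocks
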