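import Mathlib
import Cfsg.Prelude.Def_Blocks
import Cfsg.Agent.Blocks.Brauer
import Cfsg.Agent.Blocks.Defect
import Cfsg.Agent.Blocks.Local
import Cfsg.Agent.Blocks.Third
import Cfsg.Agent.Blocks.Feit3

/-!
# Knörr's lemma: a character vanishing on the elements of order `p` has defect zero

The central element `a = Σ_{x^p = 1} x` has central character `1` on such a character, while its
image under the Brauer map at a nontrivial defect group squares to zero.
-/

set_option autoImplicit false
set_option linter.unusedSectionVars false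

namespace Cfsg.Lib.Blocks

open Cfsg.Lib.Chars

universe u

variable {G : Type u} [Group G] [Fintype G] {p : ℕ}

/-- The sum of the elements `x` with `x ^ p = 1`. -/
noncomputable def torsionSum (p : ℕ) (G : Type u) [Group G] [Fintype G] : MonoidAlgebra ℂ G := by
  classical
  exact ofFn fun x => if x ^ p = 1 then 1 else 0

lemma fn_torsionSum [DecidableEq G] (p : ℕ) (x : G) :
    fn (torsionSum p G) x = if x ^ p = 1 then 1 else 0 := by
  simp only [torsionSum, fn_ofFn]
  split_ifs <;> rfl

lemma isCentralFn_torsionSum (p : ℕ) : IsCentralFn (torsionSum p G) := fun g h => by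
  classical
  rw [fn_torsionSum, fn_torsionSum]
  exact if_congr (by rw [conj_pow, mul_inv_eq_one, mul_eq_left]) rfl rfl

lemma integral_torsionSum (M : Ideal AlgInt) (p : ℕ) : Integral M (torsionSum p G) := fun g => by
  classical
  rw [fn_torsionSum]
  split_ifs
  · exact one_mem _
  · exact zero_mem _

variable [Fact p.Prime]

/-- The Brauer image of the torsion sum at a `p`-group with a central element of order `p`
squares to zero. -/
lemma br_torsionSum_sq {M : Ideal AlgInt} (hM : IsPModular p M) (D : Subgroup G) {z : G}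
    (hzo : orderOf z = p) (hz : z ∈ D) (hzc : ∀ y ∈ D, y * z = z * y) :
    br D (red M (torsionSum p G)) * br D (red M (torsionSum p G)) = 0 := by
  classical
  haveI := charP_res hM
  set A := br D (red M (torsionSum p G)) with hA
  set C := Subgroup.centralizer (D : Set G) with hC
  have hzC : z ∈ C := Subgroup.mem_centralizer_iff.2 hzc
  have hfixA : ∀ k ∈ Subgroup.zpowers z, ∀ y : G, fn A (k * y) = fn A y := by
    intro k hk y
    have hkC : k ∈ C := Subgroup.zpowers_le.2 hzC hk
    have hkD : k ∈ D := Subgroup.zpowers_le.2 hz hk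
    have hkp : k ^ p = 1 := by
      obtain ⟨i, rfl⟩ := hk
      rw [← zpow_natCast, ← zpow_mul, mul_comm, zpow_mul, zpow_natCast, ← hzo, pow_orderOf_eq_one,
        one_zpow]
    by_cases hy : y ∈ C
    · have hcomm : Commute k y := Subgroup.mem_centralizer_iff.1 hy k hkD
      rw [hA, br, fn_trunc_mem _ (mul_mem hkC hy), fn_trunc_mem _ hy, fn_red, fn_red,
        fn_torsionSum, fn_torsionSum, hcomm.mul_pow, hkp, one_mul]
    · rw [hA, br, fn_trunc_not_mem _ (fun h => hy ((Subgroup.mul_mem_cancel_left C hkC).1 h)),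
        fn_trunc_not_mem _ hy]
  refine fn_ext fun c => ?_
  rw [fn_zero, fn_mul]
  have hsupp : ∀ t : G, t ∉ C → fn A t = 0 := fun t ht => suppOn_br D _ t ht
  rw [sum_eq_sum_fixed (P := Subgroup.zpowers z) (IsPGroup.of_card (n := 1)
      (by rw [Nat.card_zpowers, hzo, pow_one]))
    (fun r => by rw [nsmul_eq_mul, CharP.cast_eq_zero, zero_mul]) (fun t => fn A t * fn A (t⁻¹ * c))
    (fun k t => ?_)]
  · refine Finset.sum_eq_zero fun t ht => ?_
    exfalso
    have h := (Finset.mem_filter.1 ht).2 ⟨z, Subgroup.mem_zpowers z⟩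
    have h' : z * t = t := h
    have : z = 1 := mul_eq_right.1 h'
    rw [this, orderOf_one] at hzo
    exact (Fact.out : p.Prime).one_lt.ne hzo
  · show fn A ((k : G) * t) * fn A (((k : G) * t)⁻¹ * c) = fn A t * fn A (t⁻¹ * c)
    rw [hfixA _ k.2 t]
    by_cases ht : t ∈ C
    · have hkD : (k : G) ∈ D := Subgroup.zpowers_le.2 hz k.2
      have hcomm : Commute (k : G)⁻¹ t :=
        (Subgroup.mem_centralizer_iff.1 ht _ (D.inv_mem hkD))
      rw [mul_inv_rev, hcomm.symm.inv_left.eq, mul_assoc, hfixA _ (inv_mem k.2)]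
    · rw [hsupp t ht, zero_mul, zero_mul]

/-- **Knörr's lemma**: a character vanishing on the elements of order `p` has defect zero. -/
theorem factorization_deg_of_vanish_order_p (χ : IrrCharacter G)
    (hvan : ∀ g : G, orderOf g = p → (χ : G → ℂ) g = 0) :
    (deg (χ : G → ℂ)).factorization p = (Nat.card G).factorization p := by
  classical
  have hp : p.Prime := Fact.out
  obtain ⟨M, hM⟩ := exists_isPModular hp
  set B := blockOf M (χ : G → ℂ) with hBdef
  have hB : IsPBlock M B := isPBlock_blockOf χ
  have hχB : χ ∈ B := mem_blockOf_self hM χ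
  obtain ⟨D, hD⟩ := exists_defectGroup hM hB
  obtain ⟨g, hg, S, hDS⟩ := hD
  by_cases hbot : D = ⊥
  · have hc := IsDefectGroup.card hM hB ⟨g, hg, S, hDS⟩
    rw [hbot, Subgroup.card_bot] at hc
    have hd : blockDefect p B = 0 :=
      Nat.pow_eq_one.1 hc.symm |>.resolve_left hp.one_lt.ne'
    obtain ⟨hge, -⟩ := degree_bounds hM hB hg
    have h1 := hge χ hχB
    rw [blockDefect_eq hM hB hg] at hd
    have h2 : (deg (χ : G → ℂ)).factorization p ≤ (Nat.card G).factorization p :=
      (Nat.factorization_le_iff_dvd (deg_irr_pos χ).ne' Nat.card_pos.ne').2 (IsIrrCharacter.deg_dvd χ.2) p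
    have h3 := congrArg (fun n => n.factorization p)
      (Subgroup.card_mul_index (Subgroup.centralizer ({g} : Set G)))
    simp only [Nat.factorization_mul Nat.card_pos.ne' Subgroup.index_ne_zero_of_finite,
      Finsupp.add_apply, hd, zero_add] at h3
    omega
  exfalso
  haveI : Nontrivial D := (Subgroup.nontrivial_iff_ne_bot D).2 hbot
  have hDp : IsPGroup p D := hDS ▸ isPGroup_centSyl S
  haveI := hDp.center_nontrivial
  obtain ⟨k, hk⟩ := (hDp.to_subgroup (Subgroup.center D)).exists_card_eq
  have hk0 : k ≠ 0 := fun h => by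
    rw [h, pow_zero] at hk
    exact absurd hk Finite.one_lt_card.ne'
  obtain ⟨z0, hz0⟩ := exists_prime_orderOf_dvd_card' (G := Subgroup.center D) p
    (hk ▸ dvd_pow_self p hk0)
  set z : G := ((z0 : D) : G) with hzdef
  have hzo : orderOf z = p := by rw [hzdef, Subgroup.orderOf_coe, Subgroup.orderOf_coe, hz0]
  have hzD : z ∈ D := (z0 : D).2
  have hzc : ∀ y ∈ D, y * z = z * y := fun y hy =>
    congrArg Subtype.val (Subgroup.mem_center_iff.1 z0.2 ⟨y, hy⟩)
  set a := torsionSum p G with ha
  have hac := isCentralFn_torsionSum (G := G) p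
  have hai := integral_torsionSum (G := G) M p
  have homega : omega (χ : G → ℂ) a = 1 := by
    have h1 : chiEval (χ : G → ℂ) a = (χ : G → ℂ) 1 := by
      unfold chiEval
      rw [Finset.sum_eq_single (1 : G)]
      · rw [fn_torsionSum, if_pos (one_pow p), one_mul]
      · intro x _ hx
        rw [fn_torsionSum]
        split_ifs with hxp
        · rw [hvan x (orderOf_eq_prime hxp hx), mul_zero]
        · rw [zero_mul]
      · exact fun h => absurd (Finset.mem_univ _) h
    rw [omega, h1, div_self]
    rw [irr_apply_one_eq_deg]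
    exact_mod_cast (deg_irr_pos χ).ne'
  have hei := integral_blockElem hM hB
  have hec := isCentralFn_blockElem B
  set w := (a - 1) * blockElem B with hw
  have hwc : IsCentralFn w := (hac.sub isCentralFn_one).mul hec
  have hwi : Integral M w := (hai.sub integral_one).mul hei
  have hsmall : ∀ ψ : IrrCharacter G, Small M (omega (ψ : G → ℂ) w) := by
    intro ψ
    rw [hw, omega_mul ψ (hac.sub isCentralFn_one), omega_blockElem B ψ]
    split_ifs with hψ
    · rw [mul_one, omega_sub, omega_one]
      have hm := omega_mem_place hM ψ hac hai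
      rw [← res_eq_iff hm (one_mem _),
        ← res_omega_eq_of_sameBlock hM (IsPBlock.sameBlock hM hB hχB hψ) hac hai, homega]
    · rw [mul_zero]; exact small_zero
  obtain ⟨n, hn⟩ := isNilpotent_red_of_omega_small hM hwc hwi hsmall
  haveI := charP_res hM
  set A := br D (red M a) with hA
  set E := br D (red M (blockElem B)) with hE
  have hinv : ∀ {x : MonoidAlgebra (Res M) G}, IsCentralFn x → InvOn D x :=
    fun hx => (invOn_top_iff.2 hx).mono le_top
  have hac' : IsCentralFn (red M a) := hac.red
  have hec' : IsCentralFn (red M (blockElem B)) := hec.red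
  have hEE : E * E = E := by
    rw [hE, ← br_mul hDp (hinv hec') (hinv hec'), ← red_mul hei hei, blockElem_mul_self]
  have hAE : A * E = E * A := by
    rw [hE, hA, ← br_mul hDp (hinv hec') (hinv hac'), ← br_mul hDp (hinv hac') (hinv hec'),
      hac'.comm]
  have hA2 : A * A = 0 := br_torsionSum_sq hM D hzo hzD hzc
  have hsub : br D (red M a - 1) = A - 1 := fn_ext fun x => by
    rw [hA]
    by_cases hx : x ∈ Subgroup.centralizer (D : Set G)
    · simp [br, fn_trunc_mem _ hx]
    · have h1 : x ≠ 1 := fun h => hx (h ▸ one_mem _)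
      simp [br, fn_trunc_not_mem _ hx, fn_one, Ne.symm h1]
  have hbw : br D (red M w) = (A - 1) * E := by
    rw [hw, red_mul (hai.sub integral_one) hei, red_sub hai integral_one, red_one,
      br_mul hDp (hinv (hac'.sub isCentralFn_one)) (hinv hec'), hsub]
  have hpow : ∀ m : ℕ, br D (red M w ^ (m + 1)) = ((A - 1) * E) ^ (m + 1) := by
    intro m
    induction m with
    | zero => rw [zero_add, pow_one, pow_one, hbw]
    | succ m ih =>
      rw [pow_succ _ (m + 1), pow_succ _ (m + 1), br_mul hDp (hinv ?_) (hinv hwc.red), ih, hbw]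
      rw [← red_pow hwi]
      exact (hwc.pow _).red
  have hnil : ((A - 1) * E) ^ (n + 1) = 0 := by
    rw [← hpow n, pow_succ, hn, zero_mul, br_zero]
  have hA1 : (A - 1) * -(A + 1) = 1 := by
    have e : (A - 1) * -(A + 1) = 1 - A * A := by noncomm_ring
    rw [e, hA2, sub_zero]
  have hA1' : -(A + 1) * (A - 1) = 1 := by
    have e : -(A + 1) * (A - 1) = 1 - A * A := by noncomm_ring
    rw [e, hA2, sub_zero]
  have hu : IsUnit (A - 1) := isUnit_iff_exists.2 ⟨_, hA1, hA1'⟩
  have hcomm : Commute (A - 1) E := by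
    show (A - 1) * E = E * (A - 1)
    rw [sub_mul, mul_sub, one_mul, mul_one, hAE]
  rw [hcomm.mul_pow, (IsIdempotentElem.pow_succ_eq n hEE : E ^ (n + 1) = E)] at hnil
  have hE0 : E = 0 := (hu.pow (n + 1)).mul_right_eq_zero.1 hnil
  refine ((isDefectClass_iff hM hB g).1 hg).1 ?_
  have h := congrArg (fun x => fn x g) hE0
  simp only [fn_zero] at h
  rw [hE, br, fn_trunc_mem _ (hDS ▸ mem_centralizer_centSyl S), fn_red,
    res_eq_zero_iff (hei g), fn_blockElem] at h
  exact h

end Cfsg.Lib.Blocks
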