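import Mathlib
import Cfsg.Agent.Blocks.Columns
import Cfsg.Agent.Blocks.Orth2
import Cfsg.Agent.Chars.Values
import Cfsg.Agent.Transfer.Basic

/-!
# Principal blocks of regular rank one
-/

set_option autoImplicit false
set_option maxHeartbeats 400000
set_option linter.unusedSectionVars false

namespace Cfsg.Lib.Blocks

open Cfsg.Lib.Chars
open scoped ComplexConjugate

universe u

variable {G : Type u} [Group G] [Fintype G] {M : Ideal AlgInt} {p : ℕ}

/-- With a normal `p`-complement the principal block has regular rank one. -/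
theorem blockRank_principal_eq_one [Fact p.Prime] (hM : IsPModular p M)
    (h : HasNormalPComplement p G) : blockRank p (principalBlock M G) = 1 := by
  classical
  obtain ⟨K, hKn, hKc, k, hk⟩ := Cfsg.Lib.Transfer.hasNormalPComplement_iff.1 h
  have hK : ¬ p ∣ Nat.card K := hM.1.coprime_iff_not_dvd.1 hKc.symm
  obtain ⟨v, hv⟩ : ∃ v : G → ℂ, v = pRegularPart p ((principal G : IrrCharacter G) : G → ℂ) :=
    ⟨_, rfl⟩
  have hv0 : v ≠ 0 := fun h0 => by
    have h1 := congrFun h0 1
    rw [hv, pRegularPart_apply, if_neg (by rw [orderOf_one]; exact hM.1.not_dvd_one),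
      Pi.zero_apply] at h1
    exact IsIrrCharacter.apply_one_ne_zero (principal G).2 h1
  have hspan : Submodule.span ℂ
      ((fun χ : IrrCharacter G => pRegularPart p (χ : G → ℂ)) '' principalBlock M G) = ℂ ∙ v := by
    refine le_antisymm (Submodule.span_le.2 ?_) (Submodule.span_mono (Set.singleton_subset_iff.2
      ⟨principal G, mem_blockOf_self hM (principal G), hv.symm⟩))
    rintro _ ⟨χ, hχ, rfl⟩
    refine Submodule.mem_span_singleton.2 ⟨(χ : G → ℂ) 1, funext fun g => ?_⟩
    rw [Pi.smul_apply, smul_eq_mul, hv]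
    simp only [pRegularPart_apply]
    split_ifs with hg
    · rw [mul_zero]
    · rw [(mem_principalBlock_iff hM K hK hk χ).1 hχ g
        (mem_of_pRegular_of_index_eq_pow hM.1 K hk hg)]
      show _ * (1 : ℂ) = _
      rw [mul_one]
  rw [blockRank, hspan]
  exact finrank_span_singleton hv0

/-- A principal block of regular rank one forces a normal `p`-complement. -/
theorem hasNormalPComplement_of_blockRank [Fact p.Prime] (hM : IsPModular p M)
    (h : blockRank p (principalBlock M G) = 1) : HasNormalPComplement p G := by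
  classical
  obtain ⟨B, hB', h1B, hB⟩ : ∃ B : Set (IrrCharacter G), principalBlock M G = B ∧
      principal G ∈ B ∧ IsPBlock M B :=
    ⟨_, rfl, mem_blockOf_self hM (principal G), isPBlock_blockOf (principal G)⟩
  rw [hB', blockRank] at h
  let S := Submodule.span ℂ ((fun χ : IrrCharacter G => pRegularPart p (χ : G → ℂ)) '' B)
  have hne1 : ¬ p ∣ orderOf (1 : G) := by rw [orderOf_one]; exact hM.1.not_dvd_one
  let v : S := ⟨pRegularPart p ((principal G : IrrCharacter G) : G → ℂ), Submodule.subset_span ⟨_, h1B, rfl⟩⟩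
  have hv : v ≠ 0 := fun h0 => by
    have h1 := congrFun (congrArg Subtype.val h0) 1
    change pRegularPart p ((principal G : IrrCharacter G) : G → ℂ) 1 = 0 at h1
    rw [pRegularPart_apply, if_neg hne1] at h1
    exact IsIrrCharacter.apply_one_ne_zero (principal G).2 h1
  have hker : ∀ χ ∈ B, ∀ g : G, ¬ p ∣ orderOf g →
      (χ : G → ℂ) g = ((χ : IrrCharacter G) : G → ℂ) 1 := by
    intro χ hχ g hg
    obtain ⟨c, hc⟩ := (finrank_eq_one_iff_of_nonzero' v hv).1 h
      ⟨_, Submodule.subset_span ⟨χ, hχ, rfl⟩⟩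
    have e := congrArg Subtype.val hc
    have hg' := congrFun e g
    have h1' := congrFun e 1
    simp only [v, SetLike.val_smul, Pi.smul_apply, smul_eq_mul, pRegularPart_apply, if_neg hg,
      if_neg hne1] at hg' h1'
    rw [← hg', ← h1']
    rfl
  let K : Subgroup G := ⨅ χ : B, kerSubgroup _ (isCharacter_of_irr χ.1.2)
  have hKn : K.Normal := Subgroup.normal_iInf_normal fun χ =>
    kerSubgroup_normal (isCharacter_of_irr χ.1.2)
  have hmem : ∀ g : G, g ∈ K ↔ ∀ χ : B, (χ.1 : G → ℂ) g = (χ.1 : G → ℂ) 1 := fun g => by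
    simp only [K, Subgroup.mem_iInf, mem_kerSubgroup]
  refine Cfsg.Lib.Transfer.hasNormalPComplement_iff.2 ⟨K, hKn, ?_, ?_⟩
  · refine (hM.1.coprime_iff_not_dvd.2 fun hdvd => ?_).symm
    obtain ⟨x, hx⟩ := exists_prime_orderOf_dvd_card' p hdvd
    have hxp : p ∣ orderOf (x : G) := by rw [Subgroup.orderOf_coe, hx]
    have h0 := block_orthogonality_regular hM hB hne1 hxp
    rw [Finset.sum_congr rfl fun χ hχ => by
      rw [(hmem x).1 x.2 ⟨χ, (Finset.mem_filter.1 hχ).2⟩, irr_apply_one_eq_deg,
        Complex.conj_natCast, ← Nat.cast_mul], ← Nat.cast_sum, Nat.cast_eq_zero,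
      Finset.sum_eq_zero_iff] at h0
    have := h0 (principal G) (by simp [h1B])
    exact (Nat.mul_pos (deg_irr_pos _) (deg_irr_pos _)).ne' this
  · have hq : IsPGroup p (G ⧸ K) := fun q => by
      obtain ⟨g, rfl⟩ := QuotientGroup.mk_surjective q
      obtain ⟨e, o, ho, he⟩ :=
        Nat.exists_eq_pow_mul_and_not_dvd (orderOf_pos g).ne' p hM.1.ne_one
      refine ⟨e, ?_⟩
      rw [← QuotientGroup.mk_pow, QuotientGroup.eq_one_iff, hmem]
      refine fun χ => hker χ.1 χ.2 _ ?_
      rw [orderOf_pow_of_dvd (pow_ne_zero _ hM.1.ne_zero) (Dvd.intro o he.symm), he,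
        Nat.mul_div_cancel_left _ (pow_pos hM.1.pos e)]
      exact ho
    obtain ⟨k, hk⟩ := hq.exists_card_eq
    exact ⟨k, by rw [← hk]; exact Subgroup.index_eq_card K⟩

end Cfsg.Lib.Blocks
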