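import Mathlib
import Cfsg.Agent.Blocks.Columns
import Cfsg.Agent.Blocks.PPart
import Cfsg.Agent.Blocks.PrincipalRank
import Cfsg.Agent.Blocks.BrauerInduction
import Cfsg.Agent.Blocks.PiSection
import Cfsg.Agent.Blocks.FrobeniusDual
import Cfsg.Agent.Blocks.Knorr
import Cfsg.Agent.Chars.NormTwo
import Cfsg.Agent.Transfer.Fusion
import Cfsg.Agent.Transfer.Basic

/-!
# The principal block for an abelian Sylow subgroup with a Frobenius normalizer
-/

set_option autoImplicit false
set_option linter.unusedSectionVars false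

namespace Cfsg.Lib.Blocks

open Cfsg.Lib.Chars
open scoped ComplexConjugate

universe u

variable {G : Type u} [Group G] [Fintype G] {M : Ideal AlgInt} {p : ℕ} [Fact p.Prime]
  {P : Sylow p G}

/-! ### Fusion and centralisers -/

lemma exists_conjSyl_of_isConj (h : FrobeniusNormalizer P) {a b : (P : Subgroup G)}
    (hc : IsConj (a : G) b) : ∃ n, conjSyl P n a = b := by
  obtain ⟨g, hg⟩ := isConj_iff.1 hc
  have hle : ∀ x : (P : Subgroup G), (P : Subgroup G) ≤ Subgroup.normalizer ({(x : G)} : Set G) := by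
    intro x z hz
    rw [Subgroup.mem_set_normalizer_iff]
    intro w
    simp only [Set.mem_singleton_iff]
    have e : z * (x : G) * z⁻¹ = x := by rw [h.comm z hz x x.2, mul_inv_cancel_right]
    constructor
    · rintro rfl; exact e
    · intro hw
      have := congrArg (fun v => z⁻¹ * v * z) (hw.trans e.symm)
      simpa [mul_assoc] using this
  obtain ⟨n, hn, hX⟩ := Cfsg.Lib.Transfer.burnside_fusion_set P {(a : G)} {(b : G)} (hle a) (hle b) g
    (by simp [hg])
  refine ⟨⟨n, hn⟩, Subtype.ext ?_⟩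
  rw [coe_conjSyl]
  simpa using hX

lemma isConj_conjSyl (n : Subgroup.normalizer ((P : Subgroup G) : Set G)) (a : (P : Subgroup G)) :
    IsConj (a : G) (conjSyl P n a : G) :=
  isConj_iff.2 ⟨n, (coe_conjSyl P n a).symm⟩

lemma SylInvariant.eq_of_isConj {R : Type*} {f : ↥(P : Subgroup G) → R} (hf : SylInvariant P f)
    (h : FrobeniusNormalizer P) {a b : (P : Subgroup G)} (hc : IsConj (a : G) b) : f b = f a := by
  obtain ⟨n, hn⟩ := exists_conjSyl_of_isConj h hc
  rw [← hn, hf]

lemma orderOf_syl (y : (P : Subgroup G)) : ∃ k : ℕ, orderOf (y : G) = p ^ k := by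
  obtain ⟨k, hk⟩ := IsPGroup.iff_orderOf.1 P.2 y
  exact ⟨k, by rw [Subgroup.orderOf_coe, hk]⟩

lemma natCard_isConj_syl (h : FrobeniusNormalizer P) {y : (P : Subgroup G)} (hy : y ≠ 1) :
    Nat.card {w : (P : Subgroup G) // IsConj (y : G) w} = frobIndex P := by
  classical
  let C := (Subgroup.centralizer ((P : Subgroup G) : Set G)).subgroupOf
    (Subgroup.normalizer ((P : Subgroup G) : Set G))
  have key : ∀ a b : Subgroup.normalizer ((P : Subgroup G) : Set G),
      a⁻¹ * b ∈ C ↔ conjSyl P a y = conjSyl P b y := by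
    intro a b
    constructor
    · intro hab
      have e : conjSyl P (a⁻¹ * b) y = y := Subtype.ext (by
        rw [coe_conjSyl, ← (Subgroup.mem_subgroupOf.1 hab) (y : G) y.2, mul_inv_cancel_right])
      calc conjSyl P a y = conjSyl P a (conjSyl P (a⁻¹ * b) y) := by rw [e]
        _ = _ := by rw [← conjSyl_mul, mul_inv_cancel_left]
    · intro hab
      have e : conjSyl P (a⁻¹ * b) y = y := by
        rw [conjSyl_mul, ← hab, ← conjSyl_mul, inv_mul_cancel, conjSyl_one]
      refine Subgroup.mem_subgroupOf.2 (h.frob _ y.2 (fun h1 => hy (Subtype.ext h1)) ⟨?_, (a⁻¹ * b).2⟩)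
      refine Subgroup.mem_centralizer_singleton_iff.2 ?_
      have e' : ((a⁻¹ * b : Subgroup.normalizer ((P : Subgroup G) : Set G)) : G) * y *
          ((a⁻¹ * b : Subgroup.normalizer ((P : Subgroup G) : Set G)) : G)⁻¹ = y :=
        congrArg Subtype.val e
      exact mul_inv_eq_iff_eq_mul.1 e'
  let F : (Subgroup.normalizer ((P : Subgroup G) : Set G)) ⧸ C →
      {w : (P : Subgroup G) // IsConj (y : G) w} :=
    fun q => Quotient.liftOn' q (fun a => ⟨conjSyl P a y, isConj_conjSyl a y⟩) fun a b hab =>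
      Subtype.ext ((key a b).1 (QuotientGroup.leftRel_apply.1 hab))
  have hF : Function.Bijective F := by
    refine ⟨fun q q' => ?_, fun ⟨w, hw⟩ => ?_⟩
    · induction q using QuotientGroup.induction_on with | _ a => ?_
      induction q' using QuotientGroup.induction_on with | _ b => ?_
      intro hab
      exact QuotientGroup.eq.2 ((key a b).2 (congrArg Subtype.val hab))
    · obtain ⟨n, hn⟩ := exists_conjSyl_of_isConj h hw
      exact ⟨(n : _ ⧸ C), Subtype.ext hn⟩
  rw [← Nat.card_congr (Equiv.ofBijective F hF)]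
  rfl

lemma frobenius_le_centralizer_zpowers (h : FrobeniusNormalizer P) {y : G} (hy : y ∈ (P : Subgroup G)) :
    (P : Subgroup G) ≤ Subgroup.centralizer (Subgroup.zpowers y : Set G) := by
  rw [centralizer_zpowers]
  exact fun z hz => Subgroup.mem_centralizer_singleton_iff.2 (h.comm z hz y hy)

/-- Centralisers of nontrivial elements of `P` have normal `p`-complements. -/
lemma hasNormalPComplement_centralizer (h : FrobeniusNormalizer P) {y : G}
    (hy : y ∈ (P : Subgroup G)) (hy1 : y ≠ 1) :
    HasNormalPComplement p (Subgroup.centralizer (Subgroup.zpowers y : Set G)) := by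
  have hPH := frobenius_le_centralizer_zpowers h hy
  set Q := P.subtype hPH
  have hNC : Subgroup.normalizer (Q : Set (Subgroup.centralizer (Subgroup.zpowers y : Set G))) ≤
      Subgroup.centralizer (Q : Set (Subgroup.centralizer (Subgroup.zpowers y : Set G))) := by
    intro n hn
    have hnN : (n : G) ∈ Subgroup.normalizer ((P : Subgroup G) : Set G) := by
      rw [Subgroup.mem_normalizer_iff]
      intro w
      constructor
      · intro hw
        have h1 := (Subgroup.mem_normalizer_iff.1 hn ⟨w, hPH hw⟩).1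
          (show (⟨w, hPH hw⟩ : _) ∈ (P : Subgroup G).subgroupOf _ from hw)
        exact h1
      · intro hw
        have h1 := (Subgroup.mem_normalizer_iff.1 (inv_mem hn)
          ⟨(n : G) * w * (n : G)⁻¹, hPH hw⟩).1
          (show (⟨_, hPH hw⟩ : _) ∈ (P : Subgroup G).subgroupOf _ from hw)
        have h2 : (n : G)⁻¹ * ((n : G) * w * (n : G)⁻¹) * ((n : G)⁻¹)⁻¹ ∈ (P : Subgroup G) := h1
        simpa [mul_assoc] using h2
    have hny : (n : G) ∈ Subgroup.centralizer ({y} : Set G) := by
      rw [← centralizer_zpowers]; exact n.2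
    have hnC := h.frob y hy hy1 ⟨hny, hnN⟩
    exact fun c hc => Subtype.ext (hnC (c : G) hc)
  exact Cfsg.Lib.Transfer.hasNormalPComplement_of_isComplement'
    (MonoidHom.ker_transferSylow_isComplement' Q hNC)

open scoped Classical in
/-- The regular elements of such a centraliser. -/
lemma card_regular_centralizer (h : FrobeniusNormalizer P) (hp : p.Prime) {y : G}
    (hy : y ∈ (P : Subgroup G)) (hy1 : y ≠ 1) :
    (Finset.univ.filter fun w : Subgroup.centralizer (Subgroup.zpowers y : Set G) =>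
        ¬ p ∣ orderOf w).card * Nat.card (P : Subgroup G) =
      Nat.card (Subgroup.centralizer (Subgroup.zpowers y : Set G)) := by
  have hPH := frobenius_le_centralizer_zpowers h hy
  obtain ⟨K, hKn, hK⟩ := Cfsg.Lib.Transfer.exists_complement_of_hasNormalPComplement
    (hasNormalPComplement_centralizer h hy hy1) (P.subtype hPH)
  obtain ⟨hcop, k, hk⟩ := Cfsg.Lib.Transfer.complement_props hK
  have hmem : ∀ w : Subgroup.centralizer (Subgroup.zpowers y : Set G),
      ¬ p ∣ orderOf w ↔ w ∈ K := fun w => by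
    rw [Cfsg.Lib.Transfer.mem_iff_coprime_orderOf hcop hk, Nat.coprime_comm,
      hp.coprime_iff_not_dvd]
  have e1 : (Finset.univ.filter fun w : Subgroup.centralizer (Subgroup.zpowers y : Set G) =>
      ¬ p ∣ orderOf w).card = Nat.card K := by
    rw [← Fintype.card_subtype, ← Nat.card_eq_fintype_card]
    exact Nat.card_congr (Equiv.subtypeEquivRight hmem)
  rw [e1, ← hK.card_mul]
  congr 1
  exact (Nat.card_congr (Subgroup.subgroupOfEquivOfLe hPH).toEquiv).symm

/-- A character of the principal block is constant on sections. -/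
lemma apply_mul_of_mem_principal (hM : IsPModular p M) (h : FrobeniusNormalizer P) {y : G}
    (hy : y ∈ (P : Subgroup G)) (hy1 : y ≠ 1) {χ : IrrCharacter G}
    (hχ : χ ∈ principalBlock M G) {w : Subgroup.centralizer (Subgroup.zpowers y : Set G)}
    (hw : ¬ p ∣ orderOf w) : (χ : G → ℂ) (y * (w : G)) = (χ : G → ℂ) y := by
  classical
  have hx : ∃ k : ℕ, orderOf y = p ^ k := orderOf_syl ⟨y, hy⟩
  have hB : IsPBlock M (principalBlock M G) := isPBlock_blockOf (principal G)
  obtain ⟨K, hKn, hKc, k, hk⟩ := Cfsg.Lib.Transfer.hasNormalPComplement_iff.1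
    (hasNormalPComplement_centralizer h hy hy1)
  have h1 : ¬ p ∣ orderOf (1 : Subgroup.centralizer (Subgroup.zpowers y : Set G)) := by
    rw [orderOf_one]; exact hM.1.not_dvd_one
  have e : ∀ v : Subgroup.centralizer (Subgroup.zpowers y : Set G), ¬ p ∣ orderOf v →
      (χ : G → ℂ) (y * (v : G)) =
      blockPart (principalBlock M _) (fun c : Subgroup.centralizer (Subgroup.zpowers y : Set G) =>
        (χ : G → ℂ) (y * (c : G))) 1 := by
    intro v hv
    rw [apply_mul_eq_sum_blockPart hM hx rfl hB hχ hv, filter_induced_principal hM hx rfl,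
      Finset.sum_singleton, blockPart_eq_sum, blockPart_eq_sum]
    refine Finset.sum_congr rfl fun ψ hψ => ?_
    rw [(mem_principalBlock_iff hM K (hM.1.coprime_iff_not_dvd.1 hKc.symm) hk ψ).1
      (Finset.mem_filter.1 hψ).2 v (mem_of_pRegular_of_index_eq_pow hM.1 K hk hv)]
  rw [e w hw, ← e 1 h1, OneMemClass.coe_one, mul_one]

open scoped Classical in
/-- Outside the principal block the sums over sections vanish. -/
lemma sum_section_eq_zero (hM : IsPModular p M) (h : FrobeniusNormalizer P) {y : G}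
    (hy : y ∈ (P : Subgroup G)) (hy1 : y ≠ 1) {χ : IrrCharacter G}
    (hχ : χ ∉ principalBlock M G) :
    ∑ w ∈ Finset.univ.filter (fun w : Subgroup.centralizer (Subgroup.zpowers y : Set G) =>
      ¬ p ∣ orderOf w), (χ : G → ℂ) (y * (w : G)) = 0 := by
  classical
  have hx : ∃ k : ℕ, orderOf y = p ^ k := orderOf_syl ⟨y, hy⟩
  obtain ⟨H, hH, hPB⟩ : ∃ H : Subgroup G, H = Subgroup.centralizer (Subgroup.zpowers y : Set G) ∧
      IsPBlock M (principalBlock M H) := ⟨_, rfl, isPBlock_blockOf (principal _)⟩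
  subst hH
  have hind : IsInducedBlock M (Subgroup.centralizer (Subgroup.zpowers y : Set G))
      (principalBlock M _) (principalBlock M G) := by
    have hm := Finset.mem_singleton_self (principalBlock M
      (Subgroup.centralizer (Subgroup.zpowers y : Set G)))
    rw [← filter_induced_principal hM hx rfl] at hm
    exact (Finset.mem_filter.1 hm).2
  have hnot : ¬ IsInducedBlock M (Subgroup.centralizer (Subgroup.zpowers y : Set G))
      (principalBlock M _) (blockOf M (χ : G → ℂ)) := fun hb => hχ (by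
    rw [IsInducedBlock.unique hM hind hb]; exact mem_blockOf_self hM χ)
  have h1 : ¬ p ∣ orderOf (1 : Subgroup.centralizer (Subgroup.zpowers y : Set G)) := by
    rw [orderOf_one]; exact hM.1.not_dvd_one
  have h0 := blockPart_translate_eq_zero hM hx rfl (isPBlock_blockOf χ) (mem_blockOf_self hM χ)
    hPB hnot 1 h1
  obtain ⟨K, hKn, hKc, k, hk⟩ := Cfsg.Lib.Transfer.hasNormalPComplement_iff.1
    (hasNormalPComplement_centralizer h hy hy1)
  have hKp := hM.1.coprime_iff_not_dvd.1 hKc.symm
  have hker : ∀ v : Subgroup.centralizer (Subgroup.zpowers y : Set G),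
      colKer (principalBlock M _) 1 v = if p ∣ orderOf v then (0 : ℂ) else (K.index : ℂ) := by
    intro v
    rw [colKer_eq]
    split_ifs with hv
    · exact block_orthogonality_regular hM hPB h1 hv
    · rw [← sum_sq_trivial_on K]
      refine Finset.sum_congr (Finset.filter_congr fun ψ _ =>
        mem_principalBlock_iff hM K hKp hk ψ) fun ψ hψ => ?_
      rw [(Finset.mem_filter.1 hψ).2 v (mem_of_pRegular_of_index_eq_pow hM.1 K hk hv),
        irr_apply_one_eq_deg, Complex.conj_natCast]
  rw [blockPart_eq_colKer] at h0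
  simp only [hker, mul_ite, mul_zero] at h0
  rw [Finset.sum_ite, Finset.sum_const_zero, zero_add, ← Finset.sum_mul, mul_eq_zero,
    mul_eq_zero] at h0
  rcases h0 with h0 | h0 | h0
  · exact absurd h0 (inv_ne_zero (Nat.cast_ne_zero.2 Nat.card_pos.ne'))
  · convert h0
  · exact absurd h0 (Nat.cast_ne_zero.2 Subgroup.index_ne_zero_of_finite)

/-! ### Extension of functions on `P` to the sections -/

lemma exists_syl_isPPart (P : Sylow p G) (hp : p.Prime) (z : G) :
    ∃ y : (P : Subgroup G), ∃ x : G, IsPPart p z x ∧ IsConj (y : G) x := by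
  obtain ⟨x, hx⟩ := exists_isPPart' hp z
  obtain ⟨k, hk⟩ : ∃ k : ℕ, orderOf x = p ^ k := by
    obtain ⟨_, _, _, hk, _⟩ := hx; exact hk
  have hQ : IsPGroup p (Subgroup.zpowers x) := IsPGroup.of_card (n := k) (by rw [Nat.card_zpowers, hk])
  obtain ⟨Q, hQle⟩ := hQ.exists_le_sylow
  obtain ⟨c, hc⟩ := MulAction.exists_smul_eq G Q P
  have hm : c * x * c⁻¹ ∈ (P : Subgroup G) := by
    rw [← hc, Sylow.coe_subgroup_smul]
    exact Subgroup.smul_mem_pointwise_smul x (MulAut.conj c) _ (hQle (Subgroup.mem_zpowers x))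
  exact ⟨⟨_, hm⟩, x, hx, isConj_iff.2 ⟨c⁻¹, by group⟩⟩

/-- A function on `P` read at the `p`-part. -/
noncomputable def sectionExt (P : Sylow p G) (α : ↥(P : Subgroup G) → ℂ) (z : G) : ℂ := by
  classical
  exact α (exists_syl_isPPart P Fact.out z).choose

lemma sectionExt_eq (h : FrobeniusNormalizer P) {α : ↥(P : Subgroup G) → ℂ} (hα : SylInvariant P α)
    {z x : G} (hx : IsPPart p z x) {y : (P : Subgroup G)} (hy : IsConj (y : G) x) :
    sectionExt P α z = α y := by
  obtain ⟨x', hx', hy'⟩ := (exists_syl_isPPart P Fact.out z).choose_spec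
  rw [IsPPart.eq Fact.out hx' hx] at hy'
  exact hα.eq_of_isConj h (hy.trans hy'.symm)

lemma sectionExt_regular (h : FrobeniusNormalizer P) {α : ↥(P : Subgroup G) → ℂ}
    (hα : SylInvariant P α) {z : G} (hz : ¬ p ∣ orderOf z) : sectionExt P α z = α 1 :=
  sectionExt_eq h hα ((isPPart_one_iff Fact.out).2 hz) (IsConj.refl _)

lemma sectionExt_isClassFunction (h : FrobeniusNormalizer P) {α : ↥(P : Subgroup G) → ℂ}
    (hα : SylInvariant P α) : IsClassFunction G (sectionExt P α) := by
  intro z g
  obtain ⟨y, x, hx, hy⟩ := exists_syl_isPPart P Fact.out z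
  rw [sectionExt_eq h hα hx hy,
    sectionExt_eq h hα (IsPPart.conj hx g) (hy.trans (isConj_iff.2 ⟨g, rfl⟩))]

lemma sectionExt_generalized (h : FrobeniusNormalizer P) {α : ↥(P : Subgroup G) → ℂ}
    (hα : SylInvariant P α) (hgen : IsGeneralizedCharacter (P : Subgroup G) α) :
    IsGeneralizedCharacter G (sectionExt P α) := by
  have hp : p.Prime := Fact.out
  refine isGeneralized_of_elementary (sectionExt_isClassFunction h hα) fun E hE => ?_
  obtain ⟨q, hq, hel⟩ := hE
  haveI := isNilpotent_of_isElementary hq hel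
  obtain ⟨a, m, hm, hn⟩ := Nat.exists_eq_pow_mul_and_not_dvd (Nat.card_pos (α := G)).ne' p hp.ne_one
  have hco : m.Coprime (p ^ a) := ((hp.coprime_iff_not_dvd).2 hm).symm.pow_right _
  obtain ⟨t, ht0, ht1⟩ := Nat.chineseRemainder hco 0 1
  have hEd : Nat.card E ∣ m * p ^ a :=
    (E.card_subgroup_dvd_card).trans (by rw [hn, mul_comm])
  have hkill : ∀ e : E, (e ^ t) ^ p ^ a = 1 := by
    intro e
    rw [← pow_mul]
    refine pow_eq_one_of_modEq_zero (m := m * p ^ a) ((orderOf_dvd_natCard e).trans hEd) ?_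
    simpa using Nat.ModEq.mul_right' (p ^ a) ht0
  have hkill' : ∀ e : E, ((e : G) ^ t) ^ p ^ a = 1 := fun e => by
    simpa using congrArg Subtype.val (hkill e)
  let f : E →* G := MonoidHom.mk' (fun e => (e : G) ^ t) fun e e' => by
    have := congrArg Subtype.val (mul_pow_of_isNilpotent hEd hco ht0 ht1 e e')
    simpa using this
  have hQ : IsPGroup p f.range := fun v => by
    obtain ⟨w, e, rfl⟩ := v
    exact ⟨a, Subtype.ext (by simpa [f] using hkill' e)⟩
  obtain ⟨Q, hQle⟩ := hQ.exists_le_sylow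
  obtain ⟨c, hc⟩ := MulAction.exists_smul_eq G Q P
  have hm' : ∀ e, c * f e * c⁻¹ ∈ (P : Subgroup G) := fun e => by
    rw [← hc, Sylow.coe_subgroup_smul]
    exact Subgroup.smul_mem_pointwise_smul _ (MulAut.conj c) _ (hQle ⟨e, rfl⟩)
  let ψ : E →* (P : Subgroup G) := MonoidHom.mk' (fun e => ⟨c * f e * c⁻¹, hm' e⟩) fun e e' =>
    Subtype.ext (by simp [mul_assoc])
  have key : (fun e : E => sectionExt P α (e : G)) = fun e => α (ψ e) := by
    funext e
    obtain ⟨x, hx⟩ := exists_isPPart' hp (e : G)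
    obtain ⟨v, hv, hvc, ⟨k, hk⟩, hvn⟩ := id hx
    have hGd : orderOf x ∣ Nat.card G := orderOf_dvd_natCard x
    have hxa : x ^ p ^ a = 1 := orderOf_dvd_iff_pow_eq_one.1 (by
      rw [hn, hk] at hGd
      rw [hk]
      exact (((hp.coprime_iff_not_dvd).2 hm).pow_left k).dvd_of_dvd_mul_right hGd)
    have hvd : orderOf v ∣ Nat.card G := orderOf_dvd_natCard v
    have hvm : v ^ m = 1 := orderOf_dvd_iff_pow_eq_one.1 (by
      rw [hn] at hvd
      exact ((((hp.coprime_iff_not_dvd).2 hvn).symm).pow_right a).dvd_of_dvd_mul_left hvd)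
    refine sectionExt_eq h hα hx (isConj_iff.2 ⟨c⁻¹, ?_⟩)
    show c⁻¹ * (c * ((e : G) ^ t) * c⁻¹) * c⁻¹⁻¹ = x
    rw [eq_pow_of_parts hv hvc hxa hvm ht1 ht0]
    group
  rw [key]
  exact IsGeneralizedCharacter.comp_hom hgen ψ

open scoped Classical in
/-- Inner products with an extended function. -/
lemma classInner_sectionExt (h : FrobeniusNormalizer P) {f : G → ℂ} (hf : IsClassFunction G f)
    {α : ↥(P : Subgroup G) → ℂ} (hα : SylInvariant P α) (hα1 : α 1 = 0)
    [Fintype (P : Subgroup G)] {S : ↥(P : Subgroup G) → ℂ}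
    (hS : ∀ y : (P : Subgroup G), y ≠ 1 →
      ∑ w ∈ Finset.univ.filter (fun w : Subgroup.centralizer (Subgroup.zpowers (y : G) : Set G) =>
        ¬ p ∣ orderOf w), f ((y : G) * (w : G)) =
      (Nat.card (Subgroup.centralizer (Subgroup.zpowers (y : G) : Set G)) : ℂ) * S y) :
    classInner f (sectionExt P α) =
      (frobIndex P : ℂ)⁻¹ * ∑ y : (P : Subgroup G), S y * conj (α y) := by
  have hp : p.Prime := Fact.out
  choose pp hpp using fun z : G => exists_isPPart' hp z
  have hcG : (Nat.card G : ℂ) ≠ 0 := Nat.cast_ne_zero.2 Nat.card_pos.ne'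
  have hm0 : (frobIndex P : ℂ) ≠ 0 := Nat.cast_ne_zero.2 (frobIndex_pos P).ne'
  have h1 : ∀ z : G, (frobIndex P : ℂ) * (f z * conj (sectionExt P α z)) =
      ∑ y : (P : Subgroup G), if IsConj (y : G) (pp z) then f z * conj (α y) else 0 := by
    intro z
    obtain ⟨y₀, x, hx, hy₀⟩ := exists_syl_isPPart P hp z
    rw [IsPPart.eq hp hx (hpp z)] at hy₀
    rw [sectionExt_eq h hα (hpp z) hy₀, ← Finset.sum_filter,
      Finset.sum_congr rfl fun y hy => by
        rw [hα.eq_of_isConj h ((hy₀.trans (Finset.mem_filter.1 hy).2.symm))],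
      Finset.sum_const, nsmul_eq_mul]
    by_cases hy1 : y₀ = 1
    · rw [hy1, hα1, map_zero, mul_zero, mul_zero, mul_zero]
    congr 2
    rw [← natCard_isConj_syl h hy1, ← Fintype.card_subtype, Nat.card_eq_fintype_card]
    refine Fintype.card_congr (Equiv.subtypeEquivRight fun w => ⟨fun hw => ?_, fun hw => ?_⟩)
    · exact hw.symm.trans hy₀
    · exact hy₀.trans hw.symm
  have h2 : ∀ y : (P : Subgroup G), y ≠ 1 →
      ∑ z ∈ Finset.univ.filter (fun z => IsConj (y : G) (pp z)), f z =
        (Nat.card G : ℂ) * S y := by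
    intro y hy
    rw [← Finset.sum_fiberwise_of_maps_to (g := pp)
      (t := Finset.univ.filter fun x => IsConj (y : G) x)
      (fun z hz => Finset.mem_filter.2 ⟨Finset.mem_univ _, (Finset.mem_filter.1 hz).2⟩)]
    have hcount : ((Finset.univ.filter fun x => IsConj (y : G) x).card : ℂ) *
        (Nat.card (Subgroup.centralizer (Subgroup.zpowers (y : G) : Set G)) : ℂ) = (Nat.card G : ℂ) := by
      rw [centralizer_zpowers, ← Nat.cast_mul, ← Fintype.card_subtype, ← Nat.card_eq_fintype_card,
        card_isConj, mul_comm, Subgroup.card_mul_index]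
    rw [← hcount, mul_assoc, ← hS y hy, ← nsmul_eq_mul, ← Finset.sum_const]
    refine Finset.sum_congr rfl fun x hx => ?_
    obtain ⟨a, ha⟩ := isConj_iff.1 (Finset.mem_filter.1 hx).2
    symm
    refine Finset.sum_nbij (fun w => a * ((y : G) * (w : G)) * a⁻¹) (fun w hw => ?_)
      (fun w _ w' _ e => Subtype.ext (mul_left_cancel (mul_left_cancel (mul_right_cancel e))))
      (fun z hz => ?_) fun w _ => (hf _ a).symm
    · have hw' := (Finset.mem_filter.1 hw).2
      rw [← Subgroup.orderOf_coe] at hw'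
      have hpart := IsPPart.conj (isPPart_mul (commute_of_mem_centralizer rfl w.2)
        (orderOf_syl y) hw') a
      rw [ha] at hpart
      have he : pp (a * ((y : G) * (w : G)) * a⁻¹) = x := IsPPart.eq hp (hpp _) hpart
      exact Finset.mem_filter.2 ⟨Finset.mem_filter.2 ⟨Finset.mem_univ _, by
        rw [he]; exact (Finset.mem_filter.1 hx).2⟩, he⟩
    · rw [Finset.mem_coe, Finset.mem_filter] at hz
      have hq := IsPPart.conj (hz.2 ▸ hpp z : IsPPart p z x) a⁻¹
      rw [← ha, show a⁻¹ * (a * (y : G) * a⁻¹) * a⁻¹⁻¹ = (y : G) by group] at hq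
      obtain ⟨v, hv, hc, -, hnv⟩ := hq
      refine ⟨⟨v, ?_⟩, ?_, ?_⟩
      · rw [centralizer_zpowers, Subgroup.mem_centralizer_singleton_iff]; exact hc.symm.eq
      · rw [Finset.mem_coe, Finset.mem_filter, ← Subgroup.orderOf_coe]
        exact ⟨Finset.mem_univ _, hnv⟩
      · show a * ((y : G) * v) * a⁻¹ = z
        rw [hv]; group
  rw [classInner_def, eq_comm, inv_mul_eq_iff_eq_mul₀ hm0, mul_left_comm, Finset.mul_sum,
    Finset.sum_congr rfl fun z _ => h1 z, Finset.sum_comm, Finset.mul_sum]
  refine Finset.sum_congr rfl fun y _ => ?_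
  rw [← Finset.sum_filter, ← Finset.sum_mul]
  by_cases hy : y = 1
  · rw [hy, hα1, map_zero, mul_zero, mul_zero, mul_zero]
  · rw [h2 y hy, ← mul_assoc, inv_mul_cancel_left₀ hcG]

end Cfsg.Lib.Blocks
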