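import Mathlib
import Cfsg.Agent.Blocks.FrobeniusBlock
import Cfsg.Agent.Blocks.Regular

/-!
# Characters of the principal block for a Frobenius normalizer
-/

set_option autoImplicit false
set_option linter.unusedSectionVars false

namespace Cfsg.Lib.Blocks

open Cfsg.Lib.Chars
open scoped ComplexConjugate

universe u

variable {G : Type u} [Group G] [Fintype G] {M : Ideal AlgInt} {p : ℕ} [Fact p.Prime]
  {P : Sylow p G}

/-- The exceptional characters attached to a labelling. -/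
def frobExc (ζ : ((P : Subgroup G) →* ℂˣ) → IrrCharacter G) : Set (IrrCharacter G) :=
  {χ | ∃ ψ, ψ ≠ 1 ∧ ζ ψ = χ}

/-- The other characters of the principal block. -/
def frobOrd (M : Ideal AlgInt) (ζ : ((P : Subgroup G) →* ℂˣ) → IrrCharacter G) :
    Set (IrrCharacter G) :=
  principalBlock M G \ frobExc ζ

/-- The shape of the principal block. -/
structure IsFrobeniusData (M : Ideal AlgInt) (P : Sylow p G)
    (ζ : ((P : Subgroup G) →* ℂˣ) → IrrCharacter G) (a : IrrCharacter G → ℤ) (d δ : ℤ) : Prop where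
  sign : δ = 1 ∨ δ = -1
  mem : ∀ ψ, ψ ≠ 1 → ζ ψ ∈ principalBlock M G
  eq_iff : ∀ ψ φ, ψ ≠ 1 → φ ≠ 1 → (ζ ψ = ζ φ ↔ thetaFun P ψ = thetaFun P φ)
  ne_principal : ∀ ψ, ψ ≠ 1 → ζ ψ ≠ principal G
  a_principal : a (principal G) = 1
  ne_zero : ∀ χ ∈ frobOrd M ζ, a χ ≠ 0
  value_ord : ∀ χ ∈ frobOrd M ζ, ∀ (z : G) (y : (P : Subgroup G)), IsPPart p z (y : G) →
    (y : G) ≠ 1 → (χ : G → ℂ) z = (a χ : ℂ)
  value_exc : ∀ ψ, ψ ≠ 1 → ∀ (z : G) (y : (P : Subgroup G)), IsPPart p z (y : G) →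
    (y : G) ≠ 1 → (ζ ψ : G → ℂ) z = (d : ℂ) + (δ : ℂ) * thetaFun P ψ y
  card_exc : Nat.card (frobExc ζ) * frobIndex P + 1 = Nat.card (P : Subgroup G)
  norm : (d - δ) ^ 2 + ((Nat.card (frobExc ζ) : ℤ) - 1) * d ^ 2 + ∑ᶠ χ ∈ frobOrd M ζ, a χ ^ 2 =
    (frobIndex P : ℤ) + 1
  reg_eq : ∀ ψ φ, ψ ≠ 1 → φ ≠ 1 → ∀ g : G, ¬ p ∣ orderOf g →
    (ζ ψ : G → ℂ) g = (ζ φ : G → ℂ) g
  reg_rel : ∀ ψ, ψ ≠ 1 → ∀ g : G, ¬ p ∣ orderOf g →
    ((Nat.card (frobExc ζ) : ℂ) * (d : ℂ) - (δ : ℂ)) * (ζ ψ : G → ℂ) g +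
      ∑ᶠ χ ∈ frobOrd M ζ, (a χ : ℂ) * (χ : G → ℂ) g = 0

lemma frobExc_union_frobOrd {ζ : ((P : Subgroup G) →* ℂˣ) → IrrCharacter G}
    (h : ∀ ψ, ψ ≠ 1 → ζ ψ ∈ principalBlock M G) :
    principalBlock M G = frobOrd M ζ ∪ frobExc ζ ∧ Disjoint (frobOrd M ζ) (frobExc ζ) := by
  refine ⟨?_, Set.disjoint_sdiff_left⟩
  rw [frobOrd, Set.sdiff_union_self, Set.union_eq_left.2]
  rintro _ ⟨ψ, hψ, rfl⟩
  exact h ψ hψ

open scoped Classical in
lemma classInner_sectionExt_principal (hM : IsPModular p M) (h : FrobeniusNormalizer P)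
    {α : ↥(P : Subgroup G) → ℂ} (hα : SylInvariant P α) (hα1 : α 1 = 0)
    [Fintype (P : Subgroup G)] {χ : IrrCharacter G} (hχ : χ ∈ principalBlock M G) :
    classInner (χ : G → ℂ) (sectionExt P α) =
      ((frobIndex P : ℂ) * (Nat.card (P : Subgroup G) : ℂ))⁻¹ *
        ∑ y : (P : Subgroup G), (χ : G → ℂ) (y : G) * conj (α y) := by
  rw [classInner_sectionExt h (isClassFunction_irr χ) hα hα1
    (S := fun y => (Nat.card (P : Subgroup G) : ℂ)⁻¹ * (χ : G → ℂ) (y : G)) fun y hy => ?_]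
  · rw [mul_inv, mul_assoc, Finset.mul_sum _ _ ((Nat.card (P : Subgroup G) : ℂ)⁻¹)]
    refine congrArg _ (Finset.sum_congr rfl fun y _ => by ring)
  · have hy1 : (y : G) ≠ 1 := fun h1 => hy (Subtype.ext h1)
    rw [Finset.sum_congr rfl fun w hw =>
      apply_mul_of_mem_principal hM h y.2 hy1 hχ (Finset.mem_filter.1 hw).2,
      Finset.sum_const, nsmul_eq_mul, ← card_regular_centralizer h hM.1 y.2 hy1, Nat.cast_mul]
    have hP : (Nat.card (P : Subgroup G) : ℂ) ≠ 0 := Nat.cast_ne_zero.2 Nat.card_pos.ne'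
    field_simp

open scoped Classical in
lemma classInner_sectionExt_other (hM : IsPModular p M) (h : FrobeniusNormalizer P)
    {α : ↥(P : Subgroup G) → ℂ} (hα : SylInvariant P α) (hα1 : α 1 = 0)
    {χ : IrrCharacter G} (hχ : χ ∉ principalBlock M G) :
    classInner (χ : G → ℂ) (sectionExt P α) = 0 := by
  rw [classInner_sectionExt h (isClassFunction_irr χ) hα hα1 (S := fun _ => 0) fun y hy => ?_]
  · simp
  · rw [sum_section_eq_zero hM h y.2 (fun h1 => hy (Subtype.ext h1)) hχ, mul_zero]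

open scoped Classical in
lemma classInner_sectionExt_sectionExt (h : FrobeniusNormalizer P)
    {α β : ↥(P : Subgroup G) → ℂ} (hα : SylInvariant P α) (hβ : SylInvariant P β) (hβ1 : β 1 = 0)
    [Fintype (P : Subgroup G)] :
    classInner (sectionExt P α) (sectionExt P β) =
      ((frobIndex P : ℂ) * (Nat.card (P : Subgroup G) : ℂ))⁻¹ *
        ∑ y : (P : Subgroup G), α y * conj (β y) := by
  rw [classInner_sectionExt h (sectionExt_isClassFunction h hα) hβ hβ1
    (S := fun y => (Nat.card (P : Subgroup G) : ℂ)⁻¹ * α y) fun y hy => ?_]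
  · rw [mul_inv, mul_assoc, Finset.mul_sum _ _ ((Nat.card (P : Subgroup G) : ℂ)⁻¹)]
    refine congrArg _ (Finset.sum_congr rfl fun y _ => by ring)
  · have hy1 : (y : G) ≠ 1 := fun h1 => hy (Subtype.ext h1)
    rw [Finset.sum_congr rfl (g := fun _ => α y) fun w hw => by
        have hw' := (Finset.mem_filter.1 hw).2
        rw [← Subgroup.orderOf_coe] at hw'
        exact sectionExt_eq h hα (isPPart_mul (commute_of_mem_centralizer rfl w.2)
          (orderOf_syl y) hw') (IsConj.refl _),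
      Finset.sum_const, nsmul_eq_mul, ← card_regular_centralizer h (Fact.out : p.Prime) y.2 hy1,
      Nat.cast_mul]
    have hP : (Nat.card (P : Subgroup G) : ℂ) ≠ 0 := Nat.cast_ne_zero.2 Nat.card_pos.ne'
    field_simp

/-- A character of the principal block is not zero on all of `P` off the identity. -/
lemma exists_apply_ne_zero (hM : IsPModular p M) (h : FrobeniusNormalizer P)
    (hP1 : Nat.card (P : Subgroup G) ≠ 1) {χ : IrrCharacter G} (hχ : χ ∈ principalBlock M G) :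
    ∃ y : (P : Subgroup G), (y : G) ≠ 1 ∧ (χ : G → ℂ) (y : G) ≠ 0 := by
  by_contra hcon
  push Not at hcon
  obtain ⟨y, hy⟩ : ∃ y : (P : Subgroup G), y ≠ 1 := by
    by_contra hall
    push Not at hall
    haveI : Subsingleton (P : Subgroup G) := ⟨fun a b => (hall a).trans (hall b).symm⟩
    exact hP1 (Nat.card_unique)
  have hy1 : (y : G) ≠ 1 := fun h1 => hy (Subtype.ext h1)
  have hidx : ¬ p ∣ (Subgroup.centralizer ({(y : G)} : Set G)).index := fun hd => by
    have hle : (P : Subgroup G) ≤ Subgroup.centralizer ({(y : G)} : Set G) := fun z hz =>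
      Subgroup.mem_centralizer_singleton_iff.2 (h.comm z hz y y.2)
    exact P.not_dvd_index (hd.trans ⟨_, (Subgroup.relIndex_mul_index hle).symm.trans (mul_comm _ _)⟩)
  have hs : SameBlock M (fun _ : G => (1 : ℂ)) (χ : G → ℂ) := hχ
  have h1 := hs (y : G)
  rw [show centralChar (fun _ : G => (1 : ℂ)) (y : G) =
      ((Subgroup.centralizer ({(y : G)} : Set G)).index : ℂ) by simp [centralChar],
    show centralChar (χ : G → ℂ) (y : G) = 0 by simp [centralChar, hcon y hy1],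
    sub_zero, memLocalIdeal_iff_small hM (isAlgebraic_nat _)] at h1
  exact hidx ((small_natCast_iff hM _).1 h1)

/-- A complete family of orbit sums. -/
structure OrbitFamily (P : Sylow p G) {ι : Type*} (θ : ι → ↥(P : Subgroup G) → ℂ) : Prop where
  theta : ∀ i, ∃ ψ, ψ ≠ 1 ∧ θ i = thetaFun P ψ
  surj : ∀ ψ, ψ ≠ 1 → ∃ i, θ i = thetaFun P ψ
  inj : Function.Injective θ

/-- Expansion of an invariant function away from the identity. -/
lemma invariant_expand (h : FrobeniusNormalizer P) [Fintype ((P : Subgroup G) →* ℂˣ)]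
    [Fintype (P : Subgroup G)] {ι : Type*} [Fintype ι] (θ : ι → ↥(P : Subgroup G) → ℂ)
    (hF : OrbitFamily P θ) (i₀ : ι) {r : ↥(P : Subgroup G) → ℂ} (hr : SylInvariant P r)
    {y : (P : Subgroup G)} (hy : y ≠ 1) :
    r y = ((frobIndex P : ℂ) * (Nat.card (P : Subgroup G) : ℂ))⁻¹ *
        (∑ w : (P : Subgroup G), r w * conj ((frobIndex P : ℂ) - θ i₀ w)) +
      ∑ i, ((frobIndex P : ℂ) * (Nat.card (P : Subgroup G) : ℂ))⁻¹ *
        (∑ w : (P : Subgroup G), r w * conj (θ i w - θ i₀ w)) * θ i y := by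
  classical
  obtain ⟨hθ, hθs, hθi⟩ := hF
  have hP : (Nat.card (P : Subgroup G) : ℂ) ≠ 0 := Nat.cast_ne_zero.2 Nat.card_pos.ne'
  have hm : (frobIndex P : ℂ) ≠ 0 := Nat.cast_ne_zero.2 (frobIndex_pos P).ne'
  obtain ⟨S1, hS1⟩ : ∃ S : Finset ((P : Subgroup G) →* ℂˣ), S = Finset.univ.erase 1 := ⟨_, rfl⟩
  have hS : ∀ ψ, ψ ∈ S1 ↔ ψ ≠ 1 := fun ψ => by simp [hS1]
  choose ix hix using hθs
  have grp : ∀ F : ι → ℂ, ∀ w : (P : Subgroup G), ∑ i, F i * θ i w =
      ∑ ψ ∈ S1, (if hψ : ψ ≠ 1 then F (ix ψ hψ) else 0) * ((ψ w : ℂˣ) : ℂ) := by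
    intro F w
    choose ψr hψr1 hψr using hθ
    have hd : Set.PairwiseDisjoint (↑(Finset.univ : Finset ι))
        (fun i => Finset.univ.filter (· ∈ sylOrbit P (ψr i))) := by
      intro i _ j _ hij
      refine Finset.disjoint_left.2 fun φ h1 h2 => hij (hθi ?_)
      rw [hψr, hψr, ← thetaFun_eq_of_mem (Finset.mem_filter.1 h1).2,
        thetaFun_eq_of_mem (Finset.mem_filter.1 h2).2]
    have hun : S1 = Finset.univ.biUnion fun i => Finset.univ.filter (· ∈ sylOrbit P (ψr i)) := by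
      ext φ
      rw [hS, Finset.mem_biUnion]
      refine ⟨fun hφ => ⟨ix φ hφ, Finset.mem_univ _, Finset.mem_filter.2 ⟨Finset.mem_univ _,
        mem_sylOrbit_of_thetaFun_eq h (hψr1 _) hφ ?_⟩⟩,
        fun ⟨i, _, hi⟩ => ne_one_of_mem_sylOrbit (hψr1 i) (Finset.mem_filter.1 hi).2⟩
      rw [← hψr, hix]
    rw [hun, Finset.sum_biUnion hd]
    refine Finset.sum_congr rfl fun i _ => ?_
    rw [hψr i, thetaFun_eq_sum h (hψr1 i), Finset.mul_sum]
    refine Finset.sum_congr rfl fun φ hφ => ?_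
    have hφ1 := ne_one_of_mem_sylOrbit (hψr1 i) (Finset.mem_filter.1 hφ).2
    rw [dif_pos hφ1, show ix φ hφ1 = i from hθi (by
      rw [hix, thetaFun_eq_of_mem (Finset.mem_filter.1 hφ).2, hψr])]
  obtain ⟨c, hc⟩ : ∃ c : ((P : Subgroup G) →* ℂˣ) → ℂ,
      ∀ ψ, c ψ = ∑ w : (P : Subgroup G), r w * conj ((ψ w : ℂˣ) : ℂ) := ⟨_, fun _ => rfl⟩
  have hci : ∀ i ψ, θ i = thetaFun P ψ →
      ∑ w : (P : Subgroup G), r w * conj (θ i w) = (frobIndex P : ℂ) * c ψ := by
    intro i ψ e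
    rw [e, hc, sum_invariant_mul_thetaFun h hr]
  have hfour : ∑ ψ : (P : Subgroup G) →* ℂˣ, c ψ * ((ψ y : ℂˣ) : ℂ) =
      (Nat.card (P : Subgroup G) : ℂ) * r y := by
    simp only [hc, Finset.sum_mul]
    rw [Finset.sum_comm, Finset.sum_eq_single y]
    · rw [Finset.sum_congr rfl fun ψ _ => show r y * conj ((ψ y : ℂˣ) : ℂ) * ((ψ y : ℂˣ) : ℂ) = r y by
        rw [← IsCharacter.conj_inv (isCharacter_linear ψ), mul_assoc, ← Units.val_mul, ← map_mul,
          inv_mul_cancel, map_one, Units.val_one, mul_one]]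
      rw [Finset.sum_const, nsmul_eq_mul, Finset.card_univ, ← Nat.card_eq_fintype_card, card_dual h]
    · intro w _ hw
      rw [Finset.sum_congr rfl fun ψ _ => show r w * conj ((ψ w : ℂˣ) : ℂ) * ((ψ y : ℂˣ) : ℂ) =
        r w * ((ψ (w⁻¹ * y) : ℂˣ) : ℂ) by
          rw [← IsCharacter.conj_inv (isCharacter_linear ψ), map_mul, Units.val_mul, mul_assoc],
        ← Finset.mul_sum, sum_dual_apply h, if_neg (fun e => hw (inv_mul_eq_one.1 e)), mul_zero]
    · exact fun h0 => absurd (Finset.mem_univ _) h0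
  obtain ⟨ψ0, hψ0, e0⟩ := hθ i₀
  have hone : ∑ i, θ i y = -1 := by
    have e := grp (fun _ => 1) y
    simp only [one_mul] at e
    rw [e, Finset.sum_congr rfl fun ψ hψ => by rw [dif_pos ((hS ψ).1 hψ), one_mul],
      hS1, Finset.sum_erase_eq_sub (Finset.mem_univ _), sum_dual_apply h, if_neg hy]
    simp
  have hA : ∀ i, ∑ w : (P : Subgroup G), r w * conj (θ i w - θ i₀ w) =
      (∑ w : (P : Subgroup G), r w * conj (θ i w)) - (frobIndex P : ℂ) * c ψ0 := fun i => by
    rw [← hci i₀ ψ0 e0, ← Finset.sum_sub_distrib]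
    exact Finset.sum_congr rfl fun w _ => by rw [map_sub, mul_sub]
  have hB : ∑ w : (P : Subgroup G), r w * conj ((frobIndex P : ℂ) - θ i₀ w) =
      (∑ w : (P : Subgroup G), r w * conj (frobIndex P : ℂ)) - (frobIndex P : ℂ) * c ψ0 := by
    rw [← hci i₀ ψ0 e0, ← Finset.sum_sub_distrib]
    exact Finset.sum_congr rfl fun w _ => by rw [map_sub, mul_sub]
  simp only [hA, hB]
  have hsplit : ∑ i, ((frobIndex P : ℂ) * (Nat.card (P : Subgroup G) : ℂ))⁻¹ *
      ((∑ w : (P : Subgroup G), r w * conj (θ i w)) - (frobIndex P : ℂ) * c ψ0) * θ i y =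
      (Nat.card (P : Subgroup G) : ℂ)⁻¹ * (((Nat.card (P : Subgroup G) : ℂ) * r y - c 1) + c ψ0) := by
    rw [Finset.sum_congr rfl fun i _ => show _ = ((frobIndex P : ℂ) * (Nat.card (P : Subgroup G) : ℂ))⁻¹ *
      (∑ w : (P : Subgroup G), r w * conj (θ i w)) * θ i y -
      (Nat.card (P : Subgroup G) : ℂ)⁻¹ * c ψ0 * θ i y by field_simp,
      Finset.sum_sub_distrib, ← Finset.mul_sum, hone, grp]
    rw [Finset.sum_congr rfl fun ψ hψ => show _ =
        (Nat.card (P : Subgroup G) : ℂ)⁻¹ * (c ψ * ((ψ y : ℂˣ) : ℂ)) by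
          rw [dif_pos ((hS ψ).1 hψ), hci _ ψ (hix ψ ((hS ψ).1 hψ))]; field_simp,
      ← Finset.mul_sum, hS1, Finset.sum_erase_eq_sub (Finset.mem_univ _), hfour]
    simp only [MonoidHom.one_apply, Units.val_one, mul_one]
    ring
  rw [hsplit, Finset.sum_congr rfl fun w _ => show r w * conj (frobIndex P : ℂ) =
    (frobIndex P : ℂ) * (r w * conj (((1 : (P : Subgroup G) →* ℂˣ) w : ℂˣ) : ℂ)) by
      simp [mul_comm], ← Finset.mul_sum, ← hc]
  field_simp
  ring

/-! ### The orbit family -/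

/-- Differences of two orbit sums. -/
noncomputable def orbDiff {ι : Type*} (θ : ι → ↥(P : Subgroup G) → ℂ) (i₀ i : ι) :
    ↥(P : Subgroup G) → ℂ := fun y => θ i y - θ i₀ y

/-- The linear characters of the complement against a base orbit sum. -/
noncomputable def orbBase {ι : Type*} (θ : ι → ↥(P : Subgroup G) → ℂ) (i₀ : ι) :
    ↥(P : Subgroup G) → ℂ := fun y => (frobIndex P : ℂ) - θ i₀ y

section Family

variable {ι : Type*} {θ : ι → ↥(P : Subgroup G) → ℂ} {i₀ : ι}

lemma OrbitFamily.invariant (hF : OrbitFamily P θ) (i : ι) : SylInvariant P (θ i) := by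
  obtain ⟨ψ, -, e⟩ := hF.theta i
  rw [e]; exact thetaFun_invariant ψ

lemma OrbitFamily.apply_one (hF : OrbitFamily P θ) (i : ι) : θ i 1 = (frobIndex P : ℂ) := by
  obtain ⟨ψ, -, e⟩ := hF.theta i
  rw [e, thetaFun_one]

lemma OrbitFamily.diff_invariant (hF : OrbitFamily P θ) (i₀ i : ι) :
    SylInvariant P (orbDiff θ i₀ i) := fun n y => by
  simp only [orbDiff, hF.invariant i n y, hF.invariant i₀ n y]

lemma OrbitFamily.diff_one (hF : OrbitFamily P θ) (i₀ i : ι) : orbDiff θ i₀ i 1 = 0 := by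
  simp only [orbDiff, hF.apply_one, sub_self]

lemma OrbitFamily.base_invariant (hF : OrbitFamily P θ) (i₀ : ι) :
    SylInvariant P (orbBase θ i₀) := fun n y => by
  simp only [orbBase, hF.invariant i₀ n y]

lemma OrbitFamily.base_one (hF : OrbitFamily P θ) (i₀ : ι) : orbBase θ i₀ 1 = 0 := by
  simp only [orbBase, hF.apply_one, sub_self]

variable (h : FrobeniusNormalizer P) (hF : OrbitFamily P θ)
include h hF

lemma OrbitFamily.generalized (i : ι) : IsGeneralizedCharacter (P : Subgroup G) (θ i) := by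
  obtain ⟨ψ, hψ, e⟩ := hF.theta i
  haveI := finite_dual h
  rw [e]; exact thetaFun_generalized h hψ

lemma OrbitFamily.base_generalized (i₀ : ι) :
    IsGeneralizedCharacter G (sectionExt P (orbBase θ i₀)) := by
  refine sectionExt_generalized h (hF.base_invariant i₀)
    (IsGeneralizedCharacter.sub ?_ (hF.generalized h i₀))
  have e := isGeneralized_nsmul (isGeneralized_one_syl (P := P)) (frobIndex P)
  simpa [Pi.smul_def] using e

lemma OrbitFamily.sum_zero [Fintype (P : Subgroup G)] (i : ι) :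
    ∑ y : (P : Subgroup G), θ i y = 0 := by
  obtain ⟨ψ, hψ, e⟩ := hF.theta i
  rw [e]; exact sum_thetaFun h hψ

lemma OrbitFamily.inner [Fintype (P : Subgroup G)] [DecidableEq ι] (i j : ι) :
    ∑ y : (P : Subgroup G), θ i y * conj (θ j y) =
      if i = j then (frobIndex P : ℂ) * (Nat.card (P : Subgroup G) : ℂ) else 0 := by
  classical
  obtain ⟨ψ, hψ, e⟩ := hF.theta i
  obtain ⟨φ, hφ, e'⟩ := hF.theta j
  rw [e, e', sum_thetaFun_mul_conj h hψ hφ]
  refine if_congr ?_ rfl rfl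
  rw [← e, ← e', hF.inj.eq_iff]

lemma OrbitFamily.card [Fintype ι] :
    Fintype.card ι * frobIndex P + 1 = Nat.card (P : Subgroup G) := by
  classical
  haveI := finite_dual h
  haveI := Fintype.ofFinite ((P : Subgroup G) →* ℂˣ)
  choose ψr hψr1 hψr using hF.theta
  have h1 : (Finset.univ.erase (1 : (P : Subgroup G) →* ℂˣ)) =
      Finset.univ.biUnion fun i : ι => Finset.univ.filter (· ∈ sylOrbit P (ψr i)) := by
    ext φ
    rw [Finset.mem_erase, Finset.mem_biUnion]
    refine ⟨fun hφ => ?_,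
      fun ⟨i, _, hi⟩ => ⟨ne_one_of_mem_sylOrbit (hψr1 i) (Finset.mem_filter.1 hi).2, Finset.mem_univ _⟩⟩
    obtain ⟨i, hi⟩ := hF.surj φ hφ.1
    exact ⟨i, Finset.mem_univ _, Finset.mem_filter.2 ⟨Finset.mem_univ _,
      mem_sylOrbit_of_thetaFun_eq h (hψr1 i) hφ.1 (hi.symm.trans (hψr i))⟩⟩
  have hd : Set.PairwiseDisjoint (↑(Finset.univ : Finset ι))
      (fun i => Finset.univ.filter (· ∈ sylOrbit P (ψr i))) := by
    intro i _ j _ hij
    refine Finset.disjoint_left.2 fun φ h1 h2 => hij (hF.inj ?_)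
    rw [hψr, hψr, ← thetaFun_eq_of_mem (Finset.mem_filter.1 h1).2,
      thetaFun_eq_of_mem (Finset.mem_filter.1 h2).2]
  have h2 := congrArg Finset.card h1
  rw [Finset.card_biUnion hd, Finset.sum_congr rfl fun i _ => card_sylOrbit h (hψr1 i),
    Finset.sum_const, smul_eq_mul, Finset.card_univ, Finset.card_erase_of_mem (Finset.mem_univ _),
    Finset.card_univ, ← Nat.card_eq_fintype_card, card_dual h] at h2
  have := Nat.card_pos (α := (P : Subgroup G))
  omega

lemma OrbitFamily.sum_apply [Fintype ι] [Fintype (P : Subgroup G)] {y : (P : Subgroup G)}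
    (hy : y ≠ 1) (i₀ : ι) : ∑ i, θ i y = -1 := by
  classical
  haveI := finite_dual h
  haveI := Fintype.ofFinite ((P : Subgroup G) →* ℂˣ)
  have hmP : (frobIndex P : ℂ) * (Nat.card (P : Subgroup G) : ℂ) ≠ 0 :=
    mul_ne_zero (Nat.cast_ne_zero.2 (frobIndex_pos P).ne') (Nat.cast_ne_zero.2 Nat.card_pos.ne')
  have e := invariant_expand h θ hF i₀ (hF.invariant i₀) hy
  simp only [map_sub, mul_sub, Complex.conj_natCast, Finset.sum_sub_distrib, ← Finset.sum_mul,
    hF.sum_zero h, hF.inner h, if_pos, zero_mul, zero_sub] at e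
  rw [Finset.sum_congr rfl fun i _ => show
    (((frobIndex P : ℂ) * (Nat.card (P : Subgroup G) : ℂ))⁻¹ *
      (if i₀ = i then (frobIndex P : ℂ) * (Nat.card (P : Subgroup G) : ℂ) else 0) -
      ((frobIndex P : ℂ) * (Nat.card (P : Subgroup G) : ℂ))⁻¹ *
      ((frobIndex P : ℂ) * (Nat.card (P : Subgroup G) : ℂ))) * θ i y =
    (if i₀ = i then θ i y else 0) - θ i y by
      rw [inv_mul_cancel₀ hmP]
      split_ifs
      · rw [inv_mul_cancel₀ hmP]; ring
      · ring,
    Finset.sum_sub_distrib, Finset.sum_ite_eq, if_pos (Finset.mem_univ _), mul_neg,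
    inv_mul_cancel₀ hmP] at e
  linear_combination e

/-- Coherence of the differences of orbit sums. -/
lemma OrbitFamily.exists_coherent [Fintype ι] [DecidableEq ι] (i₀ : ι) :
    ∃ δ : ℤ, (δ = 1 ∨ δ = -1) ∧ ∃ ν : ι → IrrCharacter G, Function.Injective ν ∧
      ∀ i, sectionExt P (orbDiff θ i₀ i) = (δ : ℂ) • ((ν i : G → ℂ) - (ν i₀ : G → ℂ)) := by
  classical
  have hp : p.Prime := Fact.out
  have hmP : (frobIndex P : ℂ) * (Nat.card (P : Subgroup G) : ℂ) ≠ 0 :=
    mul_ne_zero (Nat.cast_ne_zero.2 (frobIndex_pos P).ne') (Nat.cast_ne_zero.2 Nat.card_pos.ne')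
  have hgram : ∀ i j : ι, i ≠ i₀ → j ≠ i₀ →
      classInner (sectionExt P (orbDiff θ i₀ i)) (sectionExt P (orbDiff θ i₀ j)) =
      (if i = j then (1 : ℂ) else 0) + 1 := by
    intro i j hi hj
    rw [classInner_sectionExt_sectionExt h (hF.diff_invariant i₀ i) (hF.diff_invariant i₀ j)
      (hF.diff_one i₀ j), inv_mul_eq_iff_eq_mul₀ hmP,
      Finset.sum_congr rfl fun y _ => show orbDiff θ i₀ i y * conj (orbDiff θ i₀ j y) =
        θ i y * conj (θ j y) -
        θ i y * conj (θ i₀ y) - θ i₀ y * conj (θ j y) + θ i₀ y * conj (θ i₀ y) by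
          simp only [orbDiff, map_sub]; ring]
    simp only [Finset.sum_add_distrib, Finset.sum_sub_distrib, hF.inner h, if_pos, if_neg hi,
      if_neg (Ne.symm hj)]
    split_ifs <;> ring
  obtain ⟨ε, hε, μ, hμirr, hμinj, hμ⟩ := exists_star i₀ (fun i => sectionExt P (orbDiff θ i₀ i))
    (by funext z; simp [sectionExt, orbDiff])
    (fun i => sectionExt_generalized h (hF.diff_invariant i₀ i)
      (IsGeneralizedCharacter.sub (hF.generalized h i) (hF.generalized h i₀)))
    (fun i => by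
      rw [sectionExt_regular h (hF.diff_invariant i₀ i) (by rw [orderOf_one]; exact hp.not_dvd_one),
        hF.diff_one])
    (fun i j hi hj => ⟨fun e => by rw [hgram i j hi hj, if_pos e]; norm_num,
      fun e => by rw [hgram i j hi hj, if_neg e]; norm_num⟩)
  refine ⟨if ε = 1 then 1 else -1, ?_, fun i => ⟨μ i, hμirr i⟩,
    fun i j e => hμinj (congrArg Subtype.val e), fun i => ?_⟩
  · split_ifs <;> simp
  · refine (hμ i).trans ?_
    rcases hε with rfl | rfl <;> norm_num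

lemma OrbitFamily.classInner_base [Fintype ι] [DecidableEq ι] (i₀ : ι)
    [Fintype (P : Subgroup G)] {i : ι} (hi : i ≠ i₀) :
    classInner (sectionExt P (orbDiff θ i₀ i)) (sectionExt P (orbBase θ i₀)) = 1 := by
  have hmP : (frobIndex P : ℂ) * (Nat.card (P : Subgroup G) : ℂ) ≠ 0 :=
    mul_ne_zero (Nat.cast_ne_zero.2 (frobIndex_pos P).ne') (Nat.cast_ne_zero.2 Nat.card_pos.ne')
  rw [classInner_sectionExt_sectionExt h (hF.diff_invariant i₀ i) (hF.base_invariant i₀)
    (hF.base_one i₀), inv_mul_eq_iff_eq_mul₀ hmP, mul_one,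
    Finset.sum_congr rfl fun y _ => show orbDiff θ i₀ i y * conj (orbBase θ i₀ y) =
      (frobIndex P : ℂ) * θ i y -
      (frobIndex P : ℂ) * θ i₀ y - θ i y * conj (θ i₀ y) + θ i₀ y * conj (θ i₀ y) by
        simp only [orbDiff, orbBase, map_sub, Complex.conj_natCast]; ring]
  simp only [Finset.sum_add_distrib, Finset.sum_sub_distrib, ← Finset.mul_sum, hF.sum_zero h,
    hF.inner h, if_neg hi, if_pos]
  ring

lemma OrbitFamily.classInner_base_self [Fintype ι] [DecidableEq ι] (i₀ : ι)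
    [Fintype (P : Subgroup G)] :
    classInner (sectionExt P (orbBase θ i₀)) (sectionExt P (orbBase θ i₀)) =
      (frobIndex P : ℂ) + 1 := by
  have hmP : (frobIndex P : ℂ) * (Nat.card (P : Subgroup G) : ℂ) ≠ 0 :=
    mul_ne_zero (Nat.cast_ne_zero.2 (frobIndex_pos P).ne') (Nat.cast_ne_zero.2 Nat.card_pos.ne')
  rw [classInner_sectionExt_sectionExt h (hF.base_invariant i₀) (hF.base_invariant i₀)
    (hF.base_one i₀), inv_mul_eq_iff_eq_mul₀ hmP,
    Finset.sum_congr rfl fun y _ => show orbBase θ i₀ y * conj (orbBase θ i₀ y) =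
      (frobIndex P : ℂ) * (frobIndex P : ℂ) -
      (frobIndex P : ℂ) * conj (θ i₀ y) - (frobIndex P : ℂ) * θ i₀ y + θ i₀ y * conj (θ i₀ y) by
        simp only [orbBase, map_sub, Complex.conj_natCast]; ring]
  simp only [Finset.sum_add_distrib, Finset.sum_sub_distrib, ← Finset.mul_sum, ← map_sum,
    hF.sum_zero h, hF.inner h, if_pos, Finset.sum_const, Finset.card_univ, nsmul_eq_mul,
    ← Nat.card_eq_fintype_card, map_zero, mul_zero]
  ring

/-- Values on the sections through the inner products. -/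
lemma OrbitFamily.apply_section (hM : IsPModular p M) [Fintype ι] (i₀ : ι) {χ : IrrCharacter G}
    (hχ : χ ∈ principalBlock M G) {z : G} {y : (P : Subgroup G)} (hz : IsPPart p z (y : G))
    (hy : (y : G) ≠ 1) :
    (χ : G → ℂ) z = classInner (χ : G → ℂ) (sectionExt P (orbBase θ i₀)) +
      ∑ i, classInner (χ : G → ℂ) (sectionExt P (orbDiff θ i₀ i)) * θ i y := by
  classical
  haveI := finite_dual h
  haveI := Fintype.ofFinite ((P : Subgroup G) →* ℂˣ)
  obtain ⟨v, hv, hc, -, hnv⟩ := hz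
  have hvH : v ∈ Subgroup.centralizer (Subgroup.zpowers (y : G) : Set G) := by
    rw [centralizer_zpowers, Subgroup.mem_centralizer_singleton_iff]; exact hc.symm.eq
  rw [← hv, show (y : G) * v = (y : G) * ((⟨v, hvH⟩ : Subgroup.centralizer _) : G) from rfl,
    apply_mul_of_mem_principal hM h y.2 hy hχ (by rw [← Subgroup.orderOf_coe]; exact hnv),
    invariant_expand h θ hF i₀ (r := fun w : (P : Subgroup G) => (χ : G → ℂ) (w : G))
      (fun n w => isClassFunction_irr χ (w : G) (n : G)) (fun e => hy (congrArg Subtype.val e)),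
    classInner_sectionExt_principal hM h (hF.base_invariant i₀) (hF.base_one i₀) hχ]
  congr 1
  refine Finset.sum_congr rfl fun i _ => ?_
  rw [classInner_sectionExt_principal hM h (hF.diff_invariant i₀ i) (hF.diff_one i₀ i) hχ]
  rfl

end Family

section Assemble

variable {ι : Type*} [Fintype ι] [DecidableEq ι] {θ : ι → ↥(P : Subgroup G) → ℂ} {i₀ : ι}
  {δ : ℤ} {ν : ι → IrrCharacter G} {b : IrrCharacter G → ℤ}

lemma classInner_diff_eq [DecidableEq (IrrCharacter G)]
    (hν : ∀ i, sectionExt P (orbDiff θ i₀ i) = (δ : ℂ) • ((ν i : G → ℂ) - (ν i₀ : G → ℂ)))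
    (χ : IrrCharacter G) (i : ι) :
    classInner (χ : G → ℂ) (sectionExt P (orbDiff θ i₀ i)) =
      (δ : ℂ) * ((if χ = ν i then 1 else 0) - if χ = ν i₀ then 1 else 0) := by
  rw [hν, classInner_smul_right, map_intCast, classInner_sub_right, classInner_irrCharacter,
    classInner_irrCharacter]

variable (hM : IsPModular p M) (h : FrobeniusNormalizer P) (hF : OrbitFamily P θ)
  (hδ : δ = 1 ∨ δ = -1) (hinj : Function.Injective ν)
  (hν : ∀ i, sectionExt P (orbDiff θ i₀ i) = (δ : ℂ) • ((ν i : G → ℂ) - (ν i₀ : G → ℂ)))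

include hδ in
lemma delta_ne_zero : (δ : ℂ) ≠ 0 := by rcases hδ with rfl | rfl <;> norm_num

include hM h hF hδ hinj hν

lemma exc_mem (ht : 2 ≤ Fintype.card ι) (i : ι) : ν i ∈ principalBlock M G := by
  classical
  by_contra hn
  obtain ⟨j, hj⟩ := Fintype.exists_ne_of_one_lt_card ht i
  by_cases hi : i = i₀
  · have e := classInner_sectionExt_other hM h (hF.diff_invariant i₀ j) (hF.diff_one i₀ j) hn
    rw [classInner_diff_eq hν, if_neg (fun e' => hj (hinj e').symm), if_pos (by rw [hi]), zero_sub] at e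
    simp [delta_ne_zero hδ] at e
  · have e := classInner_sectionExt_other hM h (hF.diff_invariant i₀ i) (hF.diff_one i₀ i) hn
    rw [classInner_diff_eq hν, if_pos rfl, if_neg (fun e' => hi (hinj e')), sub_zero] at e
    simp [delta_ne_zero hδ] at e

lemma exc_ne_principal (ht : 2 ≤ Fintype.card ι) (i : ι) : ν i ≠ principal G := by
  classical
  intro e
  obtain ⟨j, hj, hj'⟩ : ∃ j, j ≠ i₀ ∧ (i ≠ i₀ → j = i) := by
    by_cases hi : i = i₀
    · obtain ⟨j, hj⟩ := Fintype.exists_ne_of_one_lt_card ht i₀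
      exact ⟨j, hj, fun h' => absurd hi h'⟩
    · exact ⟨i, hi, fun _ => rfl⟩
  have hp1 : (principal G : IrrCharacter G) ∈ principalBlock M G := mem_blockOf_self hM (principal G)
  have e1 := classInner_sectionExt_principal hM h (hF.diff_invariant i₀ j) (hF.diff_one i₀ j) hp1
  rw [classInner_diff_eq hν, show ∑ y : (P : Subgroup G), ((principal G : IrrCharacter G) : G → ℂ) (y : G) *
      conj (orbDiff θ i₀ j y) = 0 by
    simp only [orbDiff, map_sub,
      show ∀ g : G, ((principal G : IrrCharacter G) : G → ℂ) g = 1 from fun _ => rfl, one_mul,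
      Finset.sum_sub_distrib]
    rw [← map_sum, ← map_sum, hF.sum_zero h, hF.sum_zero h, sub_self], mul_zero, ← e] at e1
  by_cases hi : i = i₀
  · rw [if_neg (fun e' => hj ((hinj e').symm.trans hi)), if_pos (by rw [hi])] at e1
    simp [delta_ne_zero hδ] at e1
  · rw [if_pos (by rw [hj' hi]), if_neg (fun e' => hi (hinj e'))] at e1
    simp [delta_ne_zero hδ] at e1

variable (hb : ∀ χ : IrrCharacter G,
  classInner (χ : G → ℂ) (sectionExt P (orbBase θ i₀)) = (b χ : ℂ))
include hb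

lemma base_coeff_exc (i : ι) :
    b (ν i) = b (ν i₀) + δ - if i = i₀ then δ else 0 := by
  classical
  split_ifs with hi
  · rw [hi]; ring
  · have e := hF.classInner_base h i₀ hi
    rw [hν, classInner_smul_left, classInner_sub_left, hb, hb] at e
    have e' : δ * (b (ν i) - b (ν i₀)) = 1 := by exact_mod_cast e
    rcases hδ with rfl | rfl <;> omega

lemma base_coeff_principal : b (principal G) = 1 := by
  classical
  have hmP : (frobIndex P : ℂ) * (Nat.card (P : Subgroup G) : ℂ) ≠ 0 :=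
    mul_ne_zero (Nat.cast_ne_zero.2 (frobIndex_pos P).ne') (Nat.cast_ne_zero.2 Nat.card_pos.ne')
  have hp1 : (principal G : IrrCharacter G) ∈ principalBlock M G := mem_blockOf_self hM (principal G)
  have e := classInner_sectionExt_principal hM h (hF.base_invariant i₀) (hF.base_one i₀) hp1
  rw [hb, show ∑ y : (P : Subgroup G), ((principal G : IrrCharacter G) : G → ℂ) (y : G) *
      conj (orbBase θ i₀ y) = (frobIndex P : ℂ) * (Nat.card (P : Subgroup G) : ℂ) by
    simp only [orbBase, map_sub, Complex.conj_natCast,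
      show ∀ g : G, ((principal G : IrrCharacter G) : G → ℂ) g = 1 from fun _ => rfl, one_mul,
      Finset.sum_sub_distrib, Finset.sum_const, nsmul_eq_mul, Finset.card_univ]
    rw [← map_sum, hF.sum_zero h, map_zero, sub_zero, ← Nat.card_eq_fintype_card, mul_comm],
    inv_mul_cancel₀ hmP] at e
  exact_mod_cast e

lemma value_of_exc (ht : 2 ≤ Fintype.card ι) (k : ι) {z : G} {y : (P : Subgroup G)}
    (hz : IsPPart p z (y : G)) (hy : (y : G) ≠ 1) :
    (ν k : G → ℂ) z = ((b (ν i₀) + δ : ℤ) : ℂ) + (δ : ℂ) * θ k y := by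
  classical
  rw [hF.apply_section h hM i₀ (exc_mem hM h hF hδ hinj hν ht k) hz hy, hb,
    base_coeff_exc hM h hF hδ hinj hν hb k,
    Finset.sum_congr rfl fun i _ => by rw [classInner_diff_eq hν]]
  simp only [hinj.eq_iff, mul_sub, mul_ite, mul_one, mul_zero, sub_mul, ite_mul, zero_mul,
    Finset.sum_sub_distrib, Finset.sum_ite_eq, Finset.mem_univ, if_true]
  push_cast
  split_ifs with hk
  · rw [hk, ← Finset.mul_sum, hF.sum_apply h (fun e => hy (congrArg Subtype.val e)) i₀]; ring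
  · simp

lemma value_of_ordinary {χ : IrrCharacter G} (hχ : χ ∈ principalBlock M G) (hn : ∀ i, χ ≠ ν i)
    {z : G} {y : (P : Subgroup G)} (hz : IsPPart p z (y : G)) (hy : (y : G) ≠ 1) :
    (χ : G → ℂ) z = (b χ : ℂ) := by
  classical
  rw [hF.apply_section h hM i₀ hχ hz hy, hb,
    Finset.sum_congr rfl fun i _ => by rw [classInner_diff_eq hν]]
  simp [hn]

lemma base_expand {g : G} :
    sectionExt P (orbBase θ i₀) g = ∑ χ : IrrCharacter G, (b χ : ℂ) * (χ : G → ℂ) g := by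
  rw [classFunction_expand_apply (sectionExt_isClassFunction h (hF.base_invariant i₀)) g]
  exact Finset.sum_congr rfl fun χ _ => by rw [← classInner_conj_symm, hb, map_intCast]

lemma base_coeff_outside {χ : IrrCharacter G} (hχ : χ ∉ principalBlock M G) : b χ = 0 := by
  classical
  have e := classInner_sectionExt_other hM h (hF.base_invariant i₀) (hF.base_one i₀) hχ
  rw [hb] at e; exact_mod_cast e

lemma base_norm : ∑ χ : IrrCharacter G, b χ * b χ = (frobIndex P : ℤ) + 1 := by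
  classical
  have e := hF.classInner_base_self h i₀
  rw [show sectionExt P (orbBase θ i₀) = ∑ χ : IrrCharacter G, (b χ : ℂ) • (χ : G → ℂ) from
      funext fun g => by rw [base_expand hM h hF hδ hinj hν hb, Finset.sum_apply]; rfl,
    classInner_self_decomp] at e
  simp only [map_intCast] at e
  exact_mod_cast e

omit hb in
lemma exc_regular {g : G} (hg : ¬ p ∣ orderOf g) (i : ι) :
    (ν i : G → ℂ) g = (ν i₀ : G → ℂ) g := by
  have e := congrFun (hν i) g
  rw [sectionExt_regular h (hF.diff_invariant i₀ i) hg, hF.diff_one, Pi.smul_apply, smul_eq_mul,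
    eq_comm, mul_eq_zero, Pi.sub_apply, sub_eq_zero] at e
  exact e.resolve_left (delta_ne_zero hδ)

end Assemble

lemma sum_split_blocks {R : Type*} [AddCommMonoid R] {ι : Type*} [Fintype ι]
    {ν : ι → IrrCharacter G} (hinj : Function.Injective ν)
    {ζ : ((P : Subgroup G) →* ℂˣ) → IrrCharacter G} (hexc : frobExc ζ = Set.range ν)
    (F : IrrCharacter G → R) (hz : ∀ χ, χ ∉ principalBlock M G → F χ = 0) :
    ∑ χ : IrrCharacter G, F χ = (∑ᶠ χ ∈ frobOrd M ζ, F χ) + ∑ i, F (ν i) := by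
  classical
  rw [← Finset.sum_sdiff (Finset.subset_univ (Finset.univ.image ν)),
    Finset.sum_image hinj.injOn, finsum_mem_eq_finite_toFinset_sum _ (Set.toFinite _)]
  congr 1
  refine (Finset.sum_subset (fun χ hχ => Finset.mem_sdiff.2 ⟨Finset.mem_univ _, fun hi => ?_⟩)
    fun χ hχ hn' => ?_).symm
  · obtain ⟨i, -, rfl⟩ := Finset.mem_image.1 hi
    exact ((Set.Finite.mem_toFinset _).1 hχ).2 (hexc ▸ ⟨i, rfl⟩)
  · refine hz χ fun hB => hn' ((Set.Finite.mem_toFinset _).2 ⟨hB, fun he => ?_⟩)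
    rw [hexc] at he
    obtain ⟨i, rfl⟩ := he
    exact (Finset.mem_sdiff.1 hχ).2 (Finset.mem_image_of_mem _ (Finset.mem_univ i))

/-- **The principal block for an abelian Sylow subgroup with a Frobenius normalizer.** -/
theorem exists_frobeniusData (hM : IsPModular p M) (h : FrobeniusNormalizer P)
    (hlt : frobIndex P + 1 < Nat.card (P : Subgroup G)) :
    ∃ ζ a d δ, IsFrobeniusData M P ζ a d δ := by
  classical
  haveI := finite_dual h
  let ι := {f : ↥(P : Subgroup G) → ℂ // ∃ ψ, ψ ≠ 1 ∧ f = thetaFun P ψ}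
  haveI : Finite ι := Finite.of_surjective
    (fun ψ : {ψ : (P : Subgroup G) →* ℂˣ // ψ ≠ 1} => (⟨thetaFun P ψ.1, ψ.1, ψ.2, rfl⟩ : ι))
    fun ⟨f, ψ, hψ, hf⟩ => ⟨⟨ψ, hψ⟩, Subtype.ext hf.symm⟩
  haveI := Fintype.ofFinite ι
  let θ : ι → ↥(P : Subgroup G) → ℂ := fun i => i.1
  have hF : OrbitFamily P θ :=
    ⟨fun i => i.2, fun ψ hψ => ⟨⟨_, ψ, hψ, rfl⟩, rfl⟩, Subtype.val_injective⟩
  have hcard := hF.card h
  have ht : 2 ≤ Fintype.card ι := by
    by_contra hcon
    have : Fintype.card ι * frobIndex P ≤ 1 * frobIndex P := Nat.mul_le_mul_right _ (by omega)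
    omega
  obtain ⟨i₀⟩ : Nonempty ι := Fintype.card_pos_iff.1 (by omega)
  obtain ⟨δ, hδ, ν, hinj, hν⟩ := hF.exists_coherent h i₀
  choose b hb' using fun χ : IrrCharacter G =>
    classInner_generalized_int (hF.base_generalized h i₀) (isCharacter_of_irr χ.2)
  have hb : ∀ χ : IrrCharacter G,
      classInner (χ : G → ℂ) (sectionExt P (orbBase θ i₀)) = (b χ : ℂ) := fun χ => by
    rw [← classInner_conj_symm, hb', map_intCast]
  let ζ : ((P : Subgroup G) →* ℂˣ) → IrrCharacter G := fun ψ =>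
    if hψ : ψ ≠ 1 then ν ⟨thetaFun P ψ, ψ, hψ, rfl⟩ else principal G
  have hζ : ∀ ψ (hψ : ψ ≠ 1), ζ ψ = ν ⟨thetaFun P ψ, ψ, hψ, rfl⟩ := fun ψ hψ => dif_pos hψ
  have hexc : frobExc ζ = Set.range ν := by
    ext χ
    constructor
    · rintro ⟨ψ, hψ, rfl⟩; exact ⟨_, (hζ ψ hψ).symm⟩
    · rintro ⟨⟨f, ψ, hψ, rfl⟩, rfl⟩
      exact ⟨ψ, hψ, hζ ψ hψ⟩
  have hYcard : Nat.card (frobExc ζ) = Fintype.card ι := by
    rw [hexc, Nat.card_congr (Equiv.ofInjective ν hinj).symm, Nat.card_eq_fintype_card]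
  have hord : ∀ χ ∈ frobOrd M ζ, ∀ i, χ ≠ ν i := fun χ hχ i e => hχ.2 (hexc ▸ ⟨i, e.symm⟩)
  have hbe := base_coeff_exc hM h hF hδ hinj hν hb
  refine ⟨ζ, b, b (ν i₀) + δ, δ, hδ,
    fun ψ hψ => by rw [hζ ψ hψ]; exact exc_mem hM h hF hδ hinj hν ht _,
    fun ψ φ hψ hφ => ?_,
    fun ψ hψ => by rw [hζ ψ hψ]; exact exc_ne_principal hM h hF hδ hinj hν ht _,
    base_coeff_principal hM h hF hδ hinj hν hb, fun χ hχ h0 => ?_,
    fun χ hχ z y hz hy => value_of_ordinary hM h hF hδ hinj hν hb hχ.1 (hord χ hχ) hz hy,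
    fun ψ hψ z y hz hy => by
      rw [hζ ψ hψ, value_of_exc hM h hF hδ hinj hν hb ht _ hz hy],
    by rw [hYcard]; exact hcard, ?_,
    fun ψ φ hψ hφ g hg => ?_, fun ψ hψ g hg => ?_⟩
  · rw [hζ ψ hψ, hζ φ hφ, hinj.eq_iff, Subtype.ext_iff]
  · obtain ⟨y, hy1, hy⟩ := exists_apply_ne_zero hM h (by omega) hχ.1
    exact hy (by rw [value_of_ordinary hM h hF hδ hinj hν hb hχ.1 (hord χ hχ)
      (isPPart_self hM.1 (orderOf_syl y)) hy1, h0, Int.cast_zero])
  · rw [← base_norm hM h hF hδ hinj hν hb, sum_split_blocks (M := M) hinj hexc (fun χ => b χ * b χ)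
      (fun χ hχ => by simp [base_coeff_outside hM h hF hδ hinj hν hb hχ]),
      ← Finset.add_sum_erase _ _ (Finset.mem_univ i₀), hYcard,
      Finset.sum_congr rfl fun i hi => show b (ν i) * b (ν i) = (b (ν i₀) + δ) * (b (ν i₀) + δ) by
        rw [hbe i, if_neg (Finset.ne_of_mem_erase hi), sub_zero],
      Finset.sum_const, Finset.card_erase_of_mem (Finset.mem_univ _), Finset.card_univ, nsmul_eq_mul,
      Nat.cast_sub (by omega : 1 ≤ Fintype.card ι), Nat.cast_one,
      finsum_mem_congr rfl fun χ _ => sq (b χ)]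
    ring
  · rw [hζ ψ hψ, hζ φ hφ, exc_regular hM h hF hδ hinj hν hg,
      exc_regular hM h hF hδ hinj hν hg ⟨thetaFun P φ, φ, hφ, rfl⟩]
  · have e0 := base_expand hM h hF hδ hinj hν hb (g := g)
    rw [sectionExt_regular h (hF.base_invariant i₀) hg, hF.base_one,
      sum_split_blocks (M := M) hinj hexc (fun χ : IrrCharacter G => (b χ : ℂ) * (χ : G → ℂ) g)
        (fun χ hχ => by simp [base_coeff_outside hM h hF hδ hinj hν hb hχ]),
      Finset.sum_congr rfl fun i (_ : i ∈ Finset.univ) => by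
        rw [exc_regular hM h hF hδ hinj hν hg i, hbe i],
      ← Finset.sum_mul] at e0
    simp only [Int.cast_sub, Int.cast_add, Int.cast_ite, Int.cast_zero, Finset.sum_sub_distrib,
      Finset.sum_const, Finset.sum_ite_eq', Finset.mem_univ, if_true, Finset.card_univ,
      nsmul_eq_mul] at e0
    rw [Finset.sum_eq_single i₀ (fun x _ hx => if_neg hx)
      (fun hx => absurd (Finset.mem_univ _) hx), if_pos rfl] at e0
    rw [hζ ψ hψ, exc_regular hM h hF hδ hinj hν hg, hYcard]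
    push_cast
    linear_combination -e0

/-! ### Consequences -/

lemma FrobeniusNormalizer.of_centralizer_inf {P : Sylow p G} (hab : IsMulCommutative P)
    (hfrob : ∀ y : G, y ∈ (P : Subgroup G) → y ≠ 1 →
      Subgroup.centralizer ({y} : Set G) ⊓ Subgroup.normalizer ((P : Subgroup G) : Set G) =
        Subgroup.centralizer ((P : Subgroup G) : Set G)) : FrobeniusNormalizer P :=
  ⟨fun a ha b hb => congrArg Subtype.val (hab.is_comm.comm (⟨a, ha⟩ : (P : Subgroup G)) ⟨b, hb⟩),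
    fun y hy hy1 => (hfrob y hy hy1).le⟩

lemma thetaFun_eq_finsum (h : FrobeniusNormalizer P) {ψ : (P : Subgroup G) →* ℂˣ} (hψ : ψ ≠ 1)
    (y : (P : Subgroup G)) :
    thetaFun P ψ y = ∑ᶠ φ ∈ sylOrbit P ψ, ((φ y : ℂˣ) : ℂ) := by
  classical
  haveI := finite_dual h
  haveI := Fintype.ofFinite ((P : Subgroup G) →* ℂˣ)
  rw [thetaFun_eq_sum h hψ, finsum_mem_eq_finite_toFinset_sum _ (Set.toFinite _)]
  exact Finset.sum_congr (by ext; simp) fun _ _ => rfl

namespace IsFrobeniusData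

variable {ζ : ((P : Subgroup G) →* ℂˣ) → IrrCharacter G} {a : IrrCharacter G → ℤ} {d δ : ℤ}

lemma sum_sq_ge (hD : IsFrobeniusData M P ζ a d δ) :
    (Nat.card (frobOrd M ζ) : ℤ) ≤ ∑ᶠ χ ∈ frobOrd M ζ, a χ ^ 2 := by
  classical
  rw [finsum_mem_eq_finite_toFinset_sum _ (Set.toFinite _),
    show Nat.card (frobOrd M ζ) = (Set.toFinite (frobOrd M ζ)).toFinset.card from
      Set.ncard_eq_toFinset_card _ _, Finset.card_eq_sum_ones, Nat.cast_sum]
  refine Finset.sum_le_sum fun χ hχ => ?_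
  have := hD.ne_zero χ ((Set.Finite.mem_toFinset _).1 hχ)
  have h1 : 0 < a χ ^ 2 := by positivity
  push_cast
  omega

lemma two_le_card_exc (hD : IsFrobeniusData M P ζ a d δ)
    (hlt : frobIndex P + 1 < Nat.card (P : Subgroup G)) : 2 ≤ Nat.card (frobExc ζ) := by
  by_contra hcon
  have h1 := hD.card_exc
  have : Nat.card (frobExc ζ) * frobIndex P ≤ 1 * frobIndex P := Nat.mul_le_mul_right _ (by omega)
  omega

lemma card_ord_le (hD : IsFrobeniusData M P ζ a d δ)
    (hlt : frobIndex P + 1 < Nat.card (P : Subgroup G)) :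
    Nat.card (frobOrd M ζ) ≤ frobIndex P := by
  have h1 := hD.sum_sq_ge
  have h2 := hD.norm
  have h3 : (2 : ℤ) ≤ Nat.card (frobExc ζ) := by exact_mod_cast hD.two_le_card_exc hlt
  by_cases hd : d = 0
  · subst hd
    rcases hD.sign with rfl | rfl <;> norm_num at h2 <;> omega
  · have h4 : (1 : ℤ) ≤ d ^ 2 := by
      have : 0 < d ^ 2 := by positivity
      omega
    have h5 : 1 * 1 ≤ ((Nat.card (frobExc ζ) : ℤ) - 1) * d ^ 2 :=
      mul_le_mul (by omega) h4 zero_le_one (by omega)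
    have h6 : 0 ≤ (d - δ) ^ 2 := sq_nonneg _
    omega

lemma card_exc_eq (hD : IsFrobeniusData M P ζ a d δ) :
    Nat.card (frobExc ζ) = (Nat.card (P : Subgroup G) - 1) / frobIndex P := by
  rw [← hD.card_exc, Nat.add_sub_cancel, Nat.mul_div_cancel _ (frobIndex_pos P)]

end IsFrobeniusData

end Cfsg.Lib.Blocks
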