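import Mathlib
import Cfsg.Agent.Blocks.FrobeniusPrincipal
import Cfsg.Agent.Chars.Sums
import Cfsg.Agent.Chars.Values
import Cfsg.Agent.S0944

/-!
# Inertial index three
-/

set_option autoImplicit false
set_option linter.unusedSectionVars false

namespace Cfsg.Lib.Blocks

open Cfsg.Lib.Chars
open scoped ComplexConjugate

universe u

variable {G : Type u} [Group G] [Fintype G] {M : Ideal AlgInt} {p : ℕ} [Fact p.Prime]
  {P : Sylow p G}

/-- The three-character normal form. -/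
structure IsThreeData (M : Ideal AlgInt) (P : Sylow p G)
    (ζ : ((P : Subgroup G) →* ℂˣ) → IrrCharacter G) (a : IrrCharacter G → ℤ) (δ : ℤ) : Prop
    extends IsFrobeniusData M P ζ a 0 δ where
  unit : ∀ χ ∈ frobOrd M ζ, a χ = 1 ∨ a χ = -1
  card_ord : Nat.card (frobOrd M ζ) = 3

lemma IsFrobeniusData.principal_mem_ord (hM : IsPModular p M)
    {ζ : ((P : Subgroup G) →* ℂˣ) → IrrCharacter G} {a : IrrCharacter G → ℤ} {d δ : ℤ}
    (hD : IsFrobeniusData M P ζ a d δ) : principal G ∈ frobOrd M ζ :=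
  ⟨mem_blockOf_self hM (principal G), fun ⟨ψ, hψ, e⟩ => hD.ne_principal ψ hψ e⟩

lemma IsFrobeniusData.sq_le_sum {ζ : ((P : Subgroup G) →* ℂˣ) → IrrCharacter G}
    {a : IrrCharacter G → ℤ} {χ : IrrCharacter G} (hχ : χ ∈ frobOrd M ζ) :
    a χ ^ 2 ≤ ∑ᶠ ξ ∈ frobOrd M ζ, a ξ ^ 2 := by
  classical
  rw [finsum_mem_eq_finite_toFinset_sum _ (Set.toFinite _)]
  exact Finset.single_le_sum (f := fun ξ => a ξ ^ 2) (fun _ _ => sq_nonneg _)
    ((Set.Finite.mem_toFinset _).2 hχ)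

lemma IsFrobeniusData.unit_of_sum_eq_three {ζ : ((P : Subgroup G) →* ℂˣ) → IrrCharacter G}
    {a : IrrCharacter G → ℤ} {d δ : ℤ} (hD : IsFrobeniusData M P ζ a d δ)
    (hS : ∑ᶠ ξ ∈ frobOrd M ζ, a ξ ^ 2 = 3) :
    (∀ χ ∈ frobOrd M ζ, a χ = 1 ∨ a χ = -1) ∧ Nat.card (frobOrd M ζ) = 3 := by
  classical
  have h1 : ∀ χ ∈ frobOrd M ζ, a χ = 1 ∨ a χ = -1 := fun χ hχ => by
    have e := IsFrobeniusData.sq_le_sum (a := a) hχ
    rw [hS] at e
    have hb1 : a χ ≤ 1 := by nlinarith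
    have hb2 : -1 ≤ a χ := by nlinarith
    have := hD.ne_zero χ hχ
    omega
  refine ⟨h1, ?_⟩
  rw [finsum_mem_eq_finite_toFinset_sum _ (Set.toFinite _),
    Finset.sum_congr rfl fun χ hχ => show a χ ^ 2 = 1 by
      rcases h1 χ ((Set.Finite.mem_toFinset _).1 hχ) with e | e <;> rw [e] <;> norm_num] at hS
  rw [Nat.card_coe_set_eq, Set.ncard_eq_toFinset_card _ (Set.toFinite _)]
  simp only [Finset.sum_const, nsmul_eq_mul, mul_one] at hS
  exact_mod_cast hS

lemma IsFrobeniusData.sum_two_theta (h : FrobeniusNormalizer P)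
    {ζ : ((P : Subgroup G) →* ℂˣ) → IrrCharacter G} {a : IrrCharacter G → ℤ} {d δ : ℤ}
    (hD : IsFrobeniusData M P ζ a d δ) (h2 : Nat.card (frobExc ζ) = 2)
    {ψ φ : (P : Subgroup G) →* ℂˣ} (hψ : ψ ≠ 1) (hφ : φ ≠ 1) (hne : ζ ψ ≠ ζ φ)
    {y : (P : Subgroup G)} (hy : y ≠ 1) : thetaFun P φ y + thetaFun P ψ y = -1 := by
  classical
  have hF : OrbitFamily P (fun b : Bool => if b then thetaFun P φ else thetaFun P ψ) := by
    refine ⟨fun b => ?_, fun χ hχ => ?_, fun b b' e => ?_⟩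
    · cases b
      · exact ⟨ψ, hψ, rfl⟩
      · exact ⟨φ, hφ, rfl⟩
    · rw [Nat.card_coe_set_eq, Set.ncard_eq_two] at h2
      obtain ⟨u, v, _, huv⟩ := h2
      have hm : ∀ θ, θ ≠ 1 → ζ θ = u ∨ ζ θ = v := fun θ hθ => by
        have e : ζ θ ∈ frobExc ζ := ⟨θ, hθ, rfl⟩
        rw [huv] at e; simpa using e
      have : ζ χ = ζ φ ∨ ζ χ = ζ ψ := by
        rcases hm χ hχ with e | e <;> rcases hm φ hφ with e1 | e1 <;> rcases hm ψ hψ with e2 | e2 <;>
          simp_all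
      rcases this with e | e
      · exact ⟨true, ((hD.eq_iff χ φ hχ hφ).1 e).symm⟩
      · exact ⟨false, ((hD.eq_iff χ ψ hχ hψ).1 e).symm⟩
    · cases b <;> cases b' <;> try rfl
      · exact absurd ((hD.eq_iff ψ φ hψ hφ).2 e) hne
      · exact absurd ((hD.eq_iff ψ φ hψ hφ).2 e.symm) hne
  haveI := Fintype.ofFinite (P : Subgroup G)
  have e := hF.sum_apply h hy true
  simpa using e

/-- Interchanging two exceptional characters removes the constant. -/
lemma IsFrobeniusData.swap (h : FrobeniusNormalizer P) (hM : IsPModular p M)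
    {ζ : ((P : Subgroup G) →* ℂˣ) → IrrCharacter G} {a : IrrCharacter G → ℤ} {δ : ℤ}
    (hD : IsFrobeniusData M P ζ a δ δ) (h2 : Nat.card (frobExc ζ) = 2) :
    ∃ ζ', frobOrd M ζ' = frobOrd M ζ ∧ IsFrobeniusData M P ζ' a 0 (-δ) := by
  classical
  have h2' := h2
  rw [Nat.card_coe_set_eq, Set.ncard_eq_two] at h2'
  obtain ⟨u, v, huv, he⟩ := h2'
  have hu : u ∈ frobExc ζ := by rw [he]; exact Or.inl rfl
  have hv : v ∈ frobExc ζ := by rw [he]; exact Or.inr rfl
  let ζ' : ((P : Subgroup G) →* ℂˣ) → IrrCharacter G := fun ψ => if ζ ψ = u then v else u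
  have hcase : ∀ ψ, ψ ≠ 1 → ζ ψ = u ∨ ζ ψ = v := fun ψ hψ => by
    have e : ζ ψ ∈ frobExc ζ := ⟨ψ, hψ, rfl⟩
    rw [he] at e; simpa using e
  have hother : ∀ ψ, ψ ≠ 1 → ∃ φ, φ ≠ 1 ∧ ζ' ψ = ζ φ ∧ ζ ψ ≠ ζ φ := fun ψ hψ => by
    obtain ⟨φu, hφu, eu⟩ := hu
    obtain ⟨φv, hφv, ev⟩ := hv
    rcases hcase ψ hψ with e | e
    · exact ⟨φv, hφv, by simp [ζ', e, ev], by rw [e, ev]; exact huv⟩
    · exact ⟨φu, hφu, by simp [ζ', e, eu, huv.symm], by rw [e, eu]; exact huv.symm⟩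
  have hexc : frobExc ζ' = frobExc ζ := by
    ext χ
    constructor
    · rintro ⟨ψ, hψ, rfl⟩
      obtain ⟨φ, hφ, e, -⟩ := hother ψ hψ
      exact ⟨φ, hφ, e.symm⟩
    · intro hχ
      rw [he] at hχ
      rcases hχ with rfl | rfl
      · obtain ⟨φv, hφv, ev⟩ := hv
        exact ⟨φv, hφv, by simp [ζ', ev, huv.symm]⟩
      · obtain ⟨φu, hφu, eu⟩ := hu
        exact ⟨φu, hφu, by simp [ζ', eu]⟩
  have hord : frobOrd M ζ' = frobOrd M ζ := by rw [frobOrd, hexc, frobOrd]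
  refine ⟨ζ', hord, ⟨by rcases hD.sign with e | e <;> simp [e], fun ψ hψ => ?_, fun ψ φ hψ hφ => ?_,
    fun ψ hψ => ?_, hD.a_principal, hord ▸ hD.ne_zero, hord ▸ hD.value_ord,
    fun ψ hψ z y hz hy => ?_, by rw [hexc]; exact hD.card_exc, ?_, fun ψ φ hψ hφ g hg => ?_,
    fun ψ hψ g hg => ?_⟩⟩
  · obtain ⟨φ, hφ, e, -⟩ := hother ψ hψ
    rw [e]; exact hD.mem φ hφ
  · rw [← hD.eq_iff ψ φ hψ hφ]
    rcases hcase ψ hψ with e | e <;> rcases hcase φ hφ with e' | e' <;>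
      simp [ζ', e, e', huv, huv.symm]
  · obtain ⟨φ, hφ, e, -⟩ := hother ψ hψ
    rw [e]; exact hD.ne_principal φ hφ
  · obtain ⟨φ, hφ, e, hne⟩ := hother ψ hψ
    have hs := hD.sum_two_theta h h2 hψ hφ hne (fun e' => hy (congrArg Subtype.val e'))
    rw [e, hD.value_exc φ hφ z y hz hy]
    push_cast
    linear_combination (δ : ℂ) * hs
  · have e := hD.norm
    rw [h2] at e
    rw [hexc, hord, h2]
    push_cast at e ⊢
    linear_combination e
  · obtain ⟨φ₁, h1, e1, -⟩ := hother ψ hψ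
    obtain ⟨φ₂, h2', e2, -⟩ := hother φ hφ
    rw [e1, e2]; exact hD.reg_eq φ₁ φ₂ h1 h2' g hg
  · obtain ⟨φ, hφ, e, -⟩ := hother ψ hψ
    have e' := hD.reg_rel φ hφ g hg
    rw [hexc, hord, h2, e]
    rw [h2] at e'
    push_cast at e' ⊢
    linear_combination e'

/-- **Normal form for inertial index three.** -/
theorem exists_threeData (hM : IsPModular p M) (h : FrobeniusNormalizer P)
    (hm : frobIndex P = 3) (hlt : 4 < Nat.card (P : Subgroup G)) :
    ∃ ζ a δ, IsThreeData M P ζ a δ := by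
  classical
  obtain ⟨ζ, a, d, δ, hD⟩ := exists_frobeniusData hM h (by omega)
  by_cases hd : d = 0
  · subst hd
    have hS : ∑ᶠ ξ ∈ frobOrd M ζ, a ξ ^ 2 = 3 := by
      have e := hD.norm
      rw [hm] at e
      rcases hD.sign with rfl | rfl <;> norm_num at e <;> omega
    obtain ⟨h1, h3⟩ := hD.unit_of_sum_eq_three hS
    exact ⟨ζ, a, δ, hD, h1, h3⟩
  obtain ⟨T, hT⟩ : ∃ T, Nat.card (frobExc ζ) = T := ⟨_, rfl⟩
  have hT2 : 2 ≤ T := hT ▸ hD.two_le_card_exc (by omega)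
  have e := hD.norm
  rw [hm, hT] at e
  push_cast at e
  have hp1 : (1 : ℤ) ≤ ∑ᶠ ξ ∈ frobOrd M ζ, a ξ ^ 2 := by
    have e1 := IsFrobeniusData.sq_le_sum (a := a) (hD.principal_mem_ord hM)
    rwa [hD.a_principal, one_pow] at e1
  have hd2 : (1 : ℤ) ≤ d ^ 2 := by
    have : 0 < d ^ 2 := by positivity
    omega
  have hd' : d = δ := by
    have h5 : d ^ 2 ≤ ((T : ℤ) - 1) * d ^ 2 := le_mul_of_one_le_left (sq_nonneg d) (by omega)
    have hb : d ^ 2 ≤ 3 := by linarith [sq_nonneg (d - δ)]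
    have hb1 : d ≤ 1 := by nlinarith
    have hb2 : -1 ≤ d := by nlinarith
    by_contra hne
    have : d = -δ := by rcases hD.sign with rfl | rfl <;> omega
    subst this
    rcases hD.sign with rfl | rfl <;> norm_num at e <;> omega
  obtain rfl : δ = d := hd'.symm
  have hsq : δ ^ 2 = 1 := by rcases hD.sign with rfl | rfl <;> norm_num
  rw [sub_self, hsq] at e
  norm_num at e
  have hT4 : T ≤ 4 := by omega
  have hcard := hD.card_exc
  rw [hm, hT] at hcard
  interval_cases T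
  · have hS : ∑ᶠ ξ ∈ frobOrd M ζ, a ξ ^ 2 = 3 := by omega
    obtain ⟨ζ', hord, hD'⟩ := hD.swap h hM hT
    rw [← hord] at hS
    obtain ⟨h1, h3⟩ := hD'.unit_of_sum_eq_three hS
    exact ⟨ζ', a, _, hD', h1, h3⟩
  · exfalso
    obtain ⟨k, hk⟩ := P.2.exists_card_eq
    have h2 : 2 ∣ p := Nat.Prime.dvd_of_dvd_pow Nat.prime_two (by rw [← hk, ← hcard]; norm_num)
    have h5 : 5 ∣ p := Nat.Prime.dvd_of_dvd_pow (show Nat.Prime 5 by norm_num)
      (by rw [← hk, ← hcard]; norm_num)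
    have e2 := (Nat.prime_dvd_prime_iff_eq Nat.prime_two Fact.out).1 h2
    omega
  · exfalso
    have hS : ∑ᶠ ξ ∈ frobOrd M ζ, a ξ ^ 2 = 1 := by omega
    have hX : frobOrd M ζ = {principal G} := by
      refine Set.eq_singleton_iff_unique_mem.2 ⟨hD.principal_mem_ord hM, fun χ hχ => ?_⟩
      by_contra hne
      rw [finsum_mem_eq_finite_toFinset_sum _ (Set.toFinite _)] at hS
      have hle : ∑ ξ ∈ ({principal G, χ} : Finset (IrrCharacter G)), a ξ ^ 2 ≤ 1 := by
        refine le_trans (Finset.sum_le_sum_of_subset_of_nonneg ?_ fun _ _ _ => sq_nonneg _) hS.le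
        intro ξ hξ
        rw [Set.Finite.mem_toFinset]
        rcases Finset.mem_insert.1 hξ with rfl | hξ
        · exact hD.principal_mem_ord hM
        · rw [Finset.mem_singleton.1 hξ]; exact hχ
      rw [Finset.sum_pair (Ne.symm hne), hD.a_principal] at hle
      have := hD.ne_zero χ hχ
      have : 0 < a χ ^ 2 := by positivity
      omega
    obtain ⟨ψ, hψ⟩ : ∃ ψ : (P : Subgroup G) →* ℂˣ, ψ ≠ 1 := by
      haveI : Nontrivial (P : Subgroup G) := Finite.one_lt_card_iff_nontrivial.1 (by omega)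
      obtain ⟨y, hy⟩ := exists_ne (1 : (P : Subgroup G))
      obtain ⟨φ, hφ⟩ := exists_char_ne_one h hy
      exact ⟨φ, fun e => hφ (by rw [e]; rfl)⟩
    have e1 := hD.reg_rel ψ hψ 1 (by rw [orderOf_one]; exact hM.1.not_dvd_one)
    rw [hT, hX, finsum_mem_singleton, hD.a_principal, irr_apply_one_eq_deg,
      show ((principal G : IrrCharacter G) : G → ℂ) 1 = 1 from rfl] at e1
    have e2 : 3 * (δ * (deg (ζ ψ : G → ℂ) : ℤ)) + 1 = 0 := by
      have : ((3 * (δ * (deg (ζ ψ : G → ℂ) : ℤ)) + 1 : ℤ) : ℂ) = 0 := by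
        push_cast at e1 ⊢
        linear_combination e1
      exact_mod_cast this
    omega

/-! ### Columns at an involution -/

/-- The squared values at an involution weighted by the inverse degrees vanish on the sections
which meet no product of two conjugates of the involution. -/
theorem sum_sq_div_mul_eq_zero_of_no_product (hM : IsPModular p M) {t y : G} (ht : orderOf t = 2)
    (hy : ∃ k : ℕ, orderOf y = p ^ k)
    (hno : ∀ s r z : G, IsConj t s → IsConj t r → IsPPart p (s * r) z → ¬ IsConj y z⁻¹)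
    [DecidablePred (· ∈ principalBlock M G)] :
    ∑ χ ∈ Finset.univ.filter (· ∈ principalBlock M G),
      ((χ : G → ℂ) t ^ 2 / (χ : G → ℂ) 1) * (χ : G → ℂ) y = 0 := by
  classical
  have hB : IsPBlock M (principalBlock M G) := isPBlock_blockOf (principal G)
  rw [← blockPart_irrSum]
  refine blockPart_eq_zero_on_section hM hB (isPPart_self hM.1 hy) (IsConj.refl y)
    fun w z hz hc => ?_
  have h := class_mult_formula t t w⁻¹
  haveI : IsEmpty {q : G × G // IsConj t q.1 ∧ IsConj t q.2 ∧ q.1 * q.2 = w⁻¹} := by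
    refine ⟨fun ⟨⟨s, r⟩, h1, h2, h3⟩ => hno s r z⁻¹ h1 h2 ?_ (by rw [inv_inv]; exact hc)⟩
    simp only at h3
    obtain ⟨v, hv, hvc, ⟨k, hk⟩, hvn⟩ := hz
    rw [h3]
    exact ⟨v⁻¹, by rw [← hv, mul_inv_rev, hvc.inv_inv.eq], hvc.inv_inv,
      ⟨k, by rw [orderOf_inv, hk]⟩, by rwa [orderOf_inv]⟩
  rw [Nat.card_of_isEmpty, Nat.cast_zero, eq_comm, mul_eq_zero] at h
  have hcard : (Nat.card {x : G // IsConj t x} : ℂ) * (Nat.card {x : G // IsConj t x} : ℂ) /
      (Nat.card G : ℂ) ≠ 0 :=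
    div_ne_zero (mul_ne_zero (Nat.cast_ne_zero.2 (card_isConj_pos _).ne')
      (Nat.cast_ne_zero.2 (card_isConj_pos _).ne')) (Nat.cast_ne_zero.2 Nat.card_pos.ne')
  rw [← h.resolve_left hcard]
  refine Finset.sum_congr rfl fun χ _ => ?_
  rw [IsCharacter.conj_inv (isCharacter_of_irr χ.2), Complex.conj_conj]
  ring

/-- A third root: an element of the normalizer of order three modulo the centraliser. -/
lemma exists_not_central (hm : frobIndex P = 3) :
    ∃ n : Subgroup.normalizer ((P : Subgroup G) : Set G),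
      (n : G) ∉ Subgroup.centralizer ((P : Subgroup G) : Set G) := by
  by_contra hcon
  push Not at hcon
  have : frobIndex P = 1 := Subgroup.relIndex_eq_one.2 fun x hx => hcon ⟨x, hx⟩
  omega

lemma conjSyl_eq_self_of_fixed_sq (h : FrobeniusNormalizer P) (hodd : Odd (frobIndex P))
    {y : (P : Subgroup G)} (hy : y ≠ 1) {n : Subgroup.normalizer ((P : Subgroup G) : Set G)}
    (h2 : conjSyl P (n * n) y = y) : conjSyl P n y = y := by
  let C := (Subgroup.centralizer ((P : Subgroup G) : Set G)).subgroupOf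
    (Subgroup.normalizer ((P : Subgroup G) : Set G))
  have hy1 : (y : G) ≠ 1 := fun e => hy (Subtype.ext e)
  have hC : C.Normal := by
    refine ⟨fun c hc g => ?_⟩
    rw [Subgroup.mem_subgroupOf] at hc ⊢
    intro b hb
    have hb' : (g : G)⁻¹ * b * g ∈ (P : Subgroup G) := by
      have := (Subgroup.mem_normalizer_iff.1 (inv_mem g.2) b).1 hb
      simpa using this
    have h1 := congrArg (fun v => (g : G) * v * (g : G)⁻¹) (hc _ hb')
    simpa [mul_assoc] using h1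
  have hnn : n * n ∈ C := by
    refine Subgroup.mem_subgroupOf.2 (h.frob _ y.2 hy1 ⟨?_, (n * n).2⟩)
    refine Subgroup.mem_centralizer_singleton_iff.2 ?_
    exact mul_inv_eq_iff_eq_mul.1 (congrArg Subtype.val h2)
  have hnm : n ^ frobIndex P ∈ C := C.pow_index_mem n
  obtain ⟨j, hj⟩ := hodd
  rw [hj, pow_succ, pow_mul, pow_two] at hnm
  have hn : n ∈ C := (Subgroup.mul_mem_cancel_left C (pow_mem hnn j)).1 hnm
  refine Subtype.ext ?_
  rw [coe_conjSyl, ← (Subgroup.mem_subgroupOf.1 hn) (y : G) y.2, mul_inv_cancel_right]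

/-- An involution of a `p`-nilpotent centraliser lies over a conjugate inside `P`. -/
lemma exists_syl_congr_involution (h : FrobeniusNormalizer P) (hp2 : p = 2) {y : (P : Subgroup G)}
    {K : Subgroup (Subgroup.centralizer (Subgroup.zpowers (y : G) : Set G))} [K.Normal]
    (hK : K.IsComplement' ((P.subtype (frobenius_le_centralizer_zpowers h y.2) : Sylow p _) :
      Subgroup (Subgroup.centralizer (Subgroup.zpowers (y : G) : Set G))))
    {s : Subgroup.centralizer (Subgroup.zpowers (y : G) : Set G)} (hs : orderOf s = 2) :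
    ∃ x : Subgroup.centralizer (Subgroup.zpowers (y : G) : Set G),
      (x : G) ∈ (P : Subgroup G) ∧ IsConj (s : G) (x : G) ∧ x⁻¹ * s ∈ K := by
  obtain ⟨Q, hQ⟩ : ∃ Q : Sylow p (Subgroup.centralizer (Subgroup.zpowers (y : G) : Set G)),
      Subgroup.zpowers s ≤ Q :=
    (IsPGroup.of_card (n := 1) (by rw [Nat.card_zpowers, hs, pow_one, hp2])).exists_le_sylow
  obtain ⟨c, hc⟩ := MulAction.exists_smul_eq (Subgroup.centralizer (Subgroup.zpowers (y : G) : Set G))
    Q (P.subtype (frobenius_le_centralizer_zpowers h y.2))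
  have hx : c * s * c⁻¹ ∈ ((P.subtype (frobenius_le_centralizer_zpowers h y.2) : Sylow p _) :
      Subgroup (Subgroup.centralizer (Subgroup.zpowers (y : G) : Set G))) := by
    rw [← hc, Sylow.coe_subgroup_smul]
    exact Subgroup.smul_mem_pointwise_smul s (MulAut.conj c) _ (hQ (Subgroup.mem_zpowers s))
  refine ⟨c * s * c⁻¹, hx, isConj_iff.2 ⟨(c : G), by simp⟩, ?_⟩
  -- the quotient by `K` is abelian
  obtain ⟨⟨⟨k, hk⟩, ⟨v, hv⟩⟩, hkv⟩ := hK.2 c
  simp only at hkv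
  have hcomm : v * (c * s * c⁻¹) = (c * s * c⁻¹) * v :=
    Subtype.ext (h.comm (v : G) hv _ hx)
  have e2 : (c * s * c⁻¹)⁻¹ * s = v⁻¹ * ((c * s * c⁻¹)⁻¹ * (k⁻¹ * (c * s * c⁻¹) * k)) * v := by
    have e3 : v⁻¹ * (c * s * c⁻¹)⁻¹ = (c * s * c⁻¹)⁻¹ * v⁻¹ := by
      rw [← mul_inv_rev, ← mul_inv_rev, hcomm]
    have e4 : s = v⁻¹ * (k⁻¹ * (c * s * c⁻¹) * k) * v := by
      rw [← hkv]; group
    calc (c * s * c⁻¹)⁻¹ * s = (c * s * c⁻¹)⁻¹ * (v⁻¹ * (k⁻¹ * (c * s * c⁻¹) * k) * v) := by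
          rw [← e4]
      _ = ((c * s * c⁻¹)⁻¹ * v⁻¹) * (k⁻¹ * (c * s * c⁻¹) * k) * v := by group
      _ = _ := by rw [← e3]; group
  rw [e2]
  have hin : (c * s * c⁻¹)⁻¹ * (k⁻¹ * (c * s * c⁻¹) * k) ∈ K := by
    rw [← mul_assoc, ← mul_assoc]
    refine K.mul_mem ?_ hk
    have := Subgroup.Normal.conj_mem inferInstance _ (K.inv_mem hk) (c * s * c⁻¹)⁻¹
    simpa using this
  simpa using Subgroup.Normal.conj_mem inferInstance _ hin v⁻¹

/-- The conjugates of an involution inside `P` are the nontrivial elements of a group of order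
four when the inertial index is three. -/
lemma mul_isConj_involution (h : FrobeniusNormalizer P) (hm : frobIndex P = 3) {t : G}
    (ht : orderOf t = 2) {a b : (P : Subgroup G)} (ha : IsConj t (a : G)) (hb : IsConj t (b : G))
    (hab : a ≠ b) : IsConj t ((a * b : (P : Subgroup G)) : G) := by
  classical
  haveI := Fintype.ofFinite (P : Subgroup G)
  letI : CommGroup (P : Subgroup G) :=
    { (inferInstance : Group (P : Subgroup G)) with
      mul_comm := fun u v => Subtype.ext (h.comm _ u.2 _ v.2) }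
  have h2 : ∀ w : G, IsConj t w → w * w = 1 := by
    intro w hw
    obtain ⟨g, rfl⟩ := isConj_iff.1 hw
    rw [show g * t * g⁻¹ * (g * t * g⁻¹) = g * (t * t) * g⁻¹ by group, ← pow_two, ← ht,
      pow_orderOf_eq_one]
    group
  have ha1 : a ≠ 1 := by
    rintro rfl
    rw [OneMemClass.coe_one, isConj_one_left] at ha
    rw [ha, orderOf_one] at ht
    norm_num at ht
  set O := Finset.univ.filter (fun w : (P : Subgroup G) => IsConj t (w : G)) with hO
  have hO3 : O.card = 3 := by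
    rw [hO, ← Fintype.card_subtype, ← Nat.card_eq_fintype_card, ← hm, ← natCard_isConj_syl h ha1]
    exact Nat.card_congr (Equiv.subtypeEquivRight fun w => ⟨fun hw => ha.symm.trans hw, ha.trans⟩)
  have hprod : ∏ w ∈ O, w = 1 := by
    obtain ⟨n, hn⟩ := exists_not_central (P := P) hm
    by_contra hu
    refine hn (h.frob _ (∏ w ∈ O, w).2 (fun e => hu (Subtype.ext e)) ⟨?_, n.2⟩)
    refine Subgroup.mem_centralizer_singleton_iff.2 (mul_inv_eq_iff_eq_mul.1 ?_)
    rw [← coe_conjSyl, map_prod]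
    refine congrArg Subtype.val ?_
    refine Finset.prod_bij' (fun w _ => conjSyl P n w) (fun w _ => conjSyl P n⁻¹ w)
      (fun w hw => ?_) (fun w hw => ?_) (fun w _ => ?_) (fun w _ => ?_) fun w _ => rfl
    · exact Finset.mem_filter.2 ⟨Finset.mem_univ _,
        ((Finset.mem_filter.1 hw).2).trans (isConj_conjSyl n w)⟩
    · exact Finset.mem_filter.2 ⟨Finset.mem_univ _,
        ((Finset.mem_filter.1 hw).2).trans (isConj_conjSyl n⁻¹ w)⟩
    · rw [← conjSyl_mul, inv_mul_cancel, conjSyl_one]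
    · rw [← conjSyl_mul, mul_inv_cancel, conjSyl_one]
  have haO : a ∈ O := Finset.mem_filter.2 ⟨Finset.mem_univ _, ha⟩
  have hbO : b ∈ O.erase a := Finset.mem_erase.2 ⟨Ne.symm hab, Finset.mem_filter.2 ⟨Finset.mem_univ _, hb⟩⟩
  obtain ⟨c, hc⟩ : ∃ c, (O.erase a).erase b = {c} := Finset.card_eq_one.1 (by
    rw [Finset.card_erase_of_mem hbO, Finset.card_erase_of_mem haO, hO3])
  rw [← Finset.mul_prod_erase _ _ haO, ← Finset.mul_prod_erase _ _ hbO, hc, Finset.prod_singleton,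
    ← mul_assoc] at hprod
  have hcO : IsConj t (c : G) := by
    have : c ∈ (O.erase a).erase b := by rw [hc]; exact Finset.mem_singleton_self c
    exact (Finset.mem_filter.1 (Finset.mem_of_mem_erase (Finset.mem_of_mem_erase this))).2
  have hcc : c * c = 1 := Subtype.ext (h2 _ hcO)
  rw [eq_inv_of_mul_eq_one_left hprod, inv_eq_of_mul_eq_one_right hcc]
  exact hcO

/-- Only the class of the involution meets products of two of its conjugates. -/
lemma not_isConj_product (hM : IsPModular p M) (h : FrobeniusNormalizer P) (hm : frobIndex P = 3)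
    {t : G} (ht : orderOf t = 2) {y : (P : Subgroup G)} (hy : y ≠ 1) (hyt : ¬ IsConj t (y : G))
    (s r z : G) (hs : IsConj t s) (hr : IsConj t r) (hz : IsPPart p (s * r) z) :
    ¬ IsConj (y : G) z⁻¹ := by
  have hp : p.Prime := hM.1
  intro hc
  have hinv : ∀ w : G, IsConj t w → w⁻¹ = w := by
    intro w hw
    obtain ⟨g, rfl⟩ := isConj_iff.1 hw
    have e : t⁻¹ = t := inv_eq_of_mul_eq_one_right (by rw [← pow_two, ← ht, pow_orderOf_eq_one])
    rw [mul_inv_rev, mul_inv_rev, inv_inv, e, mul_assoc]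
  -- move the part to `y`
  obtain ⟨g, hg⟩ := isConj_iff.1 hc.symm
  obtain ⟨S, R, hS, hR, hpart⟩ : ∃ S R, IsConj t S ∧ IsConj t R ∧ IsPPart p (R * S) (y : G) := by
    refine ⟨g * s * g⁻¹, g * r * g⁻¹, hs.trans (isConj_iff.2 ⟨g, rfl⟩),
      hr.trans (isConj_iff.2 ⟨g, rfl⟩), ?_⟩
    obtain ⟨v, hv, hvc, ⟨k, hk⟩, hvn⟩ := hz
    have hzi : IsPPart p (r * s) z⁻¹ := by
      refine ⟨v⁻¹, ?_, hvc.inv_inv, ⟨k, by rw [orderOf_inv, hk]⟩, by rwa [orderOf_inv]⟩
      rw [hvc.inv_inv.eq, ← mul_inv_rev, hv, mul_inv_rev, hinv s hs, hinv r hr]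
    have := IsPPart.conj hzi g
    rw [hg] at this
    rwa [show g * (r * s) * g⁻¹ = g * r * g⁻¹ * (g * s * g⁻¹) by group] at this
  have hyinv : R * (y : G) * R⁻¹ = (y : G)⁻¹ ∧ S * (y : G) * S⁻¹ = (y : G)⁻¹ := by
    obtain ⟨v, hv, hvc, ⟨k, hk⟩, hvn⟩ := hpart
    have hi : IsPPart p (S * R) (y : G)⁻¹ := by
      refine ⟨v⁻¹, ?_, hvc.inv_inv, ⟨k, by rw [orderOf_inv, hk]⟩, by rwa [orderOf_inv]⟩
      rw [hvc.inv_inv.eq, ← mul_inv_rev, hv, mul_inv_rev, hinv S hS, hinv R hR]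
    have hb : IsPPart p (R * S) (y : G) := ⟨v, hv, hvc, ⟨k, hk⟩, hvn⟩
    constructor
    · refine IsPPart.eq hp ?_ hi
      have := IsPPart.conj hb R
      rw [hinv R hR] at this ⊢
      rwa [← mul_assoc R R S, show R * R = 1 by nth_rw 2 [← hinv R hR]; exact mul_inv_cancel R,
        one_mul] at this
    · refine IsPPart.eq hp ?_ hi
      have := IsPPart.conj hb S
      rwa [← mul_assoc S R S, mul_inv_cancel_right] at this
  -- `y` is an involution
  obtain ⟨n, hn⟩ := exists_conjSyl_of_isConj h (a := y) (b := y⁻¹)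
    (isConj_iff.2 ⟨R, by rw [hyinv.1, Subgroup.coe_inv]⟩)
  have hnn : conjSyl P (n * n) y = y := by rw [conjSyl_mul, hn, map_inv, hn, inv_inv]
  have hyy : y⁻¹ = y := hn.symm.trans (conjSyl_eq_self_of_fixed_sq h (by rw [hm]; decide) hy hnn)
  have hp2 : p = 2 := by
    obtain ⟨k, hk⟩ := orderOf_syl y
    have h2 : orderOf y = 2 := orderOf_eq_prime (by rw [pow_two]; nth_rw 1 [← hyy]; rw [inv_mul_cancel]) hy
    rw [Subgroup.orderOf_coe, h2] at hk
    rcases k with _ | k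
    · norm_num at hk
    · exact (Nat.prime_dvd_prime_iff_eq hp Nat.prime_two).1 (hk ▸ dvd_pow_self p k.succ_ne_zero)
  have hyy' : (y : G)⁻¹ = y := by rw [← Subgroup.coe_inv, hyy]
  -- both involutions centralise `y`
  have hmem : ∀ W, W * (y : G) * W⁻¹ = (y : G)⁻¹ →
      W ∈ Subgroup.centralizer (Subgroup.zpowers (y : G) : Set G) := by
    intro W hW
    rw [centralizer_zpowers, Subgroup.mem_centralizer_singleton_iff]
    exact mul_inv_eq_iff_eq_mul.1 (hW.trans hyy')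
  have hord : ∀ W (hW : W ∈ Subgroup.centralizer (Subgroup.zpowers (y : G) : Set G)), IsConj t W →
      orderOf (⟨W, hW⟩ : Subgroup.centralizer (Subgroup.zpowers (y : G) : Set G)) = 2 := by
    intro W hW hc'
    obtain ⟨g', hg'⟩ := isConj_iff.1 hc'
    rw [Subgroup.orderOf_mk, ← hg', show g' * t * g'⁻¹ = MulAut.conj g' t from rfl,
      MulEquiv.orderOf_eq, ht]
  have hy1 : (y : G) ≠ 1 := fun e => hy (Subtype.ext e)
  obtain ⟨K, hKn, hK⟩ := Cfsg.Lib.Transfer.exists_complement_of_hasNormalPComplement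
    (hasNormalPComplement_centralizer h y.2 hy1) (P.subtype (frobenius_le_centralizer_zpowers h y.2))
  obtain ⟨hcop, kk, hkk⟩ := Cfsg.Lib.Transfer.complement_props hK
  obtain ⟨x1, hx1P, hx1c, hx1⟩ := exists_syl_congr_involution h hp2 hK (hord R (hmem R hyinv.1) hR)
  obtain ⟨x2, hx2P, hx2c, hx2⟩ := exists_syl_congr_involution h hp2 hK (hord S (hmem S hyinv.2) hS)
  have hyx : (y : G) = (x1 : G) * (x2 : G) := by
    obtain ⟨v, hv, hvc, -, hvn⟩ := hpart
    have hvH : v ∈ Subgroup.centralizer (Subgroup.zpowers (y : G) : Set G) := by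
      rw [centralizer_zpowers, Subgroup.mem_centralizer_singleton_iff]; exact hvc.symm.eq
    have hyH : (y : G) ∈ Subgroup.centralizer (Subgroup.zpowers (y : G) : Set G) :=
      frobenius_le_centralizer_zpowers h y.2 y.2
    have hvK : (⟨v, hvH⟩ : Subgroup.centralizer (Subgroup.zpowers (y : G) : Set G)) ∈ K := by
      rw [Cfsg.Lib.Transfer.mem_iff_coprime_orderOf hcop hkk, Subgroup.orderOf_mk,
        Nat.coprime_comm, hp.coprime_iff_not_dvd]
      exact hvn
    have hprod : (x1 * x2)⁻¹ * (⟨R, hmem R hyinv.1⟩ * ⟨S, hmem S hyinv.2⟩) ∈ K := by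
      rw [show (x1 * x2)⁻¹ * (⟨R, hmem R hyinv.1⟩ * ⟨S, hmem S hyinv.2⟩) =
        x2⁻¹ * (x1⁻¹ * ⟨R, hmem R hyinv.1⟩) * x2 * (x2⁻¹ * ⟨S, hmem S hyinv.2⟩) by group]
      refine K.mul_mem ?_ hx2
      simpa using hKn.conj_mem _ hx1 x2⁻¹
    rw [show (⟨R, hmem R hyinv.1⟩ * ⟨S, hmem S hyinv.2⟩ :
        Subgroup.centralizer (Subgroup.zpowers (y : G) : Set G)) = ⟨y, hyH⟩ * ⟨v, hvH⟩ from
      Subtype.ext hv.symm] at hprod
    have h1 : (x1 * x2)⁻¹ * ⟨y, hyH⟩ ∈ K := by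
      have e := K.mul_mem hprod (K.inv_mem hvK)
      rwa [mul_assoc, mul_inv_cancel_right] at e
    have h2 : (x1 * x2)⁻¹ * ⟨y, hyH⟩ ∈ ((P.subtype (frobenius_le_centralizer_zpowers h y.2) : Sylow p _) :
        Subgroup (Subgroup.centralizer (Subgroup.zpowers (y : G) : Set G))) :=
      Subgroup.mul_mem _ (Subgroup.inv_mem _ (Subgroup.mul_mem _ hx1P hx2P)) y.2
    have h3 : (x1 * x2)⁻¹ * (⟨(y : G), hyH⟩ :
        Subgroup.centralizer (Subgroup.zpowers (y : G) : Set G)) = 1 := by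
      have := hK.disjoint
      exact Subgroup.mem_bot.1 (this.le_bot ⟨h1, h2⟩)
    exact (congrArg Subtype.val (inv_mul_eq_one.1 h3)).symm
  have hne : (⟨(x1 : G), hx1P⟩ : (P : Subgroup G)) ≠ ⟨(x2 : G), hx2P⟩ := by
    intro e
    have e' : (x1 : G) = (x2 : G) := (congrArg Subtype.val e :)
    refine hy1 ?_
    rw [hyx, ← e']
    nth_rw 1 [← hinv (x1 : G) (hR.trans hx1c)]
    exact inv_mul_cancel _
  refine hyt ?_
  have := mul_isConj_involution h hm ht (a := ⟨(x1 : G), hx1P⟩) (b := ⟨(x2 : G), hx2P⟩)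
    (hR.trans hx1c) (hS.trans hx2c) hne
  rw [hyx]
  exact this

/-- A nontrivial linear character whose orbit sum is the index at the conjugates of `t`. -/
lemma exists_char_trivial_on_class (h : FrobeniusNormalizer P) (hm : frobIndex P = 3)
    (hlt : 4 < Nat.card (P : Subgroup G)) {t : G} (ht : orderOf t = 2) :
    ∃ ψ : (P : Subgroup G) →* ℂˣ, ψ ≠ 1 ∧
      ∀ y : (P : Subgroup G), IsConj t (y : G) → thetaFun P ψ y = 3 := by
  classical
  haveI := finite_dual h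
  haveI := Fintype.ofFinite ((P : Subgroup G) →* ℂˣ)
  by_cases hex : ∃ a : (P : Subgroup G), IsConj t (a : G)
  swap
  · haveI : Nontrivial (P : Subgroup G) := Finite.one_lt_card_iff_nontrivial.1 (by omega)
    obtain ⟨y, hy⟩ := exists_ne (1 : (P : Subgroup G))
    obtain ⟨φ, hφ⟩ := exists_char_ne_one h hy
    exact ⟨φ, fun e => hφ (by rw [e]; rfl), fun w hw => absurd ⟨w, hw⟩ hex⟩
  obtain ⟨a, ha⟩ := hex
  have ha1 : a ≠ 1 := by
    rintro rfl
    rw [OneMemClass.coe_one, isConj_one_left] at ha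
    rw [ha, orderOf_one] at ht
    norm_num at ht
  obtain ⟨b, hb, hab⟩ : ∃ b : (P : Subgroup G), IsConj t (b : G) ∧ a ≠ b := by
    by_contra hcon
    push Not at hcon
    have h3 := natCard_isConj_syl h ha1
    haveI : Subsingleton {w : (P : Subgroup G) // IsConj (a : G) w} :=
      ⟨fun u v => Subtype.ext ((hcon u.1 (ha.trans u.2)).symm.trans (hcon v.1 (ha.trans v.2)))⟩
    have := Finite.card_le_one_iff_subsingleton.2
      (inferInstance : Subsingleton {w : (P : Subgroup G) // IsConj (a : G) w})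
    omega
  have hsq : ∀ (φ : (P : Subgroup G) →* ℂˣ) (w : (P : Subgroup G)), IsConj t (w : G) →
      ((φ w : ℂˣ) : ℂ) = 1 ∨ ((φ w : ℂˣ) : ℂ) = -1 := by
    intro φ w hw
    refine mul_self_eq_one_iff.1 ?_
    rw [← Units.val_mul, ← map_mul, show w * w = 1 from Subtype.ext (by
      obtain ⟨g, hg⟩ := isConj_iff.1 hw
      rw [Subgroup.coe_mul, ← hg, show g * t * g⁻¹ * (g * t * g⁻¹) = g * (t * t) * g⁻¹ by group,
        ← pow_two, ← ht, pow_orderOf_eq_one]
      simp), map_one, Units.val_one]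
  let F : ((P : Subgroup G) →* ℂˣ) → Bool × Bool := fun φ =>
    (decide (((φ a : ℂˣ) : ℂ) = 1), decide (((φ b : ℂˣ) : ℂ) = 1))
  obtain ⟨φ₁, φ₂, hne, heq⟩ := Fintype.exists_ne_map_eq_of_card_lt F (by
    rw [← Nat.card_eq_fintype_card, ← Nat.card_eq_fintype_card, card_dual h]
    simpa using hlt)
  have hsame : ∀ w : (P : Subgroup G), IsConj t (w : G) →
      decide (((φ₁ w : ℂˣ) : ℂ) = 1) = decide (((φ₂ w : ℂˣ) : ℂ) = 1) → φ₁ w = φ₂ w := by
    intro w hw e
    rcases hsq φ₁ w hw with e1 | e1 <;> rcases hsq φ₂ w hw with e2 | e2 <;>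
      first
        | exact Units.ext (e1.trans e2.symm)
        | (rw [e1, e2] at e; norm_num at e)
  have hA := hsame a ha (congrArg Prod.fst heq)
  have hB := hsame b hb (congrArg Prod.snd heq)
  refine ⟨φ₁ * φ₂⁻¹, fun e => hne (mul_inv_eq_one.1 e), fun y hy => ?_⟩
  set ψ := φ₁ * φ₂⁻¹ with hψ
  have hψ0 : ∀ w : (P : Subgroup G), φ₁ w = φ₂ w → ψ w = 1 := fun w e => by
    rw [hψ, MonoidHom.mul_apply, MonoidHom.inv_apply, e, mul_inv_cancel]
  have hall : ∀ w : (P : Subgroup G), IsConj t (w : G) → ψ w = 1 := by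
    intro w hw
    have hab1 := mul_isConj_involution h hm ht ha hb hab
    by_cases h1 : w = a
    · rw [h1]; exact hψ0 a hA
    by_cases h2 : w = b
    · rw [h2]; exact hψ0 b hB
    -- the third one
    have h3 := natCard_isConj_syl h ha1
    rw [hm] at h3
    have hwab : w = a * b := by
      by_contra h4
      have hsub : ({a, b, a * b, w} : Finset (P : Subgroup G)) ⊆
          Finset.univ.filter fun v : (P : Subgroup G) => IsConj (a : G) v := by
        intro v hv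
        simp only [Finset.mem_insert, Finset.mem_singleton] at hv
        rw [Finset.mem_filter]
        refine ⟨Finset.mem_univ _, ha.symm.trans ?_⟩
        rcases hv with rfl | rfl | rfl | rfl <;> assumption
      have hle := Finset.card_le_card hsub
      rw [← Fintype.card_subtype, ← Nat.card_eq_fintype_card, h3] at hle
      have hb1 : b ≠ 1 := by
        rintro rfl
        rw [OneMemClass.coe_one, isConj_one_left] at hb
        rw [hb, orderOf_one] at ht
        norm_num at ht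
      have hd1 : a ≠ a * b := fun e => hb1 (mul_eq_left.1 e.symm)
      have hd2 : b ≠ a * b := fun e => ha1 (mul_eq_right.1 e.symm)
      rw [Finset.card_insert_of_notMem (by simp [hab, hd1, Ne.symm h1]),
        Finset.card_insert_of_notMem (by simp [hd2, Ne.symm h2]),
        Finset.card_insert_of_notMem (by simp [Ne.symm h4]), Finset.card_singleton] at hle
      omega
    rw [hwab, map_mul, hψ0 a hA, hψ0 b hB, one_mul]
  rw [thetaFun_apply, Finset.sum_congr rfl fun n _ => show ((ψ (conjSyl P n y) : ℂˣ) : ℂ) = 1 by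
      rw [hall _ (hy.trans (isConj_conjSyl n y)), Units.val_one],
    Finset.sum_const, nsmul_eq_mul, mul_one, Finset.card_univ, ← Nat.card_eq_fintype_card,
    card_normalizer_eq, Nat.cast_mul, inv_mul_cancel_left₀ (Nat.cast_ne_zero.2 Nat.card_pos.ne'),
    hm, Nat.cast_ofNat]

/-- Combining the columns with a base orbit sum. -/
lemma IsThreeData.relation_of_columns (hM : IsPModular p M) (h : FrobeniusNormalizer P)
    (hm : frobIndex P = 3) {ζ : ((P : Subgroup G) →* ℂˣ) → IrrCharacter G}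
    {a : IrrCharacter G → ℤ} {δ : ℤ} (hD : IsThreeData M P ζ a δ)
    {ψ : (P : Subgroup G) →* ℂˣ} (hψ : ψ ≠ 1) [DecidablePred (· ∈ principalBlock M G)]
    (f : IrrCharacter G → ℂ)
    (hcol : ∀ y : (P : Subgroup G), y ≠ 1 → thetaFun P ψ y ≠ 3 →
      ∑ χ ∈ Finset.univ.filter (· ∈ principalBlock M G), f χ * (χ : G → ℂ) (y : G) = 0) :
    (∑ᶠ χ ∈ frobOrd M ζ, (a χ : ℂ) * f χ) - (δ : ℂ) * f (ζ ψ) = 0 := by
  classical
  haveI := Fintype.ofFinite (P : Subgroup G)
  have hP : (Nat.card (P : Subgroup G) : ℂ) ≠ 0 := Nat.cast_ne_zero.2 Nat.card_pos.ne'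
  obtain ⟨β, hβdef⟩ : ∃ β : ↥(P : Subgroup G) → ℂ, β = fun y => 3 - conj (thetaFun P ψ y) :=
    ⟨_, rfl⟩
  have hβ : ∀ y, β y = 3 - conj (thetaFun P ψ y) := fun y => by rw [hβdef]
  have hβ1 : β 1 = 0 := by
    rw [hβ, thetaFun_one, hm, Complex.conj_natCast]; norm_num
  have h0 : ∑ χ ∈ Finset.univ.filter (· ∈ principalBlock M G),
      f χ * ∑ y : (P : Subgroup G), (χ : G → ℂ) (y : G) * β y = 0 := by
    simp only [Finset.mul_sum, ← mul_assoc]
    rw [Finset.sum_comm]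
    refine Finset.sum_eq_zero fun y _ => ?_
    rw [← Finset.sum_mul]
    by_cases hy : y = 1
    · rw [hy, hβ1, mul_zero]
    by_cases hθ : thetaFun P ψ y = 3
    · rw [hβ, hθ, show conj (3 : ℂ) = 3 from map_ofNat _ 3, sub_self, mul_zero]
    · rw [hcol y hy hθ, zero_mul]
  have hsumβ : ∑ y : (P : Subgroup G), β y = 3 * (Nat.card (P : Subgroup G) : ℂ) := by
    simp only [hβ, Finset.sum_sub_distrib, ← map_sum, sum_thetaFun h hψ, map_zero, sub_zero,
      Finset.sum_const, Finset.card_univ, nsmul_eq_mul, ← Nat.card_eq_fintype_card]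
    ring
  have hX : ∀ χ ∈ frobOrd M ζ, ∑ y : (P : Subgroup G), (χ : G → ℂ) (y : G) * β y =
      3 * (Nat.card (P : Subgroup G) : ℂ) * (a χ : ℂ) := by
    intro χ hχ
    rw [← hsumβ, Finset.sum_mul]
    refine Finset.sum_congr rfl fun y _ => ?_
    by_cases hy : y = 1
    · rw [hy, hβ1]; ring
    · rw [hD.value_ord χ hχ _ y (isPPart_self hM.1 (orderOf_syl y))
        (fun e => hy (Subtype.ext e))]
      ring
  have hY : ∀ φ, φ ≠ 1 → ∑ y : (P : Subgroup G), (ζ φ : G → ℂ) (y : G) * β y =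
      if ζ φ = ζ ψ then -(3 * (Nat.card (P : Subgroup G) : ℂ) * (δ : ℂ)) else 0 := by
    intro φ hφ
    rw [Finset.sum_congr rfl fun (y : (P : Subgroup G)) _ => show (ζ φ : G → ℂ) (y : G) * β y =
      (δ : ℂ) * (3 * thetaFun P φ y - thetaFun P φ y * conj (thetaFun P ψ y)) by
        by_cases hy : y = 1
        · rw [hy, hβ1, thetaFun_one, thetaFun_one, hm, Complex.conj_natCast]
          push_cast; ring
        · rw [hD.value_exc φ hφ _ y (isPPart_self hM.1 (orderOf_syl y))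
            (fun e => hy (Subtype.ext e)), hβ]
          push_cast; ring,
      ← Finset.mul_sum, Finset.sum_sub_distrib, ← Finset.mul_sum, sum_thetaFun h hφ,
      sum_thetaFun_mul_conj h hφ hψ, hm]
    by_cases he : ζ φ = ζ ψ
    · rw [if_pos he, if_pos ((hD.eq_iff φ ψ hφ hψ).1 he)]; push_cast; ring
    · rw [if_neg he, if_neg (fun e => he ((hD.eq_iff φ ψ hφ hψ).2 e))]; ring
  obtain ⟨hU, hdisj⟩ := frobExc_union_frobOrd hD.mem
  rw [show Finset.univ.filter (· ∈ principalBlock M G) =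
      (Set.toFinite (frobOrd M ζ)).toFinset ∪ (Set.toFinite (frobExc ζ)).toFinset by
    ext χ; simp [hU], Finset.sum_union (by
      rw [Finset.disjoint_left]; intro χ h1 h2
      exact Set.disjoint_left.1 hdisj ((Set.Finite.mem_toFinset _).1 h1)
        ((Set.Finite.mem_toFinset _).1 h2)),
    Finset.sum_congr rfl fun χ hχ => by rw [hX χ ((Set.Finite.mem_toFinset _).1 hχ)],
    Finset.sum_eq_single (ζ ψ) (fun χ hχ hne => by
      obtain ⟨φ, hφ, rfl⟩ := (Set.Finite.mem_toFinset _).1 hχ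
      rw [hY φ hφ, if_neg hne, mul_zero])
      (fun hn => absurd ((Set.Finite.mem_toFinset (Set.toFinite (frobExc ζ))).2 ⟨ψ, hψ, rfl⟩) hn),
    hY ψ hψ, if_pos rfl,
    Finset.sum_congr rfl fun χ _ => show f χ * (3 * (Nat.card (P : Subgroup G) : ℂ) * (a χ : ℂ)) =
      3 * (Nat.card (P : Subgroup G) : ℂ) * ((a χ : ℂ) * f χ) by ring,
    ← Finset.mul_sum, ← finsum_mem_eq_finite_toFinset_sum] at h0
  refine (mul_right_inj' (mul_ne_zero (by norm_num : (3 : ℂ) ≠ 0) hP)).1 ?_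
  linear_combination h0

/-- **The three relations at an involution.** -/
theorem IsThreeData.involution_relations (hM : IsPModular p M) (h : FrobeniusNormalizer P)
    (hm : frobIndex P = 3) {ζ : ((P : Subgroup G) →* ℂˣ) → IrrCharacter G}
    {a : IrrCharacter G → ℤ} {δ : ℤ} (hD : IsThreeData M P ζ a δ) {t : G} (ht : orderOf t = 2)
    {ψ : (P : Subgroup G) →* ℂˣ} (hψ : ψ ≠ 1)
    (hψt : ∀ y : (P : Subgroup G), IsConj t (y : G) → thetaFun P ψ y = 3) :
    (∑ᶠ χ ∈ frobOrd M ζ, (a χ : ℂ) * (χ : G → ℂ) 1) - (δ : ℂ) * (ζ ψ : G → ℂ) 1 = 0 ∧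
    (∑ᶠ χ ∈ frobOrd M ζ, (a χ : ℂ) * (χ : G → ℂ) t) - (δ : ℂ) * (ζ ψ : G → ℂ) t = 0 ∧
    (∑ᶠ χ ∈ frobOrd M ζ, (a χ : ℂ) * ((χ : G → ℂ) t ^ 2 / (χ : G → ℂ) 1)) -
      (δ : ℂ) * ((ζ ψ : G → ℂ) t ^ 2 / (ζ ψ : G → ℂ) 1) = 0 := by
  classical
  have hB : IsPBlock M (principalBlock M G) := isPBlock_blockOf (principal G)
  have hsing : ∀ y : (P : Subgroup G), y ≠ 1 → p ∣ orderOf (y : G) := fun y hy => by
    obtain ⟨k, hk⟩ := orderOf_syl y
    rcases k with _ | k
    · rw [pow_zero, orderOf_eq_one_iff] at hk; exact absurd (Subtype.ext hk) hy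
    · rw [hk]; exact dvd_pow_self p k.succ_ne_zero
  have h1reg : ¬ p ∣ orderOf (1 : G) := by rw [orderOf_one]; exact hM.1.not_dvd_one
  refine ⟨hD.relation_of_columns hM h hm hψ _ fun y hy _ => ?_,
    hD.relation_of_columns hM h hm hψ _ fun y hy hθ => ?_,
    hD.relation_of_columns hM h hm hψ _ fun y hy hθ =>
      sum_sq_div_mul_eq_zero_of_no_product hM ht (orderOf_syl y)
        (not_isConj_product hM h hm ht hy fun e => hθ (hψt y e))⟩
  · rw [← block_orthogonality_regular' hM hB (hsing y hy) h1reg]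
    exact Finset.sum_congr rfl fun χ _ => by
      rw [irr_apply_one_eq_deg, Complex.conj_natCast, mul_comm]
  · have hconj : ∀ χ : IrrCharacter G, conj ((χ : G → ℂ) t) = (χ : G → ℂ) t := fun χ => by
      obtain ⟨n, hn, -⟩ := Cfsg.Agent.S0944.result χ t ht
      rw [hn, map_intCast]
    have hnc : ¬ IsConj (y : G) t := fun e => hθ (hψt y e.symm)
    rw [Finset.sum_congr rfl fun (χ : IrrCharacter G) _ => show
      (χ : G → ℂ) t * (χ : G → ℂ) (y : G) = (χ : G → ℂ) (y : G) * conj ((χ : G → ℂ) t) by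
        rw [hconj, mul_comm]]
    obtain ⟨x, hx⟩ := exists_isPPart' hM.1 t
    refine block_orthogonality_conj hM hB (isPPart_self hM.1 (orderOf_syl y)) hx fun e => ?_
    by_cases hp2 : p = 2
    · exact hnc (by
        rwa [IsPPart.eq hM.1 hx (isPPart_self hM.1 ⟨1, by rw [ht, pow_one, hp2]⟩)] at e)
    · have hx1 : x = 1 := IsPPart.eq hM.1 hx ((isPPart_one_iff hM.1).2 (by
        rw [ht]; exact fun hd => hp2 ((Nat.prime_dvd_prime_iff_eq hM.1 Nat.prime_two).1 hd)))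
      rw [hx1, isConj_one_left] at e
      exact hy (Subtype.ext e)

/-- The ordinary characters are the principal one and two others. -/
lemma IsThreeData.exists_pair (hM : IsPModular p M)
    {ζ : ((P : Subgroup G) →* ℂˣ) → IrrCharacter G} {a : IrrCharacter G → ℤ} {δ : ℤ}
    (hD : IsThreeData M P ζ a δ) :
    ∃ χ₂ χ₃, χ₂ ≠ χ₃ ∧ χ₂ ≠ principal G ∧ χ₃ ≠ principal G ∧
      frobOrd M ζ = {principal G, χ₂, χ₃} := by
  classical
  have h3 := hD.card_ord
  rw [Nat.card_coe_set_eq, Set.ncard_eq_three] at h3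
  obtain ⟨x, y, z, hxy, hxz, hyz, he⟩ := h3
  have hp : principal G ∈ frobOrd M ζ := hD.principal_mem_ord hM
  rw [he] at hp
  rcases hp with rfl | rfl | rfl
  · exact ⟨y, z, hyz, hxy.symm, hxz.symm, he⟩
  · exact ⟨x, z, hxz, hxy, hyz.symm, by rw [he, Set.insert_comm]⟩
  · refine ⟨x, y, hxy, hxz, hyz, ?_⟩
    rw [he, Set.pair_comm y, Set.insert_comm x]

lemma finsum_mem_triple {α R : Type*} [AddCommMonoid R] {x y z : α} (f : α → R)
    (hxy : x ≠ y) (hxz : x ≠ z) (hyz : y ≠ z) :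
    ∑ᶠ i ∈ ({x, y, z} : Set α), f i = f x + (f y + f z) := by
  rw [finsum_mem_insert _ (by simp [hxy, hxz]) (Set.toFinite _), finsum_mem_pair hyz]

/-- A character constant on a generating normal subset is trivial. -/
lemma eq_principal_of_apply_eq {t : G} (hgen : ∀ K : Subgroup G, K.Normal → t ∈ K → K = ⊤)
    {χ : IrrCharacter G} (hval : (χ : G → ℂ) t = (χ : G → ℂ) 1) : χ = principal G := by
  classical
  by_contra h
  have htop : kerSubgroup (χ : G → ℂ) (isCharacter_of_irr χ.2) = ⊤ :=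
    hgen _ (kerSubgroup_normal _) ((mem_kerSubgroup _ t).2 hval)
  have h0 := classInner_irr_ne h
  rw [classInner_def, Finset.sum_congr rfl fun (g : G) _ => show (χ : G → ℂ) g *
    conj (((principal G : IrrCharacter G) : G → ℂ) g) = (χ : G → ℂ) 1 by
      rw [show ((principal G : IrrCharacter G) : G → ℂ) g = 1 from rfl, map_one, mul_one]
      exact (mem_kerSubgroup (isCharacter_of_irr χ.2) g).1
        (show g ∈ kerSubgroup (χ : G → ℂ) (isCharacter_of_irr χ.2) from htop ▸ Subgroup.mem_top g),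
    Finset.sum_const, nsmul_eq_mul, Finset.card_univ, ← Nat.card_eq_fintype_card,
    inv_mul_cancel_left₀ (Nat.cast_ne_zero.2 Nat.card_pos.ne')] at h0
  exact IsIrrCharacter.apply_one_ne_zero χ.2 h0

/-- An isotropic plane makes the discriminant a square. -/
lemma isSquare_of_isotropic {X Y Z A B : ℤ} (hsum : 1 + X + Y + Z = 0)
    (hq : A ^ 2 * Y * Z + B ^ 2 * X * Z + (A + B) ^ 2 * X * Y = 0) (hB : B ≠ 0) :
    IsSquare (X * Y * Z) := by
  obtain ⟨E, hE⟩ : ∃ E, E = Y * (X + Z) * A + X * Y * B := ⟨_, rfl⟩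
  have h1 : E ^ 2 = B ^ 2 * (X * Y * Z) := by
    rw [hE]
    linear_combination (Y * (X + Z)) * hq - (B ^ 2 * X * Y * Z) * hsum
  have h2 : B ∣ E := (Int.pow_dvd_pow_iff two_ne_zero).1 (h1 ▸ Dvd.intro _ rfl)
  obtain ⟨q, rfl⟩ := h2
  refine ⟨q, mul_left_cancel₀ (pow_ne_zero 2 hB) ?_⟩
  linear_combination -h1

/-- **The degree relations in integers.** -/
theorem IsThreeData.int_relations (hM : IsPModular p M) (h : FrobeniusNormalizer P)
    (hm : frobIndex P = 3) {ζ : ((P : Subgroup G) →* ℂˣ) → IrrCharacter G}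
    {a : IrrCharacter G → ℤ} {δ : ℤ} (hD : IsThreeData M P ζ a δ) {t : G} (ht : orderOf t = 2)
    {ψ : (P : Subgroup G) →* ℂˣ} (hψ : ψ ≠ 1)
    (hψt : ∀ y : (P : Subgroup G), IsConj t (y : G) → thetaFun P ψ y = 3)
    {χ₂ χ₃ : IrrCharacter G} (h23 : χ₂ ≠ χ₃) (h2 : χ₂ ≠ principal G) (h3 : χ₃ ≠ principal G)
    (hX : frobOrd M ζ = {principal G, χ₂, χ₃}) {u₂ u₃ u₄ : ℤ}
    (e2 : (χ₂ : G → ℂ) t = u₂) (e3 : (χ₃ : G → ℂ) t = u₃) (e4 : (ζ ψ : G → ℂ) t = u₄) :
    (1 + a χ₂ * deg (χ₂ : G → ℂ) + a χ₃ * deg (χ₃ : G → ℂ) - δ * deg (ζ ψ : G → ℂ) = 0) ∧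
    (1 + a χ₂ * u₂ + a χ₃ * u₃ - δ * u₄ = 0) ∧
    ((deg (χ₂ : G → ℂ) : ℤ) * deg (χ₃ : G → ℂ) * deg (ζ ψ : G → ℂ) +
      a χ₂ * u₂ ^ 2 * deg (χ₃ : G → ℂ) * deg (ζ ψ : G → ℂ) +
      a χ₃ * u₃ ^ 2 * deg (χ₂ : G → ℂ) * deg (ζ ψ : G → ℂ) -
      δ * u₄ ^ 2 * deg (χ₂ : G → ℂ) * deg (χ₃ : G → ℂ) = 0) := by
  obtain ⟨R1, R2, R3⟩ := hD.involution_relations hM h hm ht hψ hψt
  have hp1 : ∀ g : G, ((principal G : IrrCharacter G) : G → ℂ) g = 1 := fun _ => rfl
  rw [hX, finsum_mem_triple _ h2.symm h3.symm h23, hD.a_principal, hp1, irr_apply_one_eq_deg χ₂,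
    irr_apply_one_eq_deg χ₃, irr_apply_one_eq_deg (ζ ψ)] at R1
  rw [hX, finsum_mem_triple _ h2.symm h3.symm h23, hD.a_principal, hp1, e2, e3, e4] at R2
  rw [hX, finsum_mem_triple _ h2.symm h3.symm h23, hD.a_principal, hp1, hp1, e2, e3, e4,
    irr_apply_one_eq_deg χ₂, irr_apply_one_eq_deg χ₃, irr_apply_one_eq_deg (ζ ψ)] at R3
  have d2 : (deg (χ₂ : G → ℂ) : ℂ) ≠ 0 := Nat.cast_ne_zero.2 (deg_irr_pos χ₂).ne'
  have d3 : (deg (χ₃ : G → ℂ) : ℂ) ≠ 0 := Nat.cast_ne_zero.2 (deg_irr_pos χ₃).ne'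
  have d4 : (deg (ζ ψ : G → ℂ) : ℂ) ≠ 0 := Nat.cast_ne_zero.2 (deg_irr_pos _).ne'
  refine ⟨?_, ?_, ?_⟩ <;> apply Int.cast_injective (α := ℂ) <;> push_cast
  · linear_combination R1
  · linear_combination R2
  · field_simp at R3
    linear_combination R3


end Cfsg.Lib.Blocks
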