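import Mathlib

/-!
# Dihedral groups acting on a group of odd order: the order formula

The elements of `G` normalising the subgroup `L` of odd order act on it by conjugation. For an
element `r` acting as an involution, `inv L r` is the set of inverted and `fix L r` the group of fixed
elements.
-/

set_option autoImplicit false
set_option linter.unusedSectionVars false

namespace Cfsg.Lib.Dihedral

universe u

variable {G : Type u} [Group G]

/-- The fixed elements. -/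
def fixed (L : Subgroup G) (r : G) : Subgroup G := L ⊓ Subgroup.centralizer ({r} : Set G)

theorem mem_fixed {L : Subgroup G} {r x : G} : x ∈ fixed L r ↔ x ∈ L ∧ r * x * r⁻¹ = x := by
  rw [fixed, Subgroup.mem_inf, Subgroup.mem_centralizer_singleton_iff]
  refine and_congr_right fun _ => ⟨fun h => ?_, fun h => ?_⟩
  · rw [← h, mul_inv_cancel_right]
  · exact (mul_inv_eq_iff_eq_mul.1 h).symm

/-- The inverted elements. -/
def inverted (L : Subgroup G) (r : G) : Type u := {x : G // x ∈ L ∧ r * x * r⁻¹ = x⁻¹}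

/-- `r` acts on `L` as an automorphism of order at most two. -/
structure InvAct (L : Subgroup G) (r : G) : Prop where
  mem : ∀ x ∈ L, r * x * r⁻¹ ∈ L
  invol : ∀ x ∈ L, r * (r * x * r⁻¹) * r⁻¹ = x

variable [Finite G] {L : Subgroup G} (hodd : ∀ x ∈ L, ¬ 2 ∣ orderOf x)

/-- The square root in a group of odd order. -/
noncomputable def root (x : G) : G := x ^ ((orderOf x + 1) / 2)

theorem root_mem {x : G} (hx : x ∈ L) : root x ∈ L := pow_mem hx _

theorem conj_root (g x : G) : g * root x * g⁻¹ = root (g * x * g⁻¹) := by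
  unfold root
  rw [← conj_pow, ← MulAut.conj_apply (g := g) (h := x), MulEquiv.orderOf_eq]

include hodd

theorem root_sq {x : G} (hx : x ∈ L) : root x * root x = x := by
  obtain ⟨k, hk⟩ : Odd (orderOf x) := Nat.not_even_iff_odd.1 fun h => hodd x hx (even_iff_two_dvd.1 h)
  unfold root
  rw [← pow_add, hk, show (2 * k + 1 + 1) / 2 + (2 * k + 1 + 1) / 2 = (2 * k + 1) + 1 by omega,
    pow_succ, ← hk, pow_orderOf_eq_one, one_mul]

theorem root_unique {x y : G} (hy : y ∈ L) (h : y * y = x) : root x = y := by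
  obtain ⟨k, hk⟩ : Odd (orderOf y) := Nat.not_even_iff_odd.1 fun h => hodd y hy (even_iff_two_dvd.1 h)
  have ho : orderOf x = orderOf y := by
    rw [← h, ← pow_two, Nat.Coprime.orderOf_pow]
    rw [Nat.coprime_comm, Nat.prime_two.coprime_iff_not_dvd]
    exact hodd y hy
  unfold root
  rw [ho, hk, show (2 * k + 1 + 1) / 2 = k + 1 by omega, ← h, ← pow_two, ← pow_mul,
    show 2 * (k + 1) = (2 * k + 1) + 1 by omega, pow_succ, ← hk, pow_orderOf_eq_one, one_mul]

theorem sq_inj {x y : G} (hx : x ∈ L) (hy : y ∈ L) (h : x * x = y * y) : x = y := by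
  rw [← root_unique hodd hx rfl, h, root_unique hodd hy rfl]

theorem root_inv {x : G} (hx : x ∈ L) : root x⁻¹ = (root x)⁻¹ := by
  refine root_unique hodd (inv_mem (root_mem hx)) ?_
  rw [← mul_inv_rev, root_sq hodd hx]

/-- A group of odd order splits into fixed and inverted elements. -/
theorem card_inverted_mul_card_fixed {r : G} (hr : InvAct L r) :
    Nat.card (inverted L r) * Nat.card (fixed L r) = Nat.card L := by
  rw [← Nat.card_prod]
  refine Nat.card_congr (Equiv.ofBijective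
    (fun z : inverted L r × fixed L r => (⟨z.1.1 * z.2.1, mul_mem z.1.2.1 (mem_fixed.1 z.2.2).1⟩ : L))
    ⟨?_, ?_⟩)
  · rintro ⟨⟨s, hs, hsi⟩, ⟨c, hc⟩⟩ ⟨⟨s', hs', hsi'⟩, ⟨c', hc'⟩⟩ h
    have h1 : s * c = s' * c' := congrArg Subtype.val h
    obtain ⟨hcL, hcf⟩ := mem_fixed.1 hc
    obtain ⟨hcL', hcf'⟩ := mem_fixed.1 hc'
    have h2 : s⁻¹ * c = s'⁻¹ * c' := by
      rw [← hsi, ← hsi', show r * s * r⁻¹ * c = r * s * r⁻¹ * (r * c * r⁻¹) by rw [hcf],
        show r * s' * r⁻¹ * c' = r * s' * r⁻¹ * (r * c' * r⁻¹) by rw [hcf']]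
      calc r * s * r⁻¹ * (r * c * r⁻¹) = r * (s * c) * r⁻¹ := by group
        _ = r * (s' * c') * r⁻¹ := by rw [h1]
        _ = _ := by group
    have h3 : s * s = s' * s' := by
      calc s * s = (s * c) * (s⁻¹ * c)⁻¹ := by group
        _ = (s' * c') * (s'⁻¹ * c')⁻¹ := by rw [h1, h2]
        _ = s' * s' := by group
    obtain rfl := sq_inj hodd hs hs' h3
    obtain rfl := mul_left_cancel h1
    rfl
  · rintro ⟨l, hl⟩
    set v := l * (r * l * r⁻¹)⁻¹ with hv
    have hvL : v ∈ L := mul_mem hl (inv_mem (hr.mem l hl))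
    have hvi : r * v * r⁻¹ = v⁻¹ := by
      rw [hv]
      calc r * (l * (r * l * r⁻¹)⁻¹) * r⁻¹ = (r * l * r⁻¹) * (r * (r * l * r⁻¹) * r⁻¹)⁻¹ := by group
        _ = (r * l * r⁻¹) * l⁻¹ := by rw [hr.invol l hl]
        _ = _ := by group
    set s := root v with hs
    have hsi : r * s * r⁻¹ = s⁻¹ := by rw [hs, conj_root, hvi, root_inv hodd hvL]
    have hc : s⁻¹ * l ∈ fixed L r := by
      refine mem_fixed.2 ⟨mul_mem (inv_mem (root_mem hvL)) hl, ?_⟩
      calc r * (s⁻¹ * l) * r⁻¹ = (r * s * r⁻¹)⁻¹ * (r * l * r⁻¹) := by group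
        _ = s * (v⁻¹ * l) := by rw [hsi, inv_inv, hv]; group
        _ = s * ((s * s)⁻¹ * l) := by rw [hs, root_sq hodd hvL]
        _ = _ := by group
    exact ⟨(⟨s, root_mem hvL, hsi⟩, ⟨s⁻¹ * l, hc⟩), Subtype.ext (mul_inv_cancel_left _ _)⟩

/-- The inverted elements split under a second, commuting, action. -/
theorem card_inverted_split {a b : G} (hb : InvAct L b)
    (hcomm : ∀ x ∈ L, a * (b * x * b⁻¹) * a⁻¹ = b * (a * x * a⁻¹) * b⁻¹) :
    Nat.card (inverted L a) =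
      Nat.card (inverted (fixed L b) a) * Nat.card {x : G // (x ∈ L ∧ a * x * a⁻¹ = x⁻¹) ∧ b * x * b⁻¹ = x⁻¹} := by
  rw [← Nat.card_prod]
  refine (Nat.card_congr (Equiv.ofBijective (fun z : inverted (fixed L b) a ×
      {x : G // (x ∈ L ∧ a * x * a⁻¹ = x⁻¹) ∧ b * x * b⁻¹ = x⁻¹} =>
    (⟨z.1.1 * z.2.1 * z.1.1,
      mul_mem (mul_mem (mem_fixed.1 z.1.2.1).1 z.2.2.1.1) (mem_fixed.1 z.1.2.1).1, by
        calc a * (z.1.1 * z.2.1 * z.1.1) * a⁻¹ =
              (a * z.1.1 * a⁻¹) * (a * z.2.1 * a⁻¹) * (a * z.1.1 * a⁻¹) := by group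
          _ = _ := by rw [z.1.2.2, z.2.2.1.2]; group⟩ : inverted L a)) ⟨?_, ?_⟩)).symm
  · rintro ⟨⟨u, hu, hua⟩, ⟨v, ⟨hv, hva⟩, hvb⟩⟩ ⟨⟨u', hu', hua'⟩, ⟨v', ⟨hv', hva'⟩, hvb'⟩⟩ h
    have h1 : u * v * u = u' * v' * u' := congrArg Subtype.val h
    obtain ⟨huL, hub⟩ := mem_fixed.1 hu
    obtain ⟨huL', hub'⟩ := mem_fixed.1 hu'
    have h2 : u * v⁻¹ * u = u' * v'⁻¹ * u' := by
      rw [← hvb, ← hvb']
      calc u * (b * v * b⁻¹) * u = (b * u * b⁻¹) * (b * v * b⁻¹) * (b * u * b⁻¹) := by rw [hub]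
        _ = b * (u * v * u) * b⁻¹ := by group
        _ = b * (u' * v' * u') * b⁻¹ := by rw [h1]
        _ = (b * u' * b⁻¹) * (b * v' * b⁻¹) * (b * u' * b⁻¹) := by group
        _ = _ := by rw [hub']
    -- `w = u²` solves `b(l) = w l⁻¹ w`, uniquely
    set l := u * v * u with hl
    have hw : (u * u) * l⁻¹ * (u * u) = (u' * u') * l⁻¹ * (u' * u') := by
      calc (u * u) * l⁻¹ * (u * u) = u * v⁻¹ * u := by rw [hl]; group
        _ = u' * v'⁻¹ * u' := h2
        _ = (u' * u') * (u' * v' * u')⁻¹ * (u' * u') := by group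
        _ = _ := by rw [h1]
    have hlL : l ∈ L := mul_mem (mul_mem huL hv) huL
    set m := root l with hm
    have hmm : m * m = l := root_sq hodd hlL
    have hmL : m ∈ L := root_mem hlL
    have huu : u * u = u' * u' := by
      have key : m⁻¹ * (u * u) * m⁻¹ = m⁻¹ * (u' * u') * m⁻¹ := by
        refine sq_inj hodd (mul_mem (mul_mem (inv_mem hmL) (mul_mem huL huL)) (inv_mem hmL))
          (mul_mem (mul_mem (inv_mem hmL) (mul_mem huL' huL')) (inv_mem hmL)) ?_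
        calc m⁻¹ * (u * u) * m⁻¹ * (m⁻¹ * (u * u) * m⁻¹) =
              m⁻¹ * ((u * u) * (m * m)⁻¹ * (u * u)) * m⁻¹ := by group
          _ = m⁻¹ * ((u' * u') * (m * m)⁻¹ * (u' * u')) * m⁻¹ := by rw [hmm, hw]
          _ = _ := by group
      exact mul_left_cancel (mul_right_cancel key)
    obtain rfl := sq_inj hodd huL huL' huu
    obtain rfl := mul_left_cancel (mul_right_cancel h1)
    rfl
  · rintro ⟨l, hlL, hla⟩
    set m := root l with hm
    have hmm : m * m = l := root_sq hodd hlL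
    have hmL : m ∈ L := root_mem hlL
    have hma : a * m * a⁻¹ = m⁻¹ := by rw [hm, conj_root, hla, root_inv hodd hlL]
    set bl := b * l * b⁻¹ with hbl
    have hblL : bl ∈ L := hb.mem l hlL
    have hbla : a * bl * a⁻¹ = bl⁻¹ := by rw [hbl, hcomm l hlL, hla]; group
    have hmid : m⁻¹ * bl * m⁻¹ ∈ L := mul_mem (mul_mem (inv_mem hmL) hblL) (inv_mem hmL)
    set z := root (m⁻¹ * bl * m⁻¹) with hz
    have hzL : z ∈ L := root_mem hmid
    set w := m * z * m with hw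
    have hwL : w ∈ L := mul_mem (mul_mem hmL hzL) hmL
    have hweq : w * l⁻¹ * w = bl := by
      calc w * l⁻¹ * w = m * z * m * (m * m)⁻¹ * (m * z * m) := by rw [hmm]
        _ = m * (z * z) * m := by group
        _ = bl := by rw [hz, root_sq hodd hmid]; group
    -- uniqueness of `w`
    have huniq : ∀ w' ∈ L, w' * l⁻¹ * w' = bl → w' = w := by
      intro w' hw' he
      have key : m⁻¹ * w' * m⁻¹ = z := by
        refine (root_unique hodd (mul_mem (mul_mem (inv_mem hmL) hw') (inv_mem hmL)) ?_).symm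
        calc m⁻¹ * w' * m⁻¹ * (m⁻¹ * w' * m⁻¹) = m⁻¹ * (w' * (m * m)⁻¹ * w') * m⁻¹ := by group
          _ = _ := by rw [hmm, he]
      rw [hw, ← key]
      group
    have hwb : b * w * b⁻¹ = w := by
      refine huniq _ (hb.mem w hwL) ?_
      have h1 : b * bl * b⁻¹ = l := hb.invol l hlL
      have h2 : (b * w * b⁻¹) * bl⁻¹ * (b * w * b⁻¹) = l := by
        calc (b * w * b⁻¹) * bl⁻¹ * (b * w * b⁻¹) = b * (w * l⁻¹ * w) * b⁻¹ := by rw [hbl]; group
          _ = l := by rw [hweq, h1]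
      calc (b * w * b⁻¹) * l⁻¹ * (b * w * b⁻¹)
          = (b * w * b⁻¹) * ((b * w * b⁻¹) * bl⁻¹ * (b * w * b⁻¹))⁻¹ * (b * w * b⁻¹) := by rw [h2]
        _ = bl := by group
    have hwa : a * w * a⁻¹ = w⁻¹ := by
      have h1 : (a * w * a⁻¹)⁻¹ = w := by
        have hmem : (a * w * a⁻¹)⁻¹ ∈ L := by
          rw [hw, show a * (m * z * m) * a⁻¹ = (a * m * a⁻¹) * (a * z * a⁻¹) * (a * m * a⁻¹) by group, hma,
            hz, conj_root]
          refine inv_mem (mul_mem (mul_mem (inv_mem hmL) (root_mem ?_)) (inv_mem hmL))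
          rw [show a * (m⁻¹ * bl * m⁻¹) * a⁻¹ = (a * m * a⁻¹)⁻¹ * (a * bl * a⁻¹) * (a * m * a⁻¹)⁻¹ by group,
            hma, hbla]
          exact mul_mem (mul_mem (inv_mem (inv_mem hmL)) (inv_mem hblL)) (inv_mem (inv_mem hmL))
        refine huniq _ hmem ?_
        calc (a * w * a⁻¹)⁻¹ * l⁻¹ * (a * w * a⁻¹)⁻¹
            = (a * w * a⁻¹)⁻¹ * (a * l * a⁻¹) * (a * w * a⁻¹)⁻¹ := by rw [hla]
          _ = (a * (w * l⁻¹ * w) * a⁻¹)⁻¹ := by group
          _ = bl := by rw [hweq, hbla, inv_inv]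
      nth_rw 2 [← h1]
      rw [inv_inv]
    set u := root w with hu
    have huL : u ∈ L := root_mem hwL
    have huu : u * u = w := root_sq hodd hwL
    have hub : b * u * b⁻¹ = u := by rw [hu, conj_root, hwb]
    have hua : a * u * a⁻¹ = u⁻¹ := by rw [hu, conj_root, hwa, root_inv hodd hwL]
    set v := u⁻¹ * l * u⁻¹ with hv
    have hvL : v ∈ L := mul_mem (mul_mem (inv_mem huL) hlL) (inv_mem huL)
    have hva : a * v * a⁻¹ = v⁻¹ := by
      calc a * v * a⁻¹ = (a * u * a⁻¹)⁻¹ * (a * l * a⁻¹) * (a * u * a⁻¹)⁻¹ := by rw [hv]; group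
        _ = _ := by rw [hua, hla, hv]; group
    have hvb : b * v * b⁻¹ = v⁻¹ := by
      calc b * v * b⁻¹ = (b * u * b⁻¹)⁻¹ * bl * (b * u * b⁻¹)⁻¹ := by rw [hv, hbl]; group
        _ = u⁻¹ * (w * l⁻¹ * w) * u⁻¹ := by rw [hub, hweq]
        _ = _ := by rw [hv, ← huu]; group
    exact ⟨(⟨u, mem_fixed.2 ⟨huL, hub⟩, hua⟩, ⟨v, ⟨hvL, hva⟩, hvb⟩), Subtype.ext (by
      show u * v * u = l
      rw [hv]; group)⟩

omit hodd in
theorem InvAct.restrict {a b : G} (ha : InvAct L a)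
    (hcomm : ∀ x ∈ L, a * (b * x * b⁻¹) * a⁻¹ = b * (a * x * a⁻¹) * b⁻¹) : InvAct (fixed L b) a := by
  refine ⟨fun x hx => ?_, fun x hx => ha.invol x (mem_fixed.1 hx).1⟩
  obtain ⟨hxL, hxb⟩ := mem_fixed.1 hx
  exact mem_fixed.2 ⟨ha.mem x hxL, by rw [← hcomm x hxL, hxb]⟩

/-- The order formula for a four-group. -/
theorem four_group_formula {a b : G} (ha : InvAct L a) (hb : InvAct L b)
    (hcomm : ∀ x ∈ L, a * (b * x * b⁻¹) * a⁻¹ = b * (a * x * a⁻¹) * b⁻¹) :
    Nat.card L * Nat.card (fixed (fixed L a) b) ^ 2 =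
      Nat.card (fixed L a) * Nat.card (fixed L b) * Nat.card (fixed L (a * b)) := by
  have hconj : ∀ x, a * b * x * (a * b)⁻¹ = a * (b * x * b⁻¹) * a⁻¹ := fun x => by group
  have hcomm' : ∀ x ∈ L, a * ((a * b) * x * (a * b)⁻¹) * a⁻¹ = (a * b) * (a * x * a⁻¹) * (a * b)⁻¹ := by
    intro x hx
    rw [hconj, hconj, ← hcomm x hx]
  have hoddf : ∀ c : G, ∀ x ∈ fixed L c, ¬ 2 ∣ orderOf x := fun c x hx => hodd x (mem_fixed.1 hx).1
  have e0 := card_inverted_mul_card_fixed hodd ha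
  have e1 := card_inverted_mul_card_fixed (hoddf b) (ha.restrict hcomm)
  have e2 := card_inverted_mul_card_fixed (hoddf (a * b)) (ha.restrict hcomm')
  have e3 := card_inverted_split hodd hb hcomm
  have e4 : Nat.card {x : G // (x ∈ L ∧ a * x * a⁻¹ = x⁻¹) ∧ b * x * b⁻¹ = x⁻¹} =
      Nat.card (inverted (fixed L (a * b)) a) := by
    refine Nat.card_congr (Equiv.subtypeEquivRight fun x => ?_)
    rw [mem_fixed, hconj]
    constructor
    · rintro ⟨⟨hxL, hxa⟩, hxb⟩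
      refine ⟨⟨hxL, ?_⟩, hxa⟩
      rw [hxb, show a * x⁻¹ * a⁻¹ = (a * x * a⁻¹)⁻¹ by group, hxa, inv_inv]
    · rintro ⟨⟨hxL, hxab⟩, hxa⟩
      refine ⟨⟨hxL, hxa⟩, ?_⟩
      have h := congrArg (fun t => a * t * a⁻¹) hxab
      rw [ha.invol _ (hb.mem x hxL), hxa] at h
      exact h
  have hd1 : fixed (fixed L b) a = fixed (fixed L a) b := by
    ext x; simp only [mem_fixed]; tauto
  have hd2 : fixed (fixed L (a * b)) a = fixed (fixed L a) b := by
    ext x
    simp only [mem_fixed, hconj]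
    constructor
    · rintro ⟨⟨hxL, h⟩, hxa⟩
      refine ⟨⟨hxL, hxa⟩, ?_⟩
      have h' := congrArg (fun t => a * t * a⁻¹) h
      rwa [ha.invol _ (hb.mem x hxL), hxa] at h'
    · rintro ⟨⟨hxL, hxa⟩, hxb⟩
      exact ⟨⟨hxL, by rw [hxb, hxa]⟩, hxa⟩
  rw [hd1] at e1
  rw [hd2] at e2
  rw [e4] at e3
  rw [← e0, ← e1, ← e2, e3]
  ring

omit hodd in
/-- Conjugation by an element normalising `L` carries fixed elements to fixed elements. -/
theorem card_fixed_conj {j r r' : G} (hj : ∀ x ∈ L, j * x * j⁻¹ ∈ L)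
    (hact : ∀ x ∈ L, r' * x * r'⁻¹ = (j * r * j⁻¹) * x * (j * r * j⁻¹)⁻¹) :
    Nat.card (fixed L r) ≤ Nat.card (fixed L r') := by
  refine Nat.card_le_card_of_injective (fun x : fixed L r => (⟨j * x * j⁻¹, mem_fixed.2 ⟨hj x (mem_fixed.1 x.2).1, ?_⟩⟩ : fixed L r')) fun x y h => ?_
  · rw [hact _ (hj x (mem_fixed.1 x.2).1)]
    calc (j * r * j⁻¹) * (j * x * j⁻¹) * (j * r * j⁻¹)⁻¹ = j * (r * x * r⁻¹) * j⁻¹ := by group
      _ = _ := by rw [(mem_fixed.1 x.2).2]
  · have h' : j * (x : G) * j⁻¹ = j * (y : G) * j⁻¹ := congrArg Subtype.val h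
    exact Subtype.ext (mul_left_cancel (mul_right_cancel h'))

omit hodd in
theorem InvAct.mul_right_of {r e : G} (hr : InvAct L r) (he : InvAct L e)
    (hcomm : ∀ x ∈ L, r * (e * x * e⁻¹) * r⁻¹ = e * (r * x * r⁻¹) * e⁻¹) : InvAct L (r * e) := by
  refine ⟨fun x hx => ?_, fun x hx => ?_⟩
  · rw [show r * e * x * (r * e)⁻¹ = r * (e * x * e⁻¹) * r⁻¹ by group]
    exact hr.mem _ (he.mem x hx)
  · have hy : e * x * e⁻¹ ∈ L := he.mem x hx
    calc r * e * (r * e * x * (r * e)⁻¹) * (r * e)⁻¹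
        = r * (e * (r * (e * x * e⁻¹) * r⁻¹) * e⁻¹) * r⁻¹ := by group
      _ = r * (r * (e * (e * x * e⁻¹) * e⁻¹) * r⁻¹) * r⁻¹ := by rw [hcomm _ hy]
      _ = x := by rw [he.invol x hx, hr.invol x hx]

omit hodd in
/-- The order formula for a dihedral action. -/
theorem dihedral_formula (k : ℕ) : ∀ (L : Subgroup G), (∀ x ∈ L, ¬ 2 ∣ orderOf x) → ∀ r ρ : G,
    InvAct L r → (∀ x ∈ L, ρ * x * ρ⁻¹ ∈ L) → r * ρ * r⁻¹ = ρ⁻¹ →
    (∀ x ∈ L, ρ ^ 2 ^ k * x * (ρ ^ 2 ^ k)⁻¹ = x) →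
    Nat.card L * Nat.card (fixed (fixed L r) ρ) ^ 2 =
      Nat.card (fixed L r) * Nat.card (fixed L (r * ρ)) * Nat.card (fixed L ρ) := by
  induction k with
  | zero =>
    intro L hodd r ρ hr hρ hrel htriv
    simp only [pow_zero, pow_one] at htriv
    have h1 : fixed L ρ = L := le_antisymm (fun x hx => (mem_fixed.1 hx).1)
      fun x hx => mem_fixed.2 ⟨hx, htriv x hx⟩
    have h2 : fixed (fixed L r) ρ = fixed L r := le_antisymm (fun x hx => (mem_fixed.1 hx).1)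
      fun x hx => mem_fixed.2 ⟨hx, htriv x (mem_fixed.1 hx).1⟩
    have h3 : fixed L (r * ρ) = fixed L r := by
      ext x
      simp only [mem_fixed]
      refine and_congr_right fun hx => ?_
      rw [show r * ρ * x * (r * ρ)⁻¹ = r * (ρ * x * ρ⁻¹) * r⁻¹ by group, htriv x hx]
    rw [h1, h2, h3]
    ring
  | succ k ih =>
    intro L hodd r ρ hr hρ hrel htriv
    have hpow : ∀ (i : ℕ), ∀ x ∈ L, ρ ^ i * x * (ρ ^ i)⁻¹ ∈ L := by
      intro i
      induction i with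
      | zero => intro x hx; simpa using hx
      | succ i ihi =>
        intro x hx
        rw [pow_succ', show ρ * ρ ^ i * x * (ρ * ρ ^ i)⁻¹ = ρ * (ρ ^ i * x * (ρ ^ i)⁻¹) * ρ⁻¹ by group]
        exact hρ _ (ihi x hx)
    set e := ρ ^ 2 ^ k with he
    have hee : ∀ x ∈ L, e * (e * x * e⁻¹) * e⁻¹ = x := fun x hx => by
      rw [show e * (e * x * e⁻¹) * e⁻¹ = (e * e) * x * (e * e)⁻¹ by group, he, ← pow_add,
        show 2 ^ k + 2 ^ k = 2 ^ (k + 1) by ring]
      exact htriv x hx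
    have heact : InvAct L e := ⟨hpow _, hee⟩
    have hre : r * e * r⁻¹ = e⁻¹ := by rw [he, ← conj_pow, hrel, inv_pow]
    have heinv : ∀ x ∈ L, e⁻¹ * x * e⁻¹⁻¹ = e * x * e⁻¹ := fun x hx => by
      have h := congrArg (fun t => e⁻¹ * t * e) (hee x hx)
      rw [inv_inv, ← h]
      group
    have hrec : ∀ x ∈ L, r * (e * x * e⁻¹) * r⁻¹ = e * (r * x * r⁻¹) * e⁻¹ := fun x hx => by
      rw [show r * (e * x * e⁻¹) * r⁻¹ = (r * e * r⁻¹) * (r * x * r⁻¹) * (r * e * r⁻¹)⁻¹ by group, hre]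
      exact heinv _ (hr.mem x hx)
    rcases k with _ | k
    · simp only [he, pow_zero, pow_one] at heact hrec
      rw [four_group_formula hodd hr heact hrec]
      ring
    -- `r e` is conjugate to `r`
    set j := ρ ^ 2 ^ k with hj
    have hje : j * j = e := by rw [he, hj, ← pow_add]; congr 1; ring
    have hconjre : ∀ s : G, s * ρ * s⁻¹ = ρ⁻¹ → InvAct L s →
        Nat.card (fixed L (s * e)) = Nat.card (fixed L s) := by
      intro s hsrel hs
      have hsj : s * j * s⁻¹ = j⁻¹ := by rw [hj, ← conj_pow, hsrel, inv_pow]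
      have hse : s * e * s⁻¹ = e⁻¹ := by rw [he, ← conj_pow, hsrel, inv_pow]
      have hsj' : j * s * j⁻¹ = e * s := by
        rw [← hje]
        calc j * s * j⁻¹ = j * (s * j⁻¹ * s⁻¹) * s := by group
          _ = j * (s * j * s⁻¹)⁻¹ * s := by group
          _ = _ := by rw [hsj, inv_inv]
      have hsec : ∀ x ∈ L, s * (e * x * e⁻¹) * s⁻¹ = e * (s * x * s⁻¹) * e⁻¹ := fun x hx => by
        rw [show s * (e * x * e⁻¹) * s⁻¹ = (s * e * s⁻¹) * (s * x * s⁻¹) * (s * e * s⁻¹)⁻¹ by group, hse]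
        exact heinv _ (hs.mem x hx)
      have hact : ∀ x ∈ L, (s * e) * x * (s * e)⁻¹ = (j * s * j⁻¹) * x * (j * s * j⁻¹)⁻¹ := fun x hx => by
        rw [hsj', show s * e * x * (s * e)⁻¹ = s * (e * x * e⁻¹) * s⁻¹ by group, hsec x hx]
        group
      refine le_antisymm ?_ (card_fixed_conj (j := j) (hpow _) hact)
      refine card_fixed_conj (j := j) (r := s * e) (r' := s) (hpow _) fun x hx => ?_
      have hse_act : j * (s * e) * j⁻¹ = e * s * e := by
        calc j * (s * e) * j⁻¹ = (j * s * j⁻¹) * (j * e * j⁻¹) := by group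
          _ = _ := by
              rw [hsj', show j * e * j⁻¹ = e by rw [← hje]; group]
      rw [hse_act, show e * s * e * x * (e * s * e)⁻¹ = e * (s * (e * x * e⁻¹) * s⁻¹) * e⁻¹ by group,
        hsec x hx, hee _ (hs.mem x hx)]
    set r' := r * ρ with hr'
    have hr'rel : r' * ρ * r'⁻¹ = ρ⁻¹ := by
      rw [hr', show r * ρ * ρ * (r * ρ)⁻¹ = r * ρ * r⁻¹ by group, hrel]
    have hr'act : InvAct L r' := ⟨fun x hx => by
        rw [hr', show r * ρ * x * (r * ρ)⁻¹ = r * (ρ * x * ρ⁻¹) * r⁻¹ by group]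
        exact hr.mem _ (hρ x hx), fun x hx => by
        calc r' * (r' * x * r'⁻¹) * r'⁻¹
            = (r * ρ * r⁻¹) * (r * (r * (ρ * x * ρ⁻¹) * r⁻¹) * r⁻¹) * (r * ρ * r⁻¹)⁻¹ := by rw [hr']; group
          _ = x := by rw [hr.invol _ (hρ x hx), hrel]; group⟩
    have hr'e : r' * e * r'⁻¹ = e⁻¹ := by rw [he, ← conj_pow, hr'rel, inv_pow]
    have hr'ec : ∀ x ∈ L, r' * (e * x * e⁻¹) * r'⁻¹ = e * (r' * x * r'⁻¹) * e⁻¹ := fun x hx => by
      rw [show r' * (e * x * e⁻¹) * r'⁻¹ = (r' * e * r'⁻¹) * (r' * x * r'⁻¹) * (r' * e * r'⁻¹)⁻¹ by group,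
        hr'e]
      exact heinv _ (hr'act.mem x hx)
    have K1 := four_group_formula hodd hr heact hrec
    have K2 := four_group_formula hodd hr'act heact hr'ec
    rw [hconjre r hrel hr] at K1
    rw [hconjre r' hr'rel hr'act] at K2
    have hM : ∀ x ∈ fixed L e, ρ * x * ρ⁻¹ ∈ fixed L e := fun x hx => by
      obtain ⟨hxL, hxe⟩ := mem_fixed.1 hx
      refine mem_fixed.2 ⟨hρ x hxL, ?_⟩
      have hc : e * ρ = ρ * e := by rw [he, ← pow_succ, ← pow_succ']
      calc e * (ρ * x * ρ⁻¹) * e⁻¹ = (e * ρ) * x * (e * ρ)⁻¹ := by group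
        _ = ρ * (e * x * e⁻¹) * ρ⁻¹ := by rw [hc]; group
        _ = _ := by rw [hxe]
    have IH := ih (fixed L e) (fun x hx => hodd x (mem_fixed.1 hx).1) r ρ (hr.restrict hrec) hM hrel
      fun x hx => (mem_fixed.1 hx).2
    have q1 : fixed (fixed (fixed L e) r) ρ = fixed (fixed L r) ρ := by
      ext x
      simp only [mem_fixed]
      refine ⟨fun ⟨⟨⟨a, _⟩, c⟩, d⟩ => ⟨⟨a, c⟩, d⟩, fun ⟨⟨a, c⟩, d⟩ => ⟨⟨⟨a, ?_⟩, c⟩, d⟩⟩
      rw [he]
      have hcm : Commute ρ x := mul_inv_eq_iff_eq_mul.1 d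
      rw [(hcm.pow_left _).eq, mul_inv_cancel_right]
    have q2 : fixed (fixed L e) ρ = fixed L ρ := by
      ext x
      simp only [mem_fixed]
      refine ⟨fun ⟨⟨a, _⟩, d⟩ => ⟨a, d⟩, fun ⟨a, d⟩ => ⟨⟨a, ?_⟩, d⟩⟩
      rw [he]
      have hcm : Commute ρ x := mul_inv_eq_iff_eq_mul.1 d
      rw [(hcm.pow_left _).eq, mul_inv_cancel_right]
    have q3 : fixed (fixed L e) r = fixed (fixed L r) e := by ext x; simp only [mem_fixed]; tauto
    have q4 : fixed (fixed L e) r' = fixed (fixed L r') e := by ext x; simp only [mem_fixed]; tauto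
    rw [q1, q2, q3, q4] at IH
    set N := Nat.card L
    set D := Nat.card (fixed (fixed L r) ρ)
    set M := Nat.card (fixed L e)
    set A := Nat.card (fixed L r)
    set A' := Nat.card (fixed L r')
    set V := Nat.card (fixed (fixed L r) e)
    set V' := Nat.card (fixed (fixed L r') e)
    set R := Nat.card (fixed L ρ)
    have hMpos : 0 < M := Nat.card_pos
    have hsq : (M * (N * D ^ 2)) ^ 2 = (M * (A * A' * R)) ^ 2 := by
      calc (M * (N * D ^ 2)) ^ 2 = N ^ 2 * (M * D ^ 2) ^ 2 := by ring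
        _ = N ^ 2 * (V * V' * R) ^ 2 := by rw [IH]
        _ = (N * V ^ 2) * (N * V' ^ 2) * R ^ 2 := by ring
        _ = (A * A * M) * (A' * A' * M) * R ^ 2 := by rw [K1, K2]; ring
        _ = _ := by ring
    exact Nat.eq_of_mul_eq_mul_left hMpos (Nat.pow_left_injective two_ne_zero hsq)

end Cfsg.Lib.Dihedral
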