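/-
Ito: normal abelian Sylow subgroups and degrees prime to `p`.
-/
import Cfsg.Agent.Chars.Clifford
import Cfsg.Agent.Chars.Inertia
import Cfsg.Agent.Chars.Perm
import Cfsg.Agent.Chars.PPowerDegrees
import Cfsg.Agent.GaschutzYen.Basic
import Cfsg.Agent.S0169
import Cfsg.Agent.Coprime.Hall
import Mathlib

set_option linter.unusedSectionVars false

namespace Cfsg.Lib.Blocks

open Cfsg.Lib.Chars

universe u

variable {G : Type u} [Group G] [Finite G]

/-- A constituent of the restriction has degree dividing the degree, times the orbit. -/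
lemma deg_eq_mult_orbit [Fintype G] (N : Subgroup G) [N.Normal] [Fintype N] {χ : G → ℂ}
    (hχ : Cfsg.IsIrrCharacter G χ) {θ : N → ℂ} (hθ : Cfsg.IsIrrCharacter N θ)
    (hc : Cfsg.classInner (fun n : N => χ n) θ ≠ 0) :
    ∃ e : ℕ, deg χ = e * ((conjOrbit N θ).card * deg θ) := by
  obtain ⟨e, he⟩ := IsCharacter.exists_mult (IsCharacter.restrict (isCharacter_of_irr hχ) N) hθ
  have hcl := clifford N hχ hθ hc
  rw [he] at hcl
  refine ⟨e, Nat.cast_injective (R := ℂ) ?_⟩
  have h2 := congrFun hcl 1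
  simp only [OneMemClass.coe_one, Pi.smul_apply, Finset.sum_apply, smul_eq_mul] at h2
  rw [show (deg χ : ℂ) = χ 1 from (irr_apply_one_eq_deg ⟨χ, hχ⟩).symm, h2,
    Finset.sum_congr rfl (g := fun _ => θ 1) fun ψ hψ => ?_, Finset.sum_const, nsmul_eq_mul,
    show θ 1 = (deg θ : ℂ) from irr_apply_one_eq_deg ⟨θ, hθ⟩]
  · push_cast; ring
  · obtain ⟨g, rfl⟩ := (mem_conjOrbit N).1 hψ
    simp [conjN]; rfl

lemma degrees_normal {p : ℕ} (hdeg : ∀ χ : Cfsg.IrrCharacter G, ¬ p ∣ deg (χ : G → ℂ))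
    (N : Subgroup G) [N.Normal] (θ : Cfsg.IrrCharacter N) : ¬ p ∣ deg (θ : N → ℂ) := by
  haveI := Fintype.ofFinite G
  haveI := Fintype.ofFinite N
  obtain ⟨χ, hχ, hc⟩ := exists_over N θ.2
  obtain ⟨e, he⟩ := deg_eq_mult_orbit N hχ θ.2 hc
  exact fun h => hdeg ⟨χ, hχ⟩ (he ▸ dvd_mul_of_dvd_right (dvd_mul_of_dvd_right h _) e)

lemma degrees_quotient {p : ℕ} (hdeg : ∀ χ : Cfsg.IrrCharacter G, ¬ p ∣ deg (χ : G → ℂ))
    (N : Subgroup G) [N.Normal] (χ : Cfsg.IrrCharacter (G ⧸ N)) : ¬ p ∣ deg (χ : G ⧸ N → ℂ) := by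
  have h1 := IsIrrCharacter.comp_surjective χ.2 (QuotientGroup.mk' N) (QuotientGroup.mk'_surjective N)
  have h2 : deg (fun g => (χ : G ⧸ N → ℂ) (QuotientGroup.mk' N g)) = deg (χ : G ⧸ N → ℂ) := by
    apply Nat.cast_injective (R := ℂ)
    rw [← irr_apply_one_eq_deg ⟨_, h1⟩, ← irr_apply_one_eq_deg χ]
    exact congrArg (χ : G ⧸ N → ℂ) (map_one _)
  exact h2 ▸ hdeg ⟨_, h1⟩

/-- A proper subgroup misses a conjugacy class. -/
lemma eq_top_of_meets {N : Type u} [Group N] [Finite N] (C : Subgroup N)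
    (h : ∀ g : N, ∃ c : N, c⁻¹ * g * c ∈ C) : C = ⊤ := by
  classical
  haveI := Fintype.ofFinite N
  haveI := Fintype.ofFinite (N ⧸ C)
  rw [← Subgroup.index_eq_one, Subgroup.index_eq_card, Nat.card_eq_fintype_card]
  have hsum := MulAction.sum_card_fixedBy_eq_card_orbits_mul_card_group N (N ⧸ C)
  haveI : Subsingleton (MulAction.orbitRel.Quotient N (N ⧸ C)) := ⟨fun a b => by
    induction a using Quotient.inductionOn' with
    | h x =>
      induction b using Quotient.inductionOn' with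
      | h y => exact Quotient.sound' (MulAction.exists_smul_eq N y x)⟩
  have h1 : Fintype.card (MulAction.orbitRel.Quotient N (N ⧸ C)) ≤ 1 :=
    Fintype.card_le_one_iff_subsingleton.2 inferInstance
  have hge : ∀ g : N, 1 ≤ Fintype.card (MulAction.fixedBy (N ⧸ C) g) := fun g => by
    obtain ⟨c, hc⟩ := h g
    refine Fintype.card_pos_iff.2 ⟨⟨(c : N ⧸ C), ?_⟩⟩
    show ((g * c : N) : N ⧸ C) = (c : N ⧸ C)
    rw [eq_comm, QuotientGroup.eq, ← mul_assoc]
    exact hc
  by_contra hne
  have hlt : ∑ _g : N, 1 < ∑ g : N, Fintype.card (MulAction.fixedBy (N ⧸ C) g) := by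
    refine Finset.sum_lt_sum (fun g _ => hge g) ⟨1, Finset.mem_univ _, ?_⟩
    have h2 : Fintype.card (MulAction.fixedBy (N ⧸ C) (1 : N)) = Fintype.card (N ⧸ C) :=
      Fintype.card_congr (Equiv.subtypeUnivEquiv fun x => one_smul N x)
    have h3 : 0 < Fintype.card (N ⧸ C) := Fintype.card_pos
    omega
  rw [hsum, Finset.sum_const, smul_eq_mul, mul_one, Finset.card_univ] at hlt
  nlinarith [Fintype.card_pos (α := N)]

variable {p : ℕ} [hp : Fact p.Prime]

/-- The central case. -/
lemma sylow_normal_of_sup_eq_top (hdeg : ∀ χ : Cfsg.IrrCharacter G, ¬ p ∣ deg (χ : G → ℂ))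
    (N : Subgroup G) [N.Normal] (hN : (Nat.card N).Coprime p) (P : Sylow p G)
    (htop : (P : Subgroup G) ⊔ N = ⊤) : (P : Subgroup G).Normal := by
  classical
  haveI := Fintype.ofFinite G
  haveI := Fintype.ofFinite N
  have hNi : ∃ k : ℕ, N.index = p ^ k := by
    have h1 : N.index ∣ Nat.card (P : Subgroup G) := by
      rw [← Subgroup.relIndex_top_right, ← htop, Subgroup.relIndex_sup_right]
      exact Subgroup.relIndex_dvd_card _ _
    obtain ⟨j, hj⟩ := IsPGroup.iff_card.1 P.2
    rw [hj] at h1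
    obtain ⟨k, -, hk⟩ := (Nat.dvd_prime_pow hp.out).1 h1
    exact ⟨k, hk⟩
  have hfix : ∀ (θ : Cfsg.IrrCharacter N) (g : G), conjN N g (θ : N → ℂ) = (θ : N → ℂ) := by
    intro θ g
    obtain ⟨χ, hχ, hc⟩ := exists_over N θ.2
    obtain ⟨e, he⟩ := deg_eq_mult_orbit N hχ θ.2 hc
    have horb : (conjOrbit N (θ : N → ℂ)).card = 1 := by
      obtain ⟨k, hk⟩ := hNi
      have h2 := card_conjOrbit N (θ : N → ℂ)
      obtain ⟨c, hc'⟩ := Subgroup.card_dvd_of_le (le_inertia (N := N) (isClassFunction_irr θ))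
      rw [hc', ← Subgroup.index_mul_card N, hk] at h2
      have h3 : (conjOrbit N (θ : N → ℂ)).card ∣ p ^ k :=
        ⟨c, Nat.eq_of_mul_eq_mul_right (Nat.card_pos (α := N)) (by rw [← h2]; ring)⟩
      obtain ⟨i, -, hi⟩ := (Nat.dvd_prime_pow hp.out).1 h3
      rcases Nat.eq_zero_or_pos i with rfl | hipos
      · rw [hi, pow_zero]
      · exact absurd (he ▸ dvd_mul_of_dvd_right (dvd_mul_of_dvd_left (hi ▸ dvd_pow_self p hipos.ne') _) e)
          (hdeg ⟨χ, hχ⟩)
    exact (Finset.card_le_one.1 horb.le) _ ((mem_conjOrbit N).2 ⟨g, rfl⟩) _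
      ((mem_conjOrbit N).2 ⟨1, conjN_one N _⟩)
  -- each class of `N` is stable
  have hcls : ∀ (g : G) (n : N), IsConj n (MulAut.conjNormal g n) := by
    intro g n
    rw [isConj_iff_forall_irr]
    intro χ
    have h1 := congrFun (hfix χ g) n
    rw [conjN_eq_comp] at h1
    exact h1.symm
  let C : Subgroup N := (Subgroup.centralizer ((P : Subgroup G) : Set G)).subgroupOf N
  have hC : C = ⊤ := by
    refine eq_top_of_meets C fun n => ?_
    let T := {m : N // IsConj n m}
    letI : MulAction (P : Subgroup G) T :=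
      { smul := fun g m => ⟨MulAut.conjNormal (g : G) m.1, m.2.trans (hcls g m.1)⟩
        one_smul := fun m => Subtype.ext (by
          show MulAut.conjNormal ((1 : (P : Subgroup G)) : G) m.1 = _
          rw [OneMemClass.coe_one, map_one]; rfl)
        mul_smul := fun a b m => Subtype.ext (by
          show MulAut.conjNormal ((a * b : (P : Subgroup G)) : G) m.1 = _
          rw [Subgroup.coe_mul, map_mul]; rfl) }
    obtain ⟨⟨m, hm⟩, hmfix⟩ : (MulAction.fixedPoints (P : Subgroup G) T).Nonempty := by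
      refine P.2.nonempty_fixed_point_of_prime_not_dvd_card T fun h => ?_
      refine hp.out.coprime_iff_not_dvd.1 hN.symm ?_
      rw [← card_isConj_mul n]
      exact dvd_mul_of_dvd_left h _
    obtain ⟨c, hc⟩ := isConj_iff.1 hm
    refine ⟨c⁻¹, ?_⟩
    rw [inv_inv, hc, Subgroup.mem_subgroupOf, Subgroup.mem_centralizer_iff]
    intro x hx
    have h1 := congrArg (fun z : T => ((z.1 : N) : G)) (hmfix ⟨x, hx⟩)
    change x * (m : G) * x⁻¹ = (m : G) at h1
    exact mul_inv_eq_iff_eq_mul.1 h1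
  have hle : (⊤ : Subgroup G) ≤ Subgroup.normalizer ((P : Subgroup G) : Set G) := by
    rw [← htop]
    refine sup_le Subgroup.le_normalizer fun n hn => ?_
    have h1 : (⟨n, hn⟩ : N) ∈ C := hC ▸ Subgroup.mem_top _
    rw [Subgroup.mem_subgroupOf, Subgroup.mem_centralizer_iff] at h1
    rw [Subgroup.mem_normalizer_iff]
    intro x
    refine ⟨fun hx => ?_, fun hx => ?_⟩
    · rw [← h1 x hx, mul_inv_cancel_right]; exact hx
    · have h2 := h1 _ hx
      have h3 : n * x * n⁻¹ = x := by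
        rw [inv_mul_cancel_right] at h2
        exact (mul_left_cancel h2).symm
      rwa [h3] at hx
  exact Subgroup.normalizer_eq_top_iff.1 (top_le_iff.1 hle)

lemma isPSolvable_of_normal_pPrime {M : Type u} [Group M] [Finite M] (N : Subgroup M) [N.Normal]
    (hN : (Nat.card N).Coprime p) (hi : ∃ k, N.index = p ^ k) : Cfsg.IsPSolvable p M := by
  refine ⟨2, ![⊥, N, ⊤], rfl, rfl, ?_, ?_, ?_⟩
  · refine Fin.monotone_iff_le_succ.2 fun i => ?_
    fin_cases i <;> simp
  · intro i; fin_cases i <;> first | exact (inferInstance : (⊥ : Subgroup M).Normal) | exact (inferInstance : N.Normal) | exact (inferInstance : (⊤ : Subgroup M).Normal)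
  · intro i
    fin_cases i
    · right
      simpa [Subgroup.relIndex_bot_left] using hN
    · left
      simpa [Subgroup.relIndex_top_right] using hi

/-- Ito: in a `p`-solvable group, `p'`-degrees force a normal Sylow subgroup. -/
theorem sylow_normal_of_degrees : ∀ (n : ℕ) (G : Type u) [Group G] [Finite G], Nat.card G = n →
    Cfsg.IsPSolvable p G → (∀ χ : Cfsg.IrrCharacter G, ¬ p ∣ deg (χ : G → ℂ)) →
    ∀ P : Sylow p G, (P : Subgroup G).Normal := by
  intro n
  induction n using Nat.strong_induction_on with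
  | _ n ih =>
  intro G _ _ hn hsol hdeg P
  subst hn
  rcases subsingleton_or_nontrivial G with hG | hG
  · exact ⟨fun x hx g => by rwa [Subsingleton.elim (g * x * g⁻¹) x]⟩
  have key : ∀ (N : Subgroup G) [N.Normal], N ≠ ⊥ → ((P : Subgroup G) ⊔ N).Normal := by
    intro N _ hN
    have hlt : Nat.card (G ⧸ N) < Nat.card G := by
      rw [← Subgroup.index_eq_card, ← Subgroup.index_mul_card N]
      exact lt_mul_of_one_lt_right (Nat.pos_of_ne_zero Subgroup.index_ne_zero_of_finite)
        ((Subgroup.one_lt_card_iff_ne_bot N).2 hN)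
    have h2 := ih _ hlt (G ⧸ N) rfl (Cfsg.Lib.GaschutzYen.isPSolvable_quotient N hsol)
      (degrees_quotient hdeg N) (P.mapSurjective (QuotientGroup.mk'_surjective N))
    rw [Sylow.coe_mapSurjective] at h2
    have h3 := h2.comap (QuotientGroup.mk' N)
    rwa [Subgroup.comap_map_eq, QuotientGroup.ker_mk'] at h3
  rcases Cfsg.Lib.GaschutzYen.exists_core_ne_bot hsol with h | h
  · haveI : (Cfsg.pCore p G).Normal := Cfsg.Lib.Components.pCore_normal' p
    have h2 := key _ h
    rwa [P.3 (IsPGroup.to_sup_of_normal_right P.2 (Cfsg.Lib.Components.isPGroup_pCore (G := G) p)) le_sup_left] at h2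
  · haveI : (Cfsg.pPrimeCore p G).Normal := Cfsg.Lib.Components.pPrimeCore_normal' p
    set N := Cfsg.pPrimeCore p G
    have hN : (Nat.card N).Coprime p := Cfsg.Lib.Components.coprime_card_pPrimeCore p
    haveI hM := key _ h
    set M := (P : Subgroup G) ⊔ N with hMdef
    by_cases htop : M = ⊤
    · exact sylow_normal_of_sup_eq_top hdeg N hN P htop
    have hlt : Nat.card M < Nat.card G := by
      rw [← Subgroup.index_mul_card M]
      exact lt_mul_left Nat.card_pos (Subgroup.one_lt_index_of_ne_top htop)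
    haveI : (N.subgroupOf M).Normal := inferInstance
    have hcardN : Nat.card (N.subgroupOf M) = Nat.card N :=
      Nat.card_congr (Subgroup.subgroupOfEquivOfLe (le_sup_right : N ≤ M)).toEquiv
    have hsolM : Cfsg.IsPSolvable p M := by
      refine isPSolvable_of_normal_pPrime (N.subgroupOf M) (by rwa [hcardN]) ?_
      have h1 : (N.subgroupOf M).index ∣ Nat.card (P : Subgroup G) := by
        show N.relIndex M ∣ _
        rw [hMdef, Subgroup.relIndex_sup_right]
        exact Subgroup.relIndex_dvd_card _ _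
      obtain ⟨j, hj⟩ := IsPGroup.iff_card.1 P.2
      rw [hj] at h1
      obtain ⟨k, -, hk⟩ := (Nat.dvd_prime_pow hp.out).1 h1
      exact ⟨k, hk⟩
    let Q : Sylow p M := P.subtype le_sup_left
    have hQ := ih _ hlt M rfl hsolM (degrees_normal hdeg M) Q
    haveI := Sylow.characteristic_of_normal Q hQ
    have h3 : ((Q : Subgroup M).map M.subtype).Normal := inferInstance
    rwa [Sylow.coe_subtype, Subgroup.subgroupOf_map_subtype, inf_eq_left.2 le_sup_left] at h3

/-- Ito's criterion. -/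
theorem ito_iff (hsol : Cfsg.IsPSolvable p G) (P : Sylow p G) :
    ((P : Subgroup G).Normal ∧ IsMulCommutative P) ↔
      ∀ χ : Cfsg.IrrCharacter G, ¬ p ∣ deg (χ : G → ℂ) := by
  constructor
  · rintro ⟨hn, hc⟩ χ
    haveI := hn
    obtain ⟨m, ρ, hρ, hρχ⟩ := χ.2
    haveI := hρ
    have hd := Cfsg.Agent.S0169.result ρ (P : Subgroup G) fun a ha b hb =>
      congrArg Subtype.val (hc.is_comm.comm ⟨a, ha⟩ ⟨b, hb⟩)
    have hdd : deg (χ : G → ℂ) = Module.finrank ℂ (Fin m → ℂ) := by
      apply Nat.cast_injective (R := ℂ)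
      rw [← irr_apply_one_eq_deg χ, ← hρχ, ρ.char_one]
    rw [hdd]
    exact fun h => P.not_dvd_index (h.trans hd)
  · intro hdeg
    have hn := sylow_normal_of_degrees (Nat.card G) G rfl hsol hdeg P
    haveI := hn
    refine ⟨hn, ⟨⟨fun a b => mul_comm_of_all_linear (G := (P : Subgroup G)) (fun θ => ?_) a b⟩⟩⟩
    haveI := Fintype.ofFinite (P : Subgroup G)
    have h1 := degrees_normal hdeg (P : Subgroup G) θ
    have h2 := IsIrrCharacter.deg_dvd θ.2
    obtain ⟨j, hj⟩ := IsPGroup.iff_card.1 P.2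
    rw [hj] at h2
    obtain ⟨i, -, hi⟩ := (Nat.dvd_prime_pow hp.out).1 h2
    rcases Nat.eq_zero_or_pos i with rfl | hipos
    · rw [irr_apply_one_eq_deg θ, hi]; simp
    · exact absurd (hi ▸ dvd_pow_self p hipos.ne') h1

/-- Prepending a factor. -/
lemma isPSolvable_extend (N : Subgroup G) [N.Normal]
    (hN : (∃ m, Nat.card N = p ^ m) ∨ (Nat.card N).Coprime p) (h : Cfsg.IsPSolvable p (G ⧸ N)) :
    Cfsg.IsPSolvable p G := by
  obtain ⟨n, H, h0, h1, hmono, hn, hf⟩ := h
  set π := QuotientGroup.mk' N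
  have hπ : Function.Surjective π := QuotientGroup.mk'_surjective N
  refine ⟨n + 1, Fin.cons ⊥ fun i => (H i).comap π, Fin.cons_zero _ _, ?_,
    Fin.monotone_iff_le_succ.2 (Fin.cases ?_ ?_), Fin.cases ?_ ?_, Fin.cases ?_ ?_⟩
  · rw [← Fin.succ_last, Fin.cons_succ, h1, Subgroup.comap_top]
  · simp
  · intro i
    rw [← Fin.succ_castSucc, Fin.cons_succ, Fin.cons_succ]
    exact Subgroup.comap_mono (hmono (Fin.castSucc_le_succ i))
  · rw [Fin.cons_zero]; infer_instance
  · intro i; rw [Fin.cons_succ]; exact (hn i).comap π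
  · rw [Fin.castSucc_zero, Fin.cons_zero, Fin.cons_succ, h0, MonoidHom.comap_bot,
      QuotientGroup.ker_mk', Subgroup.relIndex_bot_left]
    exact hN
  · intro i
    rw [← Fin.succ_castSucc, Fin.cons_succ, Fin.cons_succ, Subgroup.relIndex_comap,
      Subgroup.map_comap_eq_self_of_surjective hπ]
    exact hf i

theorem isPSolvable_of_solvable' : ∀ (n : ℕ) (G : Type u) [Group G] [Finite G], Nat.card G = n →
    Group.IsSolvable G → Cfsg.IsPSolvable p G := by
  intro n
  induction n using Nat.strong_induction_on with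
  | _ n ih =>
  intro G _ _ hn hsol
  subst hn
  rcases subsingleton_or_nontrivial G with hG | hG
  · exact ⟨0, fun _ => ⊥, rfl, Subsingleton.elim _ _, monotone_const, fun _ => inferInstance, fun i => i.elim0⟩
  obtain ⟨N, -, hNn, hN0, hmin⟩ :=
    Cfsg.Lib.Coprime.exists_minimal_normal (K := (⊤ : Subgroup G)) inferInstance top_ne_bot
  haveI := hNn
  haveI := hsol
  obtain ⟨-, q, hq, hqN, -⟩ := Cfsg.Lib.Coprime.minimal_normal_solvable (N := N) inferInstance hN0 hmin
  haveI := Fact.mk hq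
  obtain ⟨m, hm⟩ := IsPGroup.iff_card.1 hqN
  refine isPSolvable_extend N ?_ (ih _ ?_ (G ⧸ N) rfl inferInstance)
  · by_cases h : q = p
    · exact Or.inl ⟨m, by rw [hm, h]⟩
    · exact Or.inr (by rw [hm]; exact Nat.Coprime.pow_left m ((Nat.coprime_primes hq hp.out).2 h))
  · rw [← Subgroup.index_eq_card, ← Subgroup.index_mul_card N]
    exact lt_mul_of_one_lt_right (Nat.pos_of_ne_zero Subgroup.index_ne_zero_of_finite)
      ((Subgroup.one_lt_card_iff_ne_bot N).2 hN0)

theorem isPSolvable_of_solvable (h : Group.IsSolvable G) : Cfsg.IsPSolvable p G :=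
  isPSolvable_of_solvable' _ G rfl h

end Cfsg.Lib.Blocks
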