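import Mathlib
import Cfsg.Agent.Blocks.Columns
import Cfsg.Agent.Blocks.Orth2
import Cfsg.Agent.Blocks.KleinFour
import Cfsg.Agent.TwoFusion.FusionTools
import Cfsg.Agent.TwoFusion.DihedralSubgroups

/-!
# The local structure at the 2-elements for dihedral Sylow 2-subgroups
-/

set_option autoImplicit false
set_option linter.unusedSectionVars false
set_option linter.style.haveILetI false

namespace Cfsg.Lib.Dihedral

open Cfsg.Lib.Chars Cfsg.Lib.Blocks
open scoped ComplexConjugate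

universe u

variable {G : Type u} [Group G]

/-- `σ` has order `2 ^ m` (`m ≥ 2`) and the Sylow subgroup is `⟨σ⟩ ∪ ⟨σ⟩ τ`. -/
structure Data (P : Sylow 2 G) (σ τ : G) (m : ℕ) : Prop where
  two_le : 2 ≤ m
  mem_left : σ ∈ (P : Subgroup G)
  mem_right : τ ∈ (P : Subgroup G)
  order : orderOf σ = 2 ^ m
  sq : τ * τ = 1
  rel : τ * σ * τ⁻¹ = σ⁻¹
  cases : ∀ u ∈ (P : Subgroup G), u ∈ Subgroup.zpowers σ ∨ u * τ ∈ Subgroup.zpowers σ

/-- A dihedral Sylow subgroup carries such data for each element of maximal order. -/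
theorem exists_data [Finite G] (P : Sylow 2 G) {m : ℕ} (hm : 2 ≤ m)
    (e : (P : Subgroup G) ≃* DihedralGroup (2 ^ m)) (σ : G) (hσ : σ ∈ (P : Subgroup G))
    (hσo : orderOf σ = 2 ^ m) : ∃ τ, Data P σ τ m := by
  haveI : NeZero (2 ^ m) := ⟨by positivity⟩
  have h4 : 4 ≤ 2 ^ m := le_trans (by norm_num) (Nat.pow_le_pow_right two_pos hm)
  have ho : orderOf (e ⟨σ, hσ⟩) = 2 ^ m := by rw [MulEquiv.orderOf_eq, Subgroup.orderOf_mk, hσo]
  obtain ⟨i, hi⟩ : ∃ i, e ⟨σ, hσ⟩ = DihedralGroup.r i := by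
    cases h : e ⟨σ, hσ⟩ with
    | r i => exact ⟨i, rfl⟩
    | sr i => rw [h, DihedralGroup.orderOf_sr] at ho; omega
  set t := e.symm (DihedralGroup.sr 0) with ht
  have hsq : (t : G) * t = 1 := by
    have : t * t = 1 := e.injective (by rw [map_mul, ht, e.apply_symm_apply, map_one]; simp)
    exact congrArg Subtype.val this
  have hrel : (t : G) * σ * (t : G)⁻¹ = σ⁻¹ := by
    have : t * ⟨σ, hσ⟩ * t⁻¹ = (⟨σ, hσ⟩ : (P : Subgroup G))⁻¹ := e.injective (by
      rw [map_mul, map_mul, map_inv, map_inv, hi, ht, e.apply_symm_apply]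
      simp)
    exact congrArg Subtype.val this
  refine ⟨t, hm, hσ, t.2, hσo, hsq, hrel, fun u hu => ?_⟩
  set K := (Subgroup.zpowers σ).subgroupOf (P : Subgroup G) with hK
  have hidx : K.index = 2 := by
    have h := Subgroup.card_mul_index K
    rw [Nat.card_congr (Subgroup.subgroupOfEquivOfLe (Subgroup.zpowers_le.2 hσ)).toEquiv, Nat.card_zpowers,
      hσo, Nat.card_congr e.toEquiv, Nat.card_eq_fintype_card, DihedralGroup.card] at h
    exact Nat.eq_of_mul_eq_mul_left (by positivity : 0 < 2 ^ m) (h.trans (mul_comm _ _))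
  have htK : t ∉ K := fun h => by
    obtain ⟨k, hk⟩ := Subgroup.mem_zpowers_iff.1 (Subgroup.mem_subgroupOf.1 h)
    have hc : Commute (t : G) σ := hk ▸ (Commute.refl σ).zpow_left k
    rw [hc.eq, mul_inv_cancel_right] at hrel
    have := orderOf_le_of_pow_eq_one (n := 2) two_pos
      (show σ ^ 2 = 1 by rw [pow_two]; nth_rw 2 [hrel]; exact mul_inv_cancel σ)
    omega
  by_cases hu' : u ∈ Subgroup.zpowers σ
  · exact Or.inl hu'
  · have huK : (⟨u, hu⟩ : (P : Subgroup G)) ∉ K := fun h => hu' (Subgroup.mem_subgroupOf.1 h)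
    exact Or.inr (Subgroup.mem_subgroupOf.1
      ((Subgroup.mul_mem_iff_of_index_two hidx (a := ⟨u, hu⟩) (b := t)).2 (iff_of_false huK htK)))

variable {P : Sylow 2 G} {σ τ : G} {m : ℕ}

/-- Conjugate data. -/
theorem Data.conj [Finite G] (d : Data P σ τ m) (g : G) :
    Data (g • P) (g * σ * g⁻¹) (g * τ * g⁻¹) m := by
  have hmem : ∀ x, g * x * g⁻¹ ∈ ((g • P : Sylow 2 G) : Subgroup G) ↔ x ∈ (P : Subgroup G) := fun x => by
    rw [Sylow.coe_subgroup_smul]
    exact Subgroup.smul_mem_pointwise_smul_iff (a := MulAut.conj g) (x := x)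
  refine ⟨d.two_le, (hmem σ).2 d.mem_left, (hmem τ).2 d.mem_right, ?_, ?_, ?_, fun u hu => ?_⟩
  · rw [← MulAut.conj_apply, MulEquiv.orderOf_eq, d.order]
  · calc g * τ * g⁻¹ * (g * τ * g⁻¹) = g * (τ * τ) * g⁻¹ := by group
      _ = 1 := by rw [d.sq]; group
  · calc g * τ * g⁻¹ * (g * σ * g⁻¹) * (g * τ * g⁻¹)⁻¹ = g * (τ * σ * τ⁻¹) * g⁻¹ := by group
      _ = (g * σ * g⁻¹)⁻¹ := by rw [d.rel]; group
  · have hu' : g⁻¹ * u * g ∈ (P : Subgroup G) := (hmem _).1 (by simpa [mul_assoc] using hu)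
    have hz : ∀ x, x ∈ Subgroup.zpowers σ → g * x * g⁻¹ ∈ Subgroup.zpowers (g * σ * g⁻¹) := by
      rintro x ⟨k, rfl⟩
      exact ⟨k, by simp [conj_zpow]⟩
    rcases d.cases _ hu' with h | h
    · left; simpa [mul_assoc] using hz _ h
    · right; simpa [mul_assoc] using hz _ h

theorem Data.two_dvd (d : Data P σ τ m) : 2 ∣ orderOf σ :=
  d.order ▸ dvd_pow_self 2 (by have := d.two_le; omega)

/-- The central involution. -/
theorem Data.half (d : Data P σ τ m) : 2 ^ (m - 1) + 2 ^ (m - 1) = 2 ^ m := by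
  have := d.two_le
  rw [← two_mul, ← pow_succ', show m - 1 + 1 = m by omega]

theorem Data.orderOf_J (d : Data P σ τ m) : orderOf (σ ^ 2 ^ (m - 1)) = 2 := by
  have h := d.half
  have hp : 0 < 2 ^ (m - 1) := by positivity
  rw [orderOf_pow_of_dvd (by omega) (d.order ▸ pow_dvd_pow 2 (Nat.sub_le m 1)), d.order, ← h, ← two_mul,
    Nat.mul_div_cancel _ hp]

theorem Data.J_sq (d : Data P σ τ m) : (σ ^ 2 ^ (m - 1)) ^ 2 = 1 := by
  have h := pow_orderOf_eq_one (σ ^ 2 ^ (m - 1))
  rwa [d.orderOf_J] at h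

theorem Data.tau_pow (d : Data P σ τ m) (i : ℕ) : τ * σ ^ i * τ⁻¹ = (σ ^ i)⁻¹ := by
  rw [← conj_pow, d.rel, inv_pow]

theorem Data.tau_zpow (d : Data P σ τ m) (i : ℤ) : τ * σ ^ i * τ⁻¹ = (σ ^ i)⁻¹ := by
  rw [← conj_zpow, d.rel, inv_zpow]

theorem Data.tau_inv (d : Data P σ τ m) : τ⁻¹ = τ := inv_eq_of_mul_eq_one_right d.sq

theorem Data.tau_commute_iff (d : Data P σ τ m) {x : G} (hx : x ∈ Subgroup.zpowers σ) :
    Commute τ x ↔ x * x = 1 := by
  obtain ⟨i, rfl⟩ := Subgroup.mem_zpowers_iff.1 hx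
  have h := d.tau_zpow i
  constructor
  · intro hc
    rw [hc.eq, mul_inv_cancel_right] at h
    nth_rw 2 [h]
    exact mul_inv_cancel _
  · intro h2
    rw [inv_eq_of_mul_eq_one_right h2] at h
    exact mul_inv_eq_iff_eq_mul.1 h

/-- Elements outside the cyclic part are involutions. -/
theorem Data.reflection (d : Data P σ τ m) {t : G} (ht : t ∈ (P : Subgroup G))
    (htσ : t ∉ Subgroup.zpowers σ) :
    t * t = 1 ∧ ∀ x ∈ Subgroup.zpowers σ, t * x * t⁻¹ = x⁻¹ := by
  obtain ⟨i, hi⟩ := Subgroup.mem_zpowers_iff.1 ((d.cases t ht).resolve_left htσ)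
  have ht' : t = σ ^ i * τ := by rw [hi, mul_assoc, d.sq, mul_one]
  subst ht'
  refine ⟨?_, fun x hx => ?_⟩
  · calc σ ^ i * τ * (σ ^ i * τ) = σ ^ i * (τ * σ ^ i * τ) := by group
      _ = σ ^ i * (σ ^ i)⁻¹ := by nth_rw 2 [← d.tau_inv]; rw [d.tau_zpow]
      _ = 1 := mul_inv_cancel _
  · obtain ⟨k, rfl⟩ := Subgroup.mem_zpowers_iff.1 hx
    calc σ ^ i * τ * σ ^ k * (σ ^ i * τ)⁻¹ = σ ^ i * (τ * σ ^ k * τ⁻¹) * (σ ^ i)⁻¹ := by group
      _ = (σ ^ k)⁻¹ := by rw [d.tau_zpow]; group

/-- The only involution of the cyclic part. -/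
theorem Data.sq_zpowers (d : Data P σ τ m) {x : G} (hx : x ∈ Subgroup.zpowers σ) (h2 : x * x = 1) :
    x = 1 ∨ x = σ ^ 2 ^ (m - 1) := by
  obtain ⟨i, rfl⟩ := Subgroup.mem_zpowers_iff.1 hx
  rw [← zpow_add, ← two_mul] at h2
  have hdvd := orderOf_dvd_iff_zpow_eq_one.2 h2
  rw [d.order, ← d.half] at hdvd
  obtain ⟨k, hk⟩ := hdvd
  push_cast at hk
  have hi : i = ((2 ^ (m - 1) : ℕ) : ℤ) * k := by push_cast; linarith
  have hJ : (σ ^ 2 ^ (m - 1)) ^ 2 = 1 := d.J_sq
  rcases Int.even_or_odd k with ⟨l, rfl⟩ | ⟨l, rfl⟩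
  · left
    rw [hi, zpow_mul, zpow_natCast, show l + l = ((2 : ℕ) : ℤ) * l by push_cast; ring, zpow_mul,
      zpow_natCast, hJ, one_zpow]
  · right
    rw [hi, zpow_mul, zpow_natCast, zpow_add, zpow_one, show (2 : ℤ) * l = ((2 : ℕ) : ℤ) * l by push_cast; ring,
      zpow_mul, zpow_natCast, hJ, one_zpow, one_mul]

theorem Data.J_central (d : Data P σ τ m) : ∀ u ∈ (P : Subgroup G), Commute u (σ ^ 2 ^ (m - 1)) := by
  intro u hu
  have h2 : σ ^ 2 ^ (m - 1) * σ ^ 2 ^ (m - 1) = 1 := by rw [← pow_two, d.J_sq]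
  have hJ : σ ^ 2 ^ (m - 1) ∈ Subgroup.zpowers σ := ⟨(2 ^ (m - 1) : ℕ), zpow_natCast σ _⟩
  by_cases huσ : u ∈ Subgroup.zpowers σ
  · obtain ⟨i, rfl⟩ := Subgroup.mem_zpowers_iff.1 huσ
    exact ((Commute.refl σ).zpow_left i).pow_right _
  · refine mul_inv_eq_iff_eq_mul.1 ?_
    rw [(d.reflection hu huσ).2 _ hJ, inv_eq_of_mul_eq_one_right h2]

variable [Fintype G]

/-- An element with controlled conjugates in a Sylow subgroup lies outside the residual. -/
theorem not_mem_pResidual (Q : Sylow 2 G) (K : Subgroup (Q : Subgroup G)) (hK : K.index = 2)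
    (t : (Q : Subgroup G)) (ht : t ∉ K) (ht2 : t * t = 1)
    (hctrl : ∀ a : G, ∀ h : a⁻¹ * (t : G) * a ∈ (Q : Subgroup G), (⟨_, h⟩ : (Q : Subgroup G)) ∉ K) :
    (t : G) ∉ Cfsg.pResidual 2 G := by
  classical
  haveI : Fact (Nat.Prime 2) := ⟨Nat.prime_two⟩
  let ϕ : (Q : Subgroup G) →* ℤˣ :=
    { toFun := fun u => if u ∈ K then 1 else -1
      map_one' := if_pos K.one_mem
      map_mul' := fun u v => by
        have h := Subgroup.mul_mem_iff_of_index_two hK (a := u) (b := v)
        by_cases hu : u ∈ K <;> by_cases hv : v ∈ K <;> simp [h, hu, hv] }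
  have hϕt : ϕ t = -1 := if_neg ht
  have key := Cfsg.Lib.TwoFusion.transfer_eq_pow_of_image ϕ t fun k a h => by
    rcases Nat.even_or_odd k with ⟨l, rfl⟩ | ⟨l, rfl⟩
    · have h1 : t ^ (l + l) = 1 := by rw [← two_mul, pow_mul, pow_two, ht2, one_pow]
      have h2 : (⟨_, h⟩ : (Q : Subgroup G)) = 1 := Subtype.ext (by
        show a⁻¹ * (t : G) ^ (l + l) * a = 1
        rw [← Subgroup.coe_pow, h1, OneMemClass.coe_one, mul_one, inv_mul_cancel])
      rw [h2, h1]
    · have h1 : t ^ (2 * l + 1) = t := by rw [pow_succ, pow_mul, pow_two, ht2, one_pow, one_mul]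
      have h' : a⁻¹ * (t : G) * a ∈ (Q : Subgroup G) := by
        rw [← h1, Subgroup.coe_pow]; exact h
      have h2 : (⟨_, h⟩ : (Q : Subgroup G)) = ⟨_, h'⟩ := Subtype.ext (by
        show a⁻¹ * (t : G) ^ (2 * l + 1) * a = a⁻¹ * (t : G) * a
        rw [← Subgroup.coe_pow, h1])
      rw [h2, h1, hϕt]
      exact if_neg (hctrl a h')
  have hodd : Odd (Q : Subgroup G).index := Nat.not_even_iff_odd.1 fun h => Q.not_dvd_index h.two_dvd
  rw [hϕt, hodd.neg_one_pow] at key
  intro hmem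
  have hle : Cfsg.pResidual 2 G ≤ (MonoidHom.transfer ϕ).ker := (Subgroup.closure_le _).2 fun x hx => by
    refine MonoidHom.mem_ker.2 (orderOf_eq_one_iff.1 (Nat.eq_one_of_dvd_coprimes hx
      (orderOf_map_dvd _ x) (orderOf_dvd_of_pow_eq_one (Int.units_sq _))))
  rw [MonoidHom.mem_ker.1 (hle hmem)] at key
  exact absurd key (by decide)

/-- A central `J` gives a normal 2-complement. -/
theorem Data.complement_of_central (d : Data P σ τ m) (hJ : σ ^ 2 ^ (m - 1) ∈ Subgroup.center G) :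
    Cfsg.HasNormalPComplement 2 G := by
  classical
  haveI : Fact (Nat.Prime 2) := ⟨Nat.prime_two⟩
  have hle : Cfsg.pResidual 2 G ⊓ (P : Subgroup G) ≤ Subgroup.zpowers σ := by
    rintro t ⟨htR, htP⟩
    by_contra htσ
    obtain ⟨ht2, -⟩ := d.reflection htP htσ
    set K := (Subgroup.zpowers σ).subgroupOf (P : Subgroup G) with hK
    have hidx : K.index = 2 := by
      refine Subgroup.index_eq_two_iff.2 ⟨⟨τ, d.mem_right⟩, fun u => ?_⟩
      have hτ : τ ∉ Subgroup.zpowers σ := fun h => by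
        obtain ⟨i, hi⟩ := Subgroup.mem_zpowers_iff.1 h
        have hc : Commute τ σ := hi ▸ (Commute.refl σ).zpow_left i
        have h' := d.rel
        rw [hc.eq, mul_inv_cancel_right] at h'
        have := orderOf_le_of_pow_eq_one (n := 2) two_pos
          (show σ ^ 2 = 1 by rw [pow_two]; nth_rw 2 [h']; exact mul_inv_cancel σ)
        rw [d.order] at this
        have := Nat.pow_le_pow_right two_pos d.two_le
        omega
      rw [Subgroup.mem_subgroupOf, Subgroup.mem_subgroupOf, Subgroup.coe_mul]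
      rcases d.cases u u.2 with h | h
      · exact Or.inr ⟨h, fun h' => hτ ((Subgroup.mul_mem_cancel_left _ h).1 h')⟩
      · refine Or.inl ⟨h, fun h' => hτ ((Subgroup.mul_mem_cancel_left _ h').1 h)⟩
    refine not_mem_pResidual P K hidx ⟨t, htP⟩ (fun h => htσ (Subgroup.mem_subgroupOf.1 h))
      (Subtype.ext ht2) (fun a h hK' => ?_) htR
    have hm : a⁻¹ * t * a ∈ Subgroup.zpowers σ := Subgroup.mem_subgroupOf.1 hK'
    have hx2 : a⁻¹ * t * a * (a⁻¹ * t * a) = 1 := by
      calc _ = a⁻¹ * (t * t) * a := by group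
        _ = 1 := by rw [ht2]; group
    rcases d.sq_zpowers hm hx2 with h1 | h1
    · refine htσ ?_
      have : t = 1 := by
        calc t = a * (a⁻¹ * t * a) * a⁻¹ := by group
          _ = 1 := by rw [h1]; group
      rw [this]; exact one_mem _
    · refine htσ ?_
      have : t = σ ^ 2 ^ (m - 1) := by
        calc t = a * (a⁻¹ * t * a) * a⁻¹ := by group
          _ = a * σ ^ 2 ^ (m - 1) * a⁻¹ := by rw [h1]
          _ = _ := by rw [Subgroup.mem_center_iff.1 hJ a, mul_inv_cancel_right]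
      rw [this]
      exact ⟨_, zpow_natCast σ _⟩
  haveI : IsCyclic ((Cfsg.pResidual 2 G).subgroupOf (P : Subgroup G)) := by
    haveI : IsCyclic ((Subgroup.zpowers σ).subgroupOf (P : Subgroup G)) :=
      isCyclic_of_surjective (Subgroup.subgroupOfEquivOfLe (Subgroup.zpowers_le.2 d.mem_left)).symm
        (MulEquiv.surjective _)
    refine isCyclic_of_injective (Subgroup.inclusion (H := (Cfsg.pResidual 2 G).subgroupOf (P : Subgroup G))
      (K := (Subgroup.zpowers σ).subgroupOf (P : Subgroup G)) fun u hu =>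
        Subgroup.mem_subgroupOf.2 (hle ⟨hu, u.2⟩)) (Subgroup.inclusion_injective _)
  exact Cfsg.Lib.TwoFusion.hasNormalTwoComplement_of_cyclic_residual P

/-- A central involution in a Klein four Sylow subgroup gives a normal 2-complement. -/
theorem complement_of_klein (Q : Sylow 2 G) (hQ : Nat.card (Q : Subgroup G) = 4)
    (hexp : ∀ u ∈ (Q : Subgroup G), u * u = 1) {t : G} (ht : t ∈ (Q : Subgroup G)) (ht1 : t ≠ 1)
    (htc : t ∈ Subgroup.center G) : Cfsg.HasNormalPComplement 2 G := by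
  classical
  haveI : Fact (Nat.Prime 2) := ⟨Nat.prime_two⟩
  have hto : orderOf t = 2 := orderOf_eq_prime (by rw [pow_two]; exact hexp t ht) ht1
  set K := (Subgroup.zpowers t).subgroupOf (Q : Subgroup G) with hK
  have hKc : Nat.card K = 2 := by
    rw [hK, Nat.card_congr (Subgroup.subgroupOfEquivOfLe (Subgroup.zpowers_le.2 ht)).toEquiv,
      Nat.card_zpowers, hto]
  have hidx : K.index = 2 := by
    have h := K.card_mul_index
    rw [hKc, hQ] at h
    omega
  have hmemK : ∀ u : (Q : Subgroup G), u ∈ K → (u : G) = 1 ∨ (u : G) = t := by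
    intro u hu
    obtain ⟨i, hi⟩ := Subgroup.mem_zpowers_iff.1 (Subgroup.mem_subgroupOf.1 hu)
    rcases Int.even_or_odd i with ⟨l, rfl⟩ | ⟨l, rfl⟩
    · left
      rw [← hi, ← two_mul, zpow_mul, zpow_two, hexp t ht, one_zpow]
    · right
      rw [← hi, zpow_add, zpow_mul, zpow_two, hexp t ht, one_zpow, one_mul, zpow_one]
  have hle : (Cfsg.pResidual 2 G).subgroupOf (Q : Subgroup G) ≤ K := by
    intro z hz
    by_contra hzK
    refine not_mem_pResidual Q K hidx z hzK (Subtype.ext (hexp z z.2)) (fun a h hK' => hzK ?_)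
      (Subgroup.mem_subgroupOf.1 hz)
    have hv : (z : G) = a * (a⁻¹ * (z : G) * a) * a⁻¹ := by group
    rcases hmemK _ hK' with h1 | h1 <;> rw [show ((⟨_, h⟩ : (Q : Subgroup G)) : G) = a⁻¹ * (z : G) * a from rfl] at h1 <;>
      rw [h1] at hv
    · rw [mul_one, mul_inv_cancel] at hv
      exact (show z = 1 from Subtype.ext hv) ▸ K.one_mem
    · rw [Subgroup.mem_center_iff.1 htc a, mul_inv_cancel_right] at hv
      exact Subgroup.mem_subgroupOf.2 (hv.symm ▸ Subgroup.mem_zpowers t)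
  haveI : IsCyclic K := isCyclic_of_prime_card hKc
  haveI : IsCyclic ((Cfsg.pResidual 2 G).subgroupOf (Q : Subgroup G)) :=
    isCyclic_of_injective (Subgroup.inclusion hle) (Subgroup.inclusion_injective _)
  exact Cfsg.Lib.TwoFusion.hasNormalTwoComplement_of_cyclic_residual Q

/-- A Sylow subgroup of a subgroup, as an element of `G`. -/
theorem exists_sylow_over [Finite G] (H : Subgroup G) (A : Subgroup G) (hAH : A ≤ H) (hA : IsPGroup 2 A) :
    ∃ (R : Sylow 2 H) (Q : Sylow 2 G), (∀ a ∈ A, ∃ h : a ∈ H, (⟨a, h⟩ : H) ∈ (R : Subgroup H)) ∧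
      ∀ r ∈ (R : Subgroup H), (r : G) ∈ (Q : Subgroup G) := by
  haveI : Fact (Nat.Prime 2) := ⟨Nat.prime_two⟩
  obtain ⟨R, hR⟩ := (hA.of_equiv (Subgroup.subgroupOfEquivOfLe hAH).symm).exists_le_sylow
  obtain ⟨Q, hQ⟩ := (R.2.map H.subtype).exists_le_sylow
  exact ⟨R, Q, fun a ha => ⟨hAH ha, hR (Subgroup.mem_subgroupOf.2 ha)⟩, fun r hr => hQ ⟨r, hr, rfl⟩⟩

/-- The centraliser of a rotation that is no involution. -/
theorem Data.centralizer_rotation (d : Data P σ τ m) {a : ℕ} (ha : σ ^ a * σ ^ a ≠ 1) :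
    Cfsg.HasNormalPComplement 2 (Subgroup.centralizer ({σ ^ a} : Set G)) ∧
      (Nat.card (Subgroup.centralizer ({σ ^ a} : Set G))).factorization 2 = m := by
  classical
  haveI : Fact (Nat.Prime 2) := ⟨Nat.prime_two⟩
  set H := Subgroup.centralizer ({σ ^ a} : Set G) with hH
  have hσH : Subgroup.zpowers σ ≤ H := Subgroup.zpowers_le.2
    (Subgroup.mem_centralizer_singleton_iff.2 ((Commute.refl σ).pow_right a).eq)
  obtain ⟨R, Q, hA, hRQ⟩ := exists_sylow_over H (Subgroup.zpowers σ) hσH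
    (IsPGroup.of_card (n := m) (by rw [Nat.card_zpowers, d.order]))
  obtain ⟨g, hg⟩ := MulAction.exists_smul_eq G P Q
  have d' := d.conj g
  rw [hg] at d'
  obtain ⟨hσ', hσR⟩ := hA σ (Subgroup.mem_zpowers σ)
  have hcyc : σ ∈ Subgroup.zpowers (g * σ * g⁻¹) := by
    by_contra h
    obtain ⟨h2, -⟩ := d'.reflection (hRQ _ hσR) h
    have := orderOf_le_of_pow_eq_one (n := 2) two_pos (show σ ^ 2 = 1 by rw [pow_two]; exact h2)
    rw [d.order] at this
    have := Nat.pow_le_pow_right two_pos d.two_le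
    omega
  have heq : Subgroup.zpowers σ = Subgroup.zpowers (g * σ * g⁻¹) :=
    Subgroup.eq_of_le_of_card_ge (Subgroup.zpowers_le.2 hcyc)
      (by rw [Nat.card_zpowers, Nat.card_zpowers, d.order, d'.order])
  have hR : (R : Subgroup H) = (Subgroup.zpowers σ).subgroupOf H := by
    refine le_antisymm (fun r hr => Subgroup.mem_subgroupOf.2 ?_) fun r hr => ?_
    · by_contra h
      rw [heq] at h
      obtain ⟨-, hinv⟩ := d'.reflection (hRQ r hr) h
      have h1 := hinv (σ ^ a) (heq ▸ ⟨(a : ℤ), zpow_natCast σ a⟩)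
      rw [Subgroup.mem_centralizer_singleton_iff.1 r.2, mul_inv_cancel_right] at h1
      exact ha (by nth_rw 2 [h1]; exact mul_inv_cancel _)
    · obtain ⟨h, h'⟩ := hA r (Subgroup.mem_subgroupOf.1 hr)
      exact h'
  have hc : Nat.card (R : Subgroup H) = 2 ^ m := by
    rw [hR, Nat.card_congr (Subgroup.subgroupOfEquivOfLe hσH).toEquiv, Nat.card_zpowers, d.order]
  haveI : IsCyclic (R : Subgroup H) := by
    rw [hR]
    exact isCyclic_of_surjective (Subgroup.subgroupOfEquivOfLe hσH).symm (MulEquiv.surjective _)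
  refine ⟨Cfsg.Lib.TwoFusion.hasNormalTwoComplement_of_cyclic R, ?_⟩
  rw [R.card_eq_multiplicity] at hc
  exact Nat.pow_right_injective le_rfl hc

/-- The centraliser of the central involution. -/
theorem Data.centralizer_J (d : Data P σ τ m) :
    Cfsg.HasNormalPComplement 2 (Subgroup.centralizer ({σ ^ 2 ^ (m - 1)} : Set G)) ∧
      (Nat.card (Subgroup.centralizer ({σ ^ 2 ^ (m - 1)} : Set G))).factorization 2 = m + 1 := by
  classical
  haveI : Fact (Nat.Prime 2) := ⟨Nat.prime_two⟩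
  set H := Subgroup.centralizer ({σ ^ 2 ^ (m - 1)} : Set G) with hH
  have hle : (P : Subgroup G) ≤ H := fun u hu =>
    Subgroup.mem_centralizer_singleton_iff.2 (d.J_central u hu).eq
  set R : Sylow 2 H := P.subtype hle with hRdef
  have hmem : ∀ x : H, x ∈ (R : Subgroup H) ↔ (x : G) ∈ (P : Subgroup G) := fun x => Iff.rfl
  have hz : ∀ x : H, x ∈ Subgroup.zpowers (⟨σ, hle d.mem_left⟩ : H) ↔ (x : G) ∈ Subgroup.zpowers σ := fun x =>
    ⟨fun ⟨i, hi⟩ => ⟨i, by rw [← hi]; simp⟩, fun ⟨i, hi⟩ => ⟨i, Subtype.ext (by simpa using hi)⟩⟩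
  have d' : Data R (⟨σ, hle d.mem_left⟩ : H) ⟨τ, hle d.mem_right⟩ m :=
    ⟨d.two_le, (hmem _).2 d.mem_left, (hmem _).2 d.mem_right, by rw [Subgroup.orderOf_mk, d.order],
      Subtype.ext d.sq, Subtype.ext d.rel, fun u hu => by
        rw [hz, hz, Subgroup.coe_mul]
        exact d.cases u ((hmem u).1 hu)⟩
  letI := Fintype.ofFinite H
  refine ⟨d'.complement_of_central (Subgroup.mem_center_iff.2 fun x =>
    Subtype.ext (by simpa using Subgroup.mem_centralizer_singleton_iff.1 x.2)), ?_⟩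
  have hc : Nat.card (R : Subgroup H) = 2 ^ (m + 1) := by
    rw [hRdef, Sylow.coe_subtype, Nat.card_congr (Subgroup.subgroupOfEquivOfLe hle).toEquiv]
    have hzP : Subgroup.zpowers σ ≤ (P : Subgroup G) := Subgroup.zpowers_le.2 d.mem_left
    have hτ : τ ∉ Subgroup.zpowers σ := fun h => by
      obtain ⟨i, hi⟩ := Subgroup.mem_zpowers_iff.1 h
      have hc : Commute τ σ := hi ▸ (Commute.refl σ).zpow_left i
      have h2 := (d.tau_commute_iff (Subgroup.mem_zpowers σ)).1 hc
      have := orderOf_le_of_pow_eq_one (n := 2) two_pos (show σ ^ 2 = 1 by rw [pow_two]; exact h2)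
      rw [d.order] at this
      have := Nat.pow_le_pow_right two_pos d.two_le
      omega
    have hidx : ((Subgroup.zpowers σ).subgroupOf (P : Subgroup G)).index = 2 := by
      refine Subgroup.index_eq_two_iff.2 ⟨⟨τ, d.mem_right⟩, fun u => ?_⟩
      rw [Subgroup.mem_subgroupOf, Subgroup.mem_subgroupOf, Subgroup.coe_mul]
      rcases d.cases u u.2 with h | h
      · exact Or.inr ⟨h, fun h' => hτ ((Subgroup.mul_mem_cancel_left _ h).1 h')⟩
      · exact Or.inl ⟨h, fun h' => hτ ((Subgroup.mul_mem_cancel_left _ h').1 h)⟩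
    rw [← Subgroup.card_mul_index ((Subgroup.zpowers σ).subgroupOf (P : Subgroup G)), hidx,
      Nat.card_congr (Subgroup.subgroupOfEquivOfLe hzP).toEquiv, Nat.card_zpowers, d.order, pow_succ]
  rw [R.card_eq_multiplicity] at hc
  exact Nat.pow_right_injective le_rfl hc

/-- The centraliser of a reflection not conjugate to the central involution. -/
theorem Data.centralizer_reflection (d : Data P σ τ m) {t : G} (ht : t ∈ (P : Subgroup G))
    (htσ : t ∉ Subgroup.zpowers σ) (hne : ¬ IsConj (σ ^ 2 ^ (m - 1)) t) :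
    Cfsg.HasNormalPComplement 2 (Subgroup.centralizer ({t} : Set G)) ∧
      (Nat.card (Subgroup.centralizer ({t} : Set G))).factorization 2 = 2 := by
  classical
  haveI : Fact (Nat.Prime 2) := ⟨Nat.prime_two⟩
  obtain ⟨ht2, -⟩ := d.reflection ht htσ
  set J := σ ^ 2 ^ (m - 1) with hJ
  have hJσ : J ∈ Subgroup.zpowers σ := ⟨_, zpow_natCast σ _⟩
  have hJ2 : J * J = 1 := by rw [← pow_two, hJ, d.J_sq]
  have hJ1 : J ≠ 1 := fun h => by have := d.orderOf_J; rw [← hJ, h, orderOf_one] at this; omega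
  set H := Subgroup.centralizer ({t} : Set G) with hH
  have htH : t ∈ H := Subgroup.mem_centralizer_singleton_iff.2 rfl
  have hJH : J ∈ H := Subgroup.mem_centralizer_singleton_iff.2 (d.J_central t ht).symm.eq
  set A := Subgroup.closure ({t, J} : Set G) with hA
  have hAP : A ≤ (P : Subgroup G) := (Subgroup.closure_le _).2 (by
    rintro x (rfl | rfl)
    · exact ht
    · exact Subgroup.pow_mem _ d.mem_left _)
  obtain ⟨R, Q, hAR, hRQ⟩ := exists_sylow_over H A
    ((Subgroup.closure_le _).2 (by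
      rintro x (rfl | rfl)
      · exact htH
      · exact hJH))
    (P.2.to_le hAP)
  obtain ⟨g, hg⟩ := MulAction.exists_smul_eq G P Q
  have d' := d.conj g
  rw [hg] at d'
  obtain ⟨_, htR⟩ := hAR t (Subgroup.subset_closure (by simp))
  obtain ⟨_, hJR⟩ := hAR J (Subgroup.subset_closure (by simp))
  have htQ : t ∈ (Q : Subgroup G) := hRQ _ htR
  set J' := (g * σ * g⁻¹) ^ 2 ^ (m - 1) with hJ'
  have htσ' : t ∉ Subgroup.zpowers (g * σ * g⁻¹) := by
    intro h
    rcases d'.sq_zpowers h ht2 with h1 | h1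
    · exact htσ (h1 ▸ one_mem _)
    · exact hne (isConj_iff.2 ⟨g, by rw [h1, ← conj_pow]⟩)
  have hinv := (d'.reflection htQ htσ').2
  have hfour : ∀ r ∈ (R : Subgroup H), ((r : G) = 1 ∨ (r : G) = J') ∨ (r : G) = t ∨ (r : G) = J' * t := by
    intro r hr
    have hcomm : Commute (r : G) t := Subgroup.mem_centralizer_singleton_iff.1 r.2
    have hrot : ∀ x ∈ Subgroup.zpowers (g * σ * g⁻¹), Commute x t → x = 1 ∨ x = J' := by
      intro x hx hc
      refine d'.sq_zpowers hx ?_
      have h1 := hinv x hx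
      rw [← hc.eq, mul_inv_cancel_right] at h1
      nth_rw 2 [h1]
      exact mul_inv_cancel x
    by_cases hrσ : (r : G) ∈ Subgroup.zpowers (g * σ * g⁻¹)
    · exact Or.inl (hrot _ hrσ hcomm)
    · have h1 := (d'.cases (r : G) (hRQ r hr)).resolve_left hrσ
      have h2 := (d'.cases t htQ).resolve_left htσ'
      have h3 : (r : G) * t ∈ Subgroup.zpowers (g * σ * g⁻¹) := by
        have := mul_mem h1 (inv_mem h2)
        rwa [show (r : G) * (g * τ * g⁻¹) * (t * (g * τ * g⁻¹))⁻¹ = (r : G) * t⁻¹ by group,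
          inv_eq_of_mul_eq_one_right ht2] at this
      rcases hrot _ h3 (hcomm.mul_left (Commute.refl t)) with h4 | h4
      · exact Or.inr (Or.inl (by rw [eq_inv_of_mul_eq_one_left h4, inv_eq_of_mul_eq_one_right ht2]))
      · exact Or.inr (Or.inr (by rw [← h4, mul_assoc, ht2, mul_one]))
  have hJ'2 : J' * J' = 1 := by rw [← pow_two, hJ', d'.J_sq]
  have hcJ' : Commute J' t := (d'.J_central t htQ).symm
  have hexp : ∀ r ∈ (R : Subgroup H), r * r = 1 := by
    intro r hr
    refine Subtype.ext ?_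
    rw [Subgroup.coe_mul, OneMemClass.coe_one]
    rcases hfour r hr with (h | h) | h | h <;> rw [h]
    · rw [one_mul]
    · exact hJ'2
    · exact ht2
    · calc J' * t * (J' * t) = J' * (t * J') * t := by group
        _ = (J' * J') * (t * t) := by rw [← hcJ'.eq]; group
        _ = 1 := by rw [hJ'2, ht2, one_mul]
  have hcard : Nat.card (R : Subgroup H) = 4 := by
    refine le_antisymm ?_ ?_
    · rw [Nat.card_eq_fintype_card]
      refine (Fintype.card_le_of_injective (fun r : (R : Subgroup H) =>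
        (⟨((r : H) : G), by
          simp only [Finset.mem_insert, Finset.mem_singleton]
          rcases hfour r r.2 with (h | h) | h | h <;> simp [h]⟩ :
          ({1, J', t, J' * t} : Finset G))) fun r s h => ?_).trans ?_
      · exact Subtype.ext (Subtype.ext (congrArg Subtype.val h :))
      · rw [Fintype.card_coe]
        exact Finset.card_le_four
    · have hne2 : t ≠ J := fun h => htσ (h ▸ hJσ)
      have hne1 : t ≠ 1 := fun h => htσ (h ▸ one_mem _)
      let f : Fin 2 × Fin 2 → (R : Subgroup H) := fun z =>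
        (⟨⟨t, htH⟩, htR⟩ : (R : Subgroup H)) ^ (z.1 : ℕ) * (⟨⟨J, hJH⟩, hJR⟩ : (R : Subgroup H)) ^ (z.2 : ℕ)
      have hf : Function.Injective f := by
        intro z w h
        have h' := congrArg (fun x : (R : Subgroup H) => ((x : H) : G)) h
        simp only [f, Subgroup.coe_mul, Subgroup.coe_pow] at h'
        obtain ⟨i, j⟩ := z
        obtain ⟨k, l⟩ := w
        have htJ : t * J ≠ 1 := fun h => hne2 (by
          rw [eq_inv_of_mul_eq_one_left h, inv_eq_of_mul_eq_one_right hJ2])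
        fin_cases i <;> fin_cases j <;> fin_cases k <;> fin_cases l <;>
          first
            | rfl
            | (simp [hne1, hJ1, hne2, htJ, hne1.symm, hJ1.symm, hne2.symm, Ne.symm htJ] at h')
      simpa using Nat.card_le_card_of_injective f hf
  letI := Fintype.ofFinite H
  refine ⟨complement_of_klein R hcard hexp htR (fun h => htσ ?_)
    (Subgroup.mem_center_iff.2 fun x => Subtype.ext (by
      simpa using Subgroup.mem_centralizer_singleton_iff.1 x.2)), ?_⟩
  · have : t = 1 := congrArg Subtype.val h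
    rw [this]; exact one_mem _
  · rw [R.card_eq_multiplicity] at hcard
    exact Nat.pow_right_injective le_rfl (hcard.trans (by norm_num))

/-- Powers of `σ` that are conjugate in `G` are equal or inverse. -/
theorem Data.rotation_conj (d : Data P σ τ m) {a b : ℕ} (ha : σ ^ a * σ ^ a ≠ 1)
    (hc : IsConj (σ ^ a) (σ ^ b)) : σ ^ b = σ ^ a ∨ σ ^ b = (σ ^ a)⁻¹ := by
  classical
  haveI : Fact (Nat.Prime 2) := ⟨Nat.prime_two⟩
  obtain ⟨g, hg⟩ := isConj_iff.1 hc
  set x := σ ^ a with hx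
  have hzle : ∀ y, y ∈ Subgroup.zpowers σ → Subgroup.zpowers y ≤ Subgroup.zpowers σ :=
    fun y hy => Subgroup.zpowers_le.2 hy
  have hyx : orderOf (σ ^ b) = orderOf x := by rw [← hg, ← MulAut.conj_apply, MulEquiv.orderOf_eq]
  -- the two cyclic subgroups coincide
  have hsame : Subgroup.zpowers (σ ^ b) = Subgroup.zpowers x := by
    refine Subgroup.eq_of_le_of_card_ge (Subgroup.zpowers_le.2 ?_) (by rw [Nat.card_zpowers, Nat.card_zpowers, hyx])
    rw [orderOf_pow, hx, orderOf_pow] at hyx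
    have h1 := Nat.gcd_dvd_left (orderOf σ) b
    have h2 := Nat.gcd_dvd_left (orderOf σ) a
    have hg' : Nat.gcd (orderOf σ) b = Nat.gcd (orderOf σ) a := by
      rw [← Nat.div_div_self h1 (orderOf_pos σ).ne', hyx, Nat.div_div_self h2 (orderOf_pos σ).ne']
    obtain ⟨c, hc'⟩ := hg' ▸ Nat.gcd_dvd_right (orderOf σ) b
    refine ⟨Nat.gcdB (orderOf σ) a * c, ?_⟩
    show (σ ^ a) ^ (Nat.gcdB (orderOf σ) a * (c : ℤ)) = σ ^ b
    rw [hc', pow_mul, ← zpow_natCast σ (Nat.gcd _ _), Nat.gcd_eq_gcd_ab, zpow_add, zpow_mul, zpow_mul σ,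
      zpow_natCast σ (orderOf σ), pow_orderOf_eq_one, one_zpow, one_mul, zpow_mul, zpow_natCast, zpow_natCast]
  set U := Subgroup.zpowers x with hU
  set N := Subgroup.normalizer (U : Set G) with hN
  set H := Subgroup.centralizer ({x} : Set G) with hH
  have hnorm : ∀ y : G, U.map (MulAut.conj y).toMonoidHom = U → y ∈ N := by
    intro y hy
    refine Subgroup.mem_set_normalizer_iff.2 fun h => ⟨fun hh => ?_, fun hh => ?_⟩
    · exact hy ▸ ⟨h, hh, rfl⟩
    · rw [SetLike.mem_coe, ← hy] at hh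
      obtain ⟨h', hh', he⟩ := hh
      simp only [MulEquiv.coe_toMonoidHom, MulAut.conj_apply] at he
      rwa [mul_left_cancel (mul_right_cancel he)] at hh'
  have hgN : g ∈ N := hnorm g (by rw [hU, MonoidHom.map_zpowers]; exact (congrArg _ hg).trans hsame)
  have hτN : τ ∈ N := hnorm τ (by
    rw [hU, MonoidHom.map_zpowers]
    show Subgroup.zpowers (τ * σ ^ a * τ⁻¹) = _
    rw [d.tau_pow, Subgroup.zpowers_inv])
  have hHN : H ≤ N := by
    rw [hH, ← centralizer_zpowers]
    exact Subgroup.centralizer_le_normalizer _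
  have hrel : H.relIndex N ∣ 2 := by
    have hker : (Subgroup.normalizerMonoidHom U).ker = H.subgroupOf N := by
      rw [Subgroup.normalizerMonoidHom_ker, hH, ← centralizer_zpowers]
    obtain ⟨j, hj⟩ : ∃ j, H.relIndex N = 2 ^ j := by
      haveI : IsCyclic U := inferInstance
      have hUp : IsPGroup 2 U := (IsPGroup.of_card (n := m) (by rw [Nat.card_zpowers, d.order]) :
        IsPGroup 2 (Subgroup.zpowers σ)).to_le (hzle _ ⟨a, zpow_natCast σ a⟩)
      have hp := (Cfsg.Lib.TwoFusion.isPGroup_mulAut_cyclic hUp).to_subgroup (Subgroup.normalizerMonoidHom U).range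
      obtain ⟨j, hj⟩ := IsPGroup.iff_card.1 hp
      refine ⟨j, ?_⟩
      show (H.subgroupOf N).index = _
      rw [← hker, Subgroup.index_ker, hj]
    have hf : (Nat.card G).factorization 2 = m + 1 := by
      have h1 := d.centralizer_J.2
      refine le_antisymm ?_ ?_
      · have hc : Nat.card (P : Subgroup G) ∣ Nat.card (Subgroup.centralizer ({σ ^ 2 ^ (m - 1)} : Set G)) :=
          Subgroup.card_dvd_of_le fun u hu => Subgroup.mem_centralizer_singleton_iff.2 (d.J_central u hu).eq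
        rw [P.card_eq_multiplicity] at hc
        rw [← h1]
        exact (Nat.prime_two.pow_dvd_iff_le_factorization Nat.card_pos.ne').1 hc
      · rw [← h1]
        exact (Nat.factorization_le_iff_dvd Nat.card_pos.ne' Nat.card_pos.ne').2
          (Subgroup.card_subgroup_dvd_card _) 2
    rw [hj]
    refine (pow_dvd_pow 2 (?_ : j ≤ 1)).trans (by norm_num)
    have h1 : Nat.card N = Nat.card H * H.relIndex N := by
      rw [← Subgroup.card_mul_index (H.subgroupOf N), Nat.card_congr (Subgroup.subgroupOfEquivOfLe hHN).toEquiv]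
      rfl
    have h2 := (Nat.factorization_le_iff_dvd Nat.card_pos.ne' Nat.card_pos.ne').2
      (Subgroup.card_subgroup_dvd_card N) 2
    rw [h1, hj, Nat.factorization_mul Nat.card_pos.ne' (by positivity), Finsupp.add_apply,
      (d.centralizer_rotation ha).2, Nat.prime_two.factorization_pow, Finsupp.single_eq_same, hf] at h2
    omega
  have hτH : τ ∉ H := fun h => ha <| by
    have hc : Commute τ x := Subgroup.mem_centralizer_singleton_iff.1 h
    exact (d.tau_commute_iff ⟨a, zpow_natCast σ a⟩).1 hc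
  have h2 : H.relIndex N = 2 := by
    rcases (Nat.dvd_prime Nat.prime_two).1 hrel with h | h
    · exact absurd (Subgroup.relIndex_eq_one.1 h hτN) hτH
    · exact h
  rcases Cfsg.Lib.TwoFusion.mem_or_mul_mem h2 hτN hτH hgN with h | h
  · left
    rw [← hg, Subgroup.mem_centralizer_singleton_iff.1 h, mul_inv_cancel_right]
  · right
    have hc := Subgroup.mem_centralizer_singleton_iff.1 h
    rw [← hg]
    calc g * x * g⁻¹ = (g * τ) * (τ⁻¹ * x * τ) * (g * τ)⁻¹ := by group
      _ = (g * τ) * x⁻¹ * (g * τ)⁻¹ := by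
          rw [d.tau_inv]
          nth_rw 3 [← d.tau_inv]
          rw [d.tau_pow]
      _ = x⁻¹ := by
          have hc' : Commute (g * τ) x⁻¹ := Commute.inv_right hc
          rw [hc'.eq, mul_inv_cancel_right]

/-- The section of a 2-element with a normal 2-complement in its centraliser. -/
theorem colKer_section_complement {M : Ideal AlgInt} (hM : IsPModular 2 M) {x y w : G}
    (hx : ∃ k : ℕ, orderOf x = 2 ^ k)
    (hc : Cfsg.HasNormalPComplement 2 (Subgroup.centralizer ({x} : Set G)))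
    (hy : Commute x y) (hw : Commute x w) (hy2 : ¬ 2 ∣ orderOf y) (hw2 : ¬ 2 ∣ orderOf w) :
    colKer (principalBlock M G) (x * y) (x * w) =
      (2 : ℂ) ^ (Nat.card (Subgroup.centralizer ({x} : Set G))).factorization 2 := by
  classical
  haveI : Fact (Nat.Prime 2) := ⟨Nat.prime_two⟩
  set H := Subgroup.centralizer ({x} : Set G) with hH
  obtain ⟨L, hLn, hLc, k, hLk⟩ := Cfsg.Lib.Transfer.hasNormalPComplement_iff.1 hc
  haveI := hLn
  have hLo : ¬ 2 ∣ Nat.card L := fun h =>
    absurd (Nat.dvd_gcd h dvd_rfl) (by rw [hLc.gcd_eq_one]; norm_num)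
  have hk : (Nat.card H).factorization 2 = k := by
    rw [← L.card_mul_index, hLk, Nat.factorization_mul Nat.card_pos.ne' (by positivity), Finsupp.add_apply,
      Nat.factorization_eq_zero_of_not_dvd hLo, Nat.prime_two.factorization_pow, Finsupp.single_eq_same,
      zero_add]
  letI := Fintype.ofFinite H
  have hH' : H = Subgroup.centralizer (Subgroup.zpowers x : Set G) := (centralizer_zpowers x).symm
  set y' : H := ⟨y, Subgroup.mem_centralizer_singleton_iff.2 hy.symm.eq⟩
  set w' : H := ⟨w, Subgroup.mem_centralizer_singleton_iff.2 hw.symm.eq⟩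
  have hy' : ¬ 2 ∣ orderOf y' := by rw [← Subgroup.orderOf_coe]; exact hy2
  have hw' : ¬ 2 ∣ orderOf w' := by rw [← Subgroup.orderOf_coe]; exact hw2
  have hmemL : ∀ c : H, ¬ 2 ∣ orderOf c → c ∈ L := fun c hc' =>
    mem_of_pRegular_of_index_eq_pow Nat.prime_two L (k := k) hLk hc'
  have hB : IsPBlock M (principalBlock M G) := isPBlock_blockOf (principal G)
  show colKer _ (x * (y' : G)) (x * (w' : G)) = _
  rw [colKer_section hM hx hH' hB hy' hw', filter_induced_principal hM hx hH',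
    Finset.sum_singleton, colKer_eq, hk]
  refine Eq.trans (Finset.sum_congr (Finset.filter_congr fun χ _ =>
    mem_principalBlock_iff hM L hLo (k := k) hLk χ) fun χ hχ => ?_)
    ((sum_sq_trivial_on L).trans (by rw [hLk]; push_cast; ring))
  rw [(Finset.mem_filter.1 hχ).2 y' (hmemL y' hy'), (Finset.mem_filter.1 hχ).2 w' (hmemL w' hw'),
    irr_apply_one_eq_deg, Complex.conj_natCast]

/-- The principal block is constant on such a section. -/
theorem apply_section_complement {M : Ideal AlgInt} (hM : IsPModular 2 M) {x y : G}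
    (hx : ∃ k : ℕ, orderOf x = 2 ^ k)
    (hc : Cfsg.HasNormalPComplement 2 (Subgroup.centralizer ({x} : Set G)))
    (hy : Commute x y) (hy2 : ¬ 2 ∣ orderOf y) {χ : IrrCharacter G} (hχ : χ ∈ principalBlock M G) :
    (χ : G → ℂ) (x * y) = (χ : G → ℂ) x := by
  classical
  have h1 : ¬ 2 ∣ orderOf (1 : G) := by rw [orderOf_one]; norm_num
  have k1 := colKer_section_complement hM hx hc hy hy hy2 hy2
  have k2 := colKer_section_complement hM hx hc hy (Commute.one_right x) hy2 h1
  have k3 := colKer_section_complement hM hx hc (Commute.one_right x) hy h1 hy2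
  have k4 := colKer_section_complement hM hx hc (Commute.one_right x) (Commute.one_right x) h1 h1
  rw [mul_one] at k2 k3 k4
  rw [colKer_eq] at k1 k2 k3 k4
  set S := Finset.univ.filter (fun φ : IrrCharacter G => φ ∈ principalBlock M G)
  have hsum : ((∑ φ ∈ S, Complex.normSq ((φ : G → ℂ) (x * y) - (φ : G → ℂ) x) : ℝ) : ℂ) = 0 := by
    rw [Complex.ofReal_sum, Finset.sum_congr rfl fun (φ : IrrCharacter G) (_ : φ ∈ S) => show
      ((Complex.normSq ((φ : G → ℂ) (x * y) - (φ : G → ℂ) x) : ℝ) : ℂ) =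
        (φ : G → ℂ) (x * y) * conj ((φ : G → ℂ) (x * y)) - (φ : G → ℂ) (x * y) * conj ((φ : G → ℂ) x)
        - ((φ : G → ℂ) x * conj ((φ : G → ℂ) (x * y)) - (φ : G → ℂ) x * conj ((φ : G → ℂ) x)) by
      rw [← Complex.mul_conj, map_sub]; ring]
    rw [Finset.sum_sub_distrib, Finset.sum_sub_distrib, Finset.sum_sub_distrib, k1, k2, k3, k4]
    ring
  have h0 := (Finset.sum_eq_zero_iff_of_nonneg fun φ _ => Complex.normSq_nonneg _).1
    (Complex.ofReal_eq_zero.1 hsum) χ (Finset.mem_filter.2 ⟨Finset.mem_univ _, hχ⟩)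
  exact sub_eq_zero.1 (Complex.normSq_eq_zero.1 h0)

end Cfsg.Lib.Dihedral
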