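import Mathlib

/-!
# The combinatorics of the principal 2-block for dihedral Sylow 2-subgroups
-/

set_option autoImplicit false

namespace Cfsg.Lib.Dihedral

set_option linter.unusedSectionVars false

variable {ι : Type*} [DecidableEq ι]

/-- An integral vector of small norm has entries `±1` on its support. -/
theorem unit_entries (T : Finset ι) (f : ι → ℤ) {N : ℕ} (hN : N ≤ 3) (h : ∑ χ ∈ T, f χ * f χ = N) :
    (∀ χ ∈ T, f χ ≠ 0 → f χ = 1 ∨ f χ = -1) ∧ (T.filter (f · ≠ 0)).card = N := by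
  have h1 : ∀ χ ∈ T, f χ ≠ 0 → f χ = 1 ∨ f χ = -1 := by
    intro χ hχ hne
    have hle : f χ * f χ ≤ 3 := by
      refine le_trans (Finset.single_le_sum (f := fun χ => f χ * f χ) (fun a _ => mul_self_nonneg (f a)) hχ) ?_
      rw [h]; exact_mod_cast hN
    have h2 : -1 ≤ f χ := by nlinarith
    have h3 : f χ ≤ 1 := by nlinarith
    omega
  refine ⟨h1, ?_⟩
  have h2 : ∑ χ ∈ T.filter (f · ≠ 0), f χ * f χ = ∑ χ ∈ T.filter (f · ≠ 0), (1 : ℤ) :=
    Finset.sum_congr rfl fun χ hχ => by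
      obtain ⟨hT, hne⟩ := Finset.mem_filter.1 hχ
      rcases h1 χ hT hne with e | e <;> rw [e] <;> norm_num
  rw [Finset.sum_filter_of_ne (p := fun χ => f χ ≠ 0) (fun χ _ hne => fun e => hne (by rw [e, mul_zero])), h] at h2
  simpa using h2.symm

/-- Two such vectors with product one share exactly one entry, with the same value. -/
theorem share_one (T : Finset ι) (f g : ι → ℤ) {N : ℕ} (hN : N ≤ 3) (hf : ∑ χ ∈ T, f χ * f χ = (2 : ℕ))
    (hg : ∑ χ ∈ T, g χ * g χ = N) (hfg : ∑ χ ∈ T, f χ * g χ = 1) :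
    ∃ z ∈ T, f z ≠ 0 ∧ g z = f z ∧ ∀ χ ∈ T, f χ ≠ 0 → g χ ≠ 0 → χ = z := by
  obtain ⟨hu, hcard⟩ := unit_entries T f (by norm_num) hf
  obtain ⟨hv, -⟩ := unit_entries T g hN hg
  obtain ⟨a, b, hab, heq⟩ := Finset.card_eq_two.1 hcard
  have haS : a ∈ T.filter (f · ≠ 0) := by rw [heq]; simp
  have hbS : b ∈ T.filter (f · ≠ 0) := by rw [heq]; simp
  obtain ⟨haT, ha⟩ := Finset.mem_filter.1 haS
  obtain ⟨hbT, hb⟩ := Finset.mem_filter.1 hbS
  have hsum : f a * g a + f b * g b = 1 := by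
    rw [← hfg, ← Finset.sum_filter_of_ne (p := fun χ => f χ ≠ 0)
      (fun χ _ hne e => hne (by rw [e, zero_mul])), heq, Finset.sum_pair hab]
  have hall : ∀ χ ∈ T, f χ ≠ 0 → χ = a ∨ χ = b := fun χ hχ hne => by
    have : χ ∈ T.filter (f · ≠ 0) := Finset.mem_filter.2 ⟨hχ, hne⟩
    rw [heq] at this
    simpa using this
  rcases eq_or_ne (g a) 0 with ga | ga
  · rw [ga, mul_zero, zero_add] at hsum
    refine ⟨b, hbT, hb, ?_, fun χ hχ h1 h2 => ?_⟩
    · rcases hu b hbT hb with e | e <;> rw [e] at hsum ⊢ <;> omega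
    · exact (hall χ hχ h1).resolve_left fun e => h2 (e ▸ ga)
  rcases eq_or_ne (g b) 0 with gb | gb
  · rw [gb, mul_zero, add_zero] at hsum
    refine ⟨a, haT, ha, ?_, fun χ hχ h1 h2 => ?_⟩
    · rcases hu a haT ha with e | e <;> rw [e] at hsum ⊢ <;> omega
    · exact (hall χ hχ h1).resolve_right fun e => h2 (e ▸ gb)
  exfalso
  rcases hu a haT ha with e1 | e1 <;> rcases hu b hbT hb with e2 | e2 <;>
    rcases hv a haT ga with e3 | e3 <;> rcases hv b hbT gb with e4 | e4 <;>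
      rw [e1, e2, e3, e4] at hsum <;> omega

/-- The configuration of the rows. -/
theorem dihedral_rows (T : Finset ι) {h : ℕ} (heven : Even h) (h2 : 2 ≤ h) (E : ℕ → ι → ℤ) (L : ι → ℤ)
    (hL : ∀ χ ∈ T, 0 < L χ)
    (hij : ∀ i ∈ Finset.Ico 1 h, ∀ j ∈ Finset.Ico 1 h,
      ∑ χ ∈ T, E i χ * E j χ = if i = j then 2 else 1)
    (hih : ∀ i ∈ Finset.Ico 1 h, ∑ χ ∈ T, E i χ * E h χ = 1)
    (hhh : ∑ χ ∈ T, E h χ * E h χ = 3)
    (hsum : ∀ i ∈ Finset.Icc 1 h, ∑ χ ∈ T, E i χ * L χ = 1) :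
    ∃ (x u v : ι) (y : ℕ → ι) (s su sv : ℤ), (s = 1 ∨ s = -1) ∧ (su = 1 ∨ su = -1) ∧ (sv = 1 ∨ sv = -1) ∧
      x ∈ T ∧ u ∈ T ∧ v ∈ T ∧ x ≠ u ∧ x ≠ v ∧ u ≠ v ∧
      (∀ i ∈ Finset.Ico 1 h, y i ∈ T ∧ y i ≠ x ∧ y i ≠ u ∧ y i ≠ v) ∧
      Set.InjOn y (Finset.Ico 1 h : Set ℕ) ∧
      (∀ i ∈ Finset.Ico 1 h, ∀ χ ∈ T, E i χ = (if χ = x then s else 0) + if χ = y i then -s else 0) ∧
      ∀ χ ∈ T, E h χ = (if χ = x then s else 0) + (if χ = u then su else 0) + if χ = v then sv else 0 := by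
  have h1 : (1 : ℕ) ∈ Finset.Ico 1 h := Finset.mem_Ico.2 ⟨le_rfl, by omega⟩
  have hn : ∀ i ∈ Finset.Ico 1 h, ∑ χ ∈ T, E i χ * E i χ = (2 : ℕ) := fun i hi => by
    rw [hij i hi i hi, if_pos rfl]; rfl
  have hnh : ∑ χ ∈ T, E h χ * E h χ = (3 : ℕ) := hhh
  obtain ⟨x, hxT, hx1, hxh, hxu⟩ := share_one T (E 1) (E h) le_rfl (hn 1 h1) hnh (hih 1 h1)
  obtain ⟨huh, hch⟩ := unit_entries T (E h) le_rfl hnh
  have hxhS : x ∈ T.filter (E h · ≠ 0) := Finset.mem_filter.2 ⟨hxT, by rw [hxh]; exact hx1⟩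
  -- the partner of a distinguished entry
  have other : ∀ i ∈ Finset.Ico 1 h, ∀ z ∈ T, E i z ≠ 0 → ∃ w ∈ T, w ≠ z ∧ E i w ≠ 0 ∧
      (∀ χ ∈ T, E i χ ≠ 0 → χ = z ∨ χ = w) ∧ E i z * L z + E i w * L w = 1 := by
    intro i hi z hz hzne
    obtain ⟨-, hc⟩ := unit_entries T (E i) (by norm_num) (hn i hi)
    obtain ⟨w, hw⟩ := Finset.card_eq_one.1 (show ((T.filter (E i · ≠ 0)).erase z).card = 1 by
      rw [Finset.card_erase_of_mem (Finset.mem_filter.2 ⟨hz, hzne⟩), hc])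
    have hwS : w ∈ (T.filter (E i · ≠ 0)).erase z := by rw [hw]; simp
    obtain ⟨hwz, hwS⟩ := Finset.mem_erase.1 hwS
    obtain ⟨hwT, hwne⟩ := Finset.mem_filter.1 hwS
    have hall : ∀ χ ∈ T, E i χ ≠ 0 → χ = z ∨ χ = w := fun χ hχ hne => by
      by_cases e : χ = z
      · exact Or.inl e
      · have : χ ∈ (T.filter (E i · ≠ 0)).erase z := Finset.mem_erase.2 ⟨e, Finset.mem_filter.2 ⟨hχ, hne⟩⟩
        rw [hw] at this
        exact Or.inr (Finset.mem_singleton.1 this)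
    refine ⟨w, hwT, hwz, hwne, hall, ?_⟩
    rw [← hsum i (Finset.mem_Icc.2 ⟨(Finset.mem_Ico.1 hi).1, (Finset.mem_Ico.1 hi).2.le⟩)]
    have hsub : ({z, w} : Finset ι) ⊆ T := by
      intro a ha
      rcases Finset.mem_insert.1 ha with rfl | ha
      · exact hz
      · rw [Finset.mem_singleton.1 ha]; exact hwT
    rw [← Finset.sum_subset hsub (fun χ hχ hnot => ?_), Finset.sum_pair hwz.symm]
    rw [Finset.mem_insert, Finset.mem_singleton] at hnot
    by_cases e : E i χ = 0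
    · rw [e, zero_mul]
    · exact absurd (hall χ hχ e) hnot
  have hall : ∀ i ∈ Finset.Ico 1 h, E i x = E 1 x := by
    by_contra hcon
    push Not at hcon
    obtain ⟨j, hj, hjx⟩ := hcon
    have hj1 : j ≠ 1 := fun e => hjx (by rw [e])
    obtain ⟨y₁, hy₁T, hy₁x, hy₁ne, hy₁all, hrel1⟩ := other 1 h1 x hxT hx1
    -- every further vector avoids `x`, meets the first in `y₁` and the last in a further entry
    have step : ∀ k ∈ Finset.Ico 1 h, k ≠ 1 → E k x ≠ E 1 x → E k x = 0 ∧ E k y₁ = E 1 y₁ ∧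
        ∃ z ∈ T, z ≠ x ∧ E k z ≠ 0 ∧ E h z = E k z ∧ z ≠ y₁ ∧ E 1 y₁ * L y₁ + E h z * L z = 1 := by
      intro k hk hk1 hkx
      obtain ⟨w, hwT, hw1, hwk, hwu⟩ := share_one T (E 1) (E k) (by norm_num) (hn 1 h1) (hn k hk)
        (by rw [hij 1 h1 k hk, if_neg (Ne.symm hk1)])
      have hwy : w = y₁ := (hy₁all w hwT hw1).resolve_left fun e => hkx (e ▸ hwk)
      subst hwy
      have hkx0 : E k x = 0 := by
        by_contra e
        exact hw1 (absurd (hwu x hxT hx1 e) (Ne.symm hy₁x))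
      obtain ⟨z, hzT, hzk, hzh, hzu⟩ := share_one T (E k) (E h) le_rfl (hn k hk) hnh (hih k hk)
      have hzx : z ≠ x := fun e => hzk (e ▸ hkx0)
      have hzy : z ≠ w := fun e => hy₁x (by
        subst e
        exact hxu z hzT hy₁ne (by rw [hzh]; exact hzk))
      refine ⟨hkx0, hwk, z, hzT, hzx, hzk, hzh, hzy, ?_⟩
      obtain ⟨r, hrT, hrw, hrk, hrall, hrel⟩ := other k hk w hwT (by rw [hwk]; exact hw1)
      have hrz : r = z := ((hrall z hzT hzk).resolve_left hzy).symm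
      subst hrz
      rw [hzh, ← hwk]
      exact hrel
    obtain ⟨hjx0, hjy, z, hzT, hzx, hzj, hzh, hzy, hrelz⟩ := step j hj hj1 hjx
    obtain ⟨k, hk, hk1, hkj⟩ : ∃ k ∈ Finset.Ico 1 h, k ≠ 1 ∧ k ≠ j := by
      obtain ⟨l, rfl⟩ := heven
      have hj' := Finset.mem_Ico.1 hj
      by_cases e : j = 2
      · exact ⟨3, Finset.mem_Ico.2 ⟨by omega, by omega⟩, by omega, by omega⟩
      · exact ⟨2, Finset.mem_Ico.2 ⟨by omega, by omega⟩, by omega, Ne.symm e⟩
    obtain ⟨c, hcT, hck, hcj, hcu⟩ := share_one T (E k) (E j) (by norm_num) (hn k hk) (hn j hj)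
      (by rw [hij k hk j hj, if_neg hkj])
    by_cases hkx : E k x = E 1 x
    · obtain ⟨r, hrT, hrx, hrk, hrall, -⟩ := other k hk x hxT (by rw [hkx]; exact hx1)
      have hcr : c = r := (hrall c hcT hck).resolve_left fun e => hck (by
        have := hcj; rw [e, hjx0] at this; rw [e]; exact this.symm)
      subst hcr
      -- the only entries of the `j`-th vector are `y₁` and `z`
      obtain ⟨w', hw'T, hw'y, hw'ne, hw'all, -⟩ := other j hj y₁ hy₁T (by rw [hjy]; exact hy₁ne)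
      have hz' : z = w' := (hw'all z hzT hzj).resolve_left hzy
      rcases hw'all c hcT (by rw [hcj]; exact hck) with e | e
      · obtain ⟨a, -, -, -, hau⟩ := share_one T (E 1) (E k) (by norm_num) (hn 1 h1) (hn k hk)
          (by rw [hij 1 h1 k hk, if_neg (Ne.symm hk1)])
        exact hy₁x ((hau y₁ hy₁T hy₁ne (e ▸ hck)).trans (hau x hxT hx1 (by rw [hkx]; exact hx1)).symm)
      · obtain ⟨a, -, -, -, hau⟩ := share_one T (E k) (E h) le_rfl (hn k hk) hnh (hih k hk)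
        have hcz : c = z := e.trans hz'.symm
        exact hrx ((hau c hcT hck (by rw [hcz, hzh]; exact hzj)).trans
          (hau x hxT (by rw [hkx]; exact hx1) (by rw [hxh]; exact hx1)).symm)
    · obtain ⟨hkx0, hky, z', hz'T, hz'x, hz'k, hz'h, hz'y, hrelz'⟩ := step k hk hk1 hkx
      have hzz : z' ≠ z := fun e => by
        have hy : y₁ = c := hcu y₁ hy₁T (by rw [hky]; exact hy₁ne) (by rw [hjy]; exact hy₁ne)
        have hz2 : z = c := hcu z hzT (e ▸ hz'k) hzj
        exact hzy (hz2.trans hy.symm)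
      have h3 : ({x, z, z'} : Finset ι) = T.filter (E h · ≠ 0) := by
        refine Finset.eq_of_subset_of_card_le ?_ ?_
        · intro a ha
          simp only [Finset.mem_insert, Finset.mem_singleton] at ha
          rcases ha with rfl | rfl | rfl
          · exact hxhS
          · exact Finset.mem_filter.2 ⟨hzT, by rw [hzh]; exact hzj⟩
          · exact Finset.mem_filter.2 ⟨hz'T, by rw [hz'h]; exact hz'k⟩
        · rw [hch, Finset.card_insert_of_notMem (by simp [Ne.symm hzx, Ne.symm hz'x]),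
            Finset.card_pair (Ne.symm hzz)]
      have hs := hsum h (Finset.mem_Icc.2 ⟨by omega, le_rfl⟩)
      rw [← Finset.sum_filter_of_ne (p := fun χ => E h χ ≠ 0) (fun χ _ hne e => hne (by rw [e, zero_mul])),
        ← h3, Finset.sum_insert (by simp [Ne.symm hzx, Ne.symm hz'x]), Finset.sum_pair (Ne.symm hzz),
        hxh] at hs
      omega
  -- all vectors contain `x`
  have hex : ∀ i, ∃ w, i ∈ Finset.Ico 1 h → w ∈ T ∧ w ≠ x ∧ E i w ≠ 0 ∧
      (∀ χ ∈ T, E i χ ≠ 0 → χ = x ∨ χ = w) ∧ E i x * L x + E i w * L w = 1 := by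
    intro i
    by_cases hi : i ∈ Finset.Ico 1 h
    · obtain ⟨w, hw⟩ := other i hi x hxT (by rw [hall i hi]; exact hx1)
      exact ⟨w, fun _ => hw⟩
    · exact ⟨x, fun h => absurd h hi⟩
  choose y hy using hex
  obtain ⟨u, v, huv, huvS⟩ := Finset.card_eq_two.1 (show ((T.filter (E h · ≠ 0)).erase x).card = 2 by
    rw [Finset.card_erase_of_mem hxhS, hch])
  have huS : u ∈ (T.filter (E h · ≠ 0)).erase x := by rw [huvS]; simp
  have hvS : v ∈ (T.filter (E h · ≠ 0)).erase x := by rw [huvS]; simp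
  obtain ⟨hux, huS⟩ := Finset.mem_erase.1 huS
  obtain ⟨hvx, hvS⟩ := Finset.mem_erase.1 hvS
  obtain ⟨huT, hune⟩ := Finset.mem_filter.1 huS
  obtain ⟨hvT, hvne⟩ := Finset.mem_filter.1 hvS
  have hyh : ∀ i ∈ Finset.Ico 1 h, E h (y i) = 0 := by
    intro i hi
    by_contra e
    obtain ⟨hyT, hyx, hyne, -, -⟩ := hy i hi
    obtain ⟨a, -, -, -, hau⟩ := share_one T (E i) (E h) le_rfl (hn i hi) hnh (hih i hi)
    exact hyx ((hau _ hyT hyne e).trans (hau x hxT (by rw [hall i hi]; exact hx1) (by rw [hxh]; exact hx1)).symm)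
  refine ⟨x, u, v, y, E 1 x, E h u, E h v, (unit_entries T (E 1) (by norm_num) (hn 1 h1)).1 x hxT hx1,
    huh u huT hune, huh v hvT hvne, hxT, huT, hvT, hux.symm, hvx.symm, huv, fun i hi => ?_, ?_, ?_, ?_⟩
  · exact ⟨(hy i hi).1, (hy i hi).2.1, fun e => hune (e ▸ hyh i hi), fun e => hvne (e ▸ hyh i hi)⟩
  · intro i hi j hj e
    rw [Finset.mem_coe] at hi hj
    by_contra hne
    obtain ⟨hyT, hyx, hyne, -, -⟩ := hy i hi
    obtain ⟨a, -, -, -, hau⟩ := share_one T (E i) (E j) (by norm_num) (hn i hi) (hn j hj)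
      (by rw [hij i hi j hj, if_neg hne])
    exact hyx ((hau _ hyT hyne (e ▸ (hy j hj).2.2.1)).trans
      (hau x hxT (by rw [hall i hi]; exact hx1) (by rw [hall j hj]; exact hx1)).symm)
  · intro i hi χ hχ
    obtain ⟨hyT, hyx, hyne, hyall, hrel⟩ := hy i hi
    by_cases e : χ = x
    · subst e
      rw [if_pos rfl, if_neg (Ne.symm hyx), add_zero, hall i hi]
    · rw [if_neg e, zero_add]
      by_cases e' : χ = y i
      · subst e'
        rw [if_pos rfl]
        have hX := hL x hxT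
        have hY := hL _ hyT
        rw [hall i hi] at hrel
        rcases (unit_entries T (E 1) (by norm_num) (hn 1 h1)).1 x hxT hx1 with a | a <;>
          rcases (unit_entries T (E i) (by norm_num) (hn i hi)).1 _ hyT hyne with b | b <;>
            rw [a, b] at hrel ⊢ <;> omega
      · rw [if_neg e']
        by_contra hne
        rcases hyall χ hχ hne with a | a
        · exact e a
        · exact e' a
  · intro χ hχ
    by_cases e : χ = x
    · subst e
      rw [if_pos rfl, if_neg hux.symm, if_neg hvx.symm, add_zero, add_zero, hxh]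
    · by_cases e' : χ = u
      · subst e'
        rw [if_neg e, if_pos rfl, if_neg huv, zero_add, add_zero]
      · by_cases e'' : χ = v
        · subst e''
          rw [if_neg e, if_neg e', if_pos rfl, zero_add, zero_add]
        · rw [if_neg e, if_neg e', if_neg e'', add_zero, add_zero]
          by_contra hne
          have : χ ∈ (T.filter (E h · ≠ 0)).erase x := Finset.mem_erase.2 ⟨e, Finset.mem_filter.2 ⟨hχ, hne⟩⟩
          rw [huvS] at this
          simp [e', e''] at this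

end Cfsg.Lib.Dihedral
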