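import Mathlib
import Cfsg.Agent.Blocks.DihedralBasics
import Cfsg.Agent.Blocks.DihedralComb
import Cfsg.Agent.Blocks.Feit
import Cfsg.Agent.Blocks.Eigen

/-!
# The principal 2-block with a dihedral Sylow 2-subgroup
-/

set_option autoImplicit false
set_option linter.unusedSectionVars false
set_option linter.style.haveILetI false

namespace Cfsg.Lib.Dihedral

open Cfsg.Lib.Chars Cfsg.Lib.Blocks
open scoped ComplexConjugate

universe u

/-- A sum of the powers of a root of unity. -/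
theorem root_sum {q : ℕ} {z : ℂ} (hz : z ^ q = 1) :
    ∑ a ∈ Finset.range q, z ^ a = if z = 1 then (q : ℂ) else 0 := by
  split_ifs with h
  · simp [h]
  · rw [geom_sum_eq h, hz, sub_self, zero_div]

/-- Reindexing by negation modulo `q`. -/
theorem sum_range_neg {q : ℕ} (f : ℕ → ℂ) :
    ∑ a ∈ Finset.range q, f ((q - a) % q) = ∑ a ∈ Finset.range q, f a := by
  have hinv : ∀ a, a < q → (q - (q - a) % q) % q = a := by
    intro a ha
    rcases Nat.eq_zero_or_pos a with rfl | h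
    · simp
    · rw [Nat.mod_eq_of_lt (show q - a < q by omega), show q - (q - a) = a by omega, Nat.mod_eq_of_lt ha]
  refine Finset.sum_nbij' (fun a => (q - a) % q) (fun a => (q - a) % q) ?_ ?_ ?_ ?_ fun a _ => rfl
  · intro a ha
    exact Finset.mem_range.2 (Nat.mod_lt _ (by have := Finset.mem_range.1 ha; omega))
  · intro a ha
    exact Finset.mem_range.2 (Nat.mod_lt _ (by have := Finset.mem_range.1 ha; omega))
  · exact fun a ha => hinv a (Finset.mem_range.1 ha)
  · exact fun a ha => hinv a (Finset.mem_range.1 ha)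

theorem pow_neg_mod {q : ℕ} {z : ℂ} (hz : z ^ q = 1) {a : ℕ} (ha : a < q) :
    z ^ ((q - a) % q) = (z⁻¹) ^ a := by
  rw [← pow_eq_pow_mod _ hz]
  rw [inv_pow]
  exact eq_inv_of_mul_eq_one_left (by rw [← pow_add, show q - a + a = q by omega, hz])

variable {G : Type u} [Group G] [Fintype G] {P : Sylow 2 G} {σ τ : G} {m : ℕ}

theorem Data.pow_neg (d : Data P σ τ m) {a : ℕ} (ha : a < 2 ^ m) :
    σ ^ ((2 ^ m - a) % 2 ^ m) = (σ ^ a)⁻¹ := by
  rw [← d.order, pow_mod_orderOf, eq_inv_iff_mul_eq_one, ← pow_add,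
    show orderOf σ - a + a = orderOf σ by rw [d.order]; omega, pow_orderOf_eq_one]

theorem Data.value_neg (d : Data P σ τ m) (χ : IrrCharacter G) {a : ℕ} (ha : a < 2 ^ m) :
    (χ : G → ℂ) (σ ^ ((2 ^ m - a) % 2 ^ m)) = (χ : G → ℂ) (σ ^ a) := by
  rw [d.pow_neg ha, ← d.tau_pow, isClassFunction_irr χ]

theorem Data.value_real (d : Data P σ τ m) (χ : IrrCharacter G) (a : ℕ) :
    conj ((χ : G → ℂ) (σ ^ a)) = (χ : G → ℂ) (σ ^ a) := by
  rw [← IsCharacter.conj_inv (isCharacter_of_irr χ.2), ← d.tau_pow, isClassFunction_irr χ]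

theorem Data.sq_ne (d : Data P σ τ m) {a : ℕ} (ha : 0 < a) (ha' : a < 2 ^ m) (hne : a + a ≠ 2 ^ m) :
    σ ^ a * σ ^ a ≠ 1 := by
  intro h
  rw [← pow_add] at h
  obtain ⟨k, hk⟩ := d.order ▸ orderOf_dvd_of_pow_eq_one h
  rcases k with _ | _ | k
  · omega
  · omega
  · nlinarith

variable {M : Ideal AlgInt}

/-- The columns on the powers of `σ`. -/
theorem Data.column (d : Data P σ τ m) (hM : IsPModular 2 M) {a b : ℕ} (ha : 0 < a) (ha' : a < 2 ^ m)
    (hb : 0 < b) (hb' : b < 2 ^ m) [DecidablePred (· ∈ principalBlock M G)] :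
    ∑ χ ∈ Finset.univ.filter (· ∈ principalBlock M G), (χ : G → ℂ) (σ ^ a) * conj ((χ : G → ℂ) (σ ^ b)) =
      (2 ^ m : ℕ) * ((if b = a then (1 : ℂ) else 0) + if b = (2 ^ m - a) % 2 ^ m then 1 else 0) := by
  classical
  haveI : Fact (Nat.Prime 2) := ⟨Nat.prime_two⟩
  have hB : IsPBlock M (principalBlock M G) := isPBlock_blockOf (principal G)
  have hnege : (2 ^ m - a) % 2 ^ m = 2 ^ m - a := Nat.mod_eq_of_lt (by omega)
  have htwo : ∀ c : ℕ, ∃ k : ℕ, orderOf (σ ^ c) = 2 ^ k := fun c => by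
    obtain ⟨k, -, hk⟩ := (Nat.dvd_prime_pow Nat.prime_two).1 (d.order ▸ orderOf_pow_dvd (x := σ) c)
    exact ⟨k, hk⟩
  have hhalf := d.half
  have hC : ∀ c, 0 < c → c < 2 ^ m →
      Cfsg.HasNormalPComplement 2 (Subgroup.centralizer ({σ ^ c} : Set G)) ∧
        (2 : ℂ) ^ (Nat.card (Subgroup.centralizer ({σ ^ c} : Set G))).factorization 2 =
          (2 ^ m : ℕ) * (if c + c = 2 ^ m then 2 else 1) := by
    intro c hc hc'
    split_ifs with hcc
    · obtain rfl : c = 2 ^ (m - 1) := by omega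
      obtain ⟨h1, h2⟩ := d.centralizer_J
      refine ⟨h1, ?_⟩
      rw [h2]; push_cast; ring
    · obtain ⟨h1, h2⟩ := d.centralizer_rotation (d.sq_ne hc hc' hcc)
      refine ⟨h1, ?_⟩
      rw [h2]; push_cast; ring
  have hdiag : ∑ χ ∈ Finset.univ.filter (· ∈ principalBlock M G),
      (χ : G → ℂ) (σ ^ a) * conj ((χ : G → ℂ) (σ ^ a)) = (2 ^ m : ℕ) * (if a + a = 2 ^ m then 2 else 1) := by
    obtain ⟨h1, h2⟩ := hC a ha ha'
    rw [← h2, ← colKer_section_complement hM (htwo a) h1 (Commute.one_right (σ ^ a))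
      (Commute.one_right (σ ^ a)) (by rw [orderOf_one]; norm_num) (by rw [orderOf_one]; norm_num),
      colKer_eq, mul_one]
  rw [hnege]
  by_cases h1 : b = a
  · subst h1
    rw [hdiag, if_pos rfl]
    split_ifs with h2 h3 <;> first | omega | norm_num
  by_cases h2 : b = 2 ^ m - a
  · subst h2
    have hne : ¬ a + a = 2 ^ m := by omega
    rw [if_neg hne] at hdiag
    rw [if_neg h1, if_pos rfl, zero_add, ← hdiag]
    refine Finset.sum_congr rfl fun χ _ => ?_
    rw [← hnege, d.value_neg χ ha']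
  rw [if_neg h1, if_neg h2, add_zero, mul_zero]
  refine block_orthogonality_conj hM hB (isPPart_self Nat.prime_two (htwo a))
    (isPPart_self Nat.prime_two (htwo b)) fun hc => ?_
  have key : ∀ a b : ℕ, 0 < a → a < 2 ^ m → b < 2 ^ m → a + a ≠ 2 ^ m → IsConj (σ ^ a) (σ ^ b) →
      b = a ∨ b = 2 ^ m - a := by
    intro a b ha ha' hb' hne hc
    rcases d.rotation_conj (d.sq_ne ha ha' hne) hc with h | h
    · exact Or.inl (pow_injOn_Iio_orderOf (by rw [d.order]; exact hb') (by rw [d.order]; exact ha') h)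
    · rw [← d.pow_neg ha', Nat.mod_eq_of_lt (show 2 ^ m - a < 2 ^ m by omega)] at h
      exact Or.inr (pow_injOn_Iio_orderOf (by rw [d.order]; exact hb')
        (by rw [d.order]; exact Set.mem_Iio.2 (by omega)) h)
  by_cases hne : a + a = 2 ^ m
  · rcases key b a hb hb' ha' (by omega) hc.symm with h | h <;> omega
  · rcases key a b ha ha' hb' hne hc with h | h <;> omega

/-- Integral rows on the powers of `σ`. -/
theorem Data.exists_rows (d : Data P σ τ m) (hM : IsPModular 2 M) {ζ : ℂ}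
    (hζ : IsPrimitiveRoot ζ (2 ^ m)) [DecidablePred (· ∈ principalBlock M G)] :
    ∃ D : ℕ → IrrCharacter G → ℤ,
      (∀ (χ : IrrCharacter G) a, 0 < a → a < 2 ^ m →
        (χ : G → ℂ) (σ ^ a) = ∑ j ∈ Finset.range (2 ^ m), (D j χ : ℂ) * ζ ^ (j * a)) ∧
      (∀ χ : IrrCharacter G, D 0 χ = 0) ∧
      (∀ (χ : IrrCharacter G) j, 0 < j → j < 2 ^ m → D (2 ^ m - j) χ = D j χ) ∧
      (∀ j, 0 < j → j < 2 ^ m → D j (principal G) = -1) ∧
      (∀ i j, 0 < i → i < 2 ^ m → 0 < j → j < 2 ^ m →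
        ∑ χ ∈ Finset.univ.filter (· ∈ principalBlock M G), D i χ * D j χ =
          2 + (if i = j then 1 else 0) + if i + j = 2 ^ m then 1 else 0) ∧
      (∀ j, 0 < j → j < 2 ^ m → ∀ ρ : G, ¬ 2 ∣ orderOf ρ →
        ∑ χ ∈ Finset.univ.filter (· ∈ principalBlock M G), (D j χ : ℂ) * (χ : G → ℂ) ρ = 0) := by
  classical
  haveI : Fact (Nat.Prime 2) := ⟨Nat.prime_two⟩
  set q := 2 ^ m with hq
  have hq0 : 0 < q := by positivity
  haveI : NeZero q := ⟨hq0.ne'⟩
  have hqC : (q : ℂ) ≠ 0 := Nat.cast_ne_zero.2 hq0.ne'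
  have hζ0 : ζ ≠ 0 := hζ.ne_zero hq0.ne'
  have hζq : ζ ^ q = 1 := hζ.pow_eq_one
  choose w hw using fun χ : IrrCharacter G => exists_weights (isCharacter_of_irr χ.2) σ
  have himg : Polynomial.nthRootsFinset (orderOf σ) (1 : ℂ) =
      (Finset.range q).image (fun j => ζ ^ j) := by
    ext ω
    rw [Polynomial.mem_nthRootsFinset (orderOf_pos σ), Finset.mem_image, d.order]
    constructor
    · intro h
      obtain ⟨i, hi, rfl⟩ := hζ.eq_pow_of_pow_eq_one h
      exact ⟨i, Finset.mem_range.2 hi, rfl⟩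
    · rintro ⟨i, -, rfl⟩
      rw [← pow_mul, mul_comm, pow_mul, hζ.pow_eq_one, one_pow]
  have hexp : ∀ (χ : IrrCharacter G) (a : ℕ), (χ : G → ℂ) (σ ^ a) =
      ∑ j ∈ Finset.range q, (w χ (ζ ^ j) : ℂ) * ζ ^ (j * a) := by
    intro χ a
    rw [hw χ a, himg, Finset.sum_image fun i hi j hj h =>
      hζ.pow_inj (Finset.mem_range.1 hi) (Finset.mem_range.1 hj) h]
    exact Finset.sum_congr rfl fun j _ => by rw [pow_mul]
  have hunit : ∀ j, (ζ ^ j)⁻¹ ^ q = 1 := fun j => by
    rw [inv_pow, ← pow_mul, mul_comm, pow_mul, hζq, one_pow, inv_one]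
  have hinvert : ∀ (χ : IrrCharacter G), ∀ j < q,
      ∑ a ∈ Finset.range q, (χ : G → ℂ) (σ ^ a) * ((ζ ^ j)⁻¹) ^ a = (q : ℂ) * w χ (ζ ^ j) := by
    intro χ j hj
    rw [Finset.sum_congr rfl fun a _ => by rw [hexp χ a, Finset.sum_mul], Finset.sum_comm,
      Finset.sum_eq_single j]
    · rw [Finset.sum_congr rfl fun a _ => show _ = (w χ (ζ ^ j) : ℂ) by
        rw [pow_mul, mul_assoc, ← mul_pow, mul_inv_cancel₀ (pow_ne_zero _ hζ0), one_pow, mul_one],
        Finset.sum_const, Finset.card_range, nsmul_eq_mul]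
    · intro i hi hne
      rw [Finset.sum_congr rfl fun a _ => show _ = (w χ (ζ ^ i) : ℂ) * (ζ ^ i * (ζ ^ j)⁻¹) ^ a by
        rw [pow_mul, mul_assoc, ← mul_pow], ← Finset.mul_sum,
        root_sum (by rw [mul_pow, hunit, mul_one, ← pow_mul, mul_comm, pow_mul, hζq, one_pow]),
        if_neg, mul_zero]
      intro h
      exact hne (hζ.pow_inj (Finset.mem_range.1 hi) hj ((mul_inv_eq_one₀ (pow_ne_zero _ hζ0)).1 h))
    · exact fun h => absurd (Finset.mem_range.2 hj) h
  set D : ℕ → IrrCharacter G → ℤ := fun j χ => (w χ (ζ ^ j) : ℤ) - w χ 1 with hD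
  have hkey : ∀ (χ : IrrCharacter G), ∀ j < q, (q : ℂ) * (D j χ : ℂ) =
      ∑ a ∈ Finset.range q, (χ : G → ℂ) (σ ^ a) * (((ζ ^ j)⁻¹) ^ a - 1) := by
    intro χ j hj
    have h0 := hinvert χ 0 hq0
    simp only [pow_zero, inv_one, one_pow, mul_one] at h0
    simp only [mul_sub, mul_one, Finset.sum_sub_distrib, hinvert χ j hj, h0, hD]
    push_cast
    ring
  have hone : ∀ j, 0 < j → j < q → ζ ^ j ≠ 1 := fun j hj hj' => hζ.pow_ne_one_of_pos_of_lt hj.ne' hj'
  have hsum1 : ∀ j, 0 < j → j < q → ∑ a ∈ Finset.range q, (ζ ^ j) ^ a = 0 := fun j hj hj' => by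
    rw [root_sum (by rw [← pow_mul, mul_comm, pow_mul, hζq, one_pow]), if_neg (hone j hj hj')]
  have hsum1' : ∀ j, 0 < j → j < q → ∑ a ∈ Finset.range q, ((ζ ^ j)⁻¹) ^ a = 0 := fun j hj hj' => by
    rw [root_sum (hunit j), if_neg fun h => hone j hj hj' (inv_eq_one.1 h)]
  refine ⟨D, fun χ a ha ha' => ?_, fun χ => by simp [hD], fun χ j hj hj' => ?_, fun j hj hj' => ?_,
    fun i j hi hi' hj hj' => ?_, fun j hj hj' ρ hρ => ?_⟩
  · rw [hexp χ a]
    have : ∑ j ∈ Finset.range q, ζ ^ (j * a) = 0 := by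
      rw [← hsum1 a ha ha']
      exact Finset.sum_congr rfl fun j _ => by rw [← pow_mul, mul_comm]
    simp only [hD, Int.cast_sub, Int.cast_natCast, sub_mul, Finset.sum_sub_distrib, ← Finset.mul_sum,
      this, mul_zero, sub_zero]
  · apply Int.cast_injective (α := ℂ)
    apply mul_left_cancel₀ hqC
    rw [hkey χ _ (by omega), hkey χ j hj', ← sum_range_neg]
    refine Finset.sum_congr rfl fun a ha => ?_
    rw [Finset.mem_range] at ha
    rw [d.value_neg χ ha, pow_neg_mod (hunit _) ha, inv_inv]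
    congr 3
    exact eq_inv_of_mul_eq_one_left (by rw [← pow_add, show q - j + j = q by omega, hζq])
  · apply Int.cast_injective (α := ℂ)
    apply mul_left_cancel₀ hqC
    rw [hkey _ j hj']
    have : ∀ a, ((principal G : IrrCharacter G) : G → ℂ) (σ ^ a) = 1 := fun a => rfl
    simp only [this, one_mul, Finset.sum_sub_distrib, hsum1' j hj hj', Finset.sum_const, Finset.card_range,
      nsmul_eq_mul]
    push_cast
    ring
  · apply Int.cast_injective (α := ℂ)
    apply mul_left_cancel₀ (mul_ne_zero hqC hqC)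
    set T := Finset.univ.filter (fun χ : IrrCharacter G => χ ∈ principalBlock M G) with hT
    set c : ℕ → ℕ → ℂ := fun j a => ((ζ ^ j)⁻¹) ^ a - 1 with hc
    have hcc : ∀ j a, conj (c j a) = (ζ ^ j) ^ a - 1 := fun j a => by
      have hn : ‖ζ ^ j‖ = 1 := by rw [norm_pow, hζ.norm'_eq_one hq0.ne', one_pow]
      simp only [hc, map_sub, map_one, map_pow, map_inv₀]
      rw [← map_pow, ← Complex.inv_eq_conj hn, inv_inv]
    calc (q : ℂ) * q * ((∑ χ ∈ T, D i χ * D j χ : ℤ) : ℂ)
        = ∑ χ ∈ T, ((q : ℂ) * D i χ) * conj ((q : ℂ) * D j χ) := by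
          push_cast
          rw [Finset.mul_sum]
          exact Finset.sum_congr rfl fun χ _ => by rw [map_mul, map_intCast, map_natCast]; ring
      _ = ∑ a ∈ Finset.range q, ∑ b ∈ Finset.range q, (c i a * conj (c j b)) *
            ∑ χ ∈ T, (χ : G → ℂ) (σ ^ a) * conj ((χ : G → ℂ) (σ ^ b)) := by
          rw [Finset.sum_congr rfl fun χ _ => by
            rw [hkey χ i hi', hkey χ j hj', map_sum, Finset.sum_mul_sum]]
          rw [Finset.sum_comm]
          refine Finset.sum_congr rfl fun a _ => ?_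
          rw [Finset.sum_comm]
          refine Finset.sum_congr rfl fun b _ => ?_
          rw [Finset.mul_sum]
          exact Finset.sum_congr rfl fun χ _ => by rw [map_mul]; simp only [hc]; ring
      _ = ∑ a ∈ Finset.range q, ∑ b ∈ Finset.range q, (c i a * conj (c j b)) *
            ((q : ℂ) * ((if b = a then 1 else 0) + if b = (q - a) % q then 1 else 0)) := by
          refine Finset.sum_congr rfl fun a ha => Finset.sum_congr rfl fun b hb => ?_
          rcases Nat.eq_zero_or_pos a with rfl | ha0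
          · simp [hc]
          rcases Nat.eq_zero_or_pos b with rfl | hb0
          · simp [hc]
          rw [hT, d.column hM ha0 (Finset.mem_range.1 ha) hb0 (Finset.mem_range.1 hb)]
      _ = ∑ a ∈ Finset.range q, (q : ℂ) * (c i a * (conj (c j a) + conj (c j ((q - a) % q)))) := by
          refine Finset.sum_congr rfl fun a ha => ?_
          simp only [mul_add, Finset.sum_add_distrib, mul_ite, mul_zero, mul_one, Finset.sum_ite_eq', ha,
            if_true, Finset.mem_range.2 (Nat.mod_lt (q - a) hq0)]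
          ring
      _ = ∑ a ∈ Finset.range q, (q : ℂ) * (((ζ ^ i)⁻¹ * ζ ^ j) ^ a + ((ζ ^ i)⁻¹ * (ζ ^ j)⁻¹) ^ a
            - 2 * ((ζ ^ i)⁻¹) ^ a - (ζ ^ j) ^ a - ((ζ ^ j)⁻¹) ^ a + 2) := by
          refine Finset.sum_congr rfl fun a ha => ?_
          rw [hcc, hcc, pow_neg_mod (by rw [← pow_mul, mul_comm, pow_mul, hζq, one_pow])
            (Finset.mem_range.1 ha), mul_pow, mul_pow]
          simp only [hc]
          ring
      _ = (q : ℂ) * q * (((2 + (if i = j then 1 else 0) + if i + j = q then 1 else 0 : ℤ)) : ℂ) := by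
          rw [← Finset.mul_sum]
          simp only [Finset.sum_add_distrib, Finset.sum_sub_distrib, ← Finset.mul_sum, hsum1 j hj hj',
            hsum1' i hi hi', hsum1' j hj hj', Finset.sum_const, Finset.card_range, nsmul_eq_mul]
          rw [root_sum (by rw [mul_pow, hunit, one_mul, ← pow_mul, mul_comm, pow_mul, hζq, one_pow]),
            root_sum (by rw [mul_pow, hunit, hunit, one_mul])]
          have e1 : ((ζ ^ i)⁻¹ * ζ ^ j = 1) ↔ i = j := by
            rw [inv_mul_eq_one₀ (pow_ne_zero _ hζ0)]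
            exact ⟨hζ.pow_inj hi' hj', fun h => by rw [h]⟩
          have e2 : ((ζ ^ i)⁻¹ * (ζ ^ j)⁻¹ = 1) ↔ i + j = q := by
            rw [← mul_inv, inv_eq_one, ← pow_add, hζ.pow_eq_one_iff_dvd]
            constructor
            · rintro ⟨k, hk⟩
              rcases k with _ | _ | k <;> [omega; omega; nlinarith]
            · intro h; rw [h]
          simp only [e1, e2]
          split_ifs <;> push_cast <;> ring
  · apply mul_left_cancel₀ hqC
    rw [mul_zero, Finset.mul_sum,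
      Finset.sum_congr rfl fun χ _ => by rw [← mul_assoc, hkey χ j hj', Finset.sum_mul],
      Finset.sum_comm]
    refine Finset.sum_eq_zero fun a ha => ?_
    rcases Nat.eq_zero_or_pos a with rfl | ha0
    · simp
    have hB : IsPBlock M (principalBlock M G) := isPBlock_blockOf (principal G)
    have hs : 2 ∣ orderOf (σ ^ a) := by
      obtain ⟨k, -, hk⟩ := (Nat.dvd_prime_pow Nat.prime_two).1 (d.order ▸ orderOf_pow_dvd (x := σ) a)
      rcases k with _ | k
      · rw [pow_zero, orderOf_eq_one_iff, ← orderOf_dvd_iff_pow_eq_one, d.order] at hk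
        exact absurd (Nat.le_of_dvd ha0 hk) (not_le.2 (Finset.mem_range.1 ha))
      · rw [hk]; exact dvd_pow_self 2 (Nat.succ_ne_zero k)
    rw [← mul_zero (((ζ ^ j)⁻¹) ^ a - 1), ← block_orthogonality_regular hM hB hρ hs, Finset.mul_sum]
    exact Finset.sum_congr rfl fun χ _ => by rw [d.value_real χ a]; ring

/-- A character of the principal block vanishing on the elements of even order is absent. -/
theorem exists_singular_ne_zero (hM : IsPModular 2 M) (h2 : 2 ∣ Nat.card G) {χ : IrrCharacter G}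
    (hχ : χ ∈ principalBlock M G) (hne : χ ≠ principal G) :
    ∃ g : G, 2 ∣ orderOf g ∧ (χ : G → ℂ) g ≠ 0 := by
  classical
  by_contra hcon
  push Not at hcon
  haveI : Fact (Nat.Prime 2) := ⟨Nat.prime_two⟩
  have hB : IsPBlock M (principalBlock M G) := isPBlock_blockOf (principal G)
  have h1B : principal G ∈ principalBlock M G := mem_blockOf_self hM (principal G)
  have hreg := (regInt_height_zero hM hB h1B (blockHeight_one _) hχ).1
  apply hreg
  apply Int.cast_injective (α := ℂ)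
  rw [regInt_spec Nat.prime_two, Int.cast_zero, mul_eq_zero]
  right
  have e : classInner (pRegularPart 2 ((principal G : IrrCharacter G) : G → ℂ)) (χ : G → ℂ) =
      classInner ((principal G : IrrCharacter G) : G → ℂ) (χ : G → ℂ) := by
    rw [classInner_def, classInner_def]
    congr 1
    refine Finset.sum_congr rfl fun g _ => ?_
    rw [pRegularPart_apply]
    split_ifs with hg
    · rw [hcon g hg, map_zero, mul_zero, mul_zero]
    · rfl
  rw [e, classInner_irr_ne (Ne.symm hne)]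

/-- A member vanishing on `⟨σ⟩` vanishes on the elements of even order, given four members with odd
values at the central involution. -/
theorem Data.vanish (d : Data P σ τ m) (hM : IsPModular 2 M) {χ : IrrCharacter G}
    (hχ : χ ∈ principalBlock M G) (hχ0 : ∀ a, 0 < a → a < 2 ^ m → (χ : G → ℂ) (σ ^ a) = 0)
    (F : Finset (IrrCharacter G)) (hF : F.card = 4) (hFB : ∀ ψ ∈ F, ψ ∈ principalBlock M G)
    (hFodd : ∀ ψ ∈ F, (ψ : G → ℂ) (σ ^ 2 ^ (m - 1)) = 1 ∨ (ψ : G → ℂ) (σ ^ 2 ^ (m - 1)) = -1)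
    (hχF : χ ∉ F) {g : G} (hg : 2 ∣ orderOf g) : (χ : G → ℂ) g = 0 := by
  classical
  haveI : Fact (Nat.Prime 2) := ⟨Nat.prime_two⟩
  obtain ⟨x, hx⟩ := exists_isPPart' (p := 2) Nat.prime_two g
  obtain ⟨y, hy, hc, hxo, hny⟩ := hx
  obtain ⟨k, hk⟩ := hxo
  have hxP : IsPGroup 2 (Subgroup.zpowers x) := IsPGroup.of_card (n := k) (by rw [Nat.card_zpowers, hk])
  obtain ⟨Q, hQ⟩ := hxP.exists_le_sylow
  obtain ⟨c, hcQ⟩ := MulAction.exists_smul_eq G Q P
  have hx'P : c * x * c⁻¹ ∈ (P : Subgroup G) := by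
    rw [← hcQ, Sylow.coe_subgroup_smul]
    exact Subgroup.smul_mem_pointwise_smul x (MulAut.conj c) _ (hQ (Subgroup.mem_zpowers x))
  have hval : (χ : G → ℂ) g = (χ : G → ℂ) ((c * x * c⁻¹) * (c * y * c⁻¹)) := by
    rw [show (c * x * c⁻¹) * (c * y * c⁻¹) = c * (x * y) * c⁻¹ by group, isClassFunction_irr χ, hy]
  have hx1 : c * x * c⁻¹ ≠ 1 := fun h => by
    rw [conj_eq_one_iff] at h
    rw [h, one_mul] at hy
    exact hny (hy ▸ hg)
  have hcomm : Commute (c * x * c⁻¹) (c * y * c⁻¹) := hc.map (MulAut.conj c).toMonoidHom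
  have hny' : ¬ 2 ∣ orderOf (c * y * c⁻¹) := by rwa [← MulAut.conj_apply, MulEquiv.orderOf_eq]
  rw [hval]
  set z := c * x * c⁻¹
  have hzo : ∃ k, orderOf z = 2 ^ k := ⟨k, by rw [← hk]; exact MulEquiv.orderOf_eq (MulAut.conj c) x⟩
  by_cases hzσ : z ∈ Subgroup.zpowers σ
  · obtain ⟨a, ha', haz⟩ : ∃ a, a < 2 ^ m ∧ σ ^ a = z := by
      rw [mem_zpowers_iff_mem_range_orderOf, Finset.mem_image] at hzσ
      obtain ⟨a, ha, haz⟩ := hzσ
      exact ⟨a, d.order ▸ Finset.mem_range.1 ha, haz⟩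
    have ha0 : 0 < a := Nat.pos_of_ne_zero fun h => hx1 (by rw [← haz, h, pow_zero])
    have hC : Cfsg.HasNormalPComplement 2 (Subgroup.centralizer ({z} : Set G)) := by
      rw [← haz]
      by_cases h : a + a = 2 ^ m
      · obtain rfl : a = 2 ^ (m - 1) := by have := d.half; omega
        exact d.centralizer_J.1
      · exact (d.centralizer_rotation (d.sq_ne ha0 ha' h)).1
    rw [apply_section_complement hM hzo hC hcomm hny' hχ, ← haz, hχ0 a ha0 ha']
  by_cases hJz : IsConj (σ ^ 2 ^ (m - 1)) z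
  · obtain ⟨b, hb⟩ := isConj_iff.1 hJz
    have hb' : b⁻¹ * z * b = σ ^ 2 ^ (m - 1) := by rw [← hb]; group
    have hhalf := d.half
    have := Nat.two_pow_pos (m - 1)
    rw [← hb, show b * σ ^ 2 ^ (m - 1) * b⁻¹ * (c * y * c⁻¹) =
      b * (σ ^ 2 ^ (m - 1) * (b⁻¹ * (c * y * c⁻¹) * b)) * b⁻¹ by group, isClassFunction_irr χ,
      apply_section_complement hM ⟨1, by rw [d.orderOf_J, pow_one]⟩ d.centralizer_J.1 ?_ ?_ hχ,
      hχ0 _ (by positivity) (by omega)]
    · rw [← hb']
      have := hcomm.map (MulAut.conj b⁻¹).toMonoidHom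
      simpa [MulAut.conj_apply] using this
    · have := MulEquiv.orderOf_eq (MulAut.conj b⁻¹) (c * y * c⁻¹)
      rw [MulAut.conj_apply, inv_inv] at this
      rwa [this]
  obtain ⟨hC, hf⟩ := d.centralizer_reflection hx'P hzσ hJz
  rw [apply_section_complement hM hzo hC hcomm hny' hχ]
  have hz2 : orderOf z = 2 := orderOf_eq_prime (by rw [pow_two]; exact (d.reflection hx'P hzσ).1) hx1
  choose n hn using fun ψ : IrrCharacter G => Cfsg.Agent.S0944.result ψ z hz2
  choose n' hn' using fun ψ : IrrCharacter G =>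
    Cfsg.Agent.S0944.result ψ (σ ^ 2 ^ (m - 1)) d.orderOf_J
  set T := Finset.univ.filter (fun ψ : IrrCharacter G => ψ ∈ principalBlock M G) with hT
  have hone : ¬ 2 ∣ orderOf (1 : G) := by rw [orderOf_one]; norm_num
  have h4 : ∑ ψ ∈ T, n ψ * n ψ = 4 := by
    apply Int.cast_injective (α := ℂ)
    have h := colKer_section_complement hM hzo hC (Commute.one_right z) (Commute.one_right z) hone hone
    rw [mul_one, colKer_eq, hf] at h
    push_cast
    rw [show (4 : ℂ) = 2 ^ 2 by norm_num, ← h]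
    exact Finset.sum_congr rfl fun ψ _ => by rw [(hn ψ).1, map_intCast]
  have hodd : ∀ ψ ∈ F, 1 ≤ n ψ * n ψ := by
    intro ψ hψ
    have h1 : n' ψ = 1 ∨ n' ψ = -1 := by
      rcases hFodd ψ hψ with h | h <;> rw [(hn' ψ).1] at h
      · left; exact_mod_cast h
      · right; exact_mod_cast h
    have h2 := (hn ψ).2
    have h3 := (hn' ψ).2
    have h5 : n ψ ≠ 0 := by rcases h1 with h | h <;> omega
    have := mul_self_pos.2 h5
    omega
  have h5 : ∑ ψ ∈ insert χ F, n ψ * n ψ ≤ 4 := by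
    rw [← h4]
    refine Finset.sum_le_sum_of_subset_of_nonneg ?_ fun a _ _ => mul_self_nonneg _
    intro ψ hψ
    refine Finset.mem_filter.2 ⟨Finset.mem_univ _, ?_⟩
    rcases Finset.mem_insert.1 hψ with rfl | h
    · exact hχ
    · exact hFB ψ h
  rw [Finset.sum_insert hχF] at h5
  have h6 := Finset.card_nsmul_le_sum F (fun ψ => n ψ * n ψ) 1 hodd
  rw [hF] at h6
  simp only [nsmul_eq_mul, Nat.cast_ofNat, mul_one] at h6
  have h7 : n χ * n χ = 0 := le_antisymm (by omega) (mul_self_nonneg _)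
  rw [(hn χ).1, mul_self_eq_zero.1 h7, Int.cast_zero]

set_option maxHeartbeats 1600000 in
/-- **The principal 2-block with a dihedral Sylow 2-subgroup.** -/
theorem Data.principal_block (d : Data P σ τ m) (hM : IsPModular 2 M) {ζ : ℂ}
    (hζ : IsPrimitiveRoot ζ (2 ^ m)) [DecidablePred (· ∈ principalBlock M G)]
    [DecidableEq (IrrCharacter G)] :
    ∃ (x u v : IrrCharacter G) (y : ℕ → IrrCharacter G) (s su sv : ℤ),
      (s = 1 ∨ s = -1) ∧ (su = 1 ∨ su = -1) ∧ (sv = 1 ∨ sv = -1) ∧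
      principal G ≠ x ∧ principal G ≠ u ∧ principal G ≠ v ∧ x ≠ u ∧ x ≠ v ∧ u ≠ v ∧
      (∀ i ∈ Finset.Ico 1 (2 ^ (m - 1)), y i ≠ principal G ∧ y i ≠ x ∧ y i ≠ u ∧ y i ≠ v) ∧
      Set.InjOn y (Finset.Ico 1 (2 ^ (m - 1)) : Set ℕ) ∧
      Finset.univ.filter (· ∈ principalBlock M G) =
        insert (principal G) (insert x (insert u (insert v ((Finset.Ico 1 (2 ^ (m - 1))).image y)))) ∧
      (∀ a, 0 < a → a < 2 ^ m → (x : G → ℂ) (σ ^ a) = -(s : ℂ) ∧ (u : G → ℂ) (σ ^ a) = su * (-1) ^ a ∧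
        (v : G → ℂ) (σ ^ a) = sv * (-1) ^ a ∧
        ∀ i ∈ Finset.Ico 1 (2 ^ (m - 1)), (y i : G → ℂ) (σ ^ a) =
          -(s : ℂ) * (ζ ^ (i * a) + (ζ ^ (i * a))⁻¹)) ∧
      ∀ ρ : G, ¬ 2 ∣ orderOf ρ →
        (su : ℂ) * (u : G → ℂ) ρ + sv * (v : G → ℂ) ρ = 1 - s * (x : G → ℂ) ρ ∧
        ∀ i ∈ Finset.Ico 1 (2 ^ (m - 1)), -(s : ℂ) * (y i : G → ℂ) ρ = 1 - s * (x : G → ℂ) ρ := by
  classical
  haveI : Fact (Nat.Prime 2) := ⟨Nat.prime_two⟩
  obtain ⟨D, hval, hD0, hDneg, hDp, hDD, hDreg⟩ := d.exists_rows hM hζ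
  set q := 2 ^ m with hq
  set h := 2 ^ (m - 1) with hh
  have hhq : h + h = q := d.half
  have hh2 : 2 ≤ h := le_trans (by norm_num) (Nat.pow_le_pow_right two_pos
    (show 1 ≤ m - 1 by have := d.two_le; omega))
  have heven : Even h := (Nat.even_pow.2 ⟨even_two, by have := d.two_le; omega⟩)
  set T := Finset.univ.filter (fun χ : IrrCharacter G => χ ∈ principalBlock M G) with hT
  set T' := T.erase (principal G) with hT'
  have h1T : principal G ∈ T := Finset.mem_filter.2 ⟨Finset.mem_univ _, (mem_blockOf_self hM (principal G) : principal G ∈ principalBlock M G)⟩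
  have hsum' : ∀ f : IrrCharacter G → ℤ, ∑ χ ∈ T', f χ = ∑ χ ∈ T, f χ - f (principal G) := fun f => by
    rw [hT', ← Finset.sum_erase_add T f h1T]; ring
  have hij : ∀ i ∈ Finset.Ico 1 h, ∀ j ∈ Finset.Ico 1 h,
      ∑ χ ∈ T', D i χ * D j χ = if i = j then 2 else 1 := by
    intro i hi j hj
    rw [Finset.mem_Ico] at hi hj
    rw [hsum', hDD i j hi.1 (by omega) hj.1 (by omega), hDp i hi.1 (by omega), hDp j hj.1 (by omega)]
    split_ifs <;> omega
  have hih : ∀ i ∈ Finset.Ico 1 h, ∑ χ ∈ T', D i χ * D h χ = 1 := by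
    intro i hi
    rw [Finset.mem_Ico] at hi
    rw [hsum', hDD i h hi.1 (by omega) (by omega) (by omega), hDp i hi.1 (by omega),
      hDp h (by omega) (by omega)]
    split_ifs <;> omega
  have hhh : ∑ χ ∈ T', D h χ * D h χ = 3 := by
    rw [hsum', hDD h h (by omega) (by omega) (by omega) (by omega), hDp h (by omega) (by omega)]
    split_ifs <;> omega
  have hLsum : ∀ i ∈ Finset.Icc 1 h, ∑ χ ∈ T', D i χ * (deg (χ : G → ℂ) : ℤ) = 1 := by
    intro i hi
    rw [Finset.mem_Icc] at hi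
    have h0 : ∑ χ ∈ T, D i χ * (deg (χ : G → ℂ) : ℤ) = 0 := by
      apply Int.cast_injective (α := ℂ)
      push_cast
      rw [← hDreg i hi.1 (by omega) 1 (by rw [orderOf_one]; norm_num)]
      exact Finset.sum_congr rfl fun χ _ => by rw [irr_apply_one_eq_deg]
    have hd1 : deg ((principal G : IrrCharacter G) : G → ℂ) = 1 := by
      apply Nat.cast_injective (R := ℂ)
      rw [← irr_apply_one_eq_deg, Nat.cast_one]
      rfl
    rw [hsum', h0, hDp i hi.1 (by omega), hd1]
    norm_num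
  obtain ⟨x, u, v, y, s, su, sv, hs, hsu, hsv, hxT, huT, hvT, hxu, hxv, huv, hy, hyinj, hrow, hrowh⟩ :=
    dihedral_rows T' heven hh2 D (fun χ => (deg (χ : G → ℂ) : ℤ))
      (fun χ _ => by exact_mod_cast deg_irr_pos χ) hij hih hhh hLsum
  have hmem : ∀ {χ}, χ ∈ T' → χ ≠ principal G ∧ χ ∈ principalBlock M G := fun {χ} hχ => by
    obtain ⟨h1, h2⟩ := Finset.mem_erase.1 hχ
    exact ⟨h1, (Finset.mem_filter.1 h2).2⟩
  -- the values on `⟨σ⟩`
  have hsplit : ∀ (χ : IrrCharacter G) a, 0 < a → a < q → (χ : G → ℂ) (σ ^ a) =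
      (D h χ : ℂ) * (-1) ^ a + ∑ j ∈ Finset.Ico 1 h, (D j χ : ℂ) * (ζ ^ (j * a) + (ζ ^ (j * a))⁻¹) := by
    intro χ a ha ha'
    rw [hval χ a ha ha', Finset.range_eq_Ico,
      ← Finset.sum_Ico_consecutive _ (show 0 ≤ 1 by omega) (show 1 ≤ q by omega),
      ← Finset.sum_Ico_consecutive _ (show 1 ≤ h by omega) (show h ≤ q by omega),
      Finset.sum_eq_sum_Ico_succ_bot (show h < q by omega)]
    rw [show Finset.Ico 0 1 = {0} from rfl, Finset.sum_singleton, hD0, Int.cast_zero, zero_mul, zero_add]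
    have hrefl : ∑ j ∈ Finset.Ico (h + 1) q, (D j χ : ℂ) * ζ ^ (j * a) =
        ∑ j ∈ Finset.Ico 1 h, (D j χ : ℂ) * (ζ ^ (j * a))⁻¹ := by
      refine Finset.sum_nbij' (fun j => q - j) (fun j => q - j) ?_ ?_ ?_ ?_ ?_ <;> intro j hj <;>
        simp only [Finset.mem_Ico] at hj ⊢
      · omega
      · omega
      · omega
      · omega
      · rw [hDneg χ j (by omega) (by omega)]
        congr 1
        refine (eq_inv_of_mul_eq_one_left ?_)
        rw [← pow_add, ← add_mul, show j + (q - j) = q by omega, pow_mul, hζ.pow_eq_one, one_pow]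
    have hm1 : ζ ^ h = -1 := by
      have h1 : (ζ ^ h) * (ζ ^ h) = 1 := by rw [← pow_add, hhq, hζ.pow_eq_one]
      rcases mul_self_eq_one_iff.1 h1 with e | e
      · exact absurd e (hζ.pow_ne_one_of_pos_of_lt (by omega) (by omega))
      · exact e
    rw [hrefl, pow_mul ζ h a, hm1]
    simp only [mul_add, Finset.sum_add_distrib]
    ring
  have hgeom : ∀ a, 0 < a → a < q →
      ∑ j ∈ Finset.Ico 1 h, (ζ ^ (j * a) + (ζ ^ (j * a))⁻¹) = -1 - (-1) ^ a := by
    intro a ha ha'
    have h1 := hsplit (principal G) a ha ha'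
    rw [show ((principal G : IrrCharacter G) : G → ℂ) (σ ^ a) = 1 from rfl, hDp h (by omega) (by omega),
      Finset.sum_congr rfl (g := fun j => -(ζ ^ (j * a) + (ζ ^ (j * a))⁻¹)) (fun j hj => by
        rw [Finset.mem_Ico] at hj
        rw [hDp j hj.1 (by omega)]; push_cast; ring), Finset.sum_neg_distrib] at h1
    push_cast at h1
    linear_combination h1
  have hxD : ∀ i ∈ Finset.Ico 1 h, D i x = s := fun i hi => by
    rw [hrow i hi x hxT, if_pos rfl, if_neg (hy i hi).2.1.symm, add_zero]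
  have huD : ∀ i ∈ Finset.Ico 1 h, D i u = 0 := fun i hi => by
    rw [hrow i hi u huT, if_neg hxu.symm, if_neg (hy i hi).2.2.1.symm, add_zero]
  have hvD : ∀ i ∈ Finset.Ico 1 h, D i v = 0 := fun i hi => by
    rw [hrow i hi v hvT, if_neg hxv.symm, if_neg (hy i hi).2.2.2.symm, add_zero]
  have hxDh : D h x = s := by rw [hrowh x hxT, if_pos rfl, if_neg hxu, if_neg hxv, add_zero, add_zero]
  have huDh : D h u = su := by
    rw [hrowh u huT, if_neg hxu.symm, if_pos rfl, if_neg huv, zero_add, add_zero]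
  have hvDh : D h v = sv := by
    rw [hrowh v hvT, if_neg hxv.symm, if_neg huv.symm, if_pos rfl, zero_add, zero_add]
  have hvals : ∀ a, 0 < a → a < q → (x : G → ℂ) (σ ^ a) = -(s : ℂ) ∧
      (u : G → ℂ) (σ ^ a) = su * (-1) ^ a ∧ (v : G → ℂ) (σ ^ a) = sv * (-1) ^ a ∧
      ∀ i ∈ Finset.Ico 1 h, (y i : G → ℂ) (σ ^ a) = -(s : ℂ) * (ζ ^ (i * a) + (ζ ^ (i * a))⁻¹) := by
    intro a ha ha'
    refine ⟨?_, ?_, ?_, fun i hi => ?_⟩
    · rw [hsplit x a ha ha', hxDh, Finset.sum_congr rfl fun j hj => by rw [hxD j hj], ← Finset.mul_sum,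
        hgeom a ha ha']
      ring
    · rw [hsplit u a ha ha', huDh, Finset.sum_eq_zero fun j hj => by rw [huD j hj]; simp, add_zero]
    · rw [hsplit v a ha ha', hvDh, Finset.sum_eq_zero fun j hj => by rw [hvD j hj]; simp, add_zero]
    · have hyh : D h (y i) = 0 := by
        obtain ⟨hyT, hyx, hyu, hyv⟩ := hy i hi
        rw [hrowh _ hyT, if_neg hyx, if_neg hyu, if_neg hyv, add_zero, add_zero]
      rw [hsplit _ a ha ha', hyh, Finset.sum_eq_single i]
      · rw [hrow i hi _ (hy i hi).1, if_neg (hy i hi).2.1, if_pos rfl]; push_cast; ring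
      · intro j hj hne
        rw [hrow j hj _ (hy i hi).1, if_neg (hy i hi).2.1,
          if_neg fun e => hne (hyinj (Finset.mem_coe.2 hj) (Finset.mem_coe.2 hi) e.symm)]
        simp
      · exact fun h => absurd hi h
  -- the block
  have hcover : T = insert (principal G) (insert x (insert u (insert v ((Finset.Ico 1 h).image y)))) := by
    refine Finset.Subset.antisymm (fun χ hχ => ?_) ?_
    · by_contra hnot
      simp only [Finset.mem_insert, Finset.mem_image, not_or, not_exists, not_and] at hnot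
      obtain ⟨hn1, hnx, hnu, hnv, hny⟩ := hnot
      have hχT' : χ ∈ T' := Finset.mem_erase.2 ⟨hn1, hχ⟩
      have hz : ∀ a, 0 < a → a < q → (χ : G → ℂ) (σ ^ a) = 0 := by
        intro a ha ha'
        rw [hsplit χ a ha ha', hrowh χ hχT', if_neg hnx, if_neg hnu, if_neg hnv]
        rw [Finset.sum_eq_zero fun j hj => by
          rw [hrow j hj χ hχT', if_neg hnx, if_neg (fun e => hny j hj e.symm)]; simp]
        simp
      set F : Finset (IrrCharacter G) := {principal G, x, u, v} with hFdef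
      have hF : F.card = 4 := Finset.card_eq_four.2
        ⟨principal G, x, u, v, (hmem hxT).1.symm, (hmem huT).1.symm, (hmem hvT).1.symm, hxu, hxv, huv, rfl⟩
      have hh' : 0 < h ∧ h < q := ⟨by omega, by omega⟩
      have h2G : 2 ∣ Nat.card G := d.two_dvd.trans (orderOf_dvd_natCard σ)
      obtain ⟨g, hg, hgne⟩ := exists_singular_ne_zero hM h2G (Finset.mem_filter.1 hχ).2 hn1
      refine hgne (d.vanish hM (Finset.mem_filter.1 hχ).2 hz F hF ?_ ?_ ?_ hg)
      · intro ψ hψ
        simp only [hFdef, Finset.mem_insert, Finset.mem_singleton] at hψ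
        rcases hψ with rfl | rfl | rfl | rfl
        · exact (Finset.mem_filter.1 h1T).2
        · exact (hmem hxT).2
        · exact (hmem huT).2
        · exact (hmem hvT).2
      · intro ψ hψ
        simp only [hFdef, Finset.mem_insert, Finset.mem_singleton] at hψ
        obtain ⟨e1, e2, e3, -⟩ := hvals h hh'.1 hh'.2
        rw [heven.neg_one_pow, mul_one] at e2 e3
        rcases hψ with rfl | rfl | rfl | rfl
        · exact Or.inl rfl
        · rw [e1]; rcases hs with rfl | rfl <;> simp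
        · rw [e2]; rcases hsu with rfl | rfl <;> simp
        · rw [e3]; rcases hsv with rfl | rfl <;> simp
      · simp [hFdef, hn1, hnx, hnu, hnv]
    · intro χ hχ
      simp only [Finset.mem_insert, Finset.mem_image] at hχ
      rcases hχ with rfl | rfl | rfl | rfl | ⟨i, hi, rfl⟩
      · exact h1T
      · exact Finset.mem_of_mem_erase hxT
      · exact Finset.mem_of_mem_erase huT
      · exact Finset.mem_of_mem_erase hvT
      · exact Finset.mem_of_mem_erase (hy i hi).1
  refine ⟨x, u, v, y, s, su, sv, hs, hsu, hsv, (hmem hxT).1.symm, (hmem huT).1.symm, (hmem hvT).1.symm,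
    hxu, hxv, huv, fun i hi => ⟨(hmem (hy i hi).1).1, (hy i hi).2⟩, hyinj, hcover, hvals, fun ρ hρ => ?_⟩
  -- the relations on the elements of odd order
  have hreg : ∀ i, 0 < i → i < q → ∑ χ ∈ T', (D i χ : ℂ) * (χ : G → ℂ) ρ = 1 := by
    intro i hi hi'
    have h0 := hDreg i hi hi' ρ hρ
    rw [← Finset.add_sum_erase T _ h1T, hDp i hi hi',
      show ((principal G : IrrCharacter G) : G → ℂ) ρ = 1 from rfl] at h0
    push_cast at h0
    linear_combination h0
  refine ⟨?_, fun i hi => ?_⟩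
  · have h0 := hreg h (by omega) (by omega)
    rw [Finset.sum_congr rfl fun χ hχ => by rw [hrowh χ hχ]] at h0
    simp only [Int.cast_add, Int.cast_ite, Int.cast_zero, add_mul, ite_mul, zero_mul,
      Finset.sum_add_distrib, Finset.sum_ite_eq', hxT, huT, hvT, if_true] at h0
    linear_combination h0
  · rw [Finset.mem_Ico] at hi
    have h0 := hreg i hi.1 (by omega)
    rw [Finset.sum_congr rfl fun χ hχ => by rw [hrow i (Finset.mem_Ico.2 hi) χ hχ]] at h0
    simp only [Int.cast_add, Int.cast_ite, Int.cast_neg, Int.cast_zero, add_mul, ite_mul, zero_mul,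
      Finset.sum_add_distrib, Finset.sum_ite_eq', hxT, (hy i (Finset.mem_Ico.2 hi)).1, if_true] at h0
    linear_combination h0

end Cfsg.Lib.Dihedral
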