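import Mathlib
import Cfsg.Agent.Blocks.DihedralBlock
import Cfsg.Agent.Blocks.DihedralOdd
import Cfsg.Agent.Chars.Sums
import Cfsg.Agent.Chars.Count

/-!
# The order formula for dihedral Sylow 2-subgroups and one class of involutions
-/

set_option autoImplicit false
set_option linter.unusedSectionVars false
set_option linter.style.haveILetI false

namespace Cfsg.Lib.Dihedral

open Cfsg.Lib.Chars Cfsg.Lib.Blocks
open scoped ComplexConjugate

universe u

variable {G : Type u} [Group G] [Fintype G]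

/-- A sum over the group, along the sections of given 2-elements. -/
theorem sum_sections (A : Finset ℕ) (X : ℕ → G) (hX : ∀ a ∈ A, ∃ k : ℕ, orderOf (X a) = 2 ^ k)
    (hne : ∀ a ∈ A, ∀ b ∈ A, IsConj (X a) (X b) → a = b) (f : G → ℂ)
    (hf : ∀ c g : G, f (c * g * c⁻¹) = f g)
    (h0 : ∀ g : G, (∀ a ∈ A, ∀ x : G, IsPPart 2 g x → ¬ IsConj (X a) x) → f g = 0)
    [∀ x : G, DecidablePred fun y : G => Commute x y ∧ ¬ 2 ∣ orderOf y] :
    ∑ g : G, f g = ∑ a ∈ A, (Nat.card {x : G // IsConj (X a) x} : ℂ) *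
      ∑ y ∈ Finset.univ.filter (fun y : G => Commute (X a) y ∧ ¬ 2 ∣ orderOf y), f (X a * y) := by
  classical
  choose pp hpp using fun g : G => exists_isPPart' (p := 2) Nat.prime_two g
  have hsplit : ∑ g : G, f g =
      ∑ a ∈ A, ∑ g ∈ Finset.univ.filter (fun g => IsConj (X a) (pp g)), f g := by
    rw [← Finset.sum_biUnion ?_]
    · refine (Finset.sum_subset (Finset.subset_univ _) fun g _ hg => h0 g fun a ha x hx hc => hg ?_).symm
      refine Finset.mem_biUnion.2 ⟨a, ha, Finset.mem_filter.2 ⟨Finset.mem_univ _, ?_⟩⟩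
      rw [IsPPart.eq Nat.prime_two (hpp g) hx]
      exact hc
    · intro a ha b hb hab
      refine Finset.disjoint_left.2 fun g h1 h2 => hab (hne a ha b hb ?_)
      exact (Finset.mem_filter.1 h1).2.trans (Finset.mem_filter.1 h2).2.symm
  rw [hsplit]
  refine Finset.sum_congr rfl fun a ha => ?_
  rw [Finset.mul_sum]
  set C := Finset.univ.filter (fun x : G => IsConj (X a) x) with hC
  have hCcard : (Nat.card {x : G // IsConj (X a) x} : ℂ) = (C.card : ℂ) := by
    rw [Nat.card_eq_fintype_card, Fintype.card_subtype]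
  rw [← Finset.mul_sum, hCcard, ← nsmul_eq_mul, ← Finset.sum_const,
    ← Finset.sum_fiberwise_of_maps_to (g := pp) (t := C)
      (fun g hg => Finset.mem_filter.2 ⟨Finset.mem_univ _, (Finset.mem_filter.1 hg).2⟩)]
  refine Finset.sum_congr rfl fun z hz => ?_
  obtain ⟨c, hc⟩ := isConj_iff.1 (Finset.mem_filter.1 hz).2
  refine (Finset.sum_bij' (fun y _ => c * (X a * y) * c⁻¹) (fun g _ => (X a)⁻¹ * (c⁻¹ * g * c))
    ?_ ?_ ?_ ?_ ?_).symm
  · intro y hy
    obtain ⟨hy1, hy2⟩ := (Finset.mem_filter.1 hy).2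
    have h := IsPPart.conj (isPPart_mul hy1 (hX a ha) hy2) c
    have e := IsPPart.eq Nat.prime_two (hpp (c * (X a * y) * c⁻¹)) h
    refine Finset.mem_filter.2 ⟨Finset.mem_filter.2 ⟨Finset.mem_univ _, ?_⟩, e.trans hc⟩
    rw [e]
    exact isConj_iff.2 ⟨c, rfl⟩
  · intro g hg
    have hgz : pp g = z := (Finset.mem_filter.1 hg).2
    obtain ⟨w, hw, hcw, -, hnw⟩ := hgz ▸ hpp g
    have he : (X a)⁻¹ * (c⁻¹ * g * c) = c⁻¹ * w * c := by rw [← hw, ← hc]; group
    rw [he]
    refine Finset.mem_filter.2 ⟨Finset.mem_univ _, ?_, ?_⟩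
    · rw [← hc] at hcw
      have := hcw.map (MulAut.conj c⁻¹).toMonoidHom
      simp only [MulEquiv.coe_toMonoidHom, MulAut.conj_apply, inv_inv] at this
      rwa [show c⁻¹ * (c * X a * c⁻¹) * c = X a by group] at this
    · have := MulEquiv.orderOf_eq (MulAut.conj c⁻¹) w
      rw [MulAut.conj_apply, inv_inv] at this
      rwa [this]
  · intro y _; group
  · intro g _; group
  · intro y _
    rw [hf]

/-- Pairs of involutions with a given product, through one of them. -/
theorem card_pairs_eq {J : G} (hJ2 : orderOf J = 2) (hall : ∀ s : G, orderOf s = 2 → IsConj J s) (g : G) :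
    Nat.card {p : G × G // IsConj J p.1 ∧ IsConj J p.2 ∧ p.1 * p.2 = g} =
      Nat.card {s : G // s * s = 1 ∧ s ≠ 1 ∧ (s * g) * (s * g) = 1 ∧ s * g ≠ 1} := by
  have hord : ∀ s, IsConj J s → s * s = 1 ∧ s ≠ 1 := by
    intro s hs
    obtain ⟨c, rfl⟩ := isConj_iff.1 hs
    have h2 : orderOf (c * J * c⁻¹) = 2 := by rw [← MulAut.conj_apply, MulEquiv.orderOf_eq, hJ2]
    refine ⟨?_, fun h => ?_⟩
    · have := pow_orderOf_eq_one (c * J * c⁻¹)
      rwa [h2, pow_two] at this
    · rw [h, orderOf_one] at h2; omega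
  refine Nat.card_congr ⟨fun p => ⟨p.1.1, ?_⟩, fun s => ⟨(s.1, s.1 * g), ?_⟩, fun p => ?_, fun s => rfl⟩
  · obtain ⟨h1, h2, h3⟩ := p.2
    obtain ⟨a1, a2⟩ := hord _ h1
    obtain ⟨b1, b2⟩ := hord _ h2
    have e : p.1.1 * g = p.1.2 := by
      calc p.1.1 * g = p.1.1 * (p.1.1 * p.1.2) := by rw [h3]
        _ = p.1.2 := by rw [← mul_assoc, a1, one_mul]
    rw [e]
    exact ⟨a1, a2, b1, b2⟩
  · obtain ⟨a1, a2, b1, b2⟩ := s.2
    exact ⟨hall _ (orderOf_eq_prime (p := 2) (hp := ⟨Nat.prime_two⟩) (by rw [pow_two]; exact a1) a2),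
      hall _ (orderOf_eq_prime (p := 2) (hp := ⟨Nat.prime_two⟩) (by rw [pow_two]; exact b1) b2),
      by rw [← mul_assoc, a1, one_mul]⟩
  · obtain ⟨h1, -, h3⟩ := p.2
    refine Subtype.ext (Prod.ext rfl ?_)
    show p.1.1 * g = p.1.2
    calc p.1.1 * g = p.1.1 * (p.1.1 * p.1.2) := by rw [h3]
      _ = p.1.2 := by rw [← mul_assoc, (hord _ h1).1, one_mul]

variable {P : Sylow 2 G} {σ τ : G} {m : ℕ}

/-- The elements of odd order of a centraliser with a normal 2-complement. -/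
theorem exists_oddPart (H : Subgroup G) (hH : Cfsg.HasNormalPComplement 2 H) :
    ∃ L : Subgroup G, (∀ x, x ∈ L ↔ x ∈ H ∧ ¬ 2 ∣ orderOf x) ∧
      Nat.card H = 2 ^ (Nat.card H).factorization 2 * Nat.card L ∧
      ∀ R : Subgroup G, R ≤ H → IsPGroup 2 R → Nat.card R = 2 ^ (Nat.card H).factorization 2 →
        ∀ c ∈ H, ∃ l ∈ L, ∃ r ∈ R, c = l * r := by
  classical
  haveI : Fact (Nat.Prime 2) := ⟨Nat.prime_two⟩
  obtain ⟨N, hN, hNc, k, hNk⟩ := Cfsg.Lib.Transfer.hasNormalPComplement_iff.1 hH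
  haveI := hN
  have hodd : ¬ 2 ∣ Nat.card N := fun h =>
    absurd (Nat.dvd_gcd h dvd_rfl) (by rw [hNc.gcd_eq_one]; norm_num)
  have hk : (Nat.card H).factorization 2 = k := by
    rw [← N.card_mul_index, hNk, Nat.factorization_mul Nat.card_pos.ne' (by positivity), Finsupp.add_apply,
      Nat.factorization_eq_zero_of_not_dvd hodd, Nat.prime_two.factorization_pow, Finsupp.single_eq_same,
      zero_add]
  have hmem : ∀ y : H, y ∈ N ↔ ¬ 2 ∣ orderOf y := fun y =>
    ⟨fun hy h => hodd (h.trans (by rw [← Subgroup.orderOf_mk (H := N) y hy]; exact orderOf_dvd_natCard _)),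
      fun hy => mem_of_pRegular_of_index_eq_pow Nat.prime_two N hNk hy⟩
  refine ⟨N.map H.subtype, fun x => ?_, ?_, fun R hRH hRp hRc c hc => ?_⟩
  · constructor
    · rintro ⟨y, hy, rfl⟩
      exact ⟨y.2, by rw [Subgroup.coe_subtype, Subgroup.orderOf_coe]; exact (hmem y).1 hy⟩
    · rintro ⟨hx, ho⟩
      exact ⟨⟨x, hx⟩, (hmem _).2 (by rwa [Subgroup.orderOf_mk]), rfl⟩
  · rw [hk, ← hNk, Subgroup.card_map_of_injective H.subtype_injective, mul_comm, N.card_mul_index]
  · have hcompl : N.IsComplement' (R.subgroupOf H) := by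
      refine Subgroup.isComplement'_of_coprime ?_ ?_
      · rw [Nat.card_congr (Subgroup.subgroupOfEquivOfLe hRH).toEquiv, hRc, hk, ← hNk, N.card_mul_index]
      · rw [Nat.card_congr (Subgroup.subgroupOfEquivOfLe hRH).toEquiv, hRc]
        exact (Nat.Coprime.pow_left _ ((Nat.prime_two.coprime_iff_not_dvd).2 hodd)).symm
    obtain ⟨⟨⟨n, hn⟩, ⟨r, hr⟩⟩, h⟩ := hcompl.2 ⟨c, hc⟩
    exact ⟨n, Subgroup.mem_map_of_mem _ hn, r, Subgroup.mem_subgroupOf.1 hr, (congrArg Subtype.val h).symm⟩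

theorem Data.tau_not_mem (d : Data P σ τ m) : τ ∉ Subgroup.zpowers σ := fun h => by
  obtain ⟨i, hi⟩ := Subgroup.mem_zpowers_iff.1 h
  have hc : Commute τ σ := hi ▸ (Commute.refl σ).zpow_left i
  have h2 := (d.tau_commute_iff (Subgroup.mem_zpowers σ)).1 hc
  have := orderOf_le_of_pow_eq_one (n := 2) two_pos (show σ ^ 2 = 1 by rw [pow_two]; exact h2)
  rw [d.order] at this
  have := Nat.pow_le_pow_right two_pos d.two_le
  omega

theorem Data.card_sylow (d : Data P σ τ m) :
    Nat.card (P : Subgroup G) = 2 ^ (m + 1) := by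
  have hzP : Subgroup.zpowers σ ≤ (P : Subgroup G) := Subgroup.zpowers_le.2 d.mem_left
  have hτ := d.tau_not_mem
  have hidx : ((Subgroup.zpowers σ).subgroupOf (P : Subgroup G)).index = 2 := by
    refine Subgroup.index_eq_two_iff.2 ⟨⟨τ, d.mem_right⟩, fun u => ?_⟩
    rw [Subgroup.mem_subgroupOf, Subgroup.mem_subgroupOf, Subgroup.coe_mul]
    rcases d.cases u u.2 with h | h
    · exact Or.inr ⟨h, fun h' => hτ ((Subgroup.mul_mem_cancel_left _ h).1 h')⟩
    · exact Or.inl ⟨h, fun h' => hτ ((Subgroup.mul_mem_cancel_left _ h').1 h)⟩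
  rw [← Subgroup.card_mul_index ((Subgroup.zpowers σ).subgroupOf (P : Subgroup G)), hidx,
    Nat.card_congr (Subgroup.subgroupOfEquivOfLe hzP).toEquiv, Nat.card_zpowers, d.order, pow_succ]

/-- The reflections. -/
theorem Data.rot_mul (d : Data P σ τ m) (i : ℕ) :
    σ ^ i * τ * (σ ^ i * τ) = 1 ∧ σ ^ i * τ ∉ Subgroup.zpowers σ ∧ σ ^ i * τ ∈ (P : Subgroup G) := by
  have hmem : σ ^ i * τ ∈ (P : Subgroup G) := mul_mem (pow_mem d.mem_left i) d.mem_right
  have hn : σ ^ i * τ ∉ Subgroup.zpowers σ := fun h =>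
    d.tau_not_mem ((Subgroup.mul_mem_cancel_left _ (pow_mem (Subgroup.mem_zpowers σ) i)).1 h)
  exact ⟨(d.reflection hmem hn).1, hn, hmem⟩

theorem Data.exists_rot (d : Data P σ τ m) {t : G} (ht : t ∈ (P : Subgroup G))
    (htσ : t ∉ Subgroup.zpowers σ) : ∃ i, i < 2 ^ m ∧ t = σ ^ i * τ := by
  classical
  have h := (d.cases t ht).resolve_left htσ
  rw [mem_zpowers_iff_mem_range_orderOf, Finset.mem_image] at h
  obtain ⟨i, hi, hit⟩ := h
  exact ⟨i, d.order ▸ Finset.mem_range.1 hi, by rw [hit, mul_assoc, d.sq, mul_one]⟩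

theorem Data.step_conj (d : Data P σ τ m) (i : ℕ) : σ ^ (i + 2) * τ = σ * (σ ^ i * τ) * σ⁻¹ := by
  have h : τ * σ⁻¹ = σ * τ := by
    rw [← d.rel, ← mul_assoc, ← mul_assoc, d.sq, one_mul, inv_eq_of_mul_eq_one_right d.sq]
  rw [mul_assoc, mul_assoc, h, ← mul_assoc (σ ^ i), ← mul_assoc, ← pow_succ, ← pow_succ']

/-- With one class of involutions every 2-element is conjugate to a power of `σ`. -/
theorem Data.conj_rotation (d : Data P σ τ m)
    (hτ : IsConj (σ ^ 2 ^ (m - 1)) τ) (hστ : IsConj (σ ^ 2 ^ (m - 1)) (σ * τ))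
    {x : G} (hx : ∃ k : ℕ, orderOf x = 2 ^ k) : ∃ a, a < 2 ^ m ∧ IsConj (σ ^ a) x := by
  classical
  haveI : Fact (Nat.Prime 2) := ⟨Nat.prime_two⟩
  obtain ⟨k, hk⟩ := hx
  obtain ⟨Q, hQ⟩ := (IsPGroup.of_card (n := k) (by rw [Nat.card_zpowers, hk]) :
    IsPGroup 2 (Subgroup.zpowers x)).exists_le_sylow
  obtain ⟨c, hc⟩ := MulAction.exists_smul_eq G Q P
  have hP : c * x * c⁻¹ ∈ (P : Subgroup G) := by
    rw [← hc, Sylow.coe_subgroup_smul]
    exact Subgroup.smul_mem_pointwise_smul x (MulAut.conj c) _ (hQ (Subgroup.mem_zpowers x))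
  have hback : IsConj (c * x * c⁻¹) x := (isConj_iff.2 ⟨c, rfl⟩ : IsConj x (c * x * c⁻¹)).symm
  by_cases hσ' : c * x * c⁻¹ ∈ Subgroup.zpowers σ
  · rw [mem_zpowers_iff_mem_range_orderOf, Finset.mem_image] at hσ'
    obtain ⟨a, ha, hax⟩ := hσ'
    exact ⟨a, d.order ▸ Finset.mem_range.1 ha, hax ▸ hback⟩
  · obtain ⟨i, -, hi⟩ := d.exists_rot hP hσ'
    have hrefl : ∀ i : ℕ, IsConj (σ ^ 2 ^ (m - 1)) (σ ^ i * τ) := by
      intro i
      induction i using Nat.strong_induction_on with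
      | _ i ih =>
        rcases i with _ | _ | i
        · rwa [pow_zero, one_mul]
        · rwa [pow_one]
        · exact (ih i (by omega)).trans (isConj_iff.2 ⟨σ, (d.step_conj i).symm⟩)
    exact ⟨2 ^ (m - 1), by have := d.half; have := Nat.two_pow_pos (m - 1); omega,
      (hi ▸ hrefl i : IsConj _ (c * x * c⁻¹)).trans hback⟩

/-- The powers `σ ^ a`, `a ≤ 2 ^ (m - 1)`, are pairwise not conjugate. -/
theorem Data.rotation_reps (d : Data P σ τ m) {a b : ℕ} (ha0 : 0 < a) (ha : a ≤ 2 ^ (m - 1))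
    (hb0 : 0 < b) (hb : b ≤ 2 ^ (m - 1)) (hc : IsConj (σ ^ a) (σ ^ b)) : a = b := by
  have hh := d.half
  have hp := Nat.two_pow_pos (m - 1)
  have key : ∀ a b : ℕ, 0 < a → a < 2 ^ (m - 1) → 0 < b → b ≤ 2 ^ (m - 1) → IsConj (σ ^ a) (σ ^ b) → a = b := by
    intro a b ha0 ha hb0 hb hc
    rcases d.rotation_conj (d.sq_ne ha0 (by omega) (by omega)) hc with h | h
    · exact (pow_injOn_Iio_orderOf (by rw [d.order]; exact Set.mem_Iio.2 (by omega))
        (by rw [d.order]; exact Set.mem_Iio.2 (by omega)) h).symm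
    · rw [← d.pow_neg (by omega), Nat.mod_eq_of_lt (by omega : 2 ^ m - a < 2 ^ m)] at h
      have := pow_injOn_Iio_orderOf (x := σ) (by rw [d.order]; exact Set.mem_Iio.2 (by omega))
        (by rw [d.order]; exact Set.mem_Iio.2 (by omega)) h
      omega
  rcases lt_or_eq_of_le ha with h | h
  · exact key a b ha0 h hb0 hb hc
  · rcases lt_or_eq_of_le hb with h' | h'
    · exact (key b a hb0 h' ha0 ha hc.symm).symm
    · omega

/-- The number of pairs of involutions whose product lies in the section of `x`. -/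
theorem Data.card_section_pairs (d : Data P σ τ m) {a : ℕ} (ha0 : 0 < a) (ha : a ≤ 2 ^ (m - 1))
    (La : Subgroup G)
    (hLa : ∀ y, y ∈ La ↔ Commute (σ ^ a) y ∧ ¬ 2 ∣ orderOf y)
    (hdec : ∀ c, Commute (σ ^ a) c → ∃ l ∈ La, ∃ p ∈ (P : Subgroup G), c = l * p) :
    Nat.card (Σ y : La, {s : G // s * s = 1 ∧ s ≠ 1 ∧ (s * (σ ^ a * (y : G))) * (s * (σ ^ a * (y : G))) = 1 ∧
        s * (σ ^ a * (y : G)) ≠ 1}) =
      ∑ i : Fin (2 ^ m), Nat.card (inverted La (σ ^ (i : ℕ) * τ)) ^ 2 := by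
  classical
  haveI : Fact (Nat.Prime 2) := ⟨Nat.prime_two⟩
  set x := σ ^ a with hx
  have hodd : ∀ y ∈ La, ¬ 2 ∣ orderOf y := fun y hy => ((hLa y).1 hy).2
  have hxσ : x ∈ Subgroup.zpowers σ := ⟨a, zpow_natCast σ a⟩
  have hxo : ∃ k : ℕ, orderOf x = 2 ^ k := by
    obtain ⟨k, -, hk⟩ := (Nat.dvd_prime_pow Nat.prime_two).1 (d.order ▸ orderOf_pow_dvd (x := σ) a)
    exact ⟨k, hk⟩
  have hx1 : x ≠ 1 := fun h => by
    have := orderOf_le_of_pow_eq_one ha0 h
    rw [d.order] at this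
    have := d.half
    have := Nat.two_pow_pos (m - 1)
    omega
  have hPL : ∀ p ∈ (P : Subgroup G), p ∈ La → p = 1 := fun p hp hpL => by
    obtain ⟨k, hk⟩ := IsPGroup.iff_orderOf.1 P.2 ⟨p, hp⟩
    rw [Subgroup.orderOf_mk] at hk
    rcases k with _ | k
    · rwa [pow_zero, orderOf_eq_one_iff] at hk
    · exact absurd (hk ▸ dvd_pow_self 2 k.succ_ne_zero) (hodd p hpL)
  set r : Fin (2 ^ m) → G := fun i => σ ^ (i : ℕ) * τ with hr
  have hri : ∀ i, r i * r i = 1 ∧ r i ∉ Subgroup.zpowers σ ∧ r i ∈ (P : Subgroup G) := fun i => d.rot_mul _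
  have hinv : ∀ i, r i * x * (r i)⁻¹ = x⁻¹ := fun i =>
    (d.reflection (hri i).2.2 (hri i).2.1).2 x hxσ
  have hrL : ∀ i, ∀ y ∈ La, r i * y * (r i)⁻¹ ∈ La := by
    intro i y hy
    obtain ⟨h1, h2⟩ := (hLa y).1 hy
    refine (hLa _).2 ⟨?_, by rwa [← MulAut.conj_apply, MulEquiv.orderOf_eq]⟩
    have h3 : Commute (r i * x * (r i)⁻¹) (r i * y * (r i)⁻¹) := h1.map (MulAut.conj (r i)).toMonoidHom
    rw [hinv i] at h3
    simpa using h3.inv_left
  rw [show ∑ i : Fin (2 ^ m), Nat.card (inverted La (r i)) ^ 2 =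
      ∑ i : Fin (2 ^ m), Nat.card (inverted La (r i) × inverted La (r i)) from
    Finset.sum_congr rfl fun i _ => by rw [Nat.card_prod, pow_two]]
  haveI : ∀ i, Finite (inverted La (r i)) := fun i => Subtype.finite
  rw [← Nat.card_sigma]
  refine (Nat.card_congr (Equiv.ofBijective
    (fun z : Σ i : Fin (2 ^ m), inverted La (r i) × inverted La (r i) =>
      (⟨⟨z.2.1.1 * z.2.2.1 * z.2.1.1⁻¹, mul_mem (mul_mem z.2.1.2.1 z.2.2.2.1) (inv_mem z.2.1.2.1)⟩,
        ⟨z.2.1.1 * r z.1 * z.2.1.1⁻¹, ?_⟩⟩ :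
        Σ y : La, {s : G // s * s = 1 ∧ s ≠ 1 ∧ (s * (x * (y : G))) * (s * (x * (y : G))) = 1 ∧
          s * (x * (y : G)) ≠ 1})) ⟨?_, ?_⟩)).symm
  · obtain ⟨i, ⟨u, hu, hui⟩, ⟨v, hv, hvi⟩⟩ := z
    dsimp only
    have hxu : Commute x u := ((hLa u).1 hu).1
    have hxv : Commute x v := ((hLa v).1 hv).1
    have he : u * r i * u⁻¹ * (x * (u * v * u⁻¹)) = u * (r i * (x * v)) * u⁻¹ := by
      calc u * r i * u⁻¹ * (x * (u * v * u⁻¹)) = u * r i * u⁻¹ * (x * u) * v * u⁻¹ := by group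
        _ = u * r i * u⁻¹ * (u * x) * v * u⁻¹ := by rw [hxu.eq]
        _ = _ := by group
    have hrinv : (r i)⁻¹ = r i := inv_eq_of_mul_eq_one_right (hri i).1
    refine ⟨?_, ?_, ?_, ?_⟩
    · calc u * r i * u⁻¹ * (u * r i * u⁻¹) = u * (r i * r i) * u⁻¹ := by group
        _ = 1 := by rw [(hri i).1]; group
    · rw [Ne, conj_eq_one_iff]
      exact fun h => (hri i).2.1 (h ▸ one_mem _)
    · rw [he]
      calc u * (r i * (x * v)) * u⁻¹ * (u * (r i * (x * v)) * u⁻¹)
          = u * ((r i * x * (r i)⁻¹) * (r i * v * (r i)⁻¹) * (r i * r i) * (x * v)) * u⁻¹ := by group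
        _ = u * (x⁻¹ * v⁻¹ * (x * v)) * u⁻¹ := by rw [hinv i, hvi, (hri i).1, mul_one]
        _ = 1 := by rw [hxv.eq]; group
    · rw [he, Ne, conj_eq_one_iff]
      intro h
      have hr' : r i = (x * v)⁻¹ := eq_inv_of_mul_eq_one_left h
      refine (hri i).2.1 ?_
      have hv1 : v = 1 := by
        refine hPL v ?_ hv
        rw [show v = x⁻¹ * (r i)⁻¹ by rw [hr']; group]
        exact mul_mem (inv_mem (Subgroup.zpowers_le.2 d.mem_left hxσ)) (inv_mem (hri i).2.2)
      rw [hr', hv1, mul_one]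
      exact inv_mem hxσ
  · rintro ⟨i, ⟨u, hu, hui⟩, ⟨v, hv, hvi⟩⟩ ⟨i', ⟨u', hu', hui'⟩, ⟨v', hv', hvi'⟩⟩ h
    have h0 := h
    simp only [Sigma.mk.injEq] at h
    have hy : u * v * u⁻¹ = u' * v' * u'⁻¹ := congrArg Subtype.val h.1
    have hs : u * r i * u⁻¹ = u' * r i' * u'⁻¹ := by
      have := congrArg (fun z : Σ y : La, {s : G // s * s = 1 ∧ s ≠ 1 ∧ (s * (x * (y : G))) * (s * (x * (y : G))) = 1 ∧
          s * (x * (y : G)) ≠ 1} => (z.2 : G)) h0
      exact this
    have h2 : ∀ (j : Fin (2 ^ m)) (w : G), r j * w * (r j)⁻¹ = w⁻¹ → w * r j * w⁻¹ = w * w * r j := by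
      intro j w hw
      rw [← hw, show w * r j * (r j * w * (r j)⁻¹) = w * (r j * r j) * w * (r j)⁻¹ by group, (hri j).1,
        mul_one, inv_eq_of_mul_eq_one_right (hri j).1]
    rw [h2 i u hui, h2 i' u' hui'] at hs
    have hrr : (u' * u')⁻¹ * (u * u) = r i' * (r i)⁻¹ := by
      rw [inv_mul_eq_iff_eq_mul, ← mul_assoc, ← hs, mul_inv_cancel_right]
    have h1 := hPL _ (mul_mem (hri i').2.2 (inv_mem (hri i).2.2))
      (hrr ▸ mul_mem (inv_mem (mul_mem hu' hu')) (mul_mem hu hu))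
    rw [mul_inv_eq_one] at h1
    have hii : i' = i := by
      simp only [hr] at h1
      exact Fin.ext (pow_injOn_Iio_orderOf (by rw [d.order]; exact i'.2) (by rw [d.order]; exact i.2)
        (mul_right_cancel h1))
    subst hii
    obtain rfl := sq_inj hodd hu hu' (mul_right_cancel hs)
    obtain rfl := mul_left_cancel (mul_right_cancel hy)
    rfl
  · rintro ⟨⟨y, hy⟩, ⟨s, hs2, hs1, hsg2, hsg1⟩⟩
    obtain ⟨hxy, hy2⟩ := (hLa y).1 hy
    have hsi : s⁻¹ = s := inv_eq_of_mul_eq_one_right hs2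
    -- the involution inverts the two parts
    have hinvg : s * (x * y) * s⁻¹ = (x * y)⁻¹ := by
      refine eq_inv_of_mul_eq_one_left ?_
      rw [hsi]
      simpa [mul_assoc] using hsg2
    have hpp : IsPPart 2 (x * y) x := isPPart_mul hxy hxo hy2
    have hpp' : IsPPart 2 ((x * y)⁻¹) x⁻¹ := by
      rw [mul_inv_rev, ← (hxy.inv_inv).eq]
      exact isPPart_mul hxy.inv_inv (by simpa using hxo) (by rwa [orderOf_inv])
    have hsx : s * x * s⁻¹ = x⁻¹ := IsPPart.eq Nat.prime_two (hinvg ▸ IsPPart.conj hpp s) hpp'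
    have hsy : s * y * s⁻¹ = y⁻¹ := by
      have e : (s * x * s⁻¹) * (s * y * s⁻¹) = x⁻¹ * y⁻¹ := by
        rw [show (s * x * s⁻¹) * (s * y * s⁻¹) = s * (x * y) * s⁻¹ by group, hinvg, hxy.inv_inv.eq, mul_inv_rev]
      rw [hsx] at e
      exact mul_left_cancel e
    -- decompose
    have hτx : τ * x * τ⁻¹ = x⁻¹ := by rw [hx, d.tau_pow]
    have hc : Commute x (s * τ) := by
      refine (mul_inv_eq_iff_eq_mul.1 ?_).symm
      calc (s * τ) * x * (s * τ)⁻¹ = s * (τ * x * τ⁻¹) * s⁻¹ := by group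
        _ = (s * x * s⁻¹)⁻¹ := by rw [hτx]; group
        _ = x := by rw [hsx, inv_inv]
    obtain ⟨l, hl, p, hp, hlp⟩ := hdec (s * τ) hc
    have hst : s = l * (p * τ) := by rw [← mul_assoc, ← hlp, mul_assoc, d.sq, mul_one]
    have hp' : p * τ ∈ (P : Subgroup G) := mul_mem hp d.mem_right
    have hnorm : ∀ w ∈ (P : Subgroup G), w * x * w⁻¹ = x ∨ w * x * w⁻¹ = x⁻¹ := by
      intro w hw
      by_cases hwσ : w ∈ Subgroup.zpowers σ
      · left
        obtain ⟨i, rfl⟩ := Subgroup.mem_zpowers_iff.1 hwσ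
        obtain ⟨j, hj⟩ := Subgroup.mem_zpowers_iff.1 hxσ
        rw [← hj, ((Commute.refl σ).zpow_zpow i j).eq, mul_inv_cancel_right]
      · exact Or.inr ((d.reflection hw hwσ).2 x hxσ)
    have hpnot : p * τ ∉ Subgroup.zpowers σ := by
      intro hin
      have hl2 : (l * (p * τ)) * (l * (p * τ)) = 1 := hst ▸ hs2
      have hcl : Commute (p * τ) x := by
        obtain ⟨i, hi⟩ := Subgroup.mem_zpowers_iff.1 hin
        obtain ⟨j, hj⟩ := Subgroup.mem_zpowers_iff.1 hxσ
        rw [← hi, ← hj]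
        exact (Commute.refl σ).zpow_zpow i j
      have hxl : Commute x l := ((hLa l).1 hl).1
      have hsx' : Commute s x := hst ▸ Commute.mul_left hxl.symm hcl
      have hx2 : x * x = 1 := by
        rw [hsx'.eq, mul_inv_cancel_right] at hsx
        nth_rw 2 [hsx]
        exact mul_inv_cancel x
      have hxJ := (d.sq_zpowers hxσ hx2).resolve_left hx1
      -- `s` commutes with `x = J`; its `P`-part squares into `La`
      set w := (p * τ) * l * (p * τ)⁻¹ with hw
      have hwL : w ∈ La := by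
        refine (hLa _).2 ⟨?_, by rw [hw, ← MulAut.conj_apply, MulEquiv.orderOf_eq]; exact hodd l hl⟩
        have h3 : Commute ((p * τ) * x * (p * τ)⁻¹) w := hxl.map (MulAut.conj (p * τ)).toMonoidHom
        rwa [hcl.eq, mul_inv_cancel_right] at h3
      have hp2 : (p * τ) * (p * τ) = (l * w)⁻¹ := by
        refine eq_inv_of_mul_eq_one_right ?_
        rw [hw, ← hl2]
        group
      have h4 := hPL _ (mul_mem hp' hp') (hp2 ▸ inv_mem (mul_mem hl hwL))
      rcases d.sq_zpowers hin h4 with e | e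
      · rw [e, mul_one] at hst
        rw [← hst] at hl
        exact hs1 ((sq_inj hodd hl (one_mem _) (by rw [hs2, one_mul])))
      · rw [← hxJ] at e
        rw [e] at hst
        have hl1 : l = 1 := by
          refine sq_inj hodd hl (one_mem _) ?_
          rw [one_mul]
          calc l * l = l * l * (x * x) := by rw [hx2, mul_one]
            _ = l * (x * l) * x := by rw [hxl.eq]; group
            _ = (l * x) * (l * x) := by group
            _ = 1 := by rw [← hst, hs2]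
        rw [hl1, one_mul] at hst
        rw [hst] at hsy hsg1
        rw [hxy.eq, mul_inv_cancel_right] at hsy
        have hy1 : y = 1 := sq_inj hodd hy (one_mem _) (by rw [one_mul]; nth_rw 2 [hsy]; exact mul_inv_cancel y)
        exact hsg1 (by
          show _ * (x * y) = 1
          rw [hy1, mul_one, hx2])
    obtain ⟨i, hi, hpi⟩ := d.exists_rot hp' hpnot
    set i' : Fin (2 ^ m) := ⟨i, hi⟩ with hi'
    have hsr : s = l * r i' := by rw [hst, hpi]
    have hrinv : (r i')⁻¹ = r i' := inv_eq_of_mul_eq_one_right (hri i').1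
    have hli : r i' * l * (r i')⁻¹ = l⁻¹ := by
      refine eq_inv_of_mul_eq_one_left ?_
      calc r i' * l * (r i')⁻¹ * l = l⁻¹ * ((l * r i') * (l * r i')) * (r i' * r i')⁻¹ * l := by
            group
        _ = 1 := by rw [← hsr, hs2, (hri i').1]; group
    set u := root l with hu
    have huu : u * u = l := root_sq hodd hl
    have huL : u ∈ La := root_mem hl
    have hui : r i' * u * (r i')⁻¹ = u⁻¹ := by rw [hu, conj_root, hli, root_inv hodd hl]
    have hsu : u * r i' * u⁻¹ = s := by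
      rw [hsr, ← huu]
      rw [← hui, show u * r i' * (r i' * u * (r i')⁻¹) = u * (r i' * r i') * u * (r i')⁻¹ by group,
        (hri i').1, mul_one, hrinv]
    have hvi : r i' * (u⁻¹ * y * u) * (r i')⁻¹ = (u⁻¹ * y * u)⁻¹ := by
      rw [show r i' * (u⁻¹ * y * u) * (r i')⁻¹ = u⁻¹ * ((u * r i' * u⁻¹) * y * (u * r i' * u⁻¹)⁻¹) * u by group,
        hsu, hsy]
      group
    refine ⟨⟨i', ⟨u, huL, hui⟩, ⟨u⁻¹ * y * u, mul_mem (mul_mem (inv_mem huL) hy) huL, hvi⟩⟩, ?_⟩
    have hyy : u * (u⁻¹ * y * u) * u⁻¹ = y := by group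
    refine Sigma.subtype_ext (Subtype.ext hyy) ?_
    exact hsu

/-- The weights along the sections. -/
theorem sum_weights {q h : ℕ} (hhq : h + h = q) (h2 : 2 ≤ h) {ζ : ℂ} (hζ : IsPrimitiveRoot ζ q) (u v : ℂ) :
    ∑ a ∈ Finset.Icc 1 h, (if a = h then 1 else 2 : ℂ) * ((ζ ^ a + (ζ ^ a)⁻¹ - 2) *
      (if Even a then u ^ 2 + v ^ 2 else 2 * u * v)) = -(q : ℂ) * (u + v) ^ 2 := by
  set f : ℕ → ℂ := fun a => (ζ ^ a + (ζ ^ a)⁻¹ - 2) * (if Even a then u ^ 2 + v ^ 2 else 2 * u * v) with hf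
  have hsym : ∀ a, a ≤ q → f (q - a) = f a := by
    intro a ha
    have h1 : ζ ^ (q - a) = (ζ ^ a)⁻¹ :=
      eq_inv_of_mul_eq_one_left (by rw [← pow_add, show q - a + a = q by omega, hζ.pow_eq_one])
    have h3 : Even (q - a) ↔ Even a := by
      rw [Nat.even_sub ha]
      simp [show Even q from ⟨_, hhq.symm⟩]
    simp only [hf, h1, inv_inv, h3]
    ring
  have hfull : ∑ a ∈ Finset.range q, f a = -(q : ℂ) * (u + v) ^ 2 := by
    have hq0 : 0 < q := by omega
    have hm1 : ζ ^ h = -1 := by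
      have h1 : (ζ ^ h) * (ζ ^ h) = 1 := by rw [← pow_add, hhq, hζ.pow_eq_one]
      rcases mul_self_eq_one_iff.1 h1 with e | e
      · exact absurd e (hζ.pow_ne_one_of_pos_of_lt (by omega) (by omega))
      · exact e
    have hne : ∀ j, 0 < j → j < q → ∑ a ∈ Finset.range q, (ζ ^ j) ^ a = 0 := fun j hj hj' => by
      rw [root_sum (by rw [← pow_mul, mul_comm, pow_mul, hζ.pow_eq_one, one_pow]),
        if_neg (hζ.pow_ne_one_of_pos_of_lt hj.ne' hj')]
    have hneg : (-1 : ℂ) ≠ 1 := by norm_num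
    have e1 : ∀ a, f a = ((u + v) ^ 2 / 2) * (ζ ^ a + (ζ ^ (q - 1)) ^ a - 2) +
        ((u - v) ^ 2 / 2) * ((ζ ^ (h + 1)) ^ a + (ζ ^ (h - 1)) ^ a - 2 * (-1) ^ a) := by
      intro a
      have i1 : ζ ^ (q - 1) = ζ⁻¹ :=
        eq_inv_of_mul_eq_one_left (by rw [← pow_succ, Nat.sub_add_cancel (by omega : 1 ≤ q), hζ.pow_eq_one])
      have i2 : ζ ^ (h + 1) = -ζ := by rw [pow_succ, hm1, neg_one_mul]
      have i3 : ζ ^ (h - 1) = -ζ⁻¹ := by
        rw [eq_comm, neg_eq_iff_eq_neg, eq_comm]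
        refine eq_inv_of_mul_eq_one_left ?_
        rw [neg_mul, ← pow_succ, Nat.sub_add_cancel (by omega : 1 ≤ h), hm1, neg_neg]
      simp only [hf, i1, i2, i3, neg_pow ζ, neg_pow ζ⁻¹, inv_pow]
      rcases Nat.even_or_odd a with he | ho
      · rw [if_pos he, he.neg_one_pow]; ring
      · rw [if_neg (Nat.not_even_iff_odd.2 ho), ho.neg_one_pow]; ring
    have hz1 := hne 1 one_pos (by omega)
    rw [pow_one] at hz1
    rw [Finset.sum_congr rfl fun a _ => e1 a]
    simp only [Finset.sum_add_distrib, Finset.sum_sub_distrib, ← Finset.mul_sum, hz1,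
      hne (q - 1) (by omega) (by omega), hne (h + 1) (by omega) (by omega), hne (h - 1) (by omega) (by omega),
      Finset.sum_const, Finset.card_range, nsmul_eq_mul]
    rw [root_sum (by rw [← hhq, ← two_mul, pow_mul, neg_one_sq, one_pow]), if_neg hneg]
    ring
  have hf0 : f 0 = 0 := by simp [hf]; norm_num
  have hrefl : ∑ a ∈ Finset.Ico (h + 1) q, f a = ∑ a ∈ Finset.Ico 1 h, f a := by
    refine Finset.sum_nbij' (fun j => q - j) (fun j => q - j) ?_ ?_ ?_ ?_ ?_ <;> intro j hj <;>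
      simp only [Finset.mem_Ico] at hj ⊢
    · omega
    · omega
    · omega
    · omega
    · exact (hsym j (by omega)).symm
  rw [Finset.range_eq_Ico, ← Finset.sum_Ico_consecutive _ (show 0 ≤ 1 by omega) (show 1 ≤ q by omega),
    ← Finset.sum_Ico_consecutive _ (show 1 ≤ h by omega) (show h ≤ q by omega),
    Finset.sum_eq_sum_Ico_succ_bot (show h < q by omega), hrefl,
    show Finset.Ico 0 1 = {0} from rfl, Finset.sum_singleton, hf0] at hfull
  rw [← hfull, show Finset.Icc 1 h = insert h (Finset.Ico 1 h) by ext; simp; omega,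
    Finset.sum_insert (by simp), if_pos rfl, one_mul,
    Finset.sum_congr rfl fun a ha => by rw [if_neg (by rw [Finset.mem_Ico] at ha; omega)], ← Finset.mul_sum]
  simp only [hf]
  ring

/-- **The order formula.** -/
theorem Data.order_formula (d : Data P σ τ m) {M : Ideal AlgInt} (hM : IsPModular 2 M)
    (hτ : IsConj (σ ^ 2 ^ (m - 1)) τ) (hστ : IsConj (σ ^ 2 ^ (m - 1)) (σ * τ))
    {χ₁ : IrrCharacter G} (hχ₁ : χ₁ ∈ principalBlock M G) (h1 : χ₁ ≠ principal G) {δ : ℤ}
    (hδ : δ = 1 ∨ δ = -1) (hval : ∀ l, 0 < l → l < 2 ^ m → (χ₁ : G → ℂ) (σ ^ l) = δ) :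
    (deg (χ₁ : G → ℂ) : ℂ) ≠ δ ∧
    (Nat.card G : ℂ) * ((deg (χ₁ : G → ℂ) : ℂ) - δ) ^ 2 =
      2 * (deg (χ₁ : G → ℂ) : ℂ) * ((deg (χ₁ : G → ℂ) : ℂ) + δ) *
        (Nat.card (Subgroup.centralizer ({σ ^ 2 ^ (m - 1)} : Set G)) : ℂ) ^ 3 *
        (1 / (Nat.card (Subgroup.centralizer ({σ ^ 2 ^ (m - 1), τ} : Set G)) : ℂ) +
          1 / (Nat.card (Subgroup.centralizer ({σ ^ 2 ^ (m - 1), σ * τ} : Set G)) : ℂ)) ^ 2 := by
  classical
  haveI : Fact (Nat.Prime 2) := ⟨Nat.prime_two⟩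
  obtain ⟨ζ, hζ⟩ : ∃ ζ : ℂ, IsPrimitiveRoot ζ (2 ^ m) :=
    ⟨_, Complex.isPrimitiveRoot_exp _ (Nat.two_pow_pos m).ne'⟩
  obtain ⟨x, u, v, y, s, su, sv, hs, hsu, hsv, h1x, -, -, -, -, -, hy, -, hcov, hvals, hreg⟩ :=
    d.principal_block hM hζ
  set q := 2 ^ m with hq
  set h := 2 ^ (m - 1) with hh
  have hhq : h + h = q := d.half
  have hh2 : 2 ≤ h := le_trans (by norm_num) (Nat.pow_le_pow_right two_pos
    (show 1 ≤ m - 1 by have := d.two_le; omega))
  -- the character is the one constant on the powers of `σ`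
  have hχx : χ₁ = x ∧ (δ : ℂ) = -(s : ℂ) := by
    have hm' : χ₁ ∈ Finset.univ.filter (· ∈ principalBlock M G) :=
      Finset.mem_filter.2 ⟨Finset.mem_univ _, hχ₁⟩
    rw [hcov] at hm'
    simp only [Finset.mem_insert, Finset.mem_image] at hm'
    have v1 := hval 1 one_pos (by omega)
    have v2 := hval 2 two_pos (by omega)
    rcases hm' with rfl | rfl | rfl | rfl | ⟨i, hi, rfl⟩
    · exact absurd rfl h1
    · exact ⟨rfl, v1.symm.trans (hvals 1 one_pos (by omega)).1⟩
    · have a1 := (hvals 1 one_pos (by omega)).2.1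
      have a2 := (hvals 2 two_pos (by omega)).2.1
      exfalso
      rw [v1] at a1; rw [v2] at a2
      rcases hsu with rfl | rfl <;> rcases hδ with rfl | rfl <;> first | (norm_num at a1; done) | norm_num at a2
    · have a1 := (hvals 1 one_pos (by omega)).2.2.1
      have a2 := (hvals 2 two_pos (by omega)).2.2.1
      exfalso
      rw [v1] at a1; rw [v2] at a2
      rcases hsv with rfl | rfl <;> rcases hδ with rfl | rfl <;> first | (norm_num at a1; done) | norm_num at a2
    · exfalso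
      rw [Finset.mem_Ico] at hi
      have hsum : ∑ a ∈ Finset.Ico 1 q, (δ : ℂ) =
          ∑ a ∈ Finset.Ico 1 q, -(s : ℂ) * ((ζ ^ i) ^ a + ((ζ ^ i) ^ a)⁻¹) := by
        refine Finset.sum_congr rfl fun a ha => ?_
        rw [Finset.mem_Ico] at ha
        rw [← hval a ha.1 ha.2, (hvals a ha.1 ha.2).2.2.2 i (Finset.mem_Ico.2 hi), pow_mul]
      have hgeo : ∀ z : ℂ, z ^ q = 1 → z ≠ 1 → ∑ a ∈ Finset.Ico 1 q, z ^ a = -1 := fun z hz hz1 => by
        have := root_sum hz
        rw [if_neg hz1, Finset.range_eq_Ico, Finset.sum_eq_sum_Ico_succ_bot (by omega : 0 < q), pow_zero] at this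
        linear_combination this
      have hz : ζ ^ i ≠ 1 := hζ.pow_ne_one_of_pos_of_lt (by omega) (by omega)
      have hzq : (ζ ^ i) ^ q = 1 := by rw [← pow_mul, mul_comm, pow_mul, hζ.pow_eq_one, one_pow]
      rw [← Finset.mul_sum, Finset.sum_add_distrib, hgeo _ hzq hz,
        Finset.sum_congr rfl (g := fun a => ((ζ ^ i)⁻¹) ^ a) (fun a _ => (inv_pow _ a).symm),
        hgeo _ (by rw [inv_pow, hzq, inv_one]) (fun e => hz (inv_eq_one.1 e)), Finset.sum_const,
        Nat.card_Ico, nsmul_eq_mul] at hsum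
      have h' : ((q - 1 : ℕ) : ℤ) * δ = 2 * s := by
        apply Int.cast_injective (α := ℂ)
        push_cast
        rw [hsum]; ring
      rcases hs with rfl | rfl <;> rcases hδ with rfl | rfl <;> omega
  obtain ⟨rfl, hδs⟩ := hχx
  have h1mem : (1 : ℕ) ∈ Finset.Ico 1 h := Finset.mem_Ico.2 ⟨le_rfl, by omega⟩
  set F : G → ℂ := fun g =>
    -1 + (s : ℂ) * (χ₁ : G → ℂ) g - (s : ℂ) * (y 1 : G → ℂ) g with hF
  set J := σ ^ h with hJ
  have hJ2 : orderOf J = 2 := d.orderOf_J
  have hall : ∀ t : G, orderOf t = 2 → IsConj J t := by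
    intro t ht
    obtain ⟨a, ha, hc⟩ := d.conj_rotation hτ hστ (x := t) ⟨1, by rw [ht, pow_one]⟩
    have h2 : orderOf (σ ^ a) = 2 := by
      obtain ⟨c, hcc⟩ := isConj_iff.1 hc
      rw [← ht, ← hcc, ← MulAut.conj_apply, MulEquiv.orderOf_eq]
    have hsq : σ ^ a * σ ^ a = 1 := by
      have := pow_orderOf_eq_one (σ ^ a); rwa [h2, pow_two] at this
    rcases d.sq_zpowers ⟨a, zpow_natCast σ a⟩ hsq with e | e
    · rw [e, orderOf_one] at h2; omega
    · rw [e] at hc; exact hc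
  set N : G → ℕ := fun g => Nat.card {p : G × G // IsConj J p.1 ∧ IsConj J p.2 ∧ p.1 * p.2 = g} with hN
  set K := (Nat.card {x : G // IsConj J x} : ℂ) with hK
  set X := (deg (χ₁ : G → ℂ) : ℂ) with hX
  set Y := (deg (y 1 : G → ℂ) : ℂ) with hY
  have hJlt : h < q := by omega
  obtain ⟨hxJ, -, -, hyJ⟩ := hvals h (by omega) hJlt
  rw [← hJ] at hxJ
  have hyJ' : (y 1 : G → ℂ) J = 2 * s := by
    rw [hJ, hyJ 1 h1mem, one_mul]
    have hm1 : ζ ^ h = -1 := by
      have h1 : (ζ ^ h) * (ζ ^ h) = 1 := by rw [← pow_add, hhq, hζ.pow_eq_one]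
      rcases mul_self_eq_one_iff.1 h1 with e | e
      · exact absurd e (hζ.pow_ne_one_of_pos_of_lt (by omega) (by omega))
      · exact e
    rw [hm1, inv_neg, inv_one]; ring
  have hss : (s : ℂ) * s = 1 := by rcases hs with rfl | rfl <;> norm_num
  -- the first evaluation
  have hE1 : ∑ g : G, F g * (N g : ℂ) = K ^ 2 * (-1 + (s : ℂ) / X - (s : ℂ) * 4 / Y) := by
    have hkey : ∀ ψ : IrrCharacter G, ∑ g : G, (ψ : G → ℂ) g * (N g : ℂ) =
        K ^ 2 * ((ψ : G → ℂ) J ^ 2 / (ψ : G → ℂ) 1) := by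
      intro ψ
      simp only [hN, class_mult_formula, Finset.mul_sum]
      rw [Finset.sum_comm, Finset.sum_eq_single ψ]
      · have hnorm := classInner_self_irr ψ.2
        rw [classInner_def] at hnorm
        calc ∑ g : G, (ψ : G → ℂ) g * (K * K / (Nat.card G : ℂ) *
              ((ψ : G → ℂ) J * (ψ : G → ℂ) J * conj ((ψ : G → ℂ) g) / (ψ : G → ℂ) 1))
            = K ^ 2 * ((ψ : G → ℂ) J ^ 2 / (ψ : G → ℂ) 1) *
                ((Nat.card G : ℂ)⁻¹ * ∑ g : G, (ψ : G → ℂ) g * conj ((ψ : G → ℂ) g)) := by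
              rw [Finset.mul_sum, Finset.mul_sum]
              exact Finset.sum_congr rfl fun g _ => by ring
          _ = _ := by rw [hnorm, mul_one]
      · intro φ _ hne
        have hort := classInner_irr_ne (Ne.symm hne)
        rw [classInner_def] at hort
        calc ∑ g : G, (ψ : G → ℂ) g * (K * K / (Nat.card G : ℂ) *
              ((φ : G → ℂ) J * (φ : G → ℂ) J * conj ((φ : G → ℂ) g) / (φ : G → ℂ) 1))
            = K ^ 2 * ((φ : G → ℂ) J ^ 2 / (φ : G → ℂ) 1) *
                ((Nat.card G : ℂ)⁻¹ * ∑ g : G, (ψ : G → ℂ) g * conj ((φ : G → ℂ) g)) := by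
              rw [Finset.mul_sum, Finset.mul_sum]
              exact Finset.sum_congr rfl fun g _ => by ring
          _ = _ := by rw [hort, mul_zero]
      · exact fun h => absurd (Finset.mem_univ ψ) h
    have h0 := hkey (principal G)
    simp only [show ∀ g, ((principal G : IrrCharacter G) : G → ℂ) g = 1 from fun g => rfl, one_mul, one_pow,
      div_one, mul_one] at h0
    simp only [hF, sub_mul, add_mul, neg_mul, one_mul, Finset.sum_sub_distrib, Finset.sum_add_distrib,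
      Finset.sum_neg_distrib, mul_assoc, ← Finset.mul_sum, hkey, h0, hxJ, hyJ', irr_apply_one_eq_deg]
    rw [← hX, ← hY]
    linear_combination ((s : ℂ) * (K ^ 2 / X) - 4 * (s : ℂ) * (K ^ 2 / Y)) * hss
  -- the odd part of the centraliser of `J`
  obtain ⟨L, hLmem, hLcard, hLdec⟩ := exists_oddPart _ d.centralizer_J.1
  have hLmem' : ∀ w, w ∈ L ↔ Commute J w ∧ ¬ 2 ∣ orderOf w := fun w => by
    rw [hLmem, Subgroup.mem_centralizer_singleton_iff]
    exact and_congr_left' ⟨fun e => e.symm, fun e => e.eq.symm⟩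
  have hLodd : ∀ w ∈ L, ¬ 2 ∣ orderOf w := fun w hw => ((hLmem' w).1 hw).2
  have hJc : ∀ p ∈ (P : Subgroup G), Commute p J := d.J_central
  have hPL : ∀ p ∈ (P : Subgroup G), ∀ w ∈ L, p * w * p⁻¹ ∈ L := by
    intro p hp w hw
    obtain ⟨e1, e2⟩ := (hLmem' w).1 hw
    refine (hLmem' _).2 ⟨?_, by rwa [← MulAut.conj_apply, MulEquiv.orderOf_eq]⟩
    have h3 : Commute (p * J * p⁻¹) (p * w * p⁻¹) := e1.map (MulAut.conj p).toMonoidHom
    rwa [(hJc p hp).eq, mul_inv_cancel_right] at h3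
  set c : ℕ → ℕ := fun i => Nat.card (fixed L (σ ^ i * τ)) with hc
  have hact : ∀ i, InvAct L (σ ^ i * τ) := fun i =>
    ⟨hPL _ (d.rot_mul i).2.2, fun w _ => by
      rw [inv_eq_of_mul_eq_one_right (d.rot_mul i).1]
      calc σ ^ i * τ * (σ ^ i * τ * w * (σ ^ i * τ)) * (σ ^ i * τ) =
            (σ ^ i * τ * (σ ^ i * τ)) * w * (σ ^ i * τ * (σ ^ i * τ)) := by group
        _ = w := by rw [(d.rot_mul i).1]; group⟩
  have hper : ∀ i, c i = c (if Even i then 0 else 1) := by
    intro i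
    induction i using Nat.strong_induction_on with
    | _ i ih =>
      rcases i with _ | _ | i
      · simp
      · simp
      · have hstep : c (i + 2) = c i := by
          refine le_antisymm ?_ ?_
          · refine card_fixed_conj (j := σ⁻¹) (hPL _ (inv_mem d.mem_left)) fun w _ => ?_
            rw [d.step_conj]; group
          · refine card_fixed_conj (j := σ) (hPL _ d.mem_left) fun w _ => ?_
            rw [d.step_conj]
        rw [hstep, ih i (by omega)]
        simp [Nat.even_add]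
  set uu : ℂ := 1 / (c 0 : ℂ) with huu
  set vv : ℂ := 1 / (c 1 : ℂ) with hvv
  have hcpos : ∀ i, (c i : ℂ) ≠ 0 := fun i => Nat.cast_ne_zero.2 Nat.card_pos.ne'
  -- the pairs in one section
  have hsection : ∀ a ∈ Finset.Icc 1 h,
      ∑ w ∈ Finset.univ.filter (fun w : G => Commute (σ ^ a) w ∧ ¬ 2 ∣ orderOf w),
        F (σ ^ a * w) * (N (σ ^ a * w) : ℂ) =
      (ζ ^ a + (ζ ^ a)⁻¹ - 2) * ((Nat.card L : ℂ) * (Nat.card (fixed L (σ ^ a)) : ℂ) * (h : ℂ) *
        (if Even a then uu ^ 2 + vv ^ 2 else 2 * uu * vv)) ∧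
      (Nat.card (Subgroup.centralizer ({σ ^ a} : Set G)) : ℂ) =
        (q : ℂ) * (if a = h then 2 else 1) * (Nat.card (fixed L (σ ^ a)) : ℂ) := by
    intro a ha
    rw [Finset.mem_Icc] at ha
    set z := σ ^ a with hz
    have hzP : z ∈ (P : Subgroup G) := pow_mem d.mem_left a
    have hzo : ∃ k : ℕ, orderOf z = 2 ^ k := by
      obtain ⟨k, -, hk⟩ := (Nat.dvd_prime_pow Nat.prime_two).1 (d.order ▸ orderOf_pow_dvd (x := σ) a)
      exact ⟨k, hk⟩
    have hJz : J ∈ Subgroup.zpowers z := by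
      -- the subgroup of `z` contains the involution
      obtain ⟨k, hk⟩ := hzo
      have hk0 : k ≠ 0 := by
        rintro rfl
        rw [pow_zero, orderOf_eq_one_iff] at hk
        have := orderOf_le_of_pow_eq_one (by omega : 0 < a) hk
        rw [d.order] at this
        omega
      have h2 : orderOf (z ^ 2 ^ (k - 1)) = 2 := by
        rw [orderOf_pow_of_dvd (by positivity) (hk ▸ pow_dvd_pow 2 (Nat.sub_le k 1)), hk]
        rw [show (2 : ℕ) ^ k = 2 ^ (k - 1) * 2 by rw [← pow_succ]; congr 1; omega,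
          Nat.mul_div_cancel_left _ (Nat.two_pow_pos _)]
      rcases d.sq_zpowers (x := z ^ 2 ^ (k - 1)) (pow_mem (Subgroup.mem_zpowers_iff.2 ⟨a, zpow_natCast σ a⟩) _)
        (by have := pow_orderOf_eq_one (z ^ 2 ^ (k - 1)); rwa [h2, pow_two] at this) with e | e
      · rw [e, orderOf_one] at h2; omega
      · exact Subgroup.mem_zpowers_iff.2 ⟨((2 ^ (k - 1) : ℕ) : ℤ), (zpow_natCast z _).trans e⟩
    have hCC : Cfsg.HasNormalPComplement 2 (Subgroup.centralizer ({z} : Set G)) ∧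
        (2 : ℕ) ^ (Nat.card (Subgroup.centralizer ({z} : Set G))).factorization 2 =
          q * (if a = h then 2 else 1) ∧
        ∃ R : Subgroup G, R ≤ Subgroup.centralizer ({z} : Set G) ∧ R ≤ (P : Subgroup G) ∧
          Nat.card R = q * (if a = h then 2 else 1) := by
      by_cases hah : a = h
      · subst hah
        refine ⟨d.centralizer_J.1, ?_, (P : Subgroup G), fun p hp =>
          Subgroup.mem_centralizer_singleton_iff.2 (hJc p hp).eq, le_rfl, ?_⟩
        · rw [d.centralizer_J.2, if_pos rfl, pow_succ]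
        · rw [d.card_sylow, if_pos rfl, pow_succ]
      · obtain ⟨e1, e2⟩ := d.centralizer_rotation (d.sq_ne (a := a) (by omega) (by omega) (by omega))
        refine ⟨e1, by rw [e2, if_neg hah, mul_one], Subgroup.zpowers σ,
          Subgroup.zpowers_le.2 (Subgroup.mem_centralizer_singleton_iff.2 ((Commute.refl σ).pow_right a).eq),
          Subgroup.zpowers_le.2 d.mem_left, by rw [Nat.card_zpowers, d.order, if_neg hah, mul_one]⟩
    obtain ⟨hcomp, hfac, R, hRle, hRP, hRcard⟩ := hCC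
    obtain ⟨La, hLa, hLacard, hLadec⟩ := exists_oddPart _ hcomp
    have hLaeq : La = fixed L z := by
      ext w
      rw [hLa, mem_fixed, hLmem', Subgroup.mem_centralizer_singleton_iff]
      constructor
      · rintro ⟨e1, e2⟩
        obtain ⟨i, hi⟩ := Subgroup.mem_zpowers_iff.1 hJz
        exact ⟨⟨hi ▸ Commute.zpow_left (e1.symm : z * w = w * z) i, e2⟩,
          by rw [← e1, mul_inv_cancel_right]⟩
      · rintro ⟨⟨-, e2⟩, e3⟩
        exact ⟨(mul_inv_eq_iff_eq_mul.1 e3).symm, e2⟩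
    have hcard : (Nat.card (Subgroup.centralizer ({z} : Set G)) : ℂ) =
        (q : ℂ) * (if a = h then 2 else 1) * (Nat.card (fixed L z) : ℂ) := by
      rw [hLacard, hfac, ← hLaeq]
      push_cast
      rfl
    refine ⟨?_, hcard⟩
    have hφ : ∀ w ∈ Finset.univ.filter (fun w : G => Commute z w ∧ ¬ 2 ∣ orderOf w),
        F (z * w) = ζ ^ a + (ζ ^ a)⁻¹ - 2 := by
      intro w hw
      obtain ⟨e1, e2⟩ := (Finset.mem_filter.1 hw).2
      have hyb : y 1 ∈ principalBlock M G := by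
        have : y 1 ∈ Finset.univ.filter (· ∈ principalBlock M G) := by
          rw [hcov]
          simp only [Finset.mem_insert, Finset.mem_image]
          exact Or.inr (Or.inr (Or.inr (Or.inr ⟨1, h1mem, rfl⟩)))
        exact (Finset.mem_filter.1 this).2
      obtain ⟨f1, -, -, f4⟩ := hvals a (by omega) (by omega)
      simp only [hF]
      rw [apply_section_complement hM hzo hcomp e1 e2 hχ₁, apply_section_complement hM hzo hcomp e1 e2 hyb,
        hz, f1, f4 1 h1mem, one_mul]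
      linear_combination (ζ ^ a + (ζ ^ a)⁻¹ - 1) * hss
    rw [Finset.sum_congr rfl fun w hw => by rw [hφ w hw], ← Finset.mul_sum, ← Nat.cast_sum]
    congr 1
    have hsum : ∑ w ∈ Finset.univ.filter (fun w : G => Commute z w ∧ ¬ 2 ∣ orderOf w), N (z * w) =
        ∑ i : Fin (2 ^ m), Nat.card (inverted La (σ ^ (i : ℕ) * τ)) ^ 2 := by
      have hLa' : ∀ w, w ∈ La ↔ Commute z w ∧ ¬ 2 ∣ orderOf w := fun w => by
        rw [hLa, Subgroup.mem_centralizer_singleton_iff]
        exact and_congr_left' ⟨fun e => e.symm, fun e => e.eq.symm⟩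
      rw [← d.card_section_pairs (by omega) (by omega) La hLa' (fun w hw => by
        obtain ⟨l, hl, r, hr, he⟩ := hLadec R hRle (P.2.to_le hRP) (by rw [hRcard, hfac]) w
          (Subgroup.mem_centralizer_singleton_iff.2 hw.symm.eq)
        exact ⟨l, hl, r, hRP hr, he⟩), Nat.card_sigma]
      rw [Finset.sum_subtype (p := fun w => w ∈ La) _ (fun w => by simp [hLa'])]
      exact Finset.sum_congr rfl fun w _ => card_pairs_eq hJ2 hall _
    rw [hsum, Nat.cast_sum]
    have hterm : ∀ i : ℕ, ((Nat.card (inverted La (σ ^ i * τ)) ^ 2 : ℕ) : ℂ) =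
        (Nat.card L : ℂ) * (Nat.card (fixed L z) : ℂ) *
          ((1 / (c i : ℂ)) * (1 / (c (i + (q - a)) : ℂ))) := by
      intro i
      have hrz : σ ^ i * τ * z * (σ ^ i * τ)⁻¹ = z⁻¹ :=
        (d.reflection (d.rot_mul i).2.2 (d.rot_mul i).2.1).2 z ⟨a, zpow_natCast σ a⟩
      have hsplit := card_inverted_mul_card_fixed (L := La) (fun w hw => ((hLa w).1 hw).2)
        (r := σ ^ i * τ) (by
          rw [hLaeq]
          refine ⟨fun w hw => ?_, fun w hw => (hact i).invol w (mem_fixed.1 hw).1⟩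
          obtain ⟨w1, w2⟩ := mem_fixed.1 hw
          refine mem_fixed.2 ⟨(hact i).mem w w1, ?_⟩
          have hcz : Commute z w := mul_inv_eq_iff_eq_mul.1 w2
          have h3 : Commute ((σ ^ i * τ) * z * (σ ^ i * τ)⁻¹) ((σ ^ i * τ) * w * (σ ^ i * τ)⁻¹) :=
            hcz.map (MulAut.conj (σ ^ i * τ)).toMonoidHom
          rw [hrz] at h3
          have h4 : Commute z ((σ ^ i * τ) * w * (σ ^ i * τ)⁻¹) := by simpa using h3.inv_left
          rw [h4.eq, mul_inv_cancel_right])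
      have hdih := dihedral_formula m L hLodd (σ ^ i * τ) z (hact i) (hPL z hzP) hrz (fun w _ => by
        rw [hz, ← pow_mul, mul_comm, pow_mul, ← d.order, pow_orderOf_eq_one, one_pow, one_mul, inv_one, mul_one])
      have hshift : σ ^ i * τ * z = σ ^ (i + (q - a)) * τ := by
        have e := d.pow_neg (show a < 2 ^ m by omega)
        rw [Nat.mod_eq_of_lt (by omega : 2 ^ m - a < 2 ^ m)] at e
        rw [pow_add, e]
        calc σ ^ i * τ * z = σ ^ i * (τ * z * τ⁻¹) * τ := by group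
          _ = _ := by rw [hz, d.tau_pow]
      have hd : fixed (fixed L z) (σ ^ i * τ) = fixed (fixed L (σ ^ i * τ)) z := by
        ext w; simp only [mem_fixed]; tauto
      rw [hshift] at hdih
      rw [hLaeq, hd] at hsplit
      rw [hLaeq]
      set D := Nat.card (fixed (fixed L (σ ^ i * τ)) z)
      set I := Nat.card (inverted (fixed L z) (σ ^ i * τ))
      have hdih' : (Nat.card L : ℂ) * (D : ℂ) ^ 2 =
          (c i : ℂ) * (c (i + (q - a)) : ℂ) * (Nat.card (fixed L z) : ℂ) := by exact_mod_cast hdih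
      have hsplit' : (I : ℂ) * (D : ℂ) = (Nat.card (fixed L z) : ℂ) := by exact_mod_cast hsplit
      have hD : (D : ℂ) ≠ 0 := Nat.cast_ne_zero.2 Nat.card_pos.ne'
      push_cast
      rw [← hsplit'] at hdih' ⊢
      have hI : (I : ℂ) ≠ 0 := by
        intro h0
        rw [h0, zero_mul] at hdih'
        simp [hcpos, hD] at hdih'
      field_simp [hcpos i, hcpos (i + (q - a))]
      apply mul_left_cancel₀ hD
      linear_combination -hdih'
    rw [Finset.sum_congr rfl fun (i : Fin (2 ^ m)) _ => hterm i, ← Finset.mul_sum, mul_assoc _ (h : ℂ)]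
    congr 1
    have hqe : Even q := ⟨h, hhq.symm⟩
    have hpar : ∀ i : ℕ, Even (i + (q - a)) ↔ (Even i ↔ Even a) := fun i => by
      rw [Nat.even_add, Nat.even_sub (by omega)]
      simp [hqe]
    rw [Fin.sum_univ_eq_sum_range (fun i => 1 / (c i : ℂ) * (1 / (c (i + (q - a)) : ℂ)))]
    have hval' : ∀ i : ℕ, 1 / (c i : ℂ) * (1 / (c (i + (q - a)) : ℂ)) =
        if Even i then (if Even a then uu ^ 2 else uu * vv) else (if Even a then vv ^ 2 else uu * vv) := by
      intro i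
      rw [hper i, hper (i + (q - a))]
      by_cases h1 : Even i <;> by_cases h2 : Even a <;>
        simp only [hpar, h1, h2, if_true, if_false, iff_self, iff_false, false_iff, iff_true, true_iff,
          not_true, not_false_eq_true, huu, hvv] <;> ring
    rw [Finset.sum_congr rfl fun i _ => hval' i]
    have hcount : ∀ A B : ℂ, ∀ n : ℕ, ∑ i ∈ Finset.range (n + n), (if Even i then A else B) =
        (n : ℂ) * (A + B) := by
      intro A B n
      induction n with
      | zero => simp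
      | succ n ih =>
        rw [show n + 1 + (n + 1) = n + n + 1 + 1 by ring, Finset.sum_range_succ, Finset.sum_range_succ, ih,
          if_pos ⟨n, rfl⟩, if_neg (by simp [Nat.even_add_one])]
        push_cast; ring
    rw [← hq, ← hhq, hcount]
    by_cases h2 : Even a <;> simp only [h2, if_true, if_false] <;> ring
  -- the second evaluation
  have hE2 : ∑ g : G, F g * (N g : ℂ) = -((Nat.card G : ℂ) * (Nat.card L : ℂ)) * (q : ℂ) * (uu + vv) ^ 2 / 4 := by
    rw [sum_sections (Finset.Icc 1 h) (fun a => σ ^ a) (fun a _ => by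
        obtain ⟨k, -, hk⟩ := (Nat.dvd_prime_pow Nat.prime_two).1 (d.order ▸ orderOf_pow_dvd (x := σ) a)
        exact ⟨k, hk⟩)
      (fun a ha b hb hc => d.rotation_reps (Finset.mem_Icc.1 ha).1 (Finset.mem_Icc.1 ha).2
        (Finset.mem_Icc.1 hb).1 (Finset.mem_Icc.1 hb).2 hc) (fun g => F g * (N g : ℂ))]
    · rw [Finset.sum_congr rfl fun a ha => by
        obtain ⟨e1, e2⟩ := hsection a ha
        rw [e1]]
      have hclass : ∀ a ∈ Finset.Icc 1 h, (Nat.card {x : G // IsConj (σ ^ a) x} : ℂ) *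
          (Nat.card (fixed L (σ ^ a)) : ℂ) = (Nat.card G : ℂ) / (2 * (q : ℂ)) * (if a = h then 1 else 2) := by
        intro a ha
        have hq0 : (q : ℂ) ≠ 0 := Nat.cast_ne_zero.2 (Nat.two_pow_pos m).ne'
        rw [show (Nat.card G : ℂ) = (Nat.card {x : G // IsConj (σ ^ a) x} : ℂ) *
          (Nat.card (Subgroup.centralizer ({σ ^ a} : Set G)) : ℂ) by exact_mod_cast (card_isConj_mul _).symm,
          (hsection a ha).2]
        split_ifs <;> field_simp
      rw [Finset.sum_congr rfl (g := fun a => (Nat.card G : ℂ) / (2 * (q : ℂ)) * ((Nat.card L : ℂ) * (h : ℂ)) *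
          ((if a = h then 1 else 2 : ℂ) * ((ζ ^ a + (ζ ^ a)⁻¹ - 2) *
            (if Even a then uu ^ 2 + vv ^ 2 else 2 * uu * vv)))) (fun a ha => by
        linear_combination ((ζ ^ a + (ζ ^ a)⁻¹ - 2) * (Nat.card L : ℂ) * (h : ℂ) *
          (if Even a then uu ^ 2 + vv ^ 2 else 2 * uu * vv)) * hclass a ha),
        ← Finset.mul_sum, sum_weights hhq hh2 hζ]
      have hq0 : (q : ℂ) ≠ 0 := Nat.cast_ne_zero.2 (Nat.two_pow_pos m).ne'
      field_simp
      have : (q : ℂ) = (h : ℂ) + (h : ℂ) := by rw [← hhq]; push_cast; ring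
      rw [this]; ring
    · intro c' g
      have e : N (c' * g * c'⁻¹) = N g := by
        apply Nat.cast_injective (R := ℂ)
        simp only [hN, class_mult_formula]
        congr 1
        exact Finset.sum_congr rfl fun ψ _ => by rw [isClassFunction_irr ψ]
      simp only [hF, e]
      rw [isClassFunction_irr χ₁ g c', isClassFunction_irr (y 1) g c']
    · intro g hg
      have hgodd : ¬ 2 ∣ orderOf g := by
        obtain ⟨z, hz⟩ := exists_isPPart' (p := 2) Nat.prime_two g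
        obtain ⟨-, -, -, hzo, -⟩ := id hz
        obtain ⟨a, ha, hca⟩ := d.conj_rotation hτ hστ hzo
        rcases Nat.eq_zero_or_pos a with rfl | ha0
        · rw [pow_zero, isConj_one_right] at hca
          exact (isPPart_one_iff Nat.prime_two).1 (hca ▸ hz)
        · exfalso
          by_cases hah : a ≤ h
          · exact hg a (Finset.mem_Icc.2 ⟨ha0, hah⟩) z hz hca
          · refine hg (q - a) (Finset.mem_Icc.2 ⟨by omega, by omega⟩) z hz (IsConj.trans ?_ hca)
            show IsConj (σ ^ (q - a)) (σ ^ a)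
            have e := d.pow_neg ha
            rw [Nat.mod_eq_of_lt (by omega : 2 ^ m - a < 2 ^ m)] at e
            rw [e, ← d.tau_pow]
            exact (isConj_iff.2 ⟨τ, rfl⟩ : IsConj (σ ^ a) (τ * σ ^ a * τ⁻¹)).symm
      have hr := (hreg g hgodd).2 1 h1mem
      simp only [hF]
      linear_combination (N g : ℂ) * hr
  -- the centralisers of the four-groups
  have hfour : ∀ i, (Nat.card (Subgroup.centralizer ({J, σ ^ i * τ} : Set G)) : ℂ) = 4 * (c i : ℂ) := by
    intro i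
    obtain ⟨hr2, hrσ, hrP⟩ := d.rot_mul i
    set r := σ ^ i * τ with hr
    set R := (P : Subgroup G) ⊓ Subgroup.centralizer ({r} : Set G) with hR
    have hJ1 : J ≠ 1 := fun e => by rw [e, orderOf_one] at hJ2; omega
    have hJJ : J * J = 1 := by rw [← pow_two, hJ, d.J_sq]
    have hJσ : J ∈ Subgroup.zpowers σ := ⟨h, zpow_natCast σ h⟩
    have hRc : Nat.card R = 4 := by
      have hset : (R : Set G) = {1, J, r, J * r} := by
        ext w
        simp only [hR, Subgroup.coe_inf, Set.mem_inter_iff, SetLike.mem_coe,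
          Subgroup.mem_centralizer_singleton_iff, Set.mem_insert_iff, Set.mem_singleton_iff]
        constructor
        · rintro ⟨hwP, hwr⟩
          have hinv := (d.reflection hrP hrσ).2
          by_cases hwσ : w ∈ Subgroup.zpowers σ
          · have h1 := hinv w hwσ
            rw [← hwr, mul_inv_cancel_right] at h1
            rcases d.sq_zpowers hwσ (by nth_rw 2 [h1]; exact mul_inv_cancel w) with e | e
            · exact Or.inl e
            · exact Or.inr (Or.inl e)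
          · have h1 := (d.cases w hwP).resolve_left hwσ
            have h2 := (d.cases r hrP).resolve_left hrσ
            have h3 : w * r ∈ Subgroup.zpowers σ := by
              have := mul_mem h1 (inv_mem h2)
              rwa [show w * τ * (r * τ)⁻¹ = w * r⁻¹ by group, inv_eq_of_mul_eq_one_right hr2] at this
            have hc : Commute r (w * r) := (Commute.mul_right (hwr.symm : r * w = w * r) (Commute.refl r))
            have h4 := hinv _ h3
            rw [hc.eq, mul_inv_cancel_right] at h4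
            rcases d.sq_zpowers h3 (by nth_rw 2 [h4]; exact mul_inv_cancel _) with e | e
            · exact Or.inr (Or.inr (Or.inl (by rw [eq_inv_of_mul_eq_one_left e, inv_eq_of_mul_eq_one_right hr2])))
            · exact Or.inr (Or.inr (Or.inr (by rw [show J = w * r from e.symm, mul_assoc, hr2, mul_one])))
        · have hJr : Commute J r := (hJc r hrP).symm
          rintro (rfl | rfl | rfl | rfl)
          · exact ⟨one_mem _, by simp⟩
          · exact ⟨pow_mem d.mem_left _, hJr.eq⟩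
          · exact ⟨hrP, rfl⟩
          · exact ⟨mul_mem (pow_mem d.mem_left _) hrP, (hJr.mul_left (Commute.refl r)).eq⟩
      rw [← SetLike.coe_sort_coe, Nat.card_coe_set_eq, hset,
        Set.ncard_insert_of_notMem (by
          simp only [Set.mem_insert_iff, Set.mem_singleton_iff, not_or]
          refine ⟨hJ1.symm, fun e => hrσ (e ▸ one_mem _), fun e => hrσ ?_⟩
          rw [eq_inv_of_mul_eq_one_right e.symm]; exact inv_mem hJσ) (Set.toFinite _),
        Set.ncard_insert_of_notMem (by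
          simp only [Set.mem_insert_iff, Set.mem_singleton_iff, not_or]
          exact ⟨fun e => hrσ (e ▸ hJσ), fun e => hrσ ((mul_eq_left.1 e.symm) ▸ one_mem _)⟩) (Set.toFinite _),
        Set.ncard_pair (fun e => hJ1 (mul_eq_right.1 e.symm))]
    have hmul : Nat.card (Subgroup.centralizer ({J, r} : Set G)) = Nat.card (fixed L r) * Nat.card R := by
      rw [← Nat.card_prod]
      have hcom : ∀ w, w ∈ Subgroup.centralizer ({J, r} : Set G) ↔ Commute J w ∧ Commute r w := by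
        intro w
        simp only [Subgroup.mem_centralizer_iff, Set.mem_insert_iff, Set.mem_singleton_iff]
        exact ⟨fun h => ⟨h J (Or.inl rfl), h r (Or.inr rfl)⟩, fun h g hg => by
          rcases hg with rfl | rfl
          · exact h.1
          · exact h.2⟩
      have hmemf : ∀ l, l ∈ fixed L r → Commute J l ∧ Commute r l := fun l hl =>
        ⟨((hLmem' l).1 (mem_fixed.1 hl).1).1, mul_inv_eq_iff_eq_mul.1 (mem_fixed.1 hl).2⟩
      have hmemR : ∀ p, p ∈ R → Commute J p ∧ Commute r p := fun p hp =>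
        ⟨(hJc p hp.1).symm, (Subgroup.mem_centralizer_singleton_iff.1 hp.2).symm⟩
      have htriv : ∀ p ∈ (P : Subgroup G), p ∈ L → p = 1 := fun p hp hpL => by
        obtain ⟨k, hk⟩ := IsPGroup.iff_orderOf.1 P.2 ⟨p, hp⟩
        rw [Subgroup.orderOf_mk] at hk
        rcases k with _ | k
        · rwa [pow_zero, orderOf_eq_one_iff] at hk
        · exact absurd (hk ▸ dvd_pow_self 2 k.succ_ne_zero) (hLodd p hpL)
      refine (Nat.card_congr (Equiv.ofBijective (fun z : fixed L r × R =>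
        (⟨(z.1 : G) * (z.2 : G), (hcom _).2 ⟨(hmemf _ z.1.2).1.mul_right (hmemR _ z.2.2).1,
          (hmemf _ z.1.2).2.mul_right (hmemR _ z.2.2).2⟩⟩ :
            Subgroup.centralizer ({J, r} : Set G))) ⟨?_, ?_⟩)).symm
      · rintro ⟨⟨l, hl⟩, ⟨p, hp⟩⟩ ⟨⟨l', hl'⟩, ⟨p', hp'⟩⟩ e
        have e' : l * p = l' * p' := congrArg Subtype.val e
        have e'' : l'⁻¹ * l = p' * p⁻¹ := by
          rw [inv_mul_eq_iff_eq_mul, ← mul_assoc, ← e', mul_inv_cancel_right]
        have := htriv _ (mul_mem hp'.1 (inv_mem hp.1))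
          (e'' ▸ mul_mem (inv_mem (mem_fixed.1 hl').1) (mem_fixed.1 hl).1)
        rw [mul_inv_eq_one] at this
        subst this
        obtain rfl := mul_right_cancel e'
        rfl
      · rintro ⟨w, hw⟩
        obtain ⟨e1, e2⟩ := (hcom w).1 hw
        obtain ⟨l, hl, p, hp, rfl⟩ := hLdec (P : Subgroup G) (fun p hp =>
          Subgroup.mem_centralizer_singleton_iff.2 (hJc p hp).eq) P.2
          (by rw [d.card_sylow, d.centralizer_J.2]) w (Subgroup.mem_centralizer_singleton_iff.2 e1.symm.eq)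
        have e3 : r * (l * p) * r⁻¹ = l * p := by rw [e2.eq, mul_inv_cancel_right]
        have e4 : l⁻¹ * (r * l * r⁻¹) = p * (r * p * r⁻¹)⁻¹ := by
          calc l⁻¹ * (r * l * r⁻¹) = l⁻¹ * (r * (l * p) * r⁻¹) * (r * p * r⁻¹)⁻¹ := by group
            _ = _ := by rw [e3]; group
        have e5 := htriv _ (mul_mem hp (inv_mem (mul_mem (mul_mem hrP hp) (inv_mem hrP))))
          (e4 ▸ mul_mem (inv_mem hl) (hPL r hrP l hl))
        have hrl : r * l * r⁻¹ = l := by
          rw [e5] at e4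
          exact (inv_mul_eq_one.1 e4).symm
        have hrp : r * p * r⁻¹ = p := (mul_inv_eq_one.1 e5).symm
        exact ⟨(⟨l, mem_fixed.2 ⟨hl, hrl⟩⟩, ⟨p, hp, Subgroup.mem_centralizer_singleton_iff.2
          (mul_inv_eq_iff_eq_mul.1 hrp).symm⟩), rfl⟩
    rw [hmul, hRc]
    push_cast
    ring
  have hcJ : (Nat.card (Subgroup.centralizer ({J} : Set G)) : ℂ) = 2 * (q : ℂ) * (Nat.card L : ℂ) := by
    rw [hJ, hLcard, d.centralizer_J.2, hq]
    push_cast
    ring
  have hGK : (Nat.card G : ℂ) = K * (2 * (q : ℂ) * (Nat.card L : ℂ)) := by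
    rw [← hcJ, hK]; exact_mod_cast (card_isConj_mul J).symm
  have hYX : -(s : ℂ) * Y = 1 - (s : ℂ) * X := by
    have := (hreg 1 (by rw [orderOf_one]; norm_num)).2 1 h1mem
    rwa [irr_apply_one_eq_deg, irr_apply_one_eq_deg] at this
  have hX0 : X ≠ 0 := Nat.cast_ne_zero.2 (deg_irr_pos χ₁).ne'
  have hY0 : Y ≠ 0 := Nat.cast_ne_zero.2 (deg_irr_pos (y 1)).ne'
  have hL0 : (Nat.card L : ℂ) ≠ 0 := Nat.cast_ne_zero.2 Nat.card_pos.ne'
  have hq0 : (q : ℂ) ≠ 0 := Nat.cast_ne_zero.2 (Nat.two_pow_pos m).ne'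
  have hG0 : (Nat.card G : ℂ) ≠ 0 := Nat.cast_ne_zero.2 Nat.card_pos.ne'
  have hYval : Y = X - (s : ℂ) := by linear_combination -(s : ℂ) * hYX + (X - Y) * hss
  have heq := hE1.symm.trans hE2
  have hK0 : K ≠ 0 := fun e => hG0 (by rw [hGK, e, zero_mul])
  have hmain : (Nat.card G : ℂ) * (X - δ) ^ 2 = 4 * (Nat.card L : ℂ) ^ 3 * (q : ℂ) ^ 3 *
      (X * (X + δ)) * (uu + vv) ^ 2 / 4 := by
    rw [hδs, hGK]
    rw [hYval, hGK] at heq
    have hXs : X - (s : ℂ) ≠ 0 := hYval ▸ hY0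
    have e5 : -1 + (s : ℂ) / X - (s : ℂ) * 4 / (X - (s : ℂ)) = -(X + (s : ℂ)) ^ 2 / (X * (X - (s : ℂ))) := by
      field_simp
      ring
    rw [e5] at heq
    have h6 : K ^ 2 * (-(X + (s : ℂ)) ^ 2) = (-(K * (2 * (q : ℂ) * (Nat.card L : ℂ)) * (Nat.card L : ℂ)) *
        (q : ℂ) * (uu + vv) ^ 2 / 4) * (X * (X - (s : ℂ))) := by
      rw [← heq, mul_assoc, div_mul_cancel₀ _ (mul_ne_zero hX0 hXs)]
    apply mul_left_cancel₀ hK0
    linear_combination (-2 * (q : ℂ) * (Nat.card L : ℂ)) * h6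
  have hp' : ∀ i, (1 / (Nat.card (Subgroup.centralizer ({J, σ ^ i * τ} : Set G)) : ℂ)) = 1 / (c i : ℂ) / 4 := by
    intro i; rw [hfour i]; field_simp
  have e0 := hp' 0
  have e1 := hp' 1
  rw [pow_zero, one_mul] at e0
  rw [pow_one] at e1
  refine ⟨fun e => ?_, ?_⟩
  · rw [e, sub_self, zero_pow two_ne_zero, mul_zero] at hmain
    have hne : uu + vv ≠ 0 := by
      rw [huu, hvv, div_add_div _ _ (hcpos 0) (hcpos 1)]
      refine div_ne_zero ?_ (mul_ne_zero (hcpos 0) (hcpos 1))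
      rw [one_mul, mul_one, ← Nat.cast_add]
      exact Nat.cast_ne_zero.2 (Nat.add_pos_left (show 0 < c _ from Nat.card_pos) _).ne'
    have h2X : X + X ≠ 0 := by rw [← two_mul]; exact mul_ne_zero two_ne_zero hX0
    have : 4 * (Nat.card L : ℂ) ^ 3 * (q : ℂ) ^ 3 * (X * (X + X)) * (uu + vv) ^ 2 / 4 ≠ 0 := by
      refine div_ne_zero ?_ (by norm_num)
      simp only [ne_eq, mul_eq_zero, OfNat.ofNat_ne_zero, pow_eq_zero_iff', hL0, hq0, hX0, h2X, hne,
        false_and, or_self, not_false_eq_true]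
    rw [← e] at hmain
    exact this hmain.symm
  · rw [e0, e1, hcJ, hmain, ← huu, ← hvv]
    ring

end Cfsg.Lib.Dihedral
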