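/-
Characters of `p'`-degree and the `p`-residual.
-/
import Cfsg.Agent.Chars.Gallagher
import Cfsg.Agent.Chars.Count
import Cfsg.Agent.Transfer.Basic
import Mathlib

set_option linter.unusedSectionVars false

namespace Cfsg.Lib.Blocks

open Cfsg.Lib.Chars

universe u

variable {G : Type u} [Group G] [Finite G] (p : ℕ) [hp : Fact p.Prime]

/-- The `p`-residual has no nontrivial linear characters of `p`-power order. -/
lemma linear_eq_one_of_pow {A : Type*} [CommGroup A] (f : ↥(Cfsg.pResidual p G) →* A) {a : ℕ}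
    (hf : f ^ (p ^ a) = 1) : f = 1 := by
  have hle : Cfsg.pResidual p G ≤ f.ker.map (Cfsg.pResidual p G).subtype :=
    (Subgroup.closure_le _).2 fun g hg => by
    have hgN : g ∈ Cfsg.pResidual p G := Cfsg.Lib.Transfer.mem_pResidual_of_coprime hg
    refine ⟨⟨g, hgN⟩, ?_, rfl⟩
    show f ⟨g, hgN⟩ = 1
    rw [← orderOf_eq_one_iff]
    refine Nat.eq_one_of_dvd_coprimes (Nat.Coprime.pow_right a (k := orderOf g) hg) ?_
      (orderOf_dvd_of_pow_eq_one ((MonoidHom.pow_apply f (p ^ a) _).symm.trans (DFunLike.congr_fun hf _)))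
    exact (orderOf_map_dvd f _).trans (by rw [Subgroup.orderOf_mk])
  ext n
  obtain ⟨m, hm, hmn⟩ := hle n.2
  rw [← (Subtype.ext hmn : m = n)]
  exact MonoidHom.mem_ker.1 hm

lemma not_dvd_detOrder {θ : ↥(Cfsg.pResidual p G) → ℂ}
    (hθ : Cfsg.IsIrrCharacter ↥(Cfsg.pResidual p G) θ) : ¬ p ∣ Cfsg.detOrder θ := by
  haveI := Fintype.ofFinite ↥(Cfsg.pResidual p G)
  obtain ⟨f, hf⟩ := detChar_is_hom (isCharacter_of_irr hθ)
  have ho : Cfsg.detOrder θ = orderOf f := by rw [Cfsg.detOrder, hf]; exact orderOf_linear f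
  rw [ho]
  intro hd
  have h1 : f ^ (orderOf f / p) = 1 := linear_eq_one_of_pow p _ (a := 1)
    (by rw [← pow_mul, pow_one, Nat.div_mul_cancel hd, pow_orderOf_eq_one])
  have hpos : 0 < orderOf f := orderOf_pos_iff.mpr (isOfFinOrder_iff_pow_eq_one.mpr
    ⟨Nat.card ↥(Cfsg.pResidual p G), Nat.card_pos, by
      ext n; rw [MonoidHom.pow_apply, ← map_pow, pow_card_eq_one', map_one, MonoidHom.one_apply]⟩)
  have h2 := Nat.le_of_dvd (Nat.div_pos (Nat.le_of_dvd hpos hd) hp.out.pos) (orderOf_dvd_of_pow_eq_one (G := ↥(Cfsg.pResidual p G) →* ℂˣ) (x := f) (n := orderOf f / p) (MonoidHom.ext fun x => DFunLike.congr_fun h1 x))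
  exact absurd (Nat.div_lt_self hpos hp.out.one_lt) (not_lt.2 h2)

/-- The congruence for the order of the `p`-residual. -/
theorem card_pResidual_modEq [Fintype G]
    [DecidablePred fun χ : Cfsg.IrrCharacter G => ¬ p ∣ deg (χ : G → ℂ) ∧ ¬ p ∣ Cfsg.detOrder (χ : G → ℂ)] :
    (Nat.card (Cfsg.pResidual p G) : ZMod p) =
      ∑ χ ∈ Finset.univ.filter (fun χ : Cfsg.IrrCharacter G =>
        ¬ p ∣ deg (χ : G → ℂ) ∧ ¬ p ∣ Cfsg.detOrder (χ : G → ℂ)), (deg (χ : G → ℂ) : ZMod p) ^ 2 := by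
  classical
  obtain ⟨k, hk⟩ := Cfsg.Lib.Transfer.exists_index_pResidual (p := p) (G := G)
  let N := Cfsg.pResidual p G
  haveI : N.Normal := Cfsg.Lib.Transfer.pResidual_normal'
  haveI := Fintype.ofFinite N
  change (Nat.card N : ZMod p) = _
  have hcop : ∀ m : ℕ, ¬ p ∣ m → Nat.Coprime N.index m := fun m hm => by
    rw [show N.index = p ^ k from hk]; exact Nat.Coprime.pow_left k (hp.out.coprime_iff_not_dvd.2 hm)
  have hdvd1 : ∀ m : ℕ, m ∣ N.index → ¬ p ∣ m → m = 1 := fun m h1 h2 =>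
    Nat.eq_one_of_dvd_coprimes (hcop m h2) h1 dvd_rfl
  let inv : Cfsg.IrrCharacter N → Prop := fun θ => ∀ g : G, conjN N g (θ : N → ℂ) = (θ : N → ℂ)
  have hres : ∀ χ : Cfsg.IrrCharacter G, ¬ p ∣ deg (χ : G → ℂ) →
      ∃ θ : Cfsg.IrrCharacter N, inv θ ∧ (θ : N → ℂ) = (fun n : N => (χ : G → ℂ) n) ∧
        deg (θ : N → ℂ) = deg (χ : G → ℂ) := by
    intro χ hχ
    obtain ⟨θ, hθ, hc⟩ := exists_constituent N (isCharacter_of_irr χ.2)
      (IsIrrCharacter.apply_one_ne_zero χ.2)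
    obtain ⟨e, he⟩ := IsCharacter.exists_mult (IsCharacter.restrict (isCharacter_of_irr χ.2) N) hθ
    have hcl := clifford N χ.2 hθ hc
    rw [he] at hcl
    have h1 : deg (χ : G → ℂ) = e * ((conjOrbit N θ).card * deg θ) := by
      apply Nat.cast_injective (R := ℂ)
      rw [← irr_apply_one_eq_deg χ]
      have h2 := congrFun hcl 1
      simp only [OneMemClass.coe_one, Pi.smul_apply, Finset.sum_apply, smul_eq_mul] at h2
      rw [h2, Finset.sum_congr rfl (g := fun _ => θ 1) fun ψ hψ => ?_, Finset.sum_const, nsmul_eq_mul,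
        show θ 1 = (deg θ : ℂ) from irr_apply_one_eq_deg ⟨θ, hθ⟩]
      · push_cast; ring
      · obtain ⟨g, rfl⟩ := (mem_conjOrbit N).1 hψ
        simp [conjN]; rfl
    have horb : (conjOrbit N θ).card = 1 := by
      refine hdvd1 _ ?_ fun h => hχ (h1 ▸ dvd_mul_of_dvd_right (dvd_mul_of_dvd_left h _) e)
      have h2 := card_conjOrbit N θ
      have h3 : Nat.card N ∣ Nat.card (inertia N θ) :=
        Subgroup.card_dvd_of_le (le_inertia (isClassFunction_isChar (isCharacter_of_irr hθ)))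
      obtain ⟨c, hc'⟩ := h3
      rw [hc', ← Subgroup.index_mul_card N] at h2
      exact ⟨c, Nat.eq_of_mul_eq_mul_right (Nat.card_pos (α := N)) (by rw [← h2]; ring)⟩
    have hinv : ∀ g : G, conjN N g θ = θ := fun g =>
      (Finset.card_le_one.1 horb.le) _ ((mem_conjOrbit N).2 ⟨g, rfl⟩) _ ((mem_conjOrbit N).2 ⟨1, conjN_one N θ⟩)
    have hsum : ∑ ψ ∈ conjOrbit N θ, ψ = θ := by
      rw [Finset.sum_eq_single_of_mem θ ((mem_conjOrbit N).2 ⟨1, conjN_one N θ⟩)]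
      intro ψ hψ hne
      obtain ⟨g, rfl⟩ := (mem_conjOrbit N).1 hψ
      exact absurd (hinv g) hne
    rw [hsum] at hcl
    have he1 : e = 1 := by
      refine hdvd1 e ?_ fun h => hχ (h1 ▸ dvd_mul_of_dvd_left h _)
      obtain ⟨m, ρ, hρ, rfl⟩ := hθ
      obtain ⟨m', σ, hσ, hσχ⟩ := χ.2
      haveI := hρ
      haveI := hσ
      refine finrank_dvd_of_invariant N ρ σ hinv ?_
      rw [hσχ]; exact hcl
    rw [he1, Nat.cast_one, one_smul] at hcl
    refine ⟨⟨θ, hθ⟩, hinv, hcl.symm, ?_⟩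
    show deg θ = _
    rw [h1, he1, horb]; ring
  have hext : ∀ θ : Cfsg.IrrCharacter N, inv θ → ¬ p ∣ deg (θ : N → ℂ) →
      ∃ χ : Cfsg.IrrCharacter G, ((fun n : N => (χ : G → ℂ) n) = (θ : N → ℂ) ∧
        ¬ p ∣ Cfsg.detOrder (χ : G → ℂ)) ∧
      ∀ χ' : Cfsg.IrrCharacter G, (fun n : N => (χ' : G → ℂ) n) = (θ : N → ℂ) →
        ¬ p ∣ Cfsg.detOrder (χ' : G → ℂ) → χ' = χ := by
    intro θ hθi hθd
    obtain ⟨χ, ⟨hχ, hχN, hχo⟩, huniq⟩ := exists_canonical_extension N θ.2 hθi (irr_apply_one_eq_deg θ)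
      (Nat.Coprime.mul_right (hcop _ (not_dvd_detOrder p θ.2)) (hcop _ hθd))
    exact ⟨⟨χ, hχ⟩, ⟨funext hχN, by rw [hχo]; exact not_dvd_detOrder p θ.2⟩,
      fun χ' h1 h2 => Subtype.ext (huniq _ χ'.2 (congrFun h1) (hcop _ h2))⟩
  -- the bijection
  have hbij : ∑ χ ∈ Finset.univ.filter (fun χ : Cfsg.IrrCharacter G =>
        ¬ p ∣ deg (χ : G → ℂ) ∧ ¬ p ∣ Cfsg.detOrder (χ : G → ℂ)), (deg (χ : G → ℂ) : ZMod p) ^ 2 =
      ∑ θ ∈ Finset.univ.filter (fun θ : Cfsg.IrrCharacter N => inv θ ∧ ¬ p ∣ deg (θ : N → ℂ)),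
        (deg (θ : N → ℂ) : ZMod p) ^ 2 := by
    choose R hR1 hR2 hR3 using hres
    refine Finset.sum_bij (fun χ hχ => R χ (Finset.mem_filter.1 hχ).2.1) (fun χ hχ => ?_)
      (fun χ hχ χ' hχ' he => ?_) (fun θ hθ => ?_) (fun χ hχ => ?_)
    · refine Finset.mem_filter.2 ⟨Finset.mem_univ _, hR1 _ _, ?_⟩
      rw [hR3]; exact (Finset.mem_filter.1 hχ).2.1
    · obtain ⟨-, hd, ho⟩ := Finset.mem_filter.1 hχ
      obtain ⟨-, hd', ho'⟩ := Finset.mem_filter.1 hχ'
      obtain ⟨χ₀, -, hu⟩ := hext (R χ hd) (hR1 _ _) (by rw [hR3]; exact hd)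
      rw [hu χ (hR2 χ hd).symm ho, hu χ' (by rw [← hR2 χ' hd']; exact congrArg Subtype.val he.symm) ho']
    · obtain ⟨-, hi, hd⟩ := Finset.mem_filter.1 hθ
      obtain ⟨χ₀, ⟨h1, h2⟩, -⟩ := hext θ hi hd
      have hd0 : ¬ p ∣ deg (χ₀ : G → ℂ) := by
        rwa [show deg (χ₀ : G → ℂ) = deg (θ : N → ℂ) from Nat.cast_injective (R := ℂ) (by
          rw [← irr_apply_one_eq_deg χ₀, ← irr_apply_one_eq_deg θ, ← h1]; rfl)]
      exact ⟨χ₀, Finset.mem_filter.2 ⟨Finset.mem_univ _, hd0, h2⟩,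
        Subtype.ext ((hR2 χ₀ hd0).trans h1)⟩
    · rw [hR3]
  -- the orbits that are not fixed
  have hrest : ∑ θ ∈ Finset.univ.filter (fun θ : Cfsg.IrrCharacter N => ¬ (inv θ ∧ ¬ p ∣ deg (θ : N → ℂ))),
      (deg (θ : N → ℂ) : ZMod p) ^ 2 = 0 := by
    rw [← Finset.sum_fiberwise_of_maps_to (g := fun θ : Cfsg.IrrCharacter N => deg (θ : N → ℂ))
      (t := (Finset.univ : Finset (Cfsg.IrrCharacter N)).image fun θ : Cfsg.IrrCharacter N => deg (θ : N → ℂ))
      (fun θ _ => Finset.mem_image_of_mem (fun θ : Cfsg.IrrCharacter N => deg (θ : N → ℂ)) (Finset.mem_univ θ))]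
    refine Finset.sum_eq_zero fun c _ => ?_
    rw [Finset.sum_congr rfl fun θ hθ => by rw [(Finset.mem_filter.1 hθ).2], Finset.sum_const, nsmul_eq_mul]
    by_cases hpc : p ∣ c
    · rw [(ZMod.natCast_eq_zero_iff _ _).2 hpc] <;> simp
    refine mul_eq_zero_of_left ?_ _
    rw [ZMod.natCast_eq_zero_iff]
    set T : Finset (Cfsg.IrrCharacter N) :=
      (Finset.univ.filter fun θ : Cfsg.IrrCharacter N => ¬ (inv θ ∧ ¬ p ∣ deg (θ : N → ℂ))).filter
      fun θ : Cfsg.IrrCharacter N => deg (θ : N → ℂ) = c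
    obtain ⟨P⟩ := (inferInstance : Nonempty (Sylow p G))
    have hT : ∀ (g : G), ∀ θ ∈ T, (⟨conjN N g (θ : N → ℂ), IsIrrCharacter.conjN θ.2 g⟩ : Cfsg.IrrCharacter N) ∈ T := by
      intro g θ hθ
      simp only [T, Finset.mem_filter, Finset.mem_univ, true_and] at hθ ⊢
      have hdeg : deg (conjN N g (θ : N → ℂ)) = c := by
        rw [← hθ.2]
        apply Nat.cast_injective (R := ℂ)
        rw [← irr_apply_one_eq_deg θ, ← irr_apply_one_eq_deg ⟨_, IsIrrCharacter.conjN θ.2 g⟩]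
        simp [conjN]; rfl
      refine ⟨fun h => hθ.1 ⟨fun h' => ?_, hθ.2 ▸ hpc⟩, hdeg⟩
      calc conjN N h' (θ : N → ℂ) = conjN N (g⁻¹ * h') (conjN N g (θ : N → ℂ)) := by
            rw [← conjN_mul]; simp
        _ = conjN N g⁻¹ (conjN N g (θ : N → ℂ)) := by rw [h.1, h.1]
        _ = θ := by rw [← conjN_mul, mul_inv_cancel, conjN_one]
    letI : MulAction (P : Subgroup G) T :=
      { smul := fun g θ => ⟨_, hT ((g : G)⁻¹) θ.1 θ.2⟩
        one_smul := fun θ => Subtype.ext (Subtype.ext (by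
          show conjN N ((1 : (P : Subgroup G)) : G)⁻¹ _ = _
          rw [OneMemClass.coe_one, inv_one, conjN_one]))
        mul_smul := fun a b θ => Subtype.ext (Subtype.ext (by
          show conjN N ((a * b : (P : Subgroup G)) : G)⁻¹ _ = conjN N (a : G)⁻¹ (conjN N (b : G)⁻¹ _)
          rw [Subgroup.coe_mul, mul_inv_rev, conjN_mul])) }
    have hfp : IsEmpty (MulAction.fixedPoints (P : Subgroup G) T) := ⟨fun ⟨⟨θ, hθm⟩, hfix⟩ => by
      have hm := hθm
      simp only [T, Finset.mem_filter, Finset.mem_univ, true_and] at hm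
      refine hm.1 ⟨fun g => ?_, hm.2 ▸ hpc⟩
      have hle : N ⊔ (P : Subgroup G) ≤ inertia N (θ : N → ℂ) := sup_le
        (le_inertia (isClassFunction_irr θ)) fun x hx => by
          have h1 := congrArg (fun z : T => ((z.1 : Cfsg.IrrCharacter N) : N → ℂ)) (hfix ⟨x⁻¹, inv_mem hx⟩)
          rw [mem_inertia]
          simpa using (show conjN N ((x⁻¹)⁻¹) (θ : N → ℂ) = _ from h1)
      rw [Cfsg.Lib.Transfer.sup_sylow_eq_top hk P] at hle
      exact mem_inertia.1 (hle (Subgroup.mem_top g))⟩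
    have hmod := P.2.card_modEq_card_fixedPoints T
    rw [Nat.card_of_isEmpty (α := MulAction.fixedPoints (P : Subgroup G) T), Nat.card_eq_fintype_card,
      Fintype.card_coe, Nat.modEq_zero_iff_dvd] at hmod
    exact hmod
  rw [hbij, ← sum_deg_sq_nat (G := N), Nat.cast_sum]
  rw [Finset.sum_congr rfl fun θ _ => Nat.cast_pow (deg ((θ : Cfsg.IrrCharacter N) : N → ℂ)) 2,
    ← Finset.sum_filter_add_sum_filter_not _ (fun θ : Cfsg.IrrCharacter N => inv θ ∧ ¬ p ∣ deg (θ : N → ℂ)),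
    hrest, add_zero]

/-- Thompson: if every nonlinear degree is divisible by `p`, the `p`-residual is a `p'`-group. -/
theorem not_dvd_card_pResidual (hdeg : ∀ χ : Cfsg.IrrCharacter G, deg (χ : G → ℂ) ≠ 1 → p ∣ deg (χ : G → ℂ)) :
    ¬ p ∣ Nat.card (Cfsg.pResidual p G) := by
  classical
  haveI := Fintype.ofFinite G
  intro hd
  have h := card_pResidual_modEq (G := G) p
  rw [(ZMod.natCast_eq_zero_iff _ _).2 hd] at h
  set S := Finset.univ.filter (fun χ : Cfsg.IrrCharacter G =>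
        ¬ p ∣ deg (χ : G → ℂ) ∧ ¬ p ∣ Cfsg.detOrder (χ : G → ℂ))
  have h1 : ∀ χ ∈ S, deg (χ : G → ℂ) = 1 := fun χ hχ =>
    not_not.1 fun hne => (Finset.mem_filter.1 hχ).2.1 (hdeg χ hne)
  rw [Finset.sum_congr rfl (g := fun _ => (1 : ZMod p)) fun χ hχ => by rw [h1 χ hχ, Nat.cast_one, one_pow],
    Finset.sum_const, nsmul_one, eq_comm, ZMod.natCast_eq_zero_iff] at h
  let toIrr : (G →* ℂˣ) → Cfsg.IrrCharacter G := fun f => ⟨fun g => (f g : ℂ), isIrrCharacter_linear f⟩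
  have hinj : Function.Injective toIrr := fun f g he =>
    MonoidHom.ext fun x => Units.ext (congrFun (congrArg Subtype.val he) x)
  haveI : Finite (G →* ℂˣ) := Finite.of_injective toIrr hinj
  have hoder : ∀ f : G →* ℂˣ, Cfsg.detOrder (toIrr f : G → ℂ) = orderOf f := fun f => by
    rw [Cfsg.detOrder, detChar_of_linear (isCharacter_of_irr (toIrr f).2) (by simp [toIrr])]
    exact orderOf_linear f
  let L : Subgroup (G →* ℂˣ) :=
    { carrier := {f | ¬ p ∣ orderOf f}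
      one_mem' := by simp [hp.out.ne_one]
      mul_mem' := fun {a b} ha hb h' => by
        rcases hp.out.dvd_mul.1 ((h'.trans (Commute.orderOf_mul_dvd_lcm (Commute.all a b))).trans
          (Nat.lcm_dvd_mul _ _)) with h' | h'
        · exact ha h'
        · exact hb h'
      inv_mem' := fun {a} ha => by simpa using ha }
  have hcard : Nat.card L = S.card := by
    rw [← Fintype.card_coe, ← Nat.card_eq_fintype_card]
    refine Nat.card_eq_of_bijective (fun f : L => (⟨toIrr f.1, ?_⟩ : S)) ⟨?_, ?_⟩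
    · refine Finset.mem_filter.2 ⟨Finset.mem_univ _, ?_, by rw [hoder]; exact f.2⟩
      rw [show deg (toIrr f.1 : G → ℂ) = 1 by simp [deg, toIrr]]
      exact hp.out.not_dvd_one
    · exact fun f g he => Subtype.ext (hinj (congrArg (fun z : S => z.1) he))
    · rintro ⟨χ, hχ⟩
      obtain ⟨f, hf⟩ := exists_hom_of_deg_one (isCharacter_of_irr χ.2)
        (by rw [irr_apply_one_eq_deg χ, h1 χ hχ, Nat.cast_one])
      have hto : toIrr f = χ := Subtype.ext hf.symm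
      refine ⟨⟨f, ?_⟩, Subtype.ext hto⟩
      show ¬ p ∣ orderOf f
      rw [← hoder, hto]
      exact (Finset.mem_filter.1 hχ).2.2
  rw [← hcard] at h
  obtain ⟨f, hf⟩ := exists_prime_orderOf_dvd_card' (G := L) p h
  rw [← Subgroup.orderOf_coe] at hf
  exact f.2 (hf ▸ dvd_rfl)

end Cfsg.Lib.Blocks
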