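import Mathlib
import Cfsg.Agent.Blocks.RelTrace

/-!
# Tate cohomology of a lattice for a subgroup of prime order, and its dimension bound

`O` is a discrete valuation ring with uniformizer `p`, `κ → O` a lattice. For an idempotent `E`
commuting with an operator `Y` of order `p` the two cohomology spaces are `F̄ / N̄` and `Z̄ / D̄`
inside the reduction. Their dimensions differ by the trace of `Y` on the image of `E`, and any
operator on either of them commuting with `Y` lifts.
-/

set_option autoImplicit false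
set_option linter.unusedSectionVars false

namespace Cfsg.Lib.Blocks.Herbrand

open Polynomial Module IsLocalRing

universe uo uk ug

variable {O : Type uo} [CommRing O] [IsDomain O] [IsLocalRing O] {κ : Type uk} [Fintype κ]
  [DecidableEq κ]

local notation "kk" => IsLocalRing.ResidueField O

/-- Reduction of a vector. -/
noncomputable def redV (x : κ → O) : κ → kk := fun i => residue O (x i)

@[simp] lemma redV_zero : redV (0 : κ → O) = 0 := funext fun _ => map_zero _
lemma redV_add (x y : κ → O) : redV (x + y) = redV x + redV y :=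
  funext fun _ => map_add _ _ _
lemma redV_sub (x y : κ → O) : redV (x - y) = redV x - redV y :=
  funext fun _ => map_sub _ _ _
lemma redV_smul (c : O) (x : κ → O) : redV (c • x) = residue O c • redV x :=
  funext fun _ => map_mul _ _ _
lemma redV_sum {ι : Type*} (s : Finset ι) (x : ι → κ → O) :
    redV (∑ i ∈ s, x i) = ∑ i ∈ s, redV (x i) :=
  funext fun j => by simp [redV, Finset.sum_apply]
lemma redV_surjective : Function.Surjective (redV : (κ → O) → κ → kk) := fun v => by
  choose x hx using fun i => residue_surjective (v i)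
  exact ⟨x, funext hx⟩

/-- Reduction of an operator, as a ring homomorphism. -/
noncomputable def redE : Module.End O (κ → O) →+* Module.End kk (κ → kk) :=
  ((Matrix.toLinAlgEquiv' (R := kk) (n := κ)).toRingEquiv.toRingHom).comp
    ((residue O).mapMatrix.comp
      (LinearMap.toMatrixAlgEquiv' (R := O) (n := κ)).toRingEquiv.toRingHom)

lemma redE_redV (f : Module.End O (κ → O)) (x : κ → O) : redE f (redV x) = redV (f x) := by
  have h : f x = (LinearMap.toMatrixAlgEquiv' f).mulVec x := by
    conv_lhs => rw [← Matrix.toLinAlgEquiv'_toMatrixAlgEquiv' f]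
    rfl
  show ((LinearMap.toMatrixAlgEquiv' f).map (residue O)).mulVec (redV x) = _
  rw [h]
  exact funext fun i => (RingHom.map_mulVec (residue O) _ x i).symm

lemma redE_smul (c : O) (f : Module.End O (κ → O)) : redE (c • f) = residue O c • redE f := by
  refine LinearMap.ext fun v => ?_
  obtain ⟨x, rfl⟩ := redV_surjective v
  rw [redE_redV, LinearMap.smul_apply, LinearMap.smul_apply, redE_redV, redV_smul]

lemma redE_aeval (f : O[X]) (T : Module.End O (κ → O)) :
    redE (aeval T f) = aeval (redE T) (f.map (residue O)) := by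
  induction f using Polynomial.induction_on' with
  | add a b ha hb => rw [map_add, map_add, Polynomial.map_add, map_add, ha, hb]
  | monomial n a =>
    rw [Polynomial.map_monomial, aeval_monomial, aeval_monomial, ← Algebra.smul_def,
      ← Algebra.smul_def, redE_smul, map_pow]

variable {p : ℕ} (hpi : maximalIdeal O = Ideal.span {(p : O)})
include hpi

lemma residue_p : residue O (p : O) = 0 := by
  rw [residue_eq_zero_iff, hpi]
  exact Ideal.mem_span_singleton_self _

lemma redV_eq_zero_iff (x : κ → O) : redV x = 0 ↔ ∃ w : κ → O, x = (p : O) • w := by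
  constructor
  · intro h
    have : ∀ i, (p : O) ∣ x i := fun i => by
      have := congrFun h i
      rwa [Pi.zero_apply, redV, residue_eq_zero_iff, hpi, Ideal.mem_span_singleton] at this
    choose w hw using this
    exact ⟨w, funext hw⟩
  · rintro ⟨w, rfl⟩
    rw [redV_smul, residue_p hpi, zero_smul]

omit hpi in
/-- The reduction of a submodule. -/
noncomputable def redSub (W : Submodule O (κ → O)) : Submodule kk (κ → kk) where
  carrier := {v | ∃ x ∈ W, redV x = v}
  zero_mem' := ⟨0, W.zero_mem, redV_zero⟩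
  add_mem' := by
    rintro _ _ ⟨x, hx, rfl⟩ ⟨y, hy, rfl⟩
    exact ⟨x + y, W.add_mem hx hy, redV_add x y⟩
  smul_mem' := by
    rintro c _ ⟨x, hx, rfl⟩
    obtain ⟨a, rfl⟩ := residue_surjective c
    exact ⟨a • x, W.smul_mem a hx, redV_smul a x⟩

omit hpi in
lemma mem_redSub {W : Submodule O (κ → O)} {v : κ → kk} :
    v ∈ redSub W ↔ ∃ x ∈ W, redV x = v := Iff.rfl

/-- A submodule is saturated if it is closed under division by `p`. -/
def Saturated (p : ℕ) (W : Submodule O (κ → O)) : Prop := ∀ x, (p : O) • x ∈ W → x ∈ W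

variable [IsPrincipalIdealRing O]

lemma finrank_redSub {W : Submodule O (κ → O)} (hW : Saturated p W) :
    finrank kk (redSub W) = finrank O W := by
  obtain ⟨b⟩ : Nonempty (Basis (Fin (finrank O W)) O W) := ⟨Module.finBasis O W⟩
  have hmem : ∀ i, redV (b i : κ → O) ∈ redSub W := fun i => ⟨_, (b i).2, rfl⟩
  let v : Fin (finrank O W) → redSub W := fun i => ⟨_, hmem i⟩
  have hli : LinearIndependent kk v := by
    rw [Fintype.linearIndependent_iff]
    intro c hc i
    choose a ha using fun j => residue_surjective (c j)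
    have hcomb : redV (∑ j, a j • (b j : κ → O)) = 0 := by
      have := congrArg Subtype.val hc
      simp only [Submodule.coe_sum, Submodule.coe_smul, ZeroMemClass.coe_zero] at this
      rw [redV_sum, ← this]
      exact Finset.sum_congr rfl fun j _ => by rw [redV_smul, ha]
    obtain ⟨w, hw⟩ := (redV_eq_zero_iff hpi _).1 hcomb
    have hwW : w ∈ W := hW w (hw ▸ sum_mem fun j _ => W.smul_mem _ (b j).2)
    have h2 : (∑ j, a j • b j) = (p : O) • (⟨w, hwW⟩ : W) := Subtype.ext (by
      rw [Submodule.coe_sum]; exact hw)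
    have := congrArg (fun z => b.repr z i) h2
    simp only [b.repr_sum_self, map_smul, Finsupp.smul_apply, smul_eq_mul] at this
    rw [← ha, this, map_mul, residue_p hpi, zero_mul]
  have hspan : ⊤ ≤ Submodule.span kk (Set.range v) := by
    rintro ⟨_, x, hx, rfl⟩ -
    have h := b.sum_repr ⟨x, hx⟩
    have h' : (⟨redV x, x, hx, rfl⟩ : redSub W) =
        ∑ j, residue O (b.repr ⟨x, hx⟩ j) • v j := Subtype.ext (by
      simp only [Submodule.coe_sum, Submodule.coe_smul, v]
      conv_lhs => rw [show x = ((⟨x, hx⟩ : W) : κ → O) from rfl, ← h, Submodule.coe_sum, redV_sum]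
      exact Finset.sum_congr rfl fun j _ => by rw [Submodule.coe_smul, redV_smul])
    rw [h']
    exact Submodule.sum_mem _ fun j _ =>
      Submodule.smul_mem _ _ (Submodule.subset_span ⟨j, rfl⟩)
  rw [Module.finrank_eq_card_basis (Basis.mk hli hspan), Fintype.card_fin]

omit hpi [IsPrincipalIdealRing O] in
lemma exists_dual_lift (μ : (κ → kk) →ₗ[kk] kk) :
    ∃ l : (κ → O) →ₗ[O] O, ∀ x, residue O (l x) = μ (redV x) := by
  choose a ha using fun i => residue_surjective (μ (Pi.single i 1))
  refine ⟨∑ i, a i • LinearMap.proj i, fun x => ?_⟩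
  rw [LinearMap.sum_apply, map_sum]
  conv_rhs => rw [← Finset.univ_sum_single (redV x)]
  rw [map_sum]
  refine Finset.sum_congr rfl fun i _ => ?_
  rw [LinearMap.smul_apply, LinearMap.proj_apply, smul_eq_mul, map_mul, ha,
    show Pi.single i (redV x i) = redV x i • (Pi.single i 1 : κ → kk) from by
      rw [← Pi.single_smul, smul_eq_mul, mul_one], map_smul, smul_eq_mul]
  exact mul_comm _ _

variable [CharZero O] [Fact p.Prime]

omit hpi [IsPrincipalIdealRing O] in
lemma p_ne_zero : (p : O) ≠ 0 := Nat.cast_ne_zero.2 (Fact.out : p.Prime).ne_zero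

omit hpi [IsPrincipalIdealRing O] in
lemma smul_p_cancel {x y : κ → O} (h : (p : O) • x = (p : O) • y) : x = y :=
  smul_right_injective _ (p_ne_zero) h

omit [IsPrincipalIdealRing O] in
lemma exists_div_dual {l : (κ → O) →ₗ[O] O} (h : ∀ x, residue O (l x) = 0) :
    ∃ b : (κ → O) →ₗ[O] O, ∀ x, l x = (p : O) * b x := by
  have : ∀ i, ∃ a, l (Pi.single i 1) = (p : O) * a := fun i => by
    have := h (Pi.single i 1)
    rwa [residue_eq_zero_iff, hpi, Ideal.mem_span_singleton] at this
  choose a ha using this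
  refine ⟨∑ i, a i • LinearMap.proj i, fun x => ?_⟩
  rw [LinearMap.sum_apply, Finset.mul_sum]
  conv_lhs => rw [← Finset.univ_sum_single x]
  rw [map_sum]
  refine Finset.sum_congr rfl fun i _ => ?_
  rw [LinearMap.smul_apply, LinearMap.proj_apply, smul_eq_mul,
    show Pi.single i (x i) = x i • (Pi.single i 1 : κ → O) from by
      rw [← Pi.single_smul, smul_eq_mul, mul_one], map_smul, smul_eq_mul, ha]
  ring

omit hpi in
/-- The cyclotomic identity `p = (X - 1) ^ (p - 1) * U` modulo the cyclotomic polynomial. -/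
lemma exists_cyclo_unit : ∃ U V : ℤ[X],
    (p : ℤ[X]) = (X - 1) ^ (p - 1) * U + V * ∑ i ∈ Finset.range p, X ^ i := by
  haveI : NeZero p := ⟨(Fact.out : p.Prime).ne_zero⟩
  have hp := (Fact.out : p.Prime)
  set ζ := Complex.exp (2 * Real.pi * Complex.I / p)
  have hζ : IsPrimitiveRoot ζ p := Complex.isPrimitiveRoot_exp p hp.ne_zero
  obtain ⟨q, hq⟩ : ∃ q, p = q + 1 := ⟨p - 1, (Nat.sub_add_cancel hp.one_le).symm⟩
  have hprod : (p : ℂ) = ∏ k ∈ Finset.range q, (1 - ζ ^ (k + 1)) := by
    have := (hq ▸ hζ : IsPrimitiveRoot ζ (q + 1)).prod_one_sub_pow_eq_order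
    rw [hq, this]
    push_cast
    ring
  set U : ℤ[X] := ∏ k ∈ Finset.range q, -(∑ j ∈ Finset.range (k + 1), X ^ j)
  have hU : aeval ζ ((p : ℤ[X]) - (X - 1) ^ (p - 1) * U) = 0 := by
    rw [map_sub, map_natCast, map_mul, map_pow, map_sub, aeval_X, map_one, map_prod, hprod,
      show p - 1 = q by omega, sub_eq_zero,
      show (ζ - 1) ^ q = ∏ _k ∈ Finset.range q, (ζ - 1) by simp, ← Finset.prod_mul_distrib]
    refine Finset.prod_congr rfl fun k _ => ?_
    simp only [map_neg, map_sum, map_pow, aeval_X]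
    rw [mul_neg, mul_geom_sum, neg_sub]
  have hdvd : cyclotomic p ℤ ∣ (p : ℤ[X]) - (X - 1) ^ (p - 1) * U := by
    rw [cyclotomic_eq_minpoly hζ hp.pos]
    exact minpoly.isIntegrallyClosed_dvd (hζ.isIntegral hp.pos) hU
  obtain ⟨V, hV⟩ := hdvd
  refine ⟨U, V, ?_⟩
  rw [← cyclotomic_prime ℤ p, mul_comm V, ← hV]
  ring

omit hpi [IsPrincipalIdealRing O] [CharZero O] [Fact p.Prime] in
lemma commute_aeval {A : Type*} [Ring A] {E Y : A} (h : Commute E Y) (P : ℤ[X]) :
    Commute E (aeval Y P) := by
  induction P using Polynomial.induction_on' with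
  | add a b ha hb => rw [map_add]; exact ha.add_right hb
  | monomial n a =>
    rw [aeval_monomial, eq_intCast]
    exact (Int.cast_commute a E).symm.mul_right (h.pow_right n)

/-! ### A lattice with an idempotent and an operator of order `p` -/

section Data

variable (E Y : Module.End O (κ → O))

omit hpi
/-- The norm operator on the image of `E`. -/
noncomputable def nOp (p : ℕ) : Module.End O (κ → O) := E * ∑ i ∈ Finset.range p, Y ^ i

/-- `y - 1` on the image of `E`. -/
noncomputable def dOp : Module.End O (κ → O) := E * (Y - 1)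

/-- The fixed lattice. -/
noncomputable def fixL : Submodule O (κ → O) := LinearMap.ker (E - 1) ⊓ LinearMap.ker (Y - 1)

/-- The lattice killed by the norm. -/
noncomputable def nullL (p : ℕ) : Submodule O (κ → O) :=
  LinearMap.ker (E - 1) ⊓ LinearMap.ker (∑ i ∈ Finset.range p, Y ^ i)

lemma mem_fixL {x : κ → O} : x ∈ fixL E Y ↔ E x = x ∧ Y x = x := by
  simp [fixL, sub_eq_zero]

lemma mem_nullL {x : κ → O} :
    x ∈ nullL E Y p ↔ E x = x ∧ (∑ i ∈ Finset.range p, Y ^ i) x = 0 := by
  simp [nullL, sub_eq_zero]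

lemma saturated_fixL : Saturated p (fixL E Y) := fun x hx => by
  obtain ⟨h1, h2⟩ := (mem_fixL E Y).1 hx
  rw [map_smul] at h1 h2
  exact (mem_fixL E Y).2 ⟨smul_p_cancel h1, smul_p_cancel h2⟩

lemma saturated_nullL : Saturated p (nullL E Y p) := fun x hx => by
  obtain ⟨h1, h2⟩ := (mem_nullL E Y).1 hx
  rw [map_smul] at h1 h2
  exact (mem_nullL E Y).2 ⟨smul_p_cancel h1, smul_p_cancel (h2.trans (smul_zero _).symm)⟩

variable {E Y} (hE : E * E = E) (hY : Y ^ p = 1) (hEY : Commute E Y)

include hY in
lemma sum_pow_succ {A : Type*} [AddCommGroup A] (f : ℕ → A) (hf : f p = f 0) :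
    ∑ i ∈ Finset.range p, f (i + 1) = ∑ i ∈ Finset.range p, f i := by
  have h1 := Finset.sum_range_succ f p
  rw [Finset.sum_range_succ', hf] at h1
  exact add_right_cancel h1

include hY in
lemma mul_sum_pow : Y * ∑ i ∈ Finset.range p, Y ^ i = ∑ i ∈ Finset.range p, Y ^ i := by
  simp only [Finset.mul_sum, ← pow_succ']
  exact sum_pow_succ hY (fun i => Y ^ i) (by simp [hY])

lemma pow_fix {x : κ → O} (hx : Y x = x) (i : ℕ) : (Y ^ i) x = x := by
  induction i with
  | zero => simp
  | succ i ih => rw [pow_succ, Module.End.mul_apply, hx, ih]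

include hE hY hEY in
lemma nOp_mem_fixL (x : κ → O) : nOp E Y p x ∈ fixL E Y := by
  refine (mem_fixL E Y).2 ⟨?_, ?_⟩
  · rw [nOp, ← Module.End.mul_apply, ← mul_assoc, hE]
  · rw [nOp, ← Module.End.mul_apply, ← mul_assoc, ← hEY.eq, mul_assoc, mul_sum_pow hY]

lemma nOp_fixL {x : κ → O} (hx : x ∈ fixL E Y) : nOp E Y p x = (p : O) • x := by
  obtain ⟨h1, h2⟩ := (mem_fixL E Y).1 hx
  rw [nOp, Module.End.mul_apply, LinearMap.sum_apply,
    Finset.sum_congr rfl fun i _ => pow_fix h2 i, Finset.sum_const, Finset.card_range,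
    ← Nat.cast_smul_eq_nsmul O, map_smul, h1]

lemma nOp_nullL {x : κ → O} (hx : x ∈ nullL E Y p) : nOp E Y p x = 0 := by
  rw [nOp, Module.End.mul_apply, ((mem_nullL E Y).1 hx).2, map_zero]

include hEY in
lemma commute_nOp : Commute E (nOp E Y p) :=
  (Commute.refl E).mul_right (Commute.sum_right _ _ _ fun i _ => hEY.pow_right i)

include hE hY hEY in
/-- Rank bookkeeping: traces against the two lattices. -/
lemma rank_identity (τ : O) (hτ : ∀ i, 0 < i → i < p → LinearMap.trace O _ (E * Y ^ i) = τ) :
    (p : O) * (finrank O (fixL E Y) : O) =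
      (finrank O (fixL E Y) : O) + (finrank O (nullL E Y p) : O) + ((p - 1 : ℕ) : O) * τ := by
  -- trace of the norm
  have hN : LinearMap.trace O _ (nOp E Y p) = (p : O) * (finrank O (fixL E Y) : O) := by
    let g : (κ → O) →ₗ[O] fixL E Y :=
      LinearMap.codRestrict _ (nOp E Y p) (nOp_mem_fixL hE hY hEY)
    have : nOp E Y p = (fixL E Y).subtype ∘ₗ g := LinearMap.ext fun _ => rfl
    rw [this, LinearMap.trace_comp_comm']
    have : g ∘ₗ (fixL E Y).subtype = (p : O) • (LinearMap.id : fixL E Y →ₗ[O] fixL E Y) :=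
      LinearMap.ext fun x => Subtype.ext (nOp_fixL x.2)
    rw [this, map_smul, LinearMap.trace_id, smul_eq_mul]
  -- trace of `E`
  set W := LinearMap.ker (E - 1)
  have hEW : ∀ x, E x ∈ W := fun x => by
    rw [LinearMap.mem_ker, LinearMap.sub_apply, Module.End.one_apply, ← Module.End.mul_apply, hE,
      sub_self]
  have hTE : LinearMap.trace O _ E = (finrank O W : O) := by
    let g : (κ → O) →ₗ[O] W := LinearMap.codRestrict _ E hEW
    have : E = W.subtype ∘ₗ g := LinearMap.ext fun _ => rfl
    conv_lhs => rw [this]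
    rw [LinearMap.trace_comp_comm']
    have : g ∘ₗ W.subtype = LinearMap.id := LinearMap.ext fun x => Subtype.ext (by
      have := x.2
      rw [LinearMap.mem_ker, LinearMap.sub_apply, sub_eq_zero] at this
      exact this)
    rw [this, LinearMap.trace_id]
  have hW : finrank O W = finrank O (fixL E Y) + finrank O (nullL E Y p) := by
    let g : W →ₗ[O] fixL E Y :=
      LinearMap.codRestrict _ ((nOp E Y p).comp W.subtype) fun x => nOp_mem_fixL hE hY hEY x
    have h1 := Submodule.finrank_quotient_add_finrank (LinearMap.ker g)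
    rw [(LinearMap.quotKerEquivRange g).finrank_eq] at h1
    have hker : finrank O (LinearMap.ker g) = finrank O (nullL E Y p) := by
      refine LinearEquiv.finrank_eq
        { toFun := fun x => ⟨x.1.1, (mem_nullL E Y).2 ?_⟩
          invFun := fun x => ⟨⟨x.1, ?_⟩, ?_⟩
          map_add' := fun _ _ => rfl
          map_smul' := fun _ _ => rfl
          left_inv := fun _ => rfl
          right_inv := fun _ => rfl }
      · have hxW : E x.1.1 = x.1.1 := by
          have := x.1.2
          rwa [LinearMap.mem_ker, LinearMap.sub_apply, sub_eq_zero] at this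
        refine ⟨hxW, ?_⟩
        have hx : nOp E Y p x.1.1 = 0 := congrArg Subtype.val (LinearMap.mem_ker.1 x.2)
        have hc : Commute E (∑ i ∈ Finset.range p, Y ^ i) :=
          Commute.sum_right _ _ _ fun i _ => hEY.pow_right i
        rw [nOp, hc.eq, Module.End.mul_apply, hxW] at hx
        exact hx
      · exact (Submodule.mem_inf.1 x.2).1
      · exact LinearMap.mem_ker.2 (Subtype.ext (nOp_nullL x.2))
    have hrange : finrank O (LinearMap.range g) = finrank O (fixL E Y) := by
      refine le_antisymm (Submodule.finrank_le _) ?_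
      let m : fixL E Y →ₗ[O] LinearMap.range g :=
        LinearMap.codRestrict _ ((p : O) • LinearMap.id) fun x =>
          ⟨⟨x.1, (Submodule.mem_inf.1 x.2).1⟩, Subtype.ext (by show nOp E Y p x.1 = (p : O) • x.1; exact nOp_fixL x.2)⟩
      refine LinearMap.finrank_le_finrank_of_injective (f := m) fun a b hab => ?_
      exact Subtype.ext (smul_p_cancel (congrArg (fun z : LinearMap.range g => (z.1.1 : κ → O)) hab))
    omega
  have hsum : LinearMap.trace O _ (nOp E Y p) =
      LinearMap.trace O _ E + ((p - 1 : ℕ) : O) * τ := by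
    obtain ⟨q, rfl⟩ : ∃ q, p = q + 1 :=
      ⟨p - 1, (Nat.sub_add_cancel (Fact.out : p.Prime).one_le).symm⟩
    rw [nOp, Finset.mul_sum, Finset.sum_range_succ', map_add, map_sum, pow_zero, mul_one,
      Finset.sum_congr rfl fun i hi => hτ (i + 1) (Nat.succ_pos i)
        (by rw [Finset.mem_range] at hi; omega),
      Finset.sum_const, Finset.card_range, nsmul_eq_mul, Nat.add_sub_cancel, add_comm]
  rw [← hN, hsum, hTE, hW, Nat.cast_add]

include hY hEY in
lemma redE_nOp_eq (hpi : maximalIdeal O = Ideal.span {(p : O)}) :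
    redE (nOp E Y p) = redE E * (redE Y - 1) ^ (p - 1) := by
  haveI : CharP kk p := ((CharP.charP_iff_prime_eq_zero (Fact.out : p.Prime)).2
    (by rw [← map_natCast (residue O)]; exact residue_p hpi))
  have hp := (Fact.out : p.Prime)
  have hpoly : ((X : kk[X]) - 1) ^ (p - 1) = ∑ i ∈ Finset.range p, X ^ i := by
    apply mul_left_cancel₀ (X_sub_C_ne_zero (1 : kk))
    rw [map_one, ← pow_succ', Nat.sub_add_cancel hp.one_lt.le, sub_pow_char, one_pow, mul_geom_sum]
  have hN := congrArg (aeval (redE Y)) hpoly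
  simp only [map_pow, map_sub, aeval_X, map_one, map_sum] at hN
  rw [nOp, map_mul, hN, map_sum]
  simp only [map_pow]

include hE hY hEY in
lemma ker_nOp_eq (hpi : maximalIdeal O = Ideal.span {(p : O)}) :
    LinearMap.ker (redE (nOp E Y p)) =
      redSub (nullL E Y p) ⊔ LinearMap.ker (redE (dOp E Y)) := by
  refine le_antisymm (fun v hv => ?_) (sup_le ?_ ?_)
  · obtain ⟨x, rfl⟩ := redV_surjective v
    rw [LinearMap.mem_ker, redE_redV] at hv
    obtain ⟨w, hw⟩ := (redV_eq_zero_iff hpi _).1 hv
    have hwF : w ∈ fixL E Y :=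
      saturated_fixL E Y w (hw ▸ nOp_mem_fixL hE hY hEY x)
    have hEE : E (E x) = E x := by rw [← Module.End.mul_apply, hE]
    have hz : E x - w ∈ nullL E Y p := by
      refine (mem_nullL E Y).2 ⟨by rw [map_sub, ((mem_fixL E Y).1 hwF).1, hEE], ?_⟩
      have hc : Commute E (∑ i ∈ Finset.range p, Y ^ i) :=
        Commute.sum_right _ _ _ fun i _ => hEY.pow_right i
      have h1 : (∑ i ∈ Finset.range p, Y ^ i) (E x) = (p : O) • w := by
        rw [← hw, nOp, hc.eq, Module.End.mul_apply]
      rw [map_sub, h1, LinearMap.sum_apply,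
        Finset.sum_congr rfl fun i _ => pow_fix ((mem_fixL E Y).1 hwF).2 i, Finset.sum_const,
        Finset.card_range, ← Nat.cast_smul_eq_nsmul O, sub_self]
    refine Submodule.mem_sup.2 ⟨_, ⟨_, hz, rfl⟩, redV x - redV (E x - w), ?_, add_sub_cancel _ _⟩
    rw [← redV_sub, LinearMap.mem_ker, redE_redV, show dOp E Y (x - (E x - w)) = 0 from ?_,
      redV_zero]
    have hc : Commute E (Y - 1) := hEY.sub_right (Commute.one_right E)
    have hwd : dOp E Y w = 0 := by
      rw [dOp, Module.End.mul_apply, LinearMap.sub_apply, ((mem_fixL E Y).1 hwF).2,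
        Module.End.one_apply, sub_self, map_zero]
    have hEd : dOp E Y (E x) = dOp E Y x := by
      rw [dOp, ← Module.End.mul_apply, mul_assoc, ← hc.eq, ← mul_assoc, hE]
    rw [map_sub, map_sub, hEd, hwd, sub_zero, sub_self]
  · rintro _ ⟨x, hx, rfl⟩
    rw [LinearMap.mem_ker, redE_redV, nOp_nullL hx, redV_zero]
  · obtain ⟨q, hq⟩ : ∃ q, p - 1 = q + 1 :=
      ⟨p - 2, by have := (Fact.out : p.Prime).two_le; omega⟩
    intro v hv
    rw [LinearMap.mem_ker, dOp, map_mul, map_sub, map_one] at hv
    have hc : Commute (redE E) ((redE Y - 1) ^ q) :=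
      (((hEY.map redE).sub_right (Commute.one_right (redE E))).pow_right q)
    rw [LinearMap.mem_ker, redE_nOp_eq hY hEY hpi, hq, pow_succ, ← mul_assoc, hc.eq, mul_assoc,
      Module.End.mul_apply, hv, map_zero]

include hE hY hEY in
lemma dOp_mem_nullL (x : κ → O) : dOp E Y x ∈ nullL E Y p := by
  refine (mem_nullL E Y).2 ⟨by rw [dOp, ← Module.End.mul_apply, ← mul_assoc, hE], ?_⟩
  have hc : Commute E (∑ i ∈ Finset.range p, Y ^ i) :=
    Commute.sum_right _ _ _ fun i _ => hEY.pow_right i
  rw [dOp, ← Module.End.mul_apply, ← mul_assoc, ← hc.eq, mul_assoc, geom_sum_mul, hY, sub_self,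
    mul_zero, LinearMap.zero_apply]

set_option maxHeartbeats 1000000 in
include hE hY hEY in
/-- The difference of the dimensions of the two cohomology spaces is the trace. -/
theorem dim_sub (hpi : maximalIdeal O = Ideal.span {(p : O)}) (τ : O)
    (hτ : ∀ i, 0 < i → i < p → LinearMap.trace O _ (E * Y ^ i) = τ) :
    τ = (((finrank kk (redSub (fixL E Y)) : ℤ) -
        finrank kk (LinearMap.range (redE (nOp E Y p))) -
        ((finrank kk (redSub (nullL E Y p)) : ℤ) -
          finrank kk (LinearMap.range (redE (dOp E Y)))) : ℤ) : O) := by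
  have hp := (Fact.out : p.Prime)
  set N' := redE (nOp E Y p)
  set D' := redE (dOp E Y)
  set Zb := redSub (nullL E Y p)
  -- restriction of `D'` to `Zb`
  have hmaps : ∀ v ∈ Zb, D' v ∈ Zb := by
    rintro _ ⟨x, hx, rfl⟩
    exact ⟨_, dOp_mem_nullL hE hY hEY x, (redE_redV _ x).symm⟩
  let T : Module.End kk Zb := D'.restrict hmaps
  have hTpow : ∀ (j : ℕ) (x : κ → O) (hx : x ∈ nullL E Y p),
      ((T ^ j) ⟨redV x, x, hx, rfl⟩ : κ → kk) = redV (((Y - 1) ^ j) x) ∧
        ((Y - 1) ^ j) x ∈ nullL E Y p := by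
    intro j
    induction j with
    | zero => intro x hx; simp [hx]
    | succ j ih =>
      intro x hx
      obtain ⟨h1, h2⟩ := ih x hx
      have hd : dOp E Y (((Y - 1) ^ j) x) = ((Y - 1) ^ (j + 1)) x := by
        have hc : Commute E (Y - 1) := hEY.sub_right (Commute.one_right E)
        rw [dOp, hc.eq, Module.End.mul_apply, ((mem_nullL E Y).1 h2).1, pow_succ']
        rfl
      refine ⟨?_, hd ▸ dOp_mem_nullL hE hY hEY _⟩
      rw [pow_succ' T, Module.End.mul_apply]
      show D' ((T ^ j) ⟨redV x, x, hx, rfl⟩ : κ → kk) = _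
      rw [h1, redE_redV, hd]
  obtain ⟨U, V, hUV⟩ := exists_cyclo_unit (p := p)
  have hUVY := congrArg (aeval Y) hUV
  simp only [map_natCast, map_add, map_mul, map_pow, map_sub, map_one, aeval_X, map_sum] at hUVY
  have hpz : ∀ z ∈ nullL E Y p,
      (p : O) • z = ((Y - 1) ^ (p - 1)) (aeval Y U z) ∧ aeval Y U z ∈ nullL E Y p := by
    intro z hz
    obtain ⟨h1, h2⟩ := (mem_nullL E Y).1 hz
    refine ⟨?_, (mem_nullL E Y).2 ⟨?_, ?_⟩⟩
    · have h3 : ((p : Module.End O (κ → O))) z = (p : O) • z := by
        rw [Nat.cast_smul_eq_nsmul]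
        exact Module.End.natCast_apply p z
      rw [← h3, hUVY, LinearMap.add_apply, Module.End.mul_apply, Module.End.mul_apply, h2,
        map_zero, add_zero]
    · have hc : Commute E (aeval Y U) := commute_aeval hEY U
      rw [← Module.End.mul_apply, hc.eq, Module.End.mul_apply, h1]
    · have hc : Commute (∑ i ∈ Finset.range p, Y ^ i) (aeval Y U) := by
        have : (∑ i ∈ Finset.range p, Y ^ i) = aeval Y (∑ i ∈ Finset.range p, (X : ℤ[X]) ^ i) := by
          simp
        rw [this]
        exact (Commute.all _ _).map (aeval Y)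
      rw [← Module.End.mul_apply, hc.eq, Module.End.mul_apply, h2, map_zero]
  have hTzero : T ^ (p - 1) = 0 := by
    refine LinearMap.ext ?_
    rintro ⟨_, x, hx, rfl⟩
    refine Subtype.ext ?_
    rw [(hTpow (p - 1) x hx).1]
    show _ = (0 : κ → kk)
    have hc : Commute (redE E) ((redE Y - 1) ^ (p - 1)) :=
      (((hEY.map redE).sub_right (Commute.one_right (redE E))).pow_right _)
    have hN0 : N' (redV x) = 0 := by rw [redE_redV, nOp_nullL hx, redV_zero]
    rw [show N' = redE E * (redE Y - 1) ^ (p - 1) from redE_nOp_eq hY hEY hpi, hc.eq,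
      Module.End.mul_apply, redE_redV, ((mem_nullL E Y).1 hx).1] at hN0
    rw [← hN0, ← redE_redV]
    simp [map_pow, map_sub, map_one]
  have hT : LinearMap.ker T ≤ LinearMap.range (T ^ (p - 2)) := by
    rintro ⟨_, x, hx, rfl⟩ hv
    rw [LinearMap.mem_ker] at hv
    have h1 : redV ((Y - 1) x) = 0 := by
      have := (hTpow 1 x hx).1
      rw [pow_one, pow_one, hv] at this
      exact this.symm
    obtain ⟨w, hw⟩ := (redV_eq_zero_iff hpi _).1 h1
    have hwZ : w ∈ nullL E Y p := saturated_nullL E Y w (hw ▸ by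
      simpa using (hTpow 1 x hx).2)
    obtain ⟨hu, huZ⟩ := hpz w hwZ
    set u := aeval Y U w
    obtain ⟨-, hvZ⟩ := hTpow (p - 2) u huZ
    have hd : (Y - 1) (x - ((Y - 1) ^ (p - 2)) u) = 0 := by
      rw [map_sub, hw, hu, show p - 1 = p - 2 + 1 by have := hp.two_le; omega, pow_succ',
        Module.End.mul_apply, sub_self]
    have hdF : x - ((Y - 1) ^ (p - 2)) u ∈ fixL E Y := (mem_fixL E Y).2
      ⟨((mem_nullL E Y).1 ((nullL E Y p).sub_mem hx hvZ)).1, by
        rwa [LinearMap.sub_apply, Module.End.one_apply, sub_eq_zero] at hd⟩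
    have h0 := nOp_fixL (p := p) hdF
    rw [nOp_nullL ((nullL E Y p).sub_mem hx hvZ)] at h0
    have hx' : x = ((Y - 1) ^ (p - 2)) u :=
      sub_eq_zero.1 (smul_p_cancel ((smul_zero _).trans h0)).symm
    exact ⟨⟨redV u, u, huZ, rfl⟩, Subtype.ext (by
      rw [(hTpow (p - 2) u huZ).1, ← hx'])⟩
  set d := finrank kk (LinearMap.ker T) with hd
  have hker : ∀ m, m ≤ p - 1 → finrank kk (LinearMap.ker (T ^ m)) = m * d := by
    intro m
    induction m with
    | zero =>
      intro _
      rw [pow_zero, zero_mul]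
      have : LinearMap.ker (1 : Module.End kk Zb) = ⊥ := LinearMap.ker_id
      rw [this, finrank_bot]
    | succ m ih =>
      intro hm
      rw [finrank_ker_pow_add (hT.trans ?_), ih (by omega), Nat.succ_mul]
      rintro _ ⟨y, rfl⟩
      refine ⟨(T ^ (p - 2 - m)) y, ?_⟩
      rw [← Module.End.mul_apply, ← pow_add, show m + (p - 2 - m) = p - 2 by omega]
  have hZd : finrank kk Zb = (p - 1) * d := by
    rw [← hker (p - 1) le_rfl, hTzero, LinearMap.ker_zero, finrank_top]
  -- the rank of `D'`
  have hmapZ : finrank kk (Zb.map D') + d = finrank kk Zb := by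
    rw [← LinearMap.finrank_range_add_finrank_ker T]
    congr 1
    have : Zb.map D' = (LinearMap.range T).map Zb.subtype := by
      rw [← LinearMap.range_comp, show Zb.subtype ∘ₗ T = D'.domRestrict Zb from rfl,
        LinearMap.range_domRestrict]
    rw [this]
    exact (Submodule.equivMapOfInjective _ Zb.injective_subtype _).finrank_eq.symm
  have hDN : finrank kk (LinearMap.range D') =
      finrank kk (LinearMap.range N') + finrank kk (Zb.map D') := by
    have h1 := LinearMap.finrank_range_add_finrank_ker N'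
    have h2 := LinearMap.finrank_range_add_finrank_ker D'
    have h3 : finrank kk (LinearMap.ker N') =
        finrank kk (Zb.map D') + finrank kk (LinearMap.ker D') := by
      rw [ker_nOp_eq hE hY hEY hpi]
      have e := LinearMap.finrank_range_add_finrank_ker (D'.domRestrict (Zb ⊔ LinearMap.ker D'))
      rw [LinearMap.range_domRestrict, Submodule.map_sup,
        (le_bot_iff.1 (Submodule.map_le_iff_le_comap.2 le_rfl) :
          (LinearMap.ker D').map D' = ⊥), sup_bot_eq] at e
      rw [← e]
      congr 1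
      refine (LinearEquiv.finrank_eq ?_)
      rw [LinearMap.ker_domRestrict]
      exact Submodule.comapSubtypeEquivOfLe le_sup_right
    omega
  have hF := finrank_redSub hpi (saturated_fixL (p := p) E Y)
  have hZ := finrank_redSub hpi (saturated_nullL (p := p) E Y)
  have key := rank_identity hE hY hEY τ hτ
  set r0 := finrank O (fixL E Y)
  rw [hF, hDN]
  rw [← hZ, hZd] at key
  have hd2 : ((finrank kk Zb : ℤ) - ↑(finrank kk (LinearMap.range N') +
      finrank kk (Zb.map D'))) = (d : ℤ) - finrank kk (LinearMap.range N') := by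
    push_cast [← hmapZ]
    ring
  rw [hd2, show (r0 : ℤ) - finrank kk (LinearMap.range N') -
    ((d : ℤ) - finrank kk (LinearMap.range N')) = (r0 : ℤ) - d by ring]
  obtain ⟨q, hq⟩ : ∃ q, p = q + 1 := ⟨p - 1, (Nat.sub_add_cancel hp.one_le).symm⟩
  have hq0 : (q : O) ≠ 0 := Nat.cast_ne_zero.2 (by have := hp.two_le; omega)
  rw [show p - 1 = q by omega] at key
  rw [hq] at key
  push_cast at key ⊢
  exact mul_left_cancel₀ hq0 (by linear_combination -key)

end Data

end Cfsg.Lib.Blocks.Herbrand
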