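import Mathlib
import Cfsg.Agent.Blocks.HerbrandBound

/-!
# Lifting operators from the cohomology spaces, transfer, and the dimension bound

An operator on either cohomology space commuting with the normalizer lifts to an operator on the
lattice commuting with the whole group. When those have few residual eigenvalues, the cohomology
spaces are small.
-/

set_option autoImplicit false
set_option linter.unusedSectionVars false

namespace Cfsg.Lib.Blocks.Herbrand

open Polynomial Module IsLocalRing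

universe uo uk ug

variable {O : Type uo} [CommRing O] [IsDomain O] [IsLocalRing O] [IsPrincipalIdealRing O]
  [CharZero O] {κ : Type uk} [Fintype κ] [DecidableEq κ] {p : ℕ} [Fact p.Prime]

local notation "kk" => IsLocalRing.ResidueField O

/-! ### Lifting against the fixed lattice -/

section Lift

variable {E Y : Module.End O (κ → O)} (hE : E * E = E) (hY : Y ^ p = 1) (hEY : Commute E Y)
  (hpi : maximalIdeal O = Ideal.span {(p : O)})

include hE hY hEY hpi

theorem exists_lift_fix (g : Module.End kk (κ → kk))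
    (hg : ∀ v, g v ∈ redSub (fixL E Y)) (hgN : ∀ x, g (redV (nOp E Y p x)) = 0) :
    ∃ φ : Module.End O (κ → O), Commute φ Y ∧ (∀ x, E (φ x) = φ x) ∧ (∀ x, φ (E x) = φ x) ∧
      ∀ z ∈ fixL E Y, redV (φ z) = g (redV z) := by
  classical
  have hc : ∀ i, ∃ c ∈ fixL E Y, redV c = g (Pi.single i 1) := fun i => hg _
  let b := Module.finBasis kk (redSub (fixL E Y))
  choose c hcF hcb using fun j => (b j).2
  let μ : Fin (finrank kk (redSub (fixL E Y))) → (κ → kk) →ₗ[kk] kk :=
    fun j => (b.coord j) ∘ₗ g.codRestrict _ hg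
  choose l hl using fun j => exists_dual_lift (μ j)
  have hN0 : ∀ j x, residue O ((l j ∘ₗ nOp E Y p) x) = 0 := fun j x => by
    rw [LinearMap.comp_apply, hl]
    show b.coord j (g.codRestrict _ hg _) = 0
    rw [show g.codRestrict _ hg (redV (nOp E Y p x)) = 0 from Subtype.ext (hgN x), map_zero]
  choose β hβ using fun j => exists_div_dual hpi (hN0 j)
  have hinv : ∀ j (A : Module.End O (κ → O)), nOp E Y p * A = nOp E Y p →
      ∀ x, β j (A x) = β j x := fun j A hA x => by
    refine mul_left_cancel₀ (p_ne_zero (O := O) (p := p)) ?_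
    rw [← hβ, ← hβ, LinearMap.comp_apply, LinearMap.comp_apply, ← Module.End.mul_apply, hA]
  refine ⟨∑ j, (β j).smulRight (c j), ?_, ?_, ?_, ?_⟩
  · refine LinearMap.ext fun x => ?_
    simp only [Module.End.mul_apply, LinearMap.sum_apply, LinearMap.smulRight_apply, map_sum,
      map_smul]
    refine Finset.sum_congr rfl fun j _ => ?_
    rw [((mem_fixL E Y).1 (hcF j)).2, hinv j Y ?_]
    rw [nOp, mul_assoc]
    congr 1
    simp only [Finset.sum_mul, ← pow_succ]
    exact sum_pow_succ hY (fun i => Y ^ i) (by simp [hY])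
  · intro x
    simp only [LinearMap.sum_apply, LinearMap.smulRight_apply, map_sum, map_smul]
    exact Finset.sum_congr rfl fun j _ => by rw [((mem_fixL E Y).1 (hcF j)).1]
  · intro x
    simp only [LinearMap.sum_apply, LinearMap.smulRight_apply]
    refine Finset.sum_congr rfl fun j _ => ?_
    rw [hinv j E ?_]
    rw [← (commute_nOp hEY).eq, nOp, ← mul_assoc, hE]
  · intro z hz
    have h1 : ∀ j, β j z = l j z := fun j => by
      refine mul_left_cancel₀ (p_ne_zero (O := O) (p := p)) ?_
      rw [← hβ, LinearMap.comp_apply, nOp_fixL hz, map_smul, smul_eq_mul]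
    simp only [LinearMap.sum_apply, LinearMap.smulRight_apply, redV_sum, redV_smul, h1, hl, hcb]
    have := congrArg Subtype.val (b.sum_repr (g.codRestrict _ hg (redV z)))
    rw [Submodule.coe_sum] at this
    exact this

/-! ### Lifting against the null lattice -/

theorem exists_lift_null (g : Module.End kk (κ → kk))
    (hg : ∀ v, g v ∈ redSub (nullL E Y p)) (hgD : ∀ x, g (redV (dOp E Y x)) = 0) :
    ∃ φ : Module.End O (κ → O), Commute φ Y ∧ (∀ x, E (φ x) = φ x) ∧ (∀ x, φ (E x) = φ x) ∧
      ∀ z ∈ nullL E Y p, ∃ u, redV (φ z) - g (redV z) = redV (dOp E Y u) := by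
  classical
  let b := Module.finBasis kk (redSub (nullL E Y p))
  choose c hcZ hcb using fun j => (b j).2
  let μ : Fin (finrank kk (redSub (nullL E Y p))) → (κ → kk) →ₗ[kk] kk :=
    fun j => (b.coord j) ∘ₗ g.codRestrict _ hg
  choose l hl using fun j => exists_dual_lift (-μ j)
  let a : Fin (finrank kk (redSub (nullL E Y p))) → ℕ → (κ → O) →ₗ[O] O :=
    fun j i => l j ∘ₗ (E * Y ^ ((p - 1) * i))
  have hdiff : ∀ j i x, residue O ((a j i - a j 0) x) = 0 := by
    intro j i x
    rw [LinearMap.sub_apply]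
    show residue O (l j ((E * Y ^ ((p - 1) * i)) x) - l j ((E * Y ^ ((p - 1) * 0)) x)) = 0
    rw [← map_sub, hl, ← LinearMap.sub_apply, ← mul_sub, mul_zero, pow_zero, ← mul_geom_sum,
      ← mul_assoc, Module.End.mul_apply, LinearMap.neg_apply, neg_eq_zero]
    show b.coord j (g.codRestrict _ hg _) = 0
    rw [show g.codRestrict _ hg (redV ((E * (Y - 1)) _)) = 0 from Subtype.ext (hgD _), map_zero]
  choose β hβ using fun j i => exists_div_dual hpi (hdiff j i)
  set φ : Module.End O (κ → O) :=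
    ∑ j, ∑ i ∈ Finset.range p, (β j i).smulRight ((Y ^ i) (c j)) with hφ
  have hpφ : ∀ x, (p : O) • φ x = ∑ j, ∑ i ∈ Finset.range p, a j i x • (Y ^ i) (c j) := by
    intro x
    simp only [hφ, LinearMap.sum_apply, LinearMap.smulRight_apply, Finset.smul_sum, smul_smul,
      ← hβ, LinearMap.sub_apply, sub_smul, Finset.sum_sub_distrib, sub_eq_self]
    refine Finset.sum_eq_zero fun j _ => ?_
    rw [← Finset.smul_sum, ← LinearMap.sum_apply, ((mem_nullL E Y).1 (hcZ j)).2, smul_zero]
  refine ⟨φ, ?_, ?_, ?_, ?_⟩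
  · refine LinearMap.ext fun x => smul_p_cancel (p := p) ?_
    simp only [Module.End.mul_apply, hpφ]
    rw [← map_smul, hpφ, map_sum]
    refine Finset.sum_congr rfl fun j _ => ?_
    rw [map_sum]
    have hper : ∀ i, a j i (Y x) • (Y ^ i) (c j) =
        (fun i => (l j ((E * Y ^ ((p - 1) * i + 1)) x)) • (Y ^ i) (c j)) i := fun i => by
      show l j ((E * Y ^ ((p - 1) * i)) (Y x)) • _ = _
      rw [← Module.End.mul_apply, mul_assoc, ← pow_succ]
    rw [Finset.sum_congr rfl fun i _ => hper i, ← sum_pow_succ hY]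
    · refine Finset.sum_congr rfl fun i _ => ?_
      rw [map_smul, ← Module.End.mul_apply Y, ← pow_succ']
      show l j ((E * Y ^ ((p - 1) * (i + 1) + 1)) x) • _ = _
      rw [show (p - 1) * (i + 1) + 1 = (p - 1) * i + p from by
        have := (Fact.out : p.Prime).one_le
        rw [mul_add, mul_one, add_assoc, Nat.sub_add_cancel this], pow_add, hY, mul_one]
      rfl
    · simp [pow_add, hY, mul_comm (p - 1) p, pow_mul]
  · intro x
    simp only [hφ, LinearMap.sum_apply, LinearMap.smulRight_apply, map_sum, map_smul]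
    refine Finset.sum_congr rfl fun j _ => Finset.sum_congr rfl fun i _ => ?_
    rw [← Module.End.mul_apply E, (hEY.pow_right i).eq, Module.End.mul_apply,
      ((mem_nullL E Y).1 (hcZ j)).1]
  · intro x
    refine smul_p_cancel (p := p) ?_
    simp only [hpφ]
    refine Finset.sum_congr rfl fun j _ => Finset.sum_congr rfl fun i _ => ?_
    show l j ((E * Y ^ ((p - 1) * i)) (E x)) • _ = l j ((E * Y ^ ((p - 1) * i)) x) • _
    rw [← Module.End.mul_apply, mul_assoc, ← (hEY.pow_right _).eq, ← mul_assoc, hE]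
  · intro z hz
    obtain ⟨hz1, hz2⟩ := (mem_nullL E Y).1 hz
    have hβsum : ∀ j, ∑ i ∈ Finset.range p, β j i z = - l j z := by
      intro j
      refine mul_left_cancel₀ (p_ne_zero (O := O) (p := p)) ?_
      rw [Finset.mul_sum]
      simp only [← hβ, LinearMap.sub_apply, Finset.sum_sub_distrib, Finset.sum_const,
        Finset.card_range, nsmul_eq_mul]
      have h0 : a j 0 z = l j z := by
        show l j ((E * Y ^ ((p - 1) * 0)) z) = _
        rw [mul_zero, pow_zero, mul_one, hz1]
      have hsum : ∑ i ∈ Finset.range p, a j i z = 0 := by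
        show ∑ i ∈ Finset.range p, l j ((E * Y ^ ((p - 1) * i)) z) = 0
        rw [← map_sum, ← LinearMap.sum_apply, ← Finset.mul_sum, Module.End.mul_apply]
        have : ∑ i ∈ Finset.range p, Y ^ ((p - 1) * i) = ∑ i ∈ Finset.range p, Y ^ i := by
          have hp1 := (Fact.out : p.Prime).one_le
          rw [← Finset.sum_range_reflect (fun i => Y ^ i) p]
          rw [← sum_pow_succ hY (fun i => Y ^ ((p - 1) * i))
            (by show Y ^ ((p - 1) * p) = Y ^ ((p - 1) * 0)
                rw [mul_comm, pow_mul, hY, one_pow, mul_zero, pow_zero])]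
          refine Finset.sum_congr rfl fun i hi => ?_
          rw [Finset.mem_range] at hi
          refine pow_eq_pow_of_modEq ?_ hY
          obtain ⟨q, rfl⟩ : ∃ q, p = q + 1 := ⟨p - 1, (Nat.sub_add_cancel hp1).symm⟩
          obtain ⟨d, rfl⟩ : ∃ d, q = i + d := Nat.exists_eq_add_of_le (by omega)
          rw [Nat.add_sub_cancel, show i + d - i = d by omega,
            show (i + d) * (i + 1) = (i + d + 1) * i + d by ring]
          exact (Nat.modEq_iff_dvd' (Nat.le_add_left d _)).2 ⟨i, by omega⟩ |>.symm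
        rw [this, hz2, map_zero, map_zero]
      rw [hsum, h0]
      ring
    have hres : ∀ j, ∑ i ∈ Finset.range p, residue O (β j i z) = μ j (redV z) := fun j => by
      rw [← map_sum, hβsum, map_neg, hl, LinearMap.neg_apply, neg_neg]
    have hYi : ∀ i j, ∃ u, redV ((Y ^ i) (c j)) = redV (c j) + redV (dOp E Y u) := fun i j => by
      refine ⟨(∑ k ∈ Finset.range i, Y ^ k) (c j), ?_⟩
      have hcom : Commute E ((Y - 1) * ∑ k ∈ Finset.range i, Y ^ k) := by
        rw [mul_geom_sum]
        exact (hEY.pow_right i).sub_right (Commute.one_right E)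
      rw [← redV_add, dOp, ← Module.End.mul_apply, mul_assoc, hcom.eq, Module.End.mul_apply,
        ((mem_nullL E Y).1 (hcZ j)).1, mul_geom_sum, LinearMap.sub_apply, Module.End.one_apply,
        add_sub_cancel]
    choose u hu using hYi
    have hgz := congrArg Subtype.val (b.sum_repr (g.codRestrict _ hg (redV z)))
    rw [Submodule.coe_sum] at hgz
    refine ⟨∑ j, ∑ i ∈ Finset.range p, β j i z • u i j, ?_⟩
    simp only [hφ, LinearMap.sum_apply, LinearMap.smulRight_apply, map_sum, map_smul, redV_sum,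
      redV_smul, hu, smul_add, Finset.sum_add_distrib, ← Finset.sum_smul, hres]
    have hg' : g (redV z) = ∑ j, μ j (redV z) • redV (c j) := by
      simp only [hcb]
      exact hgz.symm
    rw [hg', add_sub_cancel_left]

end Lift

/-! ### Transfer and averaging -/

section Group

variable {G : Type ug} [Group G] [Fintype G] (ρ : G →* Module.End O (κ → O)) (N : Subgroup G)

/-- The conjugate of `φ` by a coset. -/
noncomputable def cv (φ : Module.End O (κ → O)) (c : G ⧸ N) : Module.End O (κ → O) :=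
  ρ c.out * φ * ρ c.out⁻¹

variable {ρ N}

lemma conj_conj (φ : Module.End O (κ → O)) (g h : G) :
    ρ g * (ρ h * φ * ρ h⁻¹) * ρ g⁻¹ = ρ (g * h) * φ * ρ (g * h)⁻¹ := by
  rw [map_mul, mul_inv_rev, map_mul]
  simp only [mul_assoc]

lemma conj_eq_of_commute {φ : Module.End O (κ → O)} {g : G} (h : Commute (ρ g) φ) :
    ρ g * φ * ρ g⁻¹ = φ := by
  rw [h.eq, mul_assoc, ← map_mul, mul_inv_cancel, map_one, mul_one]

lemma cv_eq {φ : Module.End O (κ → O)} (hφ : ∀ n ∈ N, Commute (ρ n) φ) (g : G) :
    cv ρ N φ (g : G ⧸ N) = ρ g * φ * ρ g⁻¹ := by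
  obtain ⟨n, hn⟩ := QuotientGroup.mk_out_eq_mul N g
  rw [cv, hn, ← conj_conj, conj_eq_of_commute (hφ n n.2)]

lemma cv_smul {φ : Module.End O (κ → O)} (hφ : ∀ n ∈ N, Commute (ρ n) φ) (g : G) (c : G ⧸ N) :
    ρ g * cv ρ N φ c * ρ g⁻¹ = cv ρ N φ (g • c) := by
  induction c using QuotientGroup.induction_on with
  | H a => rw [cv_eq hφ, conj_conj, show g • ((a : G ⧸ N)) = ((g * a : G) : G ⧸ N) from rfl,
      cv_eq hφ]

/-- The transfer of `φ`. -/
noncomputable def transfer (ρ : G →* Module.End O (κ → O)) (N : Subgroup G) [Fintype (G ⧸ N)]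
    (φ : Module.End O (κ → O)) : Module.End O (κ → O) := ∑ c : G ⧸ N, cv ρ N φ c

lemma transfer_commute [Fintype (G ⧸ N)] {φ : Module.End O (κ → O)}
    (hφ : ∀ n ∈ N, Commute (ρ n) φ) (g : G) : Commute (ρ g) (transfer ρ N φ) := by
  have : ρ g * transfer ρ N φ * ρ g⁻¹ = transfer ρ N φ := by
    rw [transfer, Finset.mul_sum, Finset.sum_mul, Finset.sum_congr rfl fun c _ => cv_smul hφ g c]
    exact Fintype.sum_bijective _ (MulAction.bijective g) _ _ fun _ => rfl
  unfold Commute SemiconjBy
  conv_rhs => rw [← this]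
  rw [mul_assoc, ← map_mul, inv_mul_cancel, map_one, mul_one]

/-- Off the base point the transfer is a sum over free orbits of `y`. -/
lemma exists_transfer_split [Fintype (G ⧸ N)] {φ : Module.End O (κ → O)}
    (hφ : ∀ n ∈ N, Commute (ρ n) φ) {y : G} (hy : orderOf y = p) (hyN : y ∈ N)
    (hfree : ∀ g, g ∉ N → g⁻¹ * y * g ∉ N) :
    ∃ S₀ : Module.End O (κ → O), transfer ρ N φ =
      φ + ∑ i ∈ Finset.range p, ρ (y ^ i) * S₀ * ρ (y ^ i)⁻¹ := by
  classical
  have hp := (Fact.out : p.Prime)
  set X := Finset.univ.erase ((1 : G) : G ⧸ N)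
  have hmove : ∀ c : G ⧸ N, c ≠ ((1 : G) : G ⧸ N) → y • c ≠ c := by
    intro c hc h
    induction c using QuotientGroup.induction_on with
    | H a =>
      have ha : a ∉ N := fun ha => hc (QuotientGroup.eq.2 (by simpa using N.inv_mem ha))
      have h1 : a⁻¹ * (y * a) ∈ N := by
        have := QuotientGroup.eq.1 (show ((y * a : G) : G ⧸ N) = (a : G ⧸ N) from h)
        simpa [mul_assoc] using N.inv_mem this
      exact hfree a ha (by rwa [mul_assoc])
  have hstab : ∀ c : G ⧸ N, c ≠ ((1 : G) : G ⧸ N) → ∀ m : ℕ, y ^ m • c = c → p ∣ m := by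
    intro c hc m hm
    by_contra hnd
    obtain ⟨a, ha⟩ := Nat.exists_mul_mod_eq_one_of_coprime
      ((hp.coprime_iff_not_dvd.2 hnd).symm) hp.one_lt
    apply hmove c hc
    have key : ∀ a, (y ^ m) ^ a • c = c := by
      intro a
      induction a with
      | zero => rw [pow_zero, one_smul]
      | succ a ih => rw [pow_succ, mul_smul, hm, ih]
    have := key a
    rwa [← pow_mul, ← pow_mod_orderOf y, hy, ha.2, pow_one] at this
  -- a transversal of the orbits
  let orb : G ⧸ N → Finset (G ⧸ N) := fun c => (Finset.range p).image fun i => y ^ i • c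
  have hself : ∀ c, c ∈ orb c := fun c =>
    Finset.mem_image.2 ⟨0, Finset.mem_range.2 hp.pos, by rw [pow_zero, one_smul]⟩
  have horb : ∀ c d, d ∈ orb c → orb d = orb c := by
    intro c d hd
    obtain ⟨i, -, rfl⟩ := Finset.mem_image.1 hd
    ext e
    simp only [orb, Finset.mem_image, Finset.mem_range]
    constructor
    · rintro ⟨j, -, rfl⟩
      refine ⟨(j + i) % p, Nat.mod_lt _ hp.pos, ?_⟩
      rw [← hy, pow_mod_orderOf, pow_add, mul_smul]
    · rintro ⟨j, -, rfl⟩
      refine ⟨(j + (p - 1) * i) % p, Nat.mod_lt _ hp.pos, ?_⟩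
      rw [← mul_smul, ← pow_add]
      congr 1
      refine pow_eq_pow_iff_modEq.2 ?_
      rw [hy]
      refine ((Nat.mod_modEq _ _).add_right i).trans ?_
      rw [add_assoc, show (p - 1) * i + i = p * i by
        rw [← Nat.succ_mul, Nat.succ_eq_add_one, Nat.sub_add_cancel hp.one_le]]
      exact (Nat.modEq_iff_dvd' (Nat.le_add_right j _)).2 ⟨i, by omega⟩ |>.symm
  haveI : Nonempty (G ⧸ N) := ⟨((1 : G) : G ⧸ N)⟩
  let pick : G ⧸ N → G ⧸ N := fun c => Classical.epsilon fun d => d ∈ orb c
  have hpick : ∀ c, pick c ∈ orb c := fun c =>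
    Classical.epsilon_spec (p := fun d => d ∈ orb c) ⟨c, hself c⟩
  have hpick_congr : ∀ c d, d ∈ orb c → pick d = pick c := fun c d hd => by
    simp only [pick, horb c d hd]
  set R := X.filter fun c => pick c = c
  refine ⟨∑ c ∈ R, cv ρ N φ c, ?_⟩
  have hbase : cv ρ N φ ((1 : G) : G ⧸ N) = φ := by
    rw [cv_eq hφ, inv_one, map_one, mul_one, one_mul]
  rw [transfer, ← Finset.add_sum_erase _ _ (Finset.mem_univ ((1 : G) : G ⧸ N)), hbase]
  congr 1
  simp only [Finset.mul_sum, Finset.sum_mul, cv_smul hφ]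
  rw [← Finset.sum_product']
  have hXstable : ∀ c ∈ X, ∀ i, y ^ i • c ∈ X := by
    intro c hc i
    refine Finset.mem_erase.2 ⟨fun h => (Finset.mem_erase.1 hc).1 ?_, Finset.mem_univ _⟩
    have h1 : c = (y ^ i)⁻¹ • ((1 : G) : G ⧸ N) := by rw [← h, inv_smul_smul]
    rw [h1]
    exact QuotientGroup.eq.2 (by simpa using N.pow_mem hyN i)
  refine (Finset.sum_bij (fun ic _ => y ^ ic.1 • ic.2) ?_ ?_ ?_ fun _ _ => rfl).symm
  · rintro ⟨i, c⟩ h
    rw [Finset.mem_product, Finset.mem_filter] at h
    exact hXstable c h.2.1 i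
  · rintro ⟨i, c⟩ h ⟨j, d⟩ h' he
    simp only [Finset.mem_product, Finset.mem_filter, Finset.mem_range, R] at h h'
    simp only at he
    have hd : d = c := by
      rw [← h.2.2, ← h'.2.2]
      have h1 : y ^ i • c ∈ orb c := Finset.mem_image.2 ⟨i, Finset.mem_range.2 h.1, rfl⟩
      have h2 : y ^ j • d ∈ orb d := Finset.mem_image.2 ⟨j, Finset.mem_range.2 h'.1, rfl⟩
      rw [← hpick_congr d _ h2, ← hpick_congr c _ h1, he]
    subst hd
    have key : ∀ a b, a ≤ b → b < p → y ^ a • d = y ^ b • d → a = b := by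
      intro a b hle hb heq
      rw [← Nat.add_sub_cancel' hle, pow_add, mul_smul, smul_left_cancel_iff] at heq
      have h3 := hstab d (Finset.mem_erase.1 h.2.1).1 _ heq.symm
      have : b - a = 0 := Nat.eq_zero_of_dvd_of_lt h3 (by omega)
      omega
    refine Prod.ext ?_ rfl
    rcases le_total i j with hle | hle
    · exact key i j hle h'.1 he
    · exact (key j i hle h.1 he.symm).symm
  · intro c hc
    obtain ⟨i, hi, he⟩ := Finset.mem_image.1 (horb c (pick c) (hpick c) ▸ hself c)
    refine ⟨⟨i, pick c⟩, ?_, he⟩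
    rw [Finset.mem_product, Finset.mem_filter]
    refine ⟨hi, ?_, hpick_congr c _ (hpick c)⟩
    obtain ⟨j, -, hj⟩ := Finset.mem_image.1 (hpick c)
    exact hj ▸ hXstable c hc j

/-! ### Invariant projections and the spreading operator -/

variable (ρ) (H : Subgroup G)

/-- Invariance of a subspace of the reduction. -/
def Inv (W : Submodule kk (κ → kk)) : Prop := ∀ h ∈ H, ∀ v ∈ W, redE (ρ h) v ∈ W

variable {ρ H}

lemma inv_sup {W W' : Submodule kk (κ → kk)} (hW : Inv ρ H W) (hW' : Inv ρ H W') :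
    Inv ρ H (W ⊔ W') := fun h hh v hv => by
  obtain ⟨a, ha, b, hb, rfl⟩ := Submodule.mem_sup.1 hv
  exact Submodule.mem_sup.2 ⟨_, hW h hh a ha, _, hW' h hh b hb, (map_add _ _ _).symm⟩

lemma inv_inf {W W' : Submodule kk (κ → kk)} (hW : Inv ρ H W) (hW' : Inv ρ H W') :
    Inv ρ H (W ⊓ W') := fun h hh _ hv => ⟨hW h hh _ hv.1, hW' h hh _ hv.2⟩

lemma redE_conj (h : G) (v : κ → kk) : redE (ρ h) (redE (ρ h⁻¹) v) = v := by
  rw [← Module.End.mul_apply, ← map_mul, ← map_mul, mul_inv_cancel, map_one, map_one]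
  rfl

/-- Averaged projection onto an invariant subspace killing another one. -/
lemma exists_proj (hH : (Nat.card H : kk) ≠ 0) {W R : Submodule kk (κ → kk)}
    (hW : Inv ρ H W) (hR : Inv ρ H R) (hWR : W ⊓ R = ⊥) :
    ∃ π : Module.End kk (κ → kk), (∀ v, π v ∈ W) ∧ (∀ w ∈ W, π w = w) ∧ (∀ v ∈ R, π v = 0) ∧
      ∀ h ∈ H, Commute (redE (ρ h)) π := by
  classical
  haveI : Fintype H := Fintype.ofFinite H
  obtain ⟨T, hT⟩ := Submodule.exists_isCompl (W ⊔ R)
  have hc : IsCompl W (R ⊔ T) := by
    constructor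
    · rw [Submodule.disjoint_def]
      intro v hv hv'
      obtain ⟨a, ha, b, hb, rfl⟩ := Submodule.mem_sup.1 hv'
      have hb0 : b = 0 := by
        refine Submodule.disjoint_def.1 hT.disjoint b ?_ hb
        have : b = (a + b) - a := (add_sub_cancel_left a b).symm
        rw [this]
        exact Submodule.sub_mem _ (Submodule.mem_sup_left hv) (Submodule.mem_sup_right ha)
      rw [hb0, add_zero] at hv ⊢
      exact (Submodule.eq_bot_iff _).1 hWR a ⟨hv, ha⟩
    · rw [codisjoint_iff, ← sup_assoc]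
      exact hT.codisjoint.eq_top
  let π₀ : Module.End kk (κ → kk) := W.subtype ∘ₗ Submodule.projectionOnto W (R ⊔ T) hc
  let π : Module.End kk (κ → kk) :=
    (Nat.card H : kk)⁻¹ • ∑ h : H, redE (ρ h) * π₀ * redE (ρ (h : G)⁻¹)
  have happ : ∀ v, π v =
      (Nat.card H : kk)⁻¹ • ∑ h : H, redE (ρ h) (π₀ (redE (ρ (h : G)⁻¹) v)) := fun v => by
    simp [π, LinearMap.sum_apply]
  refine ⟨π, fun v => ?_, fun w hw => ?_, fun v hv => ?_, fun g hg => ?_⟩
  · rw [happ]
    exact W.smul_mem _ (W.sum_mem fun h _ => hW h h.2 _ (Subtype.coe_prop _))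
  · have : ∀ h : H, redE (ρ h) (π₀ (redE (ρ (h : G)⁻¹) w)) = w := fun h => by
      have hm := hW (h : G)⁻¹ (H.inv_mem h.2) w hw
      rw [show π₀ (redE (ρ (h : G)⁻¹) w) = redE (ρ (h : G)⁻¹) w from
        congrArg Subtype.val (Submodule.projectionOnto_apply_left hc ⟨_, hm⟩), redE_conj]
    rw [happ, Finset.sum_congr rfl fun h _ => this h, Finset.sum_const, Finset.card_univ,
      ← Nat.card_eq_fintype_card, ← Nat.cast_smul_eq_nsmul kk, smul_smul, inv_mul_cancel₀ hH,
      one_smul]
  · have : ∀ h : H, redE (ρ h) (π₀ (redE (ρ (h : G)⁻¹) v)) = 0 := fun h => by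
      rw [show π₀ (redE (ρ (h : G)⁻¹) v) = 0 from (congrArg Subtype.val
        (Submodule.projectionOnto_apply_eq_zero_iff hc |>.2
          (Submodule.mem_sup_left (hR _ (H.inv_mem h.2) v hv)))), map_zero]
    rw [happ, Finset.sum_congr rfl fun h _ => this h, Finset.sum_const_zero, smul_zero]
  · have key : ∀ v, redE (ρ g) (π v) = π (redE (ρ g) v) := fun v => by
      rw [happ, happ, map_smul, map_sum]
      congr 1
      refine Fintype.sum_bijective (fun h : H => (⟨g, hg⟩ : H) * h) (Group.mulLeft_bijective _) _ _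
        fun h => ?_
      rw [← Module.End.mul_apply, ← map_mul, ← map_mul]
      congr 2
      rw [← Module.End.mul_apply, ← map_mul, ← map_mul]
      simp
    exact LinearMap.ext key

/-- A subspace with many invariant pieces carries an invariant operator with many eigenvalues. -/
lemma exists_spread (hH : (Nat.card H : kk) ≠ 0) {U : Submodule kk (κ → kk)} (hU : Inv ρ H U)
    {D : ℕ} (hsimple : ∀ W ≤ U, Inv ρ H W → W ≠ ⊥ →
      ∃ W' ≤ W, Inv ρ H W' ∧ W' ≠ ⊥ ∧ finrank kk W' ≤ D) :
    ∀ (m : ℕ) (v : Fin m → kk) (R : Submodule kk (κ → kk)), Inv ρ H R → R ≤ U →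
      (∀ j < m, finrank kk R + j * D < finrank kk U) →
      ∃ g : Module.End kk (κ → kk), (∀ h ∈ H, Commute (redE (ρ h)) g) ∧ (∀ u, g u ∈ U) ∧
        (∀ r ∈ R, g r = 0) ∧ ∀ j, ∃ w ∈ U, w ∉ R ∧ g w - v j • w ∈ R := by
  intro m
  induction m with
  | zero =>
    intro v R _ _ _
    exact ⟨0, fun h _ => Commute.zero_right _, fun _ => U.zero_mem, fun _ _ => rfl,
      fun j => j.elim0⟩
  | succ m ih =>
    intro v R hR hRU hdim
    obtain ⟨π, hπR, hπid, -, hπc⟩ := exists_proj hH hR
      (fun h _ x hx => by rw [(Submodule.mem_bot _).1 hx, map_zero]; exact zero_mem _)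
      (inf_bot_eq R)
    have hC : Inv ρ H (U ⊓ LinearMap.ker π) := inv_inf hU fun h hh x hx => by
      rw [LinearMap.mem_ker] at hx ⊢
      rw [← Module.End.mul_apply, ← (hπc h hh).eq, Module.End.mul_apply, hx, map_zero]
    have hC0 : U ⊓ LinearMap.ker π ≠ ⊥ := by
      intro h0
      have hle : U ≤ R := fun u hu => by
        have hmem : u - π u ∈ U ⊓ LinearMap.ker π :=
          ⟨U.sub_mem hu (hRU (hπR u)), by
            exact LinearMap.mem_ker.2 (by rw [map_sub, hπid _ (hπR u), sub_self])⟩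
        rw [h0, Submodule.mem_bot, sub_eq_zero] at hmem
        exact hmem ▸ hπR u
      have := hdim 0 (Nat.succ_pos m)
      have := Submodule.finrank_mono hle
      omega
    obtain ⟨W, hWC, hW, hW0, hWD⟩ := hsimple _ inf_le_left hC hC0
    have hWU : W ≤ U := hWC.trans inf_le_left
    have hWR : W ⊓ R = ⊥ := (Submodule.eq_bot_iff _).2 fun x hx => by
      rw [← hπid x hx.2, LinearMap.mem_ker.1 (hWC hx.1).2]
    set R' := R ⊔ W with hR'def
    have hR' : Inv ρ H R' := inv_sup hR hW
    have hR'U : R' ≤ U := sup_le hRU hWU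
    obtain ⟨g', hg'c, hg'U, hg'0, hg'e⟩ := ih (fun j => v j.succ) R' hR' hR'U fun j hj => by
      have h1 := hdim (j + 1) (Nat.succ_lt_succ hj)
      have h2 := Submodule.finrank_sup_add_finrank_inf_eq R W
      rw [inf_comm, hWR, finrank_bot] at h2
      rw [Nat.succ_mul] at h1
      rw [← hR'def] at h2
      omega
    obtain ⟨σ, hσR, hσid, -, hσc⟩ := exists_proj hH hR'
      (fun h _ x hx => by rw [(Submodule.mem_bot _).1 hx, map_zero]; exact zero_mem _)
      (inf_bot_eq R')
    have hσker : Inv ρ H (U ⊓ LinearMap.ker σ) := inv_inf hU fun h hh x hx => by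
      rw [LinearMap.mem_ker] at hx ⊢
      rw [← Module.End.mul_apply, ← (hσc h hh).eq, Module.End.mul_apply, hx, map_zero]
    obtain ⟨τ, hτW, hτid, hτ0, hτc⟩ := exists_proj hH hW
      (inv_sup hR hσker) ((Submodule.eq_bot_iff _).2 fun x hx => by
        obtain ⟨a, ha, b, hb, hab⟩ := Submodule.mem_sup.1 hx.2
        have hb0 : b = 0 := by
          have hbR' : b ∈ R' := by
            rw [show b = x - a by rw [← hab, add_sub_cancel_left]]
            exact Submodule.sub_mem _ (Submodule.mem_sup_right hx.1) (Submodule.mem_sup_left ha)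
          rw [← hσid b hbR', LinearMap.mem_ker.1 hb.2]
        rw [hb0, add_zero] at hab
        exact (Submodule.eq_bot_iff _).1 hWR x ⟨hx.1, hab ▸ ha⟩)
    refine ⟨(1 - σ) * g' * (1 - σ) + v 0 • τ, fun h hh => ?_, fun u => ?_, fun r hr => ?_, ?_⟩
    · exact ((((Commute.one_right _).sub_right (hσc h hh)).mul_right (hg'c h hh)).mul_right
        ((Commute.one_right _).sub_right (hσc h hh))).add_right ((hτc h hh).smul_right _)
    · rw [LinearMap.add_apply, Module.End.mul_apply, Module.End.mul_apply, LinearMap.smul_apply]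
      refine U.add_mem ?_ (U.smul_mem _ (hWU (hτW u)))
      rw [LinearMap.sub_apply, Module.End.one_apply]
      exact U.sub_mem (hg'U _) (hR'U (hσR _))
    · have h1 : σ r = r := hσid r (Submodule.mem_sup_left hr)
      simp [h1, hτ0 r (Submodule.mem_sup_left hr)]
    · intro j
      induction j using Fin.cases with
      | zero =>
        obtain ⟨w, hw, hw0⟩ := Submodule.exists_mem_ne_zero_of_ne_bot hW0
        refine ⟨w, hWU hw, fun h => hw0 ((Submodule.eq_bot_iff _).1 hWR w ⟨hw, h⟩), ?_⟩
        have h1 : σ w = w := hσid w (Submodule.mem_sup_right hw)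
        simp [h1, hτid w hw]
      | succ j =>
        obtain ⟨w, hwU, hwR, hwe⟩ := hg'e j
        set w' := w - σ w with hw'
        have hσw : σ w' = 0 := by rw [hw', map_sub, hσid _ (hσR w), sub_self]
        have hw'U : w' ∈ U := U.sub_mem hwU (hR'U (hσR w))
        refine ⟨w', hw'U, fun h => hwR ?_, ?_⟩
        · have : w = w' + σ w := (sub_add_cancel _ _).symm
          rw [this]
          exact R'.add_mem (Submodule.mem_sup_left h) (hσR w)
        · have h1 : g' w' - v j.succ • w' ∈ R' := by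
            rw [hw', map_sub, hg'0 _ (hσR w), sub_zero, smul_sub, ← sub_add]
            exact R'.add_mem hwe (R'.smul_mem _ (hσR w))
          have h2 : σ (g' w') = g' w' - v j.succ • w' := by
            have h3 := hσid _ h1
            rwa [map_sub, map_smul, hσw, smul_zero, sub_zero] at h3
          have h4 : τ w' = 0 := hτ0 w' (Submodule.mem_sup_right ⟨hw'U, hσw⟩)
          simp [hσw, h4, h2]

open scoped Classical in
/-- The dimension bound. -/
theorem dim_le (hH : (Nat.card H : kk) ≠ 0) {U R : Submodule kk (κ → kk)}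
    (hU : Inv ρ H U) (hR : Inv ρ H R) (hRU : R ≤ U) {D x : ℕ}
    (hsimple : ∀ W ≤ U, Inv ρ H W → W ≠ ⊥ →
      ∃ W' ≤ W, Inv ρ H W' ∧ W' ≠ ⊥ ∧ finrank kk W' ≤ D)
    (v : Fin (x + 1) → kk) (hv : Function.Injective v)
    (hlift : ∀ g : Module.End kk (κ → kk), (∀ u, g u ∈ U) → (∀ r ∈ R, g r = 0) →
      (∀ h ∈ H, Commute (redE (ρ h)) g) → ∃ Φ : Module.End O (κ → O),
        (∀ g : G, Commute (ρ g) Φ) ∧ (∀ r ∈ R, redE Φ r ∈ R) ∧
          ∀ w ∈ U, redE Φ w - g w ∈ R)
    (heig : ∀ Φ : Module.End O (κ → O), (∀ g : G, Commute (ρ g) Φ) → ∃ f : O[X],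
      aeval Φ f = 0 ∧ f.map (residue O) ≠ 0 ∧
        (f.map (residue O)).roots.toFinset.card ≤ x) :
    finrank kk U ≤ finrank kk R + x * D := by
  classical
  by_contra hlt
  rw [not_le] at hlt
  obtain ⟨g, hgc, hgU, hgR, hge⟩ := exists_spread hH hU hsimple (x + 1) v R hR hRU fun j hj => by
    have : j * D ≤ x * D := Nat.mul_le_mul_right D (by omega)
    omega
  obtain ⟨Φ, hΦc, hΦR, hΦU⟩ := hlift g hgU hgR hgc
  obtain ⟨f, hf0, hfn, hfr⟩ := heig Φ hΦc
  have hroot : ∀ j, v j ∈ (f.map (residue O)).roots.toFinset := by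
    intro j
    rw [Multiset.mem_toFinset, mem_roots hfn, IsRoot.def]
    obtain ⟨w, hwU, hwR, hwe⟩ := hge j
    by_contra hne
    apply hwR
    set fb := f.map (residue O)
    obtain ⟨Q, hQ⟩ : X - C (v j) ∣ fb - C (fb.eval (v j)) := X_sub_C_dvd_sub_C_eval
    have hQR : ∀ (Q : kk[X]), ∀ r ∈ R, aeval (redE Φ) Q r ∈ R := by
      intro Q
      induction Q using Polynomial.induction_on with
      | C c => intro r hr; simpa using R.smul_mem c hr
      | add a b ha hb =>
        intro r hr
        rw [map_add, LinearMap.add_apply]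
        exact R.add_mem (ha r hr) (hb r hr)
      | monomial n c ih =>
        intro r hr
        rw [pow_succ, ← mul_assoc, map_mul, aeval_X, Module.End.mul_apply]
        exact ih _ (hΦR r hr)
    have h1 : redE Φ w - v j • w ∈ R := by
      have := R.add_mem (hΦU w hwU) hwe
      rwa [sub_add_sub_cancel] at this
    have h2 := congrArg (fun P => aeval (redE Φ) P w) hQ
    simp only [mul_comm (X - C (v j)) Q, map_mul, Module.End.mul_apply] at h2
    have h3 : aeval (redE Φ) fb = 0 := by rw [← redE_aeval, hf0, map_zero]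
    have h4 : aeval (redE Φ) (X - C (v j)) w = redE Φ w - v j • w := by simp
    rw [h4, map_sub, h3, aeval_C, LinearMap.sub_apply, LinearMap.zero_apply, zero_sub,
      Module.algebraMap_end_apply] at h2
    have h5 := h2 ▸ hQR Q _ h1
    have := R.smul_mem (fb.eval (v j))⁻¹ (R.neg_mem h5)
    rwa [neg_neg, smul_smul, inv_mul_cancel₀ hne, one_smul] at this
  have := Finset.card_le_card (s := Finset.univ.image v) fun a ha => by
    obtain ⟨j, -, rfl⟩ := Finset.mem_image.1 ha
    exact hroot j
  rw [Finset.card_image_of_injective _ hv, Finset.card_univ, Fintype.card_fin] at this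
  omega

end Group

end Cfsg.Lib.Blocks.Herbrand
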