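import Mathlib
import Cfsg.Agent.Blocks.HerbrandLift

/-!
# The trace of an element of prime order on the fixed vectors of the kernel of its centralizer

A lattice for `G` all of whose endomorphisms have at most `x` residual eigenvalues: the trace of
`y` on the image of a suitable idempotent has absolute value at most `x`.
-/

set_option autoImplicit false
set_option linter.unusedSectionVars false

namespace Cfsg.Lib.Blocks.Herbrand

open Polynomial Module IsLocalRing

universe uo uk ug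

/-- The situation of a subgroup `⟨y⟩` of prime order with complement `H` in its normalizer `N`,
acting on a lattice with an idempotent `E`. -/
structure Setup {O : Type uo} [CommRing O] {κ : Type uk} {G : Type ug} [Group G]
    (p : ℕ) (ρ : G →* Module.End O (κ → O)) (E : Module.End O (κ → O)) (y : G)
    (N H : Subgroup G) : Prop where
  order : orderOf y = p
  mem : y ∈ N
  free : ∀ g, g ∉ N → g⁻¹ * y * g ∉ N
  le : H ≤ N
  decomp : ∀ n ∈ N, ∃ i : ℕ, ∃ h ∈ H, n = y ^ i * h
  norm : ∀ h ∈ H, ∃ a : ℕ, h * y * h⁻¹ = y ^ a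
  not_dvd : ¬ p ∣ Nat.card H
  idem : E * E = E
  comm : ∀ n ∈ N, Commute E (ρ n)
  central : ∀ Φ, (∀ g, Commute (ρ g) Φ) → Commute E Φ

variable {O : Type uo} [CommRing O] [IsDomain O] [IsLocalRing O] [IsPrincipalIdealRing O]
  [CharZero O] {κ : Type uk} [Fintype κ] [DecidableEq κ] {p : ℕ} [Fact p.Prime]
  {G : Type ug} [Group G] [Fintype G] {ρ : G →* Module.End O (κ → O)}
  {E : Module.End O (κ → O)} {y : G} {N H : Subgroup G}

local notation "kk" => IsLocalRing.ResidueField O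

variable (S : Setup p ρ E y N H)
include S

lemma Setup.pow_y : ρ y ^ p = 1 := by rw [← map_pow, ← S.order, pow_orderOf_eq_one, map_one]

lemma Setup.commEY : Commute E (ρ y) := S.comm y S.mem

lemma Setup.card_ne_zero (hpi : maximalIdeal O = Ideal.span {(p : O)}) :
    (Nat.card H : kk) ≠ 0 := by
  have : CharP kk p := (CharP.charP_iff_prime_eq_zero (Fact.out : p.Prime)).2
    (by rw [← map_natCast (residue O)]; exact residue_p hpi)
  rw [Ne, CharP.cast_eq_zero_iff kk p]
  exact S.not_dvd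

lemma Setup.conj_pow {h : G} (hh : h ∈ H) (i : ℕ) : ∃ a : ℕ, h * y ^ i * h⁻¹ = y ^ a := by
  obtain ⟨a, ha⟩ := S.norm h hh
  exact ⟨a * i, by rw [← _root_.conj_pow, ha, pow_mul]⟩

lemma Setup.conj_mem {h : G} (hh : h ∈ H) {φ : Module.End O (κ → O)}
    (hφ : Commute φ (ρ y)) : Commute (ρ h * φ * ρ h⁻¹) (ρ y) := by
  obtain ⟨a, ha⟩ := S.norm h⁻¹ (H.inv_mem hh)
  rw [inv_inv] at ha
  have e : y = h * y ^ a * h⁻¹ := by rw [← ha]; group
  have hc : Commute (ρ (y ^ a)) φ := by rw [map_pow]; exact (hφ.symm).pow_left a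
  have h1 : ρ y * (ρ h * φ * ρ h⁻¹) = ρ h * φ * ρ (y ^ a) * ρ h⁻¹ := by
    rw [mul_assoc (ρ h) φ (ρ (y ^ a)), ← hc.eq, ← mul_assoc, ← mul_assoc, ← mul_assoc, ← map_mul,
      ← map_mul (f := ρ) h (y ^ a)]
    congr 3
    nth_rw 1 [e]
    group
  show ρ h * φ * ρ h⁻¹ * ρ y = ρ y * (ρ h * φ * ρ h⁻¹)
  rw [h1, mul_assoc, ← map_mul, mul_assoc (ρ h * φ), ← map_mul]
  congr 2
  nth_rw 1 [e]
  group

lemma Setup.commute_sum {h : G} (hh : h ∈ H) :
    Commute (ρ h) (∑ i ∈ Finset.range p, ρ y ^ i) := by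
  classical
  have hy0 : IsOfFinOrder y := isOfFinOrder_of_finite y
  have key : ∑ i ∈ Finset.range p, ρ y ^ i =
      ∑ q ∈ (Finset.univ.filter fun q => q ∈ Subgroup.zpowers y), ρ q := by
    refine Finset.sum_bij (fun i _ => y ^ i) ?_ ?_ ?_ fun i _ => (map_pow ρ y i).symm
    · intro i _
      exact Finset.mem_filter.2 ⟨Finset.mem_univ _, Subgroup.pow_mem _ (Subgroup.mem_zpowers y) i⟩
    · intro i hi j hj e
      rw [Finset.mem_range, ← S.order] at hi hj
      exact pow_injOn_Iio_orderOf hi hj e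
    · intro q hq
      obtain ⟨i, hi⟩ := hy0.mem_powers_iff_mem_zpowers.2 (Finset.mem_filter.1 hq).2
      exact ⟨i % p, Finset.mem_range.2 (Nat.mod_lt _ (Fact.out : p.Prime).pos),
        by rw [← S.order, pow_mod_orderOf]; exact hi⟩
  rw [key]
  unfold Commute SemiconjBy
  rw [Finset.mul_sum, Finset.sum_mul]
  refine Finset.sum_bij' (fun q _ => h * q * h⁻¹) (fun q _ => h⁻¹ * q * h) ?_ ?_ ?_ ?_ ?_
  · intro q hq
    obtain ⟨i, rfl⟩ := hy0.mem_powers_iff_mem_zpowers.2 (Finset.mem_filter.1 hq).2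
    obtain ⟨a, ha⟩ := S.conj_pow hh i
    exact Finset.mem_filter.2
      ⟨Finset.mem_univ _, ha.symm ▸ Subgroup.pow_mem _ (Subgroup.mem_zpowers y) a⟩
  · intro q hq
    obtain ⟨i, rfl⟩ := hy0.mem_powers_iff_mem_zpowers.2 (Finset.mem_filter.1 hq).2
    obtain ⟨a, ha⟩ := S.conj_pow (H.inv_mem hh) i
    rw [inv_inv] at ha
    exact Finset.mem_filter.2
      ⟨Finset.mem_univ _, ha.symm ▸ Subgroup.pow_mem _ (Subgroup.mem_zpowers y) a⟩
  · intro q _; group
  · intro q _; group
  · intro q _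
    rw [← map_mul, ← map_mul]
    group

/-- The average over `H` of an operator. -/
noncomputable def Setup.avg (_S : Setup p ρ E y N H) (φ : Module.End O (κ → O)) :
    Module.End O (κ → O) := by
  classical
  exact Ring.inverse (Nat.card H : O) • ∑ h : H, ρ h * φ * ρ (h : G)⁻¹

lemma Setup.avg_commute {φ : Module.End O (κ → O)} (hφ : Commute φ (ρ y)) :
    ∀ n ∈ N, Commute (ρ n) (S.avg φ) := by
  classical
  intro n hn
  obtain ⟨i, h, hh, rfl⟩ := S.decomp n hn
  have h1 : Commute (ρ y) (S.avg φ) := by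
    refine (Commute.sum_right _ _ _ fun g _ => ?_).smul_right _
    exact (S.conj_mem g.2 hφ).symm
  have h2 : Commute (ρ h) (S.avg φ) := by
    refine Commute.smul_right ?_ _
    unfold Commute SemiconjBy
    rw [Finset.mul_sum, Finset.sum_mul]
    refine Fintype.sum_bijective (fun g : H => (⟨h, hh⟩ : H) * g) (Group.mulLeft_bijective _) _ _
      fun g => ?_
    simp only [mul_assoc, Subgroup.coe_mul, map_mul, mul_inv_rev]
    congr 3
    rw [← map_mul, inv_mul_cancel, map_one, mul_one]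
  rw [map_mul, map_pow]
  exact (h1.pow_left i).mul_left h2

lemma Setup.avg_idem {φ : Module.End O (κ → O)} (hφ : ∀ x, E (φ x) = φ x) (x : κ → O) :
    E (S.avg φ x) = S.avg φ x := by
  simp only [Setup.avg, LinearMap.smul_apply, LinearMap.sum_apply, map_smul, map_sum]
  congr 1
  refine Finset.sum_congr rfl fun g _ => ?_
  rw [Module.End.mul_apply, Module.End.mul_apply, ← Module.End.mul_apply E,
    (S.comm _ (S.le g.2)).eq, Module.End.mul_apply, hφ]

lemma Setup.redV_avg (hpi : maximalIdeal O = Ideal.span {(p : O)})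
    {φ : Module.End O (κ → O)} {g : Module.End kk (κ → kk)}
    (hg : ∀ h ∈ H, Commute (redE (ρ h)) g) {W : Submodule O (κ → O)}
    {R : Submodule kk (κ → kk)} (hW : ∀ h ∈ H, ∀ z ∈ W, ρ h z ∈ W) (hR : Inv ρ H R)
    (hφ : ∀ z ∈ W, redV (φ z) - g (redV z) ∈ R) {z : κ → O} (hz : z ∈ W) :
    redV (S.avg φ z) - g (redV z) ∈ R := by
  classical
  have hu : IsUnit (Nat.card H : O) := by
    rw [← not_not (a := IsUnit _), ← mem_nonunits_iff, ← mem_maximalIdeal, ← residue_eq_zero_iff,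
      map_natCast]
    exact S.card_ne_zero hpi
  have hg' : g (redV z) =
      residue O (Ring.inverse (Nat.card H : O)) • ∑ _h : H, g (redV z) := by
    rw [Finset.sum_const, Finset.card_univ, ← Nat.card_eq_fintype_card,
      ← Nat.cast_smul_eq_nsmul kk, smul_smul, ← map_natCast (residue O), ← map_mul,
      Ring.inverse_mul_cancel _ hu, map_one, one_smul]
  rw [hg']
  simp only [Setup.avg, LinearMap.smul_apply, LinearMap.sum_apply, redV_smul, redV_sum, ← smul_sub,
    ← Finset.sum_sub_distrib]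
  refine R.smul_mem _ (R.sum_mem fun h _ => ?_)
  have h2 : g (redV z) = redE (ρ h) (g (redV (ρ (h : G)⁻¹ z))) := by
    rw [← Module.End.mul_apply, (hg h h.2).eq, Module.End.mul_apply, redE_redV,
      ← Module.End.mul_apply (ρ h), ← map_mul, mul_inv_cancel, map_one, Module.End.one_apply]
  rw [h2, Module.End.mul_apply, Module.End.mul_apply, ← redE_redV (ρ h), ← map_sub]
  exact hR h h.2 _ (hφ _ (hW _ (H.inv_mem h.2) z hz))

lemma Setup.inv_fix (h : G) (hh : h ∈ H) (z : κ → O) (hz : z ∈ fixL E (ρ y)) :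
    ρ h z ∈ fixL E (ρ y) := by
  obtain ⟨h1, h2⟩ := (mem_fixL E _).1 hz
  refine (mem_fixL E _).2 ⟨?_, ?_⟩
  · rw [← Module.End.mul_apply, (S.comm h (S.le hh)).eq, Module.End.mul_apply, h1]
  · obtain ⟨a, ha⟩ := S.norm h⁻¹ (H.inv_mem hh)
    rw [inv_inv] at ha
    have e : y * h = h * y ^ a := by rw [← ha]; group
    rw [← Module.End.mul_apply, ← map_mul, e, map_mul, Module.End.mul_apply, map_pow,
      pow_fix h2]

lemma Setup.inv_null (h : G) (hh : h ∈ H) (z : κ → O) (hz : z ∈ nullL E (ρ y) p) :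
    ρ h z ∈ nullL E (ρ y) p := by
  obtain ⟨h1, h2⟩ := (mem_nullL E _).1 hz
  refine (mem_nullL E _).2 ⟨?_, ?_⟩
  · rw [← Module.End.mul_apply, (S.comm h (S.le hh)).eq, Module.End.mul_apply, h1]
  · rw [← Module.End.mul_apply, ← (S.commute_sum hh).eq, Module.End.mul_apply, h2, map_zero]

lemma inv_redSub {W : Submodule O (κ → O)} (hW : ∀ h ∈ H, ∀ z ∈ W, ρ h z ∈ W) :
    Inv ρ H (redSub W) := by
  rintro h hh _ ⟨z, hz, rfl⟩
  exact ⟨_, hW h hh z hz, (redE_redV _ z).symm⟩

lemma Setup.inv_rangeN : Inv ρ H (LinearMap.range (redE (nOp E (ρ y) p))) := by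
  rintro h hh _ ⟨v, rfl⟩
  refine ⟨redE (ρ h) v, ?_⟩
  have hc : Commute (ρ h) (nOp E (ρ y) p) :=
    (S.comm h (S.le hh)).symm.mul_right (S.commute_sum hh)
  rw [← Module.End.mul_apply, ← (hc.map redE).eq, Module.End.mul_apply]

lemma Setup.inv_rangeD : Inv ρ H (LinearMap.range (redE (dOp E (ρ y)))) := by
  rintro h hh _ ⟨v, rfl⟩
  obtain ⟨a, ha⟩ := S.norm h hh
  refine ⟨redE ((∑ i ∈ Finset.range a, ρ y ^ i) * ρ h) v, ?_⟩
  have e : dOp E (ρ y) * ((∑ i ∈ Finset.range a, ρ y ^ i) * ρ h) = ρ h * dOp E (ρ y) := by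
    rw [dOp, mul_assoc, ← mul_assoc (ρ y - 1), mul_geom_sum, sub_mul, one_mul, ← map_pow,
      ← map_mul, ← ha, inv_mul_cancel_right, ← mul_assoc (ρ h), ← (S.comm h (S.le hh)).eq,
      mul_assoc E, mul_sub (ρ h), mul_one, ← map_mul, mul_sub]
  rw [← Module.End.mul_apply, ← map_mul, e, map_mul, Module.End.mul_apply]

lemma Setup.commute_nd {Φ : Module.End O (κ → O)} (h : ∀ g, Commute (ρ g) Φ) :
    Commute Φ (nOp E (ρ y) p) ∧ Commute Φ (dOp E (ρ y)) :=
  ⟨(S.central Φ h).symm.mul_right (Commute.sum_right _ _ _ fun i _ => ((h y).pow_left i).symm),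
    (S.central Φ h).symm.mul_right ((h y).symm.sub_right (Commute.one_right _))⟩

open scoped Classical in
/-- The trace is bounded by the number of residual eigenvalues of the endomorphisms. -/
theorem Setup.natAbs_le [Fintype (G ⧸ N)] (hpi : maximalIdeal O = Ideal.span {(p : O)})
    (τ : ℤ) (hτ : ∀ i, 0 < i → i < p → LinearMap.trace O _ (E * ρ y ^ i) = (τ : O))
    {D x : ℕ}
    (hsimple : ∀ W : Submodule kk (κ → kk), (∀ v ∈ W, redE E v = v) → Inv ρ H W → W ≠ ⊥ →
      ∃ W' ≤ W, Inv ρ H W' ∧ W' ≠ ⊥ ∧ finrank kk W' ≤ D)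
    (v : Fin (x + 1) → kk) (hv : Function.Injective v)
    (heig : ∀ Φ : Module.End O (κ → O), (∀ g : G, Commute (ρ g) Φ) → ∃ f : O[X],
      aeval Φ f = 0 ∧ f.map (residue O) ≠ 0 ∧
        (f.map (residue O)).roots.toFinset.card ≤ x) :
    τ.natAbs ≤ x * D := by
  have hE := S.idem
  have hY := S.pow_y
  have hEY := S.commEY
  have hH := S.card_ne_zero hpi
  have hkey := dim_sub hE hY hEY hpi (τ : O) hτ
  have hEid : ∀ W : Submodule O (κ → O), (∀ z ∈ W, E z = z) →
      ∀ v ∈ redSub W, redE E v = v := by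
    rintro W hW _ ⟨z, hz, rfl⟩
    rw [redE_redV, hW z hz]
  have hfixE := hEid _ fun z hz => ((mem_fixL E (ρ y)).1 hz).1
  have hnullE := hEid _ fun z hz => ((mem_nullL E (ρ y) (p := p)).1 hz).1
  have hFR : LinearMap.range (redE (nOp E (ρ y) p)) ≤ redSub (fixL E (ρ y)) := by
    rintro _ ⟨w, rfl⟩
    obtain ⟨z, rfl⟩ := redV_surjective w
    exact ⟨_, nOp_mem_fixL hE hY hEY z, (redE_redV _ z).symm⟩
  have hZR : LinearMap.range (redE (dOp E (ρ y))) ≤ redSub (nullL E (ρ y) p) := by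
    rintro _ ⟨w, rfl⟩
    obtain ⟨z, rfl⟩ := redV_surjective w
    exact ⟨_, dOp_mem_nullL hE hY hEY z, (redE_redV _ z).symm⟩
  have hFi := inv_redSub S S.inv_fix
  have hZi := inv_redSub S S.inv_null
  have hA := dim_le hH hFi S.inv_rangeN hFR
    (fun W hW => hsimple W fun u hu => hfixE u (hW hu)) v hv ?_ heig
  have hB := dim_le hH hZi S.inv_rangeD hZR
    (fun W hW => hsimple W fun u hu => hnullE u (hW hu)) v hv ?_ heig
  · have h1 := Submodule.finrank_mono hFR
    have h2 := Submodule.finrank_mono hZR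
    have h3 := Int.cast_injective (α := O) hkey
    omega
  -- lifting against the null lattice
  · intro g hgU hgR hgc
    obtain ⟨φ, hφY, hφE, -, hφg⟩ := exists_lift_null hE hY hEY hpi g hgU fun z =>
      hgR _ ⟨redV z, redE_redV _ z⟩
    have hc := S.avg_commute hφY
    set φ₁ := S.avg φ with hφ₁
    have hT := transfer_commute (ρ := ρ) hc
    obtain ⟨hTN, hTD⟩ := S.commute_nd hT
    refine ⟨transfer ρ N φ₁, hT, ?_, ?_⟩
    · rintro _ ⟨u, rfl⟩
      refine ⟨redE (transfer ρ N φ₁) u, ?_⟩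
      rw [← Module.End.mul_apply, ← (hTD.map redE).eq, Module.End.mul_apply]
    · rintro _ ⟨z, hz, rfl⟩
      obtain ⟨hz1, hz2⟩ := (mem_nullL E (ρ y)).1 hz
      rw [redE_redV]
      have h1 : redV (φ₁ z) - g (redV z) ∈ LinearMap.range (redE (dOp E (ρ y))) :=
        S.redV_avg hpi hgc S.inv_null S.inv_rangeD (fun z hz => by
          obtain ⟨u, hu⟩ := hφg z hz
          exact ⟨redV u, by rw [redE_redV, hu]⟩) hz
      obtain ⟨S₀, hS₀⟩ := exists_transfer_split (ρ := ρ) hc S.order S.mem S.free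
      have hz0 : ∑ i ∈ Finset.range p, S₀ (ρ (y ^ i)⁻¹ z) = 0 := by
        rw [← map_sum, ← LinearMap.sum_apply]
        have : ∑ i ∈ Finset.range p, ρ (y ^ i)⁻¹ = ∑ i ∈ Finset.range p, ρ y ^ i := by
          rw [← sum_pow_succ hY (fun i => ρ (y ^ i)⁻¹)
            (by show ρ (y ^ p)⁻¹ = ρ (y ^ 0)⁻¹; rw [← S.order, pow_orderOf_eq_one, pow_zero]),
            ← Finset.sum_range_reflect (fun i => ρ y ^ i) p]
          refine Finset.sum_congr rfl fun i hi => ?_
          rw [Finset.mem_range] at hi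
          rw [← map_pow]
          congr 1
          refine inv_eq_of_mul_eq_one_right ?_
          rw [← pow_add, show i + 1 + (p - 1 - i) = p by omega, ← S.order, pow_orderOf_eq_one]
        rw [this, hz2, map_zero]
      have h2 : transfer ρ N φ₁ z - φ₁ z =
          dOp E (ρ y) (∑ i ∈ Finset.range p,
            (∑ j ∈ Finset.range i, ρ y ^ j) (S₀ (ρ (y ^ i)⁻¹ z))) := by
        have hcen := LinearMap.congr_fun (S.central _ hT).eq z
        rw [Module.End.mul_apply, Module.End.mul_apply, hz1] at hcen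
        conv_lhs => rw [← hcen, hS₀]
        rw [LinearMap.add_apply, map_add, S.avg_idem hφE, add_sub_cancel_left, LinearMap.sum_apply,
          map_sum, map_sum]
        have : ∀ i, dOp E (ρ y) ((∑ j ∈ Finset.range i, ρ y ^ j) (S₀ (ρ (y ^ i)⁻¹ z))) =
            E ((ρ (y ^ i) * S₀ * ρ (y ^ i)⁻¹) z) - E (S₀ (ρ (y ^ i)⁻¹ z)) := fun i => by
          rw [← Module.End.mul_apply, dOp, mul_assoc, mul_geom_sum, Module.End.mul_apply,
            LinearMap.sub_apply, map_sub, Module.End.one_apply, map_pow]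
          rfl
        simp only [this, Finset.sum_sub_distrib]
        rw [← map_sum E, ← map_sum E, hz0, map_zero, sub_zero, map_sum]
      have h3 : redV (transfer ρ N φ₁ z) - redV (φ₁ z) ∈
          LinearMap.range (redE (dOp E (ρ y))) :=
        ⟨_, (redE_redV _ _).trans (by rw [← redV_sub, h2])⟩
      have := Submodule.add_mem _ h3 h1
      rwa [sub_add_sub_cancel] at this
  -- lifting against the fixed lattice
  · intro g hgU hgR hgc
    obtain ⟨φ, hφY, hφE, -, hφg⟩ := exists_lift_fix hE hY hEY hpi g hgU fun z =>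
      hgR _ ⟨redV z, redE_redV _ z⟩
    have hc := S.avg_commute hφY
    set φ₁ := S.avg φ with hφ₁
    have hT := transfer_commute (ρ := ρ) hc
    obtain ⟨hTN, hTD⟩ := S.commute_nd hT
    refine ⟨transfer ρ N φ₁, hT, ?_, ?_⟩
    · rintro _ ⟨u, rfl⟩
      refine ⟨redE (transfer ρ N φ₁) u, ?_⟩
      rw [← Module.End.mul_apply, ← (hTN.map redE).eq, Module.End.mul_apply]
    · rintro _ ⟨z, hz, rfl⟩
      obtain ⟨hz1, hz2⟩ := (mem_fixL E (ρ y)).1 hz
      rw [redE_redV]
      have h1 : redV (φ₁ z) - g (redV z) ∈ LinearMap.range (redE (nOp E (ρ y) p)) :=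
        S.redV_avg hpi hgc S.inv_fix S.inv_rangeN (fun z hz => by
          rw [hφg z hz, sub_self]
          exact zero_mem _) hz
      obtain ⟨S₀, hS₀⟩ := exists_transfer_split (ρ := ρ) hc S.order S.mem S.free
      have hfix : ∀ i, ρ (y ^ i)⁻¹ z = z := fun i => by
        conv_lhs => rw [← pow_fix hz2 i, ← map_pow, ← Module.End.mul_apply, ← map_mul,
          inv_mul_cancel, map_one, Module.End.one_apply]
      have h2 : transfer ρ N φ₁ z - φ₁ z = nOp E (ρ y) p (S₀ z) := by
        have hcen := LinearMap.congr_fun (S.central _ hT).eq z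
        rw [Module.End.mul_apply, Module.End.mul_apply, hz1] at hcen
        conv_lhs => rw [← hcen, hS₀]
        rw [LinearMap.add_apply, map_add, S.avg_idem hφE, add_sub_cancel_left, LinearMap.sum_apply,
          map_sum, nOp, Module.End.mul_apply, LinearMap.sum_apply, map_sum]
        refine Finset.sum_congr rfl fun i _ => ?_
        rw [Module.End.mul_apply, Module.End.mul_apply, hfix, map_pow]
      have h3 : redV (transfer ρ N φ₁ z) - redV (φ₁ z) ∈
          LinearMap.range (redE (nOp E (ρ y) p)) :=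
        ⟨_, (redE_redV _ _).trans (by rw [← redV_sub, h2])⟩
      have := Submodule.add_mem _ h3 h1
      rwa [sub_add_sub_cancel] at this

end Cfsg.Lib.Blocks.Herbrand
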