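import Mathlib
import Cfsg.Prelude.Def_Blocks
import Cfsg.Agent.Blocks.LocalRing

/-!
# Roots of unity of order prime to `p` in the residue field
-/

set_option autoImplicit false
set_option linter.unusedSectionVars false

namespace Cfsg.Lib.Blocks

variable {M : Ideal AlgInt} {p : ℕ}

lemma isUnitAt_of_pow_eq_one (hM : IsPModular p M) {z : ℂ} {m : ℕ} (hm : m ≠ 0)
    (h : z ^ m = 1) : IsUnitAt M z := by
  have hz : IsIntegral ℤ z := IsIntegral.of_pow (Nat.pos_of_ne_zero hm) (h ▸ isIntegral_one)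
  refine isUnitAt_iff.2 ⟨isIntegral_mem_place hM hz, fun hs => not_small_one (M := M) ?_⟩
  obtain ⟨k, rfl⟩ := Nat.exists_eq_succ_of_ne_zero hm
  rw [← h, pow_succ']
  exact hs.mul_mem (pow_mem (isIntegral_mem_place hM hz) k)

/-- Roots of unity of order prime to `p` are separated by the residue field. -/
lemma eq_one_of_small_sub_one (hM : IsPModular p M) {z : ℂ} {m : ℕ} (hm : ¬ p ∣ m)
    (h : z ^ m = 1) (hs : Small M (z - 1)) : z = 1 := by
  by_contra hne
  have hm0 : m ≠ 0 := fun e => hm (e ▸ dvd_zero p)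
  have hz := (isUnitAt_of_pow_eq_one hM hm0 h).mem_place
  have hsum : ∑ i ∈ Finset.range m, z ^ i = 0 := by
    rw [geom_sum_eq hne, h, sub_self, zero_div]
  refine hm ((small_natCast_iff hM m).1 ?_)
  have : (m : ℂ) = ∑ i ∈ Finset.range m, (1 - z ^ i) := by
    rw [Finset.sum_sub_distrib, hsum, Finset.sum_const, Finset.card_range, sub_zero, nsmul_one]
  rw [this]
  refine small_sum _ _ fun i _ => ?_
  have : (1 : ℂ) - z ^ i = (-(∑ j ∈ Finset.range i, z ^ j)) * (z - 1) := by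
    rw [neg_mul, geom_sum_mul, neg_sub]
  rw [this]
  exact hs.mem_mul (neg_mem (sum_mem fun j _ => pow_mem hz j))

/-- Every nonzero residue is the residue of a root of unity of order prime to `p`. -/
lemma exists_root_of_unity_sub_mem (hM : IsPModular p M) {a : AlgInt} (ha : a ∉ M) :
    ∃ ε : AlgInt, (∃ m : ℕ, ¬ p ∣ m ∧ (ε : ℂ) ^ m = 1) ∧ a - ε ∈ M := by
  obtain ⟨hp, hmax, hpM⟩ := hM
  have : Fact p.Prime := ⟨hp⟩
  haveI := hmax
  letI := Ideal.Quotient.field M
  set x : AlgInt ⧸ M := Ideal.Quotient.mk M a with hx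
  have hx0 : x ≠ 0 := by rwa [hx, Ne, Ideal.Quotient.eq_zero_iff_mem]
  have hchar : CharP (AlgInt ⧸ M) p := by
    refine ringChar.of_eq (CharP.ringChar_of_prime_eq_zero hp ?_)
    rw [← map_natCast (Ideal.Quotient.mk M), Ideal.Quotient.eq_zero_iff_mem]
    exact hpM
  letI := ZMod.algebra (AlgInt ⧸ M) p
  have hint : IsIntegral (ZMod p) x := by
    have h1 : IsIntegral ℤ a := Algebra.IsIntegral.isIntegral a
    have h2 : IsIntegral ℤ x := by
      simpa [hx] using h1.map (Ideal.Quotient.mkₐ ℤ M)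
    exact h2.tower_top
  have hfd : FiniteDimensional (ZMod p) (Algebra.adjoin (ZMod p) ({x} : Set (AlgInt ⧸ M))) :=
    ⟨(Submodule.fg_top _).2 hint.fg_adjoin_singleton⟩
  have : Finite (Algebra.adjoin (ZMod p) ({x} : Set (AlgInt ⧸ M))) :=
    Module.finite_of_finite (ZMod p)
  obtain ⟨i, j, hij, he⟩ := Finite.exists_ne_map_eq_of_infinite
    (fun n : ℕ => (⟨x, Algebra.self_mem_adjoin_singleton (ZMod p) x⟩ :
      Algebra.adjoin (ZMod p) ({x} : Set (AlgInt ⧸ M))) ^ n)
  wlog hlt : i < j generalizing i j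
  · exact this j i hij.symm he.symm (lt_of_le_of_ne (not_lt.1 hlt) hij.symm)
  have hpow : x ^ (j - i) = 1 := by
    have := congrArg Subtype.val he
    simp only [SubmonoidClass.coe_pow] at this
    have h' : x ^ i * x ^ (j - i) = x ^ i * 1 := by
      rw [mul_one, ← pow_add, Nat.add_sub_cancel' hlt.le, this]
    exact mul_left_cancel₀ (pow_ne_zero _ hx0) h'
  obtain ⟨s, m, hm, hsm⟩ := Nat.exists_eq_pow_mul_and_not_dvd (Nat.sub_ne_zero_of_lt hlt) p
    hp.ne_one
  have hxm : x ^ m = 1 := by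
    rw [← sub_eq_zero]
    refine eq_zero_of_pow_eq_zero (n := p ^ s) ?_
    rw [sub_pow_char_pow, one_pow, ← pow_mul, mul_comm, ← hsm, hpow, sub_self]
  have hm0 : 0 < m := Nat.pos_of_ne_zero fun e => hm (e ▸ dvd_zero p)
  have hζ := Complex.isPrimitiveRoot_exp m hm0.ne'
  set ζ : ℂ := Complex.exp (2 * Real.pi * Complex.I / m)
  let ζ' : AlgInt := ⟨ζ, IsIntegral.of_pow hm0 (hζ.pow_eq_one ▸ isIntegral_one)⟩
  have hζ' : IsPrimitiveRoot ζ' m :=
    IsPrimitiveRoot.of_map_of_injective (f := AlgInt.val) hζ Subtype.val_injective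
  have hprod : ∏ r ∈ Polynomial.nthRootsFinset m (1 : AlgInt),
      (x - Ideal.Quotient.mk M r) = 0 := by
    have h := congrArg (Polynomial.aeval a) (Polynomial.X_pow_sub_one_eq_prod hm0 hζ')
    simp only [map_sub, map_pow, Polynomial.aeval_X, map_one, map_prod, Polynomial.aeval_C,
      Algebra.algebraMap_self, RingHom.id_apply] at h
    have h2 := congrArg (Ideal.Quotient.mk M) h
    simp only [map_sub, map_pow, map_one, map_prod] at h2
    rw [← h2, ← hx, hxm, sub_self]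
  obtain ⟨r, hr, hr0⟩ := Finset.prod_eq_zero_iff.1 hprod
  refine ⟨r, ⟨m, hm, ?_⟩, ?_⟩
  · rw [← SubmonoidClass.coe_pow, (Polynomial.mem_nthRootsFinset hm0 1).1 hr, OneMemClass.coe_one]
  · rwa [← Ideal.Quotient.eq_zero_iff_mem, map_sub, ← hx]

end Cfsg.Lib.Blocks
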