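import Mathlib
import Cfsg.Agent.Blocks.LocalRing
import Cfsg.Agent.Blocks.Roots
import Cfsg.Agent.Chars.Galois

/-!
# The unramified place on a cyclotomic field of order prime to `p`

On the field of `n`-th roots of unity, `p ∤ n`, the place attached to `M` is a discrete valuation
ring with uniformizer `p`. Adjoining a `p`-th root of unity is totally ramified: an element of
that field integral at the place is congruent to all its conjugates over the smaller field.
-/

set_option autoImplicit false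
set_option linter.unusedSectionVars false

namespace Cfsg.Lib.Blocks

open Cfsg.Lib.Chars Polynomial

variable {M : Ideal AlgInt} {p n : ℕ}

/-- The valuation ring on the `n`-th cyclotomic field cut out by the place. -/
noncomputable abbrev Ov (M : Ideal AlgInt) (n : ℕ) : ValuationSubring (cycField n) :=
  (place M).comap (algebraMap (cycField n) ℂ)

/-- The inclusion into `ℂ`. -/
noncomputable def oC (M : Ideal AlgInt) (n : ℕ) : Ov M n →+* ℂ :=
  (algebraMap (cycField n) ℂ).comp (Ov M n).subtype

lemma oC_injective : Function.Injective (oC M n) := fun x y h =>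
  Subtype.ext ((algebraMap (cycField n) ℂ).injective h)

lemma oC_mem_place (x : Ov M n) : oC M n x ∈ place M := x.2

lemma oC_mem_cycField (x : Ov M n) : oC M n x ∈ cycField n := (x : cycField n).2

lemma exists_oC {z : ℂ} (h1 : z ∈ cycField n) (h2 : z ∈ place M) : ∃ x : Ov M n, oC M n x = z :=
  ⟨⟨⟨z, h1⟩, h2⟩, rfl⟩

lemma isUnit_iff_not_small (x : Ov M n) : IsUnit x ↔ ¬ Small M (oC M n x) := by
  constructor
  · rintro ⟨u, rfl⟩ hs
    refine not_small_one (M := M) ?_
    have : oC M n (u : Ov M n) * oC M n ((u⁻¹ : (Ov M n)ˣ) : Ov M n) = 1 := by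
      rw [← map_mul, Units.mul_inv, map_one]
    rw [← this]
    exact hs.mul_mem (oC_mem_place _)
  · intro h
    have hu : IsUnitAt M (oC M n x) := isUnitAt_iff.2 ⟨oC_mem_place x, h⟩
    have h1 : (oC M n x)⁻¹ ∈ cycField n := inv_mem (oC_mem_cycField x)
    obtain ⟨y, hy⟩ := exists_oC h1 hu.inv.mem_place
    refine IsUnit.of_mul_eq_one y (oC_injective ?_)
    rw [map_mul, map_one, hy, mul_inv_cancel₀ hu.ne_zero]

/-- The residue map into the residue field of the place. -/
noncomputable def ovRes (M : Ideal AlgInt) (n : ℕ) : Ov M n →+* Res M :=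
  (IsLocalRing.residue (place M)).comp
    ((oC M n).codRestrict (place M).toSubring oC_mem_place)

lemma ovRes_apply (x : Ov M n) : ovRes M n x = res M (oC M n x) :=
  (res_coe ⟨oC M n x, oC_mem_place x⟩).symm

instance : IsLocalHom (ovRes M n) := ⟨fun x hx => by
  rw [isUnit_iff_not_small, ← res_eq_zero_iff (oC_mem_place x), ← ovRes_apply]
  exact hx.ne_zero⟩

/-- The residue field embeds into that of the place. -/
noncomputable def ovResMap (M : Ideal AlgInt) (n : ℕ) :
    IsLocalRing.ResidueField (Ov M n) →+* Res M :=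
  IsLocalRing.ResidueField.lift (ovRes M n)

lemma ovResMap_residue (x : Ov M n) :
    ovResMap M n (IsLocalRing.residue _ x) = res M (oC M n x) := by
  rw [← ovRes_apply]
  rfl

lemma residue_eq_iff (x y : Ov M n) :
    IsLocalRing.residue _ x = IsLocalRing.residue _ y ↔ Small M (oC M n x - oC M n y) := by
  rw [← (ovResMap M n).injective.eq_iff, ovResMap_residue, ovResMap_residue,
    res_eq_iff (oC_mem_place x) (oC_mem_place y)]

lemma residue_eq_zero_iff_small (x : Ov M n) :
    IsLocalRing.residue _ x = 0 ↔ Small M (oC M n x) := by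
  simpa using residue_eq_iff x 0

/-- A root of unity of order `n`, as an element of the valuation ring. -/
lemma exists_oC_zeta (hM : IsPModular p M) [NeZero n] : ∃ x : Ov M n, oC M n x = zetaC n :=
  exists_oC (IntermediateField.mem_adjoin_simple_self ℚ _)
    (isUnitAt_of_pow_eq_one hM (NeZero.ne n) (isPrimitiveRoot_zetaC n).pow_eq_one).mem_place

/-- There are at least `n` residues. -/
lemma exists_scalars (hM : IsPModular p M) (hn : ¬ p ∣ n) :
    ∃ v : Fin n → IsLocalRing.ResidueField (Ov M n), Function.Injective v := by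
  have : NeZero n := ⟨fun h => hn (h ▸ dvd_zero p)⟩
  obtain ⟨w, hw⟩ := exists_oC_zeta (M := M) (n := n) hM
  have hz := isPrimitiveRoot_zetaC n
  refine ⟨fun i => IsLocalRing.residue _ (w ^ (i : ℕ)), fun i j hij => ?_⟩
  have hij' : Small M (zetaC n ^ (i : ℕ) - zetaC n ^ (j : ℕ)) := by
    have := (residue_eq_iff _ _).1 hij
    rwa [map_pow, map_pow, hw] at this
  clear hij
  rename' hij' => hij
  wlog hle : (i : ℕ) ≤ j generalizing i j
  · exact (this j i (by rw [← neg_sub]; exact hij.neg) (Nat.le_of_not_le hle)).symm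
  set z := zetaC n
  have hu : IsUnitAt M (z ^ (i : ℕ)) := isUnitAt_of_pow_eq_one hM (NeZero.ne n)
    (by rw [← pow_mul, mul_comm, pow_mul, hz.pow_eq_one, one_pow])
  have h1 : Small M (z ^ ((j : ℕ) - i) - 1) := by
    have : z ^ ((j : ℕ) - i) - 1 = (-(z ^ (i : ℕ))⁻¹) * (z ^ (i : ℕ) - z ^ (j : ℕ)) := by
      rw [← pow_mul_pow_sub z hle]
      field_simp [hu.ne_zero]
      ring
    rw [this]
    exact hij.mem_mul (neg_mem hu.inv.mem_place)
  have h2 := eq_one_of_small_sub_one hM hn
    (by rw [← pow_mul, mul_comm, pow_mul, hz.pow_eq_one, one_pow]) h1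
  exact Fin.ext (hz.pow_inj i.2 j.2 (by rw [← pow_mul_pow_sub z hle, h2, mul_one]))

/-! ### Discreteness -/

lemma exists_pow_fixed [NeZero n] (hp : p.Prime) (hn : ¬ p ∣ n) :
    ∃ f : ℕ, 0 < f ∧ p ^ f % n = 1 % n :=
  ⟨n.totient, Nat.totient_pos.2 (NeZero.pos n),
    Nat.ModEq.pow_totient (hp.coprime_iff_not_dvd.2 hn)⟩

/-- The Frobenius power fixes the cyclotomic integers modulo `p`. -/
lemma exists_frob (hp : p.Prime) {f : ℕ} (hf : p ^ f % n = 1 % n) [NeZero n] {y : ℂ}
    (hy : y ∈ Subring.closure ({zetaC n} : Set ℂ)) :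
    ∃ r ∈ Subring.closure ({zetaC n} : Set ℂ), y ^ p ^ f = y + (p : ℂ) * r := by
  set R := Subring.closure ({zetaC n} : Set ℂ) with hR
  have hz := isPrimitiveRoot_zetaC n
  induction hy using Subring.closure_induction with
  | mem x hx =>
    rw [Set.mem_singleton_iff] at hx
    subst hx
    refine ⟨0, R.zero_mem, ?_⟩
    rw [mul_zero, add_zero]
    conv_rhs => rw [← pow_one (zetaC n)]
    exact pow_eq_pow_of_modEq hf hz.pow_eq_one
  | zero => exact ⟨0, R.zero_mem, by simp [hp.ne_zero]⟩
  | one => exact ⟨0, R.zero_mem, by simp⟩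
  | add a b ha hb iha ihb =>
    obtain ⟨r, hr, e1⟩ := iha
    obtain ⟨s, hs, e2⟩ := ihb
    obtain ⟨c, hc⟩ := exists_add_pow_prime_pow_eq hp (⟨a, ha⟩ : R) ⟨b, hb⟩ f
    have hc' : (a + b) ^ p ^ f = a ^ p ^ f + b ^ p ^ f + (p : ℂ) * a * b * (c : ℂ) := by
      simpa using congrArg (fun z : R => (z : ℂ)) hc
    refine ⟨r + s + a * b * (c : ℂ),
      R.add_mem (R.add_mem hr hs) (R.mul_mem (R.mul_mem ha hb) c.2), ?_⟩
    rw [hc', e1, e2]
    ring
  | neg a ha iha =>
    obtain ⟨r, hr, e1⟩ := iha
    rcases hp.eq_two_or_odd' with h2 | hodd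
    · subst h2
      rcases Nat.eq_zero_or_pos f with h0 | h0
      · exact ⟨0, R.zero_mem, by simp [h0]⟩
      · refine ⟨r + a, R.add_mem hr ha, ?_⟩
        rw [(Nat.even_pow.2 ⟨even_two, h0.ne'⟩).neg_pow, e1]
        push_cast
        ring
    · refine ⟨-r, R.neg_mem hr, ?_⟩
      rw [(hodd.pow).neg_pow, e1]
      ring
  | mul a b ha hb iha ihb =>
    obtain ⟨r, hr, e1⟩ := iha
    obtain ⟨s, hs, e2⟩ := ihb
    refine ⟨a * s + r * b + (p : ℕ) * r * s,
      R.add_mem (R.add_mem (R.mul_mem ha hs) (R.mul_mem hr hb))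
        (R.mul_mem (R.mul_mem (natCast_mem R p) hr) hs), ?_⟩
    rw [mul_pow, e1, e2]
    ring

lemma isIntegral_of_mem_closure [NeZero n] {y : ℂ}
    (hy : y ∈ Subring.closure ({zetaC n} : Set ℂ)) : IsIntegral ℤ y := by
  have : Subring.closure ({zetaC n} : Set ℂ) ≤ (integralClosure ℤ ℂ).toSubring :=
    Subring.closure_le.2 (Set.singleton_subset_iff.2
      ((isPrimitiveRoot_zetaC n).isIntegral (NeZero.pos n)))
  exact this hy

/-- The valuation of a cyclotomic integer is a power of that of `p`. -/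
lemma exists_valuation_eq_pow (hM : IsPModular p M) (hn : ¬ p ∣ n) [NeZero n] {y : ℂ}
    (hy : y ∈ Subring.closure ({zetaC n} : Set ℂ)) (hy0 : y ≠ 0) :
    ∃ k : ℕ, (place M).valuation y = (place M).valuation (p : ℂ) ^ k := by
  obtain ⟨f, hf0, hf⟩ := exists_pow_fixed hM.1 hn
  have key : ∀ m : ℕ, ∀ y ∈ Subring.closure ({zetaC n} : Set ℂ),
      (place M).valuation (p : ℂ) ^ m ≤ (place M).valuation y →
      ∃ k : ℕ, (place M).valuation y = (place M).valuation (p : ℂ) ^ k := by
    intro m
    induction m with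
    | zero =>
      intro y hy h
      refine ⟨0, ?_⟩
      rw [pow_zero] at h ⊢
      exact le_antisymm (((place M).valuation_le_one_iff y).2
        (isIntegral_mem_place hM (isIntegral_of_mem_closure hy))) h
    | succ m ih =>
      intro y hy h
      have hint := isIntegral_mem_place hM (isIntegral_of_mem_closure hy)
      by_cases hs : Small M y
      · obtain ⟨r, hr, e⟩ := exists_frob hM.1 hf hy
        have hq : 2 ≤ p ^ f := le_trans hM.1.two_le (Nat.le_self_pow hf0.ne' p)
        have hu : IsUnitAt M (y ^ (p ^ f - 1) - 1) := by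
          refine isUnitAt_iff.2 ⟨sub_mem (pow_mem hint _) (one_mem _), fun h' => ?_⟩
          have h1 : Small M (y ^ (p ^ f - 1)) := by
            obtain ⟨j, hj⟩ := Nat.exists_eq_add_of_le (show 1 ≤ p ^ f - 1 by omega)
            rw [hj, pow_add, pow_one]
            exact hs.mul_mem (pow_mem hint _)
          refine not_small_one (M := M) ?_
          simpa using h1.sub h'
        have e' : y * (y ^ (p ^ f - 1) - 1) = (p : ℂ) * r := by
          rw [mul_sub, mul_one, ← pow_succ', Nat.sub_add_cancel (by omega), e]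
          ring
        have hv : (place M).valuation y = (place M).valuation (p : ℂ) * (place M).valuation r := by
          have := congrArg (place M).valuation e'
          rw [map_mul, map_mul, (hu : (place M).valuation _ = 1), mul_one] at this
          exact this
        rw [hv, pow_succ'] at h
        obtain ⟨k, hk⟩ := ih r hr (le_of_mul_le_mul_left h (valuation_prime_pos hM))
        exact ⟨k + 1, by rw [hv, hk, pow_succ']⟩
      · exact ⟨0, by rw [pow_zero]; exact isUnitAt_iff.2 ⟨hint, hs⟩⟩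
  have hyi := isIntegral_of_mem_closure hy
  set q := minpoly ℤ y
  have hc : q.coeff 0 ≠ 0 := fun h0 => by
    refine minpoly.coeff_zero_ne_zero (A := ℚ) hyi.tower_top hy0 ?_
    rw [minpoly.isIntegrallyClosed_eq_field_fractions' ℚ hyi, coeff_map]
    exact (congrArg _ h0).trans (map_zero _)
  have hq : y * (aeval y q.divX) = -(q.coeff 0 : ℂ) := by
    have h : aeval y q = 0 := minpoly.aeval ℤ y
    rw [← q.X_mul_divX_add, map_add, map_mul, aeval_X, aeval_C] at h
    rw [eq_neg_iff_add_eq_zero]
    simpa using h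
  refine key ((q.coeff 0).natAbs.factorization p) y hy ?_
  have habs : (place M).valuation (q.coeff 0 : ℂ) =
      (place M).valuation ((q.coeff 0).natAbs : ℂ) := by
    rcases Int.natAbs_eq (q.coeff 0) with h | h
    · conv_lhs => rw [h]
      simp
    · conv_lhs => rw [h]
      simp
  rw [← valuation_natCast hM (by simpa using hc), ← habs, ← (place M).valuation.map_neg, ← hq,
    map_mul]
  refine mul_le_of_le_one_right' (((place M).valuation_le_one_iff _).2 ?_)
  refine isIntegral_mem_place hM ?_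
  have : aeval y q.divX ∈ integralClosure ℤ ℂ := by
    rw [aeval_eq_sum_range]
    exact sum_mem fun i _ => Subalgebra.smul_mem _ (pow_mem hyi i) _
  exact this

/-- An element of the cyclotomic field is a quotient of cyclotomic integers. -/
lemma exists_div_closure [NeZero n] {z : ℂ} (hz : z ∈ cycField n) :
    ∃ a ∈ Subring.closure ({zetaC n} : Set ℂ), ∃ b ∈ Subring.closure ({zetaC n} : Set ℂ),
      z = a / b := by
  have hle : (cycField n).toSubfield ≤ Subfield.closure ({zetaC n} : Set ℂ) := by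
    rw [cycField, IntermediateField.adjoin_toSubfield, Subfield.closure_le, Set.union_subset_iff]
    refine ⟨?_, Subfield.subset_closure⟩
    rintro _ ⟨q, rfl⟩
    simp only [eq_ratCast]
    exact SubfieldClass.ratCast_mem _ q
  obtain ⟨a, ha, b, hb, h⟩ := Subfield.mem_closure_iff.1 (hle hz)
  exact ⟨a, ha, b, hb, h.symm⟩

/-- The nonzero valuations of the cyclotomic field are the powers of that of `p`. -/
lemma exists_valuation_zpow (hM : IsPModular p M) (hn : ¬ p ∣ n) [NeZero n] {z : ℂ}
    (hz : z ∈ cycField n) (hz0 : z ≠ 0) :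
    ∃ k : ℤ, (place M).valuation z = (place M).valuation (p : ℂ) ^ k := by
  obtain ⟨a, ha, b, hb, rfl⟩ := exists_div_closure hz
  obtain ⟨i, hi⟩ := exists_valuation_eq_pow hM hn ha (fun h => hz0 (by simp [h]))
  obtain ⟨j, hj⟩ := exists_valuation_eq_pow hM hn hb (fun h => hz0 (by simp [h]))
  exact ⟨(i : ℤ) - j, by
    rw [map_div₀, hi, hj, zpow_sub₀ (valuation_prime_pos hM).ne', zpow_natCast, zpow_natCast]⟩

lemma zpow_valuation_le_one_iff (hM : IsPModular p M) (k : ℤ) :
    (place M).valuation (p : ℂ) ^ k ≤ 1 ↔ 0 ≤ k := by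
  rcases Int.eq_nat_or_neg k with ⟨m, rfl | rfl⟩
  · rw [zpow_natCast]
    exact iff_of_true (pow_le_one₀ zero_le (valuation_prime_lt_one hM).le) (Int.natCast_nonneg m)
  · rw [zpow_neg, zpow_natCast, inv_le_one₀ (pow_pos (valuation_prime_pos hM) m)]
    have := valuation_prime_pow_le_iff hM 0 m
    rw [pow_zero] at this
    rw [this]
    omega

theorem exists_associated_pow (hM : IsPModular p M) (hn : ¬ p ∣ n) {x : Ov M n} (hx : x ≠ 0) :
    ∃ k : ℕ, Associated ((p : Ov M n) ^ k) x := by
  have : NeZero n := ⟨fun h => hn (h ▸ dvd_zero p)⟩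
  have hx0 : oC M n x ≠ 0 := fun h => hx (oC_injective (by rw [h, map_zero]))
  obtain ⟨k, hk⟩ := exists_valuation_zpow hM hn (oC_mem_cycField x) hx0
  have hk0 : 0 ≤ k := (zpow_valuation_le_one_iff hM k).1
    (hk ▸ ((place M).valuation_le_one_iff _).2 (oC_mem_place x))
  obtain ⟨m, rfl⟩ := Int.eq_ofNat_of_zero_le hk0
  rw [zpow_natCast] at hk
  have hu : IsUnitAt M (oC M n x / (p : ℂ) ^ m) := by
    unfold IsUnitAt
    rw [map_div₀, hk, map_pow, div_self (pow_ne_zero _ (valuation_prime_pos hM).ne')]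
  obtain ⟨u, hu'⟩ := exists_oC (M := M)
    (div_mem (oC_mem_cycField x) (pow_mem (natCast_mem (cycField n) p) m)) hu.mem_place
  have huu : IsUnit u := (isUnit_iff_not_small u).2 (hu' ▸ hu.not_small)
  refine ⟨m, huu.unit, oC_injective ?_⟩
  rw [IsUnit.unit_spec, map_mul, map_pow, map_natCast, hu',
    mul_div_cancel₀ _ (pow_ne_zero _ (Nat.cast_ne_zero.2 hM.1.ne_zero))]

theorem isDVR (hM : IsPModular p M) (hn : ¬ p ∣ n) : IsDiscreteValuationRing (Ov M n) := by
  refine IsDiscreteValuationRing.ofHasUnitMulPowIrreducibleFactorization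
    ⟨(p : Ov M n), irreducible_iff.2 ⟨fun h => ?_, fun a b hab => ?_⟩,
      fun {x} hx => exists_associated_pow hM hn hx⟩
  · rw [isUnit_iff_not_small, map_natCast] at h
    exact h (small_prime hM)
  · have hp0 : (p : Ov M n) ≠ 0 := fun h => hM.1.ne_zero (by
      have := congrArg (oC M n) h
      simpa using this)
    have ha : a ≠ 0 := fun h => hp0 (by rw [hab, h, zero_mul])
    have hb : b ≠ 0 := fun h => hp0 (by rw [hab, h, mul_zero])
    obtain ⟨i, u, hu⟩ := exists_associated_pow hM hn ha
    obtain ⟨j, v, hv⟩ := exists_associated_pow hM hn hb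
    rcases Nat.eq_zero_or_pos i with rfl | hi
    · left
      rw [← hu, pow_zero, one_mul]
      exact u.isUnit
    rcases Nat.eq_zero_or_pos j with rfl | hj
    · right
      rw [← hv, pow_zero, one_mul]
      exact v.isUnit
    exfalso
    have h1 : (p : Ov M n) * 1 =
        (p : Ov M n) * ((p : Ov M n) ^ (i - 1 + j) * ↑(u * v)) := by
      conv_lhs => rw [mul_one, hab, ← hu, ← hv]
      rw [← mul_assoc (p : Ov M n), ← pow_succ', Units.val_mul, show i - 1 + j + 1 = i + j by omega, pow_add]
      ring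
    have h2 : IsUnit ((p : Ov M n)) := by
      have := mul_left_cancel₀ hp0 h1
      refine isUnit_of_dvd_one ?_
      rw [this]
      exact Dvd.dvd.mul_right (dvd_pow_self _ (by omega)) _
    rw [isUnit_iff_not_small, map_natCast] at h2
    exact h2 (small_prime hM)

theorem maximalIdeal_eq (hM : IsPModular p M) (hn : ¬ p ∣ n) :
    IsLocalRing.maximalIdeal (Ov M n) = Ideal.span {(p : Ov M n)} := by
  refine le_antisymm (fun x hx => ?_) ((Ideal.span_singleton_le_iff_mem _).2 ?_)
  · rcases eq_or_ne x 0 with rfl | h0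
    · exact zero_mem _
    obtain ⟨k, u, hu⟩ := exists_associated_pow hM hn h0
    rcases Nat.eq_zero_or_pos k with rfl | hk
    · rw [← hu, pow_zero, one_mul] at hx
      exact absurd u.isUnit ((IsLocalRing.mem_maximalIdeal _).1 hx)
    · rw [Ideal.mem_span_singleton, ← hu]
      exact Dvd.dvd.mul_right (dvd_pow_self _ hk.ne') _
  · rw [IsLocalRing.mem_maximalIdeal, mem_nonunits_iff, isUnit_iff_not_small, map_natCast,
      not_not]
    exact small_prime hM

/-! ### Adjoining a `p`-th root of unity -/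

/-- Powers of `ζ - 1` below `p - 1` span the larger cyclotomic field over the smaller one. -/
lemma exists_pi_expansion (hp : p.Prime) (hn : ¬ p ∣ n) [NeZero n] {z : ℂ}
    (hz : z ∈ cycField (p * n)) : ∃ k : ℕ → ℂ, (∀ i, k i ∈ cycField n) ∧
      z = ∑ i ∈ Finset.range (p - 1), k i * (zetaC p - 1) ^ i := by
  have : NeZero p := ⟨hp.ne_zero⟩
  have := Fact.mk hp
  set π := zetaC p - 1
  set S := Algebra.adjoin (cycField n) ({π} : Set ℂ)
  have hζ : zetaC p ∈ S := by
    have := S.add_mem (Algebra.self_mem_adjoin_singleton (cycField n) π) S.one_mem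
    simpa [π] using this
  have hω : zetaC n ∈ S :=
    S.algebraMap_mem (⟨zetaC n, IntermediateField.mem_adjoin_simple_self ℚ _⟩ : cycField n)
  -- a primitive root of order `p * n` is a product of roots of orders `p` and `n`
  have hzeta : zetaC (p * n) ∈ S := by
    have hpn := isPrimitiveRoot_zetaC (p * n)
    have hcop : Nat.Coprime p n := hp.coprime_iff_not_dvd.2 hn
    have hP : IsPrimitiveRoot (zetaC p * zetaC n) (p * n) := by
      have h1 := (isPrimitiveRoot_zetaC p)
      have h2 := (isPrimitiveRoot_zetaC n)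
      have ho : orderOf (zetaC p * zetaC n) = p * n := by
        rw [(Commute.all _ _).orderOf_mul_eq_mul_orderOf_of_coprime
          (by rw [← h1.eq_orderOf, ← h2.eq_orderOf]; exact hcop), ← h1.eq_orderOf,
          ← h2.eq_orderOf]
      exact ho ▸ IsPrimitiveRoot.orderOf _
    obtain ⟨i, -, hi⟩ := hP.eq_pow_of_pow_eq_one hpn.pow_eq_one
    rw [← hi]
    exact S.pow_mem (S.mul_mem hζ hω) i
  have hzS : z ∈ S := by
    have hle : (cycField (p * n)).toSubalgebra ≤ S.restrictScalars ℚ := by
      rw [cycField, IntermediateField.adjoin_simple_toSubalgebra_of_isAlgebraic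
        (((isPrimitiveRoot_zetaC (p * n)).isIntegral (NeZero.pos _)).tower_top.isAlgebraic)]
      exact Algebra.adjoin_le (Set.singleton_subset_iff.2 hzeta)
    exact hle hz
  have hz' : z ∈ (Polynomial.aeval (R := cycField n) π).range := by
    rw [← Algebra.adjoin_singleton_eq_range_aeval]; exact hzS
  obtain ⟨g, rfl⟩ := hz'
  set Q : (cycField n)[X] := (cyclotomic p (cycField n)).comp (X + C 1) with hQ
  have hQm : Q.Monic := (cyclotomic.monic _ _).comp_X_add_C _
  have hQd : Q.natDegree = p - 1 := by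
    rw [hQ, natDegree_comp, natDegree_X_add_C, mul_one, natDegree_cyclotomic,
      Nat.totient_prime hp]
  have hQ0 : aeval π Q = 0 := by
    rw [hQ, aeval_comp]
    simp only [map_add, aeval_X, aeval_C, map_one, π, sub_add_cancel]
    have := (isPrimitiveRoot_zetaC p).isRoot_cyclotomic hp.pos
    rw [← aeval_map_algebraMap ℂ, map_cyclotomic, coe_aeval_eq_eval]
    exact this
  have hmod : aeval π (g %ₘ Q) = aeval π g := by
    conv_rhs => rw [← modByMonic_add_div g Q]
    simp [hQ0]
  refine ⟨fun i => ((g %ₘ Q).coeff i : ℂ), fun i => ((g %ₘ Q).coeff i).2, ?_⟩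
  show aeval π g = _
  rw [← hmod, aeval_eq_sum_range' (n := p - 1) ?_]
  · rfl
  · refine lt_of_lt_of_eq ?_ hQd
    exact natDegree_modByMonic_lt g hQm (fun h => by
      rw [h, natDegree_one] at hQd
      have := hp.two_le
      omega)

lemma valuation_pi_pow (hM : IsPModular p M) :
    (place M).valuation (zetaC p - 1) ^ (p - 1) = (place M).valuation (p : ℂ) := by
  have : NeZero p := ⟨hM.1.ne_zero⟩
  set v := (place M).valuation
  have hζ := isPrimitiveRoot_zetaC p
  obtain ⟨q, rfl⟩ : ∃ q, p = q + 1 := ⟨p - 1, (Nat.sub_add_cancel hM.1.one_le).symm⟩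
  rw [Nat.add_sub_cancel]
  have hprod := hζ.prod_one_sub_pow_eq_order
  have hmem : zetaC (q + 1) ∈ place M :=
    (isUnitAt_of_pow_eq_one hM (Nat.succ_ne_zero q) hζ.pow_eq_one).mem_place
  have hk : ∀ k ∈ Finset.range q,
      v (1 - zetaC (q + 1) ^ (k + 1)) = v (zetaC (q + 1) - 1) := by
    intro k hk
    rw [Finset.mem_range] at hk
    have hcop : Nat.Coprime (k + 1) (q + 1) := Nat.Coprime.symm (hM.1.coprime_iff_not_dvd.2
      fun h => by have := Nat.le_of_dvd (Nat.succ_pos k) h; omega)
    have hk' := hζ.pow_of_coprime (k + 1) hcop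
    refine le_antisymm ?_ ?_
    · have : 1 - zetaC (q + 1) ^ (k + 1) =
          (zetaC (q + 1) - 1) * -(∑ j ∈ Finset.range (k + 1), zetaC (q + 1) ^ j) := by
        rw [mul_neg, mul_geom_sum, neg_sub]
      rw [this, map_mul]
      exact mul_le_of_le_one_right' (((place M).valuation_le_one_iff _).2
        (neg_mem (sum_mem fun j _ => pow_mem hmem j)))
    · obtain ⟨a, -, ha⟩ := hk'.eq_pow_of_pow_eq_one hζ.pow_eq_one
      have : zetaC (q + 1) - 1 = (1 - zetaC (q + 1) ^ (k + 1)) *
          -(∑ j ∈ Finset.range a, (zetaC (q + 1) ^ (k + 1)) ^ j) := by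
        rw [mul_neg, mul_comm, ← neg_mul, neg_mul, ← mul_neg, neg_sub, geom_sum_mul, ha]
      rw [this, map_mul]
      exact mul_le_of_le_one_right' (((place M).valuation_le_one_iff _).2
        (neg_mem (sum_mem fun j _ => pow_mem (pow_mem hmem _) j)))
  have := congrArg v hprod
  rw [map_prod, Finset.prod_congr rfl hk, Finset.prod_const, Finset.card_range] at this
  rw [this]
  norm_cast

/-- An element of the larger field integral at the place is congruent to its conjugates over
the smaller field. -/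
theorem small_sub_conj (hM : IsPModular p M) (hn : ¬ p ∣ n) [NeZero n] {z : ℂ}
    (hz : z ∈ cycField (p * n)) (hzp : z ∈ place M) (σ : ℂ ≃+* ℂ)
    (hσ : ∀ x ∈ cycField n, σ x = x) : Small M (σ z - z) := by
  obtain ⟨k, hk, rfl⟩ := exists_pi_expansion hM.1 hn hz
  set v := (place M).valuation with hv
  set π := zetaC p - 1 with hπ
  have hπp := valuation_pi_pow hM
  have hp1 : p - 1 ≠ 0 := by have := hM.1.two_le; omega
  have hπ0 : π ≠ 0 := fun h => by
    rw [← hπ, h, map_zero, zero_pow hp1] at hπp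
    exact (valuation_prime_pos hM).ne' hπp.symm
  have hπs : Small M π := by
    rw [small_iff]
    by_contra h
    rw [not_lt] at h
    exact absurd (valuation_prime_lt_one hM) (not_lt.2 (hπp ▸ one_le_pow₀ h))
  -- distinct terms have distinct valuations
  have hdist : ∀ i ∈ Finset.range (p - 1), ∀ j ∈ Finset.range (p - 1), k i ≠ 0 → k j ≠ 0 →
      v (k i * π ^ i) = v (k j * π ^ j) → i = j := by
    intro i hi j hj hi0 hj0 e
    obtain ⟨a, ha⟩ := exists_valuation_zpow hM hn (hk i) hi0
    obtain ⟨b, hb⟩ := exists_valuation_zpow hM hn (hk j) hj0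
    rw [Finset.mem_range] at hi hj
    rw [map_mul, map_mul, map_pow, map_pow, ha, hb] at e
    have hvπ : v π ≠ 0 := (Valuation.ne_zero_iff _).2 hπ0
    rw [← hπp, ← zpow_natCast, ← zpow_natCast _ i, ← zpow_natCast _ j,
      ← zpow_mul, ← zpow_mul, ← zpow_add₀ hvπ, ← zpow_add₀ hvπ] at e
    have hinj := zpow_right_injective₀ (zero_lt_iff.2 hvπ) (ne_of_lt (small_iff.1 hπs)) e
    have hdvd : ((p - 1 : ℕ) : ℤ) ∣ (i : ℤ) - j := ⟨b - a, by rw [mul_sub]; linarith⟩
    have := Int.eq_zero_of_abs_lt_dvd hdvd (by rw [abs_lt]; omega)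
    omega
  have hsum : v (∑ i ∈ Finset.range (p - 1), k i * π ^ i) ≤ 1 :=
    ((place M).valuation_le_one_iff _).2 hzp
  have hterm : ∀ i ∈ Finset.range (p - 1), k i * π ^ i ∈ place M := by
    intro i hi
    by_contra hni
    have hne : (Finset.range (p - 1)).Nonempty := ⟨i, hi⟩
    obtain ⟨j, hj, hmax⟩ := Finset.exists_max_image _ (fun l => v (k l * π ^ l)) hne
    have hj1 : 1 < v (k j * π ^ j) :=
      lt_of_lt_of_le (not_le.1 fun h => hni (((place M).valuation_le_one_iff _).1 h)) (hmax i hi)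
    refine absurd hsum (not_le.2 ?_)
    rw [Valuation.map_sum_eq_of_lt v hj fun l hl => ?_]
    · exact hj1
    rw [Finset.mem_sdiff, Finset.mem_singleton] at hl
    refine lt_of_le_of_ne (hmax l hl.1) fun e => hl.2 ?_
    refine hdist l hl.1 j hj ?_ ?_ e
    · intro h
      rw [h, zero_mul, map_zero] at e
      exact (lt_trans zero_lt_one hj1).ne' e.symm
    · intro h
      rw [h, zero_mul, map_zero] at hj1
      exact not_lt.2 zero_le hj1
  have hki : ∀ i ∈ Finset.range (p - 1), k i ∈ place M := by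
    intro i hi
    rcases eq_or_ne (k i) 0 with h0 | h0
    · rw [h0]; exact zero_mem _
    obtain ⟨a, ha⟩ := exists_valuation_zpow hM hn (hk i) h0
    refine ((place M).valuation_le_one_iff _).1 (ha ▸ (zpow_valuation_le_one_iff hM a).2 ?_)
    by_contra ha0
    have h1 := ((place M).valuation_le_one_iff _).2 (hterm i hi)
    rw [Finset.mem_range] at hi
    have hvπ : v π ≠ 0 := (Valuation.ne_zero_iff _).2 hπ0
    rw [map_mul, map_pow, ha, ← hπp, ← zpow_natCast, ← zpow_natCast _ i, ← zpow_mul,
      ← zpow_add₀ hvπ] at h1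
    have := (zpow_le_one_iff_right_of_lt_one₀ (zero_lt_iff.2 hvπ) (small_iff.1 hπs)).1 h1
    nlinarith
  rw [map_sum, ← Finset.sum_sub_distrib]
  refine small_sum _ _ fun i hi => ?_
  rw [map_mul, hσ _ (hk i), map_pow, ← mul_sub]
  refine Small.mem_mul ?_ (hki i hi)
  rcases Nat.eq_zero_or_pos i with rfl | hi0
  · simpa using small_zero (M := M)
  have hσπ : Small M (σ π) := by
    have hζ := (@isPrimitiveRoot_zetaC p ⟨hM.1.ne_zero⟩)
    have : NeZero p := ⟨hM.1.ne_zero⟩
    obtain ⟨a, -, ha⟩ := ((@isPrimitiveRoot_zetaC p ⟨hM.1.ne_zero⟩)).eq_pow_of_pow_eq_one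
      (ξ := σ (zetaC p)) (by rw [← map_pow, hζ.pow_eq_one, map_one])
    have : σ π = π * ∑ j ∈ Finset.range a, zetaC p ^ j := by
      rw [hπ, mul_geom_sum, ha, map_sub, map_one]
    rw [this]
    exact hπs.mul_mem (sum_mem fun j _ => pow_mem
      (isUnitAt_of_pow_eq_one hM hM.1.ne_zero hζ.pow_eq_one).mem_place j)
  obtain ⟨l, rfl⟩ : ∃ l, i = l + 1 := ⟨i - 1, by omega⟩
  rw [pow_succ, pow_succ]
  exact (hσπ.mem_mul (pow_mem hσπ.mem_place l)).sub (hπs.mem_mul (pow_mem hπs.mem_place l))

end Cfsg.Lib.Blocks
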