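import Mathlib
import Cfsg.Agent.Blocks.Idem
import Cfsg.Agent.Blocks.Unramified
import Cfsg.Agent.Blocks.HerbrandBoundGroup

/-!
# The lattice of a family of algebraically conjugate characters

A family `S` of characters conjugate over the field of `n`-th roots of unity (`p ∤ n`), with
values summing into that field, spans a lattice over the unramified valuation ring whose
endomorphisms have at most as many residual eigenvalues as the common degree.
-/

set_option autoImplicit false
set_option linter.unusedSectionVars false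

namespace Cfsg.Lib.Blocks

open Cfsg.Lib.Chars Polynomial Module
open scoped ComplexConjugate

universe u

variable {G : Type u} [Group G] [Fintype G] {M : Ideal AlgInt} {p n : ℕ}

/-! ### Eigenvalues of a character on a group algebra element -/

lemma fn_blockElem_single (χ : IrrCharacter G) (g : G) :
    fn (blockElem ({χ} : Set (IrrCharacter G))) g =
      (Nat.card G : ℂ)⁻¹ * ((χ : G → ℂ) 1 * (χ : G → ℂ) g⁻¹) := by
  classical
  rw [fn_blockElem, blockCoeff]
  congr 1
  rw [finsum_mem_singleton, IsCharacter.conj_inv (isCharacter_of_irr χ.2)]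

lemma blockElem_single_mul_eq_zero (χ : IrrCharacter G) {n : ℕ}
    (ρ : Representation ℂ G (Fin n → ℂ)) (hρ : ρ.character = (χ : G → ℂ))
    {a : MonoidAlgebra ℂ G} (ha : ρ.asAlgebraHom a = 0) :
    blockElem ({χ} : Set (IrrCharacter G)) * a = 0 := by
  classical
  refine fn_ext fun g => ?_
  have h0 : chiEval (χ : G → ℂ) (a * MonoidAlgebra.single g⁻¹ 1) = 0 := by
    rw [← hρ, ← trace_asAlgebraHom, map_mul, ha, zero_mul, map_zero]
  rw [fn_mul', fn_zero]
  simp only [fn_blockElem_single, mul_inv_rev, inv_inv, mul_assoc]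
  rw [← Finset.mul_sum]
  simp only [← Finset.mul_sum]
  refine mul_eq_zero_of_right _ (mul_eq_zero_of_right _ ?_)
  rw [← h0, chiEval]
  refine Fintype.sum_bijective (fun h => h * g⁻¹) (Group.mulRight_bijective _) _ _ fun h => ?_
  rw [fn_mul_single, inv_inv, inv_mul_cancel_right]
  ring

lemma charDegree_of_eq {χ : G → ℂ} {d : ℕ} (h : χ 1 = d) : charDegree χ = d := by
  simp [charDegree, h]

/-- A monic polynomial of degree `χ(1)` kills an element on the component of `χ`. -/
lemma exists_monic_kill (χ : IrrCharacter G) (a : MonoidAlgebra ℂ G) :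
    ∃ f : ℂ[X], f.Monic ∧ f.natDegree = charDegree (χ : G → ℂ) ∧
      blockElem ({χ} : Set (IrrCharacter G)) * aeval a f = 0 := by
  obtain ⟨d, ρ, hirr, hρ⟩ := χ.2
  refine ⟨(ρ.asAlgebraHom a).charpoly, LinearMap.charpoly_monic _, ?_, ?_⟩
  · rw [LinearMap.charpoly_natDegree]
    refine (charDegree_of_eq ?_).symm
    rw [← hρ, Representation.char_one]
  · refine blockElem_single_mul_eq_zero χ ρ hρ ?_
    rw [← aeval_algHom_apply, LinearMap.aeval_self_charpoly]

lemma mul_aeval_apply (u a : MonoidAlgebra ℂ G) {z : ℂ} (h : u * a = z • u) (f : ℂ[X]) :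
    u * aeval a f = f.eval z • u := by
  induction f using Polynomial.induction_on with
  | C c => rw [aeval_C, eval_C, Algebra.algebraMap_eq_smul_one, mul_smul_comm, mul_one]
  | add f g hf hg => rw [map_add, mul_add, hf, hg, eval_add, add_smul]
  | monomial i c ih =>
    rw [pow_succ, ← mul_assoc, map_mul, aeval_X, ← mul_assoc, ih, smul_mul_assoc, h, smul_smul]
    simp only [eval_mul, eval_X]

/-- An eigenvalue of right multiplication by an integral element is integral. -/
lemma mem_place_of_eigen {u a : MonoidAlgebra ℂ G} (hu : u ≠ 0)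
    (ha : Integral M a) {z : ℂ} (h : u * a = z • u) : z ∈ place M := by
  classical
  obtain ⟨g, -, hmax⟩ := Finset.exists_max_image (Finset.univ : Finset G)
    (fun g => (place M).valuation (fn u g)) Finset.univ_nonempty
  have hg : fn u g ≠ 0 := fun h0 => hu (fn_ext fun h => by
    have := hmax h (Finset.mem_univ h)
    rw [h0, map_zero, le_zero_iff, map_eq_zero] at this
    rw [this, fn_zero])
  rw [← ValuationSubring.valuation_le_one_iff]
  have h1 : (place M).valuation (z * fn u g) ≤ (place M).valuation (fn u g) := by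
    rw [← fn_smul, ← h, fn_mul]
    refine Valuation.map_sum_le _ fun x _ => ?_
    rw [map_mul]
    exact le_trans (mul_le_of_le_one_right' (((place M).valuation_le_one_iff _).2 (ha _)))
      (hmax x (Finset.mem_univ x))
  rw [map_mul] at h1
  calc (place M).valuation z
      = (place M).valuation z * (place M).valuation (fn u g) / (place M).valuation (fn u g) := by
        rw [mul_div_cancel_right₀ _ ((Valuation.ne_zero_iff _).2 hg)]
    _ ≤ (place M).valuation (fn u g) / (place M).valuation (fn u g) :=
        div_le_div_of_nonneg_right h1 zero_le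
    _ = 1 := div_self ((Valuation.ne_zero_iff _).2 hg)

lemma mem_place_of_roots {μ : ℂ[X]} (hm : μ.Monic)
    (h : ∀ z, μ.IsRoot z → z ∈ place M) (i : ℕ) : μ.coeff i ∈ place M := by
  classical
  have hP : (μ.roots.map fun z => X - C z).prod = μ :=
    prod_multiset_X_sub_C_of_monic_of_roots_card_eq hm
      (splits_iff_card_roots.1 (IsAlgClosed.splits μ))
  rw [← hP]
  have : ∀ (s : Multiset ℂ), (∀ z ∈ s, z ∈ place M) →
      ∀ i, ((s.map fun z => X - C z).prod).coeff i ∈ place M := by
    intro s
    induction s using Multiset.induction with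
    | empty =>
      intro _ i
      rw [Multiset.map_zero, Multiset.prod_zero, coeff_one]
      split_ifs <;> simp [zero_mem, one_mem]
    | cons a s ih =>
      intro hs i
      rw [Multiset.map_cons, Multiset.prod_cons, sub_mul, coeff_sub, coeff_C_mul]
      refine sub_mem ?_ (mul_mem (hs a (Multiset.mem_cons_self a s))
        (ih (fun z hz => hs z (Multiset.mem_cons_of_mem hz)) i))
      cases i with
      | zero => rw [coeff_X_mul_zero]; exact zero_mem _
      | succ i =>
        rw [coeff_X_mul]
        exact ih (fun z hz => hs z (Multiset.mem_cons_of_mem hz)) i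
  exact this _ (fun z hz => h z (isRoot_of_mem_roots hz)) i

/-- A linear relation over `ℂ` between vectors over a subfield descends to the subfield. -/
lemma descend_relation {ι κ : Type*} [Fintype ι] (F : IntermediateField ℚ ℂ) (a : ι → κ → ℂ)
    (b : κ → ℂ) (ha : ∀ i g, a i g ∈ F) (hb : ∀ g, b g ∈ F) (c : ι → ℂ)
    (h : ∀ g, ∑ i, c i * a i g = b g) :
    ∃ c' : ι → ℂ, (∀ i, c' i ∈ F) ∧ ∀ g, ∑ i, c' i * a i g = b g := by
  obtain ⟨r, hr⟩ := (Algebra.linearMap F ℂ).exists_leftInverse_of_injective
    (LinearMap.ker_eq_bot.2 (algebraMap F ℂ).injective)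
  refine ⟨fun i => (r (c i) : ℂ), fun i => (r (c i)).2, fun g => ?_⟩
  have hrF : ∀ x : F, r (x : ℂ) = x := fun x => LinearMap.congr_fun hr x
  have h1 := congrArg (fun z => (r z : ℂ)) (h g)
  simp only [map_sum] at h1
  rw [show b g = ((⟨b g, hb g⟩ : F) : ℂ) from rfl, hrF] at h1
  rw [show b g = ((⟨b g, hb g⟩ : F) : ℂ) from rfl, ← h1]
  push_cast
  refine Finset.sum_congr rfl fun i _ => ?_
  rw [show c i * a i g = (⟨a i g, ha i g⟩ : F) • c i by
    rw [Algebra.smul_def, mul_comm]; rfl, map_smul, smul_eq_mul]
  push_cast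
  ring

lemma fn_pow_mem (F : IntermediateField ℚ ℂ) {a : MonoidAlgebra ℂ G} (ha : ∀ g, fn a g ∈ F)
    (k : ℕ) : ∀ g, fn (a ^ k) g ∈ F := by
  induction k with
  | zero =>
    intro g
    classical
    rw [pow_zero, fn_one]
    split_ifs <;> simp [zero_mem, one_mem]
  | succ k ih => intro g; rw [pow_succ, fn_mul]; exact sum_mem fun h _ => mul_mem (ih h) (ha _)

lemma mul_aeval_fn (e a : MonoidAlgebra ℂ G) (f : ℂ[X]) {N : ℕ} (hN : f.natDegree < N) (g : G) :
    fn (e * aeval a f) g = ∑ i ∈ Finset.range N, f.coeff i * fn (e * a ^ i) g := by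
  rw [aeval_eq_sum_range' hN, Finset.mul_sum, fn_sum]
  exact Finset.sum_congr rfl fun i _ => by rw [mul_smul_comm, fn_smul]

/-- A monic polynomial over the value field, with integral coefficients, killing an element on
the component of `χ` and on those of its conjugates. -/
theorem exists_kill_conj (χ : IrrCharacter G) {F : IntermediateField ℚ ℂ}
    (hχF : ∀ g, (χ : G → ℂ) g ∈ F) {a : MonoidAlgebra ℂ G} (haF : ∀ g, fn a g ∈ F)
    (haI : Integral M a) :
    ∃ μ : ℂ[X], μ.Monic ∧ μ.natDegree ≤ charDegree (χ : G → ℂ) ∧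
      (∀ i, μ.coeff i ∈ F ∧ μ.coeff i ∈ place M) ∧
      ∀ (σ : ℂ ≃+* ℂ) (ψ : IrrCharacter G), (∀ g, (ψ : G → ℂ) g = σ ((χ : G → ℂ) g)) →
        (∀ g, σ (fn a g) = fn a g) →
          blockElem ({ψ} : Set (IrrCharacter G)) * aeval a (μ.map σ.toRingHom) = 0 := by
  classical
  set e := blockElem ({χ} : Set (IrrCharacter G)) with he
  let P : ℕ → Prop := fun m => ∃ f : ℂ[X], f.Monic ∧ f.natDegree = m ∧ e * aeval a f = 0
  have hex : ∃ m, P m :=
    ⟨_, by obtain ⟨f, h1, h2, h3⟩ := exists_monic_kill χ a; exact ⟨f, h1, h2, h3⟩⟩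
  set m := Nat.find hex with hm
  obtain ⟨f, hfm, hfd, hf0⟩ := Nat.find_spec hex
  rw [← hm] at hfd
  have hmle : m ≤ charDegree (χ : G → ℂ) := by
    obtain ⟨f', h1, h2, h3⟩ := exists_monic_kill χ a
    exact Nat.find_min' hex ⟨f', h1, h2, h3⟩
  have heF : ∀ g, fn e g ∈ F := fun g => by
    rw [he, fn_blockElem_single]
    exact mul_mem (inv_mem (natCast_mem F _)) (mul_mem (hχF 1) (hχF _))
  have hvF : ∀ i g, fn (e * a ^ i) g ∈ F := fun i g => by
    rw [fn_mul]
    exact sum_mem fun h _ => mul_mem (heF h) (fn_pow_mem F haF i _)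
  have hrel : ∀ g, ∑ i : Fin m, f.coeff i * fn (e * a ^ (i : ℕ)) g = -fn (e * a ^ m) g := by
    intro g
    have := mul_aeval_fn e a f (N := m + 1) (by omega) g
    rw [hf0, fn_zero, Finset.sum_range_succ, ← hfd, hfm.coeff_natDegree, one_mul, hfd,
      ← Fin.sum_univ_eq_sum_range (fun i => f.coeff i * fn (e * a ^ i) g)] at this
    linear_combination -this
  obtain ⟨c, hcF, hc⟩ := descend_relation F (fun (i : Fin m) g => fn (e * a ^ (i : ℕ)) g)
    (fun g => -fn (e * a ^ m) g) (fun i g => hvF i g) (fun g => neg_mem (hvF m g))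
    (fun i => f.coeff i) hrel
  set μ : ℂ[X] := X ^ m + ∑ i : Fin m, C (c i) * X ^ (i : ℕ) with hμ
  have hdeg : (∑ i : Fin m, C (c i) * X ^ (i : ℕ)).degree < (m : WithBot ℕ) := by
    refine lt_of_le_of_lt (degree_sum_le _ _) ?_
    refine (Finset.sup_lt_iff (WithBot.bot_lt_coe m)).2 ?_
    exact fun i _ => lt_of_le_of_lt (degree_C_mul_X_pow_le _ _) (WithBot.coe_lt_coe.2 i.2)
  have hμm : μ.Monic := monic_X_pow_add hdeg
  have hμd : μ.natDegree = m := natDegree_eq_of_degree_eq_some (by
    rw [hμ, degree_add_eq_left_of_degree_lt (by rw [degree_X_pow]; exact hdeg), degree_X_pow])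
  have hμ0 : e * aeval a μ = 0 := by
    refine fn_ext fun g => ?_
    rw [hμ, map_add, map_pow, aeval_X, map_sum, mul_add, fn_add, Finset.mul_sum, fn_sum, fn_zero]
    simp only [map_mul, aeval_C, map_pow, aeval_X, ← Algebra.smul_def, mul_smul_comm, fn_smul, hc]
    ring
  have hroot : ∀ z, μ.IsRoot z → z ∈ place M := by
    intro z hz
    obtain ⟨Q, hQ⟩ := dvd_iff_isRoot.2 hz
    have hQm : Q.Monic := Monic.of_mul_monic_left (monic_X_sub_C z) (hQ ▸ hμm)
    have hQd : Q.natDegree < m := by
      have := congrArg natDegree hQ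
      rw [hμd, Monic.natDegree_mul (monic_X_sub_C z) hQm, natDegree_X_sub_C] at this
      omega
    have hu : e * aeval a Q ≠ 0 := fun h0 => Nat.find_min hex hQd ⟨Q, hQm, rfl, h0⟩
    refine mem_place_of_eigen hu haI ?_
    rw [← sub_eq_zero, ← hμ0, hQ, mul_comm (X - C z) Q, map_mul, map_sub, aeval_X, aeval_C,
      Algebra.algebraMap_eq_smul_one, ← mul_assoc, mul_sub, mul_smul_comm, mul_one]
  refine ⟨μ, hμm, hμd ▸ hmle, fun i => ⟨?_, mem_place_of_roots hμm hroot i⟩, ?_⟩
  · rw [hμ, coeff_add, finset_sum_coeff, coeff_X_pow]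
    refine add_mem (by split_ifs <;> simp [zero_mem, one_mem]) (sum_mem fun j _ => ?_)
    rw [coeff_C_mul_X_pow]
    split_ifs
    · exact hcF j
    · exact zero_mem _
  · intro σ ψ hψ hσa
    refine fn_ext fun g => ?_
    have h0 := mul_aeval_fn e a μ (N := m + 1) (by omega) g
    rw [hμ0, fn_zero] at h0
    have h1 := congrArg σ h0.symm
    rw [map_zero, map_sum] at h1
    rw [fn_zero, mul_aeval_fn _ a _ (N := m + 1)
      (by rw [natDegree_map_eq_of_injective σ.toRingHom.injective]; omega), ← h1]
    refine Finset.sum_congr rfl fun i _ => ?_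
    rw [coeff_map, map_mul, fn_mul, fn_mul, map_sum]
    refine congrArg _ (Finset.sum_congr rfl fun h _ => ?_)
    rw [map_mul, he, fn_blockElem_single, fn_blockElem_single, map_mul, map_mul, map_inv₀,
      map_natCast, ← hψ, ← hψ]
    congr 1
    have : ∀ k g, σ (fn (a ^ k) g) = fn (a ^ k) g := by
      intro k
      induction k with
      | zero => intro g; rw [pow_zero, fn_one]; split_ifs <;> simp
      | succ k ih =>
        intro g
        rw [pow_succ, fn_mul, map_sum]
        exact Finset.sum_congr rfl fun h _ => by rw [map_mul, ih, hσa]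
    exact (this _ _).symm

/-! ### The lattice -/

/-- Coefficientwise inclusion into the complex group algebra. -/
noncomputable def cA (M : Ideal AlgInt) (n : ℕ) :
    MonoidAlgebra (Ov M n) G →+* MonoidAlgebra ℂ G :=
  MonoidAlgebra.mapRingHom G (oC M n)

lemma fn_cA (a : MonoidAlgebra (Ov M n) G) (g : G) : fn (cA M n a) g = oC M n (fn a g) := by
  simp [cA, fn]

lemma cA_injective : Function.Injective (cA M n (G := G)) := fun a b h => fn_ext fun g =>
  oC_injective (by rw [← fn_cA, ← fn_cA, h])

lemma cA_smul (c : Ov M n) (a : MonoidAlgebra (Ov M n) G) :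
    cA M n (c • a) = oC M n c • cA M n a :=
  fn_ext fun g => by rw [fn_cA, fn_smul, fn_smul, map_mul, fn_cA]

lemma trace_mulLeft {R : Type*} [CommRing R] (c : MonoidAlgebra R G) :
    LinearMap.trace R (MonoidAlgebra R G) (LinearMap.mulLeft R c) =
      (Fintype.card G : R) * fn c 1 := by
  classical
  let eA : MonoidAlgebra R G ≃ₗ[R] (G → R) :=
    { toFun := fn
      invFun := ofFn
      map_add' := fun a b => funext (fn_add a b)
      map_smul' := fun c a => funext (fn_smul c a)
      left_inv := fun a => fn_ext fun g => by rw [fn_ofFn]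
      right_inv := fun f => fn_ofFn f }
  rw [LinearMap.trace_eq_matrix_trace R (Basis.ofEquivFun eA), Matrix.trace,
    Finset.sum_congr rfl fun g _ => ?_, Finset.sum_const, Finset.card_univ, nsmul_eq_mul]
  rw [Matrix.diag_apply, LinearMap.toMatrix_apply, Basis.ofEquivFun_repr_apply,
    LinearMap.mulLeft_apply]
  show fn (c * (Basis.ofEquivFun eA) g) g = fn c 1
  rw [fn_mul', Finset.sum_eq_single g]
  · rw [Basis.coe_ofEquivFun, mul_inv_cancel]
    show fn c 1 * fn (ofFn (Pi.single g 1)) g = _
    rw [fn_ofFn, Pi.single_eq_same, mul_one]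
  · intro h _ hne
    rw [Basis.coe_ofEquivFun]
    show fn c _ * fn (ofFn (Pi.single g 1)) h = 0
    rw [fn_ofFn, Pi.single_eq_of_ne hne, mul_zero]
  · intro h; exact absurd (Finset.mem_univ g) h

variable (S : Finset (IrrCharacter G))

lemma blockElem_eq_sum_single :
    blockElem (S : Set (IrrCharacter G)) = ∑ χ ∈ S, blockElem ({χ} : Set (IrrCharacter G)) :=
  fn_ext fun g => by
    rw [fn_sum, fn_blockElem, blockCoeff, finsum_mem_coe_finset, Finset.mul_sum]
    refine Finset.sum_congr rfl fun χ _ => ?_
    rw [fn_blockElem, blockCoeff, finsum_mem_singleton]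

/-- The data of the lattice attached to the family. -/
structure FamilyLattice (M : Ideal AlgInt) (n x : ℕ) (S : Finset (IrrCharacter G)) where
  /-- The rank. -/
  r : ℕ
  /-- The action of the group algebra. -/
  act : MonoidAlgebra (Ov M n) G →+* Module.End (Ov M n) (Fin r → Ov M n)
  act_smul : ∀ (c : Ov M n) a, act (c • a) = c • act a
  trace_eq : ∀ g : G, oC M n (LinearMap.trace (Ov M n) _ (act (MonoidAlgebra.single g 1))) =
    (x : ℂ) * ∑ χ ∈ S, (χ : G → ℂ) g
  eig : ∀ Φ : Module.End (Ov M n) (Fin r → Ov M n),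
    (∀ g, Commute (act (MonoidAlgebra.single g 1)) Φ) → ∃ f : (Ov M n)[X],
      aeval Φ f = 0 ∧ f.map (IsLocalRing.residue _) ≠ 0 ∧
        ∃ s : Finset (IsLocalRing.ResidueField (Ov M n)), s.card ≤ x ∧
          ∀ l, (f.map (IsLocalRing.residue _)).IsRoot l → l ∈ s

set_option maxHeartbeats 4000000 in
/-- Every family of conjugate characters has a lattice. -/
theorem exists_familyLattice (hM : IsPModular p M) (hn : ¬ p ∣ n)
    (hG : Nat.card G ∣ p * n) {x : ℕ} {χ₁ : IrrCharacter G}
    (hdeg : (χ₁ : G → ℂ) 1 = x)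
    (hconj : ∀ χ ∈ S, ∃ σ : ℂ ≃+* ℂ, (∀ z ∈ cycField n, σ z = z) ∧
      ∀ g, (χ : G → ℂ) g = σ ((χ₁ : G → ℂ) g))
    (hsum : ∀ g, ∑ χ ∈ S, (χ : G → ℂ) g ∈ cycField n) :
    Nonempty (FamilyLattice M n x S) := by
  classical
  haveI : NeZero n := ⟨fun h => hn (h ▸ dvd_zero p)⟩
  haveI : NeZero p := ⟨hM.1.ne_zero⟩
  haveI := isDVR hM hn
  haveI : CharZero (Ov M n) := ⟨fun a b h => by
    have := congrArg (oC M n) h
    simpa using this⟩
  set O := Ov M n
  set A := MonoidAlgebra O G
  have hdeg' : ∀ χ ∈ S, (χ : G → ℂ) 1 = x := fun χ hχ => by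
    obtain ⟨σ, -, h⟩ := hconj χ hχ
    rw [h, hdeg, map_natCast]
  -- the scaled idempotent
  have hcoef : ∀ g, ∃ c : O, oC M n c = (x : ℂ) * ∑ χ ∈ S, (χ : G → ℂ) g⁻¹ := fun g =>
    exists_oC (mul_mem (natCast_mem _ x) (hsum g⁻¹))
      (mul_mem (natCast_mem_place x) (isIntegral_mem_place hM
        (IsIntegral.sum _ fun χ _ => IsCharacter.isIntegral (isCharacter_of_irr χ.2) _)))
  choose ec hec using hcoef
  set et : A := ofFn ec with het
  have hGne : (Fintype.card G : ℂ) ≠ 0 := Nat.cast_ne_zero.2 Fintype.card_ne_zero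
  have hcet : cA M n et = (Fintype.card G : ℂ) • blockElem (S : Set (IrrCharacter G)) := by
    refine fn_ext fun g => ?_
    rw [fn_cA, het, fn_ofFn, hec, fn_smul, blockElem_eq_sum_single, fn_sum, Finset.mul_sum,
      Finset.mul_sum]
    refine Finset.sum_congr rfl fun χ hχ => ?_
    rw [fn_blockElem_single, hdeg' χ hχ, Nat.card_eq_fintype_card, ← mul_assoc _ _ ((x : ℂ) * _),
      mul_inv_cancel₀ hGne, one_mul]
  have hetc : IsCentralFn et := fun g h => oC_injective (by
    rw [← fn_cA, ← fn_cA, hcet, fn_smul, fn_smul,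
      isCentralFn_blockElem (S : Set (IrrCharacter G)) g h])
  have het2 : et * et = (Fintype.card G : O) • et := cA_injective (by
    rw [map_mul, cA_smul, map_natCast, hcet, smul_mul_assoc, mul_smul_comm, blockElem_mul_self])
  let eA : A ≃ₗ[O] (G → O) :=
    { toFun := fn
      invFun := ofFn
      map_add' := fun a b => funext (fn_add a b)
      map_smul' := fun c a => funext (fn_smul c a)
      left_inv := fun a => fn_ext fun g => by rw [fn_ofFn]
      right_inv := fun f => fn_ofFn f }
  haveI : Module.Free O A := Module.Free.of_equiv eA.symm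
  haveI : Module.Finite O A := Module.Finite.equiv eA.symm
  set W := LinearMap.range (LinearMap.mulLeft O et)
  haveI : IsPrincipalIdealRing O := inferInstanceAs (IsPrincipalIdealRing (Ov M n))
  obtain ⟨r, ⟨bW⟩⟩ := Submodule.nonempty_basis_of_pid (Basis.ofEquivFun eA) W
  let e : (Fin r → O) ≃ₗ[O] W := bW.equivFun.symm
  let ι : (Fin r → O) →ₗ[O] A := W.subtype ∘ₗ e.toLinearMap
  let π : A →ₗ[O] (Fin r → O) := e.symm.toLinearMap ∘ₗ (LinearMap.mulLeft O et).rangeRestrict
  have hιinj : Function.Injective ι := W.injective_subtype.comp e.injective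
  have hιπ : ∀ a, ι (π a) = et * a := fun a => by
    show ((e (e.symm _)) : A) = _
    rw [LinearEquiv.apply_symm_apply]
    rfl
  have hcard : ∀ v, (Fintype.card G : O) • ι v = et * ι v := fun v => by
    obtain ⟨u, hu⟩ := (e v).2
    have hu' : ι v = et * u := hu.symm
    rw [hu', ← mul_assoc, het2, smul_mul_assoc]
  have hπι : ∀ v, π (ι v) = (Fintype.card G : O) • v := fun v => hιinj (by
    rw [hιπ, ← hcard, map_smul])
  have hcomm : ∀ a : A, et * a = a * et := fun a => hetc.comm a
  have hmem : ∀ (a : A) (v : Fin r → O), a * ι v ∈ W := fun a v => by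
    obtain ⟨u, hu⟩ := (e v).2
    refine ⟨a * u, ?_⟩
    show et * (a * u) = a * ι v
    rw [← mul_assoc, hcomm, mul_assoc]
    exact congrArg _ hu
  let lft : A → Module.End O (Fin r → O) := fun a => e.symm.toLinearMap ∘ₗ
    LinearMap.codRestrict W ((LinearMap.mulLeft O a) ∘ₗ ι) (hmem a)
  have hlft : ∀ a v, ι (lft a v) = a * ι v := fun a v => by
    show ((e (e.symm _)) : A) = _
    rw [LinearEquiv.apply_symm_apply]
    rfl
  have hext : ∀ (T T' : Module.End O (Fin r → O)), (∀ v, ι (T v) = ι (T' v)) → T = T' :=
    fun T T' h => LinearMap.ext fun v => hιinj (h v)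
  let act : A →+* Module.End O (Fin r → O) :=
    { toFun := lft
      map_one' := hext _ _ fun v => by rw [hlft, one_mul]; rfl
      map_mul' := fun a b => hext _ _ fun v => by
        rw [Module.End.mul_apply, hlft, hlft, hlft, mul_assoc]
      map_zero' := hext _ _ fun v => by rw [hlft, zero_mul, LinearMap.zero_apply, map_zero]
      map_add' := fun a b => hext _ _ fun v => by
        rw [hlft, LinearMap.add_apply, map_add, hlft, hlft, add_mul] }
  have hcO : (Fintype.card G : O) ≠ 0 := Nat.cast_ne_zero.2 Fintype.card_ne_zero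
  refine ⟨⟨r, act, fun c a => hext _ _ fun v => ?_, fun g => ?_, fun Φ hΦ => ?_⟩⟩
  · show ι (lft (c • a) v) = ι ((c • lft a) v)
    rw [hlft, LinearMap.smul_apply, map_smul, hlft, smul_mul_assoc]
  -- traces
  · set a : A := MonoidAlgebra.single g 1
    have h1 : LinearMap.trace O _ (act a) * (Fintype.card G : O) =
        (Fintype.card G : O) * fn (a * et) 1 := by
      rw [← trace_mulLeft, show LinearMap.mulLeft O (a * et) = (ι ∘ₗ lft a) ∘ₗ π from
        LinearMap.ext fun b => by
          show a * et * b = ι (lft a (π b))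
          rw [hlft, hιπ, mul_assoc], LinearMap.trace_comp_comm', ← LinearMap.comp_assoc,
        show π ∘ₗ ι = (Fintype.card G : O) • LinearMap.id from LinearMap.ext hπι,
        LinearMap.smul_comp, LinearMap.id_comp, map_smul, smul_eq_mul, mul_comm]
      rfl
    rw [mul_comm] at h1
    rw [mul_left_cancel₀ hcO h1, fn_single_mul, one_mul, mul_one, het, fn_ofFn, hec, inv_inv]
  -- residual eigenvalues
  · set w := Φ (π 1)
    obtain ⟨v', hv'⟩ := (e w).2
    have hv'' : ι w = et * v' := hv'.symm
    have hlin : ∀ a : A, Commute (act a) Φ := by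
      intro a
      rw [eq_sum_single a, map_sum]
      refine Commute.sum_left _ _ _ fun h _ => ?_
      rw [show MonoidAlgebra.single h (fn a h) = (fn a h) • (MonoidAlgebra.single h (1 : O) : A)
        from fn_ext fun y => by rw [fn_smul, fn_single, fn_single]; split_ifs <;> simp]
      show Commute (lft _) Φ
      rw [show lft ((fn a h) • (MonoidAlgebra.single h (1 : O) : A)) =
        (fn a h) • lft (MonoidAlgebra.single h (1 : O)) from hext _ _ fun v => by
          rw [hlft, LinearMap.smul_apply, map_smul, hlft, smul_mul_assoc]]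
      exact (hΦ h).smul_left _
    have hΦι : ∀ v, ι (Φ v) = ι v * v' := by
      intro v
      have h1 : act (ι v) (π 1) = (Fintype.card G : O) • v := hιinj (by
        rw [map_smul, hcard]
        show ι (lft (ι v) (π 1)) = _
        rw [hlft, hιπ, mul_one, hcomm])
      have h2 := congrArg ι (congrArg Φ h1)
      rw [← Module.End.mul_apply, ← (hlin (ι v)).eq, Module.End.mul_apply, map_smul, map_smul] at h2
      have h3 : ι v * ι w = (Fintype.card G : O) • ι (Φ v) := (hlft _ _).symm.trans h2
      rw [hv'', ← mul_assoc, ← hcomm, ← hcard, smul_mul_assoc] at h3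
      refine (fn_ext fun y => ?_)
      have := congrArg (fun b => fn b y) h3
      rw [fn_smul, fn_smul] at this
      exact (mul_left_cancel₀ hcO this).symm
    set a := cA M n v' with ha
    have haI : Integral M a := fun y => by rw [ha, fn_cA]; exact oC_mem_place _
    have hσfix : ∀ σ : ℂ ≃+* ℂ, (∀ z ∈ cycField n, σ z = z) → ∀ y, σ (fn a y) = fn a y :=
      fun σ hσ y => by rw [ha, fn_cA]; exact hσ _ (oC_mem_cycField _)
    have hle : cycField n ≤ cycField (p * n) := by
      rw [cycField, IntermediateField.adjoin_le_iff, Set.singleton_subset_iff]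
      exact mem_cycField_of_pow_eq_one _ (by
        rw [mul_comm, pow_mul, (isPrimitiveRoot_zetaC n).pow_eq_one, one_pow])
    obtain ⟨μ, hμm, hμd, hμc, hμkill⟩ := exists_kill_conj (M := M) χ₁
      (F := cycField (p * n))
      (fun y => IsCharacter.mem_cycField (isCharacter_of_irr χ₁.2) ((orderOf_dvd_natCard y).trans hG))
      (fun y => by rw [ha, fn_cA]; exact hle (oC_mem_cycField _)) haI
    have hx : charDegree (χ₁ : G → ℂ) = x := charDegree_of_eq hdeg
    -- residues of the coefficients do not change under the conjugations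
    let toP : ∀ i, place M := fun i => ⟨μ.coeff i, (hμc i).2⟩
    set μb : (Res M)[X] :=
      ∑ i ∈ Finset.range (μ.natDegree + 1), C (res M (μ.coeff i)) * X ^ i with hμb
    have hμbd : μb.natDegree ≤ μ.natDegree := natDegree_sum_le_of_forall_le _ _ fun i hi =>
      (natDegree_C_mul_X_pow_le _ _).trans (by rw [Finset.mem_range] at hi; omega)
    have hμb0 : μb ≠ 0 := fun h => by
      have h1 := congrArg (fun q : (Res M)[X] => q.coeff μ.natDegree) h
      simp only [hμb, finset_sum_coeff, coeff_C_mul_X_pow, coeff_zero] at h1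
      rw [Finset.sum_ite_eq, if_pos (Finset.self_mem_range_succ _), hμm.coeff_natDegree,
        res_one] at h1
      exact one_ne_zero h1
    have hres : ∀ σ : ℂ ≃+* ℂ, (∀ z ∈ cycField n, σ z = z) → ∀ z ∈ place M,
        (μ.map σ.toRingHom).IsRoot z → μb.IsRoot (res M z) := by
      intro σ hσ z hz hroot
      have hmem : ∀ i, σ (μ.coeff i) ∈ place M := fun i => by
        have := (small_sub_conj hM hn (hμc i).1 (hμc i).2 σ hσ).mem_place
        simpa using add_mem this (hμc i).2
      have hres' : ∀ i, res M (σ (μ.coeff i)) = res M (μ.coeff i) := fun i =>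
        (res_eq_iff (hmem i) (hμc i).2).2 (small_sub_conj hM hn (hμc i).1 (hμc i).2 σ hσ)
      have hpow : ∀ i, res M (z ^ i) = res M z ^ i := fun i => by
        induction i with
        | zero => simp
        | succ i ih => rw [pow_succ, res_mul (pow_mem hz i) hz, ih, pow_succ]
      rw [IsRoot.def, hμb, eval_finset_sum]
      simp only [eval_mul, eval_C, eval_pow, eval_X, ← hpow, ← hres']
      rw [Finset.sum_congr rfl fun i _ => (res_mul (hmem i) (pow_mem hz i)).symm,
        ← res_sum _ _ fun i _ => mul_mem (hmem i) (pow_mem hz i)]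
      rw [IsRoot.def, eval_map, eval₂_eq_sum_range] at hroot
      rw [show (∑ i ∈ Finset.range (μ.natDegree + 1), σ (μ.coeff i) * z ^ i) = 0 from hroot,
        res_zero]
    -- the characteristic polynomial
    set fΦ := Φ.charpoly with hfΦ
    have hfm : fΦ.Monic := LinearMap.charpoly_monic Φ
    refine ⟨fΦ, LinearMap.aeval_self_charpoly Φ, (hfm.map _).ne_zero, ?_⟩
    have hroots : ∀ z, (fΦ.map (oC M n)).IsRoot z → z ∈ place M ∧ μb.IsRoot (res M z) := by
      intro z hz
      set Mx := LinearMap.toMatrix' Φ
      have hdet : (Matrix.scalar (Fin r) z - Mx.map (oC M n)).det = 0 := by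
        rw [← Matrix.eval_charpoly, Matrix.charpoly_map]
        have : Mx.charpoly = fΦ := by
          rw [hfΦ, ← LinearMap.charpoly_toMatrix Φ (Pi.basisFun O (Fin r))]
          rfl
        rw [this]
        exact hz
      obtain ⟨v, hv0, hv⟩ := Matrix.exists_mulVec_eq_zero_iff.2 hdet
      rw [Matrix.sub_mulVec, sub_eq_zero, Matrix.scalar_apply,
        ← Matrix.smul_one_eq_diagonal, Matrix.smul_mulVec, Matrix.one_mulVec] at hv
      set d : Fin r → A := fun i => ι (Pi.single i 1)
      set U : MonoidAlgebra ℂ G := ∑ i, v i • cA M n (d i) with hU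
      have hsingle : ∀ i, d i * v' = ∑ j, Mx j i • d j := fun i => by
        show ι (Pi.single i 1) * v' = _
        rw [← hΦι]
        conv_lhs => rw [← Finset.univ_sum_single (Φ (Pi.single i 1))]
        rw [map_sum]
        refine Finset.sum_congr rfl fun j _ => ?_
        show _ = Mx j i • ι (Pi.single j 1)
        rw [← map_smul, ← Pi.single_smul, smul_eq_mul, mul_one]
        congr 2
      have hsC : ∀ i, cA M n (d i) * a = ∑ j, oC M n (Mx j i) • cA M n (d j) := fun i => by
        rw [ha, ← map_mul, hsingle, map_sum]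
        exact Finset.sum_congr rfl fun j _ => cA_smul _ _
      have hUa : U * a = z • U := by
        rw [hU, Finset.sum_mul, Finset.smul_sum]
        simp only [smul_mul_assoc, hsC, Finset.smul_sum, smul_smul]
        rw [Finset.sum_comm]
        refine Finset.sum_congr rfl fun j _ => ?_
        rw [← Finset.sum_smul]
        congr 1
        have := congrFun hv j
        rw [Pi.smul_apply, smul_eq_mul] at this
        rw [this, Matrix.mulVec, dotProduct]
        exact Finset.sum_congr rfl fun i _ => by rw [Matrix.map_apply, mul_comm]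
      have hU0 : U ≠ 0 := by
        intro h0
        apply hv0
        funext j
        have h1 : ∑ g, fn U g * oC M n (π (MonoidAlgebra.single g 1) j) =
            (Fintype.card G : ℂ) * v j := by
          simp only [hU, fn_sum, fn_smul, fn_cA, Finset.sum_mul]
          rw [Finset.sum_comm, Finset.sum_eq_single j]
          · rw [Finset.sum_congr rfl fun g _ => mul_assoc (v j) _ _, ← Finset.mul_sum, mul_comm]
            congr 1
            simp only [← map_mul, ← map_sum]
            rw [← map_natCast (oC M n)]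
            congr 1
            have e1 := congrFun (hπι (Pi.single j 1)) j
            rw [Pi.smul_apply, Pi.single_eq_same, smul_eq_mul, mul_one] at e1
            rw [← e1]
            conv_rhs => rw [eq_sum_single (ι (Pi.single j 1)), map_sum, Finset.sum_apply]
            refine Finset.sum_congr rfl fun g _ => ?_
            rw [show MonoidAlgebra.single g (fn (ι (Pi.single j 1)) g) =
              fn (ι (Pi.single j 1)) g • (MonoidAlgebra.single g (1 : O) : A) from
                fn_ext fun y => by rw [fn_smul, fn_single, fn_single]; split_ifs <;> simp,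
              map_smul, Pi.smul_apply, smul_eq_mul]
          · intro i _ hij
            rw [Finset.sum_congr rfl fun g _ => mul_assoc (v i) _ _, ← Finset.mul_sum]
            refine mul_eq_zero_of_right _ ?_
            simp only [← map_mul, ← map_sum]
            rw [← map_zero (oC M n)]
            congr 1
            have e1 := congrFun (hπι (Pi.single i 1)) j
            rw [Pi.smul_apply, Pi.single_eq_of_ne' hij, smul_zero] at e1
            rw [← e1]
            conv_rhs => rw [eq_sum_single (ι (Pi.single i 1)), map_sum, Finset.sum_apply]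
            refine Finset.sum_congr rfl fun g _ => ?_
            rw [show MonoidAlgebra.single g (fn (ι (Pi.single i 1)) g) =
              fn (ι (Pi.single i 1)) g • (MonoidAlgebra.single g (1 : O) : A) from
                fn_ext fun y => by rw [fn_smul, fn_single, fn_single]; split_ifs <;> simp,
              map_smul, Pi.smul_apply, smul_eq_mul]
          · intro h; exact absurd (Finset.mem_univ j) h
        rw [h0] at h1
        simp only [fn_zero, zero_mul, Finset.sum_const_zero] at h1
        exact (mul_eq_zero.1 h1.symm).resolve_left hGne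
      have hz' : z ∈ place M := mem_place_of_eigen hU0 haI hUa
      refine ⟨hz', ?_⟩
      have hSU : blockElem (S : Set (IrrCharacter G)) * U = U := by
        rw [hU, Finset.mul_sum]
        refine Finset.sum_congr rfl fun i _ => ?_
        rw [mul_smul_comm]
        congr 1
        have h1 := congrArg (cA M n) (hcard (Pi.single i 1))
        rw [cA_smul, map_natCast, map_mul, hcet, smul_mul_assoc] at h1
        exact (smul_right_injective _ hGne h1).symm
      obtain ⟨χ, hχ, hne⟩ : ∃ χ ∈ S, blockElem ({χ} : Set (IrrCharacter G)) * U ≠ 0 := by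
        by_contra hall
        push Not at hall
        apply hU0
        rw [← hSU, blockElem_eq_sum_single, Finset.sum_mul, Finset.sum_eq_zero hall]
      obtain ⟨σ, hσ, hσχ⟩ := hconj χ hχ
      refine hres σ hσ z hz' ?_
      have h1 := mul_aeval_apply (blockElem ({χ} : Set (IrrCharacter G)) * U) a
        (z := z) (by rw [mul_assoc, hUa, mul_smul_comm]) (μ.map σ.toRingHom)
      rw [(isCentralFn_blockElem _).comm U, mul_assoc,
        hμkill σ χ hσχ (hσfix σ hσ), mul_zero, eq_comm, smul_eq_zero,
        ← (isCentralFn_blockElem _).comm U] at h1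
      exact h1.resolve_right hne
    refine ⟨(μb.roots.toFinset).preimage (ovResMap M n) (ovResMap M n).injective.injOn, ?_, ?_⟩
    · calc _ ≤ μb.roots.toFinset.card :=
            Finset.card_le_card_of_injOn (ovResMap M n) (fun a ha => Finset.mem_preimage.1 ha)
              (ovResMap M n).injective.injOn
        _ ≤ Multiset.card μb.roots := Multiset.toFinset_card_le _
        _ ≤ μb.natDegree := card_roots' _
        _ ≤ x := hμbd.trans (hμd.trans hx.le)
    · intro l hl
      rw [Finset.mem_preimage, Multiset.mem_toFinset, mem_roots hμb0]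
      -- factor the polynomial over the place
      set fC := fΦ.map (oC M n)
      have hsp : (fC.roots.map fun z => X - C z).prod = fC :=
        prod_multiset_X_sub_C_of_monic_of_roots_card_eq (hfm.map _)
          (splits_iff_card_roots.1 (IsAlgClosed.splits fC))
      set fP : (place M)[X] :=
        (fC.roots.attach.map fun z => X - C (⟨z.1, (hroots z.1 (isRoot_of_mem_roots z.2)).1⟩ :
          place M)).prod
      have hfP : fΦ.map ((oC M n).codRestrict (place M).toSubring oC_mem_place) = fP := by
        refine Polynomial.map_injective (place M).subtype Subtype.val_injective ?_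
        rw [Polynomial.map_map, Polynomial.map_multiset_prod, Multiset.map_map]
        show fC = _
        conv_lhs => rw [← hsp, ← Multiset.attach_map_val fC.roots, Multiset.map_map]
        exact congrArg Multiset.prod (Multiset.map_congr rfl fun z _ => by simp)
      have h1 : (fP.map (IsLocalRing.residue (place M))).IsRoot (ovResMap M n l) := by
        rw [← hfP, Polynomial.map_map]
        have h2 := hl.map (f := ovResMap M n)
        rw [Polynomial.map_map] at h2
        exact h2
      rw [Polynomial.map_multiset_prod, Multiset.map_map, IsRoot.def, eval_multiset_prod,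
        Multiset.prod_eq_zero_iff, Multiset.map_map, Multiset.mem_map] at h1
      obtain ⟨z, -, hz⟩ := h1
      simp only [Function.comp_apply, Polynomial.map_sub, map_X, map_C, eval_sub, eval_X, eval_C,
        sub_eq_zero] at hz
      rw [hz, ← res_coe]
      exact (hroots z.1 (isRoot_of_mem_roots z.2)).2

end Cfsg.Lib.Blocks
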