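import Mathlib
import Cfsg.Agent.Blocks.UnramifiedFamily

/-!
# Values of rational families on elements of prime order

If the Sylow subgroup `⟨y⟩` has prime order then the average value of a rational family of
irreducible characters over `y V`, `V` the normal complement in the centraliser, is `-1`, `0`
or `1` when it is an integer.
-/

set_option autoImplicit false
set_option linter.unusedSectionVars false

namespace Cfsg.Lib.Blocks

open Cfsg.Lib.Chars Polynomial Module IsLocalRing

universe u

/-- An operator killed by a split polynomial with simple roots has an eigenvector in each nonzero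
invariant subspace. -/
lemma exists_eigen_mem {k V : Type*} [Field k] [AddCommGroup V] [Module k V] (T : Module.End k V)
    {W : Submodule k V} (hW : ∀ v ∈ W, T v ∈ W) :
    ∀ (s : Multiset k) (w : V), w ∈ W → w ≠ 0 →
      aeval T (s.map fun a => X - C a).prod w = 0 → ∃ a : k, ∃ v ∈ W, v ≠ 0 ∧ T v = a • v := by
  intro s
  induction s using Multiset.induction with
  | empty =>
    intro w _ hw0 h
    simp only [Multiset.map_zero, Multiset.prod_zero, map_one, Module.End.one_apply] at h
    exact absurd h hw0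
  | cons a s ih =>
    intro w hw hw0 h
    rw [Multiset.map_cons, Multiset.prod_cons, mul_comm, map_mul, Module.End.mul_apply] at h
    have hTa : aeval T (X - C a) w = T w - a • w := by simp
    rw [hTa] at h
    by_cases h0 : T w - a • w = 0
    · exact ⟨a, w, hw, hw0, sub_eq_zero.1 h0⟩
    · exact ih _ (W.sub_mem (hW w hw) (W.smul_mem a hw)) h0 h

lemma exists_eigen_of_pow_eq_one {k V : Type*} [Field k] [AddCommGroup V] [Module k V] {p : ℕ}
    [Fact p.Prime] [CharP k p] (T : Module.End k V) {W : Submodule k V}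
    (hW : ∀ v ∈ W, T v ∈ W) (hT : ∀ v ∈ W, (T ^ (p - 1)) v = v) {w : V} (hw : w ∈ W)
    (hw0 : w ≠ 0) : ∃ a : k, ∃ v ∈ W, v ≠ 0 ∧ T v = a • v := by
  classical
  set f : (ZMod p)[X] := X ^ (p - 1) - 1
  have hp := (Fact.out : p.Prime)
  have hd : f.natDegree = p - 1 := natDegree_X_pow_sub_C (R := ZMod p) (r := 1) ▸ by simp [f]
  have hm : f.Monic := by
    simpa [f] using monic_X_pow_sub_C (R := ZMod p) (1 : ZMod p)
      (show p - 1 ≠ 0 by have := hp.two_le; omega)
  have hcard : Multiset.card f.roots = f.natDegree := by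
    refine le_antisymm (card_roots' f) ?_
    calc f.natDegree = ((Finset.univ : Finset (ZMod p)).erase 0).card := by
          rw [hd, Finset.card_erase_of_mem (Finset.mem_univ _), Finset.card_univ, ZMod.card]
      _ ≤ f.roots.toFinset.card := Finset.card_le_card fun a ha => by
          rw [Multiset.mem_toFinset, mem_roots hm.ne_zero, IsRoot.def]
          simp only [f, eval_sub, eval_pow, eval_X, eval_one, sub_eq_zero]
          exact ZMod.pow_card_sub_one_eq_one (Finset.mem_erase.1 ha).1
      _ ≤ _ := Multiset.toFinset_card_le _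
  have hprod := prod_multiset_X_sub_C_of_monic_of_roots_card_eq hm hcard
  refine exists_eigen_mem T hW (f.roots.map (ZMod.castHom dvd_rfl k)) w hw hw0 ?_
  have hmap := congrArg (Polynomial.map (ZMod.castHom dvd_rfl k)) hprod
  rw [Polynomial.map_multiset_prod, Multiset.map_map] at hmap
  rw [Multiset.map_map, show (fun a => X - C a) ∘ (ZMod.castHom dvd_rfl k) =
    (Polynomial.map (ZMod.castHom dvd_rfl k)) ∘ fun a => X - C a from funext fun a => by simp,
    hmap]
  simp [f, hT w hw]

open Herbrand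

variable {G : Type u} [Group G] [Fintype G] {M : Ideal AlgInt} {p n : ℕ} [Fact p.Prime]

set_option synthInstance.maxHeartbeats 200000 in
set_option maxHeartbeats 1000000 in
/-- The average value of the family on `y V` is at most one in absolute value. -/
theorem natAbs_avg_le_one (hM : IsPModular p M) (hn : ¬ p ∣ n) (hG : Nat.card G ∣ p * n)
    (S : Finset (IrrCharacter G)) {x : ℕ} (hxn : x < n) {χ₁ : IrrCharacter G}
    (hdeg : (χ₁ : G → ℂ) 1 = x)
    (hconj : ∀ χ ∈ S, ∃ σ : ℂ ≃+* ℂ, (∀ z ∈ cycField n, σ z = z) ∧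
      ∀ g, (χ : G → ℂ) g = σ ((χ₁ : G → ℂ) g))
    (hsum : ∀ g, ∑ χ ∈ S, (χ : G → ℂ) g ∈ cycField n)
    {y : G} (hy : orderOf y = p) {H V : Subgroup G}
    (hHN : H ≤ Subgroup.normalizer (Subgroup.zpowers y : Set G))
    (hdec : ∀ g ∈ Subgroup.normalizer (Subgroup.zpowers y : Set G),
      ∃ i : ℕ, ∃ h ∈ H, g = y ^ i * h)
    (hH : ¬ p ∣ Nat.card H) (hVH : V ≤ H) (hVy : ∀ v ∈ V, Commute v y)
    (hVn : ∀ h ∈ H, ∀ v ∈ V, h * v * h⁻¹ ∈ V)
    {h₀ : G} (hh₀ : h₀ ∈ H) (hcyc : ∀ h ∈ H, ∃ j : ℕ, (h₀ ^ j)⁻¹ * h ∈ V)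
    (hpow : h₀ ^ (p - 1) ∈ V) [Fintype V] (τ : ℤ)
    (hval : ∀ i : ℕ, 0 < i → i < p →
      ∑ v : V, ∑ χ ∈ S, (χ : G → ℂ) ((v : G) * y ^ i) = (Nat.card V : ℂ) * τ) :
    τ.natAbs ≤ 1 := by
  classical
  obtain ⟨L⟩ := exists_familyLattice S hM hn hG hdeg hconj hsum
  haveI := isDVR hM hn
  haveI : CharZero (Ov M n) := ⟨fun a b h => by
    have := congrArg (oC M n) h
    simpa using this⟩
  haveI : IsPrincipalIdealRing (Ov M n) := inferInstance
  have hpi := maximalIdeal_eq hM hn
  set N := Subgroup.normalizer (Subgroup.zpowers y : Set G)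
  let ρ : G →* Module.End (Ov M n) (Fin L.r → Ov M n) :=
    L.act.toMonoidHom.comp (MonoidAlgebra.of (Ov M n) G)
  have hρ : ∀ g, ρ g = L.act (MonoidAlgebra.single g 1) := fun g => rfl
  -- the idempotent of the fixed points of `V`
  have hVu : IsUnit (Nat.card V : Ov M n) := by
    rw [isUnit_iff_not_small, map_natCast, small_natCast_iff hM]
    exact fun h => hH (h.trans (Subgroup.card_dvd_of_le hVH))
  set u := Ring.inverse (Nat.card V : Ov M n) with hu
  set E : Module.End (Ov M n) (Fin L.r → Ov M n) := u • ∑ v : V, ρ (v : G) with hEdef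
  have hVE : ∀ v ∈ V, ρ v * E = E := fun v hv => by
    rw [hEdef, mul_smul_comm, Finset.mul_sum]
    refine congrArg _ (Fintype.sum_bijective (fun w : V => (⟨v, hv⟩ : V) * w)
      (Group.mulLeft_bijective _) _ _ fun w => ?_)
    rw [← map_mul]
    rfl
  have hEE : E * E = E := by
    nth_rw 1 [hEdef]
    rw [smul_mul_assoc, Finset.sum_mul, Finset.sum_congr rfl fun (v : V) _ => hVE v v.2,
      Finset.sum_const, Finset.card_univ, ← Nat.card_eq_fintype_card,
      ← Nat.cast_smul_eq_nsmul (Ov M n), smul_smul, Ring.inverse_mul_cancel _ hVu, one_smul]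
  have hnormy : ∀ h ∈ N, ∃ a : ℕ, h * y * h⁻¹ = y ^ a := fun h hh => by
    have := (Subgroup.mem_normalizer_iff.1 hh y).1 (Subgroup.mem_zpowers y)
    obtain ⟨a, ha⟩ := (isOfFinOrder_of_finite y).mem_powers_iff_mem_zpowers.2 this
    exact ⟨a, ha.symm⟩
  have hEn : ∀ g ∈ N, Commute E (ρ g) := by
    intro g hg
    obtain ⟨i, h, hh, rfl⟩ := hdec g hg
    have h1 : Commute E (ρ y) := by
      rw [hEdef]
      refine (Commute.sum_left _ _ _ fun v _ => ?_).smul_left _
      exact (hVy v v.2).map ρ
    have h2 : Commute E (ρ h) := by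
      rw [hEdef]
      refine Commute.smul_left ?_ _
      unfold Commute SemiconjBy
      rw [Finset.mul_sum, Finset.sum_mul]
      refine Finset.sum_bij' (fun v _ => (⟨h⁻¹ * v * h, by
          simpa using hVn h⁻¹ (H.inv_mem hh) v v.2⟩ : V))
        (fun v _ => (⟨h * v * h⁻¹, hVn h hh v v.2⟩ : V))
        (fun _ _ => Finset.mem_univ _) (fun _ _ => Finset.mem_univ _)
        (fun v _ => Subtype.ext (by simp [mul_assoc])) (fun v _ => Subtype.ext (by simp [mul_assoc]))
        fun v _ => ?_
      simp only [← map_mul]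
      congr 1
      simp [mul_assoc]
    rw [map_mul, map_pow]
    exact (h1.pow_right i).mul_right h2
  have hyN : y ∈ N := Subgroup.le_normalizer (Subgroup.mem_zpowers y)
  have hfree : ∀ g, g ∉ N → g⁻¹ * y * g ∉ N := by
    intro g hg hmem
    apply hg
    set z := g⁻¹ * y * g with hz
    obtain ⟨i, h, hh, e⟩ := hdec z hmem
    have hpowz : ∀ k : ℕ, ∃ a : ℕ, z ^ k = y ^ a * h ^ k := by
      intro k
      induction k with
      | zero => exact ⟨0, by simp⟩
      | succ k ih =>
        obtain ⟨a, ha⟩ := ih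
        obtain ⟨b, hb⟩ := hnormy (h ^ k) (N.pow_mem (hHN hh) k)
        refine ⟨a + b * i, ?_⟩
        have : h ^ k * y ^ i = y ^ (b * i) * h ^ k := by
          rw [pow_mul, ← hb, conj_pow, inv_mul_cancel_right]
        rw [pow_succ, ha, e, ← mul_assoc, mul_assoc (y ^ a), this, ← mul_assoc, ← pow_add,
          mul_assoc, ← pow_succ]
    have hzp : z ^ p = 1 := by
      rw [hz, show g⁻¹ * y * g = g⁻¹ * y * g⁻¹⁻¹ by rw [inv_inv], conj_pow, ← hy,
        pow_orderOf_eq_one, mul_one, mul_inv_cancel]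
    obtain ⟨a, ha⟩ := hpowz p
    rw [hzp] at ha
    have hyH : h ^ p ∈ Subgroup.zpowers y := by
      rw [show h ^ p = (y ^ a)⁻¹ by rw [eq_inv_of_mul_eq_one_right ha.symm]]
      exact Subgroup.inv_mem _ (Subgroup.pow_mem _ (Subgroup.mem_zpowers y) a)
    have hh1 : h = 1 := by
      have h1 : orderOf (h ^ p) ∣ p := (orderOf_dvd_of_mem_zpowers hyH).trans (dvd_of_eq hy)
      have h2 : orderOf (h ^ p) ∣ Nat.card H :=
        (orderOf_pow_dvd p).trans (Subgroup.orderOf_dvd_natCard H hh)
      have h3 : orderOf (h ^ p) = 1 := Nat.eq_one_of_dvd_coprimes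
        ((Fact.out : p.Prime).coprime_iff_not_dvd.2 hH) h1 h2
      have h4 : orderOf h ∣ p := orderOf_dvd_of_pow_eq_one (orderOf_eq_one_iff.1 h3)
      exact orderOf_eq_one_iff.1 (Nat.eq_one_of_dvd_coprimes
        ((Fact.out : p.Prime).coprime_iff_not_dvd.2 hH) h4 (Subgroup.orderOf_dvd_natCard H hh))
    rw [hh1, mul_one] at e
    have hle : Subgroup.zpowers z ≤ Subgroup.zpowers y := by
      rw [Subgroup.zpowers_le, e]
      exact Subgroup.pow_mem _ (Subgroup.mem_zpowers y) i
    have hoz : orderOf z = p := by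
      rw [hz, show g⁻¹ * y * g = MulAut.conj g⁻¹ y by simp, MulEquiv.orderOf_eq, hy]
    have heq : Subgroup.zpowers z = Subgroup.zpowers y := Subgroup.eq_of_le_of_card_ge hle
      (by rw [Nat.card_zpowers, Nat.card_zpowers, hoz, hy])
    have hginv : g⁻¹ ∈ N := by
      have h1 : (Subgroup.zpowers y).map (MulAut.conj g⁻¹).toMonoidHom = Subgroup.zpowers y := by
        rw [MonoidHom.map_zpowers]
        simpa using heq
      rw [Subgroup.mem_normalizer_iff]
      intro v
      constructor
      · intro hv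
        rw [← h1]
        exact ⟨v, hv, by simp⟩
      · intro hv
        rw [← h1] at hv
        obtain ⟨w, hw, e'⟩ := hv
        simp only [MulEquiv.coe_toMonoidHom, MulAut.conj_apply, inv_inv] at e'
        exact (mul_left_cancel (mul_right_cancel e')) ▸ hw
    simpa using N.inv_mem hginv
  have hS : Setup p ρ E y N H :=
    { order := hy
      mem := hyN
      free := hfree
      le := hHN
      decomp := hdec
      norm := fun h hh => hnormy h (hHN hh)
      not_dvd := hH
      idem := hEE
      comm := hEn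
      central := fun Φ hΦ => by
        rw [hEdef]
        exact Commute.smul_left (Commute.sum_left _ (fun v : V => ρ (v : G)) _ fun v _ => hΦ v) _ }
  haveI : Fintype (G ⧸ N) := Fintype.ofFinite _
  -- the trace
  have htr : ∀ i, 0 < i → i < p →
      LinearMap.trace (Ov M n) _ (E * ρ y ^ i) = (((x : ℤ) * τ : ℤ) : Ov M n) := by
    intro i hi hip
    apply oC_injective (M := M) (n := n)
    rw [hEdef, smul_mul_assoc, Finset.sum_mul, map_smul, map_sum, smul_eq_mul, map_mul, map_sum]
    have : ∀ v : V, oC M n (LinearMap.trace (Ov M n) _ (ρ (v : G) * ρ y ^ i)) =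
        (x : ℂ) * ∑ χ ∈ S, (χ : G → ℂ) ((v : G) * y ^ i) := fun v => by
      rw [← map_pow, ← map_mul, hρ, L.trace_eq]
    rw [Finset.sum_congr rfl fun v _ => this v, ← Finset.mul_sum, hval i hi hip, hu,
      map_intCast]
    have h2 : oC M n (Ring.inverse (Nat.card V : Ov M n)) * (Nat.card V : ℂ) = 1 := by
      rw [← map_natCast (oC M n), ← map_mul, Ring.inverse_mul_cancel _ hVu, map_one]
    push_cast
    linear_combination ((x : ℂ) * τ) * h2
  -- invariant lines
  have hcharP : CharP (ResidueField (Ov M n)) p :=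
    (CharP.charP_iff_prime_eq_zero (Fact.out : p.Prime)).2
      (by rw [← map_natCast (residue (Ov M n))]; exact residue_p hpi)
  have hsimple : ∀ W : Submodule (ResidueField (Ov M n)) _, (∀ v ∈ W, redE E v = v) →
      Inv ρ H W → W ≠ ⊥ → ∃ W' ≤ W, Inv ρ H W' ∧ W' ≠ ⊥ ∧
        finrank (ResidueField (Ov M n)) W' ≤ 1 := by
    intro W hWE hWi hW0
    have hVid : ∀ v ∈ V, ∀ w ∈ W, redE (ρ v) w = w := fun v hv w hw => by
      conv_lhs => rw [← hWE w hw, ← Module.End.mul_apply, ← map_mul, hVE v hv]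
      exact hWE w hw
    obtain ⟨w, hw, hw0⟩ := Submodule.exists_mem_ne_zero_of_ne_bot hW0
    have hT : ∀ v ∈ W, (redE (ρ h₀) ^ (p - 1)) v = v := fun v hv => by
      rw [← map_pow, ← map_pow]
      exact hVid _ hpow v hv
    obtain ⟨a, v, hv, hv0, hva⟩ :=
      exists_eigen_of_pow_eq_one (redE (ρ h₀)) (hWi h₀ hh₀) hT hw hw0
    refine ⟨Submodule.span _ {v}, Submodule.span_le.2 (Set.singleton_subset_iff.2 hv), ?_, ?_, ?_⟩
    · intro h hh z hz
      obtain ⟨c, rfl⟩ := Submodule.mem_span_singleton.1 hz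
      obtain ⟨j, hj⟩ := hcyc h hh
      rw [map_smul]
      refine Submodule.smul_mem _ _ ?_
      rw [show h = h₀ ^ j * ((h₀ ^ j)⁻¹ * h) by group, map_mul, map_mul, Module.End.mul_apply,
        hVid _ hj v hv, map_pow, map_pow]
      clear hj
      induction j with
      | zero => simp [Submodule.mem_span_singleton_self]
      | succ j ih =>
        rw [pow_succ', Module.End.mul_apply]
        obtain ⟨d, hd⟩ := Submodule.mem_span_singleton.1 ih
        rw [← hd, map_smul, hva]
        exact Submodule.smul_mem _ _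
          (Submodule.smul_mem _ _ (Submodule.mem_span_singleton_self v))
    · rw [Ne, Submodule.span_singleton_eq_bot]
      exact hv0
    · exact le_of_eq (finrank_span_singleton hv0)
  obtain ⟨sc, hsc⟩ := exists_scalars (M := M) hM hn
  have hv' : Function.Injective fun i : Fin (x + 1) => sc ⟨i, by omega⟩ := fun i j h =>
    Fin.ext (by simpa using congrArg Fin.val (hsc h))
  have hb := hS.natAbs_le hpi ((x : ℤ) * τ) htr hsimple _ hv' fun Φ hΦ => by
    obtain ⟨f, hf1, hf2, s, hs, hroot⟩ := L.eig Φ hΦ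
    refine ⟨f, hf1, hf2, (Finset.card_le_card fun l hl => hroot l ?_).trans hs⟩
    rw [Multiset.mem_toFinset] at hl
    exact isRoot_of_mem_roots hl
  rw [Int.natAbs_mul, Int.natAbs_natCast, mul_one] at hb
  rcases Nat.eq_zero_or_pos x with hx0 | hx0
  · exact absurd (by rw [hdeg, hx0]; simp) (IsIrrCharacter.apply_one_ne_zero χ₁.2)
  · exact Nat.le_of_mul_le_mul_left (by rw [mul_one]; exact hb) hx0

end Cfsg.Lib.Blocks
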