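import Mathlib
import Cfsg.Agent.Blocks.FrobeniusThree
import Cfsg.Agent.Blocks.ValueBound
import Cfsg.Agent.Blocks.Eigen
import Cfsg.Agent.Chars.FixedField

/-!
# The principal block for a Sylow subgroup of prime order
-/

set_option autoImplicit false
set_option linter.unusedSectionVars false

namespace Cfsg.Lib.Blocks

open Cfsg.Lib.Chars
open scoped ComplexConjugate

universe u

variable {G : Type u} [Group G] [Fintype G] {M : Ideal AlgInt} {p : ℕ} [Fact p.Prime]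
  {P : Sylow p G}

lemma frobeniusNormalizer_of_card_prime (hP : Nat.card (P : Subgroup G) = p) :
    FrobeniusNormalizer P := by
  have key : ∀ y : G, y ∈ (P : Subgroup G) → y ≠ 1 → Subgroup.zpowers y = (P : Subgroup G) := by
    intro y hy hy1
    refine Subgroup.eq_of_le_of_card_ge (Subgroup.zpowers_le.2 hy) ?_
    rw [hP, Nat.card_zpowers]
    have h1 : orderOf y ∣ p := hP ▸ Subgroup.orderOf_dvd_natCard _ hy
    rcases (Nat.dvd_prime (Fact.out : p.Prime)).1 h1 with h | h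
    · exact absurd (orderOf_eq_one_iff.1 h) hy1
    · exact h.ge
  refine ⟨fun a ha b hb => ?_, fun y hy hy1 => ?_⟩
  · by_cases h1 : a = 1
    · simp [h1]
    rw [← key a ha h1] at hb
    obtain ⟨i, rfl⟩ := Subgroup.mem_zpowers_iff.1 hb
    exact ((Commute.refl a).zpow_right i).eq
  · intro c hc w hw
    have hcy : Commute c y := Subgroup.mem_centralizer_singleton_iff.1 hc.1
    rw [SetLike.mem_coe, ← key y hy hy1, Subgroup.mem_zpowers_iff] at hw
    obtain ⟨i, rfl⟩ := hw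
    exact (hcy.zpow_right i).eq.symm

/-- A complement of the Sylow subgroup in its normalizer, with cyclic action. -/
lemma exists_normalizer_complement (hP : Nat.card (P : Subgroup G) = p) :
    ∃ (y : G) (H V : Subgroup G) (h₀ : G), orderOf y = p ∧
      Subgroup.zpowers y = (P : Subgroup G) ∧
      H ≤ Subgroup.normalizer (Subgroup.zpowers y : Set G) ∧
      (∀ g ∈ Subgroup.normalizer (Subgroup.zpowers y : Set G),
        ∃ i : ℕ, ∃ h ∈ H, g = y ^ i * h) ∧
      ¬ p ∣ Nat.card H ∧ V ≤ H ∧ (∀ v ∈ V, Commute v y) ∧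
      (∀ h ∈ H, ∀ v ∈ V, h * v * h⁻¹ ∈ V) ∧ h₀ ∈ H ∧
      (∀ h ∈ H, ∃ j : ℕ, (h₀ ^ j)⁻¹ * h ∈ V) ∧ h₀ ^ (p - 1) ∈ V := by
  have hp := (Fact.out : p.Prime)
  obtain ⟨⟨y, hyP⟩, hy⟩ := exists_prime_orderOf_dvd_card' (G := (P : Subgroup G)) p (by rw [hP])
  rw [← Subgroup.orderOf_coe] at hy
  change orderOf y = p at hy
  have hPy : Subgroup.zpowers y = (P : Subgroup G) := Subgroup.eq_of_le_of_card_ge
    (Subgroup.zpowers_le.2 hyP) (by rw [Nat.card_zpowers, hP, hy])
  set N := Subgroup.normalizer ((P : Subgroup G) : Set G) with hN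
  have hPN : (P : Subgroup G) ≤ N := Subgroup.le_normalizer
  set Q := (P : Subgroup G).subgroupOf N with hQdef
  haveI : Q.Normal := Subgroup.normal_in_normalizer
  have hQidx : ¬ p ∣ Q.index := fun h => P.not_dvd_index (h.trans (by
    rw [hQdef]
    exact ⟨_, (Subgroup.relIndex_mul_index hPN).symm⟩))
  have hQcard : Nat.card Q = p := by
    rw [hQdef, Nat.card_congr (Subgroup.subgroupOfEquivOfLe hPN).toEquiv, hP]
  obtain ⟨H', hH'⟩ := Subgroup.exists_right_complement'_of_coprime (N := Q)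
    (by rw [hQcard]; exact hp.coprime_iff_not_dvd.2 hQidx)
  set H := H'.map N.subtype with hH
  have hHN : H ≤ N := Subgroup.map_subtype_le _
  have hHcard : ¬ p ∣ Nat.card H := by
    rw [hH, Subgroup.card_map_of_injective N.subtype_injective,
      show Nat.card H' = Q.index from hH'.symm.index_eq_card.symm]
    exact hQidx
  have hdec : ∀ g ∈ N, ∃ i : ℕ, ∃ h ∈ H, g = y ^ i * h := by
    intro g hg
    obtain ⟨⟨⟨q, hq⟩, ⟨h, hh⟩⟩, hqh⟩ := hH'.2 ⟨g, hg⟩
    have hqP : (q : G) ∈ Subgroup.zpowers y := by rw [hPy]; exact hq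
    obtain ⟨i, hi⟩ := (isOfFinOrder_of_finite y).mem_powers_iff_mem_zpowers.2 hqP
    exact ⟨i, h, Subgroup.mem_map.2 ⟨h, hh, rfl⟩,
      (congrArg Subtype.val hqh).symm.trans (congrArg (· * (h : G)) hi.symm)⟩
  have hnorm : ∀ h : H, ∃ a : ℕ, (h : G) * y * (h : G)⁻¹ = y ^ a := fun h => by
    have h1 := (Subgroup.mem_normalizer_iff.1 (hHN h.2) y).1 hyP
    rw [← hPy] at h1
    obtain ⟨a, ha⟩ := (isOfFinOrder_of_finite y).mem_powers_iff_mem_zpowers.2 h1
    exact ⟨a, ha.symm⟩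
  choose a ha using hnorm
  have heq : ∀ (h : H) (b : ℕ), (h : G) * y * (h : G)⁻¹ = y ^ b → ((a h : ZMod p)) = b := by
    intro h b hb
    rw [ha h, pow_eq_pow_iff_modEq, hy] at hb
    exact (ZMod.natCast_eq_natCast_iff _ _ _).2 hb
  let φ₀ : H →* ZMod p :=
    { toFun := fun h => (a h : ZMod p)
      map_one' := by simpa using heq 1 1 (by simp)
      map_mul' := fun g h => by
        rw [← Nat.cast_mul]
        refine heq _ _ ?_
        rw [Subgroup.coe_mul, mul_inv_rev, pow_mul, ← ha g, conj_pow, ← ha h]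
        group }
  set φ := φ₀.toHomUnits
  set V := Subgroup.centralizer ({y} : Set G) ⊓ H with hV
  have hker : ∀ h : H, φ h = 1 ↔ (h : G) ∈ V := by
    intro h
    rw [Units.ext_iff, MonoidHom.coe_toHomUnits, Units.val_one]
    show ((a h : ZMod p)) = 1 ↔ _
    constructor
    · intro h1
      refine Subgroup.mem_inf.2 ⟨Subgroup.mem_centralizer_singleton_iff.2 ?_, h.2⟩
      have h2 : y ^ a h = y := by
        conv_rhs => rw [← pow_one y]
        rw [pow_eq_pow_iff_modEq, hy]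
        exact (ZMod.natCast_eq_natCast_iff _ _ _).1 (by rw [h1, Nat.cast_one])
      exact mul_inv_eq_iff_eq_mul.1 ((ha h).trans h2)
    · intro h1
      have h2 := Subgroup.mem_centralizer_singleton_iff.1 (Subgroup.mem_inf.1 h1).1
      simpa using heq h 1 (by rw [pow_one]; exact mul_inv_eq_iff_eq_mul.2 h2)
  obtain ⟨⟨g₀, h₀, hg₀⟩, hgen⟩ := IsCyclic.exists_generator (α := φ.range)
  subst hg₀
  refine ⟨y, H, V, h₀, hy, hPy, by rwa [hPy], by rw [hPy]; exact hdec, hHcard, inf_le_right,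
    fun v hv => Subgroup.mem_centralizer_singleton_iff.1 (Subgroup.mem_inf.1 hv).1,
    fun h hh v hv => ?_, h₀.2, fun h hh => ?_, ?_⟩
  · refine (hker ⟨h * v * h⁻¹,
      H.mul_mem (H.mul_mem hh (Subgroup.mem_inf.1 hv).2) (H.inv_mem hh)⟩).1 ?_
    rw [show (⟨h * v * h⁻¹, _⟩ : H) = ⟨h, hh⟩ * ⟨v, (Subgroup.mem_inf.1 hv).2⟩ * ⟨h, hh⟩⁻¹ from rfl,
      map_mul, map_mul, (hker ⟨v, (Subgroup.mem_inf.1 hv).2⟩).2 hv, mul_one, map_inv, mul_inv_cancel]
  · obtain ⟨j, hj⟩ := (isOfFinOrder_of_finite _).mem_powers_iff_mem_zpowers.2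
      (hgen ⟨φ ⟨h, hh⟩, ⟨h, hh⟩, rfl⟩)
    refine ⟨j, ?_⟩
    have hj' : φ h₀ ^ j = φ ⟨h, hh⟩ := by simpa using congrArg Subtype.val hj
    exact (hker ((h₀ ^ j)⁻¹ * ⟨h, hh⟩)).1 (by rw [map_mul, map_inv, map_pow, hj', inv_mul_cancel])
  · exact (hker (h₀ ^ (p - 1))).1 (by rw [map_pow]; exact ZMod.units_pow_card_sub_one_eq_one p _)

/-- A singular element is conjugate to one whose `p`-part is a nontrivial element of `P`. -/
lemma exists_conj_isPPart (P : Sylow p G) {g : G} (hg : p ∣ orderOf g) :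
    ∃ (z : G) (y : (P : Subgroup G)), IsConj g z ∧ IsPPart p z (y : G) ∧ (y : G) ≠ 1 := by
  obtain ⟨y, x, hx, hc⟩ := exists_syl_isPPart P (Fact.out : p.Prime) g
  obtain ⟨c, hc⟩ := isConj_iff.1 hc.symm
  refine ⟨c * g * c⁻¹, y, isConj_iff.2 ⟨c, rfl⟩, hc ▸ IsPPart.conj hx c, fun h1 => ?_⟩
  rw [h1, mul_inv_eq_one, mul_eq_left] at hc
  subst hc
  exact (isPPart_one_iff (Fact.out : p.Prime)).1 hx hg

lemma apply_of_isConj (χ : IrrCharacter G) {g z : G} (h : IsConj g z) :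
    (χ : G → ℂ) g = (χ : G → ℂ) z := by
  obtain ⟨c, rfl⟩ := isConj_iff.1 h
  exact (isClassFunction_irr χ g c).symm

/-- The bound on the constant value of a rational family. -/
theorem natAbs_value_le_one (hM : IsPModular p M) (hP : Nat.card (P : Subgroup G) = p)
    (S : Finset (IrrCharacter G)) {χ₁ : IrrCharacter G}
    (hconj : ∀ m : ℕ, ¬ p ∣ m → Nat.card G ∣ p * m → ∀ χ ∈ S, ∃ σ : ℂ ≃+* ℂ,
      (∀ z ∈ cycField m, σ z = z) ∧ ∀ g, (χ : G → ℂ) g = σ ((χ₁ : G → ℂ) g))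
    (hreg : ∀ χ ∈ S, ∀ g : G, ¬ p ∣ orderOf g → (χ : G → ℂ) g = (χ₁ : G → ℂ) g)
    (τ : ℤ) (hval : ∀ (z : G) (y : (P : Subgroup G)), IsPPart p z (y : G) → (y : G) ≠ 1 →
      ∑ χ ∈ S, (χ : G → ℂ) z = (τ : ℂ)) :
    τ.natAbs ≤ 1 := by
  classical
  have hp := (Fact.out : p.Prime)
  obtain ⟨y, H, V, h₀, hy, hPy, hHN, hdec, hH, hVH, hVy, hVn, hh₀, hcyc, hpow⟩ :=
    exists_normalizer_complement hP
  set x := charDegree (χ₁ : G → ℂ)
  set m := (P : Subgroup G).index * (p * x + 1) with hm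
  have hmp : ¬ p ∣ m := by
    rw [hm, hp.dvd_mul]
    rintro (h | h)
    · exact P.not_dvd_index h
    · exact hp.not_dvd_one ((Nat.dvd_add_right (dvd_mul_right p x)).1 h)
  have hG : Nat.card G ∣ p * m := by
    rw [← Subgroup.card_mul_index (P : Subgroup G), hP, hm, ← mul_assoc]
    exact dvd_mul_right _ _
  have hxm : x < m := by
    have h1 : 0 < (P : Subgroup G).index := Nat.pos_of_ne_zero Subgroup.index_ne_zero_of_finite
    have h2 : x ≤ p * x := Nat.le_mul_of_pos_left x hp.pos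
    have h3 : p * x + 1 ≤ m := Nat.le_mul_of_pos_left _ h1
    omega
  haveI : NeZero m := ⟨by omega⟩
  have hsum : ∀ g, ∑ χ ∈ S, (χ : G → ℂ) g ∈ cycField m := by
    intro g
    by_cases hg : p ∣ orderOf g
    · obtain ⟨z, w, hc, hz, hw⟩ := exists_conj_isPPart P hg
      rw [Finset.sum_congr rfl fun χ _ => apply_of_isConj χ hc, hval z w hz hw]
      exact intCast_mem _ τ
    · refine sum_mem fun χ hχ => ?_
      rw [hreg χ hχ g hg]
      refine IsCharacter.mem_cycField (isCharacter_of_irr χ₁.2) ?_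
      exact (hp.coprime_iff_not_dvd.2 hg).symm.dvd_of_dvd_mul_left
        ((orderOf_dvd_natCard g).trans hG)
  haveI : Fintype V := Fintype.ofFinite V
  refine natAbs_avg_le_one hM hmp hG S hxm
    (χ₁ := χ₁) (by simp [x, irr_apply_one_eq_deg, charDegree]) (hconj m hmp hG) hsum hy hHN hdec hH
    hVH hVy hVn hh₀ hcyc hpow τ fun i hi hip => ?_
  have hyi : y ^ i ∈ (P : Subgroup G) := hPy ▸ Subgroup.pow_mem _ (Subgroup.mem_zpowers y) i
  have hne : (y ^ i : G) ≠ 1 := pow_ne_one_of_lt_orderOf (by omega) (by omega)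
  rw [Finset.sum_congr rfl fun (v : V) _ => hval ((v : G) * y ^ i) ⟨y ^ i, hyi⟩ ?_ hne,
    Finset.sum_const, Finset.card_univ, nsmul_eq_mul, ← Nat.card_eq_fintype_card]
  have hc : Commute (y ^ i) (v : G) := ((hVy v v.2).symm).pow_left i
  rw [← hc.eq]
  refine isPPart_mul hc (orderOf_syl ⟨y ^ i, hyi⟩) fun h => hH ?_
  exact h.trans (Subgroup.orderOf_dvd_natCard H (hVH v.2))

/-! ### The exceptional characters are algebraically conjugate -/

lemma exists_dual_pow (hP : Nat.card (P : Subgroup G) = p)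
    {ψ φ : (P : Subgroup G) →* ℂˣ} (hψ : ψ ≠ 1) (hφ : φ ≠ 1) :
    ∃ b : ℕ, ¬ p ∣ b ∧ φ = ψ ^ b := by
  have h := frobeniusNormalizer_of_card_prime hP
  haveI := finite_dual h
  have hcard : Nat.card ((P : Subgroup G) →* ℂˣ) = p := by rw [card_dual h, hP]
  have hmem : φ ∈ Submonoid.powers ψ :=
    (isOfFinOrder_of_finite ψ).mem_powers_iff_mem_zpowers.2 (by
      rw [zpowers_eq_top_of_prime_card hcard hψ]; trivial)
  obtain ⟨b, hb⟩ := hmem
  refine ⟨b, fun hd => hφ ?_, hb.symm⟩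
  have ho : orderOf ψ ∣ b := (hcard ▸ orderOf_dvd_natCard ψ).trans hd
  rw [← hb]
  exact orderOf_dvd_iff_pow_eq_one.1 ho

lemma exc_galConj (hP : Nat.card (P : Subgroup G) = p)
    {ζ : ((P : Subgroup G) →* ℂˣ) → IrrCharacter G} {a : IrrCharacter G → ℤ} {d δ : ℤ}
    (hD : IsFrobeniusData M P ζ a d δ) {ψ φ : (P : Subgroup G) →* ℂˣ} (hψ : ψ ≠ 1) (hφ : φ ≠ 1)
    {m : ℕ} (hm : ¬ p ∣ m) (hG : Nat.card G ∣ p * m) :
    ∃ σ : ℂ ≃+* ℂ, (∀ z ∈ cycField m, σ z = z) ∧
      ∀ g, (ζ φ : G → ℂ) g = σ ((ζ ψ : G → ℂ) g) := by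
  classical
  have hp := (Fact.out : p.Prime)
  haveI : NeZero m := ⟨fun h => hm (h ▸ dvd_zero p)⟩
  haveI : NeZero p := ⟨hp.ne_zero⟩
  obtain ⟨b, hb, rfl⟩ := exists_dual_pow hP hψ hφ
  have hco : Nat.Coprime p m := hp.coprime_iff_not_dvd.2 hm
  obtain ⟨k, hk1, hk2⟩ := Nat.chineseRemainder hco b 1
  have hk : k.Coprime (p * m) := by
    refine Nat.Coprime.mul_right ?_ ?_
    · refine (hp.coprime_iff_not_dvd.2 fun h => hb ?_).symm
      exact (hk1.dvd_iff dvd_rfl).1 h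
    · unfold Nat.Coprime
      rw [hk2.gcd_eq]
      exact Nat.gcd_one_left m
  obtain ⟨σ, hσ⟩ := exists_galConj_auto (m := p * m) hk
  have hfix : ∀ z ∈ cycField m, σ z = z := by
    refine fixed_adjoin fun s hs => ?_
    rw [Set.mem_singleton_iff] at hs
    subst hs
    have h1 := (isPrimitiveRoot_zetaC m).pow_eq_one
    rw [hσ _ (by rw [mul_comm, pow_mul, h1, one_pow])]
    conv_rhs => rw [← pow_one (zetaC m)]
    exact pow_eq_pow_of_modEq hk2 h1
  refine ⟨σ, hfix, fun g => ?_⟩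
  by_cases hg : p ∣ orderOf g
  · obtain ⟨z, w, hc, hz, hw⟩ := exists_conj_isPPart P hg
    rw [apply_of_isConj _ hc, apply_of_isConj _ hc, hD.value_exc _ hψ z w hz hw,
      hD.value_exc _ hφ z w hz hw, map_add, map_mul, map_intCast, map_intCast, thetaFun_apply,
      thetaFun_apply, map_mul, map_inv₀, map_natCast, map_sum]
    congr 3
    refine Finset.sum_congr rfl fun n _ => ?_
    set u := conjSyl P n w
    have hu : ((ψ u : ℂˣ) : ℂ) ^ p = 1 := by
      rw [← Units.val_pow_eq_pow_val, ← map_pow,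
        show u ^ p = 1 from orderOf_dvd_iff_pow_eq_one.1 ((orderOf_dvd_natCard u).trans (dvd_of_eq hP)),
        map_one, Units.val_one]
    rw [hσ _ (by rw [pow_mul, hu, one_pow]), MonoidHom.pow_apply, Units.val_pow_eq_pow_val]
    exact (pow_eq_pow_of_modEq hk1 hu).symm
  · rw [hD.reg_eq _ _ hφ hψ g hg]
    refine (hfix _ (IsCharacter.mem_cycField (isCharacter_of_irr (ζ ψ).2) ?_)).symm
    exact (hp.coprime_iff_not_dvd.2 hg).symm.dvd_of_dvd_mul_left
      ((orderOf_dvd_natCard g).trans hG)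

lemma exc_sum_value (hP : Nat.card (P : Subgroup G) = p)
    {ζ : ((P : Subgroup G) →* ℂˣ) → IrrCharacter G} {a : IrrCharacter G → ℤ} {d δ : ℤ}
    (hD : IsFrobeniusData M P ζ a d δ) {S : Finset (IrrCharacter G)}
    (hS : ∀ χ, χ ∈ S ↔ χ ∈ frobExc ζ) {z : G} {y : (P : Subgroup G)}
    (hz : IsPPart p z (y : G)) (hy : (y : G) ≠ 1) :
    ∑ χ ∈ S, (χ : G → ℂ) z = ((Nat.card (frobExc ζ) * d - δ : ℤ) : ℂ) := by
  classical
  have h := frobeniusNormalizer_of_card_prime hP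
  haveI := Fintype.ofFinite (P : Subgroup G)
  choose ψ hψ hψe using fun i : {χ // χ ∈ S} => (hS i.1).1 i.2
  have hF : OrbitFamily P (fun i : {χ // χ ∈ S} => thetaFun P (ψ i)) := by
    refine ⟨fun i => ⟨ψ i, hψ i, rfl⟩, fun φ hφ => ?_, fun i j e => ?_⟩
    · let i : {χ // χ ∈ S} := ⟨ζ φ, (hS _).2 ⟨φ, hφ, rfl⟩⟩
      exact ⟨i, (hD.eq_iff (ψ i) φ (hψ i) hφ).1 (hψe i)⟩
    · refine Subtype.ext ?_
      rw [← hψe i, ← hψe j]
      exact (hD.eq_iff (ψ i) (ψ j) (hψ i) (hψ j)).2 e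
  rw [← Finset.sum_coe_sort]
  have hv : ∀ i : {χ // χ ∈ S}, (i.1 : G → ℂ) z = (d : ℂ) + (δ : ℂ) * thetaFun P (ψ i) y :=
    fun i => by rw [← hψe i]; exact hD.value_exc _ (hψ i) z y hz hy
  have hcard : Nat.card (frobExc ζ) = S.card := by
    rw [Nat.card_congr (Equiv.subtypeEquivRight fun χ => (hS χ).symm), Nat.card_eq_fintype_card,
      Fintype.card_coe]
  rw [Finset.sum_congr rfl fun i _ => hv i, Finset.sum_add_distrib, ← Finset.mul_sum,
    Finset.sum_const, Finset.card_univ, Fintype.card_coe, hcard]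
  by_cases hne : Nonempty {χ // χ ∈ S}
  · obtain ⟨i₀⟩ := hne
    rw [hF.sum_apply h (fun e => hy (congrArg Subtype.val e)) i₀]
    push_cast
    ring
  · exfalso
    obtain ⟨φ, hφ⟩ := exists_char_ne_one h (fun e => hy (congrArg Subtype.val e))
    exact hne ⟨⟨ζ φ, (hS _).2 ⟨φ, fun e => hφ (by simp [e]), rfl⟩⟩⟩

/-! ### The block -/

/-- The shape of the principal block for a Sylow subgroup of order `p`. -/
structure PrimeData (M : Ideal AlgInt) (P : Sylow p G) (X Y : Set (IrrCharacter G))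
    (εX : IrrCharacter G → ℤ) (ε : ℤ) : Prop where
  union : principalBlock M G = X ∪ Y
  disjoint : Disjoint X Y
  card_X : Nat.card X = frobIndex P
  card_Y : Nat.card Y = (p - 1) / frobIndex P
  signX : ∀ χ ∈ X, εX χ = 1 ∨ εX χ = -1
  valueX : ∀ χ ∈ X, ∀ (z : G) (y : (P : Subgroup G)), IsPPart p z (y : G) → (y : G) ≠ 1 →
    (χ : G → ℂ) z = (εX χ : ℂ)
  degX : ∀ χ ∈ X, (charDegree (χ : G → ℂ) : ℤ) ≡ εX χ [ZMOD p]
  sign : ε = 1 ∨ ε = -1
  degY : ∀ θ ∈ Y, (charDegree (θ : G → ℂ) : ℤ) ≡ ε * (frobIndex P : ℤ) [ZMOD p]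
  regY : ∀ θ ∈ Y, ∀ θ' ∈ Y, ∀ g : G, ¬ p ∣ orderOf g → (θ : G → ℂ) g = (θ' : G → ℂ) g
  rel : ∀ θ ∈ Y, ∀ g : G, ¬ p ∣ orderOf g →
    (ε : ℂ) * (θ : G → ℂ) g = ∑ᶠ χ ∈ X, (εX χ : ℂ) * (χ : G → ℂ) g

lemma deg_modEq_value (hM : IsPModular p M) (hP : Nat.card (P : Subgroup G) = p)
    (χ : IrrCharacter G) {a : ℤ}
    (hval : ∀ (z : G) (y : (P : Subgroup G)), IsPPart p z (y : G) → (y : G) ≠ 1 →
      (χ : G → ℂ) z = (a : ℂ)) :
    (charDegree (χ : G → ℂ) : ℤ) ≡ a [ZMOD p] := by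
  obtain ⟨⟨y, hyP⟩, hy⟩ := exists_prime_orderOf_dvd_card' (G := (P : Subgroup G)) p (by rw [hP])
  rw [← Subgroup.orderOf_coe] at hy
  change orderOf y = p at hy
  have hy1 : y ≠ 1 := fun h => (Fact.out : p.Prime).ne_one (by rw [← hy, h, orderOf_one])
  have hy' : ∃ k : ℕ, orderOf y = p ^ k := ⟨1, by rw [pow_one]; exact hy⟩
  have h1 := small_apply_mul_sub hM (isCharacter_of_irr χ.2) (Commute.one_right y) hy'
    (by rw [orderOf_one]; exact (Fact.out : p.Prime).not_dvd_one)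
  rw [mul_one, hval y ⟨y, hyP⟩ (isPPart_self hM.1 hy') hy1,
    show (χ : G → ℂ) 1 = ((charDegree (χ : G → ℂ) : ℤ) : ℂ) by
      simp [irr_apply_one_eq_deg, charDegree], ← Int.cast_sub] at h1
  exact Int.modEq_iff_dvd.2 ((small_intCast_iff hM _).1 h1)

lemma natAbs_ord_le_one (hM : IsPModular p M) (hP : Nat.card (P : Subgroup G) = p)
    (χ : IrrCharacter G) {a : ℤ}
    (hval : ∀ (z : G) (y : (P : Subgroup G)), IsPPart p z (y : G) → (y : G) ≠ 1 →
      (χ : G → ℂ) z = (a : ℂ)) : a.natAbs ≤ 1 := by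
  refine natAbs_value_le_one hM hP {χ} (χ₁ := χ) (fun m _ _ ψ hψ => ?_) (fun ψ hψ g _ => ?_) a
    fun z y hz hy => by rw [Finset.sum_singleton]; exact hval z y hz hy
  · rw [Finset.mem_singleton] at hψ
    subst hψ
    exact ⟨RingEquiv.refl ℂ, fun z _ => rfl, fun g => rfl⟩
  · rw [Finset.mem_singleton] at hψ
    rw [hψ]

lemma int_eq_sign {a : ℤ} (h0 : a ≠ 0) (h1 : a.natAbs ≤ 1) : a = 1 ∨ a = -1 := by omega

/-- The case of at least two exceptional characters, normalised. -/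
lemma primeData_of_frobeniusData (hM : IsPModular p M) (hP : Nat.card (P : Subgroup G) = p)
    (hlt : frobIndex P + 1 < p) :
    ∃ X Y εX ε, PrimeData M P X Y εX ε := by
  classical
  have h := frobeniusNormalizer_of_card_prime hP
  have hlt' : frobIndex P + 1 < Nat.card (P : Subgroup G) := by rwa [hP]
  obtain ⟨ζ₀, a, d₀, δ₀, hD₀⟩ := exists_frobeniusData hM h hlt'
  -- normalise the constant to zero
  obtain ⟨ζ, δ, hD⟩ : ∃ ζ δ, IsFrobeniusData M P ζ a 0 δ := by
    set t : ℤ := (Nat.card (frobExc ζ₀) : ℤ) with ht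
    have ht2 : 2 ≤ t := by rw [ht]; exact_mod_cast hD₀.two_le_card_exc hlt'
    obtain ⟨ψ₀, hψ₀⟩ : ∃ ψ : (P : Subgroup G) →* ℂˣ, ψ ≠ 1 := by
      haveI := finite_dual h
      haveI : Nontrivial ((P : Subgroup G) →* ℂˣ) := Finite.one_lt_card_iff_nontrivial.1 (by
        rw [card_dual h, hP]; exact (Fact.out : p.Prime).one_lt)
      exact exists_ne 1
    have hb : (t * d₀ - δ₀).natAbs ≤ 1 := by
      refine natAbs_value_le_one hM hP (frobExc ζ₀).toFinite.toFinset (χ₁ := ζ₀ ψ₀) ?_ ?_ _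
        fun z y hz hy => exc_sum_value hP hD₀ (fun χ => Set.Finite.mem_toFinset _) hz hy
      · intro m hm hG χ hχ
        obtain ⟨φ, hφ, rfl⟩ := (Set.Finite.mem_toFinset _).1 hχ
        exact exc_galConj hP hD₀ hψ₀ hφ hm hG
      · intro χ hχ g hg
        obtain ⟨φ, hφ, rfl⟩ := (Set.Finite.mem_toFinset _).1 hχ
        exact hD₀.reg_eq φ ψ₀ hφ hψ₀ g hg
    by_cases hd : d₀ = 0
    · exact ⟨ζ₀, δ₀, hd ▸ hD₀⟩
    · have h1 : t = 2 ∧ d₀ = δ₀ := by
        have h4 : (t * d₀).natAbs ≤ 2 := by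
          rcases hD₀.sign with e | e <;> rw [e] at hb <;> omega
        rw [Int.natAbs_mul] at h4
        have h5 : 1 ≤ d₀.natAbs := Int.natAbs_pos.2 hd
        have h6 : t.natAbs * 1 ≤ t.natAbs * d₀.natAbs := Nat.mul_le_mul_left _ h5
        have ht' : t = 2 := by omega
        rw [ht'] at h4
        have hdabs : d₀.natAbs = 1 := by simp at h4; omega
        refine ⟨ht', ?_⟩
        rw [ht'] at hb
        rcases hD₀.sign with e | e <;> rw [e] at hb ⊢ <;> omega
      obtain ⟨ht', rfl⟩ := h1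
      have h2 : Nat.card (frobExc ζ₀) = 2 := by rw [ht] at ht'; exact_mod_cast ht'
      obtain ⟨ζ', -, hD'⟩ := IsFrobeniusData.swap h hM hD₀ h2
      exact ⟨ζ', -d₀, hD'⟩
  obtain ⟨hU, hdisj⟩ := frobExc_union_frobOrd hD.mem
  have hsign : ∀ χ ∈ frobOrd M ζ, a χ = 1 ∨ a χ = -1 := fun χ hχ =>
    int_eq_sign (hD.ne_zero χ hχ) (natAbs_ord_le_one hM hP χ (hD.value_ord χ hχ))
  have hsq : ∑ᶠ χ ∈ frobOrd M ζ, a χ ^ 2 = (Nat.card (frobOrd M ζ) : ℤ) := by
    rw [finsum_mem_eq_finite_toFinset_sum _ (Set.toFinite _),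
      show Nat.card (frobOrd M ζ) = (Set.toFinite (frobOrd M ζ)).toFinset.card from
        Set.ncard_eq_toFinset_card _ _, Finset.card_eq_sum_ones, Nat.cast_sum]
    refine Finset.sum_congr rfl fun χ hχ => ?_
    rcases hsign χ ((Set.Finite.mem_toFinset _).1 hχ) with e | e <;> simp [e]
  have hX : Nat.card (frobOrd M ζ) = frobIndex P := by
    have e := hD.norm
    rw [hsq] at e
    have e1 : δ ^ 2 = 1 := by rcases hD.sign with e' | e' <;> simp [e']
    generalize Nat.card (frobOrd M ζ) = c at e ⊢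
    have e2 : (c : ℤ) = (frobIndex P : ℤ) := by linear_combination e - e1
    exact_mod_cast e2
  have hY : Nat.card (frobExc ζ) = (p - 1) / frobIndex P := by rw [hD.card_exc_eq, hP]
  have hrel : ∀ θ ∈ frobExc ζ, ∀ g : G, ¬ p ∣ orderOf g →
      (δ : ℂ) * (θ : G → ℂ) g = ∑ᶠ χ ∈ frobOrd M ζ, (a χ : ℂ) * (χ : G → ℂ) g := by
    rintro θ ⟨ψ, hψ, rfl⟩ g hg
    have e := hD.reg_rel ψ hψ g hg
    push_cast at e
    linear_combination -e
  refine ⟨frobOrd M ζ, frobExc ζ, a, δ, hU, hdisj, hX, hY, hsign, hD.value_ord,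
    fun χ hχ => deg_modEq_value hM hP χ (hD.value_ord χ hχ), hD.sign, ?_, ?_, hrel⟩
  · intro θ hθ
    have e := hrel θ hθ 1 (by rw [orderOf_one]; exact (Fact.out : p.Prime).not_dvd_one)
    rw [finsum_mem_eq_finite_toFinset_sum _ (Set.toFinite _)] at e
    have e' : δ * (charDegree (θ : G → ℂ) : ℤ) =
        ∑ χ ∈ (Set.toFinite (frobOrd M ζ)).toFinset, a χ * (charDegree (χ : G → ℂ) : ℤ) := by
      simp only [irr_apply_one_eq_deg] at e
      simp only [charDegree_eq_deg]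
      exact_mod_cast e
    have h1 : δ * (charDegree (θ : G → ℂ) : ℤ) ≡ (frobIndex P : ℤ) [ZMOD p] := by
      rw [e', ← hX, show (Nat.card (frobOrd M ζ) : ℤ) =
        ∑ χ ∈ (Set.toFinite (frobOrd M ζ)).toFinset, a χ * a χ by
          rw [← hsq, finsum_mem_eq_finite_toFinset_sum _ (Set.toFinite _)]
          exact Finset.sum_congr rfl fun χ _ => sq _]
      refine Int.ModEq.sum fun χ hχ => Int.ModEq.mul_left _ ?_
      exact deg_modEq_value hM hP χ (hD.value_ord χ ((Set.Finite.mem_toFinset _).1 hχ))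
    have h2 := h1.mul_left δ
    rwa [← mul_assoc, show δ * δ = 1 by rcases hD.sign with e | e <;> simp [e], one_mul] at h2
  · rintro θ ⟨ψ, hψ, rfl⟩ θ' ⟨φ, hφ, rfl⟩ g hg
    exact hD.reg_eq ψ φ hψ hφ g hg

/-- The case of a single exceptional character. -/
lemma primeData_of_index_eq (hM : IsPModular p M) (hP : Nat.card (P : Subgroup G) = p)
    (he : frobIndex P + 1 = p) :
    ∃ X Y εX ε, PrimeData M P X Y εX ε := by
  classical
  have hp := (Fact.out : p.Prime)
  have h := frobeniusNormalizer_of_card_prime hP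
  haveI := finite_dual h
  haveI := Fintype.ofFinite ((P : Subgroup G) →* ℂˣ)
  haveI := Fintype.ofFinite (P : Subgroup G)
  haveI : Nontrivial ((P : Subgroup G) →* ℂˣ) := Finite.one_lt_card_iff_nontrivial.1 (by
    rw [card_dual h, hP]; exact hp.one_lt)
  obtain ⟨ψ₀, hψ₀⟩ := exists_ne (1 : (P : Subgroup G) →* ℂˣ)
  have hF : OrbitFamily P (fun _ : Unit => thetaFun P ψ₀) := by
    refine ⟨fun _ => ⟨ψ₀, hψ₀, rfl⟩, fun φ hφ => ⟨(), ?_⟩, fun i j _ => rfl⟩
    refine (thetaFun_eq_of_mem ?_).symm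
    have hsub : Finset.univ.filter (· ∈ sylOrbit P ψ₀) ⊆
        (Finset.univ : Finset ((P : Subgroup G) →* ℂˣ)).erase 1 := fun χ hχ =>
      Finset.mem_erase.2
        ⟨ne_one_of_mem_sylOrbit hψ₀ (Finset.mem_filter.1 hχ).2, Finset.mem_univ _⟩
    have := Finset.eq_of_subset_of_card_le hsub (by
      rw [card_sylOrbit h hψ₀, Finset.card_erase_of_mem (Finset.mem_univ _), Finset.card_univ,
        ← Nat.card_eq_fintype_card, card_dual h, hP]
      omega)
    exact (Finset.mem_filter.1 (this ▸ Finset.mem_erase.2 ⟨hφ, Finset.mem_univ φ⟩)).2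
  choose b hb' using fun χ : IrrCharacter G =>
    classInner_generalized_int (hF.base_generalized h ()) (isCharacter_of_irr χ.2)
  have hb : ∀ χ : IrrCharacter G,
      classInner (χ : G → ℂ) (sectionExt P (orbBase (fun _ : Unit => thetaFun P ψ₀) ())) =
        (b χ : ℂ) := fun χ => by rw [← classInner_conj_symm, hb', map_intCast]
  have hinj : Function.Injective (fun _ : Unit => principal G) := fun i j _ => rfl
  have hν : ∀ i : Unit, sectionExt P (orbDiff (fun _ : Unit => thetaFun P ψ₀) () i) =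
      ((1 : ℤ) : ℂ) • (((principal G : IrrCharacter G) : G → ℂ) - (principal G : G → ℂ)) :=
    fun i => funext fun g => by simp [sectionExt, orbDiff]
  have hδ : (1 : ℤ) = 1 ∨ (1 : ℤ) = -1 := Or.inl rfl
  have hnorm := base_norm hM h hF hδ hinj hν hb
  have hexp := @base_expand G _ _ M p _ P Unit _ _ _ () 1 (fun _ => principal G) b hM h hF hδ hinj
    hν hb
  have hout := fun χ => base_coeff_outside (χ := χ) hM h hF hδ hinj hν hb
  have hone := base_coeff_principal hM h hF hδ hinj hν hb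
  have hval : ∀ χ ∈ principalBlock M G, ∀ (z : G) (y : (P : Subgroup G)),
      IsPPart p z (y : G) → (y : G) ≠ 1 → (χ : G → ℂ) z = (b χ : ℂ) := by
    intro χ hχ z y hz hy
    have hd0 : ∀ i : Unit, classInner (χ : G → ℂ)
        (sectionExt P (orbDiff (fun _ : Unit => thetaFun P ψ₀) () i)) = 0 := fun i => by
      rw [hν i, sub_self, smul_zero]
      simp [classInner_def]
    rw [hF.apply_section h hM () hχ hz hy, hb]
    simp [hd0]
  have hsign : ∀ χ ∈ principalBlock M G, b χ = 1 ∨ b χ = -1 := by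
    intro χ hχ
    refine int_eq_sign (fun h0 => ?_) (natAbs_ord_le_one hM hP χ (hval χ hχ))
    obtain ⟨y, hy1, hy⟩ := exists_apply_ne_zero hM h (by rw [hP]; exact hp.ne_one) hχ
    exact hy (by rw [hval χ hχ (y : G) y (isPPart_self hM.1 (orderOf_syl y)) hy1, h0, Int.cast_zero])
  set B := (Finset.univ : Finset (IrrCharacter G)).filter (· ∈ principalBlock M G) with hB
  have hBcard : B.card = frobIndex P + 1 := by
    have h1 : ∑ χ ∈ B, b χ * b χ = ∑ χ : IrrCharacter G, b χ * b χ := by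
      refine Finset.sum_subset (Finset.subset_univ _) fun χ _ hχ => ?_
      rw [hout χ fun hin => hχ (Finset.mem_filter.2 ⟨Finset.mem_univ _, hin⟩), mul_zero]
    rw [hnorm, Finset.sum_congr rfl fun χ hχ => show b χ * b χ = 1 by
      rcases hsign χ (Finset.mem_filter.1 hχ).2 with e | e <;> simp [e]] at h1
    simp only [Finset.sum_const, nsmul_eq_mul, mul_one] at h1
    exact_mod_cast h1
  have hp1 : (principal G : IrrCharacter G) ∈ principalBlock M G :=
    mem_blockOf_self hM (principal G)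
  obtain ⟨η, hη, -⟩ := Finset.exists_mem_ne (s := B) (by rw [hBcard]; have := frobIndex_pos P; omega)
    (principal G)
  have hηB := (Finset.mem_filter.1 hη).2
  have hsum : ∀ g : G, ¬ p ∣ orderOf g →
      ∑ χ ∈ B, (b χ : ℂ) * (χ : G → ℂ) g = 0 := by
    intro g hg
    rw [Finset.sum_subset (Finset.subset_univ B) fun χ _ hχ => by
      rw [hout χ fun hin => hχ (Finset.mem_filter.2 ⟨Finset.mem_univ _, hin⟩), Int.cast_zero,
        zero_mul], ← hexp, sectionExt_regular h (hF.base_invariant ()) hg, hF.base_one]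
  refine ⟨principalBlock M G \ {η}, {η}, b, -b η, ?_, Set.disjoint_sdiff_left, ?_, ?_,
    fun χ hχ => hsign χ hχ.1, fun χ hχ => hval χ hχ.1,
    fun χ hχ => deg_modEq_value hM hP χ (hval χ hχ.1), ?_, ?_, ?_, ?_⟩
  · rw [Set.sdiff_union_self, Set.union_eq_left.2 (Set.singleton_subset_iff.2 hηB)]
  · rw [Nat.card_congr (Equiv.subtypeEquivRight
      (q := fun χ => χ ∈ B.erase η) fun χ => by simp [hB, and_comm]), Nat.card_eq_fintype_card,
      Fintype.card_coe, Finset.card_erase_of_mem hη, hBcard, Nat.add_sub_cancel]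
  · rw [show p - 1 = frobIndex P by omega, Nat.div_self (frobIndex_pos P)]
    simp
  · rcases hsign η hηB with e | e <;> simp [e]
  · rintro θ rfl
    refine (deg_modEq_value hM hP θ (hval θ hηB)).trans (Int.modEq_iff_dvd.2 ⟨-b θ, ?_⟩)
    have : (p : ℤ) = (frobIndex P : ℤ) + 1 := by exact_mod_cast he.symm
    rw [this]
    ring
  · rintro θ rfl θ' rfl g _
    rfl
  · rintro θ rfl g hg
    have e := hsum g hg
    rw [← Finset.add_sum_erase _ _ hη] at e
    rw [finsum_mem_eq_finite_toFinset_sum _ (Set.toFinite _),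
      Finset.sum_congr (s₂ := B.erase θ) (by ext χ; simp [hB, and_comm]) fun χ _ => rfl]
    push_cast
    linear_combination -e

theorem exists_primeData (hM : IsPModular p M) (hP : Nat.card (P : Subgroup G) = p) :
    ∃ X Y εX ε, PrimeData M P X Y εX ε := by
  classical
  have h := frobeniusNormalizer_of_card_prime hP
  haveI := finite_dual h
  haveI := Fintype.ofFinite ((P : Subgroup G) →* ℂˣ)
  haveI : Nontrivial ((P : Subgroup G) →* ℂˣ) := Finite.one_lt_card_iff_nontrivial.1 (by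
    rw [card_dual h, hP]; exact (Fact.out : p.Prime).one_lt)
  obtain ⟨ψ₀, hψ₀⟩ := exists_ne (1 : (P : Subgroup G) →* ℂˣ)
  have hle : frobIndex P + 1 ≤ p := by
    have h1 : (Finset.univ.filter (· ∈ sylOrbit P ψ₀)).card ≤
        ((Finset.univ : Finset ((P : Subgroup G) →* ℂˣ)).erase 1).card :=
      Finset.card_le_card fun χ hχ => Finset.mem_erase.2
        ⟨ne_one_of_mem_sylOrbit hψ₀ (Finset.mem_filter.1 hχ).2, Finset.mem_univ _⟩
    rw [card_sylOrbit h hψ₀, Finset.card_erase_of_mem (Finset.mem_univ _), Finset.card_univ,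
      ← Nat.card_eq_fintype_card, card_dual h, hP] at h1
    have := (Fact.out : p.Prime).one_le
    omega
  rcases hle.lt_or_eq with h1 | h1
  · exact primeData_of_frobeniusData hM hP h1
  · exact primeData_of_index_eq hM hP h1

end Cfsg.Lib.Blocks
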