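import Mathlib
import Cfsg.Agent.Blocks.KleinFour

/-!
# The order formula from a principal 2-block with a Klein four Sylow subgroup
-/

set_option autoImplicit false
set_option linter.unusedSectionVars false

namespace Cfsg.Lib.Blocks

open Cfsg.Lib.Chars
open scoped ComplexConjugate

universe u

variable {G : Type u} [Group G] [Fintype G] {M : Ideal AlgInt}

/-- The elements of odd order commuting with an involution form a subgroup of index four in
its centralizer, complementary to the Sylow subgroup. -/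
theorem exists_odd_part (Q : Sylow 2 G) (hQc : Nat.card (Q : Subgroup G) = 4)
    (hQ2 : ∀ u ∈ (Q : Subgroup G), u * u = 1) {z : G} (hz : z ∈ (Q : Subgroup G)) (hz1 : z ≠ 1) :
    ∃ L : Subgroup G, (∀ y : G, y ∈ L ↔ Commute z y ∧ ¬ 2 ∣ orderOf y) ∧
      4 * Nat.card L = Nat.card (Subgroup.centralizer ({z} : Set G)) ∧
      (∀ c : G, Commute z c → ∀ y ∈ L, c * y * c⁻¹ ∈ L) ∧
      ∀ c : G, Commute z c → ∃ q ∈ (Q : Subgroup G), c * q ∈ L := by
  classical
  set C := Subgroup.centralizer ({z} : Set G) with hC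
  obtain ⟨L, hLn, hLi, hLo, hL⟩ : ∃ L : Subgroup C, L.Normal ∧ L.index = 4 ∧
      ¬ 2 ∣ Nat.card L ∧ ∀ c, c ∈ L ↔ ¬ 2 ∣ orderOf c :=
    exists_odd_complement Q hQc hQ2 hz hz1
  have hmem : ∀ y : G, y ∈ L.map C.subtype ↔ Commute z y ∧ ¬ 2 ∣ orderOf y := by
    intro y
    constructor
    · rintro ⟨c, hc, rfl⟩
      refine ⟨(Subgroup.mem_centralizer_singleton_iff.1 c.2).symm, ?_⟩
      show ¬ 2 ∣ orderOf (c : G)
      rw [Subgroup.orderOf_coe]
      exact (hL c).1 hc
    · rintro ⟨hy, hy2⟩
      refine ⟨⟨y, Subgroup.mem_centralizer_singleton_iff.2 hy.symm.eq⟩, (hL _).2 ?_, rfl⟩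
      rw [Subgroup.orderOf_mk]
      exact hy2
  refine ⟨L.map C.subtype, hmem, ?_, ?_, ?_⟩
  · rw [Subgroup.card_map_of_injective (Subgroup.subtype_injective _), ← L.card_mul_index, hLi,
      mul_comm]
  · intro c hc y hy
    obtain ⟨hy1, hy2⟩ := (hmem y).1 hy
    refine (hmem _).2 ⟨(hc.mul_right hy1).mul_right hc.inv_right, ?_⟩
    rwa [show c * y * c⁻¹ = MulAut.conj c y from rfl, MulEquiv.orderOf_eq]
  · intro c hc
    have hle : (Q : Subgroup G) ≤ C := fun u hu =>
      Subgroup.mem_centralizer_singleton_iff.2 (commute_of_sq_eq_one hQ2 hu hz).eq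
    let f : ↥(Q : Subgroup G) → C ⧸ L := fun q => QuotientGroup.mk (⟨q.1, hle q.2⟩ : C)
    have hinj : Function.Injective f := by
      intro q q' h
      have h' : (⟨q.1, hle q.2⟩ : C)⁻¹ * ⟨q'.1, hle q'.2⟩ ∈ L := QuotientGroup.eq.1 h
      have hodd := (hL _).1 h'
      rw [← Subgroup.orderOf_coe] at hodd
      by_contra hne
      have hne' : (q.1)⁻¹ * q'.1 ≠ 1 := fun e => hne (Subtype.ext (inv_mul_eq_one.1 e))
      refine hodd (dvd_of_eq (orderOf_eq_prime (p := 2) ?_ hne').symm)
      rw [pow_two]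
      exact hQ2 _ (mul_mem (inv_mem q.2) q'.2)
    letI := Fintype.ofFinite (C ⧸ L)
    have hbij : Function.Bijective f := (Fintype.bijective_iff_injective_and_card f).2
      ⟨hinj, by rw [← Nat.card_eq_fintype_card, ← Nat.card_eq_fintype_card, hQc]; exact hLi.symm⟩
    obtain ⟨q, hq⟩ := hbij.2 (QuotientGroup.mk ((⟨c, Subgroup.mem_centralizer_singleton_iff.2 hc.symm.eq⟩ : C)⁻¹))
    have h' := QuotientGroup.eq.1 hq.symm
    rw [inv_inv] at h'
    exact ⟨q.1, q.2, ⟨_, h', rfl⟩⟩

/-- The involutions inverting an odd subgroup element in a coset form a conjugacy orbit. -/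
lemma card_involutions_coset (L K : Subgroup G) {q : G} (hq : q * q = 1) (hodd : ∀ y ∈ L, ¬ 2 ∣ orderOf y)
    (hn : ∀ l ∈ L, q * l * q ∈ L) (hK : ∀ l, l ∈ K ↔ l ∈ L ∧ Commute l q)
    [DecidablePred fun s : G => s * s = 1 ∧ s * q ∈ L] :
    (Finset.univ.filter fun s : G => s * s = 1 ∧ s * q ∈ L).card * Nat.card K = Nat.card L := by
  classical
  set I := Finset.univ.filter fun s : G => s * s = 1 ∧ s * q ∈ L with hI
  set A := Finset.univ.filter fun l : G => l ∈ L with hA
  have hqi : q⁻¹ = q := inv_eq_of_mul_eq_one_right hq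
  have hmap : ∀ l ∈ A, l * q * l⁻¹ ∈ I := by
    intro l hl
    have hl' : l ∈ L := (Finset.mem_filter.1 hl).2
    refine Finset.mem_filter.2 ⟨Finset.mem_univ _, ?_, ?_⟩
    · calc l * q * l⁻¹ * (l * q * l⁻¹) = l * (q * q) * l⁻¹ := by group
        _ = 1 := by rw [hq]; group
    · rw [show l * q * l⁻¹ * q = l * (q * l⁻¹ * q) by group]
      exact mul_mem hl' (hn _ (inv_mem hl'))
  have hfib : ∀ s ∈ I, (A.filter fun l => l * q * l⁻¹ = s).card = Nat.card K := by
    intro s hs
    obtain ⟨hs2, hsq⟩ := (Finset.mem_filter.1 hs).2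
    set y := s * q with hy
    have hyinv : q * y = y⁻¹ * q := by
      rw [hy, mul_inv_rev, hqi, inv_eq_of_mul_eq_one_right hs2]
      group
    obtain ⟨k, hk⟩ : Odd (orderOf y) :=
      Nat.not_even_iff_odd.1 fun h => hodd y hsq (even_iff_two_dvd.1 h)
    set u := y ^ (k + 1) with hu
    have huL : u ∈ L := pow_mem hsq _
    have huq : ∀ m : ℕ, q * (y ^ m)⁻¹ = y ^ m * q := by
      intro m
      induction m with
      | zero => simp
      | succ m ih =>
        have h1 : q * y⁻¹ = y * q := by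
          have := congrArg (fun t => y * t * y⁻¹) hyinv
          simpa [mul_assoc] using this.symm
        rw [pow_succ', mul_inv_rev]
        calc q * ((y ^ m)⁻¹ * y⁻¹) = q * (y ^ m)⁻¹ * y⁻¹ := by group
          _ = y ^ m * (q * y⁻¹) := by rw [ih]; group
          _ = y ^ m * y * q := by rw [h1]; group
          _ = _ := by rw [← pow_succ, pow_succ']
    have hus : u * q * u⁻¹ = s := by
      rw [mul_assoc, hu, huq, ← mul_assoc, ← pow_add, show k + 1 + (k + 1) = orderOf y + 1 by omega,
        pow_succ, pow_orderOf_eq_one, one_mul, hy, mul_assoc, hq, mul_one]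
    rw [Nat.card_eq_fintype_card, ← Finset.card_univ]
    refine Finset.card_bij' (fun l hl => (⟨u⁻¹ * l, (hK _).2 ⟨mul_mem (inv_mem huL)
        (Finset.mem_filter.1 (Finset.mem_filter.1 hl).1).2, ?_⟩⟩ : K))
      (fun c _ => u * (c : G)) (fun _ _ => Finset.mem_univ _) ?_ (fun l _ => by simp)
      (fun c _ => by simp)
    · have h1 := (Finset.mem_filter.1 hl).2.trans hus.symm
      show u⁻¹ * l * q = q * (u⁻¹ * l)
      calc u⁻¹ * l * q = u⁻¹ * (l * q * l⁻¹) * l := by group
        _ = u⁻¹ * (u * q * u⁻¹) * l := by rw [h1]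
        _ = _ := by group
    · intro c _
      have hc := (hK _).1 c.2
      refine Finset.mem_filter.2 ⟨Finset.mem_filter.2 ⟨Finset.mem_univ _, mul_mem huL hc.1⟩, ?_⟩
      calc u * (c : G) * q * (u * (c : G))⁻¹ = u * ((c : G) * q * (c : G)⁻¹) * u⁻¹ := by group
        _ = s := by rw [hc.2.eq, mul_inv_cancel_right, hus]
  calc I.card * Nat.card K = ∑ s ∈ I, (A.filter fun l => l * q * l⁻¹ = s).card := by
        rw [Finset.sum_congr rfl hfib, Finset.sum_const, smul_eq_mul]
    _ = A.card := (Finset.card_eq_sum_card_fiberwise hmap).symm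
    _ = Nat.card L := by rw [hA, ← Fintype.card_subtype, ← Nat.card_eq_fintype_card]

/-- Without a normal 2-complement a Sylow subgroup of order four is a Klein group and all
involutions are conjugate. -/
theorem klein_of_no_complement {g₀ : ℕ}
    (hG : Nat.card G = 4 * g₀) (hnc : ¬ ∃ N : Subgroup G, N.Normal ∧ Nat.card N = g₀)
    (P : Sylow 2 G) (hP4 : Nat.card (P : Subgroup G) = 4) {J : G} (hJ : J ∈ (P : Subgroup G))
    (hJ2 : orderOf J = 2) :
    (∀ u ∈ (P : Subgroup G), u * u = 1) ∧
      ∀ s t : G, orderOf s = 2 → orderOf t = 2 → IsConj s t := by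
  classical
  haveI : Fact (Nat.Prime 2) := ⟨Nat.prime_two⟩
  have hPab : ∀ a ∈ (P : Subgroup G), ∀ b ∈ (P : Subgroup G), Commute a b := fun a ha b hb =>
    congrArg Subtype.val (IsPGroup.commutative_of_card_eq_prime_sq (p := 2)
      (by rw [hP4]; norm_num) (⟨a, ha⟩ : (P : Subgroup G)) ⟨b, hb⟩)
  obtain ⟨n, hn, a, haP, hna⟩ : ∃ n ∈ Subgroup.normalizer ((P : Subgroup G) : Set G),
      ∃ a ∈ (P : Subgroup G), ¬ Commute n a := by
    by_contra h
    push Not at h
    have hNC : Subgroup.normalizer (P : Set G) ≤ Subgroup.centralizer (P : Set G) :=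
      fun n hn => Subgroup.mem_centralizer_iff.2 fun a ha => (h n hn a ha).symm.eq
    refine hnc ⟨(MonoidHom.transferSylow P hNC).ker, inferInstance, ?_⟩
    have h1 := (MonoidHom.ker_transferSylow_isComplement' P hNC).card_mul
    rw [hG, hP4, mul_comm 4] at h1
    exact Nat.eq_of_mul_eq_mul_right (by norm_num) h1
  set b := n * a * n⁻¹ with hb
  have hbP : b ∈ (P : Subgroup G) := (Subgroup.mem_set_normalizer_iff.1 hn a).1 haP
  have hba : b ≠ a := fun h => hna (mul_inv_eq_iff_eq_mul.1 h)
  set c := n * b * n⁻¹ with hc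
  have hcP : c ∈ (P : Subgroup G) := (Subgroup.mem_set_normalizer_iff.1 hn b).1 hbP
  have hcb : c ≠ b := fun h => hba (mul_left_cancel (mul_right_cancel h))
  have hca : c ≠ a := fun h => by
    refine hna (commute_of_sq hPab hn haP ?_)
    have e : (n * n) * a * (n * n)⁻¹ = a := by
      refine Eq.trans ?_ h
      rw [hc, hb]
      group
    exact mul_inv_eq_iff_eq_mul.1 e
  have hord : ∀ x : G, orderOf (n * x * n⁻¹) = orderOf x := fun x => by
    rw [show n * x * n⁻¹ = MulAut.conj n x from rfl, MulEquiv.orderOf_eq]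
  have ha1 : a ≠ 1 := fun h => hna (h ▸ Commute.one_right n)
  have hb1 : b ≠ 1 := fun h => ha1 (conj_eq_one_iff.1 h)
  have hc1 : c ≠ 1 := fun h => hb1 (conj_eq_one_iff.1 h)
  have hall : ∀ u ∈ (P : Subgroup G), u = 1 ∨ u = a ∨ u = b ∨ u = c := by
    intro u hu
    have hs : ({1, a, b, c} : Finset G) = Finset.univ.filter (fun g => g ∈ (P : Subgroup G)) := by
      refine Finset.eq_of_subset_of_card_le (fun g hg => ?_) ?_
      · simp only [Finset.mem_insert, Finset.mem_singleton] at hg
        refine Finset.mem_filter.2 ⟨Finset.mem_univ _, ?_⟩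
        rcases hg with rfl | rfl | rfl | rfl
        exacts [one_mem _, haP, hbP, hcP]
      · rw [Finset.card_eq_four.2 ⟨1, a, b, c, ha1.symm, hb1.symm, hc1.symm, hba.symm, hca.symm,
          hcb.symm, rfl⟩, ← Fintype.card_subtype, ← Nat.card_eq_fintype_card]
        exact hP4.le
    have := hs ▸ (Finset.mem_filter.2 ⟨Finset.mem_univ u, hu⟩)
    simpa using this
  have hoa : orderOf a = 2 := by
    rcases hall J hJ with h | h | h | h
    · rw [h, orderOf_one] at hJ2; omega
    · rw [← h, hJ2]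
    · rw [← hord a, ← hb, ← h, hJ2]
    · rw [← hord a, ← hb, ← hord b, ← hc, ← h, hJ2]
  have hexp : ∀ u ∈ (P : Subgroup G), u * u = 1 := by
    intro u hu
    have key : ∀ x : G, orderOf x = 2 → x * x = 1 := fun x hx => by
      rw [← pow_two, ← hx, pow_orderOf_eq_one]
    rcases hall u hu with h | h | h | h <;> subst h
    · exact one_mul 1
    · exact key _ hoa
    · exact key _ ((hord a).trans hoa)
    · exact key _ ((hord b).trans ((hord a).trans hoa))
  have hone : ∀ s t : G, orderOf s = 2 → orderOf t = 2 → IsConj s t := by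
    have key : ∀ s : G, orderOf s = 2 → IsConj s a := by
      intro s hs
      have hsp : IsPGroup 2 (Subgroup.zpowers s) :=
        IsPGroup.of_card (n := 1) (by rw [Nat.card_zpowers, hs, pow_one])
      obtain ⟨Q, hQ⟩ := hsp.exists_le_sylow
      obtain ⟨g, hg⟩ := MulAction.exists_smul_eq G P Q
      have hsQ := hQ (Subgroup.mem_zpowers s)
      rw [← hg, Sylow.coe_subgroup_smul, Subgroup.mem_pointwise_smul_iff_inv_smul_mem] at hsQ
      simp only [MulAut.smul_def, MulAut.inv_def, MulAut.conj_symm_apply] at hsQ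
      have h1 : IsConj s (g⁻¹ * s * g) := isConj_iff.2 ⟨g⁻¹, by rw [inv_inv]⟩
      have h2 : IsConj a b := isConj_iff.2 ⟨n, rfl⟩
      have h3 : IsConj b c := isConj_iff.2 ⟨n, rfl⟩
      rcases hall _ hsQ with h | h | h | h <;> rw [h] at h1
      · rw [isConj_one_left.1 h1, orderOf_one] at hs; omega
      · exact h1
      · exact h1.trans h2.symm
      · exact h1.trans (h2.trans h3).symm
    exact fun s t hs ht => (key s hs).trans (key t ht).symm
  exact ⟨hexp, hone⟩

variable {P : Sylow 2 G} (hP : Nat.card (P : Subgroup G) = 4)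
  (hexp : ∀ u ∈ (P : Subgroup G), u * u = 1) (hM : IsPModular 2 M)
  (hone : ∀ s t : G, orderOf s = 2 → orderOf t = 2 → IsConj s t)


include hP hexp hM in
/-- Outside the principal block the values on a section of an involution sum to zero. -/
theorem sum_odd_part_eq_zero {J : G} (hJ2 : orderOf J = 2) {L : Subgroup G}
    (hL : ∀ y : G, y ∈ L ↔ Commute J y ∧ ¬ 2 ∣ orderOf y) [DecidablePred (· ∈ L)]
    {χ : IrrCharacter G} (hχ : χ ∉ principalBlock M G) :
    ∑ y ∈ Finset.univ.filter (fun y : G => y ∈ L), (χ : G → ℂ) (J * y) = 0 := by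
  classical
  haveI : Fact (Nat.Prime 2) := ⟨Nat.prime_two⟩
  have hB : IsPBlock M (principalBlock M G) := isPBlock_blockOf (principal G)
  set H := Subgroup.centralizer ({J} : Set G) with hH
  letI := Fintype.ofFinite H
  have hH' : H = Subgroup.centralizer (Subgroup.zpowers J : Set G) := (centralizer_zpowers J).symm
  have hx : ∃ k : ℕ, orderOf J = 2 ^ k := ⟨1, by rw [hJ2, pow_one]⟩
  have hb0 : IsPBlock M (principalBlock M H) := isPBlock_blockOf (principal H)
  have hind : IsInducedBlock M H (principalBlock M H) (principalBlock M G) := by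
    have : principalBlock M H ∈ (blocksFinset M H).filter
        (fun b => IsInducedBlock M H b (principalBlock M G)) := by
      rw [filter_induced_principal hM hx hH']; exact Finset.mem_singleton_self _
    exact (Finset.mem_filter.1 this).2
  have h0 := blockPart_translate_eq_zero hM hx hH' (isPBlock_blockOf χ)
    (mem_blockOf_self hM χ) hb0
    (fun h => hχ (IsInducedBlock.unique hM hind h ▸ mem_blockOf_self hM χ)) 1
    (by rw [orderOf_one]; norm_num)
  rw [blockPart_eq_colKer, mul_eq_zero, or_iff_right (inv_ne_zero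
    (Nat.cast_ne_zero.2 Nat.card_pos.ne')), ← Finset.sum_filter_not_add_sum_filter
    (p := fun w : H => 2 ∣ orderOf w)] at h0
  rw [Finset.sum_eq_zero (s := Finset.univ.filter fun w : H => 2 ∣ orderOf w) fun w hw => by
    rw [colKer_eq, block_orthogonality_regular hM hb0 (by rw [orderOf_one]; norm_num)
      (Finset.mem_filter.1 hw).2, mul_zero], add_zero] at h0
  have h4 : ∀ w : H, ¬ 2 ∣ orderOf w → colKer (principalBlock M H) 1 w = 4 := by
    intro w hw
    have h1 : ¬ 2 ∣ orderOf (1 : H) := by rw [orderOf_one]; norm_num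
    have := colKer_section hM hx hH' hB h1 hw
    rw [filter_induced_principal hM hx hH', Finset.sum_singleton] at this
    rw [← this, OneMemClass.coe_one]
    exact colKer_involution_section hP hexp hM hJ2 (Commute.one_right J)
      (commute_of_mem_centralizer hH' w.2) (by rw [orderOf_one]; norm_num)
      (by rwa [Subgroup.orderOf_coe])
  rw [Finset.sum_congr rfl fun w hw => by rw [h4 w (Finset.mem_filter.1 hw).2], ← Finset.sum_mul,
    mul_eq_zero, or_iff_left (by norm_num : (4 : ℂ) ≠ 0)] at h0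
  rw [← h0]
  refine (Finset.sum_bij (fun (w : H) _ => (w : G)) ?_ (fun _ _ _ _ h => Subtype.ext h) ?_
    fun w _ => rfl).symm
  · intro w hw
    refine Finset.mem_filter.2 ⟨Finset.mem_univ _, (hL _).2
      ⟨commute_of_mem_centralizer hH' w.2, ?_⟩⟩
    rw [Subgroup.orderOf_coe]; exact (Finset.mem_filter.1 hw).2
  · intro y hy
    obtain ⟨h1, h2⟩ := (hL y).1 (Finset.mem_filter.1 hy).2
    refine ⟨⟨y, Subgroup.mem_centralizer_singleton_iff.2 h1.symm.eq⟩,
      Finset.mem_filter.2 ⟨Finset.mem_univ _, ?_⟩, rfl⟩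
    rwa [Subgroup.orderOf_mk]

include hP hexp hM hone

/-- **The order formula** of a principal 2-block with four characters. -/
theorem klein_order_formula [DecidablePred (· ∈ principalBlock M G)] {J : G}
    (hJ : J ∈ (P : Subgroup G)) (hJ2 : orderOf J = 2) :
    8 * (Nat.card (Subgroup.centralizer ({J} : Set G)) : ℂ) ^ 3 =
      (Nat.card G : ℂ) * (Nat.card (Subgroup.centralizer ((P : Subgroup G) : Set G)) : ℂ) ^ 2 *
        ∑ χ ∈ Finset.univ.filter (· ∈ principalBlock M G), (χ : G → ℂ) J / (χ : G → ℂ) 1 := by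
  classical
  haveI : Fact (Nat.Prime 2) := ⟨Nat.prime_two⟩
  have hJ1 : J ≠ 1 := fun h => by rw [h, orderOf_one] at hJ2; omega
  have hJJ : J * J = 1 := hexp J hJ
  obtain ⟨L, hL, hLc, hLn, hdec⟩ := exists_odd_part P hP hexp hJ hJ1
  have hodd : ∀ y ∈ L, ¬ 2 ∣ orderOf y := fun y hy => ((hL y).1 hy).2
  have hPL : ∀ q ∈ (P : Subgroup G), q ∈ L → q = 1 := fun q hq hqL => by
    by_contra h
    exact hodd q hqL (orderOf_eq_prime (p := 2) (by rw [pow_two]; exact hexp q hq) h).symm.dvd
  obtain ⟨a, haP, ha1, haJ⟩ : ∃ a ∈ (P : Subgroup G), a ≠ 1 ∧ a ≠ J := by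
    by_contra h
    push Not at h
    have hsub : Finset.univ.filter (fun g => g ∈ (P : Subgroup G)) ⊆ {1, J} := fun g hg => by
      by_cases hg1 : g = 1
      · simp [hg1]
      · simp [h g (Finset.mem_filter.1 hg).2 hg1]
    have := (Finset.card_le_card hsub).trans Finset.card_le_two
    rw [← Fintype.card_subtype, ← Nat.card_eq_fintype_card] at this
    omega
  have hab : ∀ b ∈ (P : Subgroup G), ∀ c ∈ (P : Subgroup G), Commute b c :=
    fun b hb c hc => commute_of_sq_eq_one hexp hb hc
  set b := J * a with hb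
  have hbP : b ∈ (P : Subgroup G) := mul_mem hJ haP
  have hb1 : b ≠ 1 := fun h => haJ (by
    rw [eq_inv_of_mul_eq_one_right h, inv_eq_of_mul_eq_one_right hJJ])
  have hbJ : b ≠ J := fun h => ha1 (mul_eq_left.1 h)
  have hab' : a ≠ b := fun h => hJ1 (mul_eq_right.1 h.symm)
  have hall : ({1, J, a, b} : Finset G) = Finset.univ.filter (fun g => g ∈ (P : Subgroup G)) := by
    refine Finset.eq_of_subset_of_card_le ?_ ?_
    · intro g hg
      simp only [Finset.mem_insert, Finset.mem_singleton] at hg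
      refine Finset.mem_filter.2 ⟨Finset.mem_univ _, ?_⟩
      rcases hg with rfl | rfl | rfl | rfl
      · exact one_mem _
      · exact hJ
      · exact haP
      · exact hbP
    · rw [Finset.card_eq_four.2 ⟨1, J, a, b, Ne.symm hJ1, Ne.symm ha1, Ne.symm hb1, Ne.symm haJ,
        Ne.symm hbJ, hab', rfl⟩, ← Fintype.card_subtype, ← Nat.card_eq_fintype_card]
      exact hP.le
  -- the fixed points
  let K : Subgroup G := L ⊓ Subgroup.centralizer ((P : Subgroup G) : Set G)
  have hK : ∀ q ∈ (P : Subgroup G), q ≠ 1 → q ≠ J → ∀ l, l ∈ K ↔ l ∈ L ∧ Commute l q := by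
    intro q hq hq1 hqJ l
    refine ⟨fun h => ⟨h.1, (Subgroup.mem_centralizer_iff.1 h.2 q hq).symm⟩, fun h => ⟨h.1, ?_⟩⟩
    refine Subgroup.mem_centralizer_iff.2 fun g hg => ?_
    have hlJ : Commute l J := ((hL l).1 h.1).1.symm
    have hg' : g ∈ ({1, J, a, b} : Finset G) :=
      hall ▸ Finset.mem_filter.2 ⟨Finset.mem_univ _, hg⟩
    have hq' : q ∈ ({1, J, a, b} : Finset G) :=
      hall ▸ Finset.mem_filter.2 ⟨Finset.mem_univ _, hq⟩
    simp only [Finset.mem_insert, Finset.mem_singleton] at hg' hq'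
    have hla : Commute l a := by
      rcases hq' with rfl | rfl | rfl | rfl
      · exact absurd rfl hq1
      · exact absurd rfl hqJ
      · exact h.2
      · have := hlJ.mul_right h.2
        rwa [hb, ← mul_assoc, hJJ, one_mul] at this
    rcases hg' with rfl | rfl | rfl | rfl
    · simp
    · exact hlJ.symm.eq
    · exact hla.symm.eq
    · exact (hlJ.mul_right hla).symm.eq
  have hn : ∀ q ∈ (P : Subgroup G), ∀ l ∈ L, q * l * q ∈ L := fun q hq l hl => by
    have := hLn q (hab _ hJ _ hq) l hl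
    rwa [inv_eq_of_mul_eq_one_right (hexp q hq)] at this
  -- the centralizer of `P`
  have hCP : Nat.card (Subgroup.centralizer ((P : Subgroup G) : Set G)) = 4 * Nat.card K := by
    rw [← hP, mul_comm, ← Nat.card_prod]
    refine (Nat.card_congr (Equiv.ofBijective (fun x : K × (P : Subgroup G) =>
      (⟨x.1.1 * x.2.1, mul_mem x.1.2.2 (Subgroup.mem_centralizer_iff.2 fun g hg =>
        (hab g hg _ x.2.2).eq)⟩ : Subgroup.centralizer ((P : Subgroup G) : Set G))) ⟨?_, ?_⟩)).symm
    · rintro ⟨k, q⟩ ⟨k', q'⟩ h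
      have h' : k.1 * q.1 = k'.1 * q'.1 := congrArg Subtype.val h
      have e : k'.1⁻¹ * k.1 = q'.1 * q.1⁻¹ := by
        rw [inv_mul_eq_iff_eq_mul, ← mul_assoc, ← h', mul_inv_cancel_right]
      have h1 := hPL _ (mul_mem q'.2 (inv_mem q.2)) (e ▸ mul_mem (inv_mem k'.2.1) k.2.1)
      refine Prod.ext (Subtype.ext ?_) (Subtype.ext (mul_inv_eq_one.1 h1).symm)
      rw [h1] at e
      exact (inv_mul_eq_one.1 e).symm
    · rintro ⟨c, hc⟩
      obtain ⟨q, hq, hcq⟩ := hdec c (Subgroup.mem_centralizer_iff.1 hc J hJ)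
      refine ⟨(⟨c * q, hcq, mul_mem hc (Subgroup.mem_centralizer_iff.2 fun g hg =>
        (hab g hg _ hq).eq)⟩, ⟨q, hq⟩), Subtype.ext ?_⟩
      show c * q * q = c
      rw [mul_assoc, hexp q hq, mul_one]
  -- involutions
  set Ia := Finset.univ.filter (fun s : G => s * s = 1 ∧ s * a ∈ L) with hIa
  set Ib := Finset.univ.filter (fun s : G => s * s = 1 ∧ s * b ∈ L) with hIb
  have hca := card_involutions_coset L K (hexp a haP) hodd (hn a haP) (hK a haP ha1 haJ)
  have hcb := card_involutions_coset L K (hexp b hbP) hodd (hn b hbP) (hK b hbP hb1 hbJ)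
  rw [← hIa] at hca; rw [← hIb] at hcb
  -- pairs
  set T := Finset.univ.filter (fun x : G × G => IsConj J x.1 ∧ IsConj J x.2 ∧ J * (x.1 * x.2) ∈ L)
    with hT
  have hcomJ : ∀ s : G, ∀ q ∈ (P : Subgroup G), s * q ∈ L → Commute J s := fun s q hq h => by
    have := ((hL _).1 h).1.mul_right (hab _ hJ _ hq)
    rwa [mul_assoc, hexp q hq, mul_one] at this
  have hinvol : ∀ s : G, ∀ q ∈ (P : Subgroup G), q ≠ 1 → s * s = 1 → s * q ∈ L → IsConj J s := by
    intro s q hq hq1 hs h
    refine hone _ _ hJ2 (orderOf_eq_prime (by rw [pow_two]; exact hs) ?_)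
    rintro rfl
    rw [one_mul] at h
    exact hq1 (hPL q hq h)
  have hpair : ∀ s t : G, ∀ q ∈ (P : Subgroup G), s * q ∈ L → t * (J * q) ∈ L →
      J * (s * t) ∈ L := by
    intro s t q hq hs ht
    have hqJ : Commute q J := hab _ hq _ hJ
    have := hLn q (hab _ hJ _ hq) _ ht
    rw [inv_eq_of_mul_eq_one_right (hexp q hq)] at this
    have h2 := hLn J (Commute.refl J) _ (mul_mem hs this)
    rw [inv_eq_of_mul_eq_one_right hJJ] at h2
    convert h2 using 1
    calc J * (s * t) = J * (s * (q * q) * t * J * (q * q) * J) := by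
          rw [hexp q hq, mul_one, mul_one, mul_assoc (s * t), hJJ, mul_one]
      _ = J * (s * q * (q * (t * (J * q)) * q)) * J := by group
  have hTeq : T = (Ia ×ˢ Ib) ∪ (Ib ×ˢ Ia) := by
    ext ⟨s, t⟩
    simp only [hT, hIa, hIb, Finset.mem_filter, Finset.mem_univ, true_and, Finset.mem_union,
      Finset.mem_product]
    constructor
    · rintro ⟨hs, ht, hst⟩
      have hs2 : orderOf s = 2 := by
        obtain ⟨c, rfl⟩ := isConj_iff.1 hs
        rw [show c * J * c⁻¹ = MulAut.conj c J from rfl, MulEquiv.orderOf_eq, hJ2]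
      have ht2 : orderOf t = 2 := by
        obtain ⟨c, rfl⟩ := isConj_iff.1 ht
        rw [show c * J * c⁻¹ = MulAut.conj c J from rfl, MulEquiv.orderOf_eq, hJ2]
      have hss : s * s = 1 := by rw [← pow_two, ← hs2, pow_orderOf_eq_one]
      have htt : t * t = 1 := by rw [← pow_two, ← ht2, pow_orderOf_eq_one]
      obtain ⟨hy1, hy2⟩ := (hL _).1 hst
      have hx : ∃ k : ℕ, orderOf J = 2 ^ k := ⟨1, by rw [hJ2, pow_one]⟩
      have hu : IsPPart 2 (s * t) J := by
        have := isPPart_mul hy1 hx hy2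
        rwa [← mul_assoc, hJJ, one_mul] at this
      have h2 : IsPPart 2 (s * (s * t) * s⁻¹) J := by
        have e : s * (s * t) * s⁻¹ = J * (J * (s * t))⁻¹ := by
          rw [← mul_assoc s, hss, one_mul, inv_eq_of_mul_eq_one_right hss, mul_inv_rev, mul_inv_rev,
            inv_eq_of_mul_eq_one_right hss, inv_eq_of_mul_eq_one_right htt,
            inv_eq_of_mul_eq_one_right hJJ]
          have hc : Commute J (s * t) := by
            have := (Commute.refl J).mul_right hy1
            rwa [← mul_assoc, hJJ, one_mul] at this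
          have hc' : J * (t * s) = t * s * J := by
            have := hc.inv_right
            rw [mul_inv_rev, inv_eq_of_mul_eq_one_right hss, inv_eq_of_mul_eq_one_right htt] at this
            exact this.eq
          rw [← mul_assoc J, hc', mul_assoc _ J J, hJJ, mul_one]
        rw [e]
        exact isPPart_mul hy1.inv_right hx (by rw [orderOf_inv]; exact hy2)
      have hsJ : Commute J s := by
        have := IsPPart.eq Nat.prime_two (IsPPart.conj hu s) h2
        exact (mul_inv_eq_iff_eq_mul.1 this).symm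
      have htJ : Commute J t := by
        have := hsJ.mul_right ((Commute.refl J).mul_right hy1)
        rwa [← mul_assoc J J, hJJ, one_mul, ← mul_assoc, hss, one_mul] at this
      obtain ⟨q, hq, hsq⟩ := hdec s hsJ
      obtain ⟨r, hr, htr⟩ := hdec t htJ
      have hq1 : q ≠ 1 := by
        rintro rfl
        rw [mul_one] at hsq
        exact hodd s hsq (dvd_of_eq hs2.symm)
      have hr1 : r ≠ 1 := by
        rintro rfl
        rw [mul_one] at htr
        exact hodd t htr (dvd_of_eq ht2.symm)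
      have hrel : J * (q * r) = 1 := by
        refine hPL _ (mul_mem hJ (mul_mem hq hr)) ?_
        -- `J q r` differs from `J s t` by members of `L`
        have h3 := hLn q (hab _ hJ _ hq) _ htr
        rw [inv_eq_of_mul_eq_one_right (hexp q hq)] at h3
        have h5 := mul_mem (inv_mem hst) (mul_mem (hLn J (Commute.refl J) _ hsq)
          (hLn J (Commute.refl J) _ h3))
        convert h5 using 1
        have hqr : q * r = r * q := (hab q hq r hr).eq
        calc J * (q * r) = J * (r * q) := by rw [hqr]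
          _ = r * q * J := ((hab J hJ _ (mul_mem hr hq))).eq
          _ = _ := by
              rw [inv_eq_of_mul_eq_one_right hJJ, mul_inv_rev, mul_inv_rev,
                inv_eq_of_mul_eq_one_right hJJ, inv_eq_of_mul_eq_one_right hss,
                inv_eq_of_mul_eq_one_right htt]
              calc r * q * J = (t * (s * (J * J) * s) * t) * (r * q) * J := by
                    rw [hJJ, mul_one, hss, mul_one, htt, one_mul]
                _ = t * s * J * (J * (s * (q * q)) * t * r * q * J) := by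
                    rw [hexp q hq, mul_one]; group
                _ = t * s * J * (J * (s * q) * (J * J) * (q * (t * r) * q) * J) := by
                    rw [hJJ, mul_one]; group
                _ = _ := by group
      have hq' : q ∈ ({1, J, a, b} : Finset G) :=
        hall ▸ Finset.mem_filter.2 ⟨Finset.mem_univ _, hq⟩
      simp only [Finset.mem_insert, Finset.mem_singleton] at hq'
      have hrval : r = J * q := by
        have : J * (q * r) = 1 := hrel
        rw [← mul_assoc] at this
        rw [eq_inv_of_mul_eq_one_right this, mul_inv_rev, inv_eq_of_mul_eq_one_right hJJ,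
          inv_eq_of_mul_eq_one_right (hexp q hq)]
        exact (hab q hq J hJ).eq
      rcases hq' with rfl | rfl | rfl | rfl
      · exact absurd rfl hq1
      · exact absurd (hrval.trans hJJ) hr1
      · exact Or.inl ⟨⟨hss, hsq⟩, htt, by rw [hrval] at htr; exact htr⟩
      · refine Or.inr ⟨⟨hss, hsq⟩, htt, ?_⟩
        rw [hrval, hb, ← mul_assoc J J, hJJ, one_mul] at htr
        exact htr
    · rintro (⟨⟨hs, hsa⟩, ht, htb⟩ | ⟨⟨hs, hsb⟩, ht, hta⟩)
      · exact ⟨hinvol s a haP ha1 hs hsa, hinvol t b hbP hb1 ht htb, hpair s t a haP hsa htb⟩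
      · refine ⟨hinvol s b hbP hb1 hs hsb, hinvol t a haP ha1 ht hta, hpair s t b hbP hsb ?_⟩
        rwa [hb, ← mul_assoc J J, hJJ, one_mul]
  have hTcard : T.card = Ia.card * Ib.card + Ib.card * Ia.card := by
    rw [hTeq, Finset.card_union_of_disjoint, Finset.card_product, Finset.card_product]
    rw [Finset.disjoint_left]
    rintro ⟨s, t⟩ h1 h2
    have hsa := (Finset.mem_filter.1 (Finset.mem_product.1 h1).1).2.2
    have hsb := (Finset.mem_filter.1 (Finset.mem_product.1 h2).1).2.2
    have h3 := mul_mem (inv_mem hsa) hsb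
    refine hJ1 (hPL J hJ ?_)
    convert h3 using 1
    rw [mul_inv_rev, mul_assoc, inv_mul_cancel_left, hb, inv_eq_of_mul_eq_one_right (hexp a haP),
      ← mul_assoc, (hab a haP J hJ).eq, mul_assoc, hexp a haP, mul_one]
  -- sum of the class multiplication coefficients
  set A := Finset.univ.filter (fun y : G => y ∈ L) with hA
  have hAcard : A.card = Nat.card L := by
    rw [hA, ← Fintype.card_subtype, ← Nat.card_eq_fintype_card]
  have hfiber : T.card = ∑ y ∈ A,
      Nat.card {x : G × G // IsConj J x.1 ∧ IsConj J x.2 ∧ x.1 * x.2 = J * y} := by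
    rw [Finset.card_eq_sum_card_fiberwise (f := fun x : G × G => J * (x.1 * x.2)) (t := A)
      (fun x hx => Finset.mem_filter.2 ⟨Finset.mem_univ _, (Finset.mem_filter.1 hx).2.2.2⟩)]
    refine Finset.sum_congr rfl fun y hy => ?_
    rw [Nat.card_eq_fintype_card, Fintype.card_subtype]
    congr 1
    ext ⟨s, t⟩
    simp only [hT, Finset.mem_filter, Finset.mem_univ, true_and]
    constructor
    · rintro ⟨⟨h1, h2, -⟩, h3⟩
      exact ⟨h1, h2, by rw [← h3, ← mul_assoc J J, hJJ, one_mul]⟩
    · rintro ⟨h1, h2, h3⟩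
      have : J * (s * t) = y := by rw [h3, ← mul_assoc, hJJ, one_mul]
      exact ⟨⟨h1, h2, this ▸ (Finset.mem_filter.1 hy).2⟩, this⟩
  have hB : IsPBlock M (principalBlock M G) := isPBlock_blockOf (principal G)
  have hzero : ∀ χ : IrrCharacter G, χ ∉ principalBlock M G →
      ∑ y ∈ A, (χ : G → ℂ) (J * y) = 0 := fun χ hχ =>
    sum_odd_part_eq_zero hP hexp hM hJ2 hL hχ
  obtain ⟨ε, -, -, hε⟩ := klein_values hP hexp hM hone
  have hchar : ∑ y ∈ A, ∑ χ : IrrCharacter G,
      (χ : G → ℂ) J * (χ : G → ℂ) J * conj ((χ : G → ℂ) (J * y)) / (χ : G → ℂ) 1 =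
      (Nat.card L : ℂ) *
        ∑ χ ∈ Finset.univ.filter (· ∈ principalBlock M G), (χ : G → ℂ) J / (χ : G → ℂ) 1 := by
    rw [Finset.sum_comm, Finset.mul_sum, Finset.sum_filter]
    refine Finset.sum_congr rfl fun χ _ => ?_
    split_ifs with hχ
    · obtain ⟨he, hv⟩ := hε χ hχ
      have hJd : 2 ∣ orderOf J := dvd_of_eq hJ2.symm
      rw [Finset.sum_congr rfl fun y hy => show
          (χ : G → ℂ) J * (χ : G → ℂ) J * conj ((χ : G → ℂ) (J * y)) / (χ : G → ℂ) 1 =
            (χ : G → ℂ) J / (χ : G → ℂ) 1 by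
        obtain ⟨h1, h2⟩ := (hL y).1 (Finset.mem_filter.1 hy).2
        rw [apply_involution_mul hP hexp hM hJ2 h1 h2 hχ, hv J hJd, map_intCast]
        rcases he with h | h <;> rw [h] <;> norm_num,
        Finset.sum_const, hAcard, nsmul_eq_mul]
    · rw [← Finset.sum_div, ← Finset.mul_sum, ← map_sum, hzero χ hχ, map_zero, mul_zero, zero_div]
  have hcount : (T.card : ℂ) = (Nat.card {x : G // IsConj J x} : ℂ) ^ 2 / (Nat.card G : ℂ) *
      ((Nat.card L : ℂ) *
        ∑ χ ∈ Finset.univ.filter (· ∈ principalBlock M G), (χ : G → ℂ) J / (χ : G → ℂ) 1) := by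
    rw [hfiber, Nat.cast_sum, Finset.sum_congr rfl fun y _ => class_mult_formula J J (J * y),
      ← Finset.mul_sum, hchar, pow_two]
  have hk := card_isConj_mul J
  have hsym : Ib.card * Nat.card K = Ia.card * Nat.card K := hcb.trans hca.symm
  have hIeq : Ib.card = Ia.card := Nat.eq_of_mul_eq_mul_right Nat.card_pos hsym
  set S := ∑ χ ∈ Finset.univ.filter (· ∈ principalBlock M G), (χ : G → ℂ) J / (χ : G → ℂ) 1
  rw [hTcard, hIeq] at hcount
  rw [hCP, ← hLc]
  have hGk : (Nat.card G : ℂ) = (Nat.card {x : G // IsConj J x} : ℂ) * (4 * (Nat.card L : ℂ)) := by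
    rw [← hk, ← hLc]; push_cast; ring
  have hLI : (Nat.card L : ℂ) = (Ia.card : ℂ) * (Nat.card K : ℂ) := by
    rw [← hca]; push_cast; ring
  have hG : (Nat.card G : ℂ) ≠ 0 := Nat.cast_ne_zero.2 Nat.card_pos.ne'
  push_cast at hcount ⊢
  field_simp at hcount
  have hkne : (Nat.card {x : G // IsConj J x} : ℂ) ≠ 0 :=
    Nat.cast_ne_zero.2 (card_isConj_pos J).ne'
  rw [hGk] at hcount ⊢
  rw [hLI] at hcount ⊢
  set k := (Nat.card {x : G // IsConj J x} : ℂ)
  set i := (Ia.card : ℂ)
  set m := (Nat.card K : ℂ)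
  have hi : i ≠ 0 := by
    intro h
    rw [h, zero_mul] at hLI
    exact Nat.cast_ne_zero.2 Nat.card_pos.ne' hLI
  have hm : m ≠ 0 := Nat.cast_ne_zero.2 Nat.card_pos.ne'
  refine mul_left_cancel₀ hkne ?_
  linear_combination (64 * m ^ 2) * hcount


end Cfsg.Lib.Blocks
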