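import Mathlib
import Cfsg.Agent.Blocks.BrauerHom

/-!
# Defect groups of induced blocks
-/

set_option autoImplicit false
set_option linter.unusedSectionVars false

namespace Cfsg.Lib.Blocks

open Cfsg.Lib.Chars

universe u

variable {G : Type u} [Group G] [Fintype G] {M : Ideal AlgInt} {p : ℕ}

local notation "C⟨" P "⟩" => Subgroup.centralizer (SetLike.coe P)

/-- Central elements of the defect group of an induced block come from the centre of the defect
group downstairs. -/
theorem exists_conj_center_mem [Fact p.Prime] (hM : IsPModular p M) {H : Subgroup G}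
    {b : Set (IrrCharacter H)} {B : Set (IrrCharacter G)} (hind : IsInducedBlock M H b B)
    {D : Subgroup H} (hD : IsDefectGroup p M b D) {P : Subgroup G}
    (hP : IsDefectGroup p M B P) {x : G} (hx : x ∈ P) (hxc : ∀ w ∈ P, x * w = w * x) :
    ∃ a : G, a * x * a⁻¹ ∈ D.map H.subtype ∧
      ∀ w ∈ D.map H.subtype, a * x * a⁻¹ * w = w * (a * x * a⁻¹) := by
  classical
  letI := Fintype.ofFinite H
  have hPp := IsDefectGroup.isPGroup hP
  obtain ⟨g, hg, S, rfl⟩ := id hP
  obtain ⟨χ, hχ, h0⟩ := exists_height_zero hM hind.2.1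
  obtain ⟨θ, hθ⟩ := IsPBlock.nonempty hM hind.1
  have hns := (isDefectClass_iff hM hind.2.1 g).1 hg
  have hgp := not_dvd_orderOf_of_not_small hM hind.2.1 hns.1
  have hxg : Commute x g :=
    Subgroup.mem_centralizer_singleton_iff.1 (Subgroup.map_subtype_le _ hx)
  have hxp := exists_orderOf_eq_of_mem hM.1 hPp hx
  -- the centralisers have the same `p`-part
  have hxy : IsPPart p (x * g) x := isPPart_mul hxg hxp hgp
  have hsub : Subgroup.centralizer ({x * g} : Set G) ≤ Subgroup.centralizer ({g} : Set G) := by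
    obtain ⟨s, hs⟩ := exists_isPPart hM.1 (x * g)
    have hxs : x = (x * g) ^ s := IsPPart.eq hM.1 hxy hs
    intro c hc
    rw [Subgroup.mem_centralizer_singleton_iff] at hc ⊢
    have h1 : Commute c (x * g) := hc
    have h2 : Commute c x := hxs ▸ h1.pow_right s
    have h3 := h2.inv_right.mul_right h1
    rwa [inv_mul_cancel_left] at h3
  have hge : centSyl S ≤ Subgroup.centralizer ({x * g} : Set G) := fun w hw => by
    have h1 : Commute w x := (hxc w hw).symm
    have h2 : Commute w g :=
      Subgroup.mem_centralizer_singleton_iff.1 (Subgroup.map_subtype_le _ hw)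
    exact Subgroup.mem_centralizer_singleton_iff.2 (h1.mul_right h2)
  have hidx : (Subgroup.centralizer ({x * g} : Set G)).index.factorization p =
      (Subgroup.centralizer ({g} : Set G)).index.factorization p := by
    have e1 := congrArg (fun n : ℕ => n.factorization p)
      (Subgroup.card_mul_index (Subgroup.centralizer ({x * g} : Set G)))
    have e2 := congrArg (fun n : ℕ => n.factorization p)
      (Subgroup.card_mul_index (Subgroup.centralizer ({g} : Set G)))
    have e3 := (hM.1.pow_dvd_iff_le_factorization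
      (Nat.card_pos (α := Subgroup.centralizer ({x * g} : Set G))).ne').1
      (card_centSyl S ▸ Subgroup.card_dvd_of_le hge)
    have e4 := (Nat.factorization_le_iff_dvd Nat.card_pos.ne' Nat.card_pos.ne').2
      (Subgroup.card_dvd_of_le hsub) p
    simp only [Nat.factorization_mul Nat.card_pos.ne' Subgroup.index_ne_zero_of_finite,
      Finsupp.add_apply] at e1 e2
    omega
  have hval : (place M).valuation (centralChar (χ : G → ℂ) (x * g)) = 1 := by
    have hu1 := isUnitAt_apply_defectClass hM hind.2.1 hg hχ h0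
    have hu2 : (place M).valuation ((χ : G → ℂ) (x * g)) = 1 :=
      isUnitAt_apply_mul_defectClass hM hind.2.1 hg hχ h0 hxg hxp
    have hu3 : (place M).valuation (centralChar (χ : G → ℂ) g) = 1 :=
      isUnitAt_iff.2 ⟨centralChar_mem_place hM χ g, hns.2 χ hχ⟩
    rw [centralChar, map_div₀, map_mul, show (place M).valuation ((χ : G → ℂ) g) = 1 from hu1] at hu3
    rw [centralChar, map_div₀, map_mul, hu2,
      valuation_natCast_eq_of_factorization hM Subgroup.index_ne_zero_of_finite
        Subgroup.index_ne_zero_of_finite hidx]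
    exact hu3
  have hns' : ¬ Small M (inducedCentralChar H (θ : H → ℂ) (x * g)) := fun h => by
    refine (IsUnitAt.not_small hval) ?_
    rw [← res_eq_zero_iff (centralChar_mem_place hM χ _),
      ← (isInducedBlock_iff hM H hind.1 hind.2.1 hθ hχ).1 hind (x * g),
      res_eq_zero_iff (inducedCentralChar_mem_place hM _ θ _)]
    exact h
  obtain ⟨h, hgh, hh⟩ := exists_conj_centralChar_not_small hM H θ hns'
  obtain ⟨t, hht, htD, htp⟩ := exists_conj_pPart_mem_center hM hind.1 hD hθ hh
  obtain ⟨a, ha⟩ := isConj_iff.1 (hgh.trans (MonoidHom.map_isConj H.subtype hht))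
  obtain ⟨s, hs⟩ := exists_isPPart hM.1 t
  have hz : a * x * a⁻¹ = ((t ^ s : H) : G) :=
    IsPPart.eq hM.1 (by have h' := IsPPart.conj hxy a; rw [ha] at h'; exact h') (isPPart_coe hs)
  refine ⟨a, hz ▸ ⟨_, htp _ hs, rfl⟩, ?_⟩
  rintro _ ⟨w, hw, rfl⟩
  rw [hz]
  exact congrArg Subtype.val
    ((show Commute t w from (Subgroup.mem_centralizer_iff.1 htD w hw).symm).pow_left s).eq

/-- Defect zero is preserved both ways by induction. -/
theorem induced_defect_zero_iff [Fact p.Prime] (hM : IsPModular p M) {H : Subgroup G}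
    {b : Set (IrrCharacter H)} {B : Set (IrrCharacter G)} (hind : IsInducedBlock M H b B) :
    blockDefect p b = 0 ↔ blockDefect p B = 0 := by
  classical
  letI := Fintype.ofFinite H
  obtain ⟨D, hD⟩ := exists_defectGroup hM hind.1
  have hDc := IsDefectGroup.card hM hind.1 hD
  have hDmap : Nat.card (D.map H.subtype) = Nat.card D :=
    (Nat.card_congr (Subgroup.equivMapOfInjective _ _ H.subtype_injective).toEquiv).symm
  constructor
  · intro h0
    obtain ⟨P, hP⟩ := exists_defectGroup hM hind.2.1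
    by_contra hne
    have hPc := IsDefectGroup.card hM hind.2.1 hP
    haveI : Nontrivial P := Finite.one_lt_card_iff_nontrivial.1
      (hPc.symm ▸ Nat.one_lt_pow hne hM.1.one_lt)
    haveI := (IsDefectGroup.isPGroup hP).center_nontrivial
    obtain ⟨z, hz⟩ := exists_ne (1 : Subgroup.center P)
    obtain ⟨a, ha, -⟩ := exists_conj_center_mem hM hind hD hP (x := ((z : P) : G)) (z : P).2
      fun w hw => congrArg Subtype.val ((Subgroup.mem_center_iff.1 z.2 ⟨w, hw⟩).symm)
    have hbot : D.map H.subtype = ⊥ := Subgroup.eq_bot_of_card_eq _ (by rw [hDmap, hDc, h0, pow_zero])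
    rw [hbot, Subgroup.mem_bot, mul_inv_eq_one, mul_eq_left] at ha
    exact hz (Subtype.ext (Subtype.ext ha))
  · intro h0
    obtain ⟨E, hE, hDE⟩ := exists_defectGroup_ge_of_induced hM H hind hD
    have hle := Subgroup.card_le_of_le hDE
    rw [hDmap, hDc, IsDefectGroup.card hM hind.2.1 hE, h0] at hle
    have := (Nat.pow_le_pow_iff_right hM.1.one_lt).1 hle
    omega

/-- Induction from a subgroup containing the centraliser of the defect group. -/
theorem induced_nested [Fact p.Prime] (hM : IsPModular p M) {H Q : Subgroup G} [Fintype H]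
    (hQH : Q ≤ H) (hCH : C⟨Q⟩ ≤ H) {b : Set (IrrCharacter H)} (hb : IsPBlock M b)
    (hQ : IsDefectGroup p M b (Q.subgroupOf H)) :
    InducedBlockDefined M H b ∧ ∀ B : Set (IrrCharacter G), IsInducedBlock M H b B →
      ∃ P : Subgroup G, IsDefectGroup p M B P ∧ Q ≤ P ∧ P ⊓ C⟨Q⟩ ≤ Q := by
  classical
  haveI := charP_res hM
  have hQp : IsPGroup p Q := by
    have := (IsDefectGroup.isPGroup hQ).map H.subtype
    rwa [Subgroup.map_subgroupOf_eq_of_le hQH] at this
  letI := Fintype.ofFinite C⟨Q⟩
  obtain ⟨e', he'⟩ := exists_pair_of_defect (G := H) hM hb hQ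
  obtain ⟨f, hf, rfl⟩ := exists_downSet hM hQH hCH he'.1.1.2
  have hbf := (pair_down_iff hM hQH hCH hQp hb hf).1 he'.1
  obtain ⟨B₀, hB₀, -⟩ := existsUnique_block hM (e := f) ⟨hQp, hf⟩
  refine ⟨⟨B₀, isInducedBlock_of_pair hM hQH hCH hb hbf hB₀⟩, fun B hB => ?_⟩
  have hfB := pair_of_isInducedBlock hM hQH hCH hb ⟨hQp, hf⟩ hbf hB
  obtain ⟨P, e, hmax, hle⟩ := exists_maximal_ge hM hfB
  refine ⟨P, isDefectGroup_of_noExtension hM hmax.1 (noExtension_of_maximal hM hmax),
    subpairLE_le hle, ?_⟩
  set R : Subgroup G := Q ⊔ (P ⊓ C⟨Q⟩) with hR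
  have hRP : R ≤ P := sup_le (subpairLE_le hle) inf_le_left
  obtain ⟨g, hg, -⟩ := existsUnique_subpairLE hM hmax.1.1 hRP
  obtain ⟨-, hgb, -, -, -, hbr⟩ := (isNormalSubpair_iff hM _ _ _ _).1
    (normalSubpair_of_le hM hmax.1.1 hle hg le_sup_left
      (sup_le Subgroup.le_normalizer (inf_le_right.trans (Subgroup.centralizer_le_normalizer _))))
  letI := Fintype.ofFinite C⟨R⟩
  have hRH : R ≤ H := sup_le hQH (inf_le_right.trans hCH)
  have hCR : C⟨R⟩ ≤ C⟨Q⟩ := le_centralizer_of_le le_sup_left
  have hRb : br R (bi M H b) * bi M C⟨R⟩ g = bi M C⟨R⟩ g := by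
    have hRp : IsPGroup p R := hmax.1.1.1.to_le hRP
    have hbR : InvOn R (bi M H b) := (invOn_bi b).mono hRH
    have hbq : InvOn R (br Q (bi M H b)) := invOn_br hbR fun k hk y hy =>
      (Subgroup.mem_normalizer_iff.1 (sup_le Subgroup.le_normalizer
        (inf_le_right.trans (Subgroup.centralizer_le_normalizer _)) hk) y).1 hy
    have hfR : InvOn R (bi M C⟨Q⟩ f) := by
      refine invOn_of_cj fun k hk => ?_
      obtain ⟨-, -, -, -, hfix, -⟩ := (isNormalSubpair_iff hM _ _ _ _).1
        (normalSubpair_of_le hM hmax.1.1 hle hg le_sup_left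
          (sup_le Subgroup.le_normalizer
            (inf_le_right.trans (Subgroup.centralizer_le_normalizer _))))
      exact hfix k hk
    have h1 : br R (bi M H b) * br R (bi M C⟨Q⟩ f) = br R (bi M C⟨Q⟩ f) := by
      have h2 := congrArg (br R) hbf
      rwa [br_mul hRp hbq hfR, br_br le_sup_left] at h2
    rw [← hbr, ← mul_assoc, h1]
  have hpair := (pair_down_iff hM hRH (hCR.trans hCH) (hmax.1.1.1.to_le hRP) hb hgb.2).2 hRb
  obtain ⟨x, hx⟩ := exists_le_conj_of_pair (G := H) hM hQ hpair
  have hcard := Subgroup.card_le_of_le hx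
  rw [card_map_conj, Nat.card_congr (Subgroup.subgroupOfEquivOfLe hRH).toEquiv,
    Nat.card_congr (Subgroup.subgroupOfEquivOfLe hQH).toEquiv] at hcard
  exact le_sup_right.trans (Subgroup.eq_of_le_of_card_ge (le_sup_left : Q ≤ R) hcard).ge

end Cfsg.Lib.Blocks
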