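import Mathlib
import Cfsg.Agent.Blocks.Columns
import Cfsg.Agent.Blocks.BrauerHom
import Cfsg.Agent.Blocks.Embed
import Cfsg.Agent.Blocks.Feit2

/-!
# Ranks of the sections of a block
-/

set_option autoImplicit false
set_option linter.unusedSectionVars false

namespace Cfsg.Lib.Blocks

open Cfsg.Lib.Chars
open scoped ComplexConjugate

universe u

variable {G : Type u} [Group G] [Fintype G] {M : Ideal AlgInt} {p : ℕ}

/-- The order of `K` times the total regular rank of its blocks inducing `b`. -/
noncomputable def sectWeight (p : ℕ) (M : Ideal AlgInt) (b : Set (IrrCharacter G)) (K : Subgroup G) :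
    ℤ := by
  classical
  haveI := Fintype.ofFinite K
  exact (Nat.card K : ℤ) *
    ∑ f ∈ (blocksFinset M K).filter (fun f => IsInducedBlock M K f b), (blockRank p f : ℤ)

lemma sectWeight_eq (b : Set (IrrCharacter G)) (K : Subgroup G) [Fintype K]
    [DecidablePred fun f : Set (IrrCharacter K) => IsInducedBlock M K f b] :
    sectWeight p M b K = (Nat.card K : ℤ) *
      ∑ f ∈ (blocksFinset M K).filter (fun f => IsInducedBlock M K f b), (blockRank p f : ℤ) := by
  classical
  unfold sectWeight
  congr!

/-- The `p`-elements other than the identity. -/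
noncomputable def pElements (p : ℕ) (G : Type u) [Group G] [Fintype G] : Finset G := by
  classical
  exact Finset.univ.filter fun x => x ≠ 1 ∧ ∃ k : ℕ, orderOf x = p ^ k

lemma mem_pElements {x : G} : x ∈ pElements p G ↔ x ≠ 1 ∧ ∃ k : ℕ, orderOf x = p ^ k := by
  classical
  simp [pElements]

/-- Counting the characters outside the regular rank by sections. -/
theorem card_sub_rank_eq_sum (hM : IsPModular p M) {b : Set (IrrCharacter G)}
    (hb : IsPBlock M b) :
    (Nat.card G : ℤ) * ((Nat.card b : ℤ) - (blockRank p b : ℤ)) =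
      ∑ x ∈ pElements p G, sectWeight p M b (Subgroup.centralizer ({x} : Set G)) := by
  classical
  have htot : ∑ g : G, colKer b g g = (Nat.card G : ℂ) * (Nat.card b : ℂ) := by
    simp only [colKer_eq]
    rw [Finset.sum_comm, natCard_eq_filter, mul_comm, ← nsmul_eq_mul, ← Finset.sum_const]
    refine Finset.sum_congr rfl fun χ _ => ?_
    have h : classInner (∑ ψ : IrrCharacter G, (if ψ = χ then (1 : ℂ) else 0) • (ψ : G → ℂ))
        (χ : G → ℂ) = 1 := by rw [classInner_irrSum, if_pos rfl]
    simp only [ite_smul, one_smul, zero_smul, Finset.sum_ite_eq', Finset.mem_univ, if_true] at h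
    rw [classInner_def, inv_mul_eq_iff_eq_mul₀ (Nat.cast_ne_zero.2 Nat.card_pos.ne'), mul_one] at h
    exact h
  have hsing : ∑ g ∈ Finset.univ.filter (fun g : G => p ∣ orderOf g), colKer b g g =
      ∑ x ∈ pElements p G, (sectWeight p M b (Subgroup.centralizer ({x} : Set G)) : ℂ) := by
    choose pp hpp using fun g : G => exists_isPPart' hM.1 g
    rw [← Finset.sum_fiberwise_of_maps_to (g := pp) (t := pElements p G) (fun g hg => ?_)]
    swap
    · rw [mem_pElements]
      obtain ⟨y, hy, hc, hk, hny⟩ := hpp g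
      refine ⟨fun h1 => ?_, hk⟩
      rw [h1, one_mul] at hy
      exact hny (hy ▸ (Finset.mem_filter.1 hg).2)
    refine Finset.sum_congr rfl fun x hx => ?_
    obtain ⟨hx1, hxk⟩ := mem_pElements.1 hx
    set C := Subgroup.centralizer ({x} : Set G) with hC
    have hH : C = Subgroup.centralizer (Subgroup.zpowers x : Set G) := (centralizer_zpowers x).symm
    calc ∑ g ∈ (Finset.univ.filter (fun g : G => p ∣ orderOf g)).filter (fun g => pp g = x), colKer b g g
        = ∑ w ∈ Finset.univ.filter (fun w : C => ¬ p ∣ orderOf w),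
            colKer b (x * (w : G)) (x * (w : G)) := by
          symm
          refine Finset.sum_nbij (fun w : C => x * (w : G)) (fun w hw => ?_)
            (fun w _ w' _ h => Subtype.ext (mul_left_cancel h)) (fun g hg => ?_) fun w _ => rfl
          · have hw' := (Finset.mem_filter.1 hw).2
            rw [← Subgroup.orderOf_coe] at hw'
            have hpart := isPPart_mul (commute_of_mem_centralizer hH w.2) hxk hw'
            refine Finset.mem_filter.2 ⟨Finset.mem_filter.2 ⟨Finset.mem_univ _, ?_⟩,
              IsPPart.eq hM.1 (hpp _) hpart⟩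
            by_contra hd
            exact hx1 (IsPPart.eq hM.1 hpart ((isPPart_one_iff hM.1).2 hd))
          · rw [Finset.mem_coe, Finset.mem_filter] at hg
            obtain ⟨y, hy, hc, -, hny⟩ := hpp g
            rw [hg.2] at hy hc
            refine ⟨⟨y, ?_⟩, ?_, hy⟩
            · rw [hC, Subgroup.mem_centralizer_singleton_iff]; exact hc.symm.eq
            · rw [Finset.mem_coe, Finset.mem_filter, ← Subgroup.orderOf_coe]
              exact ⟨Finset.mem_univ _, hny⟩
      _ = (sectWeight p M b C : ℂ) := by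
          rw [Finset.sum_congr rfl fun w hw =>
              colKer_section hM hxk hH hb (Finset.mem_filter.1 hw).2 (Finset.mem_filter.1 hw).2,
            Finset.sum_comm, Finset.sum_congr rfl fun f hf =>
              sum_colKer_regular hM (Finset.mem_filter.1 hf).2.1,
            sectWeight_eq, ← Finset.mul_sum]
          push_cast
          rfl
  have h := Finset.sum_filter_add_sum_filter_not Finset.univ (fun g : G => p ∣ orderOf g)
    (fun g => colKer b g g)
  rw [hsing, sum_colKer_regular hM hb, htot] at h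
  apply Int.cast_injective (α := ℂ)
  push_cast
  linear_combination -h

/-- Transitivity of block induction. -/
theorem IsInducedBlock.trans' (hM : IsPModular p M) {N K : Subgroup G} [Fintype N] [Fintype K]
    {K' : Subgroup N} [Fintype K'] (hs : IsSubOf N K K') (hle : K ≤ N) {f : Set (IrrCharacter K)}
    (hf : IsPBlock M f) {β : Set (IrrCharacter N)} {B : Set (IrrCharacter G)}
    (h1 : IsInducedBlock M K' (inSub hs hle f) β) (h2 : IsInducedBlock M N β B) :
    IsInducedBlock M K f B := by
  classical
  obtain ⟨ξ, hξ⟩ := IsPBlock.nonempty hM hf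
  obtain ⟨η, hη⟩ := IsPBlock.nonempty hM h1.2.1
  obtain ⟨χ, hχ⟩ := IsPBlock.nonempty hM h2.2.1
  refine (isInducedBlock_iff hM K hf h2.2.1 hξ hχ).2 fun g => ?_
  have hc : IsCentralFn (resElem N (cls ℂ g)) := (isCentralFn_cls g).resElem N
  have hi : Integral M (resElem N (cls ℂ g)) := (integral_cls g).resElem N
  have hξ' : irrEquiv (subEquiv hs hle) ξ ∈ inSub hs hle f := Set.mem_image_of_mem _ hξ
  rw [← (isInducedBlock_iff hM N h2.1 h2.2.1 hη hχ).1 h2 g, inducedCentralChar_eq_omega,
    inducedCentralChar_eq_omega, ← res_omega_resElem_of_induced hM K' h1 hξ' hη hc hi]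
  congr 1
  simp only [omega, chiEval, irrEquiv_apply, map_one, fn_resElem]
  congr 1
  exact (Fintype.sum_equiv (subEquiv hs hle).toEquiv _ _ fun k => rfl).symm

/-- Transporting the regular rank along an isomorphism. -/
lemma blockRank_irrEquiv {K H : Type u} [Group K] [Group H] [Fintype K] [Fintype H] (e : K ≃* H)
    (B : Set (IrrCharacter H)) : blockRank p (irrEquiv e '' B) = blockRank p B := by
  classical
  let L : (H → ℂ) ≃ₗ[ℂ] (K → ℂ) := LinearEquiv.funCongrLeft ℂ ℂ e.toEquiv
  have hset : (fun χ : IrrCharacter K => pRegularPart p (χ : K → ℂ)) '' (irrEquiv e '' B) =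
      (L : (H → ℂ) →ₗ[ℂ] (K → ℂ)) '' ((fun χ : IrrCharacter H => pRegularPart p (χ : H → ℂ)) '' B) := by
    rw [Set.image_image, Set.image_image]
    refine Set.image_congr fun χ _ => funext fun k => ?_
    show pRegularPart p (irrEquiv e χ : K → ℂ) k = pRegularPart p (χ : H → ℂ) (e k)
    rw [pRegularPart_apply, pRegularPart_apply, irrEquiv_apply, MulEquiv.orderOf_eq]
  unfold blockRank
  rw [hset, Submodule.span_image]
  exact LinearEquiv.finrank_map_eq L _

/-- The rank of a union of blocks is additive. -/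
theorem blockRank_union (hM : IsPModular p M) (T : Finset (Set (IrrCharacter G)))
    (hT : ∀ β ∈ T, IsPBlock M β) (U : Set (IrrCharacter G)) (hU : ∀ χ, χ ∈ U ↔ ∃ β ∈ T, χ ∈ β) :
    (blockRank p U : ℤ) = ∑ β ∈ T, (blockRank p β : ℤ) ∧
      (Nat.card U : ℤ) = ∑ β ∈ T, (Nat.card β : ℤ) := by
  classical
  have hdisj : ∀ f : IrrCharacter G → ℂ, ∑ χ ∈ Finset.univ.filter (· ∈ U), f χ =
      ∑ β ∈ T, ∑ χ ∈ Finset.univ.filter (· ∈ β), f χ := fun f => by
    rw [← Finset.sum_fiberwise_of_maps_to (g := fun χ : IrrCharacter G => blockOf M (χ : G → ℂ))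
      (t := T) (fun χ hχ => ?_)]
    · refine Finset.sum_congr rfl fun β hβ => Finset.sum_congr ?_ fun _ _ => rfl
      ext χ
      simp only [Finset.mem_filter, Finset.mem_univ, true_and]
      refine ⟨fun h => h.2 ▸ mem_blockOf_self hM χ,
        fun h => ⟨(hU χ).2 ⟨β, hβ, h⟩, (IsPBlock.eq_blockOf hM (hT β hβ) h).symm⟩⟩
    · obtain ⟨β, hβ, h⟩ := (hU χ).1 (Finset.mem_filter.1 hχ).2
      exact (IsPBlock.eq_blockOf hM (hT β hβ) h) ▸ hβ
  refine ⟨?_, ?_⟩
  · have hrank : ∑ χ ∈ Finset.univ.filter (· ∈ U),
        classInner (pRegularPart p (χ : G → ℂ)) (χ : G → ℂ) = (blockRank p U : ℂ) := by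
      set S := Submodule.span ℂ ((fun χ : IrrCharacter G => pRegularPart p (χ : G → ℂ)) '' U)
      have hproj : LinearMap.IsProj S (regProj p U) := by
        refine ⟨fun f => ?_, fun f hf => ?_⟩
        · rw [regProj_apply]
          exact sum_mem fun χ hχ => Submodule.smul_mem _ _
            (Submodule.subset_span ⟨χ, (Finset.mem_filter.1 hχ).2, rfl⟩)
        · induction hf using Submodule.span_induction with
          | mem f hf =>
            obtain ⟨χ, hχ, rfl⟩ := hf
            obtain ⟨β, hβ, hχβ⟩ := (hU χ).1 hχ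
            funext g
            show regProj p U (pRegularPart p (χ : G → ℂ)) g = pRegularPart p (χ : G → ℂ) g
            rw [regProj_apply, Finset.sum_apply]
            by_cases hg : p ∣ orderOf g
            · simp [pRegularPart_apply, hg]
            · conv_rhs => rw [← blockPart_pRegularPart hM (hT β hβ) hχβ, blockPart_eq_sum]
              rw [← Finset.sum_subset (s₁ := Finset.univ.filter (· ∈ β)) (fun ψ hψ => ?_)
                fun ψ _ hψ => ?_]
              · exact Finset.sum_congr rfl fun ψ _ => by simp [pRegularPart_apply, hg]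
              · exact Finset.mem_filter.2 ⟨Finset.mem_univ _,
                  (hU ψ).2 ⟨β, hβ, (Finset.mem_filter.1 hψ).2⟩⟩
              · rw [classInner_pRegularPart_eq_zero hM (hT β hβ) hχβ
                  (fun h => hψ (Finset.mem_filter.2 ⟨Finset.mem_univ _, h⟩)), zero_smul, Pi.zero_apply]
          | zero => simp
          | add a b _ _ ha hb => rw [map_add, ha, hb]
          | smul c a _ ha => rw [map_smul, ha]
      have h := hproj.trace
      rw [regProj, map_sum] at h
      simp only [LinearMap.trace_smulRight, innerLeft_apply] at h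
      exact h
    rw [hdisj, Finset.sum_congr rfl fun β hβ => sum_classInner_eq_blockRank hM (hT β hβ)] at hrank
    exact_mod_cast hrank.symm
  · have h := hdisj fun _ => 1
    simp only [Finset.sum_const, nsmul_one, ← natCard_eq_filter] at h
    exact_mod_cast h

/-- The weights of the sections inside a local subgroup. -/
theorem sum_sectWeight_local (hM : IsPModular p M) {P N : Subgroup G} [Fintype N]
    (hP : IsPGroup p P) (hPN : P ≤ N) (hCN : Subgroup.centralizer (P : Set G) ≤ N)
    (hNN : N ≤ Subgroup.normalizer (P : Set G)) {B : Set (IrrCharacter G)}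
    [DecidablePred fun β : Set (IrrCharacter N) => IsInducedBlock M N β B] {x : N}
    (hx : ∃ k : ℕ, orderOf x = p ^ k) :
    ∑ β ∈ (blocksFinset M N).filter (fun β => IsInducedBlock M N β B),
        sectWeight p M β (Subgroup.centralizer ({x} : Set N)) =
      sectWeight p M B (Subgroup.centralizer ({(x : G)} : Set G) ⊓ N) := by
  classical
  haveI := Fact.mk hM.1
  set K := Subgroup.centralizer ({(x : G)} : Set G) ⊓ N with hK
  set K' := Subgroup.centralizer ({x} : Set N) with hK'
  haveI := Fintype.ofFinite K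
  haveI := Fintype.ofFinite K'
  have hs : IsSubOf N K K' := fun h => by
    simp [hK, hK', Subgroup.mem_centralizer_singleton_iff, Subtype.ext_iff]
  have hle : K ≤ N := inf_le_right
  obtain ⟨k, hk⟩ := hx
  have hZ : IsPGroup p (Subgroup.zpowers x) :=
    IsPGroup.of_card (n := k) (by rw [Nat.card_zpowers, hk])
  have hKc : K' = Subgroup.centralizer (Subgroup.zpowers x : Set N) := (centralizer_zpowers x).symm
  have hdef : ∀ f' : Set (IrrCharacter K'), IsPBlock M f' → InducedBlockDefined M K' f' :=
    fun f' hf' => inducedBlockDefined_of_eq_centralizer hM hZ hKc hf'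
  have hcard : Nat.card K' = Nat.card K := Nat.card_congr (subEquiv hs hle).toEquiv
  simp only [sectWeight_eq, hcard, ← Finset.mul_sum]
  congr 1
  rw [Finset.sum_comm' (t' := (blocksFinset M K').filter
      (fun f' => ∃ β, IsInducedBlock M K' f' β ∧ IsInducedBlock M N β B))
    (s' := fun f' => (blocksFinset M N).filter
      (fun β => IsInducedBlock M N β B ∧ IsInducedBlock M K' f' β))]
  swap
  · intro β f'
    simp only [Finset.mem_filter]
    constructor
    · rintro ⟨⟨hβ, hβB⟩, hf', hfβ⟩
      exact ⟨⟨hβ, hβB, hfβ⟩, hf', β, hfβ, hβB⟩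
    · rintro ⟨⟨hβ, hβB, hfβ⟩, hf', -⟩
      exact ⟨⟨hβ, hβB⟩, hf', hfβ⟩
  have hinv : ∀ f : Set (IrrCharacter K), irrEquiv (subEquiv hs hle).symm '' inSub hs hle f = f :=
    fun f => by
    rw [inSub, Set.image_image]
    have : ∀ χ : IrrCharacter K,
        irrEquiv (subEquiv hs hle).symm (irrEquiv (subEquiv hs hle) χ) = χ :=
      fun χ => Subtype.ext (funext fun k => by simp)
    simp [this]
  symm
  refine Finset.sum_bij' (fun f _ => inSub hs hle f)
    (fun f' _ => irrEquiv (subEquiv hs hle).symm '' f') (fun f hf => ?_) (fun f' hf' => ?_)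
    (fun f _ => hinv f) (fun f' hf' => ?_) (fun f hf => ?_)
  · obtain ⟨-, hfB⟩ := Finset.mem_filter.1 hf
    have hf' := isPBlock_inSub (M := M) hs hle hfB.1
    obtain ⟨β, hβ⟩ := hdef _ hf'
    obtain ⟨B', hB'⟩ := inducedBlockDefined_local hM hP hPN hCN hNN hβ.2.1
    have h := IsInducedBlock.trans' hM hs hle hfB.1 hβ hB'
    rw [← IsInducedBlock.unique hM hfB h] at hB'
    exact Finset.mem_filter.2 ⟨(mem_blocksFinset hM).2 hf', β, hβ, hB'⟩
  · obtain ⟨hf'b, β, hfβ, hβB⟩ := Finset.mem_filter.1 hf'
    obtain ⟨f, hf, rfl⟩ := exists_inSub (M := M) hs hle ((mem_blocksFinset hM).1 hf'b)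
    rw [hinv]
    exact Finset.mem_filter.2 ⟨(mem_blocksFinset hM).2 hf, IsInducedBlock.trans' hM hs hle hf hfβ hβB⟩
  · obtain ⟨hf'b, -⟩ := Finset.mem_filter.1 hf'
    obtain ⟨f, hf, rfl⟩ := exists_inSub (M := M) hs hle ((mem_blocksFinset hM).1 hf'b)
    rw [hinv]
  · obtain ⟨-, hfB⟩ := Finset.mem_filter.1 hf
    have hf' := isPBlock_inSub (M := M) hs hle hfB.1
    obtain ⟨β, hβ⟩ := hdef _ hf'
    obtain ⟨B', hB'⟩ := inducedBlockDefined_local hM hP hPN hCN hNN hβ.2.1
    have h := IsInducedBlock.trans' hM hs hle hfB.1 hβ hB'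
    rw [← IsInducedBlock.unique hM hfB h] at hB'
    rw [Finset.sum_eq_single β]
    · rw [inSub, blockRank_irrEquiv]
    · intro β' hβ' hne
      exact absurd (IsInducedBlock.unique hM (Finset.mem_filter.1 hβ').2.2 hβ) hne
    · intro h'
      exact absurd (show β ∈ _ from Finset.mem_filter.2 ⟨(mem_blocksFinset (G := N) hM).2 hβ.2.1, hB', hβ⟩) h'

end Cfsg.Lib.Blocks
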