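import Mathlib
import Cfsg.Prelude.Def_BlockRank
import Cfsg.Agent.Blocks.SectionRanks
import Cfsg.Agent.Blocks.FirstMain
import Cfsg.Agent.Blocks.Maximal
import Cfsg.Agent.Blocks.InducedDefect

/-!
# The subsections of a block with abelian defect group
-/

set_option autoImplicit false
set_option linter.unusedSectionVars false
set_option linter.style.haveILetI false

namespace Cfsg.Lib.Blocks

open Cfsg Cfsg.Lib.Chars

universe u

local notation "C⟨" P "⟩" => Subgroup.centralizer (SetLike.coe P)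

variable {G : Type u} [Group G] [Fintype G] {M : Ideal AlgInt} {p : ℕ}

/-- The block of the centralizer of `y` below the pair `(P, c)`. -/
def IsBelow (M : Ideal AlgInt) (P : Subgroup G) (c : Set (IrrCharacter C⟨P⟩)) (y : G)
    (f : Set (IrrCharacter C⟨Subgroup.zpowers y⟩)) : Prop :=
  IsPBlock M f ∧ br P (bi M C⟨Subgroup.zpowers y⟩ f) * bi M C⟨P⟩ c = bi M C⟨P⟩ c

lemma le_centralizer_zpowers {P : Subgroup G} (hab : ∀ a ∈ P, ∀ b ∈ P, a * b = b * a) {y : G}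
    (hy : y ∈ P) : P ≤ C⟨Subgroup.zpowers y⟩ := fun a ha => by
  rw [centralizer_zpowers, Subgroup.mem_centralizer_singleton_iff]
  exact hab a ha y hy

lemma centralizer_le_zpowers {P : Subgroup G} {y : G} (hy : y ∈ P) :
    C⟨P⟩ ≤ C⟨Subgroup.zpowers y⟩ :=
  le_centralizer_of_le (Subgroup.zpowers_le.2 hy)

lemma isConjSub_zpowers (g y : G) :
    IsConjSub C⟨Subgroup.zpowers y⟩ C⟨Subgroup.zpowers (g * y * g⁻¹)⟩ g := fun a => by
  rw [centralizer_zpowers, centralizer_zpowers, Subgroup.mem_centralizer_singleton_iff,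
    Subgroup.mem_centralizer_singleton_iff]
  constructor
  · intro h
    calc g⁻¹ * a * g * y = g⁻¹ * (a * (g * y * g⁻¹)) * g := by group
      _ = y * (g⁻¹ * a * g) := by rw [h]; group
  · intro h
    calc a * (g * y * g⁻¹) = g * (g⁻¹ * a * g * y) * g⁻¹ := by group
      _ = g * y * g⁻¹ * a := by rw [h]; group

lemma blockRank_pos (hM : IsPModular p M) {B : Set (IrrCharacter G)} (hB : IsPBlock M B) :
    0 < blockRank p B := by
  obtain ⟨χ, hχ⟩ := IsPBlock.nonempty hM hB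
  set V := Submodule.span ℂ ((fun χ : IrrCharacter G => pRegularPart p (χ : G → ℂ)) '' B) with hV
  have hne : (⟨pRegularPart p (χ : G → ℂ), Submodule.subset_span ⟨χ, hχ, rfl⟩⟩ : V) ≠ 0 := by
    intro h
    have h1 : pRegularPart p (χ : G → ℂ) 1 = 0 :=
      congrFun (congrArg Subtype.val h) 1
    rw [pRegularPart_apply, if_neg (by rw [orderOf_one]; exact hM.1.not_dvd_one)] at h1
    exact IsIrrCharacter.apply_one_ne_zero χ.2 h1
  haveI : Nontrivial V := ⟨_, _, hne⟩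
  exact Module.finrank_pos

/-- Conjugate blocks have the same regular rank. -/
lemma blockRank_eq_of_cj (hM : IsPModular p M) {H H' : Subgroup G} {x : G}
    (h : IsConjSub H H' x) {f : Set (IrrCharacter H)} {f' : Set (IrrCharacter H')}
    (hf : IsPBlock M f) (hf' : IsPBlock M f') (he : cj x (bi M H f) = bi M H' f') :
    blockRank p f' = blockRank p f := by
  classical
  letI := Fintype.ofFinite H
  letI := Fintype.ofFinite H'
  rw [← bi_conjSet h] at he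
  rw [← bi_injective hM (IsPBlock.conjSet h hf) hf' he, conjSet_eq_image h, blockRank_irrEquiv]

/-- Sections of blocks of centralizers. -/
abbrev SecIdx (G : Type u) [Group G] : Type u :=
  Σ x : G, Set (IrrCharacter C⟨Subgroup.zpowers x⟩)

/-- The conjugates of the chosen blocks. -/
noncomputable def secMap (fb : ∀ y : G, Set (IrrCharacter C⟨Subgroup.zpowers y⟩)) (q : G × G) :
    SecIdx G :=
  ⟨q.1 * q.2 * q.1⁻¹, conjSet C⟨Subgroup.zpowers q.2⟩
    C⟨Subgroup.zpowers (q.1 * q.2 * q.1⁻¹)⟩ q.1 (fb q.2)⟩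

lemma sigma_block_ext (hM : IsPModular p M) {x x' : G}
    {f : Set (IrrCharacter C⟨Subgroup.zpowers x⟩)} {f' : Set (IrrCharacter C⟨Subgroup.zpowers x'⟩)}
    (h1 : x = x') (ha : IsPBlock M f) (hb : IsPBlock M f') (h2 : bi M _ f = bi M _ f') :
    (⟨x, f⟩ : SecIdx G) = ⟨x', f'⟩ := by
  subst h1
  letI := Fintype.ofFinite C⟨Subgroup.zpowers x⟩
  rw [bi_injective hM ha hb h2]

lemma secMap_eq_iff (hM : IsPModular p M)
    (fb : ∀ y : G, Set (IrrCharacter C⟨Subgroup.zpowers y⟩)) {g y x : G}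
    {f : Set (IrrCharacter C⟨Subgroup.zpowers x⟩)} (hy : IsPBlock M (fb y)) (hf : IsPBlock M f) :
    secMap fb (g, y) = ⟨x, f⟩ ↔
      g * y * g⁻¹ = x ∧ cj g (bi M _ (fb y)) = bi M C⟨Subgroup.zpowers x⟩ f := by
  have e := bi_conjSet (M := M) (isConjSub_zpowers g y) (fb y)
  constructor
  · intro h
    simp only [secMap, Sigma.mk.inj_iff] at h
    obtain ⟨rfl, h⟩ := h
    rw [heq_eq_eq] at h
    exact ⟨rfl, by rw [← e, h]⟩
  · rintro ⟨h1, h2⟩
    exact sigma_block_ext hM h1 (IsPBlock.conjSet (isConjSub_zpowers g y) hy) hf (e.trans h2)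

variable [Fact p.Prime] {B : Set (IrrCharacter G)} {P : Subgroup G}
  {c : Set (IrrCharacter C⟨P⟩)}

lemma exists_below (hM : IsPModular p M) (hc : IsBrauerPair p M P c)
    (hab : ∀ a ∈ P, ∀ b ∈ P, a * b = b * a) {y : G} (hy : y ∈ P) :
    ∃ f : Set (IrrCharacter C⟨Subgroup.zpowers y⟩), IsBelow M P c y f := by
  obtain ⟨f, hf, -⟩ := existsUnique_normalSubpair hM hc (Subgroup.zpowers_le.2 hy)
    ((le_centralizer_zpowers hab hy).trans (Subgroup.centralizer_le_normalizer _))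
  obtain ⟨h1, -, -, -, -, h2⟩ := (isNormalSubpair_iff hM _ _ _ _).1 hf
  exact ⟨f, h1.2, h2⟩

lemma IsBelow.normalSubpair (hM : IsPModular p M) (hc : IsBrauerPair p M P c)
    (hab : ∀ a ∈ P, ∀ b ∈ P, a * b = b * a) {y : G} (hy : y ∈ P)
    {f : Set (IrrCharacter C⟨Subgroup.zpowers y⟩)} (h : IsBelow M P c y f) :
    IsNormalSubpair p M (Subgroup.zpowers y) f P c :=
  (isNormalSubpair_iff hM _ _ _ _).2 ⟨⟨hc.1.to_le (Subgroup.zpowers_le.2 hy), h.1⟩, hc,
    Subgroup.zpowers_le.2 hy,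
    (le_centralizer_zpowers hab hy).trans (Subgroup.centralizer_le_normalizer _),
    fun x hx => invOn_iff.1 (invOn_bi f) x (le_centralizer_zpowers hab hy hx), h.2⟩

lemma IsBelow.pair (hM : IsPModular p M) (hc : IsBrauerPairOf p M B P c)
    (hab : ∀ a ∈ P, ∀ b ∈ P, a * b = b * a) {y : G} (hy : y ∈ P)
    {f : Set (IrrCharacter C⟨Subgroup.zpowers y⟩)} (h : IsBelow M P c y f) :
    IsBrauerPairOf p M B (Subgroup.zpowers y) f :=
  (isBrauerPairOf_congr_normal hM (h.normalSubpair hM hc.1 hab hy) B).1 hc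

lemma IsBelow.unique (hM : IsPModular p M) (hc : IsBrauerPair p M P c)
    (hab : ∀ a ∈ P, ∀ b ∈ P, a * b = b * a) {y : G} (hy : y ∈ P)
    {f f' : Set (IrrCharacter C⟨Subgroup.zpowers y⟩)} (h : IsBelow M P c y f)
    (h' : IsBelow M P c y f') : f = f' :=
  (existsUnique_normalSubpair hM hc (Subgroup.zpowers_le.2 hy)
    ((le_centralizer_zpowers hab hy).trans (Subgroup.centralizer_le_normalizer _))).unique
    (h.normalSubpair hM hc hab hy) (h'.normalSubpair hM hc hab hy)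

/-- The defect group of a block below an abelian maximal pair is the whole defect group. -/
lemma IsBelow.defect (hM : IsPModular p M) (hD : IsDefectGroup p M B P)
    (hc : IsBrauerPairOf p M B P c) (hab : ∀ a ∈ P, ∀ b ∈ P, a * b = b * a) {y : G} (hy : y ∈ P)
    {f : Set (IrrCharacter C⟨Subgroup.zpowers y⟩)} (h : IsBelow M P c y f) :
    IsDefectGroup p M f (P.subgroupOf C⟨Subgroup.zpowers y⟩) ∧
      IsBrauerPairOf p M f (P.subgroupOf C⟨Subgroup.zpowers y⟩)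
        (downSet (le_centralizer_zpowers hab hy) c) := by
  classical
  have hPH : P ≤ C⟨Subgroup.zpowers y⟩ := le_centralizer_zpowers hab hy
  have hpair := (pair_down_iff hM hPH (centralizer_le_zpowers hy) hc.1.1 h.1 hc.1.2).2 h.2
  refine ⟨?_, hpair⟩
  letI := Fintype.ofFinite C⟨Subgroup.zpowers y⟩
  have hind := ((isBrauerPairOf_iff hM B _ f).1 (h.pair hM hc hab hy)).2
  obtain ⟨D, hDf⟩ := exists_defectGroup hM h.1
  obtain ⟨E, hE, hle⟩ := exists_defectGroup_ge_of_induced hM C⟨Subgroup.zpowers y⟩ hind hDf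
  obtain ⟨x, hx⟩ := exists_le_conj_of_pair hM hDf hpair
  obtain ⟨a, ha⟩ := IsDefectGroup.exists_eq_conj hM hc.2.1 hD hE
  have hcard : Nat.card (D.map (MulAut.conj x).toMonoidHom) ≤
      Nat.card (P.subgroupOf C⟨Subgroup.zpowers y⟩) := by
    rw [card_map_conj, Nat.card_congr (Subgroup.subgroupOfEquivOfLe hPH).toEquiv,
      ← Subgroup.card_map_of_injective (C⟨Subgroup.zpowers y⟩).subtype_injective, ← card_map_conj P a, ← ha]
    exact Subgroup.card_le_of_le hle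
  rw [Subgroup.eq_of_le_of_card_ge hx hcard]
  exact IsDefectGroup.conj hM h.1 hDf x

/-- Fusion of the subsections is controlled by the stabilizer of the maximal pair. -/
theorem IsBelow.fusion (hM : IsPModular p M) (hD : IsDefectGroup p M B P)
    (hc : IsBrauerPairOf p M B P c) (hab : ∀ a ∈ P, ∀ b ∈ P, a * b = b * a) {T : Subgroup G}
    (hT : IsPairStab P c T) {y y' : G} (hy : y ∈ P) (hy' : y' ∈ P)
    {f : Set (IrrCharacter C⟨Subgroup.zpowers y⟩)} (hf : IsBelow M P c y f)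
    {f' : Set (IrrCharacter C⟨Subgroup.zpowers y'⟩)} (hf' : IsBelow M P c y' f') {g : G}
    (hgy : g * y * g⁻¹ = y') (hgf : cj g (bi M _ f) = bi M _ f') :
    ∃ t ∈ T, t * y * t⁻¹ = y' := by
  classical
  letI := Fintype.ofFinite C⟨Subgroup.zpowers y'⟩
  have hPH : P ≤ C⟨Subgroup.zpowers y'⟩ := le_centralizer_zpowers hab hy'
  set P' := P.map (MulAut.conj g).toMonoidHom with hP'
  have hP'H : P' ≤ C⟨Subgroup.zpowers y'⟩ := by
    rintro _ ⟨a, ha, rfl⟩
    rw [centralizer_zpowers, Subgroup.mem_centralizer_singleton_iff, MulEquiv.coe_toMonoidHom,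
      MulAut.conj_apply, ← hgy]
    calc g * a * g⁻¹ * (g * y * g⁻¹) = g * (a * y) * g⁻¹ := by group
      _ = g * y * g⁻¹ * (g * a * g⁻¹) := by rw [hab a ha y hy]; group
  have hy'P' : y' ∈ P' := ⟨y, hy, by simpa using hgy⟩
  have hc' : IsBrauerPair p M P' (conjBlock P g c) := IsBrauerPair.conjBlock hc.1 g
  have hbr : br P' (bi M C⟨Subgroup.zpowers y'⟩ f') * bi M C⟨P'⟩ (conjBlock P g c) = bi M C⟨P'⟩ (conjBlock P g c) := by
    rw [bi_conjBlock, ← hgf, ← cj_br, ← cj_mul, hf.2]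
  obtain ⟨hfD, hfc⟩ := hf'.defect hM hD hc hab hy'
  have hpair' := (pair_down_iff hM hP'H (centralizer_le_zpowers hy'P') hc'.1 hf'.1 hc'.2).2 hbr
  have hmax := isMaximal_of_isDefectGroup hM hfc hfD
  -- conjugate inside the centralizer
  obtain ⟨h, hh⟩ := IsDefectGroup.exists_eq_conj hM hf'.1 hfD
    (show IsDefectGroup p M f' (P'.subgroupOf C⟨Subgroup.zpowers y'⟩) by
      obtain ⟨z, hz⟩ := exists_le_conj_of_pair hM hfD hpair'
      have hcard : Nat.card ((P.subgroupOf C⟨Subgroup.zpowers y'⟩).map (MulAut.conj z).toMonoidHom) ≤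
          Nat.card (P'.subgroupOf C⟨Subgroup.zpowers y'⟩) := by
        rw [card_map_conj, Nat.card_congr (Subgroup.subgroupOfEquivOfLe hPH).toEquiv,
          Nat.card_congr (Subgroup.subgroupOfEquivOfLe hP'H).toEquiv, hP', card_map_conj]
      rw [Subgroup.eq_of_le_of_card_ge hz hcard]
      exact IsDefectGroup.conj hM hf'.1 hfD z)
  have hmapG : P' = P.map (MulAut.conj (h : G)).toMonoidHom := by
    have h1 := congrArg (Subgroup.map (C⟨Subgroup.zpowers y'⟩).subtype) hh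
    rw [Subgroup.subgroupOf, Subgroup.map_comap_eq_self (by rwa [(C⟨Subgroup.zpowers y'⟩).range_subtype]),
      Subgroup.map_map, show (C⟨Subgroup.zpowers y'⟩).subtype.comp (MulAut.conj h).toMonoidHom =
        (MulAut.conj (h : G)).toMonoidHom.comp (C⟨Subgroup.zpowers y'⟩).subtype from MonoidHom.ext fun a => by simp,
      ← Subgroup.map_map, Subgroup.subgroupOf,
      Subgroup.map_comap_eq_self (by rwa [(C⟨Subgroup.zpowers y'⟩).range_subtype])] at h1
    exact h1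
  set w : G := (h : G)⁻¹ * g with hw
  have hwP : P.map (MulAut.conj w).toMonoidHom = P := by
    rw [hw, ← map_conj_map, ← hP', hmapG, map_conj_map, inv_mul_cancel, map_conj_one]
  have hwN : w ∈ Subgroup.normalizer (P : Set G) := by
    refine Subgroup.mem_normalizer_iff.2 fun a => ?_
    constructor
    · intro ha
      rw [← hwP]
      exact ⟨a, ha, by simp⟩
    · intro ha
      rw [← hwP] at ha
      obtain ⟨b, hb, hba⟩ := ha
      rwa [← (MulAut.conj w).injective hba]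
  have hwc : IsConjSub C⟨P⟩ C⟨P⟩ w :=
    isConjSub_of_mem_normalizer (centralizer_le_normalizer_centralizer hwN le_rfl)
  set c₁ := conjSet C⟨P⟩ C⟨P⟩ w c with hc₁
  have hc₁b : IsPBlock M c₁ := IsPBlock.conjSet hwc hc.1.2
  have hfix : cj (h : G)⁻¹ (bi M C⟨Subgroup.zpowers y'⟩ f') = bi M C⟨Subgroup.zpowers y'⟩ f' :=
    invOn_iff.1 (invOn_bi f') _ ((C⟨Subgroup.zpowers y'⟩).inv_mem h.2)
  have hbr₁ : br P (bi M C⟨Subgroup.zpowers y'⟩ f') * bi M C⟨P⟩ c₁ = bi M C⟨P⟩ c₁ := by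
    rw [hc₁, bi_conjSet hwc]
    have h2 := congrArg (cj (h : G)⁻¹) hbr
    rw [cj_mul, cj_br, hfix, bi_conjBlock, cj_cj, ← hw] at h2
    rwa [show P'.map (MulAut.conj (h : G)⁻¹).toMonoidHom = P by
      rw [hmapG, map_conj_map, inv_mul_cancel, map_conj_one]] at h2
  obtain ⟨n, hn, hnc⟩ := exists_normalizer_cj (G := ↥C⟨Subgroup.zpowers y'⟩) hM hmax
    ((pair_down_iff hM hPH (centralizer_le_zpowers hy') hc.1.1 hf'.1 hc₁b).2 hbr₁)
  rw [← (emb_injective C⟨Subgroup.zpowers y'⟩).eq_iff, ← cj_emb, emb_bi_downSet hPH (centralizer_le_zpowers hy'),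
    emb_bi_downSet hPH (centralizer_le_zpowers hy'), hc₁, bi_conjSet hwc] at hnc
  have hnN : (n : G) ∈ Subgroup.normalizer (P : Set G) := by
    have h2 := Subgroup.mem_normalizer_iff.1 hn
    refine Subgroup.mem_normalizer_iff.2 fun a => ?_
    constructor
    · intro ha; exact (h2 ⟨a, hPH ha⟩).1 ha
    · intro ha
      have haH : a ∈ C⟨Subgroup.zpowers y'⟩ := by
        have h3 := (C⟨Subgroup.zpowers y'⟩).mul_mem ((C⟨Subgroup.zpowers y'⟩).mul_mem ((C⟨Subgroup.zpowers y'⟩).inv_mem n.2) (hPH ha)) n.2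
        rwa [show (n : G)⁻¹ * ((n : G) * a * (n : G)⁻¹) * n = a by group] at h3
      exact (h2 ⟨a, haH⟩).2 ha
  have hny : ∀ a ∈ C⟨Subgroup.zpowers y'⟩, a * y' * a⁻¹ = y' := fun a ha => by
    rw [centralizer_zpowers, Subgroup.mem_centralizer_singleton_iff] at ha
    rw [ha, mul_inv_cancel_right]
  refine ⟨(n : G)⁻¹ * w, (hT _).2 ⟨mul_mem (inv_mem hnN) hwN, ?_⟩, ?_⟩
  · refine (stabilizes_iff_of_normalizer hM hc.1.2 (mul_mem (inv_mem hnN) hwN)).2 ?_
    rw [← cj_cj, ← hnc, cj_cj, inv_mul_cancel, cj_one]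
  · calc (n : G)⁻¹ * w * y * ((n : G)⁻¹ * w)⁻¹
        = (n : G)⁻¹ * ((h : G)⁻¹ * (g * y * g⁻¹) * (h : G)⁻¹⁻¹) * (n : G)⁻¹⁻¹ := by
          rw [hw]; group
      _ = y' := by rw [hgy, hny _ ((C⟨Subgroup.zpowers y'⟩).inv_mem h.2), hny _ ((C⟨Subgroup.zpowers y'⟩).inv_mem n.2)]

/-- Every subsection is conjugate to one below the maximal pair. -/
theorem exists_below_conj (hM : IsPModular p M) (hD : IsDefectGroup p M B P)
    (hc : IsBrauerPairOf p M B P c) (hab : ∀ a ∈ P, ∀ b ∈ P, a * b = b * a) {x : G}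
    {f : Set (IrrCharacter C⟨Subgroup.zpowers x⟩)}
    (h : IsBrauerPairOf p M B (Subgroup.zpowers x) f) :
    ∃ (g y : G) (fy : Set (IrrCharacter C⟨Subgroup.zpowers y⟩)), y ∈ P ∧ IsBelow M P c y fy ∧
      g * y * g⁻¹ = x ∧ cj g (bi M _ fy) = bi M _ f := by
  classical
  obtain ⟨a, ha⟩ := exists_conj_subpairLE hM (isMaximal_of_isDefectGroup hM hc hD) h
  have hay : a * x * a⁻¹ ∈ P := subpairLE_le ha ⟨x, Subgroup.mem_zpowers x, by simp⟩
  obtain ⟨fy, hfy⟩ := exists_below hM hc.1 hab hay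
  refine ⟨a⁻¹, a * x * a⁻¹, fy, hay, hfy, by group, ?_⟩
  have hz : (Subgroup.zpowers x).map (MulAut.conj a).toMonoidHom =
      Subgroup.zpowers (a * x * a⁻¹) := by
    rw [MonoidHom.map_zpowers]; simp
  have h1 : SubpairLE p M (Subgroup.zpowers (a * x * a⁻¹)) fy P c :=
    Relation.ReflTransGen.single
      (show NormalSubpairRel p M ⟨_, fy⟩ ⟨P, c⟩ from hfy.normalSubpair hM hc.1 hab hay)
  have key : ∀ (Q Q' : Subgroup G) (f₁ : Set (IrrCharacter C⟨Q⟩))
      (f₂ : Set (IrrCharacter C⟨Q'⟩)), Q = Q' → SubpairLE p M Q f₁ P c →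
      SubpairLE p M Q' f₂ P c → bi M C⟨Q⟩ f₁ = bi M C⟨Q'⟩ f₂ := by
    rintro Q _ f₁ f₂ rfl h₁ h₂
    rw [(existsUnique_subpairLE hM hc.1 (subpairLE_le h₁)).unique h₁ h₂]
  have hbi : bi M C⟨Subgroup.zpowers (a * x * a⁻¹)⟩ fy =
      cj a (bi M C⟨Subgroup.zpowers x⟩ f) := by
    rw [key _ _ _ _ hz.symm h1 ha, bi_conjBlock]
  rw [hbi, cj_cj, inv_mul_cancel, cj_one]

/-- The orbit of an element of the defect group under the stabilizer. -/
theorem card_orbit_stab {T : Subgroup G} {y : G} (hy : y ∈ P)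
    (hfree : ∀ t ∈ T, t * y * t⁻¹ = y → t ∈ C⟨P⟩) :
    Nat.card {y' : G // ∃ t ∈ T, t * y * t⁻¹ = y'} = C⟨P⟩.relIndex T := by
  classical
  rw [Subgroup.relIndex, Subgroup.index_eq_card]
  symm
  refine Nat.card_congr (Equiv.ofBijective
    (Quotient.lift (fun t : T => (⟨(t : G) * y * (t : G)⁻¹, t, t.2, rfl⟩ :
      {y' : G // ∃ t ∈ T, t * y * t⁻¹ = y'})) fun a b h => ?_) ⟨?_, ?_⟩)
  · have h' : (a⁻¹ * b : T) ∈ C⟨P⟩.subgroupOf T := QuotientGroup.leftRel_apply.1 h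
    have hcy : y * ((a : G)⁻¹ * b) = (a : G)⁻¹ * b * y :=
      Subgroup.mem_centralizer_iff.1 h' y hy
    apply Subtype.ext
    show (a : G) * y * (a : G)⁻¹ = (b : G) * y * (b : G)⁻¹
    calc (a : G) * y * (a : G)⁻¹ = (a : G) * (y * ((a : G)⁻¹ * b)) * (b : G)⁻¹ := by group
      _ = (b : G) * y * (b : G)⁻¹ := by rw [hcy]; group
  · intro q q'
    refine Quotient.inductionOn₂ q q' fun a b hab => Quotient.sound
      (QuotientGroup.leftRel_apply.2 ?_)
    have h : (a : G) * y * (a : G)⁻¹ = (b : G) * y * (b : G)⁻¹ := congrArg Subtype.val hab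
    rw [Subgroup.mem_subgroupOf]
    refine hfree _ (a⁻¹ * b).2 ?_
    simp only [Subgroup.coe_mul, Subgroup.coe_inv]
    calc (a : G)⁻¹ * b * y * ((a : G)⁻¹ * b)⁻¹ = (a : G)⁻¹ * (b * y * (b : G)⁻¹) * a := by group
      _ = y := by rw [← h]; group
  · rintro ⟨y', t, ht, rfl⟩
    exact ⟨Quotient.mk _ ⟨t, ht⟩, rfl⟩

/-- Conjugation by the stabilizer permutes the blocks below. -/
theorem IsBelow.conj (hM : IsPModular p M) (hc : IsBrauerPair p M P c) {T : Subgroup G}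
    (hT : IsPairStab P c T) {y : G} {f : Set (IrrCharacter C⟨Subgroup.zpowers y⟩)}
    (hf : IsBelow M P c y f) {t : G} (ht : t ∈ T) :
    IsBelow M P c (t * y * t⁻¹) (conjSet C⟨Subgroup.zpowers y⟩
      C⟨Subgroup.zpowers (t * y * t⁻¹)⟩ t f) := by
  refine ⟨IsPBlock.conjSet (isConjSub_zpowers t y) hf.1, ?_⟩
  have hct : cj t (bi M C⟨P⟩ c) = bi M C⟨P⟩ c :=
    (stabilizes_iff_of_normalizer hM hc.2 ((hT t).1 ht).1).1 ((hT t).1 ht).2
  have h2 := congrArg (cj t) hf.2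
  rw [cj_mul, cj_br, map_conj_of_mem_normalizer ((hT t).1 ht).1, hct,
    ← bi_conjSet (isConjSub_zpowers t y)] at h2
  exact h2

lemma secMap_pair (hM : IsPModular p M) (fb : ∀ y : G, Set (IrrCharacter C⟨Subgroup.zpowers y⟩))
    {g y : G} (h : IsBrauerPairOf p M B (Subgroup.zpowers y) (fb y)) :
    IsBrauerPairOf p M B (Subgroup.zpowers (g * y * g⁻¹)) (conjSet C⟨Subgroup.zpowers y⟩
      C⟨Subgroup.zpowers (g * y * g⁻¹)⟩ g (fb y)) := by
  have hz : (Subgroup.zpowers y).map (MulAut.conj g).toMonoidHom =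
      Subgroup.zpowers (g * y * g⁻¹) := by
    rw [MonoidHom.map_zpowers]; simp
  obtain ⟨hQ, hB, hbr⟩ := (isBrauerPairOf_iff_br hM B _ _).1 h
  refine (isBrauerPairOf_iff_br hM B _ _).2 ⟨⟨hz ▸ hQ.1.map _,
    IsPBlock.conjSet (isConjSub_zpowers g y) hQ.2⟩, hB, ?_⟩
  have hinv : cj g (red M (blockElem B)) = red M (blockElem B) :=
    invOn_iff.1 (invOn_top_iff.2 (isCentralFn_blockElem B).red) g (Subgroup.mem_top g)
  have h3 := congrArg (cj g) hbr
  rw [cj_mul, cj_br, hinv, hz, ← bi_conjSet (isConjSub_zpowers g y)] at h3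
  exact h3

/-- The number of ways of writing a subsection as a conjugate of one below. -/
theorem card_fibre (hM : IsPModular p M) (hD : IsDefectGroup p M B P)
    (hc : IsBrauerPairOf p M B P c) (hab : ∀ a ∈ P, ∀ b ∈ P, a * b = b * a) {T : Subgroup G}
    (hT : IsPairStab P c T) (hfree : ∀ y ∈ P, y ≠ 1 → ∀ t ∈ T, t * y * t⁻¹ = y → t ∈ C⟨P⟩)
    (fb : ∀ y : G, Set (IrrCharacter C⟨Subgroup.zpowers y⟩))
    (hfb : ∀ y ∈ P, IsBelow M P c y (fb y)) {x : G} (hx1 : x ≠ 1)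
    {f : Set (IrrCharacter C⟨Subgroup.zpowers x⟩)}
    (hpair : IsBrauerPairOf p M B (Subgroup.zpowers x) f) :
    Nat.card {q : G × G // (q.2 ∈ P ∧ q.2 ≠ 1) ∧ secMap fb q = ⟨x, f⟩} =
      C⟨P⟩.relIndex T * Nat.card C⟨Subgroup.zpowers x⟩ := by
  classical
  have hf := hpair.1.2
  obtain ⟨-, hCT⟩ := hT.self_le hM hc.1.2
  obtain ⟨g₀, y₀, f₀, hy₀, hf₀, hgy₀, hgf₀⟩ := exists_below_conj hM hD hc hab hpair
  have hy₀1 : y₀ ≠ 1 := fun h => hx1 (by rw [← hgy₀, h, mul_one, mul_inv_cancel])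
  rw [← card_orbit_stab hy₀ (hfree y₀ hy₀ hy₀1), ← Nat.card_prod]
  symm
  let O := {y' : G // ∃ t ∈ T, t * y₀ * t⁻¹ = y'}
  choose τ hτT hτ using fun o : O => o.2
  have hcx : ∀ s ∈ C⟨Subgroup.zpowers x⟩, s * x * s⁻¹ = x := fun s hs => by
    rw [centralizer_zpowers, Subgroup.mem_centralizer_singleton_iff] at hs
    rw [hs, mul_inv_cancel_right]
  have hto : ∀ o : O, (o : G) ∈ P := fun o => by
    rw [← hτ o]
    exact (Subgroup.mem_normalizer_iff.1 ((hT _).1 (hτT o)).1 y₀).1 hy₀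
  have hto1 : ∀ o : O, (o : G) ≠ 1 := fun o h => hy₀1 (by
    have h1 := hτ o
    rwa [h, conj_eq_one_iff] at h1)
  have hin : ∀ (o : O) (s : C⟨Subgroup.zpowers x⟩),
      secMap fb ((s : G) * g₀ * (τ o)⁻¹, (o : G)) = ⟨x, f⟩ := by
    intro o s
    refine (secMap_eq_iff hM fb (hfb _ (hto o)).1 hf).2 ⟨?_, ?_⟩
    · have h0 : (τ o)⁻¹ * (o : G) * τ o = y₀ := by
        conv_lhs => rw [← hτ o]
        group
      calc (s : G) * g₀ * (τ o)⁻¹ * (o : G) * ((s : G) * g₀ * (τ o)⁻¹)⁻¹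
          = (s : G) * (g₀ * ((τ o)⁻¹ * (o : G) * τ o) * g₀⁻¹) * (s : G)⁻¹ := by group
        _ = x := by rw [h0, hgy₀, hcx _ s.2]
    · have h1 := hf₀.conj hM hc.1 hT (hτT o)
      have h2 : cj (τ o) (bi M _ f₀) = bi M _ (fb o) := by
        rw [← bi_conjSet (isConjSub_zpowers (τ o) y₀)]
        have key : ∀ (z z' : G) (a : Set (IrrCharacter C⟨Subgroup.zpowers z⟩))
            (b : Set (IrrCharacter C⟨Subgroup.zpowers z'⟩)), z = z' → z' ∈ P →
            IsBelow M P c z a → IsBelow M P c z' b → bi M _ a = bi M _ b := by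
          rintro z _ a b rfl hz ha hb
          rw [ha.unique hM hc.1 hab hz hb]
        exact key _ _ _ _ (hτ o) (hto o) h1 (hfb _ (hto o))
      rw [← h2, cj_cj, show (s : G) * g₀ * (τ o)⁻¹ * τ o = (s : G) * g₀ by group, ← cj_cj,
        hgf₀, invOn_iff.1 (invOn_bi f) _ s.2]
  refine Nat.card_congr (Equiv.ofBijective
    (fun q : O × C⟨Subgroup.zpowers x⟩ =>
      ⟨((q.2 : G) * g₀ * (τ q.1)⁻¹, (q.1 : G)), ⟨hto q.1, hto1 q.1⟩, hin q.1 q.2⟩) ⟨?_, ?_⟩)
  · rintro ⟨o, s⟩ ⟨o', s'⟩ h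
    have h1 := congrArg Subtype.val h
    simp only [Prod.mk.injEq] at h1
    obtain rfl : o = o' := Subtype.ext h1.2
    obtain rfl : s = s' := Subtype.ext (mul_right_cancel (mul_right_cancel h1.1))
    rfl
  · rintro ⟨⟨g, y⟩, ⟨hy, -⟩, hq⟩
    obtain ⟨hgy, hgf⟩ := (secMap_eq_iff hM fb (hfb y hy).1 hf).1 hq
    have hgg : (g⁻¹ * g₀) * y₀ * (g⁻¹ * g₀)⁻¹ = y := by
      calc g⁻¹ * g₀ * y₀ * (g⁻¹ * g₀)⁻¹ = g⁻¹ * (g₀ * y₀ * g₀⁻¹) * g := by group
        _ = y := by rw [hgy₀, ← hgy]; group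
    obtain ⟨t, ht, hty⟩ := hf₀.fusion hM hD hc hab hT hy₀ hy (hfb y hy) hgg (by
      rw [← cj_cj, hgf₀, ← hgf, cj_cj, inv_mul_cancel, cj_one])
    let o : O := ⟨y, t, ht, hty⟩
    have hs : g * τ o * g₀⁻¹ ∈ C⟨Subgroup.zpowers x⟩ := by
      rw [centralizer_zpowers, Subgroup.mem_centralizer_singleton_iff]
      have h3 : τ o * y₀ * (τ o)⁻¹ = y := hτ o
      calc g * τ o * g₀⁻¹ * x = g * (τ o * y₀ * (τ o)⁻¹) * τ o * g₀⁻¹ := by rw [← hgy₀]; group
        _ = x * (g * τ o * g₀⁻¹) := by rw [h3, ← hgy]; group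
    refine ⟨(o, ⟨_, hs⟩), Subtype.ext ?_⟩
    show (g * τ o * g₀⁻¹ * g₀ * (τ o)⁻¹, y) = (g, y)
    rw [show g * τ o * g₀⁻¹ * g₀ * (τ o)⁻¹ = g by group]

/-- **Counting by the subsections of a block with abelian defect group.** -/
theorem subsection_count (hM : IsPModular p M) (hD : IsDefectGroup p M B P)
    (hc : IsBrauerPairOf p M B P c) (hab : ∀ a ∈ P, ∀ b ∈ P, a * b = b * a) {T : Subgroup G}
    (hT : IsPairStab P c T) (hfree : ∀ y ∈ P, y ≠ 1 → ∀ t ∈ T, t * y * t⁻¹ = y → t ∈ C⟨P⟩)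
    (w : G → ℕ)
    (hw : ∀ (y : G) (f : Set (IrrCharacter C⟨Subgroup.zpowers y⟩)), y ∈ P → y ≠ 1 →
      IsBelow M P c y f → blockRank p f = w y)
    [DecidablePred fun y : G => y ∈ P ∧ y ≠ 1] :
    (C⟨P⟩.relIndex T : ℤ) * ((Nat.card B : ℤ) - (blockRank p B : ℤ)) =
      ∑ y ∈ Finset.univ.filter (fun y : G => y ∈ P ∧ y ≠ 1), (w y : ℤ) := by
  classical
  have hp : p.Prime := Fact.out
  have hB := hc.2.1
  have hex : ∀ y : G, ∃ f, y ∈ P → IsBelow M P c y f := fun y => by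
    by_cases hy : y ∈ P
    · obtain ⟨f, hf⟩ := exists_below hM hc.1 hab hy
      exact ⟨f, fun _ => hf⟩
    · exact ⟨∅, fun h => absurd h hy⟩
  choose fb hfb using hex
  set S := Finset.univ.filter (fun y : G => y ∈ P ∧ y ≠ 1) with hS
  have hS' : ∀ y, y ∈ S ↔ y ∈ P ∧ y ≠ 1 := fun y => by simp [hS]
  set Ω : Finset (SecIdx G) :=
    (pElements p G).sigma fun x => (blocksFinset M C⟨Subgroup.zpowers x⟩).filter
      fun f => IsInducedBlock M C⟨Subgroup.zpowers x⟩ f B with hΩ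
  have hΩ' : ∀ (x : G) (f : Set (IrrCharacter C⟨Subgroup.zpowers x⟩)),
      (⟨x, f⟩ : SecIdx G) ∈ Ω ↔ x ≠ 1 ∧ IsBrauerPairOf p M B (Subgroup.zpowers x) f := by
    intro x f
    rw [hΩ, Finset.mem_sigma, Finset.mem_filter, mem_blocksFinset hM, mem_pElements,
      isBrauerPairOf_iff hM]
    constructor
    · rintro ⟨⟨hx, j, hj⟩, -, hind⟩
      exact ⟨hx, IsPGroup.of_card (n := j) (by rw [Nat.card_zpowers, hj]), hind⟩
    · rintro ⟨hx, hQ, hind⟩
      exact ⟨⟨hx, exists_orderOf_eq_of_mem hp hQ (Subgroup.mem_zpowers x)⟩, hind.1, hind⟩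
  have hcount : (Nat.card G : ℤ) * ((Nat.card B : ℤ) - (blockRank p B : ℤ)) =
      ∑ ω ∈ Ω, (Nat.card C⟨Subgroup.zpowers ω.1⟩ : ℤ) * (blockRank p ω.2 : ℤ) := by
    rw [card_sub_rank_eq_sum hM hB, hΩ, Finset.sum_sigma]
    refine Finset.sum_congr rfl fun x hx => ?_
    rw [← centralizer_zpowers x, sectWeight_eq, Finset.mul_sum]
  have hmaps : ∀ q ∈ (Finset.univ : Finset G) ×ˢ S, secMap fb q ∈ Ω := by
    rintro ⟨g, y⟩ hq
    obtain ⟨hy, hy1⟩ := (hS' y).1 (Finset.mem_product.1 hq).2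
    exact (hΩ' _ _).2 ⟨fun h => hy1 (by rwa [conj_eq_one_iff] at h),
      secMap_pair hM fb ((hfb y hy).pair hM hc hab hy)⟩
  have hfib : ∀ ω ∈ Ω, ∑ q ∈ ((Finset.univ : Finset G) ×ˢ S).filter (fun q => secMap fb q = ω),
      (w q.2 : ℤ) = (C⟨P⟩.relIndex T : ℤ) *
        ((Nat.card C⟨Subgroup.zpowers ω.1⟩ : ℤ) * (blockRank p ω.2 : ℤ)) := by
    rintro ⟨x, f⟩ hω
    obtain ⟨hx1, hpair⟩ := (hΩ' x f).1 hω
    have hconst : ∀ q ∈ ((Finset.univ : Finset G) ×ˢ S).filter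
        (fun q => secMap fb q = ⟨x, f⟩), (w q.2 : ℤ) = (blockRank p f : ℤ) := by
      rintro ⟨g, y⟩ hq
      obtain ⟨hq1, hq2⟩ := Finset.mem_filter.1 hq
      obtain ⟨hy, hy1⟩ := (hS' y).1 (Finset.mem_product.1 hq1).2
      obtain ⟨hgy, hgf⟩ := (secMap_eq_iff hM fb (hfb y hy).1 hpair.1.2).1 hq2
      rw [← hw y _ hy hy1 (hfb y hy)]
      congr 1
      subst hgy
      exact (blockRank_eq_of_cj hM (isConjSub_zpowers g y) (hfb y hy).1 hpair.1.2 hgf).symm
    rw [Finset.sum_congr rfl hconst, Finset.sum_const, nsmul_eq_mul, ← mul_assoc]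
    congr 1
    rw [← Nat.cast_mul, ← card_fibre hM hD hc hab hT hfree fb hfb hx1 hpair]
    congr 1
    rw [Nat.card_eq_fintype_card, ← Fintype.card_coe]
    exact Fintype.card_congr (Equiv.subtypeEquivRight fun q => by
      simp [Finset.mem_filter, Finset.mem_product, hS'])
  have htot : ∑ q ∈ (Finset.univ : Finset G) ×ˢ S, (w q.2 : ℤ) =
      ∑ ω ∈ Ω, (C⟨P⟩.relIndex T : ℤ) *
        ((Nat.card C⟨Subgroup.zpowers ω.1⟩ : ℤ) * (blockRank p ω.2 : ℤ)) := by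
    rw [← Finset.sum_fiberwise_of_maps_to hmaps (fun q => (w q.2 : ℤ))]
    exact Finset.sum_congr rfl hfib
  rw [Finset.sum_product] at htot
  simp only at htot
  rw [Finset.sum_const, Finset.card_univ, nsmul_eq_mul,
    ← Nat.card_eq_fintype_card, ← Finset.mul_sum, ← hcount] at htot
  have hG : (Nat.card G : ℤ) ≠ 0 := Nat.cast_ne_zero.2 Nat.card_pos.ne'
  exact mul_left_cancel₀ hG (by linear_combination -htot)

end Cfsg.Lib.Blocks
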