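import Mathlib
import Cfsg.Agent.Blocks.Third
import Cfsg.Agent.Blocks.Defect2

/-!
# Height zero characters under restriction and induction
-/

set_option autoImplicit false
set_option linter.unusedSectionVars false

namespace Cfsg.Lib.Blocks

open Cfsg.Lib.Chars
open scoped ComplexConjugate

universe u

variable {G : Type u} [Group G] [Fintype G] {M : Ideal AlgInt} {p : ℕ}

lemma height_zero_of_isUnitAt_omega_regElem (hM : IsPModular p M) {B : Set (IrrCharacter G)}
    (hB : IsPBlock M B) {χ ψ : IrrCharacter G} (hψ : ψ ∈ B)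
    (h : IsUnitAt M (omega (ψ : G → ℂ) (regElem p χ))) :
    χ ∈ B ∧ blockHeight p B (χ : G → ℂ) = 0 := by
  have hv := valuation_regInt hM χ ψ
  rw [h, one_mul] at hv
  have hχ : χ ∈ B := by
    by_contra hn
    rw [regInt_symm hM.1, regInt_eq_zero hM hB hψ hn, Int.cast_zero, map_zero] at hv
    exact (pow_pos (valuation_prime_pos hM) _).ne hv
  refine ⟨hχ, by_contra fun h0 => ?_⟩
  have hd := regInt_height_pos hM hB hχ h0 hψ
  have hne : regInt p χ ψ ≠ 0 := by
    intro h'
    rw [h', Int.cast_zero, map_zero] at hv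
    exact (pow_pos (valuation_prime_pos hM) _).ne hv
  rw [valuation_intCast hM hne] at hv
  have h2 := (hM.1.pow_dvd_iff_le_factorization (Int.natAbs_ne_zero.2 hne)).1
    (Int.natCast_dvd.1 (by exact_mod_cast hd))
  have h3 := (valuation_prime_pow_le_iff hM _ _).1 hv.ge
  omega

/-- **Restriction of a height zero character to an inducing block.** -/
theorem exists_height_zero_constituent (hM : IsPModular p M) (H : Subgroup G) [Fintype H]
    {b : Set (IrrCharacter H)} {B : Set (IrrCharacter G)} (hind : IsInducedBlock M H b B)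
    {χ : IrrCharacter G} (hχ : χ ∈ B) (h0 : blockHeight p B (χ : G → ℂ) = 0) :
    ∃ ξ ∈ b, blockHeight p b ((ξ : IrrCharacter H) : H → ℂ) = 0 ∧
      ∃ n : ℕ, classInner (fun h : H => (χ : G → ℂ) h) (ξ : H → ℂ) = (n : ℂ) ∧ ¬ p ∣ n := by
  classical
  obtain ⟨m, hm⟩ := IsCharacter.exists_decomp (IsCharacter.restrict (isCharacter_of_irr χ.2) H)
  obtain ⟨ψ, hψ⟩ := IsPBlock.nonempty hM hind.1
  have hu := (omega_resElem_regElem_of_induced hM H hind hψ χ).2 hχ h0
  have hdec : resElem H (regElem p χ) = ∑ η : IrrCharacter H, (m η : ℂ) • regElem p η := by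
    refine fn_ext fun h => ?_
    rw [fn_resElem, fn_sum]
    simp only [fn_smul, regElem, fn_ofFn, pRegularPart_apply, Subgroup.orderOf_coe]
    split_ifs with hd
    · simp
    · have hh := congrFun hm h
      simp only [Finset.sum_apply, Pi.smul_apply, nsmul_eq_mul] at hh
      rw [hh, map_sum]
      exact Finset.sum_congr rfl fun η _ => by rw [Pi.mul_apply, map_mul, Pi.natCast_apply, map_natCast]
  rw [hdec, omega_sum] at hu
  obtain ⟨η, hη⟩ : ∃ η : IrrCharacter H,
      ¬ Small M (omega (ψ : H → ℂ) ((m η : ℂ) • regElem p η)) := by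
    by_contra hc
    push Not at hc
    exact hu.not_small (small_sum _ _ fun η _ => hc η)
  rw [omega_smul] at hη
  have hmem := omega_mem_place hM ψ (isCentralFn_regElem (p := p) η) (integral_regElem hM η)
  have hp : ¬ p ∣ m η := fun h => hη ((small_natCast hM h).mul_mem hmem)
  obtain ⟨hηb, hη0⟩ := height_zero_of_isUnitAt_omega_regElem hM hind.1 hψ
    (χ := η) (isUnitAt_iff.2 ⟨hmem, fun h => hη (h.mem_mul (natCast_mem_place _))⟩)
  refine ⟨η, hηb, hη0, m η, ?_, hp⟩
  rw [hm]
  simp only [← Nat.cast_smul_eq_nsmul ℂ]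
  rw [classInner_irrSum (fun ξ => (m ξ : ℂ)) η]

/-- **Induction of a height zero character from a block of the same defect.** -/
theorem exists_height_zero_induced (hM : IsPModular p M) (H : Subgroup G) [Fintype H]
    {b : Set (IrrCharacter H)} {B : Set (IrrCharacter G)} (hind : IsInducedBlock M H b B)
    (hdef : blockDefect p b = blockDefect p B) {ζ : IrrCharacter H} (hζ : ζ ∈ b)
    (hζ0 : blockHeight p b (ζ : H → ℂ) = 0) :
    ∃ χ ∈ B, blockHeight p B ((χ : IrrCharacter G) : G → ℂ) = 0 ∧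
      ∃ a : ℕ, classInner (indFun H (ζ : H → ℂ)) (χ : G → ℂ) = (a : ℂ) ∧ ¬ p ∣ a := by
  classical
  obtain ⟨φ, hφ, hφ0⟩ := exists_height_zero hM hind.2.1
  obtain ⟨m, hm⟩ := IsCharacter.exists_decomp
    (IsCharacter.indFun (G := G) (isCharacter_of_irr ζ.2))
  have hin : ∀ χ : IrrCharacter G,
      classInner (indFun H (ζ : H → ℂ)) (χ : G → ℂ) = (m χ : ℂ) := fun χ => by
    rw [hm]
    simp only [← Nat.cast_smul_eq_nsmul ℂ]
    rw [classInner_irrSum (fun ξ => (m ξ : ℂ)) χ]
  set a := (Nat.card G).factorization p with ha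
  set n : ℤ := ∑ χ : IrrCharacter G, (m χ : ℤ) * regInt p φ χ with hn
  set Y := omega (ζ : H → ℂ) (resElem H (regElem p φ)) with hY
  have hu : IsUnitAt M Y := (omega_resElem_regElem_of_induced hM H hind hζ φ).2 hφ hφ0
  have hcf : IsClassFunction G (pRegularPart p (φ : G → ℂ)) := fun g k => by
    rw [pRegularPart_apply, pRegularPart_apply, isClassFunction_irr φ g k]
    have : orderOf (k * g * k⁻¹) = orderOf g :=
      orderOf_injective (MulAut.conj k).toMonoidHom (MulAut.conj k).injective g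
    simp [this]
  have hkey : (Nat.card H : ℂ) * (n : ℂ) = (p : ℂ) ^ a * (Y * (ζ : H → ℂ) 1) := by
    have h1 : (n : ℂ) = (p : ℂ) ^ a *
        classInner (pRegularPart p (φ : G → ℂ)) (indFun H (ζ : H → ℂ)) := by
      rw [hn, hm, classInner_sum_right, Finset.mul_sum, Int.cast_sum]
      refine Finset.sum_congr rfl fun χ _ => ?_
      rw [classInner_nsmul_right, Int.cast_mul, regInt_spec hM.1, Int.cast_natCast]
      ring
    have h2 : conj (n : ℂ) = (n : ℂ) := map_intCast _ n
    rw [← h2, h1, map_mul, map_pow, map_natCast, classInner_conj_symm,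
      frobenius_reciprocity H (ζ : H → ℂ) hcf, classInner_def, hY, omega,
      div_mul_cancel₀ _ (IsIrrCharacter.apply_one_ne_zero ζ.2), chiEval, ← mul_assoc,
      ← mul_assoc, mul_comm (Nat.card H : ℂ), mul_assoc ((p : ℂ) ^ a),
      mul_inv_cancel₀ (Nat.cast_ne_zero.2 Nat.card_pos.ne'), mul_one]
    congr 1
    refine Finset.sum_congr rfl fun h _ => ?_
    rw [fn_resElem, regElem, fn_ofFn, pRegularPart_apply, pRegularPart_apply]
    split_ifs
    · simp
    · ring
  have hn0 : n ≠ 0 := by
    intro h0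
    rw [h0, Int.cast_zero, mul_zero] at hkey
    exact mul_ne_zero (pow_ne_zero _ (Nat.cast_ne_zero.2 hM.1.ne_zero))
      (mul_ne_zero hu.ne_zero (IsIrrCharacter.apply_one_ne_zero ζ.2)) hkey.symm
  have hv := congrArg (place M).valuation hkey
  rw [irr_apply_one_eq_deg, map_mul, map_mul, map_mul, map_pow, hu, one_mul,
    valuation_natCast hM Nat.card_pos.ne', valuation_intCast hM hn0,
    valuation_natCast hM (deg_irr_pos ζ).ne', ← pow_add, ← pow_add] at hv
  have hv' := le_antisymm ((valuation_prime_pow_le_iff hM _ _).1 hv.ge)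
    ((valuation_prime_pow_le_iff hM _ _).1 hv.le)
  -- the degrees
  obtain ⟨g, hg⟩ := exists_defectClass hM hind.2.1
  obtain ⟨t, ht⟩ := exists_defectClass hM hind.1
  set iG := (Subgroup.centralizer ({g} : Set G)).index.factorization p with hiG
  have eG : iG + blockDefect p B = a := by
    rw [blockDefect, sInf_deg_eq hM hind.2.1 hg, ← hiG, ← ha]
    have : iG ≤ a := (Nat.factorization_le_iff_dvd Subgroup.index_ne_zero_of_finite
      Nat.card_pos.ne').2 (Subgroup.index_dvd_card _) p
    omega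
  have eH : (deg (ζ : H → ℂ)).factorization p + blockDefect p b =
      (Nat.card H).factorization p := by
    rw [blockDefect, sInf_deg_eq hM hind.1 ht]
    have h1 := hζ0
    rw [blockHeight_eq hM hind.1 ht] at h1
    have h2 := (degree_bounds hM hind.1 ht).1 ζ hζ
    have h3 : (Subgroup.centralizer ({t} : Set H)).index.factorization p ≤
        (Nat.card H).factorization p := (Nat.factorization_le_iff_dvd
      Subgroup.index_ne_zero_of_finite Nat.card_pos.ne').2 (Subgroup.index_dvd_card _) p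
    omega
  have hlow : ¬ (p : ℤ) ^ (iG + 1) ∣ n := by
    intro h
    have h2 := (hM.1.pow_dvd_iff_le_factorization (Int.natAbs_ne_zero.2 hn0)).1
      (Int.natCast_dvd.1 (by exact_mod_cast h))
    omega
  obtain ⟨χ, hχ⟩ : ∃ χ : IrrCharacter G, ¬ (p : ℤ) ^ (iG + 1) ∣ (m χ : ℤ) * regInt p φ χ := by
    by_contra hc
    push Not at hc
    exact hlow (Finset.dvd_sum fun χ _ => hc χ)
  have hχB : χ ∈ B := by
    by_contra hc
    exact hχ (by rw [regInt_eq_zero hM hind.2.1 hφ hc, mul_zero]; exact dvd_zero _)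
  obtain ⟨hr0, hr⟩ := regInt_height_zero hM hind.2.1 hφ hφ0 (ψ := χ) hχB
  have hd := pow_deg_dvd_regInt hM φ χ
  have hge := (degree_bounds hM hind.2.1 hg).1 χ hχB
  rw [← hiG] at hge
  refine ⟨χ, hχB, ?_, m χ, hin χ, fun hp => hχ ?_⟩
  · rw [blockHeight_eq hM hind.2.1 hg, ← hiG, Nat.sub_eq_zero_iff_le]
    by_contra hc
    exact hχ (((pow_dvd_pow _ (by omega)).trans hd).mul_left _)
  · rw [pow_succ']
    exact mul_dvd_mul (Int.natCast_dvd_natCast.2 hp) ((pow_dvd_pow _ hge).trans hd)

end Cfsg.Lib.Blocks
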