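import Mathlib
import Cfsg.Agent.Blocks.HeightRes

/-!
# Residues of the reduced matrix of regular inner products
-/

set_option autoImplicit false
set_option linter.unusedSectionVars false

namespace Cfsg.Lib.Blocks

open Cfsg.Lib.Chars
open scoped ComplexConjugate

universe u

variable {G : Type u} [Group G] [Fintype G] {M : Ideal AlgInt} {p : ℕ}

/-- The least exponent of `p` in the degrees of a block. -/
noncomputable def minExp (p : ℕ) (B : Set (IrrCharacter G)) : ℕ :=
  sInf ((fun χ : IrrCharacter G => (charDegree (χ : G → ℂ)).factorization p) '' B)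

/-- The regular inner products divided by their guaranteed power of `p`. -/
noncomputable def regRed (p : ℕ) (B : Set (IrrCharacter G)) (χ ψ : IrrCharacter G) : ℤ :=
  regInt p χ ψ / (p : ℤ) ^ minExp p B

/-- The reduced degree. -/
noncomputable def degRed (p : ℕ) (B : Set (IrrCharacter G)) (χ : IrrCharacter G) : ℕ :=
  deg (χ : G → ℂ) / p ^ minExp p B

section

variable {B : Set (IrrCharacter G)} {χ ψ : IrrCharacter G}

lemma minExp_le (hM : IsPModular p M) (hB : IsPBlock M B) (hψ : ψ ∈ B) :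
    minExp p B ≤ (deg (ψ : G → ℂ)).factorization p := by
  obtain ⟨g, hg⟩ := exists_defectClass hM hB
  rw [minExp, sInf_deg_eq hM hB hg]
  exact (degree_bounds hM hB hg).1 ψ hψ

lemma blockDefect_add_minExp (hM : IsPModular p M) (hB : IsPBlock M B) :
    blockDefect p B + minExp p B = (Nat.card G).factorization p := by
  obtain ⟨g, hg⟩ := exists_defectClass hM hB
  rw [minExp, sInf_deg_eq hM hB hg, blockDefect, sInf_deg_eq hM hB hg]
  have : (Subgroup.centralizer ({g} : Set G)).index.factorization p ≤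
      (Nat.card G).factorization p := (Nat.factorization_le_iff_dvd
    Subgroup.index_ne_zero_of_finite Nat.card_pos.ne').2 (Subgroup.index_dvd_card _) p
  omega

lemma minExp_eq_of_height_zero (hM : IsPModular p M) (hB : IsPBlock M B) (hψ : ψ ∈ B)
    (h0 : blockHeight p B (ψ : G → ℂ) = 0) :
    (deg (ψ : G → ℂ)).factorization p = minExp p B := by
  obtain ⟨g, hg⟩ := exists_defectClass hM hB
  rw [minExp, sInf_deg_eq hM hB hg]
  have := (degree_bounds hM hB hg).1 ψ hψ
  rw [blockHeight_eq hM hB hg] at h0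
  omega

lemma pow_mul_degRed (hM : IsPModular p M) (hB : IsPBlock M B) (hψ : ψ ∈ B) :
    p ^ minExp p B * degRed p B ψ = deg (ψ : G → ℂ) :=
  Nat.mul_div_cancel' ((pow_dvd_pow p (minExp_le hM hB hψ)).trans (Nat.ordProj_dvd _ _))

lemma pow_mul_regRed (hM : IsPModular p M) (hB : IsPBlock M B) (χ : IrrCharacter G) (hψ : ψ ∈ B) :
    (p : ℤ) ^ minExp p B * regRed p B χ ψ = regInt p χ ψ :=
  Int.mul_ediv_cancel' ((pow_dvd_pow (p : ℤ) (minExp_le hM hB hψ)).trans
    (pow_deg_dvd_regInt hM χ ψ))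

lemma regRed_symm (hp : p.Prime) (χ ψ : IrrCharacter G) : regRed p B χ ψ = regRed p B ψ χ := by
  rw [regRed, regRed, regInt_symm hp]

lemma pow_blockDefect_mul_classInner (hM : IsPModular p M) (hB : IsPBlock M B) (χ : IrrCharacter G)
    (hψ : ψ ∈ B) : (p : ℂ) ^ blockDefect p B *
      classInner (pRegularPart p (χ : G → ℂ)) (ψ : G → ℂ) = (regRed p B χ ψ : ℂ) := by
  have h := congrArg (fun z : ℤ => (z : ℂ)) (pow_mul_regRed hM hB χ hψ)
  push_cast at h
  rw [regInt_spec hM.1, ← blockDefect_add_minExp hM hB, pow_add] at h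
  refine mul_left_cancel₀ (pow_ne_zero (minExp p B) (Nat.cast_ne_zero.2 hM.1.ne_zero : (p : ℂ) ≠ 0)) ?_
  rw [h]
  ring

lemma natCast_mul_regRed (hM : IsPModular p M) (hB : IsPBlock M B) (χ : IrrCharacter G)
    (hψ : ψ ∈ B) :
    ((Nat.card G / p ^ (Nat.card G).factorization p : ℕ) : ℂ) * (regRed p B χ ψ : ℂ) =
      omega (ψ : G → ℂ) (regElem p χ) * (degRed p B ψ : ℂ) := by
  have h1 := congrArg (fun z : ℤ => (z : ℂ)) (pow_mul_regRed hM hB χ hψ)
  have h2 := congrArg (fun z : ℕ => (z : ℂ)) (pow_mul_degRed hM hB hψ)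
  push_cast at h1 h2
  refine mul_left_cancel₀ (pow_ne_zero (minExp p B) (Nat.cast_ne_zero.2 hM.1.ne_zero : (p : ℂ) ≠ 0)) ?_
  calc (p : ℂ) ^ minExp p B * (((Nat.card G / p ^ (Nat.card G).factorization p : ℕ) : ℂ) *
        (regRed p B χ ψ : ℂ))
      = ((Nat.card G / p ^ (Nat.card G).factorization p : ℕ) : ℂ) * (regInt p χ ψ : ℂ) := by
        rw [← h1]; ring
    _ = omega (ψ : G → ℂ) (regElem p χ) * (deg (ψ : G → ℂ) : ℂ) :=
        (omega_regElem_mul hM.1 χ ψ).symm
    _ = _ := by rw [← h2]; ring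

lemma not_dvd_degRed (hM : IsPModular p M) (hB : IsPBlock M B) (hψ : ψ ∈ B)
    (h0 : blockHeight p B (ψ : G → ℂ) = 0) : ¬ p ∣ degRed p B ψ := by
  intro h
  have h1 : p ^ (minExp p B + 1) ∣ deg (ψ : G → ℂ) := by
    rw [pow_succ, ← pow_mul_degRed hM hB hψ]; exact mul_dvd_mul_left _ h
  have h2 := (hM.1.pow_dvd_iff_le_factorization (deg_irr_pos ψ).ne').1 h1
  rw [minExp_eq_of_height_zero hM hB hψ h0] at h2
  omega

lemma not_dvd_regRed_self (hM : IsPModular p M) (hB : IsPBlock M B) (hψ : ψ ∈ B)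
    (h0 : blockHeight p B (ψ : G → ℂ) = 0) : ¬ (p : ℤ) ∣ regRed p B ψ ψ := by
  intro h
  obtain ⟨hne, heq⟩ := regInt_height_zero hM hB hψ h0 hψ
  have h1 : (p : ℤ) ^ (minExp p B + 1) ∣ regInt p ψ ψ := by
    rw [pow_succ, ← pow_mul_regRed hM hB ψ hψ]; exact mul_dvd_mul_left _ h
  have h2 := (hM.1.pow_dvd_iff_le_factorization (Int.natAbs_ne_zero.2 hne)).1
    (Int.natCast_dvd.1 (by exact_mod_cast h1))
  rw [heq, minExp_eq_of_height_zero hM hB hψ h0] at h2
  omega

/-- The residue of `regRed` factors. -/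
lemma cast_regRed_mul (hM : IsPModular p M) (hB : IsPBlock M B) {θ₀ θ θ' : IrrCharacter G}
    (h₀ : θ₀ ∈ B) (h : θ ∈ B) (h' : θ' ∈ B) :
    (regRed p B θ θ' : Res M) * (regRed p B θ₀ θ₀ : Res M) =
      (regRed p B θ θ₀ : Res M) * (regRed p B θ' θ₀ : Res M) := by
  set n := Nat.card G / p ^ (Nat.card G).factorization p with hn
  have hn0 : (n : Res M) ≠ 0 := fun h0 =>
    Nat.not_dvd_ordCompl hM.1 (Nat.card_pos (α := G)).ne' ((res_natCast_eq_zero_iff hM n).1 h0)
  have key : ∀ a b : IrrCharacter G, b ∈ B → (n : Res M) * (regRed p B a b : Res M) =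
      res M (omega (θ₀ : G → ℂ) (regElem p a)) * (degRed p B b : Res M) := fun a b hb => by
    rw [res_omega_eq_of_sameBlock hM (IsPBlock.sameBlock hM hB h₀ hb) (isCentralFn_regElem a)
        (integral_regElem hM a), ← res_natCast (M := M) n, ← res_intCast (M := M),
      ← res_mul (natCast_mem_place _) (intCast_mem _ _), natCast_mul_regRed hM hB a hb,
      res_mul (omega_mem_place hM b (isCentralFn_regElem a) (integral_regElem hM a))
        (natCast_mem_place _), res_natCast]
  have hs : (n : Res M) * (regRed p B θ₀ θ' : Res M) = (n : Res M) * (regRed p B θ' θ₀ : Res M) := by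
    rw [regRed_symm hM.1]
  rw [key θ₀ θ' h', key θ' θ₀ h₀] at hs
  refine mul_left_cancel₀ (mul_ne_zero hn0 hn0) ?_
  calc (n : Res M) * (n : Res M) * ((regRed p B θ θ' : Res M) * (regRed p B θ₀ θ₀ : Res M))
      = ((n : Res M) * (regRed p B θ θ' : Res M)) * ((n : Res M) * (regRed p B θ₀ θ₀ : Res M)) := by
        ring
    _ = ((n : Res M) * (regRed p B θ θ₀ : Res M)) * ((n : Res M) * (regRed p B θ' θ₀ : Res M)) := by
        rw [key θ θ' h', key θ₀ θ₀ h₀, key θ θ₀ h₀, key θ' θ₀ h₀]
        linear_combination (res M (omega (θ₀ : G → ℂ) (regElem p θ)) * (degRed p B θ₀ : Res M)) * hs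
    _ = _ := by ring

end

/-- A character of height zero has a restriction whose part in an inducing block is prime
to `p`. -/
theorem cast_sum_regRed_ne_zero (hM : IsPModular p M) (H : Subgroup G) [Fintype H]
    {b : Set (IrrCharacter H)} [DecidablePred (· ∈ b)] {B : Set (IrrCharacter G)}
    (hind : IsInducedBlock M H b B)
    {χ : IrrCharacter G} (hχ : χ ∈ B) (h0 : blockHeight p B (χ : G → ℂ) = 0)
    {θ₀ : IrrCharacter H} (hθ₀ : θ₀ ∈ b) (hθ0 : blockHeight p b (θ₀ : H → ℂ) = 0)
    {m : IrrCharacter H → ℕ}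
    (hm : ∀ h : H, (χ : G → ℂ) h = ∑ η : IrrCharacter H, (m η : ℂ) * (η : H → ℂ) h) :
    (∑ η ∈ Finset.univ.filter (· ∈ b), (m η : Res M) * (regRed p b η θ₀ : Res M)) ≠ 0 := by
  classical
  have hu := (omega_resElem_regElem_of_induced hM H hind hθ₀ χ).2 hχ h0
  have hdec : resElem H (regElem p χ) = ∑ η : IrrCharacter H, (m η : ℂ) • regElem p η := by
    refine fn_ext fun h => ?_
    rw [fn_resElem, fn_sum]
    simp only [fn_smul, regElem, fn_ofFn, pRegularPart_apply, Subgroup.orderOf_coe]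
    split_ifs with hd
    · simp
    · rw [hm h, map_sum]
      exact Finset.sum_congr rfl fun η _ => by rw [map_mul, map_natCast]
  rw [hdec, omega_sum] at hu
  have hmem : ∀ η : IrrCharacter H, omega (θ₀ : H → ℂ) (regElem p η) ∈ place M := fun η =>
    omega_mem_place hM θ₀ (isCentralFn_regElem η) (integral_regElem hM η)
  have hne : (∑ η ∈ Finset.univ.filter (· ∈ b),
      (m η : Res M) * res M (omega (θ₀ : H → ℂ) (regElem p η))) ≠ 0 := by
    intro hz
    refine hu.not_small ((res_eq_zero_iff (sum_mem fun η _ => ?_)).1 ?_)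
    · rw [omega_smul]; exact mul_mem (natCast_mem_place _) (hmem η)
    · rw [res_sum _ _ fun η _ => by rw [omega_smul]; exact mul_mem (natCast_mem_place _) (hmem η),
        ← hz, Finset.sum_filter]
      refine Finset.sum_congr rfl fun η _ => ?_
      rw [omega_smul, res_mul (natCast_mem_place _) (hmem η), res_natCast]
      split_ifs with hη
      · rfl
      · have h := omega_regElem_mul hM.1 η θ₀
        rw [regInt_symm hM.1, regInt_eq_zero hM hind.1 hθ₀ hη, Int.cast_zero, mul_zero,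
          mul_eq_zero] at h
        rw [h.resolve_right (Nat.cast_ne_zero.2 (deg_irr_pos θ₀).ne'), res_zero, mul_zero]
  intro hz
  set n := Nat.card H / p ^ (Nat.card H).factorization p with hn
  have hD : (degRed p b θ₀ : Res M) ≠ 0 := fun h =>
    not_dvd_degRed hM hind.1 hθ₀ hθ0 ((res_natCast_eq_zero_iff hM _).1 h)
  refine hne (mul_left_cancel₀ hD ?_)
  rw [mul_zero, ← mul_zero (n : Res M), ← hz, Finset.mul_sum, Finset.mul_sum]
  refine Finset.sum_congr rfl fun η _ => ?_
  have h := congrArg (res M) (natCast_mul_regRed hM hind.1 η hθ₀)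
  rw [res_mul (natCast_mem_place _) (intCast_mem _ _), res_natCast, res_intCast,
    res_mul (hmem η) (natCast_mem_place _), res_natCast, ← hn] at h
  linear_combination (-(m η : Res M)) * h

end Cfsg.Lib.Blocks
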