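import Cfsg.Agent.Blocks.LocalRing
import Cfsg.Agent.Blocks.PPart
import Cfsg.Agent.Chars.Count
import Cfsg.Agent.Chars.Galois
import Cfsg.Agent.Chars.Induced
import Cfsg.Agent.Coprime.Action
import Cfsg.Agent.Chars.Gallagher

/-!
# Character values modulo a prime determine the class of the `p`-regular part
-/

set_option autoImplicit false
set_option linter.unusedSectionVars false

namespace Cfsg.Lib.Blocks

open Cfsg.Lib.Chars
open scoped ComplexConjugate

universe u

variable {G : Type u} [Group G] [Finite G] {p : ℕ} {M : Ideal AlgInt}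

lemma small_sub_one_of_ppow (hM : IsPModular p M) {w : ℂ} {k : ℕ} (hw : w ^ p ^ k = 1) :
    Small M (w - 1) := by
  have hwp : w ∈ place M := isIntegral_mem_place hM
    (IsIntegral.of_pow (pow_pos hM.1.pos k) (hw ▸ isIntegral_one))
  have := Fact.mk hM.1
  have := charP_res hM
  have h1w : w - 1 ∈ place M := sub_mem hwp (one_mem _)
  refine (res_eq_zero_iff h1w).1 ?_
  let W : place M := ⟨w, hwp⟩
  show res M ((W - 1 : place M) : ℂ) = 0
  rw [res_coe, map_sub, map_one]
  have h2 : IsLocalRing.residue (place M) W ^ p ^ k = 1 := by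
    rw [← map_pow, show W ^ p ^ k = 1 from Subtype.ext (by simpa [W] using hw), map_one]
  have h3 : (IsLocalRing.residue (place M) W - 1) ^ p ^ k = 0 := by
    rw [sub_pow_char_pow, h2, one_pow, sub_self]
  exact eq_zero_of_pow_eq_zero h3

/-- A character takes congruent values on an element and on its `p`-regular part. -/
lemma small_char_sub_regular (hM : IsPModular p M) {χ : G → ℂ} (hχ : IsCharacter G χ) {x a : G}
    (ha : IsPPart p x a) : Small M (χ x - χ (a⁻¹ * x)) := by
  obtain ⟨y, hy, hc, ⟨e, he⟩, hny⟩ := ha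
  subst hy
  rw [inv_mul_cancel_left]
  have hco : (p ^ e).Coprime (orderOf y) := ((hM.1.coprime_iff_not_dvd).2 hny).pow_left e
  obtain ⟨t, ht0, ht1⟩ := Nat.chineseRemainder hco 0 1
  have hyt : y = (a * y) ^ t := by
    rw [hc.mul_pow, pow_eq_pow_iff_modEq.mpr (he ▸ ht0 : t ≡ 0 [MOD orderOf a]),
      pow_eq_pow_iff_modEq.mpr ht1, pow_zero, pow_one, one_mul]
  obtain ⟨ι, hι, c, z, hz, hval⟩ := IsCharacter.exists_cyclic_decomp hχ (a * y)
  have h1 := hval 1
  have h2 := hval t
  rw [pow_one] at h1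
  rw [← hyt] at h2
  rw [h1, h2, ← Finset.sum_sub_distrib]
  refine small_sum _ _ fun i _ => ?_
  rw [pow_one, ← mul_sub]
  have hzi : z i ∈ place M := isIntegral_mem_place hM
    (IsIntegral.of_pow (orderOf_pos (a * y)) (hz i ▸ isIntegral_one))
  have hord : orderOf (a * y) = p ^ e * orderOf y :=
    (hc.orderOf_mul_eq_mul_orderOf_of_coprime (he ▸ hco)).trans (by rw [he])
  have hw : (z i ^ orderOf y) ^ p ^ e = 1 := by rw [← pow_mul, mul_comm, ← hord, hz i]
  by_cases hy1 : orderOf y = 1
  · have hzt : z i ^ t = 1 := by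
      obtain ⟨c', hc'⟩ := Nat.modEq_zero_iff_dvd.mp ht0
      rw [hy1, pow_one] at hw
      rw [hc', pow_mul, hw, one_pow]
    rw [hzt]
    refine Small.mem_mul ?_ (natCast_mem_place _)
    rw [hy1, pow_one] at hw
    exact small_sub_one_of_ppow hM hw
  have h2y : 2 ≤ orderOf y := by have := orderOf_pos y; omega
  have ht : 1 ≤ t := by
    by_contra h
    rw [show t = 0 by omega] at ht1
    exact hy1 (Nat.dvd_one.mp ((Nat.modEq_iff_dvd' zero_le_one).mp ht1))
  obtain ⟨u, hu⟩ := (Nat.modEq_iff_dvd' ht).mp ht1.symm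
  have hu' : t = 1 + orderOf y * u := by omega
  have hs : Small M ((z i ^ orderOf y) ^ u - 1) := by
    refine small_sub_one_of_ppow hM (k := e) ?_
    rw [← pow_mul, mul_comm, pow_mul, hw, one_pow]
  have : z i - z i ^ t = -(z i) * ((z i ^ orderOf y) ^ u - 1) := by
    rw [hu', pow_add, pow_one, pow_mul]; ring
  rw [this]
  exact (hs.mem_mul (neg_mem hzi)).mem_mul (natCast_mem_place _)

/-- Congruent values on `p`-regular elements force conjugacy. -/
theorem isConj_of_small (hM : IsPModular p M) {x y : G} (hx : ¬ p ∣ orderOf x)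
    (hy : ¬ p ∣ orderOf y) (h : ∀ χ : IrrCharacter G, Small M ((χ : G → ℂ) x - (χ : G → ℂ) y)) :
    IsConj x y := by
  classical
  by_contra hnc
  have := Fintype.ofFinite G
  have hp := hM.1
  have := Fact.mk hp
  set C := Subgroup.centralizer ({y} : Set G) with hC
  obtain ⟨P₀⟩ := (inferInstance : Nonempty (Sylow p C))
  set P : Subgroup G := (P₀ : Subgroup C).map C.subtype
  have hPC : P ≤ C := Subgroup.map_subtype_le _
  have hPcard : Nat.card P = Nat.card (P₀ : Subgroup C) :=
    Subgroup.card_map_of_injective C.subtype_injective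
  obtain ⟨e, he⟩ := IsPGroup.iff_card.mp P₀.2
  set A := Subgroup.zpowers y
  set o := orderOf y
  have hAC : ∀ a ∈ A, ∀ u ∈ P, Commute a u := by
    rintro a ⟨k, rfl⟩ u hu
    exact (show Commute y u from (Subgroup.mem_centralizer_singleton_iff.mp (hPC hu)).symm).zpow_left k
  have hnorm : P ≤ Subgroup.normalizer (A : Set G) := by
    intro u hu
    have h1 : ∀ v ∈ P, ∀ a ∈ A, v * a * v⁻¹ ∈ A := fun v hv a ha => by
      rw [← (hAC a ha v hv).eq, mul_inv_cancel_right]; exact ha
    exact Cfsg.Lib.Coprime.mem_normalizer_of_conj_mem (h1 u hu) (fun a ha => by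
      simpa using h1 u⁻¹ (inv_mem hu) a ha)
  set E := A ⊔ P
  have hco : (p ^ e).Coprime o := ((hp.coprime_iff_not_dvd).2 hy).pow_left e
  obtain ⟨t, ht0, ht1⟩ := Nat.chineseRemainder hco 0 1
  have hPt : ∀ u ∈ P, u ^ t = 1 := fun u hu => by
    obtain ⟨c, hc⟩ := Nat.modEq_zero_iff_dvd.mp ht0
    rw [hc, pow_mul, orderOf_dvd_iff_pow_eq_one.mp
      ((Subgroup.orderOf_dvd_natCard _ hu).trans (by rw [hPcard, he])), one_pow]
  have hAt : ∀ a ∈ A, a ^ t = a := by
    rintro a ⟨k, rfl⟩
    show (y ^ k) ^ t = y ^ k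
    rw [← zpow_natCast, ← zpow_mul, mul_comm, zpow_mul, zpow_natCast,
      (pow_eq_pow_iff_modEq.mpr ht1 : y ^ t = y ^ 1), pow_one]
  have hdec : ∀ g ∈ E, ∃ a ∈ A, ∃ u ∈ P, a * u = g := fun g hg =>
    (Cfsg.Lib.Coprime.mem_sup_of_le_normalizer hnorm).mp hg
  have hpw : ∀ a ∈ A, ∀ u ∈ P, (a * u) ^ t = a := fun a ha u hu => by
    rw [(hAC a ha u hu).mul_pow, hAt a ha, hPt u hu, mul_one]
  have hmem : ∀ g ∈ E, g ^ t ∈ A := fun g hg => by
    obtain ⟨a, ha, u, hu, rfl⟩ := hdec g hg
    rw [hpw a ha u hu]; exact ha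
  let π : E →* A :=
    { toFun := fun g => ⟨(g : G) ^ t, hmem g g.2⟩
      map_one' := Subtype.ext (one_pow t)
      map_mul' := fun g g' => by
        obtain ⟨a, ha, u, hu, hau⟩ := hdec g g.2
        obtain ⟨a', ha', u', hu', hau'⟩ := hdec g' g'.2
        apply Subtype.ext
        show ((g * g' : E) : G) ^ t = (g : G) ^ t * (g' : G) ^ t
        rw [Subgroup.coe_mul, ← hau, ← hau', hpw a ha u hu, hpw a' ha' u' hu',
          show a * u * (a' * u') = a * a' * (u * u') by
            rw [mul_assoc, ← mul_assoc u, ← (hAC a' ha' u hu).eq]; group,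
          hpw _ (mul_mem ha ha') _ (mul_mem hu hu')] }
  set yA : A := ⟨y, Subgroup.mem_zpowers y⟩
  set ψ : E → ℂ := ∑ φ : IrrCharacter A, conj ((φ : A → ℂ) yA) • ((φ : A → ℂ) ∘ π) with hψ
  have hψval : ∀ g : E, ψ g = if (g : G) ^ t = y then (o : ℂ) else 0 := by
    intro g
    have hcomm : ∀ a b : A, IsConj a b ↔ a = b := fun a b => ⟨fun h => by
      obtain ⟨c, hc⟩ := isConj_iff.mp h
      rw [← hc]
      have : IsMulCommutative A := ⟨⟨fun a b => by
        obtain ⟨a, i, rfl⟩ := a; obtain ⟨b, j, rfl⟩ := b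
        exact Subtype.ext ((Commute.refl y).zpow_zpow i j).eq⟩⟩
      rw [mul_comm' c a, mul_inv_cancel_right], fun h => h ▸ IsConj.refl a⟩
    have hcent : Subgroup.centralizer ({π g} : Set A) = ⊤ := eq_top_iff.mpr fun b _ =>
      Subgroup.mem_centralizer_singleton_iff.mpr (by
        obtain ⟨b, i, rfl⟩ := b
        generalize π g = a
        obtain ⟨a, j, rfl⟩ := a
        exact Subtype.ext ((Commute.refl y).zpow_zpow i j).eq)
    simp only [hψ, Finset.sum_apply, Pi.smul_apply, smul_eq_mul, Function.comp_apply]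
    rw [Finset.sum_congr rfl (g := fun φ : IrrCharacter A =>
      (φ : A → ℂ) (π g) * conj ((φ : A → ℂ) yA)) fun φ _ => mul_comm _ _,
      second_orthogonality (π g) yA, hcent,
      Subgroup.card_top, Nat.card_zpowers]
    by_cases hg : (g : G) ^ t = y
    · rw [if_pos ((hcomm _ _).mpr (Subtype.ext hg : π g = yA)), if_pos hg]
    · rw [if_neg (fun h => hg (congrArg Subtype.val ((hcomm _ _).mp h))), if_neg hg]
  set F := Cfsg.indFun E ψ
  have hF : ∀ g : G, F g = (Nat.card E : ℂ)⁻¹ *
      ((Finset.univ.filter fun c : G => c⁻¹ * g * c ∈ E ∧ (c⁻¹ * g * c) ^ t = y).card : ℂ) * o := by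
    intro g
    simp only [F, indFun_apply, mul_assoc]
    congr 1
    rw [← nsmul_eq_mul, ← Finset.sum_const, Finset.sum_filter]
    refine Finset.sum_congr rfl fun c _ => ?_
    by_cases hc : c⁻¹ * (g * c) ∈ E
    · rw [extendByZero_mem _ hc, hψval]
      simp [hc]
    · rw [extendByZero_not_mem _ hc]
      simp [hc]
  -- a regular element that reaches `y` equals it
  have hreg : ∀ g : G, ¬ p ∣ orderOf g → g ∈ E → g ^ t = y → g = y := by
    intro g hg hgE hgt
    obtain ⟨a, ha, u, hu, rfl⟩ := hdec g hgE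
    rw [hpw a ha u hu] at hgt
    subst hgt
    have hou : orderOf u ∣ p ^ e := (Subgroup.orderOf_dvd_natCard _ hu).trans (by rw [hPcard, he])
    obtain ⟨j, -, hj⟩ := (Nat.dvd_prime_pow hp).mp hou
    have hord := (hAC a ha u hu).orderOf_mul_eq_mul_orderOf_of_coprime
      (hco.symm.coprime_dvd_right hou)
    rcases j with - | j
    · rw [pow_zero, orderOf_eq_one_iff] at hj
      rw [hj, mul_one]
    · exact absurd (hord ▸ (hj ▸ dvd_pow_self p j.succ_ne_zero).mul_left _) hg
  have hFx : F x = 0 := by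
    rw [hF, Finset.card_eq_zero.mpr (Finset.filter_eq_empty_iff.mpr fun c _ hc => ?_)]
    · simp
    · have hox : orderOf (c⁻¹ * x * c) = orderOf x := by
        have := (MulAut.conj c⁻¹).orderOf_eq x
        simpa using this
      have h1 := hreg _ (by rw [hox]; exact hx) hc.1 hc.2
      exact hnc (isConj_iff.mpr ⟨c⁻¹, by simpa using h1⟩)
  have hyA : y ∈ E := Subgroup.mem_sup_left (Subgroup.mem_zpowers y)
  have hFy : F y = ((P₀ : Subgroup C).index : ℂ) := by
    rw [hF, show (Finset.univ.filter fun c : G => c⁻¹ * y * c ∈ E ∧ (c⁻¹ * y * c) ^ t = y) =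
      Finset.univ.filter fun c : G => c ∈ C from Finset.filter_congr fun c _ => ?_,
      ← Fintype.card_subtype, ← Nat.card_eq_fintype_card]
    · have hEc : Nat.card E = o * Nat.card P := by
        rw [Cfsg.Lib.Coprime.card_sup_coprime hnorm (by
          rw [Nat.card_zpowers, hPcard, he]; exact hco.symm), Nat.card_zpowers]
      rw [show Nat.card {c : G // c ∈ C} = Nat.card C from rfl, ← (P₀ : Subgroup C).card_mul_index,
        hEc, ← hPcard]
      push_cast
      have : (o : ℂ) ≠ 0 := by exact_mod_cast (orderOf_pos y).ne'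
      have : (Nat.card P : ℂ) ≠ 0 := by exact_mod_cast Nat.card_pos.ne'
      field_simp
    · have hox : orderOf (c⁻¹ * y * c) = orderOf y := by
        have := (MulAut.conj c⁻¹).orderOf_eq y
        simpa using this
      constructor
      · rintro ⟨h1, h2⟩
        have h3 := hreg _ (by rw [hox]; exact hy) h1 h2
        rw [hC, Subgroup.mem_centralizer_singleton_iff]
        calc c * y = c * (c⁻¹ * y * c) := by rw [h3]
          _ = y * c := by group
      · intro hc
        have h3 : c⁻¹ * y * c = y := by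
          rw [mul_assoc, ← Subgroup.mem_centralizer_singleton_iff.mp hc, inv_mul_cancel_left]
        rw [h3]
        exact ⟨hyA, hAt y (Subgroup.mem_zpowers y)⟩
  have hint : ∀ χ : IrrCharacter G, IsIntegral ℤ (Cfsg.classInner F χ) := by
    intro χ
    rw [frobenius_reciprocity E ψ (isClassFunction_irr χ), hψ, classInner_sum_left]
    refine IsIntegral.sum _ fun φ _ => ?_
    rw [classInner_smul_left]
    obtain ⟨n, hn⟩ := classInner_char_nat (IsCharacter.comp_hom (isCharacter_of_irr φ.2) π)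
      (IsCharacter.restrict (isCharacter_of_irr χ.2) E)
    rw [show (φ : A → ℂ) ∘ π = fun g => (φ : A → ℂ) (π g) from rfl, hn]
    refine IsIntegral.mul ?_ isIntegral_algebraMap
    rw [← IsCharacter.conj_inv (isCharacter_of_irr φ.2)]
    exact IsCharacter.isIntegral (isCharacter_of_irr φ.2) _
  have hs : Small M (F x - F y) := by
    show Small M (Cfsg.indFun E ψ x - Cfsg.indFun E ψ y)
    rw [classFunction_expand_apply (isClassFunction_indFun E ψ) x,
      classFunction_expand_apply (isClassFunction_indFun E ψ) y, ← Finset.sum_sub_distrib]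
    refine small_sum _ _ fun χ _ => ?_
    rw [← mul_sub]
    exact (h χ).mem_mul (isIntegral_mem_place hM (hint χ))
  rw [hFx, hFy, zero_sub] at hs
  have := hs.neg
  rw [neg_neg, small_natCast_iff hM] at this
  exact P₀.not_dvd_index this

end Cfsg.Lib.Blocks
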