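/-
Counting zeros of irreducible characters: sums of squares over sets stable under Galois action.
-/
import Cfsg.Agent.Chars.NonVanish
import Cfsg.Agent.Chars.Construct

namespace Cfsg.Lib.Blocks

open Cfsg Cfsg.Lib.Chars
open scoped ComplexConjugate

universe u

variable {G : Type u} [Group G] [Finite G]

/-- Powers prime to `|G|` are Galois conjugations of character values. -/
lemma exists_galois_power {χ : G → ℂ} (hχ : IsCharacter G χ) {k : ℕ}
    (hk : k.Coprime (Nat.card G)) : ∃ σ : ℂ ≃+* ℂ, ∀ g : G, σ (χ g) = χ (g ^ k) := by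
  haveI : NeZero (Nat.card G) := ⟨Nat.card_pos.ne'⟩
  obtain ⟨σ, hσ⟩ := exists_galConj_auto hk
  exact ⟨σ, fun g => IsGalConj.apply_character hσ hχ (orderOf_dvd_natCard g)⟩

lemma apply_pow_eq_zero_iff {χ : G → ℂ} (hχ : IsCharacter G χ) {k : ℕ}
    (hk : k.Coprime (Nat.card G)) (g : G) : χ (g ^ k) = 0 ↔ χ g = 0 := by
  obtain ⟨σ, hσ⟩ := exists_galois_power hχ hk
  rw [← hσ, map_eq_zero_iff σ σ.injective]

lemma norm_apply_pow_eq_iff {χ : G → ℂ} (hχ : IsCharacter G χ) {k : ℕ}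
    (hk : k.Coprime (Nat.card G)) (g : G) (d : ℕ) :
    ‖χ (g ^ k)‖ = (d : ℝ) ↔ ‖χ g‖ = (d : ℝ) := by
  obtain ⟨σ, hσ⟩ := exists_galois_power hχ hk
  have hsq : ∀ a : G, ‖χ a‖ = (d : ℝ) ↔ χ a * χ a⁻¹ = ((d : ℕ) : ℂ) ^ 2 := fun a => by
    rw [IsCharacter.conj_inv hχ a, Complex.mul_conj']
    constructor
    · intro h; rw [h, Complex.ofReal_natCast]
    · intro h
      have h' : ‖χ a‖ ^ 2 = (d : ℝ) ^ 2 := by exact_mod_cast h
      exact (pow_left_inj₀ (norm_nonneg _) (by positivity) two_ne_zero).1 h'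
  rw [hsq, hsq, ← inv_pow, ← hσ, ← hσ g⁻¹, ← map_mul,
    show ((d : ℕ) : ℂ) ^ 2 = σ (((d : ℕ) : ℂ) ^ 2) by rw [map_pow, map_natCast], σ.injective.eq_iff,
    map_pow, map_natCast]

lemma coprime_val (k : (ZMod (Nat.card G))ˣ) :
    ((k : ZMod (Nat.card G)).val).Coprime (Nat.card G) := ZMod.val_coe_unit_coprime k

/-- A character nowhere zero on a Galois stable set has mean square at least one there. -/
lemma card_le_sum_norm_sq {χ : G → ℂ} (hχ : IsCharacter G χ) (S : Finset G)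
    (hS : ∀ g ∈ S, ∀ k : ℕ, k.Coprime (Nat.card G) → g ^ k ∈ S) (hne : ∀ g ∈ S, χ g ≠ 0) :
    (S.card : ℝ) ≤ ∑ g ∈ S, ‖χ g‖ ^ 2 := by
  classical
  haveI : NeZero (Nat.card G) := ⟨Nat.card_pos.ne'⟩
  have hperm : ∀ k : (ZMod (Nat.card G))ˣ,
      ∑ g ∈ S, ‖χ (g ^ (k : ZMod (Nat.card G)).val)‖ ^ 2 = ∑ g ∈ S, ‖χ g‖ ^ 2 := by
    intro k
    have hinj : ∀ a b : G, a ^ (k : ZMod (Nat.card G)).val = b ^ (k : ZMod (Nat.card G)).val → a = b :=
      fun a b h => (powCoprime (coprime_val k).symm).injective h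
    refine Finset.sum_nbij (fun g => g ^ (k : ZMod (Nat.card G)).val) (fun g hg => hS g hg _ (coprime_val k))
      (fun a _ b _ h => hinj a b h) ?_ fun g _ => rfl
    intro b hb
    have himg : S.image (fun g => g ^ (k : ZMod (Nat.card G)).val) = S :=
      Finset.eq_of_subset_of_card_le
        (Finset.image_subset_iff.2 fun g hg => hS g hg _ (coprime_val k))
        (Finset.card_image_of_injective S (fun a b h => hinj a b h)).ge
    rw [← himg] at hb
    simpa using hb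
  have h1 : ∀ g ∈ S, (Fintype.card (ZMod (Nat.card G))ˣ : ℝ) ≤
      ∑ k : (ZMod (Nat.card G))ˣ, ‖χ (g ^ (k : ZMod (Nat.card G)).val)‖ ^ 2 := fun g hg =>
    (card_units_le_sum_norm_sq hχ (orderOf_dvd_natCard g) fun k =>
      hne _ (hS g hg _ (coprime_val k))).1
  have h2 := Finset.sum_le_sum h1
  rw [Finset.sum_const, nsmul_eq_mul, Finset.sum_comm, Finset.sum_congr rfl fun k _ => hperm k,
    Finset.sum_const, Finset.card_univ, nsmul_eq_mul, mul_comm] at h2
  exact le_of_mul_le_mul_left h2 (Nat.cast_pos.2 Fintype.card_pos)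

/-- A character with positive real values on a Galois stable set has mean at least one there. -/
lemma card_le_sum_re {f : G → ℂ} (hf : IsCharacter G f) (hpos : ∀ g, ∃ r : ℝ, 0 < r ∧ f g = r)
    (g : G) (m : ℕ) [NeZero m] (hg : orderOf g ∣ m) :
    (Fintype.card (ZMod m)ˣ : ℝ) ≤ ∑ k : (ZMod m)ˣ, (f (g ^ (k : ZMod m).val)).re := by
  classical
  choose r hr0 hr using hpos
  have hre : ∀ x, (f x).re = r x := fun x => by rw [hr x, Complex.ofReal_re]
  set y := ∏ k : (ZMod m)ˣ, f (g ^ (k : ZMod m).val) with hy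
  have hord : ∀ n : ℕ, orderOf (g ^ n) ∣ m := fun n => (orderOf_pow_dvd n).trans hg
  have hymem : y ∈ cycField m := prod_mem fun k _ => IsCharacter.mem_cycField hf (hord _)
  have hyint : IsIntegral ℤ y := IsIntegral.prod _ fun k _ => IsCharacter.isIntegral hf _
  obtain ⟨q, hq⟩ := rat_of_galConj_fixed hymem fun σ j hj hσ => by
    rw [hy, map_prod]
    refine Fintype.prod_equiv (Equiv.mulRight (ZMod.unitOfCoprime j hj)) _ _ fun k => ?_
    rw [IsGalConj.apply_character hσ hf (hord _), ← pow_mul]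
    congr 1
    rw [pow_eq_pow_iff_modEq]
    refine Nat.ModEq.of_dvd hg ((ZMod.natCast_eq_natCast_iff' _ _ _).mp ?_ : _ % m = _ % m)
    simp
  obtain ⟨z, hz⟩ := int_of_isIntegral_rat (q := q) (hq ▸ hyint)
  set P : ℝ := ∏ k : (ZMod m)ˣ, r (g ^ (k : ZMod m).val) with hP
  have hPy : (P : ℂ) = y := by
    rw [hP, hy, Complex.ofReal_prod]; exact Finset.prod_congr rfl fun k _ => (hr _).symm
  have hPz : P = (z : ℝ) := by
    have : (P : ℂ) = ((z : ℝ) : ℂ) := by rw [hPy, hq, hz]; simp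
    exact_mod_cast this
  have hP0 : 0 < P := Finset.prod_pos fun k _ => hr0 _
  have h1 : 1 ≤ P := by
    rw [hPz] at hP0 ⊢
    have : (0 : ℤ) < z := by exact_mod_cast hP0
    exact_mod_cast this
  have hlog : 0 ≤ ∑ k : (ZMod m)ˣ, Real.log (r (g ^ (k : ZMod m).val)) := by
    rw [← Real.log_prod (fun k _ => (hr0 _).ne')]
    exact Real.log_nonneg h1
  have hle : ∑ k : (ZMod m)ˣ, Real.log (r (g ^ (k : ZMod m).val)) ≤
      ∑ k : (ZMod m)ˣ, (r (g ^ (k : ZMod m).val) - 1) :=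
    Finset.sum_le_sum fun k _ => Real.log_le_sub_one_of_pos (hr0 _)
  rw [Finset.sum_sub_distrib, Finset.sum_const, Finset.card_univ, nsmul_one] at hle
  simp only [hre]
  linarith

omit [Finite G] in
lemma sum_norm_sq_eq_card [Fintype G] {χ : G → ℂ} (hχ : IsIrrCharacter G χ) :
    ∑ g, ‖χ g‖ ^ 2 = (Nat.card G : ℝ) := by
  have h := classInner_self χ
  rw [classInner_self_irr hχ] at h
  have h' : (1 : ℝ) = (Nat.card G : ℝ)⁻¹ * ∑ g, ‖χ g‖ ^ 2 := by exact_mod_cast h
  rw [inv_mul_eq_div, eq_div_iff (by exact_mod_cast Nat.card_pos.ne'), one_mul] at h'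
  exact h'.symm

end Cfsg.Lib.Blocks
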