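import Mathlib
import Cfsg.Agent.Blocks.RegIntResidue
import Cfsg.Agent.Blocks.Columns
import Cfsg.Agent.Blocks.ZeroCounting
import Cfsg.Agent.Blocks.CentralDefect
import Cfsg.Agent.Blocks.RegularCongr

/-!
# Contributions of a subsection
-/

set_option autoImplicit false
set_option linter.unusedSectionVars false

namespace Cfsg.Lib.Blocks

open Cfsg.Lib.Chars
open scoped ComplexConjugate

universe u

/-- Conjugates of a nowhere vanishing integral combination of roots of unity have mean square at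
least one. -/
theorem card_units_le_sum_norm_sq_roots {n : ℕ} [NeZero n] {ι : Type*} (s : Finset ι) (c : ι → ℤ)
    (z : ι → ℂ) (hz : ∀ i, z i ^ n = 1)
    (hne : ∀ k : (ZMod n)ˣ, ∑ i ∈ s, (c i : ℂ) * z i ^ (k : ZMod n).val ≠ 0) :
    (Fintype.card (ZMod n)ˣ : ℝ) ≤
      ∑ k : (ZMod n)ˣ, ‖∑ i ∈ s, (c i : ℂ) * z i ^ (k : ZMod n).val‖ ^ 2 := by
  classical
  set F : ℕ → ℂ := fun j => ∑ i ∈ s, (c i : ℂ) * z i ^ j with hF
  set y := ∏ k : (ZMod n)ˣ, F (k : ZMod n).val with hy
  have hymem : y ∈ cycField n := prod_mem fun k _ => sum_mem fun i _ =>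
    mul_mem (intCast_mem _ _) (pow_mem (mem_cycField_of_pow_eq_one n (hz i)) _)
  have hyint : IsIntegral ℤ y := IsIntegral.prod _ fun k _ => IsIntegral.sum _ fun i _ =>
    IsIntegral.mul (isIntegral_algebraMap (R := ℤ) (x := c i))
      (IsIntegral.pow (isIntegral_of_pow_eq_one (NeZero.pos n) (hz i)) _)
  obtain ⟨q, hq⟩ := rat_of_galConj_fixed hymem fun σ j hj hσ => by
    rw [hy, map_prod]
    refine Fintype.prod_equiv (Equiv.mulRight (ZMod.unitOfCoprime j hj)) _ _ fun k => ?_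
    simp only [hF, map_sum, map_mul, map_intCast]
    refine Finset.sum_congr rfl fun i _ => ?_
    rw [map_pow, hσ _ (hz i), ← pow_mul, pow_eq_pow_mod _ (hz i)]
    conv_rhs => rw [pow_eq_pow_mod _ (hz i)]
    congr 2
    simp [ZMod.val_mul, ZMod.val_natCast, Nat.mul_mod, mul_comm]
  obtain ⟨w, hw⟩ := int_of_isIntegral_rat (q := q) (hq ▸ hyint)
  have hw0 : w ≠ 0 := fun h => by
    have : y ≠ 0 := Finset.prod_ne_zero_iff.mpr fun k _ => hne k
    apply this
    rw [hq, hw, h]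
    simp
  have h1 : 1 ≤ ‖y‖ ^ 2 := by
    rw [hq, hw, Rat.cast_intCast, Complex.norm_intCast]
    exact one_le_pow₀ (by exact_mod_cast Int.one_le_abs hw0)
  set x : (ZMod n)ˣ → ℝ := fun k => ‖F (k : ZMod n).val‖ ^ 2 with hx
  have hxpos : ∀ k, 0 < x k := fun k => pow_pos (norm_pos_iff.mpr (hne k)) 2
  have hlog : 0 ≤ ∑ k, Real.log (x k) := by
    rw [← Real.log_prod (fun k _ => (hxpos k).ne')]
    refine Real.log_nonneg ?_
    rwa [hx, Finset.prod_pow, ← norm_prod]
  have hle : ∑ k, Real.log (x k) ≤ ∑ k, (x k - 1) :=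
    Finset.sum_le_sum fun k _ => Real.log_le_sub_one_of_pos (hxpos k)
  rw [Finset.sum_sub_distrib, Finset.sum_const, Finset.card_univ, nsmul_one] at hle
  show _ ≤ ∑ k, x k
  linarith

variable {G : Type u} [Group G] [Fintype G] {M : Ideal AlgInt} {p : ℕ}

/-- A central element acts through the powers of a root of unity. -/
lemma apply_central_pow (θ : IrrCharacter G) {z : G} (hz : z ∈ Subgroup.center G) (n : ℕ) :
    (θ : G → ℂ) (z ^ n) / (θ : G → ℂ) 1 = ((θ : G → ℂ) z / (θ : G → ℂ) 1) ^ n := by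
  induction n with
  | zero => rw [pow_zero, pow_zero, div_self (IsIrrCharacter.apply_one_ne_zero θ.2)]
  | succ n ih => rw [pow_succ' z, apply_mul_central θ hz, mul_div_assoc, ih, pow_succ']

lemma apply_central_root (θ : IrrCharacter G) {z : G} (hz : z ∈ Subgroup.center G) {n : ℕ}
    (hn : z ^ n = 1) : ((θ : G → ℂ) z / (θ : G → ℂ) 1) ^ n = 1 := by
  rw [← apply_central_pow θ hz n, hn, div_self (IsIrrCharacter.apply_one_ne_zero θ.2)]

/-- The kernel of a block is idempotent on the regular elements. -/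
lemma sum_colKer_mul_colKer (hM : IsPModular p M) {B : Set (IrrCharacter G)} (hB : IsPBlock M B)
    {w : G} (hw : ¬ p ∣ orderOf w) :
    ∑ v ∈ Finset.univ.filter (fun v : G => ¬ p ∣ orderOf v), colKer B w v * colKer B v w =
      (Nat.card G : ℂ) * colKer B w w := by
  classical
  rw [Finset.sum_filter_of_ne (s := Finset.univ) (p := fun v : G => ¬ p ∣ orderOf v)
    (fun v _ hv hd => hv (by
      rw [colKer_eq B w v, block_orthogonality_regular hM hB hw hd, zero_mul]))]
  simp only [colKer_eq, Finset.sum_mul, Finset.mul_sum]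
  rw [Finset.sum_comm]
  refine Finset.sum_congr rfl fun θ hθ => ?_
  rw [Finset.sum_comm]
  have hG : (Nat.card G : ℂ) ≠ 0 := Nat.cast_ne_zero.2 Nat.card_pos.ne'
  have horth : ∀ θ θ' : IrrCharacter G, ∑ v : G, (θ' : G → ℂ) v * conj ((θ : G → ℂ) v) =
      if θ = θ' then (Nat.card G : ℂ) else 0 := fun θ θ' => by
    have h : classInner (∑ ψ : IrrCharacter G, (if ψ = θ' then (1 : ℂ) else 0) • (ψ : G → ℂ))
        (θ : G → ℂ) = if θ = θ' then 1 else 0 := classInner_irrSum _ θ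
    simp only [ite_smul, one_smul, zero_smul, Finset.sum_ite_eq', Finset.mem_univ, if_true] at h
    rw [classInner_def, inv_mul_eq_iff_eq_mul₀ hG] at h
    rw [h, mul_ite, mul_one, mul_zero]
  rw [Finset.sum_eq_single θ]
  · rw [Finset.sum_congr rfl fun v _ => show (θ : G → ℂ) w * conj ((θ : G → ℂ) v) *
      ((θ : G → ℂ) v * conj ((θ : G → ℂ) w)) = ((θ : G → ℂ) w * conj ((θ : G → ℂ) w)) *
        ((θ : G → ℂ) v * conj ((θ : G → ℂ) v)) by ring, ← Finset.mul_sum, horth θ θ, if_pos rfl]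
    ring
  · intro θ' _ hne
    rw [Finset.sum_congr rfl fun v _ => show (θ' : G → ℂ) w * conj ((θ' : G → ℂ) v) *
      ((θ : G → ℂ) v * conj ((θ : G → ℂ) w)) = ((θ' : G → ℂ) w * conj ((θ : G → ℂ) w)) *
        ((θ : G → ℂ) v * conj ((θ' : G → ℂ) v)) by ring, ← Finset.mul_sum, horth θ' θ,
      if_neg hne, mul_zero]
  · exact fun h => absurd hθ h

/-- The contribution of a subsection as a sum over the regular elements. -/
theorem contribution_eq (hM : IsPModular p M) {x : G} {H : Subgroup G} [Fintype H]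
    {b : Set (IrrCharacter H)} [DecidablePred (· ∈ b)] (hb : IsPBlock M b) (χ : G → ℂ)
    (a a' : IrrCharacter H → ℂ) (f' : H → ℂ)
    (ha : ∀ θ ∈ b, classInner (fun c : H => χ (x * (c : G))) (θ : H → ℂ) = a θ)
    (hf' : ∀ w, f' w = ∑ θ ∈ Finset.univ.filter (· ∈ b), a' θ * (θ : H → ℂ) w) :
    ∑ θ ∈ Finset.univ.filter (· ∈ b), ∑ θ' ∈ Finset.univ.filter (· ∈ b),
      (regRed p b θ θ' : ℂ) * (a θ * conj (a' θ')) =
      (p : ℂ) ^ blockDefect p b * (Nat.card H : ℂ)⁻¹ *
        ∑ w ∈ Finset.univ.filter (fun v : H => ¬ p ∣ orderOf v),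
          blockPart b (fun c : H => χ (x * (c : G))) w * conj (f' w) := by
  classical
  have hfa : ∀ w, blockPart b (fun c : H => χ (x * (c : G))) w =
      ∑ θ ∈ Finset.univ.filter (· ∈ b), a θ * (θ : H → ℂ) w := fun w => by
    rw [blockPart_eq_sum]
    exact Finset.sum_congr rfl fun θ hθ => by rw [ha θ (Finset.mem_filter.1 hθ).2]
  simp only [hfa, hf', map_sum, Finset.sum_mul, Finset.mul_sum]
  rw [Finset.sum_comm (s := Finset.univ.filter (fun v : H => ¬ p ∣ orderOf v))]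
  conv_lhs => rw [Finset.sum_comm]
  refine Finset.sum_congr rfl fun θ' hθ' => ?_
  rw [Finset.sum_comm (s := Finset.univ.filter (fun v : H => ¬ p ∣ orderOf v))]
  refine Finset.sum_congr rfl fun θ _ => ?_
  rw [← pow_blockDefect_mul_classInner hM hb θ (Finset.mem_filter.1 hθ').2, classInner_def,
    Finset.mul_sum, Finset.mul_sum, Finset.sum_mul, Finset.sum_filter]
  refine Finset.sum_congr rfl fun w _ => ?_
  rw [pRegularPart_apply]
  split_ifs with hw
  · simp
  · rw [map_mul]; ring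

/-- The contributions of a section have square sum `p ^ (2 d) * l`. -/
theorem sum_norm_sq_contribution (hM : IsPModular p M) {x : G} {H : Subgroup G} [Fintype H]
    (hx : ∃ k : ℕ, orderOf x = p ^ k)
    (hH : H = Subgroup.centralizer (Subgroup.zpowers x : Set G))
    {b : Set (IrrCharacter H)} [DecidablePred (· ∈ b)] {B : Set (IrrCharacter G)}
    [DecidablePred (· ∈ B)] (hind : IsInducedBlock M H b B)
    (a : IrrCharacter G → IrrCharacter H → ℂ)
    (ha : ∀ χ : IrrCharacter G, ∀ θ ∈ b, classInner (fun c : H => (χ : G → ℂ) (x * (c : G))) (θ : H → ℂ) = a χ θ) :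
    ∑ χ ∈ Finset.univ.filter (· ∈ B), ∑ ψ ∈ Finset.univ.filter (· ∈ B),
      ‖∑ θ ∈ Finset.univ.filter (· ∈ b), ∑ θ' ∈ Finset.univ.filter (· ∈ b),
        (regRed p b θ θ' : ℂ) * (a χ θ * conj (a ψ θ'))‖ ^ 2 =
      ((p : ℝ) ^ blockDefect p b) ^ 2 * (blockRank p b : ℝ) := by
  classical
  have hb : IsPBlock M b := hind.1
  set R := Finset.univ.filter (fun v : H => ¬ p ∣ orderOf v) with hR
  set f : IrrCharacter G → H → ℂ := fun χ w =>
    blockPart b (fun c : H => (χ : G → ℂ) (x * (c : G))) w with hf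
  have hfa : ∀ χ w, f χ w = ∑ θ ∈ Finset.univ.filter (· ∈ b), a χ θ * (θ : H → ℂ) w := fun χ w => by
    rw [hf]
    show blockPart b _ w = _
    rw [blockPart_eq_sum]
    exact Finset.sum_congr rfl fun θ hθ => by rw [ha χ θ (Finset.mem_filter.1 hθ).2]
  set q : ℂ := (p : ℂ) ^ blockDefect p b * (Nat.card H : ℂ)⁻¹ with hq
  have hF : ∀ χ ψ, ∑ θ ∈ Finset.univ.filter (· ∈ b), ∑ θ' ∈ Finset.univ.filter (· ∈ b),
      (regRed p b θ θ' : ℂ) * (a χ θ * conj (a ψ θ')) =
      q * ∑ w ∈ R, f χ w * conj (f ψ w) := fun χ ψ =>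
    contribution_eq hM hb (χ : G → ℂ) (a χ) (a ψ) (f ψ) (ha χ) (hfa ψ)
  set S : ℝ := ∑ χ ∈ Finset.univ.filter (· ∈ B), ∑ ψ ∈ Finset.univ.filter (· ∈ B),
      ‖∑ θ ∈ Finset.univ.filter (· ∈ b), ∑ θ' ∈ Finset.univ.filter (· ∈ b),
        (regRed p b θ θ' : ℂ) * (a χ θ * conj (a ψ θ'))‖ ^ 2 with hS
  have hK : ∀ w ∈ R, ∀ v ∈ R, ∑ χ ∈ Finset.univ.filter (· ∈ B), f χ w * conj (f χ v) =
      colKer b w v := fun w hw v hv =>
    sum_blockPart_mul_conj_blockPart hM hx hH hind (Finset.mem_filter.1 hw).2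
      (Finset.mem_filter.1 hv).2
  have key : (S : ℂ) = q * conj q * ∑ w ∈ R, ∑ v ∈ R, colKer b w v * colKer b v w := by
    rw [Finset.sum_congr rfl fun w hw => Finset.sum_congr rfl fun v hv => by
      rw [← hK w hw v hv, ← hK v hv w hw], hS]
    push_cast
    simp only [← Complex.mul_conj', hF, map_mul, map_sum, Complex.conj_conj, Finset.sum_mul,
      Finset.mul_sum]
    conv_rhs => rw [Finset.sum_comm]
    rw [Finset.sum_congr rfl fun χ _ => Finset.sum_comm, Finset.sum_comm]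
    refine Finset.sum_congr rfl fun w _ => ?_
    rw [Finset.sum_congr rfl fun χ _ => Finset.sum_comm, Finset.sum_comm]
    refine Finset.sum_congr rfl fun v _ => ?_
    rw [Finset.sum_comm]
    exact Finset.sum_congr rfl fun ψ _ => Finset.sum_congr rfl fun χ _ => by ring
  rw [Finset.sum_congr rfl fun w hw => sum_colKer_mul_colKer hM hb (Finset.mem_filter.1 hw).2,
    ← Finset.mul_sum, sum_colKer_regular hM hb, hq, map_mul, map_pow, map_inv₀, map_natCast,
    map_natCast] at key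
  have hH0 : (Nat.card H : ℂ) ≠ 0 := Nat.cast_ne_zero.2 Nat.card_pos.ne'
  apply Complex.ofReal_injective
  rw [key]
  push_cast
  field_simp

end Cfsg.Lib.Blocks
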