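import Mathlib
import Cfsg.Agent.Blocks.SubsectionColumns

/-!
# Contributions of a major subsection and heights

For a `p`-element `x` with centraliser `H` and a block `b` of `H` inducing `B` with the same defect,
the contribution of `(x, b)` at a pair `(χ, ψ)` with `ψ` of height zero never vanishes, and it is
small exactly when `χ` has positive height.
-/

set_option autoImplicit false
set_option linter.unusedSectionVars false

namespace Cfsg.Lib.Blocks

open Cfsg.Lib.Chars
open scoped ComplexConjugate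

universe u

variable {G : Type u} [Group G] [Fintype G] {M : Ideal AlgInt} {p : ℕ}
  {x : G} {H : Subgroup G} [Fintype H]

/-- The coefficient of `θ` in `c ↦ χ (x c)`. -/
noncomputable def sectCoef (x : G) (χ : IrrCharacter G) (θ : IrrCharacter H) : ℂ :=
  classInner (fun c : H => (χ : G → ℂ) (x * (c : G))) (θ : H → ℂ)

/-- The contribution of `(x, b)` at a pair of characters. -/
noncomputable def contribution (p : ℕ) (x : G) (b : Set (IrrCharacter H))
    (χ ψ : IrrCharacter G) : ℂ := by
  classical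
  exact ∑ θ ∈ Finset.univ.filter (· ∈ b), ∑ θ' ∈ Finset.univ.filter (· ∈ b),
    (regRed p b θ θ' : ℂ) * (sectCoef x χ θ * conj (sectCoef x ψ θ'))

lemma contribution_def (b : Set (IrrCharacter H)) [DecidablePred (· ∈ b)] (χ ψ : IrrCharacter G) :
    contribution p x b χ ψ = ∑ θ ∈ Finset.univ.filter (· ∈ b), ∑ θ' ∈ Finset.univ.filter (· ∈ b),
      (regRed p b θ θ' : ℂ) * (sectCoef x χ θ * conj (sectCoef x ψ θ')) := by
  classical
  unfold contribution
  congr!

lemma exists_mult_restrict (H : Subgroup G) [Fintype H] (χ : IrrCharacter G) :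
    ∃ m : IrrCharacter H → ℕ, ∀ h : H,
      (χ : G → ℂ) h = ∑ η : IrrCharacter H, (m η : ℂ) * (η : H → ℂ) h := by
  obtain ⟨m, hm⟩ := IsCharacter.exists_decomp (IsCharacter.restrict (isCharacter_of_irr χ.2) H)
  refine ⟨m, fun h => ?_⟩
  have hh := congrFun hm h
  simp only [Finset.sum_apply, nsmul_eq_mul] at hh
  simpa using hh

/-- The multiplicities of a restriction. -/
noncomputable def resMult (H : Subgroup G) [Fintype H] (χ : IrrCharacter G) :
    IrrCharacter H → ℕ := (exists_mult_restrict H χ).choose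

lemma resMult_spec (χ : IrrCharacter G) (h : H) :
    (χ : G → ℂ) h = ∑ η : IrrCharacter H, (resMult H χ η : ℂ) * (η : H → ℂ) h :=
  (exists_mult_restrict H χ).choose_spec h

/-- The scalar by which `x` acts on `θ`. -/
noncomputable def centralValue (x : G) (θ : IrrCharacter H) : ℂ := by
  classical
  exact if h : x ∈ H then (θ : H → ℂ) ⟨x, h⟩ / (θ : H → ℂ) 1 else 1

section

variable (hH : H = Subgroup.centralizer (Subgroup.zpowers x : Set G))

include hH

lemma mem_of_eq_centralizer : x ∈ H := by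
  rw [hH, centralizer_zpowers, Subgroup.mem_centralizer_singleton_iff]

lemma mem_center_of_eq_centralizer (hx : x ∈ H) : (⟨x, hx⟩ : H) ∈ Subgroup.center H :=
  Subgroup.mem_center_iff.2 fun c => Subtype.ext (commute_of_mem_centralizer hH c.2).eq.symm

lemma centralValue_pow {n : ℕ} (hn : x ^ n = 1) (θ : IrrCharacter H) :
    centralValue x θ ^ n = 1 := by
  rw [centralValue, dif_pos (mem_of_eq_centralizer hH)]
  exact apply_central_root θ (mem_center_of_eq_centralizer hH _)
    (Subtype.ext (by simpa using hn))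

/-- The coefficients at powers of `x` are multiplicities times powers of roots of unity. -/
lemma sectCoef_pow (j : ℕ) (χ : IrrCharacter G) (θ : IrrCharacter H) :
    sectCoef (x ^ j) χ θ = (resMult H χ θ : ℂ) * centralValue x θ ^ j := by
  have hx := mem_of_eq_centralizer hH
  have hc := mem_center_of_eq_centralizer hH hx
  rw [sectCoef, show (fun c : H => (χ : G → ℂ) (x ^ j * (c : G))) = ∑ η : IrrCharacter H,
    ((resMult H χ η : ℂ) * centralValue x η ^ j) • (η : H → ℂ) from funext fun c => ?_,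
    classInner_irrSum]
  rw [Finset.sum_apply]
  refine (resMult_spec χ ((⟨x, hx⟩ : H) ^ j * c)).trans (Finset.sum_congr rfl fun η _ => ?_)
  rw [apply_mul_central η (Subgroup.pow_mem _ hc j), apply_central_pow η hc,
    Pi.smul_apply, smul_eq_mul, centralValue, dif_pos hx]
  ring

lemma sectCoef_eq (χ : IrrCharacter G) (θ : IrrCharacter H) :
    sectCoef x χ θ = (resMult H χ θ : ℂ) * centralValue x θ := by
  simpa using sectCoef_pow hH 1 χ θ

variable (hx : ∃ k : ℕ, orderOf x = p ^ k)

include hx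

lemma sectCoef_mem_place (hM : IsPModular p M) (χ : IrrCharacter G) (θ : IrrCharacter H) :
    sectCoef x χ θ ∈ place M ∧ res M (sectCoef x χ θ) = (resMult H χ θ : Res M) ∧
      conj (sectCoef x χ θ) ∈ place M ∧
        res M (conj (sectCoef x χ θ)) = (resMult H χ θ : Res M) ∧
          IsIntegral ℤ (sectCoef x χ θ) := by
  obtain ⟨k, hk⟩ := hx
  have h1 : centralValue x θ ^ p ^ k = 1 :=
    centralValue_pow hH (by rw [← hk, pow_orderOf_eq_one]) θ
  have h2 : conj (centralValue x θ) ^ p ^ k = 1 := by rw [← map_pow, h1, map_one]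
  have key : ∀ w : ℂ, w ^ p ^ k = 1 → w ∈ place M ∧ res M w = 1 ∧ IsIntegral ℤ w := fun w hw => by
    have hi := isIntegral_of_pow_eq_one (pow_pos hM.1.pos k) hw
    have hm := isIntegral_mem_place hM hi
    exact ⟨hm, by rw [← res_one (M := M), res_eq_iff hm (one_mem _)];
                  exact small_sub_one_of_ppow hM hw, hi⟩
  obtain ⟨a1, b1, c1⟩ := key _ h1
  obtain ⟨a2, b2, -⟩ := key _ h2
  rw [sectCoef_eq hH, map_mul, map_natCast]
  exact ⟨mul_mem (natCast_mem_place _) a1,
    by rw [res_mul (natCast_mem_place _) a1, b1, res_natCast, mul_one],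
    mul_mem (natCast_mem_place _) a2,
    by rw [res_mul (natCast_mem_place _) a2, b2, res_natCast, mul_one],
    (isIntegral_algebraMap (R := ℤ) (x := (resMult H χ θ : ℤ))).mul c1 |> fun h => by simpa using h⟩

omit hH hx in
lemma regRed_self_ne_zero (hM : IsPModular p M) {b : Set (IrrCharacter H)} (hb : IsPBlock M b)
    {θ₀ : IrrCharacter H} (h : θ₀ ∈ b) (h0 : blockHeight p b (θ₀ : H → ℂ) = 0) :
    (regRed p b θ₀ θ₀ : Res M) ≠ 0 := fun h' => by
  haveI := charP_res hM
  exact not_dvd_regRed_self hM hb h h0 ((CharP.intCast_eq_zero_iff (Res M) p _).1 h')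

/-- The residue of a contribution factors. -/
lemma res_contribution_mul (hM : IsPModular p M) {b : Set (IrrCharacter H)}
    [DecidablePred (· ∈ b)] (hb : IsPBlock M b) {θ₀ : IrrCharacter H} (hθ₀ : θ₀ ∈ b)
    (χ ψ : IrrCharacter G) :
    contribution p x b χ ψ ∈ place M ∧
    res M (contribution p x b χ ψ) * (regRed p b θ₀ θ₀ : Res M) =
      (∑ θ ∈ Finset.univ.filter (· ∈ b), (resMult H χ θ : Res M) * (regRed p b θ θ₀ : Res M)) *
        ∑ θ ∈ Finset.univ.filter (· ∈ b), (resMult H ψ θ : Res M) * (regRed p b θ θ₀ : Res M) := by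
  have hs := fun χ θ => sectCoef_mem_place hH hx hM χ θ
  have hm : ∀ θ θ', (regRed p b θ θ' : ℂ) * (sectCoef x χ θ * conj (sectCoef x ψ θ')) ∈ place M :=
    fun θ θ' => mul_mem (intCast_mem _ _) (mul_mem (hs χ θ).1 (hs ψ θ').2.2.1)
  rw [contribution_def]
  refine ⟨sum_mem fun θ _ => sum_mem fun θ' _ => hm θ θ', ?_⟩
  rw [res_sum _ _ fun θ _ => sum_mem fun θ' _ => hm θ θ', Finset.sum_mul, Finset.sum_mul_sum]
  refine Finset.sum_congr rfl fun θ hθ => ?_
  rw [res_sum _ _ fun θ' _ => hm θ θ', Finset.sum_mul]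
  refine Finset.sum_congr rfl fun θ' hθ' => ?_
  rw [res_mul (intCast_mem _ _) (mul_mem (hs χ θ).1 (hs ψ θ').2.2.1),
    res_mul (hs χ θ).1 (hs ψ θ').2.2.1, (hs χ θ).2.1, (hs ψ θ').2.2.2.1, res_intCast]
  linear_combination ((resMult H χ θ : Res M) * (resMult H ψ θ' : Res M)) *
    cast_regRed_mul hM hb hθ₀ (Finset.mem_filter.1 hθ).2 (Finset.mem_filter.1 hθ').2

lemma res_contribution_self_ne_zero (hM : IsPModular p M) {b : Set (IrrCharacter H)}
    {B : Set (IrrCharacter G)} (hind : IsInducedBlock M H b B) {ψ : IrrCharacter G} (hψ : ψ ∈ B)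
    (h0 : blockHeight p B (ψ : G → ℂ) = 0) : res M (contribution p x b ψ ψ) ≠ 0 := by
  classical
  obtain ⟨θ₀, hθ₀, hθ0⟩ := exists_height_zero hM hind.1
  intro h
  have hm := (res_contribution_mul hH hx hM hind.1 hθ₀ ψ ψ).2
  rw [h, zero_mul] at hm
  have hN := cast_sum_regRed_ne_zero hM H hind hψ h0 hθ₀ hθ0 (resMult_spec ψ)
  exact mul_ne_zero hN hN hm.symm

/-- A class function of `H` supported on `x` times the regular elements induces to a function
with the same values. -/
lemma indFun_section_value (hp : p.Prime) (α : H → ℂ) (hα : IsClassFunction H α)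
    (hsupp : ∀ h : H, α h ≠ 0 → ∃ w : H, ¬ p ∣ orderOf w ∧ x * (w : G) = (h : G)) (g : G) :
    indFun H α g = 0 ∨ ∃ h, indFun H α g = α h := by
  classical
  rw [indFun_apply]
  by_cases hall : ∀ t : G, extendByZero H α (t⁻¹ * g * t) = 0
  · exact Or.inl (by simp [hall])
  push Not at hall
  obtain ⟨t₀, ht₀⟩ := hall
  have hmem₀ : t₀⁻¹ * g * t₀ ∈ H := by
    by_contra hn; exact ht₀ (extendByZero_not_mem α hn)
  refine Or.inr ⟨⟨_, hmem₀⟩, ?_⟩
  have hval₀ : extendByZero H α (t₀⁻¹ * g * t₀) = α ⟨_, hmem₀⟩ := extendByZero_mem α hmem₀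
  have hxx : ∀ h : H, α h ≠ 0 → IsPPart p (h : G) x := fun h hh => by
    obtain ⟨w, hw, hwh⟩ := hsupp h hh
    rw [← hwh]
    exact isPPart_mul (commute_of_mem_centralizer hH w.2) hx (by rwa [Subgroup.orderOf_coe])
  have hkey : ∀ t : G, extendByZero H α (t⁻¹ * g * t) =
      if t₀⁻¹ * t ∈ H then α ⟨_, hmem₀⟩ else 0 := fun t => by
    split_ifs with ht
    · set c : H := ⟨_, ht⟩
      have hmem : t⁻¹ * g * t ∈ H := by
        have := H.mul_mem (H.mul_mem (H.inv_mem ht) hmem₀) ht
        convert this using 1; group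
      rw [show extendByZero H α (t⁻¹ * g * t) = α ⟨_, hmem⟩ from extendByZero_mem α hmem,
        ← hα ⟨_, hmem₀⟩ c⁻¹]
      congr 1
      apply Subtype.ext
      simp only [Subgroup.coe_mul, Subgroup.coe_inv, inv_inv, c]
      group
    · by_contra hne
      have hmem : t⁻¹ * g * t ∈ H := by
        by_contra hn; exact hne (extendByZero_not_mem α hn)
      have h1 := hxx ⟨_, hmem⟩ (by rw [← extendByZero_mem α hmem]; exact hne)
      have h0 := hxx ⟨_, hmem₀⟩ (by rw [← hval₀]; exact ht₀)
      have h2 := IsPPart.conj h1 (t₀⁻¹ * t)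
      rw [show (t₀⁻¹ * t) * (t⁻¹ * g * t) * (t₀⁻¹ * t)⁻¹ = t₀⁻¹ * g * t₀ by group] at h2
      have h3 := IsPPart.eq hp h2 h0
      have h4 : (t₀⁻¹ * t) * x = x * (t₀⁻¹ * t) := by
        conv_rhs => rw [← h3]
        group
      refine ht ?_
      rw [hH, centralizer_zpowers, Subgroup.mem_centralizer_singleton_iff]
      exact h4
  rw [Finset.sum_congr rfl fun t _ => hkey t, ← Finset.sum_filter, Finset.sum_const, nsmul_eq_mul]
  have hcard : ((Finset.univ.filter fun t : G => t₀⁻¹ * t ∈ H).card : ℂ) = (Nat.card H : ℂ) := by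
    rw [← Fintype.card_subtype]
    rw [← Nat.card_eq_fintype_card]
    exact congrArg Nat.cast (Nat.card_congr
      (Equiv.subtypeEquiv (Equiv.mulLeft t₀⁻¹) fun a => Iff.rfl))
  rw [hcard, inv_mul_cancel_left₀ (Nat.cast_ne_zero.2 Nat.card_pos.ne')]

/-- The contribution as a central character. -/
theorem exists_centralElem_contribution (hM : IsPModular p M) {b : Set (IrrCharacter H)}
    {B : Set (IrrCharacter G)} (hind : IsInducedBlock M H b B)
    (hdef : blockDefect p b = blockDefect p B) (ψ : IrrCharacter G) :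
    ∃ a : MonoidAlgebra ℂ G, IsCentralFn a ∧ Integral M a ∧ (∀ g, IsIntegral ℤ (fn a g)) ∧
      ∀ χ ∈ B,
      ((Nat.card G / p ^ (Nat.card G).factorization p : ℕ) : ℂ) * contribution p x b χ ψ =
        omega ((χ : IrrCharacter G) : G → ℂ) a * (degRed p B χ : ℂ) := by
  classical
  have hxH := mem_of_eq_centralizer hH
  set x' : H := ⟨x, hxH⟩ with hx'
  have hc := mem_center_of_eq_centralizer hH hxH
  set f : H → ℂ := fun w => blockPart b (fun c : H => (ψ : G → ℂ) (x * (c : G))) w with hf
  have hfs : ∀ w, f w = ∑ θ ∈ Finset.univ.filter (· ∈ b), sectCoef x ψ θ * (θ : H → ℂ) w :=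
    fun w => blockPart_eq_sum b _ w
  set α : H → ℂ := fun h => if p ∣ orderOf (x'⁻¹ * h) then 0 else f (x'⁻¹ * h) with hα
  have hαc : IsClassFunction H α := fun h k => by
    have hcomm : x'⁻¹ * (k * h * k⁻¹) = k * (x'⁻¹ * h) * k⁻¹ := by
      have := Subgroup.mem_center_iff.1 (Subgroup.inv_mem _ hc) k
      simp only [hx'] at this ⊢
      rw [← mul_assoc, ← mul_assoc, ← this]
      group
    have : orderOf (k * (x'⁻¹ * h) * k⁻¹) = orderOf (x'⁻¹ * h) :=
      orderOf_injective (MulAut.conj k).toMonoidHom (MulAut.conj k).injective _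
    simp only [hα, hcomm, this, hfs]
    split_ifs
    · rfl
    · exact Finset.sum_congr rfl fun θ _ => by rw [isClassFunction_irr θ _ k]
  have hsupp : ∀ h : H, α h ≠ 0 → ∃ w : H, ¬ p ∣ orderOf w ∧ x * (w : G) = (h : G) := fun h hh => by
    refine ⟨x'⁻¹ * h, fun hd => hh (by simp [hα, hd]), ?_⟩
    simp [hx']
  have hfint : ∀ w, IsIntegral ℤ (f w) := fun w => by
    rw [hfs]
    exact IsIntegral.sum _ fun θ _ => (sectCoef_mem_place hH hx hM ψ θ).2.2.2.2.mul
      (IsCharacter.isIntegral (isCharacter_of_irr θ.2) w)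
  have hαint : ∀ h, IsIntegral ℤ (α h) := fun h => by
    simp only [hα]; split_ifs
    · exact isIntegral_zero
    · exact hfint _
  have hηint : ∀ g, IsIntegral ℤ (conj (indFun H α g)) := fun g => by
    rcases indFun_section_value hH hx hM.1 α hαc hsupp g with h | ⟨h', h⟩
    · rw [h, map_zero]; exact isIntegral_zero
    · rw [h]
      exact (hαint h').map ((starRingEnd ℂ).toIntAlgHom)
  refine ⟨ofFn fun g => conj (indFun H α g), isCentralFn_ofFn fun g h => by
    rw [isClassFunction_indFun H α g h], fun g => by rw [fn_ofFn]; exact isIntegral_mem_place hM (hηint g),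
    fun g => by rw [fn_ofFn]; exact hηint g, fun χ hχ => ?_⟩
  have hG : (Nat.card G : ℂ) ≠ 0 := Nat.cast_ne_zero.2 Nat.card_pos.ne'
  have h1 : chiEval (χ : G → ℂ) (ofFn fun g => conj (indFun H α g)) =
      (Nat.card G : ℂ) * ((Nat.card H : ℂ)⁻¹ *
        ∑ w ∈ Finset.univ.filter (fun v : H => ¬ p ∣ orderOf v),
          blockPart b (fun c : H => (χ : G → ℂ) (x * (c : G))) w * conj (f w)) := by
    have h := frobenius_reciprocity' H α (isClassFunction_irr χ)
    rw [classInner_def, classInner_def, inv_mul_eq_iff_eq_mul₀ hG] at h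
    rw [chiEval]
    refine (Finset.sum_congr rfl fun g _ => by rw [fn_ofFn, mul_comm]).trans (h.trans ?_)
    congr 2
    rw [← Equiv.sum_comp (Equiv.mulLeft x')]
    simp only [Equiv.coe_mulLeft, Subgroup.coe_mul, hα, inv_mul_cancel_left, hx']
    rw [Finset.sum_congr rfl fun (w : H) _ => show (χ : G → ℂ) (x * (w : G)) *
      conj (if p ∣ orderOf w then 0 else f w) =
        if ¬ p ∣ orderOf w then (χ : G → ℂ) (x * (w : G)) * conj (f w) else 0 by
          split_ifs <;> simp, ← Finset.sum_filter]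
    simp only [hfs, map_sum, map_mul, Finset.mul_sum]
    rw [Finset.sum_comm]
    conv_rhs => rw [Finset.sum_comm]
    refine Finset.sum_congr rfl fun θ hθ => ?_
    simp only [mul_left_comm _ (conj (sectCoef x ψ θ)), ← Finset.mul_sum]
    congr 1
    exact (sum_regular_blockPart hM hind.1 _ (Finset.mem_filter.1 hθ).2).symm
  have h2 := contribution_eq hM hind.1 (x := x) (χ : G → ℂ) (sectCoef x χ) (sectCoef x ψ) f
    (fun θ _ => rfl) hfs
  rw [← contribution_def b] at h2
  have h3 : (p : ℂ) ^ (Nat.card G).factorization p *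
      ((Nat.card G / p ^ (Nat.card G).factorization p : ℕ) : ℂ) = (Nat.card G : ℂ) := by
    rw [← Nat.cast_pow, ← Nat.cast_mul, Nat.mul_div_cancel' (Nat.ordProj_dvd _ _)]
  have hD := congrArg (fun z : ℕ => (z : ℂ)) (pow_mul_degRed hM hind.2.1 hχ)
  push_cast at hD
  rw [omega, h1, irr_apply_one_eq_deg, h2, hdef, ← h3, ← blockDefect_add_minExp hM hind.2.1,
    pow_add, ← hD]
  have hp0 : (p : ℂ) ≠ 0 := Nat.cast_ne_zero.2 hM.1.ne_zero
  have hD0 : (degRed p B χ : ℂ) ≠ 0 := fun h => by
    rw [h, mul_zero] at hD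
    exact (deg_irr_pos χ).ne' (by exact_mod_cast hD.symm)
  field_simp
  rw [pow_add]
  ring

/-- Contributions against a height zero character. -/
theorem contribution_height (hM : IsPModular p M) {b : Set (IrrCharacter H)}
    {B : Set (IrrCharacter G)} (hind : IsInducedBlock M H b B)
    (hdef : blockDefect p b = blockDefect p B) {χ ψ : IrrCharacter G} (hχ : χ ∈ B) (hψ : ψ ∈ B)
    (h0 : blockHeight p B (ψ : G → ℂ) = 0) :
    contribution p x b χ ψ ≠ 0 ∧
      (blockHeight p B (χ : G → ℂ) ≠ 0 → res M (contribution p x b χ χ) = 0) := by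
  classical
  obtain ⟨θ₀, hθ₀, -⟩ := exists_height_zero hM hind.1
  set n := Nat.card G / p ^ (Nat.card G).factorization p with hn
  have hn0 : (n : ℂ) ≠ 0 := (isUnitAt_pPrime hM).ne_zero
  have hnres : (n : Res M) ≠ 0 := fun h => by
    exact Nat.not_dvd_ordCompl hM.1 Nat.card_pos.ne' ((res_natCast_eq_zero_iff hM _).1 h)
  refine ⟨fun hz => ?_, fun hpos => ?_⟩
  · obtain ⟨a, hac, hai, -, ha⟩ := exists_centralElem_contribution hH hx hM hind hdef ψ
    have h := ha ψ hψ
    have hu := res_contribution_self_ne_zero hH hx hM hind hψ h0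
    have hmem := (res_contribution_mul hH hx hM hind.1 hθ₀ ψ ψ).1
    have h' := congrArg (res M) h
    rw [← hn, res_mul (natCast_mem_place _) hmem, res_natCast,
      res_mul (omega_mem_place hM ψ hac hai) (natCast_mem_place _)] at h'
    have hw : res M (omega (ψ : G → ℂ) a) ≠ 0 := fun h'' => by
      rw [h'', zero_mul] at h'
      exact mul_ne_zero hnres hu h'
    rw [← res_omega_eq_of_sameBlock hM (IsPBlock.sameBlock hM hind.2.1 hχ hψ) hac hai] at hw
    have hc := ha χ hχ
    rw [hz, mul_zero, eq_comm, mul_eq_zero] at hc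
    rcases hc with hc | hc
    · exact hw (by rw [hc, res_zero])
    · have hD := pow_mul_degRed hM hind.2.1 hχ
      rw [Nat.cast_eq_zero.1 hc, mul_zero] at hD
      exact (deg_irr_pos χ).ne' hD.symm
  · obtain ⟨a, hac, hai, -, ha⟩ := exists_centralElem_contribution hH hx hM hind hdef χ
    have h := congrArg (res M) (ha χ hχ)
    have hD : p ∣ degRed p B χ := by
      by_contra hD
      refine hpos ?_
      have he := congrArg (fun z => z.factorization p) (pow_mul_degRed hM hind.2.1 hχ)
      have hne : degRed p B χ ≠ 0 := fun h => hD (by rw [h]; exact dvd_zero _)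
      beta_reduce at he
      rw [Nat.factorization_mul (pow_ne_zero _ hM.1.ne_zero) hne, Finsupp.add_apply,
        Nat.factorization_pow, Finsupp.smul_apply, hM.1.factorization_self,
        Nat.factorization_eq_zero_of_not_dvd hD, smul_eq_mul, mul_one, add_zero] at he
      rw [blockHeight, Nat.sub_eq_zero_iff_le]
      exact le_of_eq he.symm
    rw [← hn, res_mul (natCast_mem_place _) (res_contribution_mul hH hx hM hind.1 hθ₀ χ χ).1,
      res_natCast, res_mul (omega_mem_place hM χ hac hai) (natCast_mem_place _), res_natCast,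
      (res_natCast_eq_zero_iff hM _).2 hD, mul_zero] at h
    exact (mul_eq_zero.1 h).resolve_left hnres

end

end Cfsg.Lib.Blocks
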