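import Mathlib

/-!
# Integral symmetric matrices of small rank with `C ^ 2 = N C`
-/

set_option autoImplicit false

namespace Cfsg.Lib.Blocks

open Module

variable {ι : Type*} [Fintype ι]

/-- Coordinates of the row lattice of an integral symmetric matrix. -/
lemma exists_row_coords (c : ι → ι → ℤ) (N : ℤ) (hsymm : ∀ θ θ', c θ θ' = c θ' θ)
    (hsq : ∀ θ θ', ∑ ψ, c θ ψ * c ψ θ' = N * c θ θ') (r : ℕ)
    (hrank : ∀ (k : ℕ) (R : Fin k → ι → ℤ), LinearIndependent ℤ R →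
      (∀ i, R i ∈ Submodule.span ℤ (Set.range c)) → k ≤ r) :
    ∃ (n : ℕ) (u s : Fin n → ι → ℤ) (P : Fin n → Fin n → ℤ), n ≤ r ∧
      (∀ i j, ∑ θ, s i θ * u j θ = if i = j then 1 else 0) ∧
      (∀ i θ, ∑ ψ, c θ ψ * u i ψ = N * u i θ) ∧ (∀ i j, P i j = P j i) ∧
      ∀ θ θ', c θ θ' = ∑ i, ∑ j, P i j * (u i θ * u j θ') := by
  classical
  set L := Submodule.span ℤ (Set.range c) with hL
  obtain ⟨n, bs⟩ := Submodule.basisOfPid (Pi.basisFun ℤ ι) L
  set R : Fin n → ι → ℤ := fun i => (bs i : ι → ℤ) with hR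
  have hind : LinearIndependent ℤ R := bs.linearIndependent.map' L.subtype (Submodule.ker_subtype L)
  have huniq : ∀ f g : Fin n → ℤ, ∑ i, f i • R i = ∑ i, g i • R i → f = g := fun f g h => by
    funext i
    have := Fintype.linearIndependent_iff.1 hind (f - g)
      (by simp only [Pi.sub_apply, sub_smul, Finset.sum_sub_distrib, h, sub_self]) i
    simpa [sub_eq_zero] using this
  set u : Fin n → ι → ℤ := fun i θ => bs.repr ⟨c θ, Submodule.subset_span ⟨θ, rfl⟩⟩ i with hu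
  have hrow : ∀ θ, c θ = ∑ i, u i θ • R i := fun θ => by
    have h := congrArg L.subtype (bs.sum_repr ⟨c θ, Submodule.subset_span ⟨θ, rfl⟩⟩)
    simp only [map_sum, map_smul, Submodule.subtype_apply] at h
    exact h.symm
  have hex : ∀ i, ∃ s : ι → ℤ, ∑ θ, s θ • c θ = R i := fun i =>
    (Submodule.mem_span_range_iff_exists_fun ℤ).1 (bs i).2
  choose s hs using hex
  set P : Fin n → Fin n → ℤ := fun i j => ∑ ψ, s i ψ * R j ψ with hP
  refine ⟨n, u, s, P, hrank n R hind (fun i => (bs i).2), fun i j => ?_, fun i θ => ?_,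
    fun i j => ?_, fun θ θ' => ?_⟩
  · have h : ∑ j, (∑ θ, s i θ * u j θ) • R j = ∑ j, (if i = j then (1 : ℤ) else 0) • R j := by
      simp only [ite_smul, one_smul, zero_smul, Finset.sum_ite_eq, Finset.mem_univ, if_true]
      conv_rhs => rw [← hs i, Finset.sum_congr rfl fun θ _ => by rw [hrow θ]]
      simp only [Finset.sum_smul, Finset.smul_sum, smul_smul]
      exact Finset.sum_comm
    exact congrFun (huniq _ _ h) j
  · have h : ∑ i, (∑ ψ, c θ ψ * u i ψ) • R i = ∑ i, (N * u i θ) • R i := by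
      calc ∑ i, (∑ ψ, c θ ψ * u i ψ) • R i = ∑ ψ, c θ ψ • c ψ := by
            conv_rhs => rw [Finset.sum_congr rfl fun ψ _ => congrArg (c θ ψ • ·) (hrow ψ)]
            simp only [Finset.sum_smul, Finset.smul_sum, smul_smul]
            exact Finset.sum_comm
        _ = N • c θ := funext fun θ' => by
            simp only [Finset.sum_apply, Pi.smul_apply, smul_eq_mul, hsq]
        _ = _ := by rw [hrow θ, Finset.smul_sum]; simp only [smul_smul]
    exact congrFun (huniq _ _ h) i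
  · have h : ∀ i j, P i j = ∑ ψ, ∑ ψ', s i ψ * (s j ψ' * c ψ' ψ) := fun i j => by
      rw [hP]
      refine Finset.sum_congr rfl fun ψ _ => ?_
      rw [← hs j, Finset.sum_apply, Finset.mul_sum]
      rfl
    rw [h, h, Finset.sum_comm]
    exact Finset.sum_congr rfl fun ψ _ => Finset.sum_congr rfl fun ψ' _ => by
      rw [hsymm ψ' ψ]; ring
  · conv_lhs => rw [hrow θ]
    simp only [Finset.sum_apply, Pi.smul_apply, smul_eq_mul]
    refine Finset.sum_congr rfl fun i _ => ?_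
    calc u i θ * R i θ' = u i θ * ∑ ψ, s i ψ * c θ' ψ := by
          rw [← hs i, Finset.sum_apply]
          exact congrArg _ (Finset.sum_congr rfl fun ψ _ => by
            rw [Pi.smul_apply, smul_eq_mul, hsymm ψ θ'])
      _ = _ := by
          rw [hrow θ']
          simp only [hP, Finset.sum_apply, Pi.smul_apply, smul_eq_mul, Finset.mul_sum, Finset.sum_mul]
          rw [Finset.sum_comm]
          exact Finset.sum_congr rfl fun j _ => Finset.sum_congr rfl fun ψ _ => by ring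

/-- A pair of coordinate functions for a symmetric matrix of rank two. -/
def CoordPair (c : ι → ι → ℤ) (N : ℤ) (u v : ι → ℤ) : Prop :=
  (∃ s t : ι → ℤ, ∑ θ, s θ * u θ = 1 ∧ ∑ θ, s θ * v θ = 0 ∧ ∑ θ, t θ * u θ = 0 ∧
      ∑ θ, t θ * v θ = 1) ∧
    (∀ θ, ∑ ψ, c θ ψ * u ψ = N * u θ) ∧ (∀ θ, ∑ ψ, c θ ψ * v ψ = N * v θ) ∧
    ∃ P Q R : ℤ, ∀ θ θ', c θ θ' =
      P * (u θ * u θ') + Q * (u θ * v θ' + v θ * u θ') + R * (v θ * v θ')

variable {c : ι → ι → ℤ} {N : ℤ} {u v : ι → ℤ}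

lemma CoordPair.swap (h : CoordPair c N u v) : CoordPair c N v u := by
  obtain ⟨⟨s, t, h1, h2, h3, h4⟩, hu, hv, P, Q, R, hc⟩ := h
  exact ⟨⟨t, s, h4, h3, h2, h1⟩, hv, hu, R, Q, P, fun θ θ' => by rw [hc]; ring⟩

lemma CoordPair.neg (h : CoordPair c N u v) : CoordPair c N u (fun θ => -v θ) := by
  obtain ⟨⟨s, t, h1, h2, h3, h4⟩, hu, hv, P, Q, R, hc⟩ := h
  refine ⟨⟨s, fun θ => -t θ, h1, by simp [h2], by simp [h3], by simp [h4]⟩, hu,
    fun θ => by simp [hv θ], P, -Q, R, fun θ θ' => by rw [hc]; ring⟩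

lemma CoordPair.add_mul (h : CoordPair c N u v) (k : ℤ) :
    CoordPair c N u (fun θ => v θ + k * u θ) := by
  obtain ⟨⟨s, t, h1, h2, h3, h4⟩, hu, hv, P, Q, R, hc⟩ := h
  refine ⟨⟨fun θ => s θ - k * t θ, t, ?_, ?_, h3, ?_⟩, hu, fun θ => ?_,
    P - 2 * k * Q + k ^ 2 * R, Q - k * R, R, fun θ θ' => by rw [hc]; ring⟩
  · simp only [sub_mul, Finset.sum_sub_distrib, mul_assoc, ← Finset.mul_sum, h1, h3]; ring
  · simp only [sub_mul, mul_add, mul_assoc, Finset.sum_sub_distrib, Finset.sum_add_distrib,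
      mul_left_comm _ k, ← Finset.mul_sum, h1, h2, h3, h4]; ring
  · simp only [mul_add, Finset.sum_add_distrib, mul_left_comm _ k, ← Finset.mul_sum, h3, h4]; ring
  · simp only [mul_add, Finset.sum_add_distrib, mul_left_comm _ k, ← Finset.mul_sum, hu, hv]

/-- A reduced pair of coordinates. -/
lemma CoordPair.exists_reduced (h : CoordPair c N u v) :
    ∃ u' v', CoordPair c N u' v' ∧ 0 ≤ ∑ θ, u' θ * v' θ ∧
      2 * ∑ θ, u' θ * v' θ ≤ ∑ θ, u' θ * u' θ ∧ ∑ θ, u' θ * u' θ ≤ ∑ θ, v' θ * v' θ := by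
  classical
  set size : (ι → ℤ) → (ι → ℤ) → ℕ := fun a b =>
    (∑ θ, a θ * a θ + ∑ θ, b θ * b θ).toNat with hsize
  have hex : ∃ n, ∃ a b, CoordPair c N a b ∧ size a b = n := ⟨_, u, v, h, rfl⟩
  obtain ⟨a, b, hab, hn⟩ := Nat.find_spec hex
  have hmin : ∀ a' b', CoordPair c N a' b' → size a b ≤ size a' b' := fun a' b' h' =>
    hn ▸ Nat.find_min' hex ⟨a', b', h', rfl⟩
  have hnn : ∀ w : ι → ℤ, 0 ≤ ∑ θ, w θ * w θ := fun w =>
    Finset.sum_nonneg fun θ _ => mul_self_nonneg _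
  have key : ∀ a b, CoordPair c N a b →
      (∀ a' b', CoordPair c N a' b' → size a b ≤ size a' b') → ∀ k : ℤ,
        ∑ θ, b θ * b θ ≤ ∑ θ, b θ * b θ + 2 * k * ∑ θ, a θ * b θ + k ^ 2 * ∑ θ, a θ * a θ := by
    intro a b hab hmin k
    have h1 := hmin _ _ (hab.add_mul k)
    have e : ∑ θ, (b θ + k * a θ) * (b θ + k * a θ) =
        ∑ θ, b θ * b θ + 2 * k * ∑ θ, a θ * b θ + k ^ 2 * ∑ θ, a θ * a θ := by
      simp only [Finset.mul_sum, ← Finset.sum_add_distrib]
      exact Finset.sum_congr rfl fun θ _ => by ring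
    simp only [hsize, e] at h1
    have h2 := hnn (fun θ => b θ + k * a θ)
    rw [e] at h2
    have := hnn a; have := hnn b
    omega
  -- order the pair
  obtain ⟨a, b, hab, hmin, hle⟩ : ∃ a b, CoordPair c N a b ∧
      (∀ a' b', CoordPair c N a' b' → size a b ≤ size a' b') ∧
        ∑ θ, a θ * a θ ≤ ∑ θ, b θ * b θ := by
    rcases le_total (∑ θ, a θ * a θ) (∑ θ, b θ * b θ) with h' | h'
    · exact ⟨a, b, hab, hmin, h'⟩
    · exact ⟨b, a, hab.swap, fun a' b' h'' => by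
        have := hmin a' b' h''
        simp only [hsize] at this ⊢
        omega, h'⟩
  have hp := key a b hab hmin 1
  have hm := key a b hab hmin (-1)
  rcases le_total 0 (∑ θ, a θ * b θ) with h0 | h0
  · exact ⟨a, b, hab, h0, by linarith, hle⟩
  · refine ⟨a, fun θ => -b θ, hab.neg, ?_, ?_, ?_⟩
    · simp only [mul_neg, Finset.sum_neg_distrib]; linarith
    · simp only [mul_neg, Finset.sum_neg_distrib]; linarith
    · simpa using hle

/-- The arithmetic of a reduced pair: either `A + B - C ≤ p ^ d`, or the matrix splits. -/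
theorem CoordPair.reduced_cases {p d : ℕ} (hp : p.Prime) (h : CoordPair c ((p : ℤ) ^ d) u v)
    {θ₀ : ι} (h00 : ¬ (p : ℤ) ∣ c θ₀ θ₀)
    (hres : ∀ θ θ', (p : ℤ) ∣ c θ θ' * c θ₀ θ₀ - c θ θ₀ * c θ' θ₀)
    (hC : 0 ≤ ∑ θ, u θ * v θ) (hAC : 2 * ∑ θ, u θ * v θ ≤ ∑ θ, u θ * u θ)
    (hAB : ∑ θ, u θ * u θ ≤ ∑ θ, v θ * v θ) :
    ∑ θ, u θ * u θ + ∑ θ, v θ * v θ - ∑ θ, u θ * v θ ≤ (p : ℤ) ^ d ∨
      (2 * ∑ θ, u θ * u θ ≤ (p : ℤ) ^ d ∧ ∑ θ, v θ * v θ = (p : ℤ) ^ d ∧
        ∃ P : ℤ, ∀ θ θ', c θ θ' = P * (u θ * u θ') + v θ * v θ') := by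
  obtain ⟨⟨s, t, h1, h2, h3, h4⟩, hu, hv, P, Q, R, hc⟩ := h
  set A := ∑ θ, u θ * u θ with hA
  set B := ∑ θ, v θ * v θ with hB
  set C := ∑ θ, u θ * v θ with hCdef
  set N := (p : ℤ) ^ d with hN
  have hNpos : 0 < N := pow_pos (by exact_mod_cast hp.pos) _
  have hsum : ∀ (w f g : ι → ℤ) (x y : ℤ),
      ∑ θ, w θ * (x * f θ + y * g θ) = x * ∑ θ, w θ * f θ + y * ∑ θ, w θ * g θ := fun w f g x y => by
    simp only [Finset.mul_sum, ← Finset.sum_add_distrib]
    exact Finset.sum_congr rfl fun θ _ => by ring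
  have eu : ∀ θ, N * u θ = (P * A + Q * C) * u θ + (Q * A + R * C) * v θ := fun θ => by
    rw [← hu θ, hA, hCdef]
    simp only [hc, Finset.mul_sum, ← Finset.sum_add_distrib, Finset.sum_mul]
    exact Finset.sum_congr rfl fun ψ _ => by ring
  have ev : ∀ θ, N * v θ = (P * C + Q * B) * u θ + (Q * C + R * B) * v θ := fun θ => by
    rw [← hv θ, hB, hCdef]
    simp only [hc, Finset.mul_sum, ← Finset.sum_add_distrib, Finset.sum_mul]
    exact Finset.sum_congr rfl fun ψ _ => by ring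
  have pair : ∀ (w f : ι → ℤ) (x y : ℤ), (∀ θ, N * f θ = x * u θ + y * v θ) →
      N * ∑ θ, w θ * f θ = x * ∑ θ, w θ * u θ + y * ∑ θ, w θ * v θ := fun w f x y hf => by
    rw [← hsum, Finset.mul_sum]
    exact Finset.sum_congr rfl fun θ _ => by rw [← hf θ]; ring
  have e1 := pair s u _ _ eu
  have e2 := pair t u _ _ eu
  have e3 := pair s v _ _ ev
  have e4 := pair t v _ _ ev
  rw [h1, h2] at e1; rw [h3, h4] at e2; rw [h1, h2] at e3; rw [h3, h4] at e4
  set D := P * R - Q ^ 2 with hD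
  have eA : A * D = N * R := by linear_combination -R * e1 + Q * e2
  have eB : B * D = N * P := by linear_combination -P * e4 + Q * e3
  have eC : C * D = -(N * Q) := by linear_combination Q * e1 - P * e2
  have eDet : D * (A * B - C ^ 2) = N ^ 2 := by
    have : D * (D * (A * B - C ^ 2)) = D * N ^ 2 := by
      linear_combination B * D * eA + N * R * eB - (C * D - N * Q) * eC
    rcases eq_or_ne D 0 with h0 | h0
    · exfalso
      rw [h0, mul_zero] at eA eB eC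
      have hR0 : R = 0 := by
        rcases mul_eq_zero.1 eA.symm with h | h <;> linarith
      have hP0 : P = 0 := by
        rcases mul_eq_zero.1 eB.symm with h | h <;> linarith
      have hQ0 : Q = 0 := by
        rcases mul_eq_zero.1 (neg_eq_zero.1 eC.symm) with h | h <;> linarith
      rw [hP0, hQ0] at e1
      simp at e1
      omega
    · exact mul_left_cancel₀ h0 this
  have hCS : C ^ 2 ≤ A * B := by
    simp only [hA, hB, hCdef, ← sq]
    exact Finset.sum_mul_sq_le_sq_mul_sq Finset.univ u v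
  have hAB0 : 0 < A * B - C ^ 2 := by
    refine lt_of_le_of_ne (by linarith) fun h0 => ?_
    rw [← h0, mul_zero] at eDet
    exact pow_ne_zero 2 hNpos.ne' eDet.symm
  have hDpos : 0 < D := pos_of_mul_pos_left (eDet ▸ pow_pos hNpos 2) hAB0.le
  obtain ⟨f, hf, hfe⟩ : ∃ f, f ≤ 2 * d ∧ D.natAbs = p ^ f := (Nat.dvd_prime_pow hp).1 (by
    have h := Int.natAbs_dvd_natAbs.2 (Dvd.intro _ eDet)
    rw [Int.natAbs_pow, hN, Int.natAbs_pow, ← pow_mul, Int.natAbs_natCast, mul_comm] at h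
    exact h)
  have hDe : D = (p : ℤ) ^ f := by
    rw [← Int.natAbs_of_nonneg hDpos.le, hfe]; push_cast; rfl
  -- the residual rank is one
  have hpD : (p : ℤ) ∣ D := by
    haveI := Fact.mk hp
    rw [← ZMod.intCast_zmod_eq_zero_iff_dvd]
    have hr : ∀ θ θ', ((c θ θ' : ZMod p)) * (c θ₀ θ₀ : ZMod p) =
        (c θ θ₀ : ZMod p) * (c θ' θ₀ : ZMod p) := fun θ θ' => by
      have := (ZMod.intCast_zmod_eq_zero_iff_dvd _ p).2 (hres θ θ')
      push_cast at this
      exact sub_eq_zero.1 this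
    have h0 : (c θ₀ θ₀ : ZMod p) ≠ 0 := fun h => h00 ((ZMod.intCast_zmod_eq_zero_iff_dvd _ p).1 h)
    have hbil : ∀ w w' : ι → ℤ, ((∑ θ, ∑ θ', w θ * w' θ' * c θ θ' : ℤ) : ZMod p) *
        (c θ₀ θ₀ : ZMod p) = (∑ θ, (w θ : ZMod p) * (c θ θ₀ : ZMod p)) *
          ∑ θ, (w' θ : ZMod p) * (c θ θ₀ : ZMod p) := fun w w' => by
      push_cast
      simp only [Finset.sum_mul, Finset.mul_sum]
      conv_rhs => rw [Finset.sum_comm]
      refine Finset.sum_congr rfl fun θ _ => Finset.sum_congr rfl fun θ' _ => ?_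
      linear_combination (w θ : ZMod p) * (w' θ' : ZMod p) * hr θ θ'
    have hev : ∀ w w' : ι → ℤ, ∑ θ, ∑ θ', w θ * w' θ' * c θ θ' =
        P * ((∑ θ, w θ * u θ) * ∑ θ, w' θ * u θ) + Q * ((∑ θ, w θ * u θ) * (∑ θ, w' θ * v θ) +
          (∑ θ, w θ * v θ) * ∑ θ, w' θ * u θ) + R * ((∑ θ, w θ * v θ) * ∑ θ, w' θ * v θ) :=
      fun w w' => by
      simp only [hc, Finset.sum_mul, Finset.mul_sum, ← Finset.sum_add_distrib]
      conv_rhs => rw [Finset.sum_comm]
      exact Finset.sum_congr rfl fun θ _ => Finset.sum_congr rfl fun θ' _ => by ring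
    have a1 := hbil s s
    have a2 := hbil s t
    have a3 := hbil t t
    rw [hev, h1, h2] at a1; rw [hev, h1, h2, h3, h4] at a2; rw [hev, h3, h4] at a3
    simp only [mul_zero, zero_mul, mul_one, add_zero, zero_add] at a1 a2 a3
    refine (mul_eq_zero.1 ?_).resolve_right (mul_ne_zero h0 h0)
    rw [hD]
    push_cast at a1 a2 a3 ⊢
    linear_combination ((R : ZMod p) * (c θ₀ θ₀ : ZMod p)) * a1 +
      (∑ θ, (s θ : ZMod p) * (c θ θ₀ : ZMod p)) * (∑ θ, (s θ : ZMod p) * (c θ θ₀ : ZMod p)) * a3 -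
      ((Q : ZMod p) * (c θ₀ θ₀ : ZMod p) + (∑ θ, (s θ : ZMod p) * (c θ θ₀ : ZMod p)) *
        ∑ θ, (t θ : ZMod p) * (c θ θ₀ : ZMod p)) * a2
  have hf1 : 1 ≤ f := by
    rcases Nat.eq_zero_or_pos f with h0 | h0
    · rw [hDe, h0, pow_zero] at hpD
      have := Int.le_of_dvd one_pos hpD
      have := hp.two_le
      omega
    · exact h0
  have hfd : f ≤ d := by
    by_contra hlt
    have hpow : D = N * (p : ℤ) ^ (f - d) := by rw [hDe, hN, ← pow_add]; congr 1; omega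
    have hpd : (p : ℤ) ∣ (p : ℤ) ^ (f - d) := dvd_pow_self _ (by omega)
    have hR' : R = A * (p : ℤ) ^ (f - d) :=
      mul_left_cancel₀ hNpos.ne' (by rw [← eA, hpow]; ring)
    have hP' : P = B * (p : ℤ) ^ (f - d) :=
      mul_left_cancel₀ hNpos.ne' (by rw [← eB, hpow]; ring)
    have hQ' : Q = -(C * (p : ℤ) ^ (f - d)) :=
      mul_left_cancel₀ hNpos.ne' (by linear_combination eC - C * hpow)
    refine h00 ?_
    rw [hc, hR', hP', hQ']
    exact dvd_add (dvd_add ((hpd.mul_left _).mul_right _) ((hpd.mul_left _).neg_right.mul_right _))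
      ((hpd.mul_left _).mul_right _)
  set g := (p : ℤ) ^ (d - f) with hg
  have hND : N = g * D := by rw [hN, hg, hDe, ← pow_add]; congr 1; omega
  have hgpos : 0 < g := pow_pos (by exact_mod_cast hp.pos) _
  have hAg : A = g * R := mul_right_cancel₀ hDpos.ne' (by rw [eA, hND]; ring)
  have hBg : B = g * P := mul_right_cancel₀ hDpos.ne' (by rw [eB, hND]; ring)
  have hCg : C = g * -Q := mul_right_cancel₀ hDpos.ne' (by rw [eC, hND]; ring)
  have hD2 : 2 ≤ D := le_trans (by exact_mod_cast hp.two_le) (Int.le_of_dvd hDpos hpD)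
  have r1 : R ≤ P := le_of_mul_le_mul_left (by rw [← hAg, ← hBg]; exact hAB) hgpos
  have r2 : 2 * -Q ≤ R := le_of_mul_le_mul_left (by rw [← hAg]; linarith [hCg]) hgpos
  have r3 : 0 ≤ -Q := nonneg_of_mul_nonneg_right (hCg ▸ hC) hgpos
  have r4 : 0 < R := by nlinarith
  by_cases hsp : Q = 0 ∧ R = 1
  · right
    obtain ⟨q0, rfl⟩ := hsp
    refine ⟨?_, ?_, P, fun θ θ' => by rw [hc, q0]; ring⟩
    · rw [hAg, hND]; nlinarith
    · rw [hBg, hND, hD, q0]; ring
  · left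
    rw [hAg, hBg, hCg, hND, ← mul_add, ← mul_sub]
    refine mul_le_mul_of_nonneg_left ?_ hgpos.le
    rw [hD]
    rcases eq_or_ne Q 0 with q0 | q0
    · have hR2 : 2 ≤ R := by
        have : R ≠ 1 := fun h => hsp ⟨q0, h⟩
        omega
      subst q0
      nlinarith [mul_nonneg (sub_nonneg.2 hR2) (sub_nonneg.2 (hR2.trans r1))]
    · have q1 : 1 ≤ -Q := by omega
      nlinarith [mul_nonneg (sub_nonneg.2 r2) (sub_nonneg.2 (r2.trans r1)),
        mul_nonneg (sub_nonneg.2 q1) (sub_nonneg.2 r2),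
        mul_nonneg (sub_nonneg.2 q1) (sub_nonneg.2 (r2.trans r1))]

end Cfsg.Lib.Blocks
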