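import Mathlib
import Cfsg.Agent.Blocks.SubsectionColumns

/-!
# Sums of squares of conjugates of combinations of `p`-power roots of unity
-/

set_option autoImplicit false

namespace Cfsg.Lib.Blocks

open Cfsg.Lib.Chars
open scoped ComplexConjugate

/-- Parseval over all powers of a primitive root. -/
lemma sum_norm_sq_range {n : ℕ} [NeZero n] {ζ : ℂ} (hζ : IsPrimitiveRoot ζ n) {ι : Type*}
    (s : Finset ι) (c : ι → ℤ) (e : ι → ℕ) :
    ∑ j ∈ Finset.range n, ‖∑ i ∈ s, (c i : ℂ) * (ζ ^ j) ^ e i‖ ^ 2 =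
      (n : ℝ) * ∑ r ∈ Finset.range n, ((∑ i ∈ s.filter (fun i => e i % n = r), c i : ℤ) : ℝ) ^ 2 := by
  classical
  set A : ℕ → ℤ := fun r => ∑ i ∈ s.filter (fun i => e i % n = r), c i with hA
  have hz : ∀ j, ∑ i ∈ s, (c i : ℂ) * (ζ ^ j) ^ e i =
      ∑ r ∈ Finset.range n, (A r : ℂ) * (ζ ^ r) ^ j := fun j => by
    rw [← Finset.sum_fiberwise_of_maps_to (g := fun i => e i % n) (t := Finset.range n)
      (fun i _ => Finset.mem_range.2 (Nat.mod_lt _ (NeZero.pos n)))]
    refine Finset.sum_congr rfl fun r _ => ?_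
    rw [hA]
    push_cast
    rw [Finset.sum_mul]
    refine Finset.sum_congr rfl fun i hi => ?_
    rw [← (Finset.mem_filter.1 hi).2, ← pow_mul, mul_comm j, pow_mul, ← pow_eq_pow_mod _ hζ.pow_eq_one]
  have hconj : conj ζ = ζ⁻¹ := (Complex.inv_eq_conj (Complex.norm_eq_one_of_pow_eq_one hζ.pow_eq_one
    (NeZero.ne n))).symm
  have horth : ∀ r ∈ Finset.range n, ∀ r' ∈ Finset.range n,
      ∑ j ∈ Finset.range n, (ζ ^ r * conj (ζ ^ r')) ^ j = if r = r' then (n : ℂ) else 0 := by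
    intro r hr r' hr'
    have h0 : ζ ≠ 0 := hζ.ne_zero (NeZero.ne n)
    rw [map_pow, hconj, inv_pow, ← div_eq_mul_inv]
    split_ifs with h
    · subst h
      simp [h0]
    · have hne : ζ ^ r / ζ ^ r' ≠ 1 := fun he => h (by
        rw [div_eq_one_iff_eq (pow_ne_zero _ h0)] at he
        exact hζ.pow_inj (Finset.mem_range.1 hr) (Finset.mem_range.1 hr') he)
      rw [geom_sum_eq hne, div_pow, ← pow_mul, ← pow_mul, mul_comm r, mul_comm r', pow_mul, pow_mul,
        hζ.pow_eq_one, one_pow, one_pow, div_one, sub_self, zero_div]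
  apply Complex.ofReal_injective
  push_cast
  simp only [← Complex.mul_conj', hz, map_sum, Finset.sum_mul_sum, map_mul, map_pow,
    map_intCast]
  rw [Finset.sum_comm, Finset.mul_sum]
  refine Finset.sum_congr rfl fun r hr => ?_
  rw [Finset.sum_comm, Finset.sum_eq_single r]
  · have h := horth r hr r hr
    rw [if_pos rfl, map_pow] at h
    rw [Finset.sum_congr rfl fun j _ => show (A r : ℂ) * (ζ ^ r) ^ j * ((A r : ℂ) * (conj ζ ^ r) ^ j)
      = (A r : ℂ) ^ 2 * (ζ ^ r * conj ζ ^ r) ^ j by rw [mul_pow]; ring, ← Finset.mul_sum, h, hA]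
    push_cast
    ring
  · intro r' hr' hne
    have h := horth r hr r' hr'
    rw [if_neg (Ne.symm hne), map_pow] at h
    rw [Finset.sum_congr rfl fun j _ => show (A r : ℂ) * (ζ ^ r) ^ j * ((A r' : ℂ) * (conj ζ ^ r') ^ j)
      = (A r : ℂ) * (A r' : ℂ) * (ζ ^ r * conj ζ ^ r') ^ j by rw [mul_pow]; ring, ← Finset.mul_sum, h,
      mul_zero]
  · exact fun h => absurd hr h

/-- An integral tuple of length `p` with some two entries different spreads by at least `p - 1`. -/
lemma card_sub_one_le_spread {p : ℕ} (a : Fin p → ℤ) (h : ¬ ∀ i j, a i = a j) :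
    ((p : ℤ) - 1) ≤ (p : ℤ) * ∑ i, a i ^ 2 - (∑ i, a i) ^ 2 := by
  push Not at h
  obtain ⟨i, j, hij⟩ := h
  have key : ∑ k, ∑ l, (a k - a l) ^ 2 = 2 * ((p : ℤ) * ∑ i, a i ^ 2 - (∑ i, a i) ^ 2) := by
    simp only [sub_sq, Finset.sum_add_distrib, Finset.sum_sub_distrib, Finset.sum_const,
      Finset.card_univ, Fintype.card_fin, nsmul_eq_mul, ← Finset.mul_sum, ← Finset.sum_mul]
    ring
  have hrow : ∀ k : Fin p, 1 ≤ (a k - a i) ^ 2 + (a k - a j) ^ 2 := fun k => by
    rcases eq_or_ne (a k) (a i) with h | h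
    · have : a k - a j ≠ 0 := sub_ne_zero.2 (h ▸ hij)
      nlinarith [Int.one_le_abs this, sq_abs (a k - a j), sq_nonneg (a k - a i)]
    · have : a k - a i ≠ 0 := sub_ne_zero.2 h
      nlinarith [Int.one_le_abs this, sq_abs (a k - a i), sq_nonneg (a k - a j)]
  have hne : i ≠ j := fun h => hij (by rw [h])
  have h3 : (p : ℤ) - 2 ≤ ∑ k : Fin p, if k = i ∨ k = j then (0 : ℤ) else 1 := by
    rw [Finset.sum_ite, Finset.sum_const_zero, zero_add, Finset.sum_const, nsmul_one]
    have hc := Finset.card_filter_add_card_filter_not (s := Finset.univ) (fun k : Fin p => k = i ∨ k = j)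
    have hc' : (Finset.univ.filter fun k : Fin p => k = i ∨ k = j).card ≤ 2 := by
      refine (Finset.card_le_card (t := {i, j}) fun k hk => ?_).trans Finset.card_le_two
      simpa using hk
    rw [Finset.card_univ, Fintype.card_fin] at hc
    omega
  have hij1 : 1 ≤ (a i - a j) ^ 2 := by
    nlinarith [Int.one_le_abs (sub_ne_zero.2 hij), sq_abs (a i - a j)]
  -- each difference between `i` and `j` is seen twice, the others twice as well
  have h7 : ∀ k : Fin p, (a k - a i) ^ 2 + (a k - a j) ^ 2 ≤ ∑ l, (a k - a l) ^ 2 := fun k => by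
    rw [← Finset.sum_pair (f := fun l => (a k - a l) ^ 2) hne]
    exact Finset.sum_le_sum_of_subset_of_nonneg (Finset.subset_univ _) fun l _ _ => sq_nonneg _
  have h8 : ∀ k : Fin p, (if k = i ∨ k = j then 0 else (a k - a i) ^ 2 + (a k - a j) ^ 2) +
      ((if k = i then ∑ l, (a k - a l) ^ 2 else 0) + (if k = j then ∑ l, (a k - a l) ^ 2 else 0)) ≤
        ∑ l, (a k - a l) ^ 2 := fun k => by
    by_cases hi : k = i
    · subst hi; simp [hne]
    · by_cases hj : k = j
      · subst hj; simp [hi]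
      · simp [hi, hj]; exact h7 k
  have h9 := Finset.sum_le_sum (s := Finset.univ) fun k _ => h8 k
  simp only [Finset.sum_add_distrib, Finset.sum_ite_eq', Finset.mem_univ, if_true] at h9
  rw [key] at h9
  have h10 : ∀ k : Fin p, (if k = i ∨ k = j then (0:ℤ) else 1) ≤
      if k = i ∨ k = j then 0 else (a k - a i) ^ 2 + (a k - a j) ^ 2 := fun k => by
    split_ifs
    · exact le_rfl
    · exact hrow k
  have h11 : ∀ k, (∑ l, if l = i ∨ l = j then (0:ℤ) else (a l - a k) ^ 2) + (a k - a i) ^ 2 +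
      (a k - a j) ^ 2 = ∑ l, (a k - a l) ^ 2 := fun k => by
    rw [← Finset.sum_filter_add_sum_filter_not Finset.univ (fun l : Fin p => l = i ∨ l = j)
      (fun l => (a k - a l) ^ 2), add_assoc, add_comm]
    congr 1
    · rw [show Finset.univ.filter (fun l : Fin p => l = i ∨ l = j) = {i, j} by ext; simp,
        Finset.sum_pair hne]
    · rw [Finset.sum_ite, Finset.sum_const_zero, zero_add]
      exact Finset.sum_congr rfl fun l _ => by ring
  have h12 := Finset.sum_le_sum (s := Finset.univ) fun k _ => h10 k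
  have hi' := h11 i
  have hj' := h11 j
  have h13 : ∀ l : Fin p, (if l = i ∨ l = j then (0:ℤ) else (a l - a i) ^ 2) +
      (if l = i ∨ l = j then (0:ℤ) else (a l - a j) ^ 2) =
      if l = i ∨ l = j then (0:ℤ) else (a l - a i) ^ 2 + (a l - a j) ^ 2 := fun l => by
    split_ifs <;> simp
  have h14 : (∑ l, if l = i ∨ l = j then (0:ℤ) else (a l - a i) ^ 2) +
      (∑ l, if l = i ∨ l = j then (0:ℤ) else (a l - a j) ^ 2) =
      ∑ l, if l = i ∨ l = j then (0:ℤ) else (a l - a i) ^ 2 + (a l - a j) ^ 2 := by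
    rw [← Finset.sum_add_distrib]; exact Finset.sum_congr rfl fun l _ => h13 l
  have h15 : (a j - a i) ^ 2 = (a i - a j) ^ 2 := by ring
  simp only [sub_self, zero_pow, ne_eq, OfNat.ofNat_ne_zero, not_false_eq_true] at hi' hj'
  linarith

/-- An integral tuple of length `p` with sum divisible by `p` and two different entries. -/
lemma two_mul_le_spread {p : ℕ} (a : Fin p → ℤ) (h : ¬ ∀ i j, a i = a j)
    (hdvd : (p : ℤ) ∣ ∑ i, a i) : 2 * (p : ℤ) ≤ (p : ℤ) * ∑ i, a i ^ 2 - (∑ i, a i) ^ 2 := by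
  obtain ⟨t, ht⟩ := hdvd
  have hs : ∑ i, (a i - t) = 0 := by
    simp [Finset.sum_sub_distrib, ht]
  have hsq : (p : ℤ) * ∑ i, a i ^ 2 - (∑ i, a i) ^ 2 = (p : ℤ) * ∑ i, (a i - t) ^ 2 := by
    simp only [sub_sq, Finset.sum_add_distrib, Finset.sum_sub_distrib, Finset.sum_const,
      Finset.card_univ, Fintype.card_fin, nsmul_eq_mul, ← Finset.mul_sum, ← Finset.sum_mul, ht]
    ring
  rw [hsq, mul_comm]
  refine mul_le_mul_of_nonneg_left ?_ (Int.natCast_nonneg p)
  obtain ⟨i, hi⟩ : ∃ i, a i - t ≠ 0 := by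
    by_contra hc
    push Not at hc
    exact h fun i j => by rw [sub_eq_zero.1 (hc i), sub_eq_zero.1 (hc j)]
  obtain ⟨j, hj, hji⟩ : ∃ j, a j - t ≠ 0 ∧ j ≠ i := by
    by_contra hc
    push Not at hc
    exact hi (by
      rw [← hs]
      exact (Finset.sum_eq_single i (fun j _ hji => by_contra fun h' => hji (hc j h'))
        (fun h' => absurd (Finset.mem_univ i) h')).symm)
  have := Finset.sum_le_sum_of_subset_of_nonneg (Finset.subset_univ {j, i})
    (fun k _ _ => sq_nonneg (a k - t))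
  rw [Finset.sum_pair hji] at this
  nlinarith [Int.one_le_abs hi, Int.one_le_abs hj, sq_abs (a i - t), sq_abs (a j - t)]

/-- The sum over the units as a sum over the exponents prime to `p`. -/
lemma sum_units_eq_sum_range {p k : ℕ} (hp : p.Prime) [NeZero (p ^ (k + 1))] (g : ℕ → ℝ) :
    ∑ u : (ZMod (p ^ (k + 1)))ˣ, g (u : ZMod (p ^ (k + 1))).val =
      ∑ j ∈ (Finset.range (p ^ (k + 1))).filter (fun j => ¬ p ∣ j), g j := by
  refine Finset.sum_nbij (fun u => (u : ZMod (p ^ (k + 1))).val) (fun u _ => ?_)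
    (fun u _ v _ h => Units.ext (ZMod.val_injective _ h)) (fun j hj => ?_) fun u _ => rfl
  · rw [Finset.mem_filter, Finset.mem_range]
    refine ⟨ZMod.val_lt _, fun h => ?_⟩
    have hc := ZMod.val_coe_unit_coprime u
    exact hp.coprime_iff_not_dvd.1 ((Nat.coprime_pow_left_iff (Nat.succ_pos k) _ _).1 hc.symm) h
  · rw [Finset.mem_coe, Finset.mem_filter, Finset.mem_range] at hj
    have hc : j.Coprime (p ^ (k + 1)) := ((hp.coprime_iff_not_dvd.2 hj.2).symm).pow_right _
    refine ⟨ZMod.unitOfCoprime j hc, Finset.mem_coe.2 (Finset.mem_univ _), ?_⟩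
    simp [ZMod.val_natCast, Nat.mod_eq_of_lt hj.1]

/-- Conjugates of a nonzero combination of `p`-power roots of unity that is congruent to zero
have mean square at least two. -/
theorem two_mul_card_units_le_sum_norm_sq_roots {p k : ℕ} (hp : p.Prime) [NeZero (p ^ k)]
    {ι : Type*} (s : Finset ι) (c : ι → ℤ) (z : ι → ℂ) (hz : ∀ i, z i ^ p ^ k = 1)
    (hdvd : (p : ℤ) ∣ ∑ i ∈ s, c i)
    (hne : ∀ u : (ZMod (p ^ k))ˣ, ∑ i ∈ s, (c i : ℂ) * z i ^ (u : ZMod (p ^ k)).val ≠ 0) :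
    2 * (Fintype.card (ZMod (p ^ k))ˣ : ℝ) ≤
      ∑ u : (ZMod (p ^ k))ˣ, ‖∑ i ∈ s, (c i : ℂ) * z i ^ (u : ZMod (p ^ k)).val‖ ^ 2 := by
  classical
  rcases k with _ | k
  · have hz1 : ∀ i, z i = 1 := fun i => by simpa using hz i
    have hval : ∀ u : (ZMod (p ^ 0))ˣ, ∑ i ∈ s, (c i : ℂ) * z i ^ (u : ZMod (p ^ 0)).val =
        ((∑ i ∈ s, c i : ℤ) : ℂ) := fun u => by simp [hz1]
    have hc0 : ∑ i ∈ s, c i ≠ 0 := fun h => hne 1 (by rw [hval, h, Int.cast_zero])
    have hle : (2 : ℤ) ≤ |∑ i ∈ s, c i| :=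
      le_trans (by exact_mod_cast hp.two_le) (Int.le_of_dvd (abs_pos.2 hc0) ((dvd_abs _ _).2 hdvd))
    simp only [hval, Finset.sum_const, Finset.card_univ, nsmul_eq_mul, Complex.norm_intCast]
    have hle' : (2 : ℝ) ≤ |((∑ i ∈ s, c i : ℤ) : ℝ)| := by exact_mod_cast hle
    rw [mul_comm]
    refine mul_le_mul_of_nonneg_left ?_ (Nat.cast_nonneg _)
    nlinarith
  set m := p ^ k with hm
  haveI : NeZero m := ⟨pow_ne_zero _ hp.ne_zero⟩
  set n := p ^ (k + 1) with hn
  have hnm : n = p * m := by rw [hn, hm, pow_succ']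
  obtain ⟨ζ, hζ⟩ : ∃ ζ : ℂ, IsPrimitiveRoot ζ n := ⟨_, Complex.isPrimitiveRoot_exp n (NeZero.ne n)⟩
  choose e he1 he2 using fun i => hζ.eq_pow_of_pow_eq_one (hz i)
  set A : ℕ → ℤ := fun r => ∑ i ∈ s.filter (fun i => e i % n = r), c i with hA
  set g : ℕ → ℝ := fun j => ‖∑ i ∈ s, (c i : ℂ) * (ζ ^ j) ^ e i‖ ^ 2 with hg
  have hgoal : ∑ u : (ZMod n)ˣ, ‖∑ i ∈ s, (c i : ℂ) * z i ^ (u : ZMod n).val‖ ^ 2 =
      ∑ j ∈ (Finset.range n).filter (fun j => ¬ p ∣ j), g j := by
    rw [← sum_units_eq_sum_range hp g]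
    refine Finset.sum_congr rfl fun u _ => ?_
    simp only [hg]
    congr 2
    exact Finset.sum_congr rfl fun i _ => by
      rw [← he2 i, ← pow_mul, ← pow_mul, mul_comm (e i)]
  have hall : ∑ j ∈ Finset.range n, g j = (n : ℝ) * ∑ r ∈ Finset.range n, (A r : ℝ) ^ 2 :=
    sum_norm_sq_range hζ s c e
  have hpm : ∑ j ∈ (Finset.range n).filter (fun j => p ∣ j), g j =
      (m : ℝ) * ∑ r ∈ Finset.range m,
        ((∑ i ∈ s.filter (fun i => e i % m = r), c i : ℤ) : ℝ) ^ 2 := by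
    rw [← sum_norm_sq_range (hζ.pow (NeZero.pos n) hnm) s c e]
    refine (Finset.sum_nbij (fun j => p * j) (fun j hj => ?_)
      (fun a _ b _ h => mul_left_cancel₀ hp.ne_zero h) (fun j hj => ?_) fun j _ => ?_).symm
    · rw [Finset.mem_range] at hj
      rw [Finset.mem_filter, Finset.mem_range, hnm]
      exact ⟨Nat.mul_lt_mul_of_pos_left hj hp.pos, dvd_mul_right _ _⟩
    · rw [Finset.mem_coe, Finset.mem_filter, Finset.mem_range, hnm] at hj
      obtain ⟨j', rfl⟩ := hj.2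
      exact ⟨j', Finset.mem_coe.2 (Finset.mem_range.2 (Nat.lt_of_mul_lt_mul_left hj.1)), rfl⟩
    · simp only [hg, ← pow_mul]
  set T : Fin m → ℤ := fun r => (p : ℤ) * ∑ t : Fin p, A ((r : ℕ) + m * t) ^ 2 -
    (∑ t : Fin p, A ((r : ℕ) + m * t)) ^ 2 with hT
  have hre : ∀ F : ℕ → ℤ, ∑ r ∈ Finset.range n, F r =
      ∑ r : Fin m, ∑ t : Fin p, F ((r : ℕ) + m * t) := fun F => by
    rw [hnm, Finset.sum_range, ← Equiv.sum_comp finProdFinEquiv, Fintype.sum_prod_type,
      Finset.sum_comm]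
    exact Finset.sum_congr rfl fun r _ => Finset.sum_congr rfl fun t _ => by
      rw [finProdFinEquiv_apply_val]
  have hfib : ∀ r : Fin m, ∑ i ∈ s.filter (fun i => e i % m = r), c i =
      ∑ t : Fin p, A ((r : ℕ) + m * t) := fun r => by
    rw [Finset.sum_filter, ← Finset.sum_fiberwise_of_maps_to (g := fun i => e i % n)
      (t := Finset.range n) (fun i _ => Finset.mem_range.2 (Nat.mod_lt _ (NeZero.pos n))), hre,
      Finset.sum_eq_single r]
    · refine Finset.sum_congr rfl fun t _ => ?_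
      rw [hA]
      refine Finset.sum_congr rfl fun i hi => if_pos ?_
      have h := (Finset.mem_filter.1 hi).2
      rw [← Nat.mod_mod_of_dvd (e i) (show m ∣ n from hnm ▸ dvd_mul_left m p), h,
        Nat.add_mul_mod_self_left, Nat.mod_eq_of_lt r.2]
    · intro r' _ hne'
      refine Finset.sum_eq_zero fun t _ => Finset.sum_eq_zero fun i hi => if_neg fun hir => hne' ?_
      have h := (Finset.mem_filter.1 hi).2
      rw [← Nat.mod_mod_of_dvd (e i) (show m ∣ n from hnm ▸ dvd_mul_left m p), h,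
        Nat.add_mul_mod_self_left, Nat.mod_eq_of_lt r'.2] at hir
      exact Fin.ext hir
    · exact fun h => absurd (Finset.mem_univ _) h
  have hval : ∑ u : (ZMod n)ˣ, ‖∑ i ∈ s, (c i : ℂ) * z i ^ (u : ZMod n).val‖ ^ 2 =
      (m : ℝ) * ((∑ r : Fin m, T r : ℤ) : ℝ) := by
    have h := Finset.sum_filter_add_sum_filter_not (Finset.range n) (fun j => p ∣ j) g
    rw [hpm, hall, ← hgoal, Finset.sum_range] at h
    have h1 : ∑ r ∈ Finset.range n, (A r : ℝ) ^ 2 =
        ((∑ r : Fin m, ∑ t : Fin p, A ((r : ℕ) + m * t) ^ 2 : ℤ) : ℝ) := by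
      rw [← hre fun r => A r ^ 2]; push_cast; rfl
    have hnR : (n : ℝ) = (p : ℝ) * (m : ℝ) := by exact_mod_cast hnm
    rw [h1, hnR] at h
    simp only [hfib] at h
    rw [hT, Finset.sum_sub_distrib, ← Finset.mul_sum]
    push_cast at h ⊢
    linarith
  rw [hval, ZMod.card_units_eq_totient, Nat.totient_prime_pow_succ hp, ← hm, Nat.cast_mul,
    Nat.cast_sub hp.one_lt.le, Nat.cast_one, mul_left_comm]
  refine mul_le_mul_of_nonneg_left ?_ (Nat.cast_nonneg _)
  have key : (2 * ((p : ℤ) - 1)) ≤ ∑ r : Fin m, T r := by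
    have hnn : ∀ r : Fin m, 0 ≤ T r := fun r => by
      by_cases hc : ∀ i j : Fin p, A ((r : ℕ) + m * i) = A ((r : ℕ) + m * j)
      · have hconst : ∀ t : Fin p, A ((r : ℕ) + m * t) = A ((r : ℕ) + m * ↑(⟨0, hp.pos⟩ : Fin p)) :=
          fun t => hc t _
        simp only [hT, hconst, Finset.sum_const, Finset.card_univ, Fintype.card_fin, nsmul_eq_mul]
        exact le_of_eq (by ring)
      · have := card_sub_one_le_spread (fun t : Fin p => A ((r : ℕ) + m * t)) hc
        have hp1 : (1 : ℤ) ≤ p := by exact_mod_cast hp.one_lt.le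
        simp only [hT]
        linarith
    have hzero : ∀ r : Fin m, (∀ i j : Fin p, A ((r : ℕ) + m * i) = A ((r : ℕ) + m * j)) →
        T r = 0 ∧ (p : ℤ) ∣ ∑ t : Fin p, A ((r : ℕ) + m * t) := fun r hc => by
      have hconst : ∀ t : Fin p, A ((r : ℕ) + m * t) = A ((r : ℕ) + m * ↑(⟨0, hp.pos⟩ : Fin p)) :=
        fun t => hc t _
      simp only [hT, hconst, Finset.sum_const, Finset.card_univ, Fintype.card_fin, nsmul_eq_mul]
      exact ⟨by ring, dvd_mul_right _ _⟩
    obtain ⟨r₀, hr₀⟩ : ∃ r : Fin m,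
        ¬ ∀ i j : Fin p, A ((r : ℕ) + m * i) = A ((r : ℕ) + m * j) := by
      by_contra hc
      push Not at hc
      have h0 : ∑ r : Fin m, T r = 0 := Finset.sum_eq_zero fun r _ => (hzero r (hc r)).1
      rw [h0, Int.cast_zero, mul_zero] at hval
      exact absurd hval (Finset.sum_pos (fun u _ => pow_pos (norm_pos_iff.2 (hne u)) 2)
        Finset.univ_nonempty).ne'
    by_cases h2 : ∃ r, r ≠ r₀ ∧ ¬ ∀ i j : Fin p, A ((r : ℕ) + m * i) = A ((r : ℕ) + m * j)
    · obtain ⟨r₁, hne₁, hr₁⟩ := h2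
      calc 2 * ((p : ℤ) - 1) ≤ T r₁ + T r₀ := by
            have a1 := card_sub_one_le_spread (fun t : Fin p => A ((r₁ : ℕ) + m * t)) hr₁
            have a0 := card_sub_one_le_spread (fun t : Fin p => A ((r₀ : ℕ) + m * t)) hr₀
            simp only [hT]
            linarith
        _ = ∑ r ∈ ({r₁, r₀} : Finset (Fin m)), T r := (Finset.sum_pair hne₁).symm
        _ ≤ _ := Finset.sum_le_sum_of_subset_of_nonneg (Finset.subset_univ _) fun r _ _ => hnn r
    · push Not at h2
      have hd : (p : ℤ) ∣ ∑ t : Fin p, A ((r₀ : ℕ) + m * t) := by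
        have htot : ∑ r : Fin m, ∑ t : Fin p, A ((r : ℕ) + m * t) = ∑ i ∈ s, c i := by
          rw [← hre A, hA]
          exact Finset.sum_fiberwise_of_maps_to
            (fun i _ => Finset.mem_range.2 (Nat.mod_lt _ (NeZero.pos n))) _
        rw [← Finset.add_sum_erase _ _ (Finset.mem_univ r₀)] at htot
        rw [← htot] at hdvd
        exact (dvd_add_left (Finset.dvd_sum fun r hr =>
          (hzero r (h2 r (Finset.ne_of_mem_erase hr))).2)).1 hdvd
      calc 2 * ((p : ℤ) - 1) ≤ T r₀ := by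
            have := two_mul_le_spread (fun t : Fin p => A ((r₀ : ℕ) + m * t)) hr₀ hd
            simp only [hT]
            linarith
        _ ≤ _ := Finset.single_le_sum (fun r _ => hnn r) (Finset.mem_univ r₀)
  exact_mod_cast key

end Cfsg.Lib.Blocks
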