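import Mathlib
import Cfsg.Agent.Blocks.ContributionHeight
import Cfsg.Agent.Blocks.RankTwoForm
import Cfsg.Agent.Blocks.RootTrace

/-!
# Major subsections of small rank bound the number of characters
-/

set_option autoImplicit false
set_option linter.unusedSectionVars false

namespace Cfsg.Lib.Blocks

open Cfsg.Lib.Chars
open scoped ComplexConjugate

universe u

variable {G : Type u} [Group G] [Fintype G] {M : Ideal AlgInt} {p : ℕ}

/-- A combination of roots of unity vanishing at one unit power vanishes at all. -/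
lemma roots_zero_at_units {n : ℕ} [NeZero n] {ι : Type*} (s : Finset ι) (c : ι → ℤ) (z : ι → ℂ)
    (hz : ∀ i, z i ^ n = 1) {u : (ZMod n)ˣ}
    (h : ∑ i ∈ s, (c i : ℂ) * z i ^ (u : ZMod n).val = 0) (u' : (ZMod n)ˣ) :
    ∑ i ∈ s, (c i : ℂ) * z i ^ (u' : ZMod n).val = 0 := by
  obtain ⟨σ, hσ⟩ := exists_galConj_auto (m := n) (k := ((u' * u⁻¹ : (ZMod n)ˣ) : ZMod n).val)
    (ZMod.val_coe_unit_coprime _)
  have h' := congrArg σ h
  rw [map_zero, map_sum] at h'
  rw [← h']
  refine Finset.sum_congr rfl fun i _ => ?_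
  rw [map_mul, map_intCast, map_pow, hσ _ (hz i), ← pow_mul, pow_eq_pow_mod _ (hz i)]
  conv_rhs => rw [pow_eq_pow_mod _ (hz i)]
  congr 2
  rw [Nat.mod_eq_of_lt (ZMod.val_lt _), ← ZMod.val_mul, ← Units.val_mul, inv_mul_cancel_right]

/-- Real combinations of the regular values reproduce. -/
lemma sum_colKer_mul_block (hM : IsPModular p M) {B : Set (IrrCharacter G)} (hB : IsPBlock M B)
    {θ : IrrCharacter G} (hθ : θ ∈ B) {w : G} (hw : ¬ p ∣ orderOf w) :
    ∑ v ∈ Finset.univ.filter (fun v : G => ¬ p ∣ orderOf v), colKer B w v * (θ : G → ℂ) v =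
      (Nat.card G : ℂ) * (θ : G → ℂ) w := by
  classical
  rw [Finset.sum_filter_of_ne (s := Finset.univ) (p := fun v : G => ¬ p ∣ orderOf v)
    (fun v _ hv hd => hv (by
      rw [colKer_eq B w v, block_orthogonality_regular hM hB hw hd, zero_mul]))]
  have hG : (Nat.card G : ℂ) ≠ 0 := Nat.cast_ne_zero.2 Nat.card_pos.ne'
  simp only [colKer_eq, Finset.sum_mul, mul_assoc]
  rw [Finset.sum_comm, Finset.sum_eq_single θ]
  · have h : classInner (∑ ψ : IrrCharacter G, (if ψ = θ then (1 : ℂ) else 0) • (ψ : G → ℂ))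
        (θ : G → ℂ) = 1 := by rw [classInner_irrSum, if_pos rfl]
    simp only [ite_smul, one_smul, zero_smul, Finset.sum_ite_eq', Finset.mem_univ, if_true] at h
    rw [classInner_def, inv_mul_eq_iff_eq_mul₀ hG, mul_one] at h
    rw [← Finset.mul_sum, Finset.sum_congr rfl fun v _ => mul_comm _ ((θ : G → ℂ) v), h]
    ring
  · intro ψ _ hne
    have h : classInner (∑ φ : IrrCharacter G, (if φ = θ then (1 : ℂ) else 0) • (φ : G → ℂ))
        (ψ : G → ℂ) = 0 := by rw [classInner_irrSum, if_neg hne]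
    simp only [ite_smul, one_smul, zero_smul, Finset.sum_ite_eq', Finset.mem_univ, if_true] at h
    rw [classInner_def, inv_mul_eq_iff_eq_mul₀ hG, mul_zero] at h
    rw [← Finset.mul_sum, Finset.sum_congr rfl fun v _ => mul_comm _ ((θ : G → ℂ) v), h, mul_zero]
  · exact fun h => absurd (Finset.mem_filter.2 ⟨Finset.mem_univ _, hθ⟩) h

variable {x : G} {H : Subgroup G} [Fintype H]

/-- Square sums of the coordinates of the columns of a subsection. -/
theorem sum_norm_sq_coord (hM : IsPModular p M) (hx : ∃ k : ℕ, orderOf x = p ^ k)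
    (hH : H = Subgroup.centralizer (Subgroup.zpowers x : Set G))
    {b : Set (IrrCharacter H)} [Fintype b] {B : Set (IrrCharacter G)}
    [DecidablePred (· ∈ B)] (hind : IsInducedBlock M H b B) (r : b → ℤ)
    (hr : ∀ θ : b, ∑ θ' : b, regRed p b θ θ' * r θ' = (p : ℤ) ^ blockDefect p b * r θ) :
    ∑ χ ∈ Finset.univ.filter (· ∈ B), ‖∑ θ : b, sectCoef x χ θ.1 * (r θ : ℂ)‖ ^ 2 =
      ((∑ θ : b, r θ * r θ : ℤ) : ℝ) := by
  classical
  have hb : IsPBlock M b := hind.1
  have hp0 : (p : ℂ) ≠ 0 := Nat.cast_ne_zero.2 hM.1.ne_zero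
  have hsub : ∀ F : IrrCharacter H → ℂ,
      ∑ θ ∈ Finset.univ.filter (· ∈ b), F θ = ∑ θ : b, F θ.1 := fun F =>
    Finset.sum_subtype _ (fun θ => by simp) F
  set a' : IrrCharacter H → ℂ := fun θ => if h : θ ∈ b then (r ⟨θ, h⟩ : ℂ) else 0 with ha'
  have ha'v : ∀ θ : b, a' θ.1 = (r θ : ℂ) := fun θ => by simp [ha', θ.2]
  set g : H → ℂ := fun w => ∑ θ ∈ Finset.univ.filter (· ∈ b), a' θ * (θ : H → ℂ) w with hg
  set R := Finset.univ.filter (fun v : H => ¬ p ∣ orderOf v) with hR
  set f : IrrCharacter G → H → ℂ := fun χ w =>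
    blockPart b (fun c : H => (χ : G → ℂ) (x * (c : G))) w with hf
  have hZ : ∀ χ : IrrCharacter G, ∑ θ : b, sectCoef x χ θ.1 * (r θ : ℂ) =
      (Nat.card H : ℂ)⁻¹ * ∑ w ∈ R, f χ w * conj (g w) := fun χ => by
    have h := contribution_eq hM hb (x := x) (χ : G → ℂ) (sectCoef x χ) a' g (fun θ _ => rfl)
      (fun w => rfl)
    simp only [hsub, ha'v, map_intCast] at h
    refine mul_left_cancel₀ (pow_ne_zero (blockDefect p b) hp0) ?_
    rw [← mul_assoc, hR, ← h, Finset.mul_sum]
    refine Finset.sum_congr rfl fun θ _ => ?_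
    have h' := congrArg (fun z : ℤ => (z : ℂ)) (hr θ)
    push_cast at h'
    rw [mul_left_comm, ← h', Finset.mul_sum]
    exact Finset.sum_congr rfl fun θ' _ => by ring
  have hK : ∀ w ∈ R, ∀ v ∈ R, ∑ χ ∈ Finset.univ.filter (· ∈ B), f χ w * conj (f χ v) =
      colKer b w v := fun w hw v hv =>
    sum_blockPart_mul_conj_blockPart hM hx hH hind (Finset.mem_filter.1 hw).2
      (Finset.mem_filter.1 hv).2
  have hrep : ∀ w ∈ R, ∑ v ∈ R, colKer b w v * g v = (Nat.card H : ℂ) * g w := fun w hw => by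
    simp only [hg, Finset.mul_sum]
    rw [Finset.sum_comm]
    refine Finset.sum_congr rfl fun θ hθ => ?_
    rw [Finset.sum_congr rfl fun v _ => mul_left_comm (colKer b w v) (a' θ) _, ← Finset.mul_sum,
      sum_colKer_mul_block hM hb (Finset.mem_filter.1 hθ).2 (Finset.mem_filter.1 hw).2,
      mul_left_comm]
  have hG2 : (Nat.card H : ℂ)⁻¹ * ∑ w ∈ R, g w * conj (g w) =
      ((∑ θ : b, r θ * r θ : ℤ) : ℂ) := by
    refine mul_left_cancel₀ (pow_ne_zero (blockDefect p b) hp0) ?_
    have hgs : ∀ w, g w = ∑ θ : b, (r θ : ℂ) * (θ.1 : H → ℂ) w := fun w => by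
      simp only [hg, hsub, ha'v]
    calc (p : ℂ) ^ blockDefect p b * ((Nat.card H : ℂ)⁻¹ * ∑ w ∈ R, g w * conj (g w))
        = ∑ θ : b, ∑ θ' : b, (r θ : ℂ) * (r θ' : ℂ) * (regRed p b θ θ' : ℂ) := by
          simp only [hgs, map_sum, map_mul, map_intCast, Finset.sum_mul, Finset.mul_sum]
          rw [Finset.sum_comm]
          conv_rhs => rw [Finset.sum_comm]
          refine Finset.sum_congr rfl fun θ' _ => ?_
          rw [Finset.sum_comm]
          refine Finset.sum_congr rfl fun θ _ => ?_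
          rw [← pow_blockDefect_mul_classInner hM hb θ.1 θ'.2, classInner_def, Finset.mul_sum,
            Finset.mul_sum, Finset.mul_sum, hR, Finset.sum_filter]
          refine Finset.sum_congr rfl fun w _ => ?_
          rw [pRegularPart_apply]
          split_ifs with hw
          · simp
          · ring
      _ = _ := by
          push_cast
          rw [Finset.mul_sum]
          refine Finset.sum_congr rfl fun θ _ => ?_
          have h' := congrArg (fun z : ℤ => (z : ℂ)) (hr θ)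
          push_cast at h'
          rw [mul_left_comm, ← mul_assoc, mul_assoc (r θ : ℂ), ← h', Finset.mul_sum]
          exact Finset.sum_congr rfl fun θ' _ => by ring
  have key : ((∑ χ ∈ Finset.univ.filter (· ∈ B), ‖∑ θ : b, sectCoef x χ θ.1 * (r θ : ℂ)‖ ^ 2 : ℝ) : ℂ)
      = (Nat.card H : ℂ)⁻¹ ^ 2 * ∑ w ∈ R, conj (g w) * ∑ v ∈ R, colKer b w v * g v := by
    rw [Finset.sum_congr rfl fun w hw => congrArg (conj (g w) * ·)
      (Finset.sum_congr rfl fun v hv => by rw [← hK w hw v hv])]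
    push_cast
    simp only [← Complex.mul_conj', hZ, map_mul, map_inv₀, map_natCast, map_sum, Complex.conj_conj,
      Finset.sum_mul, Finset.mul_sum]
    conv_rhs => rw [Finset.sum_comm]
    rw [Finset.sum_comm]
    refine Finset.sum_congr rfl fun v _ => ?_
    rw [Finset.sum_comm]
    exact Finset.sum_congr rfl fun w _ => Finset.sum_congr rfl fun χ _ => by ring
  apply Complex.ofReal_injective
  rw [key, Finset.sum_congr rfl fun w hw => congrArg (conj (g w) * ·) (hrep w hw),
    Complex.ofReal_intCast, ← hG2, Finset.mul_sum, Finset.mul_sum]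
  refine Finset.sum_congr rfl fun w _ => ?_
  field_simp

/-- The rows of the reduced regular matrix of a block span at most `l` dimensions. -/
lemma le_blockRank_of_rows (hM : IsPModular p M) {B : Set (IrrCharacter G)} (hB : IsPBlock M B)
    [Fintype B] {k : ℕ} (R : Fin k → B → ℤ) (hind : LinearIndependent ℤ R)
    (hmem : ∀ i, R i ∈ Submodule.span ℤ (Set.range fun θ θ' : B => regRed p B θ θ')) :
    k ≤ blockRank p B := by
  classical
  let Φ : (G → ℂ) →ₗ[ℂ] (B → ℂ) :=
    { toFun := fun f θ' => (p : ℂ) ^ blockDefect p B * classInner f (θ'.1 : G → ℂ)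
      map_add' := fun f f' => funext fun θ' => by
        simp only [classInner_def, Pi.add_apply, add_mul, Finset.sum_add_distrib]; ring
      map_smul' := fun a f => funext fun θ' => by
        simp only [classInner_smul_left, RingHom.id_apply, Pi.smul_apply, smul_eq_mul]; ring }
  set S := Submodule.span ℂ ((fun χ : IrrCharacter G => pRegularPart p (χ : G → ℂ)) '' B) with hS
  have hrows : ∀ i, (fun θ => (R i θ : ℂ)) ∈ S.map Φ := fun i => by
    obtain ⟨s, hs⟩ := (Submodule.mem_span_range_iff_exists_fun ℤ).1 (hmem i)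
    refine ⟨∑ θ : B, (s θ : ℂ) • pRegularPart p (θ.1 : G → ℂ),
      sum_mem fun θ _ => Submodule.smul_mem _ _ (Submodule.subset_span ⟨θ.1, θ.2, rfl⟩), ?_⟩
    rw [map_sum]
    funext θ'
    simp only [Finset.sum_apply, map_smul, Pi.smul_apply, smul_eq_mul, ← hs]
    push_cast
    exact Finset.sum_congr rfl fun θ _ => congrArg _ (pow_blockDefect_mul_classInner hM hB θ.1 θ'.2)
  -- integrally independent vectors are independent over the complex numbers
  set A : Matrix (Fin k) (Fin k) ℤ := Matrix.of fun i j => ∑ θ, R i θ * R j θ with hA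
  have hdet : A.det ≠ 0 := by
    intro h0
    obtain ⟨v, hv, hv0⟩ := Matrix.exists_mulVec_eq_zero_iff.2 h0
    have hsq : ∑ θ, (∑ i, v i * R i θ) ^ 2 = 0 := by
      calc ∑ θ, (∑ i, v i * R i θ) ^ 2 = ∑ i, v i * A.mulVec v i := by
            simp only [hA, Matrix.mulVec, dotProduct, Matrix.of_apply, sq, Finset.sum_mul,
              Finset.mul_sum]
            rw [Finset.sum_comm]
            refine Finset.sum_congr rfl fun i _ => ?_
            rw [Finset.sum_comm]
            exact Finset.sum_congr rfl fun j _ => Finset.sum_congr rfl fun θ _ => by ring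
        _ = 0 := by simp [hv0]
    refine hv (funext fun i => Fintype.linearIndependent_iff.1 hind v (funext fun θ => ?_) i)
    have := pow_eq_zero_iff two_ne_zero |>.1
      ((Finset.sum_eq_zero_iff_of_nonneg fun θ _ => sq_nonneg _).1 hsq θ (Finset.mem_univ _))
    simpa [Finset.sum_apply] using this
  have hindC : LinearIndependent ℂ fun i => (fun θ => (R i θ : ℂ)) := by
    rw [Fintype.linearIndependent_iff]
    intro v hv
    have h0 : (A.map fun z : ℤ => (z : ℂ)).mulVec v = 0 := by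
      funext i
      simp only [Matrix.mulVec, dotProduct, Matrix.map_apply, hA, Matrix.of_apply, Pi.zero_apply]
      push_cast
      simp only [Finset.sum_mul]
      rw [Finset.sum_comm]
      refine Finset.sum_eq_zero fun θ _ => ?_
      have h := congrFun hv θ
      simp only [Finset.sum_apply, Pi.smul_apply, smul_eq_mul, Pi.zero_apply] at h
      rw [Finset.sum_congr rfl fun j _ => show (R i θ : ℂ) * (R j θ : ℂ) * v j =
        (R i θ : ℂ) * (v j * (R j θ : ℂ)) by ring, ← Finset.mul_sum, h, mul_zero]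
    have hdC : (A.map fun z : ℤ => (z : ℂ)).det ≠ 0 := by
      have : (A.det : ℂ) = (A.map fun z : ℤ => (z : ℂ)).det := Int.cast_det A
      rw [← this]
      exact_mod_cast hdet
    exact congrFun (Matrix.eq_zero_of_mulVec_eq_zero hdC h0)
  have h1 := finrank_span_eq_card hindC
  rw [Fintype.card_fin] at h1
  have h2 : Module.finrank ℂ (Submodule.span ℂ (Set.range fun i => fun θ => (R i θ : ℂ))) ≤
      Module.finrank ℂ (S.map Φ) := Submodule.finrank_mono (Submodule.span_le.2 fun v hv => by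
    obtain ⟨i, rfl⟩ := hv
    exact hrows i)
  rw [h1] at h2
  exact h2.trans (Submodule.finrank_map_le Φ S)

/-- **A major subsection of rank at most two.** -/
theorem card_le_pow_defect_of_rank_le_two (hM : IsPModular p M) (hx : ∃ k : ℕ, orderOf x = p ^ k)
    (hH : H = Subgroup.centralizer (Subgroup.zpowers x : Set G))
    {b : Set (IrrCharacter H)} {B : Set (IrrCharacter G)} (hind : IsInducedBlock M H b B)
    (hdef : blockDefect p b = blockDefect p B) (hl : blockRank p b ≤ 2) :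
    Nat.card B ≤ p ^ blockDefect p B := by
  classical
  obtain ⟨k, hk⟩ := hx
  haveI : NeZero (p ^ k) := ⟨pow_ne_zero _ hM.1.ne_zero⟩
  set d := blockDefect p b with hd
  rw [← hdef]
  have hb : IsPBlock M b := hind.1
  obtain ⟨θ₀, hθ₀, hθ0⟩ := exists_height_zero hM hb
  obtain ⟨φ, hφ, hφ0⟩ := exists_height_zero hM hind.2.1
  set c : b → b → ℤ := fun θ θ' => regRed p b θ θ' with hc
  have hsymm : ∀ θ θ', c θ θ' = c θ' θ := fun θ θ' => regRed_symm hM.1 _ _
  have hsq : ∀ θ θ', ∑ ψ, c θ ψ * c ψ θ' = (p : ℤ) ^ d * c θ θ' := fun θ θ' => by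
    have hpe : ((p : ℤ) ^ minExp p b) ≠ 0 := pow_ne_zero _ (Nat.cast_ne_zero.2 hM.1.ne_zero)
    refine mul_left_cancel₀ (mul_ne_zero hpe hpe) ?_
    have h := sum_regInt_mul_regInt hM.1 θ.1 θ'.1
    rw [← Finset.sum_subset (Finset.filter_subset (· ∈ b) Finset.univ) (fun ψ _ hψ => by
      rw [regInt_eq_zero hM hb θ.2 (fun h => hψ (Finset.mem_filter.2 ⟨Finset.mem_univ _, h⟩)),
        zero_mul]), Finset.sum_subtype (p := (· ∈ b)) _ (fun ψ => by simp),
      ← blockDefect_add_minExp hM hb, pow_add, ← pow_mul_regRed hM hb θ.1 θ'.2] at h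
    calc (p : ℤ) ^ minExp p b * (p : ℤ) ^ minExp p b * ∑ ψ, c θ ψ * c ψ θ'
        = ∑ ψ : b, regInt p θ.1 ψ.1 * regInt p ψ.1 θ'.1 := by
          rw [Finset.mul_sum]
          exact Finset.sum_congr rfl fun ψ _ => by
            rw [← pow_mul_regRed hM hb θ.1 ψ.2, ← pow_mul_regRed hM hb ψ.1 θ'.2, hc]; ring
      _ = _ := by rw [h, hc, hd]; ring
  have h00 : ¬ (p : ℤ) ∣ c ⟨θ₀, hθ₀⟩ ⟨θ₀, hθ₀⟩ := not_dvd_regRed_self hM hb hθ₀ hθ0
  have hres : ∀ θ θ', (p : ℤ) ∣
      c θ θ' * c ⟨θ₀, hθ₀⟩ ⟨θ₀, hθ₀⟩ - c θ ⟨θ₀, hθ₀⟩ * c θ' ⟨θ₀, hθ₀⟩ := fun θ θ' => by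
    haveI := charP_res hM
    rw [← CharP.intCast_eq_zero_iff (Res M) p]
    push_cast
    exact sub_eq_zero.2 (cast_regRed_mul hM hb hθ₀ θ.2 θ'.2)
  obtain ⟨n, u, s, P, hn, hdual, heig, hPs, hcP⟩ := exists_row_coords c ((p : ℤ) ^ d) hsymm hsq 2
    fun j R h1 h2 => (le_blockRank_of_rows hM hb R h1 h2).trans hl
  -- notation for the coordinates
  set S := Finset.univ.filter (fun χ : IrrCharacter G => χ ∈ B) with hS
  have hcard : Nat.card B = S.card := by
    rw [Nat.card_eq_fintype_card, hS]; exact Fintype.card_subtype _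
  rw [hcard]
  set U := (ZMod (p ^ k))ˣ with hU
  set val : U → ℕ := fun j => (j : ZMod (p ^ k)).val with hval
  have hxj : ∀ j : U, (∃ i, orderOf (x ^ val j) = p ^ i) ∧
      H = Subgroup.centralizer (Subgroup.zpowers (x ^ val j) : Set G) := fun j => by
    have hco : (orderOf x).Coprime (val j) := by
      rw [hk]; exact (ZMod.val_coe_unit_coprime j).symm
    have hord : orderOf (x ^ val j) = orderOf x := by rw [Nat.Coprime.orderOf_pow hco]
    refine ⟨⟨k, hord.trans hk⟩, ?_⟩
    rw [hH]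
    congr 2
    exact (Subgroup.eq_of_le_of_card_ge (Subgroup.zpowers_le.2 (Subgroup.pow_mem _
      (Subgroup.mem_zpowers x) _)) (by rw [Nat.card_zpowers, Nat.card_zpowers, hord])).symm
  set lam : b → ℂ := fun θ => centralValue x θ.1 with hlam
  have hlam1 : ∀ θ, lam θ ^ p ^ k = 1 := fun θ =>
    centralValue_pow hH (by rw [← hk, pow_orderOf_eq_one]) _
  set X : IrrCharacter G → (b → ℤ) → U → ℂ := fun χ r j =>
    ∑ θ : b, sectCoef (x ^ val j) χ θ.1 * (r θ : ℂ) with hX
  have hXroot : ∀ χ r j, X χ r j =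
      ∑ θ : b, (((resMult H χ θ.1 : ℤ) * r θ : ℤ) : ℂ) * lam θ ^ val j := fun χ r j => by
    simp only [hX]
    exact Finset.sum_congr rfl fun θ _ => by rw [sectCoef_pow hH]; push_cast; ring
  have hXzero : ∀ χ r (j : U), X χ r j = 0 → ∀ j', X χ r j' = 0 := fun χ r j h j' => by
    rw [hXroot] at h ⊢
    exact roots_zero_at_units Finset.univ _ _ hlam1 h j'
  have hXsum : ∀ r : b → ℤ, (∀ θ, ∑ ψ, c θ ψ * r ψ = (p : ℤ) ^ d * r θ) →
      ∑ χ ∈ S, ∑ j, ‖X χ r j‖ ^ 2 = (Fintype.card U : ℝ) * ((∑ θ, r θ * r θ : ℤ) : ℝ) :=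
    fun r hr => by
    rw [Finset.sum_comm, Finset.sum_congr rfl fun j _ =>
      sum_norm_sq_coord hM (hxj j).1 (hxj j).2 hind r hr, Finset.sum_const, Finset.card_univ,
      nsmul_eq_mul]
  have hXavg : ∀ χ r, (∀ j, X χ r j ≠ 0) → (Fintype.card U : ℝ) ≤ ∑ j, ‖X χ r j‖ ^ 2 :=
    fun χ r h => by
    simp only [hXroot] at h ⊢
    exact card_units_le_sum_norm_sq_roots _ _ _ hlam1 h
  have hF : ∀ χ ψ j, contribution p (x ^ val j) b χ ψ =
      ∑ i, ∑ i', (P i i' : ℂ) * (X χ (u i) j * conj (X ψ (u i') j)) := fun χ ψ j => by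
    rw [contribution_def, Finset.sum_subtype (p := (· ∈ b)) _ (fun θ => by simp)]
    rw [Finset.sum_congr rfl fun θ _ => Finset.sum_subtype (p := (· ∈ b)) _ (fun θ => by simp) _]
    simp only [hX, map_sum, map_mul, map_intCast, Finset.sum_mul, Finset.mul_sum]
    conv_rhs => rw [Finset.sum_congr rfl fun i _ => Finset.sum_comm, Finset.sum_comm]
    conv_rhs => rw [Finset.sum_congr rfl fun θ' _ => Finset.sum_congr rfl fun i _ => Finset.sum_comm]
    conv_rhs => rw [Finset.sum_congr rfl fun θ' _ => Finset.sum_comm]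
    conv_lhs => rw [Finset.sum_comm]
    refine Finset.sum_congr rfl fun θ' _ => Finset.sum_congr rfl fun θ _ => ?_
    rw [show regRed p b θ.1 θ'.1 = c θ θ' from rfl, hcP]
    push_cast
    simp only [Finset.sum_mul]
    exact Finset.sum_congr rfl fun i _ => Finset.sum_congr rfl fun i' _ => by ring
  have hne : ∀ χ ∈ S, ∀ j : U, contribution p (x ^ val j) b χ φ ≠ 0 ∧
      (blockHeight p B ((χ : IrrCharacter G) : G → ℂ) ≠ 0 →
        res M (contribution p (x ^ val j) b χ χ) = 0) := fun χ hχ j =>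
    contribution_height (hxj j).2 (hxj j).1 hM hind hdef (Finset.mem_filter.1 hχ).2 hφ hφ0
  have hU0 : (0 : ℝ) < Fintype.card U := Nat.cast_pos.2 Fintype.card_pos
  have finish : ∀ A : ℤ, A ≤ (p : ℤ) ^ d →
      (S.card : ℝ) * Fintype.card U ≤ (Fintype.card U : ℝ) * (A : ℝ) → S.card ≤ p ^ d := fun A hA h => by
    rw [mul_comm (S.card : ℝ)] at h
    have h1 := le_of_mul_le_mul_left h hU0
    have : ((S.card : ℕ) : ℤ) ≤ A := by exact_mod_cast h1
    exact_mod_cast this.trans hA
  match n, hn, u, s, P, hdual, heig, hPs, hcP, hF with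
  | 0, _, _, _, _, _, _, _, hcP, _ => exact absurd (by simp [hcP]) h00
  | 1, _, u, s, P, hdual, heig, _, hcP, hF =>
    have hP0 : P 0 0 * ∑ θ, u 0 θ * u 0 θ = (p : ℤ) ^ d := by
      have h1 : ∀ θ, (P 0 0 * ∑ ψ, u 0 ψ * u 0 ψ) * u 0 θ = (p : ℤ) ^ d * u 0 θ := fun θ => by
        rw [← heig 0 θ, Finset.mul_sum, Finset.sum_mul]
        exact Finset.sum_congr rfl fun ψ _ => by
          rw [hcP]; simp only [Fin.sum_univ_one]; ring
      have h2 := Finset.sum_congr (s₁ := Finset.univ) rfl fun θ _ => congrArg (s 0 θ * ·) (h1 θ)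
      simp only [mul_left_comm (s 0 _), ← Finset.mul_sum] at h2
      simpa [hdual 0 0] using h2
    have hA : ∑ θ, u 0 θ * u 0 θ ≤ (p : ℤ) ^ d := by
      have hN : (0 : ℤ) < (p : ℤ) ^ d := pow_pos (by exact_mod_cast hM.1.pos) _
      have hA0 : 0 ≤ ∑ θ, u 0 θ * u 0 θ := Finset.sum_nonneg fun θ _ => mul_self_nonneg _
      have hP1 : 1 ≤ P 0 0 := pos_of_mul_pos_left (hP0 ▸ hN) hA0
      rw [← hP0]
      exact le_mul_of_one_le_left hA0 hP1
    refine finish _ hA ?_
    rw [← hXsum (u 0) (heig 0)]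
    calc (S.card : ℝ) * Fintype.card U = ∑ χ ∈ S, (Fintype.card U : ℝ) := by simp
      _ ≤ _ := Finset.sum_le_sum fun χ hχ => hXavg χ _ fun j h => (hne χ hχ j).1 (by simp [hF, h])
  | 2, _, u, s, P, hdual, heig, hPs, hcP, _ =>
    have hpair : CoordPair c ((p : ℤ) ^ d) (u 0) (u 1) := by
      refine ⟨⟨s 0, s 1, ?_, ?_, ?_, ?_⟩, heig 0, heig 1, P 0 0, P 0 1, P 1 1, fun θ θ' => ?_⟩
      · simpa using hdual 0 0
      · simpa using hdual 0 1
      · simpa using hdual 1 0
      · simpa using hdual 1 1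
      · rw [hcP]; simp only [Fin.sum_univ_two]; rw [hPs 1 0]; ring
    obtain ⟨f, g, hfg, h0, h1, h2⟩ := hpair.exists_reduced
    have hcases := hfg.reduced_cases hM.1 h00 hres h0 h1 h2
    obtain ⟨-, hf, hg, P', Q', R', hc'⟩ := hfg
    have hF' : ∀ χ ψ j, contribution p (x ^ val j) b χ ψ =
        (P' : ℂ) * (X χ f j * conj (X ψ f j)) + (Q' : ℂ) * (X χ f j * conj (X ψ g j)
          + X χ g j * conj (X ψ f j)) + (R' : ℂ) * (X χ g j * conj (X ψ g j)) := fun χ ψ j => by
      rw [contribution_def, Finset.sum_subtype (p := (· ∈ b)) _ (fun θ => by simp)]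
      rw [Finset.sum_congr rfl fun θ _ => Finset.sum_subtype (p := (· ∈ b)) _ (fun θ => by simp) _]
      simp only [hX, map_sum, map_mul, map_intCast, Finset.sum_mul, Finset.mul_sum,
        ← Finset.sum_add_distrib]
      conv_rhs => rw [Finset.sum_comm]
      refine Finset.sum_congr rfl fun θ _ => Finset.sum_congr rfl fun θ' _ => ?_
      rw [show regRed p b θ.1 θ'.1 = c θ θ' from rfl, hc']
      push_cast
      ring
    have hboth : ∀ χ ∈ S, ∀ j, X χ f j ≠ 0 ∨ X χ g j ≠ 0 := fun χ hχ j => by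
      by_contra h
      push Not at h
      exact (hne χ hχ j).1 (by simp [hF', h.1, h.2])
    rcases hcases with hle | ⟨hA2, hB, P'', hc''⟩
    · -- the form `x ^ 2 - x y + y ^ 2`
      set q : b → ℤ := fun θ => f θ - g θ with hq
      have hXq : ∀ χ j, X χ q j = X χ f j - X χ g j := fun χ j => by
        simp only [hX, hq, Int.cast_sub, mul_sub, Finset.sum_sub_distrib]
      have heq : ∀ θ, ∑ ψ, c θ ψ * q ψ = (p : ℤ) ^ d * q θ := fun θ => by
        simp only [hq, mul_sub, Finset.sum_sub_distrib, hf, hg]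
      refine finish _ hle ?_
      have htot : (Fintype.card U : ℝ) *
          ((∑ θ, f θ * f θ + ∑ θ, g θ * g θ - ∑ θ, f θ * g θ : ℤ) : ℝ) =
          ∑ χ ∈ S, (1 / 2 : ℝ) * (∑ j, ‖X χ f j‖ ^ 2 + ∑ j, ‖X χ g j‖ ^ 2 + ∑ j, ‖X χ q j‖ ^ 2) := by
        rw [← Finset.mul_sum, Finset.sum_add_distrib, Finset.sum_add_distrib, hXsum f hf,
          hXsum g hg, hXsum q heq]
        have : ∑ θ, q θ * q θ = ∑ θ, f θ * f θ + ∑ θ, g θ * g θ - 2 * ∑ θ, f θ * g θ := by
          simp only [hq, Finset.mul_sum, ← Finset.sum_add_distrib, ← Finset.sum_sub_distrib]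
          exact Finset.sum_congr rfl fun θ _ => by ring
        rw [this]
        push_cast
        ring
      rw [htot]
      calc (S.card : ℝ) * Fintype.card U = ∑ χ ∈ S, (Fintype.card U : ℝ) := by simp
        _ ≤ _ := Finset.sum_le_sum fun χ hχ => ?_
      have hnn : ∀ r, 0 ≤ ∑ j, ‖X χ r j‖ ^ 2 := fun r => Finset.sum_nonneg fun j _ => sq_nonneg _
      by_cases hf0 : ∀ j, X χ f j ≠ 0
      · by_cases hg0 : ∀ j, X χ g j ≠ 0
        · linarith [hXavg χ f hf0, hXavg χ g hg0, hnn q]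
        · push Not at hg0
          obtain ⟨j₀, hj₀⟩ := hg0
          have := hXzero χ g j₀ hj₀
          have := hXavg χ q fun j => by rw [hXq, this j, sub_zero]; exact hf0 j
          linarith [hXavg χ f hf0, hnn g]
      · push Not at hf0
        obtain ⟨j₀, hj₀⟩ := hf0
        have h' := hXzero χ f j₀ hj₀
        have hg0 : ∀ j, X χ g j ≠ 0 := fun j => (hboth χ hχ j).resolve_left (not_not.2 (h' j))
        have := hXavg χ q fun j => by rw [hXq, h' j, zero_sub, neg_ne_zero]; exact hg0 j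
        linarith [hXavg χ g hg0, hnn f]
    · -- the split case
      by_cases hall : ∀ χ ∈ S, ∀ j, X χ g j ≠ 0
      · refine finish _ le_rfl ?_
        rw [← hB, ← hXsum g hg]
        calc (S.card : ℝ) * Fintype.card U = ∑ χ ∈ S, (Fintype.card U : ℝ) := by simp
          _ ≤ _ := Finset.sum_le_sum fun χ hχ => hXavg χ _ (hall χ hχ)
      push Not at hall
      obtain ⟨χ₂, hχ₂, j₂, hj₂⟩ := hall
      have hg2 := hXzero χ₂ g j₂ hj₂
      have hF'' : ∀ χ ψ j, contribution p (x ^ val j) b χ ψ =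
          (P'' : ℂ) * (X χ f j * conj (X ψ f j)) + X χ g j * conj (X ψ g j) := fun χ ψ j => by
        rw [contribution_def, Finset.sum_subtype (p := (· ∈ b)) _ (fun θ => by simp)]
        rw [Finset.sum_congr rfl fun θ _ => Finset.sum_subtype (p := (· ∈ b)) _ (fun θ => by simp) _]
        simp only [hX, map_sum, map_mul, map_intCast, Finset.sum_mul, Finset.mul_sum,
          ← Finset.sum_add_distrib]
        conv_rhs => rw [Finset.sum_comm]
        refine Finset.sum_congr rfl fun θ _ => Finset.sum_congr rfl fun θ' _ => ?_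
        rw [show regRed p b θ.1 θ'.1 = c θ θ' from rfl, hc'']
        push_cast
        ring
      refine finish _ le_rfl ?_
      have key : ∀ χ ∈ S,
          (Fintype.card U : ℝ) ≤ ∑ j, ‖X χ f j‖ ^ 2 + (1 / 2) * ∑ j, ‖X χ g j‖ ^ 2 := by
        intro χ hχ
        have hnn : ∀ r, 0 ≤ ∑ j, ‖X χ r j‖ ^ 2 := fun r => Finset.sum_nonneg fun j _ => sq_nonneg _
        by_cases hf0 : ∀ j, X χ f j ≠ 0
        · linarith [hXavg χ f hf0, hnn g]
        · push Not at hf0
          obtain ⟨j₀, hj₀⟩ := hf0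
          have h' := hXzero χ f j₀ hj₀
          have hpos : blockHeight p B ((χ : IrrCharacter G) : G → ℂ) ≠ 0 := fun h0' => by
            refine (contribution_height (hxj j₀).2 (hxj j₀).1 hM hind hdef
              (Finset.mem_filter.1 hχ₂).2 (Finset.mem_filter.1 hχ).2 h0').1 ?_
            rw [hF'', hj₀, hg2 j₀]
            simp
          have hr := (hne χ hχ j₀).2 hpos
          rw [hF'', hj₀, zero_mul, mul_zero, zero_add] at hr
          set mg : ℤ := ∑ θ : b, (resMult H χ θ.1 : ℤ) * g θ with hmg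
          have hY : X χ g j₀ ∈ place M ∧ res M (X χ g j₀) = (mg : Res M) ∧
              conj (X χ g j₀) ∈ place M ∧ res M (conj (X χ g j₀)) = (mg : Res M) := by
            have hs := fun θ : b => sectCoef_mem_place (hxj j₀).2 (hxj j₀).1 hM χ θ.1
            simp only [hX, map_sum, map_mul, map_intCast, hmg]
            refine ⟨sum_mem fun θ _ => mul_mem (hs θ).1 (intCast_mem _ _), ?_,
              sum_mem fun θ _ => mul_mem (hs θ).2.2.1 (intCast_mem _ _), ?_⟩
            · rw [res_sum _ _ fun θ _ => mul_mem (hs θ).1 (intCast_mem _ _)]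
              push_cast
              exact Finset.sum_congr rfl fun θ _ => by
                rw [res_mul (hs θ).1 (intCast_mem _ _), (hs θ).2.1, res_intCast]
            · rw [res_sum _ _ fun θ _ => mul_mem (hs θ).2.2.1 (intCast_mem _ _)]
              push_cast
              exact Finset.sum_congr rfl fun θ _ => by
                rw [res_mul (hs θ).2.2.1 (intCast_mem _ _), (hs θ).2.2.2.1, res_intCast]
          rw [res_mul hY.1 hY.2.2.1, hY.2.1, hY.2.2.2, mul_self_eq_zero] at hr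
          haveI := charP_res hM
          have hdvd : (p : ℤ) ∣ mg := (CharP.intCast_eq_zero_iff (Res M) p _).1 hr
          have hg0 : ∀ j, X χ g j ≠ 0 := fun j => (hboth χ hχ j).resolve_left (not_not.2 (h' j))
          have h2' : 2 * (Fintype.card U : ℝ) ≤ ∑ j, ‖X χ g j‖ ^ 2 := by
            simp only [hXroot] at hg0 ⊢
            exact two_mul_card_units_le_sum_norm_sq_roots hM.1 _ _ _ hlam1 hdvd hg0
          linarith [hnn f]
      calc (S.card : ℝ) * Fintype.card U = ∑ χ ∈ S, (Fintype.card U : ℝ) := by simp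
        _ ≤ ∑ χ ∈ S, (∑ j, ‖X χ f j‖ ^ 2 + (1 / 2) * ∑ j, ‖X χ g j‖ ^ 2) := Finset.sum_le_sum key
        _ = (Fintype.card U : ℝ) * ((∑ θ, f θ * f θ : ℤ) : ℝ) +
              (1 / 2) * ((Fintype.card U : ℝ) * ((∑ θ, g θ * g θ : ℤ) : ℝ)) := by
            rw [Finset.sum_add_distrib, ← Finset.mul_sum, hXsum f hf, hXsum g hg]
        _ ≤ _ := by
            rw [hB]
            have hA2' : 2 * ((∑ θ, f θ * f θ : ℤ) : ℝ) ≤ (((p : ℤ) ^ d : ℤ) : ℝ) := by
              exact_mod_cast hA2
            nlinarith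
  | n + 3, hn, _, _, _, _, _, _, _, _ => omega

end Cfsg.Lib.Blocks
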