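import Mathlib
import Cfsg.Agent.Blocks.Feit2
import Cfsg.Agent.Blocks.Columns
import Cfsg.Agent.Blocks.CentralDefect

/-!
# Degree squares of a block, rank and defect zero, central defect groups
-/

set_option autoImplicit false
set_option linter.unusedSectionVars false

namespace Cfsg.Lib.Blocks

open scoped ComplexConjugate
open Cfsg.Lib.Chars

universe u

variable {G : Type u} [Group G] [Fintype G] {M : Ideal AlgInt} {p : ℕ}
  {B : Set (IrrCharacter G)}

/-- The multiplicities in the permutation character on the cosets of a Sylow subgroup invert the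
regular inner products on the degrees. -/
theorem exists_regInt_inverse (hM : IsPModular p M) (hB : IsPBlock M B) [DecidablePred (· ∈ B)] :
    ∃ z : IrrCharacter G → ℕ, ∀ χ ∈ B,
      ∑ ψ ∈ Finset.univ.filter (· ∈ B), regInt p χ ψ * (z ψ : ℤ) = (deg (χ : G → ℂ) : ℤ) := by
  classical
  haveI := Fact.mk hM.1
  let S : Sylow p G := default
  letI := Fintype.ofFinite (S : Subgroup G)
  set η : G → ℂ := indFun (S : Subgroup G) (fun _ => 1) with hη
  have hηc : IsCharacter G η :=
    IsCharacter.indFun (isCharacter_of_irr (isIrrCharacter_one (G := (S : Subgroup G))))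
  choose z hz using fun ψ : IrrCharacter G => IsCharacter.exists_mult hηc ψ.2
  refine ⟨z, fun χ hχ => ?_⟩
  have hzero : ∀ g : G, ¬ p ∣ orderOf g → g ≠ 1 → η g = 0 := fun g hg hg1 =>
    indFun_eq_zero_of_forall _ _ g fun x hx => by
      obtain ⟨k, hk⟩ := exists_orderOf_eq_of_mem hM.1 S.2 hx
      rw [show x⁻¹ * g * x = MulAut.conj x⁻¹ g by simp, MulEquiv.orderOf_eq] at hk
      rcases k with _ | k
      · exact hg1 (orderOf_eq_one_iff.1 hk)
      · exact hg (hk ▸ dvd_pow_self p k.succ_ne_zero)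
  have hcf : IsClassFunction G (pRegularPart p (χ : G → ℂ)) := fun g k => by
    rw [pRegularPart_apply, pRegularPart_apply, isClassFunction_irr χ g k]
    have : orderOf (k * g * k⁻¹) = orderOf g :=
      orderOf_injective (MulAut.conj k).toMonoidHom (MulAut.conj k).injective g
    simp [this]
  apply Int.cast_injective (α := ℂ)
  push_cast
  have hall : ∑ ψ ∈ Finset.univ.filter (· ∈ B), (regInt p χ ψ : ℂ) * (z ψ : ℂ) =
      ∑ ψ : IrrCharacter G, (regInt p χ ψ : ℂ) * (z ψ : ℂ) := by
    rw [Finset.sum_filter]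
    refine Finset.sum_congr rfl fun ψ _ => ?_
    split_ifs with h
    · rfl
    · rw [regInt_eq_zero hM hB hχ h, Int.cast_zero, zero_mul]
  have hinner : classInner (pRegularPart p (χ : G → ℂ)) η =
      ∑ ψ : IrrCharacter G, classInner (pRegularPart p (χ : G → ℂ)) (ψ : G → ℂ) * (z ψ : ℂ) := by
    conv_lhs => rw [classFunction_expand hcf]
    rw [classInner_sum_left]
    refine Finset.sum_congr rfl fun ψ _ => ?_
    rw [classInner_smul_left, ← classInner_conj_symm η (ψ : G → ℂ), hz ψ, Complex.conj_natCast]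
  rw [hall, Finset.sum_congr rfl fun ψ _ => show (regInt p χ ψ : ℂ) * (z ψ : ℂ) =
    (p : ℂ) ^ (Nat.card G).factorization p *
      (classInner (pRegularPart p (χ : G → ℂ)) (ψ : G → ℂ) * (z ψ : ℂ)) by
    rw [regInt_spec hM.1, mul_assoc], ← Finset.mul_sum, ← hinner, classInner_def,
    Finset.sum_eq_single (1 : G)]
  · rw [pRegularPart_apply, if_neg (by simpa using hM.1.ne_one), hη, indFun_one, mul_one,
      Complex.conj_natCast, irr_apply_one_eq_deg, ← Nat.cast_pow, ← S.card_eq_multiplicity]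
    have h := congrArg (Nat.cast (R := ℂ)) (S : Subgroup G).card_mul_index
    push_cast at h
    rw [← h]
    have h1 : (Nat.card (S : Subgroup G) : ℂ) ≠ 0 := Nat.cast_ne_zero.2 Nat.card_pos.ne'
    have h2 : ((S : Subgroup G).index : ℂ) ≠ 0 :=
      Nat.cast_ne_zero.2 Subgroup.index_ne_zero_of_finite
    field_simp
  · intro g _ hg
    rw [pRegularPart_apply]
    split_ifs with hd
    · rw [zero_mul]
    · rw [hzero g hd hg, map_zero, mul_zero]
  · intro h; exact absurd (Finset.mem_univ _) h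

lemma blockHeight_eq_zero_iff (hM : IsPModular p M) (hB : IsPBlock M B) {g : G}
    (hg : IsDefectClass M B g) {χ : IrrCharacter G} (hχ : χ ∈ B) :
    blockHeight p B (χ : G → ℂ) = 0 ↔ (deg (χ : G → ℂ)).factorization p =
      (Subgroup.centralizer ({g} : Set G)).index.factorization p := by
  have := (degree_bounds hM hB hg).1 χ hχ
  rw [blockHeight_eq hM hB hg]
  omega

/-- **The degree squares of a block.** -/
theorem factorization_sum_sq (hM : IsPModular p M) (hB : IsPBlock M B) :
    (∑ᶠ χ ∈ B, deg ((χ : IrrCharacter G) : G → ℂ) ^ 2).factorization p =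
      2 * (Nat.card G).factorization p - blockDefect p B := by
  classical
  obtain ⟨z, hz⟩ := exists_regInt_inverse hM hB
  obtain ⟨g, hg⟩ := exists_defectClass hM hB
  obtain ⟨χ, hχ, h0⟩ := exists_height_zero hM hB
  set F := Finset.univ.filter (· ∈ B) with hF
  set a := (Nat.card G).factorization p with ha
  set c := (Subgroup.centralizer ({g} : Set G)).index.factorization p with hc
  set T : ℕ := ∑ ψ ∈ F, deg (ψ : G → ℂ) * z ψ with hT
  have hlam : ∑ ψ ∈ F, deg (ψ : G → ℂ) ^ 2 = p ^ a * T := by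
    apply Int.ofNat_inj.1
    push_cast [hT]
    calc ∑ ψ ∈ F, (deg (ψ : G → ℂ) : ℤ) ^ 2
        = ∑ ψ ∈ F, (deg (ψ : G → ℂ) : ℤ) * ∑ φ ∈ F, regInt p ψ φ * (z φ : ℤ) :=
          Finset.sum_congr rfl fun ψ hψ => by
            rw [hz ψ (Finset.mem_filter.1 hψ).2, sq]
      _ = ∑ φ ∈ F, (∑ ψ ∈ F, regInt p φ ψ * (deg (ψ : G → ℂ) : ℤ)) * (z φ : ℤ) := by
          simp only [Finset.mul_sum, Finset.sum_mul]
          rw [Finset.sum_comm]
          refine Finset.sum_congr rfl fun φ _ => Finset.sum_congr rfl fun ψ _ => ?_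
          rw [regInt_symm hM.1 φ ψ]; ring
      _ = _ := by
          rw [Finset.mul_sum]
          refine Finset.sum_congr rfl fun φ hφ => ?_
          rw [sum_regInt_mul_deg hM hB (Finset.mem_filter.1 hφ).2, ha]
          ring
  -- the valuation of `T`
  set m : ℕ := Nat.card G / p ^ a with hm
  have hm0 : (m : ℂ) ≠ 0 := IsUnitAt.ne_zero (isUnitAt_pPrime (G := G) hM)
  have hω := isCentralFn_regElem (p := p) χ
  have hωi := integral_regElem (p := p) hM χ
  set u : ℂ := omega (χ : G → ℂ) (regElem p χ) with hu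
  have huu : IsUnitAt M u := isUnitAt_omega_regElem hM hB hχ h0 hχ
  have hsmall : ∀ ψ ∈ F, Small M (omega (ψ : G → ℂ) (regElem p χ) - u) := fun ψ hψ => by
    rw [← res_eq_iff (omega_mem_place hM ψ hω hωi) (omega_mem_place hM χ hω hωi)]
    exact res_omega_eq_of_sameBlock hM (IsPBlock.sameBlock hM hB (Finset.mem_filter.1 hψ).2 hχ)
      hω hωi
  have heq : (m : ℂ) * (deg (χ : G → ℂ) : ℂ) = u * (T : ℂ) +
      ∑ ψ ∈ F, (omega (ψ : G → ℂ) (regElem p χ) - u) * ((deg (ψ : G → ℂ) * z ψ : ℕ) : ℂ) := by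
    rw [hT, Nat.cast_sum, Finset.mul_sum, ← Finset.sum_add_distrib,
      show (deg (χ : G → ℂ) : ℂ) = ((deg (χ : G → ℂ) : ℤ) : ℂ) by push_cast; rfl, ← hz χ hχ,
      Int.cast_sum, Finset.mul_sum]
    refine Finset.sum_congr rfl fun ψ _ => ?_
    push_cast
    rw [← add_mul, add_sub_cancel, ← mul_assoc, hm, ha, ← omega_regElem_mul hM.1]
    ring
  have hπ : (place M).valuation (p : ℂ) ^ c ≠ 0 :=
    (pow_pos (valuation_prime_pos hM) _).ne'
  have hlt : (place M).valuation (∑ ψ ∈ F, (omega (ψ : G → ℂ) (regElem p χ) - u) *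
      ((deg (ψ : G → ℂ) * z ψ : ℕ) : ℂ)) < (place M).valuation (p : ℂ) ^ c := by
    refine (place M).valuation.map_sum_lt hπ fun ψ hψ => ?_
    rw [map_mul]
    rcases Nat.eq_zero_or_pos (deg (ψ : G → ℂ) * z ψ) with h | h
    · rw [h, Nat.cast_zero, map_zero, mul_zero]; exact pow_pos (valuation_prime_pos hM) _
    · have h1 : (place M).valuation ((deg (ψ : G → ℂ) * z ψ : ℕ) : ℂ) ≤
          (place M).valuation (p : ℂ) ^ c := by
        rw [valuation_natCast hM h.ne', valuation_prime_pow_le_iff hM]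
        refine ((degree_bounds hM hB hg).1 ψ (Finset.mem_filter.1 hψ).2).trans ?_
        exact (Nat.factorization_le_iff_dvd (deg_irr_pos ψ).ne' h.ne').2 (dvd_mul_right _ _) p
      exact lt_of_le_of_lt (mul_le_mul_right h1 _)
        (mul_lt_of_lt_one_left (pow_pos (valuation_prime_pos hM) _) (small_iff.1 (hsmall ψ hψ)))
  have hlhs : (place M).valuation ((m : ℂ) * (deg (χ : G → ℂ) : ℂ)) =
      (place M).valuation (p : ℂ) ^ c := by
    rw [map_mul, hm, ha, isUnitAt_pPrime hM, one_mul, valuation_natCast hM (deg_irr_pos χ).ne',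
      (blockHeight_eq_zero_iff hM hB hg hχ).1 h0, hc]
  have hT0 : T ≠ 0 := by
    intro h
    rw [h, Nat.cast_zero, mul_zero, zero_add] at heq
    rw [heq] at hlhs
    exact hlt.ne hlhs
  have hvT : T.factorization p = c := by
    have hv : (place M).valuation (T : ℂ) = (place M).valuation (p : ℂ) ^ c := by
      have h1 : (place M).valuation (u * (T : ℂ)) = (place M).valuation (p : ℂ) ^ c := by
        rw [eq_sub_of_add_eq heq.symm, Valuation.map_sub_eq_of_lt_left _ (hlt.trans_eq hlhs.symm),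
          hlhs]
      rwa [map_mul, huu, one_mul] at h1
    rw [valuation_natCast hM hT0] at hv
    exact le_antisymm ((valuation_prime_pow_le_iff hM _ _).1 hv.ge)
      ((valuation_prime_pow_le_iff hM _ _).1 hv.le)
  have hd : blockDefect p B = (Nat.card (Subgroup.centralizer ({g} : Set G))).factorization p :=
    blockDefect_eq hM hB hg
  have e1 := congrArg (fun n : ℕ => n.factorization p)
    (Subgroup.card_mul_index (Subgroup.centralizer ({g} : Set G)))
  simp only [Nat.factorization_mul Nat.card_pos.ne' Subgroup.index_ne_zero_of_finite,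
    Finsupp.add_apply] at e1
  rw [sum_finsum_eq, hlam, Nat.factorization_mul (pow_ne_zero _ hM.1.ne_zero) hT0,
    Finsupp.add_apply, hM.1.factorization_pow, Finsupp.single_eq_same, hvT]
  omega

/-! ### Rank -/

lemma one_le_blockRank (hM : IsPModular p M) (hB : IsPBlock M B) : 1 ≤ blockRank p B := by
  classical
  obtain ⟨χ, hχ⟩ := IsPBlock.nonempty hM hB
  rw [blockRank]
  haveI : Nontrivial (Submodule.span ℂ
      ((fun χ : IrrCharacter G => pRegularPart p (χ : G → ℂ)) '' B)) := by
    refine ⟨⟨⟨_, Submodule.subset_span ⟨χ, hχ, rfl⟩⟩, 0, fun h => ?_⟩⟩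
    have h1 := congrFun (congrArg Subtype.val h) 1
    simp only [pRegularPart_apply, orderOf_one, Nat.dvd_one, hM.1.ne_one, if_false,
      Submodule.coe_zero, Pi.zero_apply] at h1
    exact IsIrrCharacter.apply_one_ne_zero χ.2 h1
  exact Module.finrank_pos

lemma blockRank_le_card (B : Set (IrrCharacter G)) : blockRank p B ≤ Nat.card B := by
  classical
  haveI : Fintype B := Fintype.ofFinite _
  rw [Nat.card_eq_fintype_card, blockRank,
    show (fun χ : IrrCharacter G => pRegularPart p (χ : G → ℂ)) '' B =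
      Set.range (fun χ : B => pRegularPart p ((χ : IrrCharacter G) : G → ℂ)) from
      Set.image_eq_range _ _]
  exact finrank_range_le_card _

/-- A block of defect zero has one character. -/
lemma card_eq_one_of_defect_zero (hM : IsPModular p M) (hB : IsPBlock M B)
    (h0 : blockDefect p B = 0) : Nat.card B = 1 := by
  classical
  have h1 := four_mul_card_le hM hB
  rw [h0, mul_zero, pow_zero] at h1
  obtain ⟨χ, hχ⟩ := IsPBlock.nonempty hM hB
  haveI : Nonempty B := ⟨⟨χ, hχ⟩⟩
  have h2 : 0 < Nat.card B := Nat.card_pos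
  omega

/-- **Defect zero and rank.** -/
theorem defect_zero_of_rank_eq (hM : IsPModular p M) (hB : IsPBlock M B)
    (h : Nat.card B = blockRank p B) : blockDefect p B = 0 := by
  classical
  haveI : Fintype B := Fintype.ofFinite _
  set v : B → (G → ℂ) := fun χ => pRegularPart p ((χ : IrrCharacter G) : G → ℂ) with hv
  have hli : LinearIndependent ℂ v := by
    rw [linearIndependent_iff_card_eq_finrank_span, ← Nat.card_eq_fintype_card, h, blockRank,
      Set.image_eq_range]
    rfl
  obtain ⟨χ, hχ, h0⟩ := exists_height_zero hM hB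
  set a := (Nat.card G).factorization p
  have hrel : ∀ ψ : B, (regInt p χ (ψ : IrrCharacter G) : ℂ) =
      if ψ = ⟨χ, hχ⟩ then (p : ℂ) ^ a else 0 := by
    intro ψ
    refine sub_eq_zero.1 (Fintype.linearIndependent_iff.1 hli
      (fun ψ => (regInt p χ (ψ : IrrCharacter G) : ℂ) - if ψ = ⟨χ, hχ⟩ then (p : ℂ) ^ a else 0)
      ?_ ψ)
    funext g
    simp only [Finset.sum_apply, Pi.smul_apply, smul_eq_mul, sub_mul, Finset.sum_sub_distrib,
      ite_mul, zero_mul, Finset.sum_ite_eq', Finset.mem_univ, if_true, Pi.zero_apply, hv,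
      pRegularPart_apply]
    split_ifs with hg
    · simp
    · rw [sub_eq_zero]
      have := pow_mul_pRegularPart_eq_sum hM hB hχ g
      rw [pRegularPart_apply, if_neg hg] at this
      rw [this, Finset.sum_subtype (Finset.univ.filter (· ∈ B)) (p := (· ∈ B)) (fun x => by simp)]
  obtain ⟨g, hg⟩ := exists_defectClass hM hB
  obtain ⟨hne, hv1⟩ := regInt_height_zero hM hB hχ h0 hχ
  have hval : regInt p χ χ = (p : ℤ) ^ a := by
    have := hrel ⟨χ, hχ⟩
    rw [if_pos rfl] at this
    exact_mod_cast this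
  rw [hval, Int.natAbs_pow, Int.natAbs_natCast, hM.1.factorization_pow, Finsupp.single_eq_same,
    (blockHeight_eq_zero_iff hM hB hg hχ).1 h0] at hv1
  have e1 := congrArg (fun n : ℕ => n.factorization p)
    (Subgroup.card_mul_index (Subgroup.centralizer ({g} : Set G)))
  simp only [Nat.factorization_mul Nat.card_pos.ne' Subgroup.index_ne_zero_of_finite,
    Finsupp.add_apply] at e1
  rw [blockDefect_eq hM hB hg]
  omega

/-- The rank of a block with central defect group is one. -/
theorem blockRank_central [Fact p.Prime] (hM : IsPModular p M) (hB : IsPBlock M B)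
    {P : Subgroup G} (hD : IsDefectGroup p M B P) (hPZ : P ≤ Subgroup.center G) :
    blockRank p B = 1 := by
  classical
  haveI : P.Normal := ⟨fun d hd g => by
    rwa [Subgroup.mem_center_iff.1 (hPZ hd) g, mul_inv_cancel_right]⟩
  letI := Fintype.ofFinite P
  obtain ⟨g, hg, -⟩ := id hD
  have hc : (Subgroup.centralizer ({g} : Set G)).index.factorization p =
      P.index.factorization p := by
    have h1 := IsDefectGroup.card hM hB hD
    rw [blockDefect_eq hM hB hg] at h1
    have e1 := congrArg (fun n : ℕ => n.factorization p)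
      (Subgroup.card_mul_index (Subgroup.centralizer ({g} : Set G)))
    have e2 := congrArg (fun n : ℕ => n.factorization p) (Subgroup.card_mul_index P)
    simp only [Nat.factorization_mul Nat.card_pos.ne' Subgroup.index_ne_zero_of_finite,
      Finsupp.add_apply] at e1 e2
    rw [h1, hM.1.factorization_pow, Finsupp.single_eq_same] at e2
    omega
  -- the multiplicities on `P`
  have hP1 : ∀ χ : IrrCharacter G, ∀ z : G, z ∈ P → ∀ y : G,
      (χ : G → ℂ) (z * y) = (χ : G → ℂ) z / (χ : G → ℂ) 1 * (χ : G → ℂ) y :=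
    fun χ z hz y => apply_mul_central χ (hPZ hz) y
  -- vanishing
  have hvan : ∀ χ ∈ B, ∀ w x : G, IsPPart p w x → x ∉ P → (χ : G → ℂ) w = 0 := fun χ hχ w x hx hxP =>
    apply_eq_zero_of_forall_not_mem hM hB hχ hx fun E hE hxE => hxP <| by
      obtain ⟨a, ha⟩ := IsDefectGroup.exists_eq_conj hM hB hD hE
      rw [ha] at hxE
      obtain ⟨d, hd, rfl⟩ := hxE
      simp only [MulEquiv.coe_toMonoidHom, MulAut.conj_apply]
      rwa [Subgroup.mem_center_iff.1 (hPZ hd) a, mul_inv_cancel_right]
  set R := Finset.univ.filter (fun y : G => ¬ p ∣ orderOf y) with hR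
  have key : ∀ χ ∈ B, ∀ ψ ∈ B,
      (∀ z ∈ P, (χ : G → ℂ) z / (χ : G → ℂ) 1 = (ψ : G → ℂ) z / (ψ : G → ℂ) 1) →
      ∑ w : G, (χ : G → ℂ) w * conj ((ψ : G → ℂ) w) =
        (Nat.card P : ℂ) * ∑ y ∈ R, (χ : G → ℂ) y * conj ((ψ : G → ℂ) y) := by
    intro χ hχ ψ hψ hlam
    have hunit : ∀ z ∈ P, (ψ : G → ℂ) z / (ψ : G → ℂ) 1 *
        conj ((ψ : G → ℂ) z / (ψ : G → ℂ) 1) = 1 := fun z hz => by
      have h := hP1 ψ z hz z⁻¹
      rw [mul_inv_cancel, IsCharacter.conj_inv (isCharacter_of_irr ψ.2) z] at h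
      rw [map_div₀, show conj ((ψ : G → ℂ) 1) = (ψ : G → ℂ) 1 by
        rw [irr_apply_one_eq_deg, Complex.conj_natCast], ← mul_div_assoc, ← h,
        div_self (IsIrrCharacter.apply_one_ne_zero ψ.2)]
    rw [Finset.mul_sum, ← Finset.sum_subset (Finset.subset_univ
      ((Finset.univ ×ˢ R).image fun zy : P × G => (zy.1 : G) * zy.2))]
    · rw [Finset.sum_image]
      · rw [Finset.sum_product, Finset.sum_comm]
        refine Finset.sum_congr rfl fun y _ => ?_
        rw [Finset.sum_congr rfl (g := fun _ : P => (χ : G → ℂ) y * conj ((ψ : G → ℂ) y))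
          fun z _ => ?_, Finset.sum_const, Finset.card_univ, nsmul_eq_mul, Nat.card_eq_fintype_card]
        rw [hP1 χ z z.2, hP1 ψ z z.2, hlam z z.2, map_mul]
        linear_combination ((χ : G → ℂ) y * conj ((ψ : G → ℂ) y)) * hunit z z.2
      · rintro ⟨z, y⟩ hy ⟨z', y'⟩ hy' heq
        simp only [Finset.coe_product, Set.mem_prod, Finset.mem_coe, hR, Finset.mem_filter] at hy hy'
        have hcm : ∀ (z : P) (y : G), Commute (z : G) y := fun z y =>
          (Subgroup.mem_center_iff.1 (hPZ z.2) y).symm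
        have h1 := isPPart_mul (hcm z y)
          (exists_orderOf_eq_of_mem hM.1 (IsDefectGroup.isPGroup hD) z.2) hy.2.2
        have h2 := isPPart_mul (hcm z' y')
          (exists_orderOf_eq_of_mem hM.1 (IsDefectGroup.isPGroup hD) z'.2) hy'.2.2
        have he : (z : G) * y = (z' : G) * y' := heq
        rw [← he] at h2
        have hzz := IsPPart.eq hM.1 h1 h2
        obtain rfl : z = z' := Subtype.ext hzz
        exact Prod.ext rfl (mul_left_cancel he)
    · intro w _ hw
      obtain ⟨x, hx⟩ := exists_isPPart' hM.1 w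
      have hxP : x ∉ P := by
        intro hxP
        obtain ⟨y, hy, -, -, hny⟩ := hx
        exact hw (Finset.mem_image.2 ⟨⟨⟨x, hxP⟩, y⟩, by simp [hR, hny], hy⟩)
      rw [hvan χ hχ w x hx hxP, zero_mul]
  have hreg : ∀ χ ψ : IrrCharacter G, classInner (pRegularPart p (χ : G → ℂ)) (ψ : G → ℂ) =
      (Nat.card G : ℂ)⁻¹ * ∑ y ∈ R, (χ : G → ℂ) y * conj ((ψ : G → ℂ) y) := fun χ ψ => by
    rw [classInner_def, hR, Finset.sum_filter]
    congr 1
    refine Finset.sum_congr rfl fun y _ => ?_
    rw [pRegularPart_apply]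
    split_ifs <;> simp
  have hPne : (Nat.card P : ℂ) ≠ 0 := Nat.cast_ne_zero.2 Nat.card_pos.ne'
  have hone : ∀ χ ψ : IrrCharacter G, χ ∈ B → ψ ∈ B →
      (∀ z ∈ P, (χ : G → ℂ) z / (χ : G → ℂ) 1 = (ψ : G → ℂ) z / (ψ : G → ℂ) 1) →
      classInner (χ : G → ℂ) (ψ : G → ℂ) =
        (Nat.card P : ℂ) * classInner (pRegularPart p (χ : G → ℂ)) (ψ : G → ℂ) := by
    intro χ ψ hχ hψ hlam
    rw [classInner_def, key χ hχ ψ hψ hlam, hreg]
    ring
  -- equal height
  have hheight : ∀ χ ∈ B, blockHeight p B (χ : G → ℂ) = 0 := fun χ hχ => by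
    rw [blockHeight_eq_zero_iff hM hB hg hχ, hc]
    refine le_antisymm ?_ (hc ▸ (degree_bounds hM hB hg).1 χ hχ)
    obtain ⟨n, ρ, hρ, hρc⟩ := χ.2
    have hdvd := finrank_dvd_index_of_scalar ρ P fun z hz => by
      refine schur_scalar ρ (ρ z) fun x v => ?_
      rw [← Module.End.mul_apply, ← Module.End.mul_apply, ← map_mul, ← map_mul,
        Subgroup.mem_center_iff.1 (hPZ hz) x]
    have hd : Module.finrank ℂ (Fin n → ℂ) = deg (χ : G → ℂ) := by rw [← hρc, deg_character]
    rw [hd] at hdvd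
    exact (Nat.factorization_le_iff_dvd (deg_irr_pos χ).ne' Subgroup.index_ne_zero_of_finite).2
      hdvd p
  -- a constituent on `P` determines the character
  choose θ hθi hθ using fun χ : IrrCharacter G => exists_constituent (N := P)
    (isCharacter_of_irr χ.2) (IsIrrCharacter.apply_one_ne_zero χ.2)
  have hinj : Set.InjOn (fun χ : IrrCharacter G => (⟨θ χ, hθi χ⟩ : IrrCharacter P)) B := by
    intro χ hχ ψ hψ he
    have he' : θ χ = θ ψ := congrArg Subtype.val he
    have hlam : ∀ z ∈ P, (χ : G → ℂ) z / (χ : G → ℂ) 1 = (ψ : G → ℂ) z / (ψ : G → ℂ) 1 := by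
      have h : ∀ φ : IrrCharacter G, ∀ z : P,
          (φ : G → ℂ) z / (φ : G → ℂ) 1 = θ φ z / θ φ 1 := fun φ z => by
        have hinv : ∀ x : G, conjN P x (θ φ) = θ φ := fun x => funext fun y => by
          rw [conjN_eq_comp]
          show θ φ (MulAut.conjNormal x y) = θ φ y
          congr 1
          refine Subtype.ext ?_
          rw [MulAut.conjNormal_apply, Subgroup.mem_center_iff.1 (hPZ y.2) x, mul_inv_cancel_right]
        obtain ⟨e, he, hres⟩ := restrict_eq_mult_of_invariant P φ.2 (hθi φ) hinv (hθ φ)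
        have h1 := congrFun hres z
        have h2 := congrFun hres 1
        simp only [Pi.smul_apply, smul_eq_mul, OneMemClass.coe_one] at h1 h2
        rw [h1, h2, mul_div_mul_left _ _ (Nat.cast_ne_zero.2 he.ne')]
      intro z hz
      rw [h χ ⟨z, hz⟩, h ψ ⟨z, hz⟩, he']
    by_contra hne
    have h1 := hone χ ψ hχ hψ hlam
    rw [classInner_irrChar χ.2 ψ.2, if_neg fun h => hne (Subtype.ext h)] at h1
    have h2 : regInt p χ ψ = 0 := by
      apply Int.cast_injective (α := ℂ)
      rw [regInt_spec hM.1, (mul_eq_zero.1 h1.symm).resolve_left hPne, mul_zero, Int.cast_zero]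
    exact (regInt_height_zero hM hB hχ (hheight χ hχ) hψ).1 h2
  have hcard : Nat.card B ≤ Nat.card P := by
    calc Nat.card B ≤ Nat.card (IrrCharacter P) :=
          Nat.card_le_card_of_injective (fun χ : B => (⟨θ χ, hθi χ⟩ : IrrCharacter P))
            fun χ ψ h => Subtype.ext (hinj χ.2 ψ.2 h)
      _ = Nat.card (ConjClasses P) := card_irrCharacter
      _ ≤ Nat.card P := Nat.card_le_card_of_surjective _ ConjClasses.mk_surjective
  have hl : (blockRank p B : ℂ) * (Nat.card P : ℂ) = (Nat.card B : ℂ) := by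
    rw [← sum_classInner_eq_blockRank hM hB, Finset.sum_mul, natCard_eq_filter,
      Finset.card_eq_sum_ones, Nat.cast_sum]
    refine Finset.sum_congr rfl fun χ hχ => ?_
    have h := hone χ χ (Finset.mem_filter.1 hχ).2 (Finset.mem_filter.1 hχ).2 fun _ _ => rfl
    rw [classInner_self_irr χ.2] at h
    rw [mul_comm, ← h, Nat.cast_one]
  have h1 := one_le_blockRank hM hB
  have h2 : blockRank p B * Nat.card P = Nat.card B := by exact_mod_cast hl
  have h3 : blockRank p B ≤ 1 := by
    refine Nat.le_of_mul_le_mul_right ?_ (Nat.card_pos (α := P))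
    rw [h2, one_mul]
    exact hcard
  omega

end Cfsg.Lib.Blocks
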