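import Mathlib
import Cfsg.Agent.Blocks.AbelianSubsections
import Cfsg.Agent.Blocks.MajorRankTwo
import Cfsg.Agent.Blocks.Projective

/-!
# Blocks with abelian defect group and trivial inertial quotient
-/

set_option autoImplicit false
set_option linter.unusedSectionVars false
set_option linter.style.haveILetI false

namespace Cfsg.Lib.Blocks

open Cfsg Cfsg.Lib.Chars

universe u

local notation "C⟨" P "⟩" => Subgroup.centralizer (SetLike.coe P)

variable {G : Type u} [Group G] [Fintype G] {M : Ideal AlgInt} {p : ℕ} [Fact p.Prime]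

/-- The stabilizer of a pair computed inside a subgroup containing the centralizer. -/
theorem isPairStab_down (hM : IsPModular p M) {H P T : Subgroup G} [Fintype H] (hPH : P ≤ H)
    (hCH : C⟨P⟩ ≤ H) {c : Set (IrrCharacter C⟨P⟩)} (hc : IsPBlock M c) (hT : IsPairStab P c T) :
    IsPairStab (P.subgroupOf H) (downSet hPH c) (T.subgroupOf H) := by
  classical
  have hcb : IsPBlock M (downSet (H := H) hPH c) := isPBlock_downSet hPH hCH hc
  intro x
  have hN : x ∈ Subgroup.normalizer ((P.subgroupOf H : Subgroup H) : Set H) ↔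
      (x : G) ∈ Subgroup.normalizer (P : Set G) := by
    rw [Subgroup.mem_normalizer_iff, Subgroup.mem_normalizer_iff]
    refine ⟨fun h a => ⟨fun ha => (h ⟨a, hPH ha⟩).1 ha, fun ha => ?_⟩,
      fun h a => h (a : G)⟩
    have haH : a ∈ H := by
      have h3 := H.mul_mem (H.mul_mem (H.inv_mem x.2) (hPH ha)) x.2
      rwa [show (x : G)⁻¹ * ((x : G) * a * (x : G)⁻¹) * x = a by group] at h3
    exact (h ⟨a, haH⟩).2 ha
  rw [Subgroup.mem_subgroupOf, hT (x : G)]
  constructor
  · rintro ⟨h1, h2⟩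
    refine ⟨hN.2 h1, (stabilizes_iff_of_normalizer hM hcb (hN.2 h1)).2 ?_⟩
    rw [← (emb_injective H).eq_iff, ← cj_emb, emb_bi_downSet hPH hCH]
    exact (stabilizes_iff_of_normalizer hM hc h1).1 h2
  · rintro ⟨h1, h2⟩
    refine ⟨hN.1 h1, (stabilizes_iff_of_normalizer hM hc (hN.1 h1)).2 ?_⟩
    have h3 := (stabilizes_iff_of_normalizer hM hcb h1).1 h2
    rwa [← (emb_injective H).eq_iff, ← cj_emb, emb_bi_downSet hPH hCH] at h3

lemma centralizer_subgroupOf_eq {H P : Subgroup G} (hPH : P ≤ H) :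
    Subgroup.centralizer ((P.subgroupOf H : Subgroup H) : Set H) = C⟨P⟩.subgroupOf H := by
  ext x
  rw [Subgroup.mem_subgroupOf, isSubOf_centralizer H P hPH x]
  exact ⟨fun h => h.1, fun h => ⟨h, x.2⟩⟩

/-- **An abelian defect group with trivial inertial quotient has a single Brauer character.** -/
theorem blockRank_eq_one_of_trivial_inertia (hM : IsPModular p M) {B : Set (IrrCharacter G)}
    {P : Subgroup G} {c : Set (IrrCharacter C⟨P⟩)} (hD : IsDefectGroup p M B P)
    (hab : ∀ a ∈ P, ∀ b ∈ P, a * b = b * a) (hc : IsBrauerPairOf p M B P c)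
    (hT : IsPairStab P c C⟨P⟩) : blockRank p B = 1 := by
  suffices key : ∀ (n : ℕ) (G : Type u) [Group G] [Fintype G], Nat.card G = n →
      ∀ (B : Set (IrrCharacter G)) (P : Subgroup G) (c : Set (IrrCharacter C⟨P⟩)),
      IsDefectGroup p M B P → (∀ a ∈ P, ∀ b ∈ P, a * b = b * a) → IsBrauerPairOf p M B P c →
      IsPairStab P c C⟨P⟩ → blockRank p B = 1 from key _ G rfl B P c hD hab hc hT
  intro n
  induction n using Nat.strong_induction_on with
  | _ n ih =>
  intro G _ _ hn B P c hD hab hc hT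
  classical
  by_cases hZ : P ≤ Subgroup.center G
  · exact blockRank_central hM hc.2.1 hD hZ
  obtain ⟨y₀, hy₀, hy₀Z⟩ := SetLike.not_le_iff_exists.1 hZ
  have hy₀1 : y₀ ≠ 1 := fun h => hy₀Z (h ▸ Subgroup.one_mem _)
  set H := C⟨Subgroup.zpowers y₀⟩ with hH
  letI := Fintype.ofFinite H
  obtain ⟨f, hf⟩ := exists_below hM hc.1 hab hy₀
  have hPH : P ≤ H := le_centralizer_zpowers hab hy₀
  have hCH : C⟨P⟩ ≤ H := centralizer_le_zpowers hy₀
  -- the block below has rank one
  have hlt : Nat.card H < n := by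
    rw [← hn]
    refine lt_of_le_of_ne (Subgroup.card_le_card_group H) fun he => hy₀Z ?_
    have htop := Subgroup.eq_top_of_card_eq H he
    refine Subgroup.mem_center_iff.2 fun g => ?_
    have hg : g ∈ H := htop ▸ Subgroup.mem_top g
    rw [hH, centralizer_zpowers, Subgroup.mem_centralizer_singleton_iff] at hg
    exact hg
  obtain ⟨hfD, hfc⟩ := hf.defect hM hD hc hab hy₀
  have hstab := isPairStab_down hM hPH hCH hc.1.2 hT
  rw [← centralizer_subgroupOf_eq hPH] at hstab
  have hlf : blockRank p f = 1 := ih _ hlt H rfl f _ _ hfD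
    (fun a ha b hb => Subtype.ext (hab _ ha _ hb)) hfc hstab
  -- the block below is major
  have hdef : blockDefect p f = blockDefect p B := by
    have h1 := IsDefectGroup.card hM hf.1 hfD
    rw [Nat.card_congr (Subgroup.subgroupOfEquivOfLe hPH).toEquiv,
      IsDefectGroup.card hM hc.2.1 hD] at h1
    exact (Nat.pow_right_injective hM.1.two_le h1).symm
  have hind := ((isBrauerPairOf_iff hM B _ f).1 (hf.pair hM hc hab hy₀)).2
  obtain ⟨j, hj⟩ := exists_orderOf_eq_of_mem hM.1 hc.1.1 hy₀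
  have hk : Nat.card B ≤ p ^ blockDefect p B :=
    card_le_pow_defect_of_rank_le_two hM ⟨j, hj⟩ hH hind hdef (by omega)
  rw [← IsDefectGroup.card hM hc.2.1 hD] at hk
  -- the counting
  have hfree : ∀ y ∈ P, y ≠ 1 → ∀ t ∈ C⟨P⟩, t * y * t⁻¹ = y → t ∈ C⟨P⟩ :=
    fun _ _ _ t ht _ => ht
  have hex : ∀ y : G, ∃ m : ℕ, (y ∈ P → 1 ≤ m) ∧ ∀ f : Set (IrrCharacter C⟨Subgroup.zpowers y⟩),
      y ∈ P → IsBelow M P c y f → blockRank p f = m := fun y => by
    by_cases hy : y ∈ P
    · obtain ⟨g, hg⟩ := exists_below hM hc.1 hab hy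
      letI := Fintype.ofFinite C⟨Subgroup.zpowers y⟩
      exact ⟨blockRank p g, fun _ => blockRank_pos hM hg.1,
        fun f' _ hf' => by rw [hf'.unique hM hc.1 hab hy hg]⟩
    · exact ⟨0, fun h => absurd h hy, fun _ h => absurd h hy⟩
  choose w hw1 hw2 using hex
  have hcnt := subsection_count hM hD hc hab hT hfree w fun y f hy _ hf => hw2 y f hy hf
  rw [Subgroup.relIndex_self, Nat.cast_one, one_mul] at hcnt
  set S := Finset.univ.filter (fun y : G => y ∈ P ∧ y ≠ 1) with hS
  have hScard : S.card + 1 = Nat.card P := by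
    have h : S = (Finset.univ.filter (· ∈ P)).erase 1 := by
      ext y
      simp [hS, and_comm]
    rw [h, Finset.card_erase_add_one (by simp [P.one_mem]), Nat.card_eq_fintype_card,
      Fintype.card_subtype]
  have hsum : (S.card : ℤ) ≤ ∑ y ∈ S, (w y : ℤ) := by
    rw [Finset.card_eq_sum_ones, Nat.cast_sum]
    refine Finset.sum_le_sum fun y hy => ?_
    exact_mod_cast hw1 y (Finset.mem_filter.1 hy).2.1
  have hpos := blockRank_pos hM hc.2.1
  omega

end Cfsg.Lib.Blocks
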