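import Mathlib
import Cfsg.Agent.Blocks.BlockFusion

/-!
# Brauer pairs of the principal block, and pairs of an abelian defect group
-/

set_option autoImplicit false
set_option linter.unusedSectionVars false

namespace Cfsg.Lib.Blocks

open Cfsg.Lib.Chars

universe u

variable {G : Type u} [Group G] [Fintype G] {M : Ideal AlgInt} {p : ℕ}

local notation "C⟨" P "⟩" => Subgroup.centralizer (SetLike.coe P)

/-- The pairs of the principal block are the principal blocks of the centralisers. -/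
theorem principal_pair_iff [Fact p.Prime] (hM : IsPModular p M) {Q : Subgroup G}
    {f : Set (IrrCharacter C⟨Q⟩)} :
    IsBrauerPairOf p M (principalBlock M G) Q f ↔
      IsPGroup p Q ∧ f = principalBlock M C⟨Q⟩ := by
  classical
  letI := Fintype.ofFinite C⟨Q⟩
  rw [isBrauerPairOf_iff hM]
  refine and_congr_right fun hQ => ?_
  constructor
  · exact fun h => (isInducedBlock_principal_iff hM _
      (inducedBlockDefined_centralizer hM hQ h.1)).1 h
  · rintro rfl
    exact (isInducedBlock_principal_iff hM _ (inducedBlockDefined_centralizer hM hQ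
      (isPBlock_blockOf (principal C⟨Q⟩)))).2 rfl

lemma bi_principal_congr {Q Q' : Subgroup G} (h : Q = Q') :
    bi M C⟨Q⟩ (principalBlock M C⟨Q⟩) = bi M C⟨Q'⟩ (principalBlock M C⟨Q'⟩) := by
  subst h; rfl

/-- The normaliser fixes the principal pair. -/
theorem cj_bi_principal [Fact p.Prime] (hM : IsPModular p M) {Q : Subgroup G} (hQ : IsPGroup p Q)
    {x : G} (hx : x ∈ Subgroup.normalizer (Q : Set G)) :
    cj x (bi M C⟨Q⟩ (principalBlock M C⟨Q⟩)) = bi M C⟨Q⟩ (principalBlock M C⟨Q⟩) := by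
  have h := (principal_pair_iff hM).1
    (isBrauerPairOf_conj hM ((principal_pair_iff (Q := Q) hM).2 ⟨hQ, rfl⟩) x)
  rw [← bi_conjBlock, h.2, bi_principal_congr (map_conj_of_mem_normalizer hx)]

/-- The principal pair on a Sylow subgroup is maximal. -/
theorem isMaximal_principal [Fact p.Prime] (hM : IsPModular p M) (S : Sylow p G) :
    IsMaximalBrauerPair p M (principalBlock M G) (S : Subgroup G)
      (principalBlock M C⟨(S : Subgroup G)⟩) :=
  ⟨(principal_pair_iff hM).2 ⟨S.2, rfl⟩,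
    fun R g hR hle => S.3 hR.1.1 (subpairLE_le hle)⟩

/-- Principal pairs below a Sylow subgroup are included in the principal pair on it. -/
theorem subpairLE_principal [Fact p.Prime] (hM : IsPModular p M) (S : Sylow p G) {Q : Subgroup G}
    (hQ : Q ≤ (S : Subgroup G)) :
    SubpairLE p M Q (principalBlock M C⟨Q⟩) (S : Subgroup G)
      (principalBlock M C⟨(S : Subgroup G)⟩) := by
  obtain ⟨f, hf, -⟩ := existsUnique_subpairLE hM (isMaximal_principal hM S).1.1 hQ
  have h := (principal_pair_iff hM).1 (isBrauerPairOf_of_le hM (isMaximal_principal hM S) hf)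
  rw [h.2] at hf
  exact hf

/-- **Fusion of pairs below a maximal pair on an abelian group.** -/
theorem exists_stab_decomp [Fact p.Prime] (hM : IsPModular p M) {B : Set (IrrCharacter G)}
    {P Q : Subgroup G} {e : Set (IrrCharacter C⟨P⟩)} {f : Set (IrrCharacter C⟨Q⟩)}
    (hmax : IsMaximalBrauerPair p M B P e) (hab : ∀ x ∈ P, ∀ y ∈ P, x * y = y * x)
    (hle : SubpairLE p M Q f P e) {x : G} (hxN : x ∈ Subgroup.normalizer (Q : Set G))
    (hxf : cj x (bi M C⟨Q⟩ f) = bi M C⟨Q⟩ f) :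
    ∃ y : G, y ∈ Subgroup.normalizer (P : Set G) ∧ cj y (bi M C⟨P⟩ e) = bi M C⟨P⟩ e ∧
      ∃ c ∈ C⟨Q⟩, x = y * c := by
  classical
  letI := Fintype.ofFinite C⟨Q⟩
  have hQP : Q ≤ P := subpairLE_le hle
  have hPC : P ≤ C⟨Q⟩ := fun y hy =>
    Subgroup.mem_centralizer_iff.2 fun q hq => hab q (hQP hq) y hy
  have hCP : C⟨P⟩ ≤ C⟨Q⟩ := le_centralizer_of_le hQP
  have hPp := hmax.1.1.1
  have hB := isBrauerPairOf_of_le hM hmax hle
  have hf := hB.1.2
  -- the maximal pair inside the centraliser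
  obtain ⟨D, hD, hPD⟩ := exists_defect_ge hM hmax.1.1 hle
  rw [inf_eq_left.2 hPC] at hPD
  obtain ⟨z, hz, hzD⟩ := exists_conj_defect hM hmax hB hD
  have hDeq : D = P.subgroupOf C⟨Q⟩ := by
    refine (Subgroup.eq_of_le_of_card_ge hPD ?_).symm
    have h1 : Nat.card D = Nat.card (P ⊓ C⟨Q.map (MulAut.conj z).toMonoidHom⟩ : Subgroup G) := by
      rw [← hzD, card_map_conj]
      exact Nat.card_congr (Subgroup.equivMapOfInjective _ _ (Subgroup.subtype_injective _)).toEquiv
    rw [h1, Nat.card_congr (Subgroup.subgroupOfEquivOfLe hPC).toEquiv]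
    exact Subgroup.card_le_of_le inf_le_left
  subst hDeq
  obtain ⟨-, -, -, -, -, hbr⟩ := (isNormalSubpair_iff hM _ _ _ _).1
    (normalSubpair_of_le hM hmax.1.1 hle Relation.ReflTransGen.refl hQP
      (hPC.trans (Subgroup.centralizer_le_normalizer _)))
  have hmaxC := isMaximal_of_isDefectGroup (G := C⟨Q⟩) hM
    ((pair_down_iff hM hPC hCP hPp hf hmax.1.1.2).2 hbr) hD
  -- the conjugate pair
  set P₁ : Subgroup G := P.map (MulAut.conj x).toMonoidHom with hP₁
  have hQ1 : Q ≤ P₁ := by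
    rw [← map_conj_of_mem_normalizer hxN]; exact Subgroup.map_mono hQP
  have hP1C : P₁ ≤ C⟨Q⟩ := by
    refine (Subgroup.map_mono hPC).trans ?_
    rw [map_inf_conj, map_conj_of_mem_normalizer hxN]
  have hC1 : C⟨P₁⟩ ≤ C⟨Q⟩ := le_centralizer_of_le hQ1
  have hpair : IsBrauerPairOf p M f (P₁.subgroupOf C⟨Q⟩) (downSet hP1C (conjBlock P x e)) := by
    refine (pair_down_iff hM hP1C hC1 (hPp.map _) hf (isPBlock_conjBlock P x hmax.1.1.2)).2 ?_
    rw [bi_conjBlock, ← hxf, ← cj_br, ← cj_mul, hbr]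
  obtain ⟨c, hc⟩ := exists_conj_subpairLE (G := C⟨Q⟩) hM hmaxC hpair
  have hfst : (P₁.subgroupOf C⟨Q⟩).map (MulAut.conj c).toMonoidHom = P.subgroupOf C⟨Q⟩ := by
    refine Subgroup.eq_of_le_of_card_ge (subpairLE_le hc) ?_
    rw [card_map_conj, Nat.card_congr (Subgroup.subgroupOfEquivOfLe hP1C).toEquiv,
      Nat.card_congr (Subgroup.subgroupOfEquivOfLe hPC).toEquiv, hP₁, card_map_conj]
  rcases subpairLE_head (G := C⟨Q⟩) hM hc with heq | ⟨a, ha, -, hab'⟩
  swap
  · exact absurd (subpairLE_le hab') (not_le_of_gt (hfst ▸ ha))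
  have hkey : cj (c : G) (cj x (bi M C⟨P⟩ e)) = bi M C⟨P⟩ e := by
    have h := congrArg (fun a : BrauerPairIdx C⟨Q⟩ => emb C⟨Q⟩ (bi M _ a.2)) heq
    simp only [bi_conjBlock, ← cj_emb, emb_bi_downSet hP1C hC1, emb_bi_downSet hPC hCP] at h
    rw [bi_conjBlock] at h
    exact h
  refine ⟨(c : G) * x, ?_, by rw [← cj_cj]; exact hkey, x⁻¹ * (c : G)⁻¹ * x, ?_, by group⟩
  · have h2 : (P.map (MulAut.conj ((c : G) * x)).toMonoidHom) = P := by
      refine Subgroup.eq_of_le_of_card_ge ?_ (le_of_eq (card_map_conj _ _).symm)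
      rintro _ ⟨u, hu, rfl⟩
      have hu' : (⟨x * u * x⁻¹, hP1C ⟨u, hu, rfl⟩⟩ : C⟨Q⟩) ∈ P₁.subgroupOf C⟨Q⟩ := ⟨u, hu, rfl⟩
      have hu2 : c * ⟨x * u * x⁻¹, hP1C ⟨u, hu, rfl⟩⟩ * c⁻¹ ∈ P.subgroupOf C⟨Q⟩ := by
        rw [← hfst]; exact ⟨_, hu', rfl⟩
      simpa [Subgroup.mem_subgroupOf, mul_assoc] using hu2
    refine Subgroup.mem_normalizer_iff.2 fun u => ?_
    constructor
    · intro hu
      rw [← h2]; exact ⟨u, hu, rfl⟩
    · intro hu
      rw [← h2] at hu
      obtain ⟨v, hv, hvu⟩ := hu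
      rwa [← (MulAut.conj ((c : G) * x)).injective hvu]
  · have h := (centralizer_le_normalizer_centralizer (inv_mem hxN) le_rfl :
      x⁻¹ ∈ Subgroup.normalizer (C⟨Q⟩ : Set G))
    simpa using (Subgroup.mem_normalizer_iff.1 h ((c : G)⁻¹)).1 (inv_mem c.2)

end Cfsg.Lib.Blocks
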