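import Mathlib
import Cfsg.Agent.Blocks.TrivialInertia
import Cfsg.Agent.S4687

/-!
# The local blocks of a block with abelian defect group
-/

set_option autoImplicit false
set_option linter.unusedSectionVars false
set_option linter.style.haveILetI false

namespace Cfsg.Lib.Blocks

open Cfsg Cfsg.Lib.Chars

universe u

local notation "C⟨" P "⟩" => Subgroup.centralizer (SetLike.coe P)

variable {G : Type u} [Group G] [Fintype G] {M : Ideal AlgInt} {p : ℕ} [Fact p.Prime]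

lemma inducedCentralChar_inSub {H K : Subgroup G} {K' : Subgroup H} (h : IsSubOf H K K')
    (hle : K ≤ H) (ξ : IrrCharacter K) (g : H) :
    inducedCentralChar K' (irrEquiv (subEquiv h hle) ξ : K' → ℂ) g =
      inducedCentralCharIn H K (ξ : K → ℂ) (g : G) := by
  classical
  unfold inducedCentralChar inducedCentralCharIn
  refine finsum_mem_eq_of_bijOn (subEquiv h hle) ⟨?_, (subEquiv h hle).injective.injOn, ?_⟩ ?_
  · intro k hk
    obtain ⟨x, hx⟩ := isConj_iff.1 (IsConj.symm hk)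
    exact ⟨x, by rw [← hx]; rfl⟩
  · rintro k ⟨x, hx⟩
    refine ⟨(subEquiv h hle).symm k, IsConj.symm (isConj_iff.2 ⟨x, Subtype.ext ?_⟩),
      MulEquiv.apply_symm_apply _ _⟩
    rw [← hx]; rfl
  · intro k _
    rw [irrEquiv_apply, irrEquiv_apply, map_one]

/-- Induction computed inside a subgroup is induction in that subgroup. -/
lemma isInducedBlock_inSub_iff {H K : Subgroup G} {K' : Subgroup H} (h : IsSubOf H K K')
    (hle : K ≤ H) {c : Set (IrrCharacter K)} {f : Set (IrrCharacter H)} (hc : IsPBlock M c) :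
    IsInducedBlock M K' (inSub h hle c) f ↔ IsInducedBlockIn M H K c f := by
  classical
  letI := Fintype.ofFinite H
  constructor
  · rintro ⟨-, hf, hv⟩
    refine ⟨hc, hf, fun ξ hξ χ hχ g => ?_⟩
    rw [← inducedCentralChar_inSub h hle]
    exact hv _ ⟨ξ, hξ, rfl⟩ χ hχ g
  · rintro ⟨-, hf, hv⟩
    refine ⟨isPBlock_inSub h hle hc, hf, ?_⟩
    rintro _ ⟨ξ, hξ, rfl⟩ χ hχ g
    rw [inducedCentralChar_inSub h hle]
    exact hv ξ hξ χ hχ g

/-- An induced local block lies below the pair. -/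
theorem br_of_isInducedBlockIn (hM : IsPModular p M) {P H : Subgroup G} (hP : IsPGroup p P)
    (hPH : P ≤ H) (hCH : C⟨P⟩ ≤ H) {c : Set (IrrCharacter C⟨P⟩)} {f : Set (IrrCharacter H)}
    (hf : IsInducedBlockIn M H C⟨P⟩ c f) :
    br P (bi M H f) * bi M C⟨P⟩ c = bi M C⟨P⟩ c := by
  classical
  haveI := charP_res hM
  letI := Fintype.ofFinite H
  have hs : IsSubOf H C⟨P⟩ (Subgroup.centralizer ((P.subgroupOf H : Subgroup H) : Set H)) :=
    fun x => by rw [centralizer_subgroupOf_eq hPH, Subgroup.mem_subgroupOf]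
  have hp' : IsPGroup p (P.subgroupOf H) :=
    hP.comap_of_injective H.subtype H.subtype_injective
  have h := ((isBrauerPairOf_iff_br (G := H) hM f (P.subgroupOf H) _).1
    ((isBrauerPairOf_iff hM f (P.subgroupOf H) _).2 ⟨hp', (isInducedBlock_inSub_iff hs hCH hf.1).2 hf⟩)).2.2
  rw [← (emb_injective H).eq_iff, emb_mul, emb_br H P hPH, emb_red_blockElem,
    emb_bi_inSub hs hCH] at h
  exact h

variable {B : Set (IrrCharacter G)} {P Q : Subgroup G} {c : Set (IrrCharacter C⟨P⟩)}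
  {f : Set (IrrCharacter C⟨Q⟩)}

lemma le_centralizer_sub (hab : ∀ a ∈ P, ∀ b ∈ P, a * b = b * a) (hQP : Q ≤ P) : P ≤ C⟨Q⟩ :=
  fun a ha => Subgroup.mem_centralizer_iff.2 fun q hq => hab q (hQP hq) a ha

/-- The induced local block gives a normal subpair. -/
theorem normalSubpair_of_induced (hM : IsPModular p M) (hc : IsBrauerPairOf p M B P c)
    (hab : ∀ a ∈ P, ∀ b ∈ P, a * b = b * a) (hQP : Q ≤ P)
    (hf : IsInducedBlockIn M C⟨Q⟩ C⟨P⟩ c f) : IsNormalSubpair p M Q f P c := by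
  classical
  have hPH := le_centralizer_sub hab hQP
  exact (isNormalSubpair_iff hM _ _ _ _).2 ⟨⟨hc.1.1.to_le hQP, hf.2.1⟩, hc.1, hQP,
    hPH.trans (Subgroup.centralizer_le_normalizer _),
    fun x hx => invOn_iff.1 (invOn_bi f) x (hPH hx),
    br_of_isInducedBlockIn hM hc.1.1 hPH (le_centralizer_of_le hQP) hf⟩

/-- The defect group of a local block is the whole defect group. -/
theorem defect_of_normalSubpair (hM : IsPModular p M) (hD : IsDefectGroup p M B P)
    (hc : IsBrauerPairOf p M B P c) (hab : ∀ a ∈ P, ∀ b ∈ P, a * b = b * a) (hQP : Q ≤ P)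
    (h : IsNormalSubpair p M Q f P c) :
    IsDefectGroup p M f (P.subgroupOf C⟨Q⟩) ∧
      IsBrauerPairOf p M f (P.subgroupOf C⟨Q⟩) (downSet (le_centralizer_sub hab hQP) c) := by
  classical
  letI := Fintype.ofFinite C⟨Q⟩
  obtain ⟨hQ, -, -, -, -, hbr⟩ := (isNormalSubpair_iff hM _ _ _ _).1 h
  have hPH : P ≤ C⟨Q⟩ := le_centralizer_sub hab hQP
  have hpair := (pair_down_iff hM hPH (le_centralizer_of_le hQP) hc.1.1 hQ.2 hc.1.2).2 hbr
  refine ⟨?_, hpair⟩
  have hind := ((isBrauerPairOf_iff hM B _ f).1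
    ((isBrauerPairOf_congr_normal hM h B).1 hc)).2
  obtain ⟨D, hDf⟩ := exists_defectGroup hM hQ.2
  obtain ⟨E, hE, hle⟩ := exists_defectGroup_ge_of_induced hM C⟨Q⟩ hind hDf
  obtain ⟨x, hx⟩ := exists_le_conj_of_pair hM hDf hpair
  obtain ⟨a, ha⟩ := IsDefectGroup.exists_eq_conj hM hc.2.1 hD hE
  have hcard : Nat.card (D.map (MulAut.conj x).toMonoidHom) ≤
      Nat.card (P.subgroupOf C⟨Q⟩) := by
    rw [card_map_conj, Nat.card_congr (Subgroup.subgroupOfEquivOfLe hPH).toEquiv,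
      ← Subgroup.card_map_of_injective (C⟨Q⟩).subtype_injective, ← card_map_conj P a, ← ha]
    exact Subgroup.card_le_of_le hle
  rw [Subgroup.eq_of_le_of_card_ge hx hcard]
  exact IsDefectGroup.conj hM hQ.2 hDf x

/-- A local block is nilpotent exactly when the stabilizer of the pair centralizing `Q`
centralizes the defect group. -/
theorem nilpotent_local_iff (hM : IsPModular p M) (hD : IsDefectGroup p M B P)
    (hc : IsBrauerPairOf p M B P c) (hab : ∀ a ∈ P, ∀ b ∈ P, a * b = b * a) {T : Subgroup G}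
    (hT : IsPairStab P c T) (hQP : Q ≤ P) (h : IsNormalSubpair p M Q f P c) :
    IsNilpotentBlock p M f ↔ ∀ t ∈ T, t ∈ C⟨Q⟩ → t ∈ C⟨P⟩ := by
  classical
  letI := Fintype.ofFinite C⟨Q⟩
  have hPH : P ≤ C⟨Q⟩ := le_centralizer_sub hab hQP
  have hCH : C⟨P⟩ ≤ C⟨Q⟩ := le_centralizer_of_le hQP
  obtain ⟨hfD, hfc⟩ := defect_of_normalSubpair hM hD hc hab hQP h
  have hmax := isMaximal_of_isDefectGroup hM hfc hfD
  have hst := isPairStab_down hM hPH hCH hc.1.2 hT
  rw [Cfsg.Agent.S4687.result p M hM f _ _ hmax fun a ha b hb => Subtype.ext (hab _ ha _ hb)]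
  have hce := centralizer_subgroupOf_eq hPH
  constructor
  · intro h' t ht htQ
    obtain ⟨h1, h2⟩ := (hst ⟨t, htQ⟩).1 ht
    exact Subgroup.mem_subgroupOf.1 (hce.le (h' _ h1 h2))
  · intro h' x h1 h2
    exact hce.ge (Subgroup.mem_subgroupOf.2 (h' _ ((hst x).2 ⟨h1, h2⟩) x.2))

/-- The induced local block exists. -/
theorem exists_inducedIn (hM : IsPModular p M) (hc : IsBrauerPair p M P c)
    (hab : ∀ a ∈ P, ∀ b ∈ P, a * b = b * a) (hQP : Q ≤ P) :
    ∃ f : Set (IrrCharacter C⟨Q⟩), IsInducedBlockIn M C⟨Q⟩ C⟨P⟩ c f := by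
  classical
  letI := Fintype.ofFinite C⟨Q⟩
  have hPH : P ≤ C⟨Q⟩ := le_centralizer_sub hab hQP
  have hCH : C⟨P⟩ ≤ C⟨Q⟩ := le_centralizer_of_le hQP
  have hs : IsSubOf C⟨Q⟩ C⟨P⟩
      (Subgroup.centralizer ((P.subgroupOf C⟨Q⟩ : Subgroup C⟨Q⟩) : Set C⟨Q⟩)) :=
    fun x => by rw [centralizer_subgroupOf_eq hPH, Subgroup.mem_subgroupOf]
  letI := Fintype.ofFinite
    (Subgroup.centralizer ((P.subgroupOf C⟨Q⟩ : Subgroup C⟨Q⟩) : Set C⟨Q⟩))
  obtain ⟨f, hf⟩ := inducedBlockDefined_centralizer hM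
    (hc.1.comap_of_injective (C⟨Q⟩).subtype (C⟨Q⟩).subtype_injective)
    (isPBlock_inSub hs hCH hc.2)
  exact ⟨f, (isInducedBlock_inSub_iff hs hCH hc.2).1 hf⟩

/-- A nilpotent local block has a single Brauer character. -/
theorem blockRank_local_eq_one (hM : IsPModular p M) (hD : IsDefectGroup p M B P)
    (hc : IsBrauerPairOf p M B P c) (hab : ∀ a ∈ P, ∀ b ∈ P, a * b = b * a) {T : Subgroup G}
    (hT : IsPairStab P c T) (hQP : Q ≤ P) (h : IsNormalSubpair p M Q f P c)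
    (htriv : ∀ t ∈ T, t ∈ C⟨Q⟩ → t ∈ C⟨P⟩) : blockRank p f = 1 := by
  classical
  letI := Fintype.ofFinite C⟨Q⟩
  have hPH : P ≤ C⟨Q⟩ := le_centralizer_sub hab hQP
  have hCH : C⟨P⟩ ≤ C⟨Q⟩ := le_centralizer_of_le hQP
  obtain ⟨hfD, hfc⟩ := defect_of_normalSubpair hM hD hc hab hQP h
  have hst := isPairStab_down hM hPH hCH hc.1.2 hT
  rw [show T.subgroupOf C⟨Q⟩ =
      Subgroup.centralizer ((P.subgroupOf C⟨Q⟩ : Subgroup C⟨Q⟩) : Set C⟨Q⟩) by
    rw [centralizer_subgroupOf_eq hPH]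
    ext x
    simp only [Subgroup.mem_subgroupOf]
    exact ⟨fun hx => htriv _ hx x.2, fun hx => (hT.self_le hM hc.1.2).2 hx⟩] at hst
  exact blockRank_eq_one_of_trivial_inertia hM hfD
    (fun a ha b hb => Subtype.ext (hab _ ha _ hb)) hfc hst

end Cfsg.Lib.Blocks
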