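import Mathlib
import Cfsg.Agent.Blocks.StabDefect
import Cfsg.Agent.Blocks.LocalDefect
import Cfsg.Agent.Blocks.Maximal
import Cfsg.Agent.Blocks.FirstMain

/-!
# The inertial index of a block with cyclic defect group
-/

set_option autoImplicit false
set_option linter.unusedSectionVars false
set_option linter.style.haveILetI false

namespace Cfsg.Lib.Blocks

open Cfsg.Lib.Chars

universe u

variable {G : Type u} [Group G] [Fintype G] {p : ℕ} [hp : Fact p.Prime] {M : Ideal AlgInt}

/-- The inertial index of a block with abelian defect group is prime to `p`. -/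
theorem not_dvd_inertial_index (hM : IsPModular p M) {B : Set (IrrCharacter G)} {P : Subgroup G}
    (hPD : IsDefectGroup p M B P) (hPC : P ≤ Subgroup.centralizer (P : Set G))
    {c : Set (IrrCharacter (Subgroup.centralizer (P : Set G)))}
    (hc : IsInducedBlock M (Subgroup.centralizer (P : Set G)) c B) {T : Subgroup G}
    (hT : IsPairStab P c T) :
    ¬ p ∣ (Subgroup.centralizer (P : Set G)).relIndex T := by
  classical
  haveI := charP_res hM
  letI := Fintype.ofFinite (Subgroup.centralizer (P : Set G))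
  letI := Fintype.ofFinite T
  have hP : IsPGroup p P := IsDefectGroup.isPGroup hPD
  have hfB : IsBrauerPairOf p M B P c := (isBrauerPairOf_iff hM B P c).2 ⟨hP, hc⟩
  have hf : IsBrauerPair p M P c := hfB.1
  have hno := noExtension_of_maximal hM (isMaximal_of_isDefectGroup hM hfB hPD)
  obtain ⟨F, hF, -, hFb, -⟩ := hT.exists_block hM hf
  obtain ⟨hPT, hCT⟩ := hT.self_le hM hf.2
  obtain ⟨D, hD⟩ := exists_defectGroup hM hF
  have hPD' := self_le_defect_stab hM hP hPT hT.le_normalizer hF hD
  have hDP : D.map T.subtype = P := by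
    by_contra hne
    refine br_defect_ne_zero hM hF hD ?_
    rw [hFb]
    refine hno _ ((IsDefectGroup.isPGroup hD).map _) (lt_of_le_of_ne hPD' (Ne.symm hne))
      ((Subgroup.map_subtype_le D).trans hT.le_normalizer) fun x hx => ?_
    exact (stabilizes_iff_of_normalizer hM hf.2
      (hT.le_normalizer (Subgroup.map_subtype_le D hx))).1
        ((hT x).1 (Subgroup.map_subtype_le D hx)).2
  have hv := (stab_defect hM hf hT hF hFb hD).2
  rw [hDP, sup_eq_left.2 hPC] at hv
  intro hd
  rw [Subgroup.relIndex] at hd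
  have e1 := congrArg (fun n : ℕ => n.factorization p) (Subgroup.card_mul_index ((Subgroup.centralizer (P : Set G)).subgroupOf T))
  simp only [Nat.factorization_mul Nat.card_pos.ne' Subgroup.index_ne_zero_of_finite,
    Finsupp.add_apply, Nat.card_congr (Subgroup.subgroupOfEquivOfLe hCT).toEquiv] at e1
  have := hp.out.factorization_pos_of_dvd Subgroup.index_ne_zero_of_finite hd
  omega

/-- The action on a cyclic `p`-group, read modulo `p`. -/
theorem exists_residue_hom {P T : Subgroup G} {a : G} {n : ℕ} (ha : orderOf a = p ^ (n + 1))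
    (hgen : Subgroup.zpowers a = P) (hTN : T ≤ Subgroup.normalizer (P : Set G))
    (hPC : ∀ g : T, ∀ k : ℕ, (g : G) * a * (g : G)⁻¹ = a ^ k → k ≡ 1 [MOD p] →
      ((g : G) ^ p ^ n ∈ Subgroup.centralizer (P : Set G) →
        (g : G) ∈ Subgroup.centralizer (P : Set G))) :
    ∃ ψ : T →* (ZMod p)ˣ,
      (∀ g : T, g ∈ ψ.ker ↔ (g : G) ∈ Subgroup.centralizer (P : Set G)) ∧
      ∀ g : T, ∀ x ∈ P, x ≠ 1 → (g : G) * x * (g : G)⁻¹ = x →
        (g : G) ∈ Subgroup.centralizer (P : Set G) := by
  classical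
  have hex : ∀ g : T, ∃ k : ℕ, (g : G) * a * (g : G)⁻¹ = a ^ k := by
    intro g
    have h1 : (g : G) * a * (g : G)⁻¹ ∈ P :=
      (Subgroup.mem_normalizer_iff.1 (hTN g.2) a).1 (hgen ▸ Subgroup.mem_zpowers a)
    rw [← hgen, ← mem_powers_iff_mem_zpowers] at h1
    obtain ⟨k, hk⟩ := h1
    exact ⟨k, hk.symm⟩
  choose k hk using hex
  have hwd : ∀ i j : ℕ, a ^ i = a ^ j → (i : ZMod p) = (j : ZMod p) := by
    intro i j h
    rw [ZMod.natCast_eq_natCast_iff]
    exact Nat.ModEq.of_dvd (ha ▸ dvd_pow_self p n.succ_ne_zero) (pow_eq_pow_iff_modEq.1 h)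
  let f : T →* ZMod p :=
    { toFun := fun g => (k g : ZMod p)
      map_one' := by
        rw [← Nat.cast_one]
        refine hwd _ _ ?_
        rw [← hk, OneMemClass.coe_one]
        simp
      map_mul' := fun g h => by
        rw [← Nat.cast_mul]
        refine hwd _ _ ?_
        rw [← hk, pow_mul, ← hk, conj_pow, ← hk, Subgroup.coe_mul]
        group }
  have hker : ∀ g : T, (k g : ZMod p) = 1 → (g : G) ∈ Subgroup.centralizer (P : Set G) := by
    intro g hg
    have hmod : k g ≡ 1 [MOD p] := by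
      rw [← ZMod.natCast_eq_natCast_iff, hg, Nat.cast_one]
    refine hPC g _ (hk g) hmod ?_
    -- the iterated conjugation
    have hit : ∀ m : ℕ, (g : G) ^ m * a * ((g : G) ^ m)⁻¹ = a ^ (k g) ^ m := by
      intro m
      induction m with
      | zero => simp
      | succ m ih =>
        rw [pow_succ', pow_succ, pow_mul, show (g : G) * (g : G) ^ m * a * ((g : G) * (g : G) ^ m)⁻¹ =
          (g : G) * ((g : G) ^ m * a * ((g : G) ^ m)⁻¹) * (g : G)⁻¹ by group, ih, ← conj_pow, hk,
          ← pow_mul, ← pow_mul, mul_comm]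
    have hone : a ^ (k g) ^ p ^ n = a := by
      conv_rhs => rw [← pow_one a]
      rw [pow_eq_pow_iff_modEq, ha, ← Int.natCast_modEq_iff, Nat.cast_one, Nat.cast_pow]
      have h1 : (p : ℤ) ∣ (k g : ℤ) - 1 := by
        have := Int.natCast_modEq_iff.2 hmod
        simpa using this.symm.dvd
      refine (Int.modEq_iff_dvd.2 ?_).symm
      have h2 := dvd_sub_pow_of_dvd_sub h1 n
      rwa [one_pow] at h2
    rw [← hgen, Subgroup.mem_centralizer_iff]
    intro x hx
    obtain ⟨i, rfl⟩ := Subgroup.mem_zpowers_iff.1 hx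
    have hc : Commute ((g : G) ^ p ^ n) a := by
      have h := hit (p ^ n)
      rw [hone] at h
      exact mul_inv_eq_iff_eq_mul.1 h
    exact (hc.zpow_right i).eq.symm
  refine ⟨f.toHomUnits, fun g => ?_, fun g x hx hx1 hfix => ?_⟩
  · rw [MonoidHom.mem_ker, Units.ext_iff, MonoidHom.coe_toHomUnits, Units.val_one]
    refine ⟨hker g, fun hg => ?_⟩
    show (k g : ZMod p) = 1
    rw [← Nat.cast_one]
    refine hwd _ _ ?_
    rw [← hk, pow_one, ← Subgroup.mem_centralizer_iff.1 hg a (hgen ▸ Subgroup.mem_zpowers a),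
      mul_inv_cancel_right]
  · refine hker g ?_
    rw [← hgen, ← mem_powers_iff_mem_zpowers] at hx
    obtain ⟨i, rfl⟩ := hx
    rw [← Nat.cast_one, ZMod.natCast_eq_natCast_iff]
    dsimp only at hfix hx1
    rw [← conj_pow, hk, ← pow_mul, pow_eq_pow_iff_modEq, ha] at hfix
    have hi : ¬ p ^ (n + 1) ∣ i := fun h => hx1 (orderOf_dvd_iff_pow_eq_one.1 (ha ▸ h))
    rw [← Int.natCast_modEq_iff, Int.modEq_iff_dvd, Nat.cast_mul] at hfix
    rw [← Int.natCast_modEq_iff, Int.modEq_iff_dvd, Nat.cast_one]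
    by_contra hp1
    refine hi (Int.natCast_dvd_natCast.1 ?_)
    have hcop : IsCoprime ((p ^ (n + 1) : ℕ) : ℤ) (1 - (k g : ℤ)) := by
      rw [Nat.cast_pow]
      exact IsCoprime.pow_left ((Nat.prime_iff_prime_int.1 hp.out).coprime_iff_not_dvd.2 hp1)
    refine hcop.dvd_of_dvd_mul_left ?_
    rwa [sub_mul, one_mul]

end Cfsg.Lib.Blocks
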