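import Mathlib
import Cfsg.Agent.Blocks.BlockSystem
import Cfsg.Agent.Fusion.Alperin
import Cfsg.Agent.Fusion.GroupSystem

/-!
# Nilpotent blocks have inner fusion systems
-/

set_option autoImplicit false
set_option linter.unusedSectionVars false

namespace Cfsg.Lib.Blocks

open Cfsg.Lib.Fusion (IsMap img extSub)

universe u

variable {G : Type u} [Group G] [Fintype G] {M : Ideal AlgInt} {p : ℕ}

local notation "C⟨" P "⟩" => Subgroup.centralizer (SetLike.coe P)

/-- An element whose order is prime to `p` becomes trivial in a `p`-group. -/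
lemma map_eq_one_of_coprime {A : Type*} [Group A] [Fact p.Prime] {x : A} {m : ℕ} {k : ℕ}
    (hm : x ^ m = 1) (hk : x ^ p ^ k = 1) (hco : ¬ p ∣ m) : x = 1 := by
  refine orderOf_eq_one_iff.1 (Nat.eq_one_of_dvd_coprimes
    ((((Fact.out : p.Prime).coprime_iff_not_dvd).2 hco).pow_left k)
    (orderOf_dvd_of_pow_eq_one hk) (orderOf_dvd_of_pow_eq_one hm))

/-- In a nilpotent block every automiser at a fully automised subgroup is induced by the pair's
group. -/
theorem autGroup_eq_of_nilpotent [Fact p.Prime] (hM : IsPModular p M) {B : Set (IrrCharacter G)}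
    {P Q : Subgroup G} {e : Set (IrrCharacter C⟨P⟩)} {F : FusionSystem P}
    (hF : IsBlockFusionSystemOn p M B P e F) (hnil : IsNilpotentBlock p M B)
    (hfa : F.IsFullyAutomized p Q) : F.autGroup Q = autInducedBy P Q := by
  classical
  have hPe := hF.1.1.1
  obtain ⟨f, hle, -⟩ := existsUnique_subpairLE hM hPe hfa.1
  have hB := isBrauerPairOf_of_le hM hF.1 hle
  obtain ⟨T, hT⟩ : ∃ T : Subgroup G, IsPairStab Q f T := ⟨_, (isPairStab_iff hM hB.1.2).2 rfl⟩
  have hp : IsPGroup p (F.autGroup Q) := by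
    rintro ⟨α, hα⟩
    obtain ⟨g, hg, hgα⟩ := Cfsg.Lib.Fusion.mem_autInducedBy.1
      (autGroup_blockSystem hM hF hle hT ▸ hα)
    obtain ⟨a, m, hm, hord⟩ := Nat.exists_eq_pow_mul_and_not_dvd (orderOf_pos g).ne' p
      (Fact.out : p.Prime).ne_one
    have hreg : IsPRegular p (g ^ p ^ a) := by
      show ¬ p ∣ orderOf (g ^ p ^ a)
      rw [orderOf_pow' g (pow_ne_zero a (Fact.out : p.Prime).ne_zero), hord,
        Nat.gcd_eq_right (dvd_mul_right _ _), Nat.mul_div_cancel_left _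
          (pow_pos (Fact.out : p.Prime).pos a)]
      exact hm
    have hga : g ^ p ^ a ∈ T := pow_mem hg _
    have hC : g ^ p ^ a ∈ C⟨Q⟩ := hnil.2 Q f hB _ ((hT _).1 hga).1 ((hT _).1 hga).2 hreg
    refine ⟨a, Subtype.ext (MulEquiv.ext fun x => Subtype.ext ?_)⟩
    have hpow : ∀ (k : ℕ) (y : Q), (((α ^ k) y : Q) : G) = g ^ k * y * (g ^ k)⁻¹ := by
      intro k
      induction k with
      | zero => intro y; simp
      | succ k ih =>
        intro y
        rw [pow_succ α, MulAut.mul_apply, ih, hgα, pow_succ]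
        group
    show (((α ^ p ^ a) x : Q) : G) = (x : G)
    rw [hpow, ← Subgroup.mem_centralizer_iff.1 hC (x : G) x.2, mul_inv_cancel_right]
  refine le_antisymm ?_ (Cfsg.Lib.Fusion.autInducedBy_le hfa.1)
  rw [← Subgroup.subgroupOf_eq_top, ← Subgroup.index_eq_one]
  have hnd := ((Cfsg.Lib.Fusion.isFullyAutomized_iff hPe.1).1 hfa).2
  rw [Subgroup.relIndex] at hnd
  obtain ⟨k, hk⟩ := hp.index ((autInducedBy P Q).subgroupOf (F.autGroup Q))
  rcases k with _ | k
  · rwa [pow_zero] at hk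
  · exact absurd (hk ▸ dvd_pow_self p (Nat.succ_ne_zero k)) hnd

/-- The fusion system of a nilpotent block is inner. -/
theorem inner_of_nilpotent [Fact p.Prime] (hM : IsPModular p M) {B : Set (IrrCharacter G)}
    {P : Subgroup G} {e : Set (IrrCharacter C⟨P⟩)} {F : FusionSystem P}
    (hF : IsBlockFusionSystemOn p M B P e F) (hnil : IsNilpotentBlock p M B) (Q : Subgroup G) :
    F.Hom Q = (innerFusionSystem P).Hom Q := by
  classical
  have hS := hF.1.1.1.1
  have hsat := saturated_block hM hF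
  have site : ∀ R : Subgroup G, F.IsFullyNormalized R → ∀ α ∈ F.autGroup R,
      IsMap (innerFusionSystem P) R (Cfsg.Lib.Fusion.autFun α) := by
    intro R hR α hα
    rw [autGroup_eq_of_nilpotent hM hF hnil (fullyAutomized_block hM hF hR)] at hα
    obtain ⟨g, hg, hαg⟩ := Cfsg.Lib.Fusion.mem_autInducedBy.1 hα
    refine (Cfsg.Lib.Fusion.isMap_conj hR.1 hg).congr fun x hx => ?_
    rw [Cfsg.Lib.Fusion.autFun_apply_mem α hx]
    exact hαg ⟨x, hx⟩
  ext φ
  constructor
  · intro hφ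
    refine Cfsg.Lib.Fusion.IsMap.mem_toFun' (Cfsg.Lib.Fusion.alperin_induction hS hsat
      (Cfsg.Lib.Fusion.isMapClass_isMap F (innerFusionSystem P)) ?_
      (fun R _ hR _ _ α hα => site R hR α hα) (Cfsg.Lib.Fusion.isMap_of_mem hφ))
    intro f hf
    have himg : img P f = P := Subgroup.eq_of_le_of_card_ge hf.img_le hf.card_img.ge
    obtain ⟨α, hα, hαe⟩ := hf.exists_aut himg
    have hPfn : F.IsFullyNormalized P :=
      ⟨le_rfl, fun Q' _ => Subgroup.card_le_of_le
        (le_inf inf_le_left (inf_le_left.trans Subgroup.le_normalizer))⟩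
    exact (site P hPfn α hα).congr fun x hx => (hαe x hx).symm
  · rintro ⟨hQ, g, hg, h⟩
    have h1 := F.conj_mem hQ hg
    rwa [show φ = conjHom Q g from MonoidHom.ext fun x => (h x).trans rfl]

/-- A block with inner fusion system is nilpotent. -/
theorem nilpotent_of_inner [Fact p.Prime] (hM : IsPModular p M) {B : Set (IrrCharacter G)}
    {P : Subgroup G} {e : Set (IrrCharacter C⟨P⟩)} {F : FusionSystem P}
    (hF : IsBlockFusionSystemOn p M B P e F)
    (h : ∀ Q : Subgroup G, F.Hom Q = (innerFusionSystem P).Hom Q) : IsNilpotentBlock p M B := by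
  classical
  refine ⟨hF.1.1.2.1, fun R k hRk x hxN hxs hxreg => ?_⟩
  obtain ⟨w, hw⟩ := exists_conj_subpairLE hM hF.1 hRk
  set Q := R.map (MulAut.conj w).toMonoidHom with hQ
  set x' := w * x * w⁻¹ with hx'
  have hx'N : x' ∈ Subgroup.normalizer (Q : Set G) := Subgroup.le_normalizer_map _ ⟨x, hxN, rfl⟩
  have hfix : cj x' (bi M C⟨Q⟩ (conjBlock R w k)) = bi M C⟨Q⟩ (conjBlock R w k) := by
    rw [hx', bi_conjBlock, cj_cj, inv_mul_cancel_right, ← cj_cj,
      (stabilizes_iff_of_normalizer hM hRk.1.2 hxN).1 hxs]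
  obtain ⟨T, hT⟩ : ∃ T : Subgroup G, IsPairStab Q (conjBlock R w k) T :=
    ⟨_, (isPairStab_iff hM (isPBlock_conjBlock R w hRk.1.2)).2 rfl⟩
  have hx'T : x' ∈ T := (hT x').2
    ⟨hx'N, (stabilizes_iff_of_normalizer hM (isPBlock_conjBlock R w hRk.1.2) hx'N).2 hfix⟩
  have hc := ((stab_iff_blockConj hM hF.1.1.1 hw hT x').1 hx'T).2
  have hmem : conjHom Q x' ∈ F.Hom Q := (hF.2 Q _).2 ⟨subpairLE_le hw, x', fun _ => rfl, hc⟩
  rw [h Q] at hmem
  obtain ⟨-, u, hu, hux⟩ := hmem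
  have hC : x'⁻¹ * u ∈ C⟨Q⟩ := Subgroup.mem_centralizer_iff.2 fun y hy => by
    have h1 : x' * y * x'⁻¹ = u * y * u⁻¹ := hux ⟨y, hy⟩
    calc y * (x'⁻¹ * u) = x'⁻¹ * (x' * y * x'⁻¹) * u := by group
      _ = x'⁻¹ * u * y := by rw [h1]; group
  have hCT := (hT.self_le hM (isPBlock_conjBlock R w hRk.1.2)).2
  have huT : u ∈ T := by
    have := T.mul_mem hx'T (hCT hC)
    rwa [mul_inv_cancel_left] at this
  haveI : (C⟨Q⟩.subgroupOf T).Normal := ⟨fun c hc t =>
    (Subgroup.mem_normalizer_iff.1 (centralizer_le_normalizer_centralizer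
      (hT.le_normalizer t.2) le_rfl) (c : G)).1 hc⟩
  have hq : ((⟨x', hx'T⟩ : T) : T ⧸ C⟨Q⟩.subgroupOf T) = ((⟨u, huT⟩ : T) : T ⧸ C⟨Q⟩.subgroupOf T) :=
    QuotientGroup.eq.2 hC
  obtain ⟨k', hk'⟩ := hF.1.1.1.1 ⟨u, hu⟩
  have hone : ((⟨x', hx'T⟩ : T) : T ⧸ C⟨Q⟩.subgroupOf T) = 1 := by
    refine map_eq_one_of_coprime (p := p) (m := orderOf x') (k := k') ?_ ?_ ?_
    · rw [← QuotientGroup.mk_pow, show (⟨x', hx'T⟩ : T) ^ orderOf x' = 1 from
        Subtype.ext (pow_orderOf_eq_one x'), QuotientGroup.mk_one]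
    · rw [hq, ← QuotientGroup.mk_pow, show (⟨u, huT⟩ : T) ^ p ^ k' = 1 from
        Subtype.ext (congrArg Subtype.val hk' :), QuotientGroup.mk_one]
    · rw [hx', show w * x * w⁻¹ = MulAut.conj w x from rfl, MulEquiv.orderOf_eq]
      exact hxreg
  have hxC : x' ∈ C⟨Q⟩ := (QuotientGroup.eq_one_iff (⟨x', hx'T⟩ : T)).1 hone
  have h2 := (isConjSub_centralizer R w x').1 hxC
  rwa [show w⁻¹ * x' * w = x by rw [hx']; group] at h2

/-- The blocks of centralisers in a nilpotent block are nilpotent. -/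
theorem nilpotent_centralizer [Fact p.Prime] (hM : IsPModular p M) {B : Set (IrrCharacter G)}
    (hnil : IsNilpotentBlock p M B) {Q : Subgroup G} {f : Set (IrrCharacter C⟨Q⟩)}
    (hQf : IsBrauerPairOf p M B Q f) : IsNilpotentBlock p M f := by
  classical
  haveI := charP_res hM
  letI := Fintype.ofFinite C⟨Q⟩
  refine ⟨hQf.1.2, fun R k hRk x hxN hxs hxreg => ?_⟩
  set R' : Subgroup G := R.map (Subgroup.subtype C⟨Q⟩) with hR'
  have hR'C : R' ≤ C⟨Q⟩ := Subgroup.map_subtype_le R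
  set S : Subgroup G := Q ⊔ R' with hS
  have hSN : S ≤ Subgroup.normalizer (Q : Set G) :=
    sup_le Subgroup.le_normalizer (hR'C.trans (Subgroup.centralizer_le_normalizer _))
  have hCS : C⟨S⟩ ≤ C⟨Q⟩ := le_centralizer_of_le le_sup_left
  have hsub : IsSubOf C⟨Q⟩ C⟨S⟩ (Subgroup.centralizer (R : Set C⟨Q⟩)) := by
    intro c
    constructor
    · intro hc
      refine le_centralizer_iff_mem.1 (sup_le (le_centralizer_iff_mem.2 c.2) ?_)
      rintro _ ⟨r, hr, rfl⟩
      rw [Subgroup.mem_centralizer_singleton_iff]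
      exact congrArg Subtype.val (Subgroup.mem_centralizer_iff.1 hc r hr)
    · intro hc
      exact Subgroup.mem_centralizer_iff.2 fun r hr => Subtype.ext
        (Subgroup.mem_centralizer_iff.1 hc (r : G) (Subgroup.mem_sup_right ⟨r, hr, rfl⟩))
  obtain ⟨k₁, hk₁, rfl⟩ := exists_inSub hsub hCS hRk.1.2
  have hSp : IsPGroup p S := hQf.1.1.to_sup_of_normal_left' (hRk.1.1.map _)
    (hR'C.trans (Subgroup.centralizer_le_normalizer _))
  have hbrR := ((isBrauerPairOf_iff_br (G := C⟨Q⟩) hM f R _).1 hRk).2.2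
  have hRR : br R (red M (blockElem f)) = br (R'.subgroupOf C⟨Q⟩) (red M (blockElem f)) := by
    rw [hR', subgroupOf_map_self]
  rw [hRR, ← (emb_injective C⟨Q⟩).eq_iff, emb_mul,
    emb_br C⟨Q⟩ _ (Subgroup.map_subtype_le R), emb_red_blockElem, emb_bi_inSub hsub hCS] at hbrR
  have hbrS : br S (bi M C⟨Q⟩ f) = br R' (bi M C⟨Q⟩ f) := fn_ext fun g => by
    by_cases hg : g ∈ C⟨R'⟩
    · rw [br, br, fn_trunc_mem _ hg]
      by_cases hgQ : g ∈ C⟨Q⟩
      · have hgS : g ∈ C⟨S⟩ := le_centralizer_iff_mem.1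
          (sup_le (le_centralizer_iff_mem.2 hgQ) (le_centralizer_iff_mem.2 hg))
        rw [fn_trunc_mem _ hgS]
      · rw [suppOn_bi f g hgQ, fn_trunc_not_mem _ fun h => hgQ (hCS h)]
    · rw [br, br, fn_trunc_not_mem _ hg,
        fn_trunc_not_mem _ fun h => hg (le_centralizer_of_le le_sup_right h)]
  have hpair : IsNormalSubpair p M Q f S k₁ := by
    refine (isNormalSubpair_iff hM _ _ _ _).2 ⟨hQf.1, ⟨hSp, hk₁⟩, le_sup_left, hSN, ?_, ?_⟩
    · intro y hy
      have hle : S ≤ stabElem (bi M C⟨Q⟩ f) := sup_le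
        (fun z hz => cj_eq_self_of_suppOn (suppOn_bi f) hz)
        (fun z hz => invOn_iff.1 (invOn_bi f) z (hR'C hz))
      exact hle hy
    · rw [hbrS]; exact hbrR
  have hxS : (x : G) ∈ Subgroup.normalizer (S : Set G) := by
    have h1 : (x : G) ∈ Subgroup.normalizer (Q : Set G) := Subgroup.centralizer_le_normalizer _ x.2
    have h2 : R'.map (MulAut.conj (x : G)).toMonoidHom = R' := by
      have h3 := congrArg (Subgroup.map (Subgroup.subtype C⟨Q⟩)) (map_conj_of_mem_normalizer hxN)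
      rw [Subgroup.map_map] at h3
      rw [hR', Subgroup.map_map]
      exact h3
    have h4 : S.map (MulAut.conj (x : G)).toMonoidHom = S := by
      rw [hS, Subgroup.map_sup, map_conj_of_mem_normalizer h1, h2]
    refine Subgroup.mem_normalizer_iff.2 fun y => ⟨fun hy => ?_, fun hy => ?_⟩
    · rw [← h4]; exact ⟨y, hy, rfl⟩
    · rw [← h4] at hy
      obtain ⟨z, hz, hzy⟩ := hy
      rwa [← (MulAut.conj (x : G)).injective hzy]
  have hstab := ((stabilizesBlock_iff (G := C⟨Q⟩) hM hRk.1.2 x).1 hxs).2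
  rw [← (emb_injective C⟨Q⟩).eq_iff, ← cj_emb, emb_bi_inSub hsub hCS] at hstab
  have hxC := hnil.2 S k₁ ((isBrauerPairOf_congr_normal hM hpair B).2 hQf) (x : G) hxS
    ((stabilizes_iff_of_normalizer hM hk₁ hxS).2 hstab) (by
      show ¬ p ∣ orderOf (x : G)
      rw [Subgroup.orderOf_coe]; exact hxreg)
  exact (hsub x).2 hxC

end Cfsg.Lib.Blocks
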