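import Mathlib
import Cfsg.Agent.Blocks.SubsectionColumns
import Cfsg.Agent.Chars.Galois

/-!
# Averages of conjugates in cyclotomic fields of prime power level
-/

set_option autoImplicit false
set_option linter.unusedSectionVars false

namespace Cfsg.Lib.Blocks

open Cfsg.Lib.Chars
open scoped ComplexConjugate

/-- Algebraic integers of the cyclotomic field are integral combinations of powers of `ζ`. -/
lemma exists_zeta_rep {p k : ℕ} (hp : p.Prime) [NeZero (p ^ k)] {β : ℂ} (hβ : β ∈ cycField (p ^ k))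
    (hint : IsIntegral ℤ β) :
    ∃ (m : ℕ) (B : ℕ → ℤ), β = ∑ i ∈ Finset.range m, (B i : ℂ) * zetaC (p ^ k) ^ i := by
  haveI := Fact.mk hp
  set K := cycField (p ^ k)
  have hζC := isPrimitiveRoot_zetaC (p ^ k)
  set ζ : K := ⟨zetaC (p ^ k), IntermediateField.mem_adjoin_simple_self ℚ _⟩ with hζdef
  have hζ : IsPrimitiveRoot ζ (p ^ k) :=
    hζC.of_map_of_injective (f := K.val) K.val.injective
  have := IsCyclotomicExtension.Rat.isIntegralClosure_adjoin_singleton_of_prime_pow (K := K) hζ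
  have hβ' : IsIntegral ℤ (⟨β, hβ⟩ : K) :=
    (isIntegral_algHom_iff (K.val.restrictScalars ℤ) K.val.injective).1 hint
  obtain ⟨y, hy⟩ := (IsIntegralClosure.isIntegral_iff (A := Algebra.adjoin ℤ ({ζ} : Set K))).1 hβ'
  have hy2 : (y : K) ∈ Algebra.adjoin ℤ ({ζ} : Set K) := y.2
  obtain ⟨f, hf⟩ := (Algebra.adjoin_singleton_eq_range_aeval ℤ ζ).le hy2
  refine ⟨f.natDegree + 1, f.coeff, ?_⟩
  have h : β = K.val (Polynomial.aeval ζ f) := by
    rw [show Polynomial.aeval ζ f = (y : K) from hf, show (y : K) = ⟨β, hβ⟩ from hy]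
    rfl
  rw [h, Polynomial.aeval_eq_sum_range, map_sum]
  refine Finset.sum_congr rfl fun i _ => ?_
  simp [zsmul_eq_mul, hζdef]

/-- A divisible combination of roots of unity is a multiple of a combination, at all powers. -/
lemma exists_div_rep {p k : ℕ} (hp : p.Prime) [NeZero (p ^ k)] {ι : Type*} (s : Finset ι)
    (c : ι → ℤ) (z : ι → ℂ) (hz : ∀ i, z i ^ p ^ k = 1) {N : ℕ} (hN : N ≠ 0)
    (h : IsIntegral ℤ ((∑ i ∈ s, (c i : ℂ) * z i) / (N : ℂ))) :
    ∃ (m : ℕ) (B : ℕ → ℤ),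
      (∑ i ∈ s, (c i : ℂ) * z i) / (N : ℂ) = ∑ i ∈ Finset.range m, (B i : ℂ) * zetaC (p ^ k) ^ i ∧
      ∀ u : (ZMod (p ^ k))ˣ, ∑ i ∈ s, (c i : ℂ) * z i ^ (u : ZMod (p ^ k)).val =
        (N : ℂ) * ∑ i ∈ Finset.range m, (B i : ℂ) * (zetaC (p ^ k) ^ i) ^ (u : ZMod (p ^ k)).val := by
  have hmem : (∑ i ∈ s, (c i : ℂ) * z i) / (N : ℂ) ∈ cycField (p ^ k) :=
    div_mem (sum_mem fun i _ => mul_mem (intCast_mem _ _) (mem_cycField_of_pow_eq_one _ (hz i)))
      (natCast_mem _ _)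
  obtain ⟨m, B, hB⟩ := exists_zeta_rep hp hmem h
  refine ⟨m, B, hB, fun u => ?_⟩
  rw [div_eq_iff (Nat.cast_ne_zero.2 hN)] at hB
  obtain ⟨σ, hσ⟩ := exists_galConj_auto (m := p ^ k) (k := (u : ZMod (p ^ k)).val)
    (ZMod.val_coe_unit_coprime u)
  have h' := congrArg σ hB
  simp only [map_sum, map_mul, map_intCast, map_natCast] at h'
  rw [mul_comm (N : ℂ)]
  refine ((Finset.sum_congr rfl fun i _ => ?_).trans h').trans ?_
  · rw [hσ _ (hz i)]
  · refine congrArg (· * (N : ℂ)) (Finset.sum_congr rfl fun i _ => ?_)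
    rw [map_pow, hσ _ (isPrimitiveRoot_zetaC (p ^ k)).pow_eq_one, ← pow_mul, ← pow_mul, mul_comm i]

/-- Sums over the units of the powers of a root of unity of two power order. -/
lemma sum_units_root_pow {k : ℕ} [NeZero (2 ^ k)] {w : ℂ} (hw : w ^ 2 ^ k = 1) :
    ∑ u : (ZMod (2 ^ k))ˣ, w ^ (u : ZMod (2 ^ k)).val =
      (Fintype.card (ZMod (2 ^ k))ˣ : ℂ) * ((if w = 1 then (1 : ℤ) else if w = -1 then -1 else 0 : ℤ) : ℂ) := by
  by_cases h1 : w = 1
  · simp [h1]
  by_cases hm : w = -1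
  · have hk : k ≠ 0 := by
      rintro rfl
      rw [hm] at hw
      norm_num at hw
    have hodd : ∀ u : (ZMod (2 ^ k))ˣ, Odd (u : ZMod (2 ^ k)).val := fun u => by
      rw [← Nat.not_even_iff_odd, even_iff_two_dvd]
      intro h
      exact (Nat.Prime.coprime_iff_not_dvd Nat.prime_two).1
        ((Nat.coprime_pow_left_iff (Nat.pos_of_ne_zero hk) _ _).1
          (ZMod.val_coe_unit_coprime u).symm) h
    rw [Finset.sum_congr rfl fun (u : (ZMod (2 ^ k))ˣ) _ => show w ^ (u : ZMod (2 ^ k)).val = (-1 : ℂ) by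
      rw [hm, (hodd u).neg_one_pow], if_neg h1, if_pos hm, Finset.sum_const, Finset.card_univ,
      nsmul_eq_mul]
    push_cast
    rfl
  rw [if_neg h1, if_neg hm, Int.cast_zero, mul_zero]
  obtain ⟨j, -, hj⟩ := (Nat.dvd_prime_pow Nat.prime_two).1 (orderOf_dvd_of_pow_eq_one hw)
  have hj2 : 2 ≤ j := by
    by_contra h
    rcases (show j = 0 ∨ j = 1 by omega) with rfl | rfl
    · exact h1 (orderOf_eq_one_iff.1 hj)
    · have h2 := pow_orderOf_eq_one w
      rw [hj, pow_one] at h2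
      exact (sq_eq_one_iff.1 h2).elim h1 hm
  set t := 2 ^ (j - 1) with ht
  have hhalf : w ^ t = -1 := by
    refine (sq_eq_one_iff.1 ?_).resolve_left ?_
    · rw [← pow_mul, ht, ← pow_succ, show j - 1 + 1 = j by omega, ← hj, pow_orderOf_eq_one]
    · exact pow_ne_one_of_lt_orderOf (pow_ne_zero _ two_ne_zero)
        (by rw [hj, ht]; exact Nat.pow_lt_pow_right one_lt_two (by omega))
  have hco : (1 + t).Coprime (2 ^ k) := by
    refine Nat.Coprime.pow_right _ ((Nat.Prime.coprime_iff_not_dvd Nat.prime_two).2 ?_).symm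
    rw [Nat.dvd_add_left (dvd_pow_self 2 (by omega : j - 1 ≠ 0))]
    norm_num
  set u₀ := ZMod.unitOfCoprime (1 + t) hco
  have key : ∀ u : (ZMod (2 ^ k))ˣ, w ^ ((u * u₀ : (ZMod (2 ^ k))ˣ) : ZMod (2 ^ k)).val =
      - w ^ (u : ZMod (2 ^ k)).val := fun u => by
    have hodd : Odd (u : ZMod (2 ^ k)).val := by
      have hk : k ≠ 0 := fun h => h1 (by simpa [h] using hw)
      rw [← Nat.not_even_iff_odd, even_iff_two_dvd]
      intro h
      exact (Nat.Prime.coprime_iff_not_dvd Nat.prime_two).1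
        ((Nat.coprime_pow_left_iff (Nat.pos_of_ne_zero hk) _ _).1
          (ZMod.val_coe_unit_coprime u).symm) h
    rw [Units.val_mul, ZMod.val_mul, ← pow_eq_pow_mod _ hw, ZMod.coe_unitOfCoprime, ZMod.val_natCast,
      pow_mul, ← pow_eq_pow_mod (1 + t) (by rw [← pow_mul, mul_comm, pow_mul, hw, one_pow]),
      ← pow_mul, mul_add, mul_one, pow_add, mul_comm _ t, pow_mul, hhalf, hodd.neg_one_pow]
    ring
  have hS : ∑ u : (ZMod (2 ^ k))ˣ, w ^ (u : ZMod (2 ^ k)).val =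
      ∑ u : (ZMod (2 ^ k))ˣ, w ^ ((u * u₀ : (ZMod (2 ^ k))ˣ) : ZMod (2 ^ k)).val :=
    (Equiv.sum_comp (Equiv.mulRight u₀) fun u : (ZMod (2 ^ k))ˣ => w ^ (u : ZMod (2 ^ k)).val).symm
  simp only [key, Finset.sum_neg_distrib] at hS
  linear_combination (1 / 2 : ℂ) * hS

/-- The average of the conjugates of a real element is an integer with the same parity. -/
lemma exists_avg_of_real {k : ℕ} [NeZero (2 ^ k)] {ι : Type*} (s : Finset ι) (c : ι → ℤ)
    (z : ι → ℂ) (hz : ∀ i, z i ^ 2 ^ k = 1)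
    (hreal : conj (∑ i ∈ s, (c i : ℂ) * z i) = ∑ i ∈ s, (c i : ℂ) * z i) :
    ∃ t : ℤ, ∑ u : (ZMod (2 ^ k))ˣ, ∑ i ∈ s, (c i : ℂ) * z i ^ (u : ZMod (2 ^ k)).val =
        (Fintype.card (ZMod (2 ^ k))ˣ : ℂ) * (t : ℂ) ∧ (2 : ℤ) ∣ (∑ i ∈ s, c i) - t := by
  classical
  set φ : ℂ := (Fintype.card (ZMod (2 ^ k))ˣ : ℂ) with hφ
  have hφ0 : φ ≠ 0 := Nat.cast_ne_zero.2 Fintype.card_ne_zero
  set W : ℂ → ℤ := fun w => ∑ i ∈ s, c i * if z i * w = 1 then 1 else if z i * w = -1 then -1 else 0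
    with hW
  have hFW : ∀ w : ℂ, w ^ 2 ^ k = 1 → ∑ u : (ZMod (2 ^ k))ˣ,
      (∑ i ∈ s, (c i : ℂ) * z i ^ (u : ZMod (2 ^ k)).val) * w ^ (u : ZMod (2 ^ k)).val =
        φ * (W w : ℂ) := fun w hw => by
    simp only [Finset.sum_mul, mul_assoc, ← mul_pow]
    rw [Finset.sum_comm, hW, Int.cast_sum, Finset.mul_sum]
    refine Finset.sum_congr rfl fun i _ => ?_
    rw [← Finset.mul_sum, sum_units_root_pow (by rw [mul_pow, hz, hw, one_mul]), ← hφ]
    push_cast
    ring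
  have hFreal : ∀ u : (ZMod (2 ^ k))ˣ,
      conj (∑ i ∈ s, (c i : ℂ) * z i ^ (u : ZMod (2 ^ k)).val) =
        ∑ i ∈ s, (c i : ℂ) * z i ^ (u : ZMod (2 ^ k)).val := fun u => by
    obtain ⟨σ, hσ⟩ := exists_galConj_auto (m := 2 ^ k) (k := (u : ZMod (2 ^ k)).val)
      (ZMod.val_coe_unit_coprime u)
    have h1 : σ (conj (∑ i ∈ s, (c i : ℂ) * z i)) =
        conj (∑ i ∈ s, (c i : ℂ) * z i ^ (u : ZMod (2 ^ k)).val) := by
      simp only [map_sum, map_mul, map_intCast]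
      refine Finset.sum_congr rfl fun i _ => ?_
      rw [hσ _ (by rw [← map_pow, hz, map_one]), map_pow]
    rw [← h1, hreal]
    simp only [map_sum, map_mul, map_intCast]
    exact Finset.sum_congr rfl fun i _ => by rw [hσ _ (hz i)]
  have hWinv : ∀ w : ℂ, w ^ 2 ^ k = 1 → W w⁻¹ = W w := fun w hw => by
    have hinv : w⁻¹ ^ 2 ^ k = 1 := by rw [inv_pow, hw, inv_one]
    have hc : conj w = w⁻¹ :=
      (Complex.inv_eq_conj (Complex.norm_eq_one_of_pow_eq_one hw (NeZero.ne _))).symm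
    apply Int.cast_injective (α := ℂ)
    refine mul_left_cancel₀ hφ0 ?_
    rw [← hFW _ hinv, ← map_intCast (starRingEnd ℂ) (W w),
      show φ = conj φ from (map_natCast _ _).symm, ← map_mul, ← hFW _ hw, map_sum]
    exact Finset.sum_congr rfl fun u _ => by rw [map_mul, map_pow, hFreal, hc]
  refine ⟨W 1, ?_, ?_⟩
  · rw [← hFW 1 (one_pow _)]
    simp
  rw [show (2 : ℤ) = ((2 : ℕ) : ℤ) from rfl, ← ZMod.intCast_eq_intCast_iff_dvd_sub]
  -- fibres of squaring
  have hcast : ∀ v w : ℂ, w ≠ 0 → v = w ^ 2 → (W w⁻¹ : ZMod 2) =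
      ∑ i ∈ s.filter (fun i => z i ^ 2 = v), (c i : ZMod 2) := fun v w hw0 hv => by
    rw [hW, Finset.sum_filter]
    push_cast
    refine Finset.sum_congr rfl fun i _ => ?_
    by_cases h : z i ^ 2 = v
    · rw [if_pos h]
      rw [hv] at h
      rcases sq_eq_sq_iff_eq_or_eq_neg.1 h with h | h <;> norm_num [h, hw0]
    · rw [if_neg h, if_neg, if_neg, mul_zero]
      · intro h'
        rw [mul_inv_eq_iff_eq_mul₀ hw0] at h'
        exact h (by rw [hv, h']; ring)
      · intro h'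
        rw [mul_inv_eq_one₀ hw0] at h'
        exact h (by rw [hv, h'])
  set V := (s.image (fun i => z i ^ 2) ∪ s.image (fun i => (z i ^ 2)⁻¹)).erase 1 with hV
  set S : ℂ → ZMod 2 := fun v => ∑ i ∈ s.filter (fun i => z i ^ 2 = v), (c i : ZMod 2) with hS
  have h2 : ((2 : ℂ) ≠ 0) := two_ne_zero
  have hroot : ∀ v ∈ V, ∃ w : ℂ, w ^ 2 ^ k = 1 ∧ w ≠ 0 ∧ v = w ^ 2 := fun v hv => by
    obtain ⟨-, hv⟩ := Finset.mem_erase.1 hv
    rcases Finset.mem_union.1 hv with h | h <;> obtain ⟨i, -, rfl⟩ := Finset.mem_image.1 h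
    · exact ⟨z i, hz i, fun h0 => by simpa [h0, NeZero.ne] using hz i, rfl⟩
    · exact ⟨(z i)⁻¹, by rw [inv_pow, hz, inv_one],
        inv_ne_zero fun h0 => by simpa [h0, NeZero.ne] using hz i, by rw [inv_pow]⟩
  have hVsum : ∑ v ∈ V, S v = 0 := by
    refine Finset.sum_involution (fun v _ => v⁻¹) (fun v hv => ?_) (fun v hv hne hfix => hne ?_)
      (fun v hv => ?_) (fun v _ => inv_inv v)
    · obtain ⟨w, hw, hw0, hvw⟩ := hroot v hv
      simp only [hS, ← hcast v w hw0 hvw, ← hcast v⁻¹ w⁻¹ (inv_ne_zero hw0) (by rw [hvw, inv_pow]),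
        inv_inv, hWinv w hw, CharTwo.add_self_eq_zero]
    · obtain ⟨w, hw, hw0, hvw⟩ := hroot v hv
      have hv1 : v = -1 := by
        have hv0 : v ≠ 0 := by rw [hvw]; exact pow_ne_zero _ hw0
        refine (sq_eq_one_iff.1 ?_).resolve_left (Finset.mem_erase.1 hv).1
        calc v ^ 2 = v * v⁻¹ := by rw [sq, hfix]
          _ = 1 := mul_inv_cancel₀ hv0
      have hwi : w⁻¹ = -w := by
        rw [hv1] at hvw
        field_simp
        linear_combination -hvw
      have hWneg : W (-w) = -W w := by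
        simp only [hW, ← Finset.sum_neg_distrib]
        refine Finset.sum_congr rfl fun i _ => ?_
        rw [mul_neg, ← mul_neg (c i)]
        congr 1
        simp only [neg_eq_iff_eq_neg (a := z i * w), neg_neg]
        split_ifs with a b
        · rw [a] at b; norm_num at b
        · rfl
        · rfl
        · rfl
      have h0 : W w = 0 := by
        have := hWinv w hw
        rw [hwi, hWneg] at this
        linarith
      simp only [hS, ← hcast v w hw0 hvw, hWinv w hw, h0, Int.cast_zero]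
    · rw [Finset.mem_erase, ne_eq, inv_eq_one]
      obtain ⟨h1, hv⟩ := Finset.mem_erase.1 hv
      refine ⟨h1, ?_⟩
      rcases Finset.mem_union.1 hv with h | h <;> obtain ⟨i, hi, rfl⟩ := Finset.mem_image.1 h
      · exact Finset.mem_union_right _ (Finset.mem_image.2 ⟨i, hi, rfl⟩)
      · rw [inv_inv]; exact Finset.mem_union_left _ (Finset.mem_image.2 ⟨i, hi, rfl⟩)
  have h1 : (W 1 : ZMod 2) = S 1 := by
    have := hcast 1 1 one_ne_zero (one_pow 2).symm
    rwa [inv_one] at this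
  rw [h1, Int.cast_sum, ← Finset.sum_fiberwise_of_maps_to (g := fun i => z i ^ 2)
    (t := insert 1 V) (fun i hi => ?_), Finset.sum_insert (by simp [hV])]
  · exact (add_zero _).symm.trans (congrArg (S 1 + ·) hVsum.symm)
  · by_cases h : z i ^ 2 = 1
    · rw [h]; exact Finset.mem_insert_self _ _
    · exact Finset.mem_insert_of_mem (Finset.mem_erase.2
        ⟨h, Finset.mem_union_left _ (Finset.mem_image.2 ⟨i, hi, rfl⟩)⟩)

end Cfsg.Lib.Blocks
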