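import Mathlib
import Cfsg.Agent.Blocks.MajorRankTwo
import Cfsg.Agent.Blocks.CycAverage

/-!
# Averaged rows of the contribution matrix of a subsection
-/

set_option autoImplicit false
set_option linter.unusedSectionVars false

namespace Cfsg.Lib.Blocks

open Cfsg.Lib.Chars
open scoped ComplexConjugate

universe u

variable {G : Type u} [Group G] [Fintype G] {M : Ideal AlgInt} {p : ℕ}
  {x : G} {H : Subgroup G} [Fintype H]

lemma conj_contribution (hp : p.Prime) (b : Set (IrrCharacter H)) (χ ψ : IrrCharacter G) :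
    conj (contribution p x b χ ψ) = contribution p x b ψ χ := by
  classical
  simp only [contribution_def, map_sum, map_mul, map_intCast, Complex.conj_conj]
  rw [Finset.sum_comm]
  exact Finset.sum_congr rfl fun θ _ => Finset.sum_congr rfl fun θ' _ => by
    rw [regRed_symm hp]; ring

lemma contribution_eq_sum_regular (hM : IsPModular p M) {b : Set (IrrCharacter H)}
    (hb : IsPBlock M b) (χ ψ : IrrCharacter G) :
    contribution p x b χ ψ = (p : ℂ) ^ blockDefect p b * (Nat.card H : ℂ)⁻¹ *
      ∑ w ∈ Finset.univ.filter (fun v : H => ¬ p ∣ orderOf v),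
        blockPart b (fun c : H => (χ : G → ℂ) (x * (c : G))) w *
          conj (blockPart b (fun c : H => (ψ : G → ℂ) (x * (c : G))) w) := by
  classical
  rw [contribution_def]
  exact contribution_eq hM hb (χ : G → ℂ) (sectCoef x χ) (sectCoef x ψ) _ (fun θ _ => rfl)
    fun w => blockPart_eq_sum b _ w

/-- The diagonal contribution is a nonnegative real. -/
lemma contribution_self_eq (hM : IsPModular p M) {b : Set (IrrCharacter H)}
    (hb : IsPBlock M b) (χ : IrrCharacter G) :
    ∃ r : ℝ, 0 ≤ r ∧ contribution p x b χ χ = (r : ℂ) := by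
  classical
  refine ⟨(p : ℝ) ^ blockDefect p b * (Nat.card H : ℝ)⁻¹ *
    ∑ w ∈ Finset.univ.filter (fun v : H => ¬ p ∣ orderOf v),
      ‖blockPart b (fun c : H => (χ : G → ℂ) (x * (c : G))) w‖ ^ 2,
    mul_nonneg (by positivity) (Finset.sum_nonneg fun w _ => sq_nonneg _), ?_⟩
  rw [contribution_eq_sum_regular hM hb]
  push_cast
  simp only [← Complex.mul_conj']

/-- The trace of the contribution matrix. -/
theorem sum_contribution_self (hM : IsPModular p M) (hx : ∃ k : ℕ, orderOf x = p ^ k)
    (hH : H = Subgroup.centralizer (Subgroup.zpowers x : Set G))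
    {b : Set (IrrCharacter H)} {B : Set (IrrCharacter G)} [DecidablePred (· ∈ B)]
    (hind : IsInducedBlock M H b B) :
    ∑ χ ∈ Finset.univ.filter (· ∈ B), contribution p x b χ χ =
      (p : ℂ) ^ blockDefect p b * (blockRank p b : ℂ) := by
  classical
  simp only [contribution_eq_sum_regular hM hind.1, ← Finset.mul_sum]
  rw [Finset.sum_comm, Finset.sum_congr rfl fun w hw => sum_blockPart_mul_conj_blockPart hM hx hH
    hind (Finset.mem_filter.1 hw).2 (Finset.mem_filter.1 hw).2, sum_colKer_regular hM hind.1]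
  have hH0 : (Nat.card H : ℂ) ≠ 0 := Nat.cast_ne_zero.2 Nat.card_pos.ne'
  field_simp

/-- A row of the contribution matrix. -/
theorem sum_contribution_mul_conj (hM : IsPModular p M) (hx : ∃ k : ℕ, orderOf x = p ^ k)
    (hH : H = Subgroup.centralizer (Subgroup.zpowers x : Set G))
    {b : Set (IrrCharacter H)} {B : Set (IrrCharacter G)} [DecidablePred (· ∈ B)]
    (hind : IsInducedBlock M H b B) (χ : IrrCharacter G) :
    ∑ ψ ∈ Finset.univ.filter (· ∈ B), contribution p x b χ ψ * conj (contribution p x b χ ψ) =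
      (p : ℂ) ^ blockDefect p b * contribution p x b χ χ := by
  classical
  set R := Finset.univ.filter (fun v : H => ¬ p ∣ orderOf v)
  set f : IrrCharacter G → H → ℂ := fun χ w =>
    blockPart b (fun c : H => (χ : G → ℂ) (x * (c : G))) w with hf
  set q : ℂ := (p : ℂ) ^ blockDefect p b * (Nat.card H : ℂ)⁻¹ with hq
  have hF : ∀ χ ψ, contribution p x b χ ψ = q * ∑ w ∈ R, f χ w * conj (f ψ w) := fun χ ψ =>
    contribution_eq_sum_regular hM hind.1 χ ψ
  have hH0 : (Nat.card H : ℂ) ≠ 0 := Nat.cast_ne_zero.2 Nat.card_pos.ne'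
  have hrep : ∀ v ∈ R, ∑ w ∈ R, colKer b v w * f χ w = (Nat.card H : ℂ) * f χ v := fun v hv => by
    simp only [hf, blockPart_eq_sum, Finset.mul_sum]
    rw [Finset.sum_comm]
    refine Finset.sum_congr rfl fun θ hθ => ?_
    rw [Finset.sum_congr rfl fun w _ => mul_left_comm (colKer b v w) _ _, ← Finset.mul_sum,
      sum_colKer_mul_block hM hind.1 (Finset.mem_filter.1 hθ).2 (Finset.mem_filter.1 hv).2,
      mul_left_comm]
  have key : ∑ ψ ∈ Finset.univ.filter (· ∈ B),
      contribution p x b χ ψ * conj (contribution p x b χ ψ) =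
      q * conj q * ∑ v ∈ R, conj (f χ v) * ∑ w ∈ R, colKer b v w * f χ w := by
    rw [Finset.sum_congr rfl fun v hv => congrArg (conj (f χ v) * ·)
      (Finset.sum_congr rfl fun w hw => by
        rw [← sum_blockPart_mul_conj_blockPart hM hx hH hind (Finset.mem_filter.1 hv).2
          (Finset.mem_filter.1 hw).2])]
    simp only [hF, map_mul, map_sum, Complex.conj_conj, Finset.sum_mul, Finset.mul_sum]
    rw [Finset.sum_comm]
    refine Finset.sum_congr rfl fun v _ => ?_
    rw [Finset.sum_comm]
    exact Finset.sum_congr rfl fun w _ => Finset.sum_congr rfl fun ψ _ => by simp only [hf]; ring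
  rw [key, Finset.sum_congr rfl fun v hv => congrArg (conj (f χ v) * ·) (hrep v hv), hF, hq, map_mul,
    map_pow, map_inv₀, map_natCast, map_natCast, Finset.mul_sum, Finset.mul_sum, Finset.mul_sum]
  refine Finset.sum_congr rfl fun v _ => ?_
  field_simp

lemma isIntegral_natCast' (n : ℕ) : IsIntegral ℤ (n : ℂ) := by
  simpa using (isIntegral_algebraMap (R := ℤ) (A := ℂ) (x := (n : ℤ)))

/-- Contributions at the conjugate sections. -/
lemma contribution_pow_eq (hH : H = Subgroup.centralizer (Subgroup.zpowers x : Set G))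
    (b : Set (IrrCharacter H)) [DecidablePred (· ∈ b)] (χ ψ : IrrCharacter G) (j : ℕ) :
    contribution p (x ^ j) b χ ψ =
      ∑ i ∈ Finset.univ.filter (· ∈ b) ×ˢ Finset.univ.filter (· ∈ b),
        ((regRed p b i.1 i.2 * ((resMult H χ i.1 : ℤ) * (resMult H ψ i.2 : ℤ)) : ℤ) : ℂ) *
          (centralValue x i.1 * conj (centralValue x i.2)) ^ j := by
  rw [contribution_def, Finset.sum_product]
  refine Finset.sum_congr rfl fun θ _ => Finset.sum_congr rfl fun θ' _ => ?_
  rw [sectCoef_pow hH, sectCoef_pow hH, map_mul, map_pow, map_natCast, mul_pow]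
  push_cast
  ring

lemma isIntegral_omega (χ : IrrCharacter G) {a : MonoidAlgebra ℂ G} (hc : IsCentralFn a)
    (hi : ∀ g, IsIntegral ℤ (fn a g)) : IsIntegral ℤ (omega (χ : G → ℂ) a) := by
  classical
  rw [omega_eq_sum_classes _ (isClassFunction_irr χ) hc]
  exact IsIntegral.sum _ fun C _ => (hi _).mul (isIntegral_centralChar_irrChar χ _)

section Major

variable (hH : H = Subgroup.centralizer (Subgroup.zpowers x : Set G))
  (hx : ∃ k : ℕ, orderOf x = p ^ k)

include hH hx

lemma isIntegral_contribution (hM : IsPModular p M) (b : Set (IrrCharacter H))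
    (χ ψ : IrrCharacter G) : IsIntegral ℤ (contribution p x b χ ψ) := by
  classical
  rw [contribution_def]
  exact IsIntegral.sum _ fun θ _ => IsIntegral.sum _ fun θ' _ =>
    (isIntegral_algebraMap (R := ℤ) (x := regRed p b θ θ')).mul
      ((sectCoef_mem_place hH hx hM χ θ).2.2.2.2.mul
        ((sectCoef_mem_place hH hx hM ψ θ').2.2.2.2.map (starRingEnd ℂ).toIntAlgHom))

/-- Contributions of a major subsection are divisible by `p` to the height. -/
theorem isIntegral_contribution_div (hM : IsPModular p M) {b : Set (IrrCharacter H)}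
    {B : Set (IrrCharacter G)} (hind : IsInducedBlock M H b B)
    (hdef : blockDefect p b = blockDefect p B) {χ : IrrCharacter G} (hχ : χ ∈ B)
    (ψ : IrrCharacter G) :
    IsIntegral ℤ (contribution p x b χ ψ / ((p ^ blockHeight p B (χ : G → ℂ) : ℕ) : ℂ)) ∧
      ∀ a : MonoidAlgebra ℂ G, (∀ φ ∈ B,
          ((Nat.card G / p ^ (Nat.card G).factorization p : ℕ) : ℂ) * contribution p x b φ ψ =
            omega ((φ : IrrCharacter G) : G → ℂ) a * (degRed p B φ : ℂ)) →
        ((Nat.card G / p ^ (Nat.card G).factorization p : ℕ) : ℂ) *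
            (contribution p x b χ ψ / ((p ^ blockHeight p B (χ : G → ℂ) : ℕ) : ℂ)) =
          omega (χ : G → ℂ) a *
            ((degRed p B χ / p ^ blockHeight p B (χ : G → ℂ) : ℕ) : ℂ) := by
  classical
  set n := Nat.card G / p ^ (Nat.card G).factorization p with hn
  set h := blockHeight p B (χ : G → ℂ) with hh
  have hdvd : p ^ h ∣ degRed p B χ := by
    have h1 := pow_mul_degRed hM hind.2.1 hχ
    refine Nat.dvd_of_mul_dvd_mul_left (pow_pos hM.1.pos (minExp p B)) ?_
    rw [h1, ← pow_add]
    refine (pow_dvd_pow p ?_).trans (Nat.ordProj_dvd _ p)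
    have := minExp_le hM hind.2.1 hχ
    rw [hh, blockHeight]
    change minExp p B + ((deg (χ : G → ℂ)).factorization p - minExp p B) ≤ _
    omega
  have hph : ((p ^ h : ℕ) : ℂ) ≠ 0 := Nat.cast_ne_zero.2 (pow_ne_zero _ hM.1.ne_zero)
  have key : ∀ a : MonoidAlgebra ℂ G, (∀ φ ∈ B, (n : ℂ) * contribution p x b φ ψ =
      omega ((φ : IrrCharacter G) : G → ℂ) a * (degRed p B φ : ℂ)) →
      (n : ℂ) * (contribution p x b χ ψ / ((p ^ h : ℕ) : ℂ)) =
        omega (χ : G → ℂ) a * ((degRed p B χ / p ^ h : ℕ) : ℂ) := fun a ha => by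
    rw [Nat.cast_div hdvd hph, ← mul_div_assoc, ha χ hχ, mul_div_assoc]
  refine ⟨?_, key⟩
  obtain ⟨a, hac, -, haint, ha⟩ := exists_centralElem_contribution hH hx hM hind hdef ψ
  have h1 : IsIntegral ℤ ((n : ℂ) * (contribution p x b χ ψ / ((p ^ h : ℕ) : ℂ))) := by
    rw [key a ha]
    exact (isIntegral_omega χ hac haint).mul
      (isIntegral_natCast' _)
  have hco : IsCoprime (n : ℤ) ((p ^ h : ℕ) : ℤ) := by
    rw [Int.isCoprime_iff_nat_coprime, Int.natAbs_natCast, Int.natAbs_natCast]
    exact ((hM.1.coprime_iff_not_dvd).2 (Nat.not_dvd_ordCompl hM.1 Nat.card_pos.ne')).symm.pow_right h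
  obtain ⟨u, v, huv⟩ := hco
  have huv' := congrArg (fun z : ℤ => (z : ℂ)) huv
  simp only [Int.cast_add, Int.cast_mul, Int.cast_natCast, Int.cast_one] at huv'
  rw [show contribution p x b χ ψ / ((p ^ h : ℕ) : ℂ) =
    (u : ℂ) * ((n : ℂ) * (contribution p x b χ ψ / ((p ^ h : ℕ) : ℂ))) +
      (v : ℂ) * contribution p x b χ ψ by
    conv_lhs => rw [← one_mul (contribution p x b χ ψ / ((p ^ h : ℕ) : ℂ)), ← huv']
    field_simp]
  exact ((isIntegral_algebraMap (R := ℤ) (x := u)).mul h1).add
    ((isIntegral_algebraMap (R := ℤ) (x := v)).mul (isIntegral_contribution hH hx hM b χ ψ))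

/-- The diagonal contribution of a character of positive height is small after dividing. -/
theorem res_contribution_self_div (hM : IsPModular p M) {b : Set (IrrCharacter H)}
    {B : Set (IrrCharacter G)} (hind : IsInducedBlock M H b B)
    (hdef : blockDefect p b = blockDefect p B) {χ : IrrCharacter G} (hχ : χ ∈ B)
    (hpos : blockHeight p B (χ : G → ℂ) ≠ 0) :
    res M (contribution p x b χ χ / ((p ^ blockHeight p B (χ : G → ℂ) : ℕ) : ℂ)) = 0 := by
  classical
  obtain ⟨φ, hφ, hφ0⟩ := exists_height_zero hM hind.2.1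
  obtain ⟨a, hac, hai, -, ha⟩ := exists_centralElem_contribution hH hx hM hind hdef χ
  set n := Nat.card G / p ^ (Nat.card G).factorization p with hn
  set h := blockHeight p B (χ : G → ℂ) with hh
  have hnres : (n : Res M) ≠ 0 := fun h =>
    Nat.not_dvd_ordCompl hM.1 Nat.card_pos.ne' ((res_natCast_eq_zero_iff hM _).1 h)
  -- the central character at a height zero character is small
  have hsmall : res M (contribution p x b φ χ) = 0 := by
    have hi := (isIntegral_contribution_div hH hx hM hind hdef hχ φ).1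
    have hph : ((p ^ h : ℕ) : ℂ) ≠ 0 := Nat.cast_ne_zero.2 (pow_ne_zero _ hM.1.ne_zero)
    rw [← conj_contribution hM.1 b χ φ, ← mul_div_cancel₀ (contribution p x b χ φ) hph, map_mul,
      map_natCast, res_mul (natCast_mem_place _)
        (show conj (contribution p x b χ φ / ((p ^ h : ℕ) : ℂ)) ∈ place M from
        isIntegral_mem_place hM (hi.map (starRingEnd ℂ).toIntAlgHom)), res_natCast,
      (res_natCast_eq_zero_iff hM _).2 (dvd_pow_self p hpos), zero_mul]
  have h1 := congrArg (res M) (ha φ hφ)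
  rw [res_mul (natCast_mem_place _)
      (isIntegral_mem_place hM (isIntegral_contribution hH hx hM b φ χ)),
    res_natCast, hsmall, mul_zero,
    res_mul (omega_mem_place hM φ hac hai) (natCast_mem_place _), res_natCast, eq_comm, mul_eq_zero] at h1
  have hw : res M (omega (φ : G → ℂ) a) = 0 := h1.resolve_right fun h' =>
    not_dvd_degRed hM hind.2.1 hφ hφ0 ((res_natCast_eq_zero_iff hM _).1 h')
  rw [res_omega_eq_of_sameBlock hM (IsPBlock.sameBlock hM hind.2.1 hφ hχ) hac hai] at hw
  obtain ⟨hi, hkey⟩ := isIntegral_contribution_div hH hx hM hind hdef hχ χ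
  have h2 := congrArg (res M) (hkey a ha)
  rw [res_mul (natCast_mem_place _) (isIntegral_mem_place hM hi),
    res_natCast, res_mul (omega_mem_place hM χ hac hai) (natCast_mem_place _), hw, zero_mul,
    mul_eq_zero] at h2
  exact h2.resolve_left hnres

end Major

end Cfsg.Lib.Blocks
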