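import Mathlib
import Cfsg.Agent.Blocks.ContributionRows
import Cfsg.Agent.Blocks.AbelianSubsections
import Cfsg.Agent.Blocks.BrauerHom
import Cfsg.Agent.Blocks.PiSection

/-!
# Brauer's bound on heights

The sections of a character have total mass at most the order of the group.  The major sections
below a maximal pair `(D, c)` are indexed by the centre of `D` up to the inertial group, and the
contribution of each is `p` to the height times a totally positive algebraic integer.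
-/

set_option autoImplicit false
set_option linter.unusedSectionVars false
set_option linter.style.haveILetI false

namespace Cfsg.Lib.Blocks

open Cfsg Cfsg.Lib.Chars
open scoped ComplexConjugate

universe u

local notation "C⟨" P "⟩" => Subgroup.centralizer (SetLike.coe P)

variable {G : Type u} [Group G] [Fintype G] {M : Ideal AlgInt} {p : ℕ}

/-- The squared length of the part of `χ` in a section. -/
noncomputable def secMass (p : ℕ) (χ : IrrCharacter G) (ω : SecIdx G) : ℝ := by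
  classical
  exact ∑ w ∈ Finset.univ.filter (fun v : C⟨Subgroup.zpowers ω.1⟩ => ¬ p ∣ orderOf v),
    ‖blockPart ω.2 (fun c => (χ : G → ℂ) (ω.1 * (c : G))) w‖ ^ 2

lemma secMass_nonneg (χ : IrrCharacter G) (ω : SecIdx G) : 0 ≤ secMass p χ ω :=
  Finset.sum_nonneg fun w _ => sq_nonneg _

/-- The block parts are orthogonal on the regular elements. -/
lemma sum_norm_sq_blockPart (hM : IsPModular p M) {f : G → ℂ} (hf : IsClassFunction G f) :
    ∑ b ∈ blocksFinset M G,
        ∑ w ∈ Finset.univ.filter (fun v : G => ¬ p ∣ orderOf v), ‖blockPart b f w‖ ^ 2 =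
      ∑ w ∈ Finset.univ.filter (fun v : G => ¬ p ∣ orderOf v), ‖f w‖ ^ 2 := by
  classical
  apply Complex.ofReal_injective
  push_cast
  simp only [← Complex.mul_conj']
  set R := Finset.univ.filter (fun v : G => ¬ p ∣ orderOf v) with hR
  have h1 : ∀ b ∈ blocksFinset M G, ∑ w ∈ R, blockPart b f w * conj (blockPart b f w) =
      ∑ w ∈ R, f w * conj (blockPart b f w) := by
    intro b hb
    have hb' := (mem_blocksFinset hM).1 hb
    simp only [blockPart_eq_sum b f, map_sum, map_mul, Finset.mul_sum]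
    rw [Finset.sum_comm, Finset.sum_comm (s := R)]
    refine Finset.sum_congr rfl fun θ hθ => ?_
    have h := sum_regular_blockPart hM hb' f (Finset.mem_filter.1 hθ).2
    simp only [blockPart_eq_sum b f] at h
    simp only [mul_left_comm _ (conj (classInner f _)), ← Finset.mul_sum]
    rw [h]
  rw [Finset.sum_congr rfl h1, Finset.sum_comm]
  refine Finset.sum_congr rfl fun w _ => ?_
  rw [← Finset.mul_sum, ← map_sum, sum_blockPart hM hf]

/-- The sections of a character have total mass at most the group order. -/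
theorem sum_secMass_le (hM : IsPModular p M) (χ : IrrCharacter G) (Ω : Finset (SecIdx G))
    (hΩ : ∀ ω ∈ Ω, (∃ k : ℕ, orderOf ω.1 = p ^ k) ∧ IsPBlock M ω.2) :
    ∑ ω ∈ Ω, secMass p χ ω ≤ (Nat.card G : ℝ) := by
  classical
  set X := Finset.univ.filter (fun x : G => ∃ k : ℕ, orderOf x = p ^ k) with hX
  have hsub : Ω ⊆ X.sigma fun x => blocksFinset M C⟨Subgroup.zpowers x⟩ := fun ω hω =>
    Finset.mem_sigma.2 ⟨Finset.mem_filter.2 ⟨Finset.mem_univ _, (hΩ ω hω).1⟩,
      (mem_blocksFinset hM).2 (hΩ ω hω).2⟩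
  refine (Finset.sum_le_sum_of_subset_of_nonneg hsub fun ω _ _ => secMass_nonneg χ ω).trans ?_
  rw [Finset.sum_sigma]
  have h1 : ∀ x : G, ∑ b ∈ blocksFinset M C⟨Subgroup.zpowers x⟩,
      secMass p χ (⟨x, b⟩ : SecIdx G) =
      ∑ w ∈ Finset.univ.filter (fun v : C⟨Subgroup.zpowers x⟩ => ¬ p ∣ orderOf v),
        ‖(χ : G → ℂ) (x * (w : G))‖ ^ 2 := by
    intro x
    have hf : IsClassFunction C⟨Subgroup.zpowers x⟩
        (fun c => (χ : G → ℂ) (x * (c : G))) := fun a h => by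
      have hc : Commute x (h : G) :=
        commute_of_mem_centralizer (H := C⟨Subgroup.zpowers x⟩) rfl h.2
      show (χ : G → ℂ) (x * ((h * a * h⁻¹ : C⟨Subgroup.zpowers x⟩) : G)) = _
      rw [show x * ((h * a * h⁻¹ : C⟨Subgroup.zpowers x⟩) : G) =
          (h : G) * (x * (a : G)) * (h : G)⁻¹ by
        simp only [Subgroup.coe_mul, Subgroup.coe_inv]
        rw [← mul_assoc, ← mul_assoc, hc.eq]; group]
      exact isClassFunction_irr χ _ _
    have h2 := sum_norm_sq_blockPart (G := C⟨Subgroup.zpowers x⟩) (p := p) hM hf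
    simp only [secMass]
    convert h2
  rw [Finset.sum_congr rfl fun x _ => h1 x,
    ← Finset.sum_sigma X (fun x => Finset.univ.filter
      (fun v : C⟨Subgroup.zpowers x⟩ => ¬ p ∣ orderOf v))
      (fun q => ‖(χ : G → ℂ) (q.1 * (q.2 : G))‖ ^ 2)]
  refine le_of_le_of_eq ((Finset.sum_image (s := X.sigma fun x => Finset.univ.filter
      (fun v : C⟨Subgroup.zpowers x⟩ => ¬ p ∣ orderOf v))
      (g := fun q => q.1 * (q.2 : G)) (f := fun g => ‖(χ : G → ℂ) g‖ ^ 2) ?_).symm.le.trans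
    (Finset.sum_le_sum_of_subset_of_nonneg (Finset.subset_univ _) fun g _ _ => sq_nonneg _)) ?_
  · rintro ⟨x, w⟩ hq ⟨x', w'⟩ hq' h
    simp only [Finset.coe_sigma, Set.mem_sigma_iff, Finset.mem_coe, Finset.mem_filter, hX,
      Finset.mem_univ, true_and] at hq hq'
    dsimp only at h
    rw [← Subgroup.orderOf_coe] at hq hq'
    have h1 := isPPart_mul (commute_of_mem_centralizer (H := C⟨Subgroup.zpowers x⟩) rfl w.2)
      hq.1 hq.2
    have h2 := isPPart_mul (commute_of_mem_centralizer (H := C⟨Subgroup.zpowers x'⟩) rfl w'.2)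
      hq'.1 hq'.2
    rw [h] at h1
    obtain rfl := IsPPart.eq hM.1 h1 h2
    obtain rfl : w = w' := Subtype.ext (mul_left_cancel h)
    rfl
  · have h2 := classInner_self_irr χ.2
    rw [classInner_self, ← Complex.ofReal_one, Complex.ofReal_inj,
      inv_mul_eq_iff_eq_mul₀ (Nat.cast_ne_zero.2 Nat.card_pos.ne'), mul_one] at h2
    exact h2

/-- Transport of a block part. -/
lemma blockPart_irrEquiv {K H : Type u} [Group K] [Group H] [Fintype K] [Fintype H] (e : K ≃* H)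
    (b : Set (IrrCharacter H)) (f : H → ℂ) (k : K) :
    blockPart (irrEquiv e '' b) (fun a => f (e a)) k = blockPart b f (e k) := by
  classical
  rw [blockPart_eq_sum, blockPart_eq_sum]
  refine (Finset.sum_nbij (irrEquiv e) (fun θ hθ => Finset.mem_filter.2 ⟨Finset.mem_univ _,
    θ, (Finset.mem_filter.1 hθ).2, rfl⟩) (fun _ _ _ _ h => (irrEquiv e).injective h) ?_
    fun θ _ => ?_).symm
  · intro ψ hψ
    obtain ⟨θ, hθ, rfl⟩ := (Finset.mem_filter.1 hψ).2
    exact ⟨θ, Finset.mem_filter.2 ⟨Finset.mem_univ _, hθ⟩, rfl⟩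
  · have h : classInner (fun a : K => f (e a)) (irrEquiv e θ : K → ℂ) =
        classInner f (θ : H → ℂ) := by
      simp only [classInner_def, irrEquiv_apply]
      rw [Nat.card_congr e.toEquiv]
      congr 1
      exact Fintype.sum_equiv e.toEquiv _ _ fun a => rfl
    rw [h, irrEquiv_apply]

/-- Conjugate sections have the same mass. -/
lemma secMass_secMap (χ : IrrCharacter G)
    (fb : ∀ y : G, Set (IrrCharacter C⟨Subgroup.zpowers y⟩)) (g y : G) :
    secMass p χ (secMap fb (g, y)) = secMass p χ (⟨y, fb y⟩ : SecIdx G) := by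
  classical
  set E := conjSubEquiv (isConjSub_zpowers g y) with hE
  have hf : (fun c : C⟨Subgroup.zpowers (g * y * g⁻¹)⟩ =>
      (χ : G → ℂ) (g * y * g⁻¹ * (c : G))) =
      fun a => (fun c : C⟨Subgroup.zpowers y⟩ => (χ : G → ℂ) (y * (c : G))) (E a) := by
    funext c
    show _ = (χ : G → ℂ) (y * (g⁻¹ * (c : G) * g))
    rw [← isClassFunction_irr χ (y * (g⁻¹ * (c : G) * g)) g]
    congr 1
    group
  show ∑ w ∈ Finset.univ.filter (fun v : C⟨Subgroup.zpowers (g * y * g⁻¹)⟩ => ¬ p ∣ orderOf v),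
      ‖blockPart (conjSet C⟨Subgroup.zpowers y⟩ C⟨Subgroup.zpowers (g * y * g⁻¹)⟩ g (fb y))
        (fun c => (χ : G → ℂ) (g * y * g⁻¹ * (c : G))) w‖ ^ 2 = _
  rw [conjSet_eq_image (isConjSub_zpowers g y), hf, Finset.sum_filter]
  unfold secMass
  rw [Finset.sum_filter]
  refine Fintype.sum_equiv E.toEquiv _ _ fun w => ?_
  have h3 := blockPart_irrEquiv E (fb y) (fun c => (χ : G → ℂ) (y * (c : G))) w
  have h4 : orderOf (E w) = orderOf w := orderOf_injective E.toMonoidHom E.injective w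
  simp only [MulEquiv.toEquiv_eq_coe, MulEquiv.coe_toEquiv, h4, hE] at h3 ⊢
  by_cases hw : p ∣ orderOf w
  · simp [hw]
  · simp [hw, h3]

variable [Fact p.Prime] {B : Set (IrrCharacter G)} {D : Subgroup G}
  {c : Set (IrrCharacter C⟨D⟩)}

/-- A block of a subgroup below a pair is unique. -/
lemma eq_of_br (hM : IsPModular p M) {K : Subgroup G} [Fintype K] (hDK : D ≤ K) (hCK : C⟨D⟩ ≤ K)
    (hc : IsBrauerPair p M D c) {f f' : Set (IrrCharacter K)} (hf : IsPBlock M f)
    (hf' : IsPBlock M f') (h : br D (bi M K f) * bi M C⟨D⟩ c = bi M C⟨D⟩ c)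
    (h' : br D (bi M K f') * bi M C⟨D⟩ c = bi M C⟨D⟩ c) : f = f' :=
  (existsUnique_block (G := K) hM (e := downSet hDK c)
    ⟨hc.1.comap_subtype, isPBlock_downSet hDK hCK hc.2⟩).unique
    ((pair_down_iff hM hDK hCK hc.1 hf hc.2).2 h) ((pair_down_iff hM hDK hCK hc.1 hf' hc.2).2 h')

/-- Contributions only see the subgroup as a set. -/
lemma contribution_eq_of_br (hM : IsPModular p M) (hc : IsBrauerPair p M D c) {H H' : Subgroup G}
    [Fintype H] [Fintype H'] (hHH : H = H') (hDH : D ≤ H) (hCH : C⟨D⟩ ≤ H)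
    {b : Set (IrrCharacter H)} {b' : Set (IrrCharacter H')} (hb : IsPBlock M b)
    (hb' : IsPBlock M b') (h : br D (bi M H b) * bi M C⟨D⟩ c = bi M C⟨D⟩ c)
    (h' : br D (bi M H' b') * bi M C⟨D⟩ c = bi M C⟨D⟩ c) (x : G) (χ ψ : IrrCharacter G) :
    contribution p x b χ ψ = contribution p x b' χ ψ := by
  subst hHH
  rw [eq_of_br hM hDH hCH hc hb hb' h h']
  congr!

/-- The centre of `D` centralises `D` and its centralizer. -/
lemma le_centralizer_zpowers_center {y : G} (hy : y ∈ D) (hyc : ∀ a ∈ D, a * y = y * a) :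
    D ≤ C⟨Subgroup.zpowers y⟩ ∧ C⟨D⟩ ≤ C⟨Subgroup.zpowers y⟩ :=
  ⟨fun a ha => by
    rw [centralizer_zpowers, Subgroup.mem_centralizer_singleton_iff]
    exact hyc a ha, centralizer_le_zpowers hy⟩

/-- The section below the pair at a central element of `D` is major. -/
lemma major_section (hM : IsPModular p M) (hD : IsDefectGroup p M B D)
    (hc : IsBrauerPairOf p M B D c) {y : G} (hy : y ∈ D) (hyc : ∀ a ∈ D, a * y = y * a)
    {f : Set (IrrCharacter C⟨Subgroup.zpowers y⟩)} (hf : IsBelow M D c y f) :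
    IsInducedBlock M C⟨Subgroup.zpowers y⟩ f B ∧
      IsDefectGroup p M f (D.subgroupOf C⟨Subgroup.zpowers y⟩) ∧
      blockDefect p f = blockDefect p B := by
  classical
  letI := Fintype.ofFinite C⟨Subgroup.zpowers y⟩
  obtain ⟨hDK, hCK⟩ := le_centralizer_zpowers_center hy hyc
  have hind := isInducedBlock_of_pair hM hDK hCK hf.1 hf.2 hc
  have hpair := (pair_down_iff hM hDK hCK hc.1.1 hf.1 hc.1.2).2 hf.2
  obtain ⟨D', hD'⟩ := exists_defectGroup hM hf.1
  obtain ⟨E, hE, hle⟩ := exists_defectGroup_ge_of_induced hM C⟨Subgroup.zpowers y⟩ hind hD'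
  obtain ⟨x, hx⟩ := exists_le_conj_of_pair hM hD' hpair
  obtain ⟨a, ha⟩ := IsDefectGroup.exists_eq_conj hM hc.2.1 hD hE
  have hcard : Nat.card (D'.map (MulAut.conj x).toMonoidHom) ≤
      Nat.card (D.subgroupOf C⟨Subgroup.zpowers y⟩) := by
    rw [card_map_conj, Nat.card_congr (Subgroup.subgroupOfEquivOfLe hDK).toEquiv,
      ← Subgroup.card_map_of_injective (C⟨Subgroup.zpowers y⟩).subtype_injective,
      ← card_map_conj D a, ← ha]
    exact Subgroup.card_le_of_le hle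
  have hfD : IsDefectGroup p M f (D.subgroupOf C⟨Subgroup.zpowers y⟩) := by
    rw [Subgroup.eq_of_le_of_card_ge hx hcard]
    exact IsDefectGroup.conj hM hf.1 hD' x
  refine ⟨hind, hfD, ?_⟩
  have h1 := IsDefectGroup.card hM hf.1 hfD
  have h2 := IsDefectGroup.card hM hc.2.1 hD
  rw [Nat.card_congr (Subgroup.subgroupOfEquivOfLe hDK).toEquiv, h2] at h1
  exact (Nat.pow_right_injective (Fact.out : p.Prime).two_le h1).symm

/-- Fusion of major sections. -/
theorem major_fusion (hM : IsPModular p M) (hD : IsDefectGroup p M B D)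
    (hc : IsBrauerPairOf p M B D c) {y y' : G} (hy : y ∈ D) (hyc : ∀ a ∈ D, a * y = y * a)
    (hy' : y' ∈ D) (hyc' : ∀ a ∈ D, a * y' = y' * a)
    {f : Set (IrrCharacter C⟨Subgroup.zpowers y⟩)} (hf : IsBelow M D c y f)
    {f' : Set (IrrCharacter C⟨Subgroup.zpowers y'⟩)} (hf' : IsBelow M D c y' f') {g : G}
    (hgy : g * y * g⁻¹ = y') (hgf : cj g (bi M _ f) = bi M _ f') :
    ∃ t : G, t ∈ Subgroup.normalizer (D : Set G) ∧ cj t (bi M C⟨D⟩ c) = bi M C⟨D⟩ c ∧
      t * y * t⁻¹ = y' := by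
  classical
  letI := Fintype.ofFinite C⟨Subgroup.zpowers y'⟩
  obtain ⟨hDK, hCK⟩ := le_centralizer_zpowers_center hy' hyc'
  set D' := D.map (MulAut.conj g).toMonoidHom with hD'
  have hy'D' : y' ∈ D' := ⟨y, hy, by simpa using hgy⟩
  have hD'K : D' ≤ C⟨Subgroup.zpowers y'⟩ := (le_centralizer_zpowers_center hy'D' fun a ha => by
    obtain ⟨b, hb, rfl⟩ := ha
    show g * b * g⁻¹ * y' = y' * (g * b * g⁻¹)
    rw [← hgy]
    calc g * b * g⁻¹ * (g * y * g⁻¹) = g * (b * y) * g⁻¹ := by group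
      _ = g * y * g⁻¹ * (g * b * g⁻¹) := by rw [hyc b hb]; group).1
  have hc' : IsBrauerPair p M D' (conjBlock D g c) := IsBrauerPair.conjBlock hc.1 g
  have hbr : br D' (bi M C⟨Subgroup.zpowers y'⟩ f') * bi M C⟨D'⟩ (conjBlock D g c) =
      bi M C⟨D'⟩ (conjBlock D g c) := by
    rw [bi_conjBlock, ← hgf, ← cj_br, ← cj_mul, hf.2]
  obtain ⟨-, hfD, -⟩ := major_section hM hD hc hy' hyc' hf'
  have hpair' := (pair_down_iff hM hD'K (centralizer_le_zpowers hy'D') hc'.1 hf'.1 hc'.2).2 hbr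
  have hfc := (pair_down_iff hM hDK hCK hc.1.1 hf'.1 hc.1.2).2 hf'.2
  have hmax := isMaximal_of_isDefectGroup hM hfc hfD
  -- conjugate inside the centralizer
  obtain ⟨h, hh⟩ := IsDefectGroup.exists_eq_conj hM hf'.1 hfD
    (show IsDefectGroup p M f' (D'.subgroupOf C⟨Subgroup.zpowers y'⟩) by
      obtain ⟨z, hz⟩ := exists_le_conj_of_pair hM hfD hpair'
      have hcard : Nat.card ((D.subgroupOf C⟨Subgroup.zpowers y'⟩).map (MulAut.conj z).toMonoidHom) ≤
          Nat.card (D'.subgroupOf C⟨Subgroup.zpowers y'⟩) := by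
        rw [card_map_conj, Nat.card_congr (Subgroup.subgroupOfEquivOfLe hDK).toEquiv,
          Nat.card_congr (Subgroup.subgroupOfEquivOfLe hD'K).toEquiv, hD', card_map_conj]
      rw [Subgroup.eq_of_le_of_card_ge hz hcard]
      exact IsDefectGroup.conj hM hf'.1 hfD z)
  have hmapG : D' = D.map (MulAut.conj (h : G)).toMonoidHom := by
    have h1 := congrArg (Subgroup.map (C⟨Subgroup.zpowers y'⟩).subtype) hh
    rw [Subgroup.subgroupOf, Subgroup.map_comap_eq_self (by rwa [(C⟨Subgroup.zpowers y'⟩).range_subtype]),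
      Subgroup.map_map, show (C⟨Subgroup.zpowers y'⟩).subtype.comp (MulAut.conj h).toMonoidHom =
        (MulAut.conj (h : G)).toMonoidHom.comp (C⟨Subgroup.zpowers y'⟩).subtype from MonoidHom.ext fun a => by simp,
      ← Subgroup.map_map, Subgroup.subgroupOf,
      Subgroup.map_comap_eq_self (by rwa [(C⟨Subgroup.zpowers y'⟩).range_subtype])] at h1
    exact h1
  set w : G := (h : G)⁻¹ * g with hw
  have hwD : D.map (MulAut.conj w).toMonoidHom = D := by
    rw [hw, ← map_conj_map, ← hD', hmapG, map_conj_map, inv_mul_cancel, map_conj_one]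
  have hwN : w ∈ Subgroup.normalizer (D : Set G) := by
    refine Subgroup.mem_normalizer_iff.2 fun a => ?_
    constructor
    · intro ha
      rw [← hwD]
      exact ⟨a, ha, by simp⟩
    · intro ha
      rw [← hwD] at ha
      obtain ⟨b, hb, hba⟩ := ha
      rwa [← (MulAut.conj w).injective hba]
  have hwc : IsConjSub C⟨D⟩ C⟨D⟩ w :=
    isConjSub_of_mem_normalizer (centralizer_le_normalizer_centralizer hwN le_rfl)
  set c₁ := conjSet C⟨D⟩ C⟨D⟩ w c with hc₁
  have hc₁b : IsPBlock M c₁ := IsPBlock.conjSet hwc hc.1.2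
  have hfix : cj (h : G)⁻¹ (bi M C⟨Subgroup.zpowers y'⟩ f') = bi M C⟨Subgroup.zpowers y'⟩ f' :=
    invOn_iff.1 (invOn_bi f') _ ((C⟨Subgroup.zpowers y'⟩).inv_mem h.2)
  have hbr₁ : br D (bi M C⟨Subgroup.zpowers y'⟩ f') * bi M C⟨D⟩ c₁ = bi M C⟨D⟩ c₁ := by
    rw [hc₁, bi_conjSet hwc]
    have h2 := congrArg (cj (h : G)⁻¹) hbr
    rw [cj_mul, cj_br, hfix, bi_conjBlock, cj_cj, ← hw] at h2
    rwa [show D'.map (MulAut.conj (h : G)⁻¹).toMonoidHom = D by
      rw [hmapG, map_conj_map, inv_mul_cancel, map_conj_one]] at h2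
  obtain ⟨n, hn, hnc⟩ := exists_normalizer_cj (G := ↥C⟨Subgroup.zpowers y'⟩) hM hmax
    ((pair_down_iff hM hDK hCK hc.1.1 hf'.1 hc₁b).2 hbr₁)
  rw [← (emb_injective C⟨Subgroup.zpowers y'⟩).eq_iff, ← cj_emb, emb_bi_downSet hDK hCK,
    emb_bi_downSet hDK hCK, hc₁, bi_conjSet hwc] at hnc
  have hnN : (n : G) ∈ Subgroup.normalizer (D : Set G) := by
    have h2 := Subgroup.mem_normalizer_iff.1 hn
    refine Subgroup.mem_normalizer_iff.2 fun a => ?_
    constructor
    · intro ha; exact (h2 ⟨a, hDK ha⟩).1 ha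
    · intro ha
      have haH : a ∈ C⟨Subgroup.zpowers y'⟩ := by
        have h3 := (C⟨Subgroup.zpowers y'⟩).mul_mem ((C⟨Subgroup.zpowers y'⟩).mul_mem ((C⟨Subgroup.zpowers y'⟩).inv_mem n.2) (hDK ha)) n.2
        rwa [show (n : G)⁻¹ * ((n : G) * a * (n : G)⁻¹) * n = a by group] at h3
      exact (h2 ⟨a, haH⟩).2 ha
  have hny : ∀ a ∈ C⟨Subgroup.zpowers y'⟩, a * y' * a⁻¹ = y' := fun a ha => by
    rw [centralizer_zpowers, Subgroup.mem_centralizer_singleton_iff] at ha
    rw [ha, mul_inv_cancel_right]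
  refine ⟨(n : G)⁻¹ * w, mul_mem (inv_mem hnN) hwN, ?_, ?_⟩
  · rw [← cj_cj, ← hnc, cj_cj, inv_mul_cancel, cj_one]
  · calc (n : G)⁻¹ * w * y * ((n : G)⁻¹ * w)⁻¹
        = (n : G)⁻¹ * ((h : G)⁻¹ * (g * y * g⁻¹) * (h : G)⁻¹⁻¹) * (n : G)⁻¹⁻¹ := by
          rw [hw]; group
      _ = y' := by rw [hgy, hny _ ((C⟨Subgroup.zpowers y'⟩).inv_mem h.2), hny _ ((C⟨Subgroup.zpowers y'⟩).inv_mem n.2)]

/-- **Brauer's bound on heights.** -/
theorem height_add_center_le (hM : IsPModular p M) (hD : IsDefectGroup p M B D)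
    (hc : IsBrauerPairOf p M B D c) {d : ℕ} (hd : Nat.card D = p ^ d) {cz : ℕ}
    (hcz : Nat.card (Subgroup.center D) = p ^ cz) {T H : Subgroup G}
    (hT : ∀ t ∈ Subgroup.normalizer (D : Set G), cj t (bi M C⟨D⟩ c) = bi M C⟨D⟩ c → t ∈ T)
    (hH : ∀ h ∈ H, ∀ y ∈ D, (∀ a ∈ D, a * y = y * a) → h * y * h⁻¹ = y)
    {χ : IrrCharacter G} (hχ : χ ∈ B) :
    p ^ (blockHeight p B (χ : G → ℂ) + cz) ≤ H.relIndex T * p ^ d := by
  classical
  have hp : p.Prime := Fact.out
  haveI : NeZero p := ⟨hp.ne_zero⟩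
  set e := H.relIndex T with he
  set h := blockHeight p B (χ : G → ℂ) with hh
  set Z := Finset.univ.filter (fun y : G => y ∈ D ∧ ∀ a ∈ D, a * y = y * a) with hZ
  have hZm : ∀ y, y ∈ Z ↔ y ∈ D ∧ ∀ a ∈ D, a * y = y * a := fun y => by simp [hZ]
  have hZcard : Z.card = p ^ cz := by
    rw [← hcz, ← Subgroup.card_map_of_injective (f := D.subtype)
      D.subtype_injective,
      Nat.card_eq_fintype_card, Fintype.card_subtype]
    congr 1
    ext y
    simp only [Finset.mem_filter, Finset.mem_univ, true_and, hZm, Subgroup.mem_map,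
      Subgroup.mem_center_iff, Subgroup.coe_subtype]
    constructor
    · rintro ⟨hy, hyc⟩
      exact ⟨⟨y, hy⟩, fun a => Subtype.ext (hyc _ a.2), rfl⟩
    · rintro ⟨⟨z, hz⟩, hzc, rfl⟩
      exact ⟨hz, fun a ha => congrArg Subtype.val (hzc ⟨a, ha⟩)⟩
  have hex : ∀ y : G, ∃ f, y ∈ Z → IsBelow M D c y f := fun y => by
    by_cases hy : y ∈ Z
    · obtain ⟨hy1, hy2⟩ := (hZm y).1 hy
      obtain ⟨hDK, hCK⟩ := le_centralizer_zpowers_center hy1 hy2
      obtain ⟨f, hf, -⟩ := existsUnique_block (G := C⟨Subgroup.zpowers y⟩) hM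
        (e := downSet hDK c) ⟨hc.1.1.comap_subtype, isPBlock_downSet hDK hCK hc.1.2⟩
      exact ⟨f, fun _ => ⟨hf.2.1, (pair_down_iff hM hDK hCK hc.1.1 hf.2.1 hc.1.2).1 hf⟩⟩
    · exact ⟨∅, fun h => absurd h hy⟩
  choose fb hfb using hex
  have hmaj : ∀ y ∈ Z, IsInducedBlock M C⟨Subgroup.zpowers y⟩ (fb y) B ∧
      blockDefect p (fb y) = blockDefect p B := fun y hy => by
    obtain ⟨h1, -, h3⟩ := major_section hM hD hc ((hZm y).1 hy).1 ((hZm y).1 hy).2 (hfb y hy)
    exact ⟨h1, h3⟩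
  have hord : ∀ y ∈ Z, y ^ p ^ d = 1 := fun y hy => by
    have h1 : (⟨y, ((hZm y).1 hy).1⟩ : D) ^ p ^ d = 1 := by rw [← hd]; exact pow_card_eq_one'
    exact congrArg Subtype.val h1
  have hppow : ∀ y ∈ Z, ∃ k : ℕ, orderOf y = p ^ k := fun y hy => by
    obtain ⟨k, -, hk⟩ := (Nat.dvd_prime_pow hp).1 (orderOf_dvd_of_pow_eq_one (hord y hy))
    exact ⟨k, hk⟩
  have hdef : ∀ y ∈ Z, blockDefect p (fb y) = d := fun y hy => by
    rw [(hmaj y hy).2]
    have h1 := IsDefectGroup.card hM hc.2.1 hD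
    rw [hd] at h1
    exact (Nat.pow_right_injective hp.two_le h1).symm
  -- the contributions
  set m : G → ℂ := fun y => contribution p y (fb y) χ χ with hm
  have hmS : ∀ y ∈ Z, m y = ((p : ℝ) ^ d * (Nat.card C⟨Subgroup.zpowers y⟩ : ℝ)⁻¹ *
      secMass p χ (⟨y, fb y⟩ : SecIdx G) : ℝ) := fun y hy => by
    rw [hm]
    dsimp only
    rw [contribution_eq_sum_regular hM (hfb y hy).1, hdef y hy]
    unfold secMass
    push_cast
    simp only [← Complex.mul_conj']
  set β : G → ℝ := fun y => (p : ℝ) ^ d * (Nat.card C⟨Subgroup.zpowers y⟩ : ℝ)⁻¹ *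
      secMass p χ (⟨y, fb y⟩ : SecIdx G) / (p : ℝ) ^ h with hβ
  have hβm : ∀ y ∈ Z, (β y : ℂ) = m y / ((p ^ h : ℕ) : ℂ) := fun y hy => by
    rw [hmS y hy, hβ]
    push_cast
    rfl
  -- they are nonzero
  obtain ⟨φ, hφ, hφ0⟩ := exists_height_zero hM hc.2.1
  have hβpos : ∀ y ∈ Z, 0 < β y := by
    intro y hy
    have h0 : 0 ≤ β y := div_nonneg (mul_nonneg (by positivity) (secMass_nonneg χ _)) (by positivity)
    refine lt_of_le_of_ne h0 fun hz => ?_
    refine (contribution_height rfl (hppow y hy) hM (hmaj y hy).1 (hmaj y hy).2 hχ hφ hφ0).1 ?_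
    have hp0 : (p : ℝ) ≠ 0 := Nat.cast_ne_zero.2 hp.ne_zero
    have hs : secMass p χ (⟨y, fb y⟩ : SecIdx G) = 0 := by
      simpa [hβ, hp0, Nat.card_pos.ne'] using hz.symm
    unfold secMass at hs
    rw [Finset.sum_eq_zero_iff_of_nonneg fun w _ => sq_nonneg _] at hs
    rw [contribution_eq_sum_regular hM (hfb y hy).1, Finset.sum_eq_zero fun w hw => ?_, mul_zero]
    have h1 := hs w hw
    rw [sq_eq_zero_iff, norm_eq_zero] at h1
    rw [h1, zero_mul]
  -- their product is a nonzero integer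
  set N := p ^ d with hN
  haveI : NeZero N := ⟨pow_ne_zero _ hp.ne_zero⟩
  set P := ∏ y ∈ Z, m y / ((p ^ h : ℕ) : ℂ) with hP
  have hrep : ∀ y ∈ Z, ∀ j : ℕ, contribution p (y ^ j) (fb y) χ χ =
      ∑ i ∈ Finset.univ.filter (· ∈ fb y) ×ˢ Finset.univ.filter (· ∈ fb y),
        ((regRed p (fb y) i.1 i.2 * ((resMult C⟨Subgroup.zpowers y⟩ χ i.1 : ℤ) *
          (resMult C⟨Subgroup.zpowers y⟩ χ i.2 : ℤ)) : ℤ) : ℂ) *
          (centralValue y i.1 * conj (centralValue y i.2)) ^ j :=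
    fun y _ j => contribution_pow_eq rfl (fb y) χ χ j
  have hroot : ∀ y ∈ Z, ∀ θ θ' : IrrCharacter C⟨Subgroup.zpowers y⟩,
      (centralValue y θ * conj (centralValue y θ')) ^ N = 1 := fun y hy θ θ' => by
    rw [mul_pow, ← map_pow, centralValue_pow rfl (hord y hy), centralValue_pow rfl (hord y hy),
      map_one, one_mul]
  have hPmem : P ∈ cycField N := prod_mem fun y hy => div_mem (by
    have h1 := hrep y hy 1
    rw [pow_one] at h1
    rw [hm]
    dsimp only
    rw [h1]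
    exact sum_mem fun i _ => mul_mem (intCast_mem _ _)
      (pow_mem (mem_cycField_of_pow_eq_one N (hroot y hy _ _)) _)) (natCast_mem _ _)
  have hPint : IsIntegral ℤ P := IsIntegral.prod _ fun y hy =>
    (isIntegral_contribution_div rfl (hppow y hy) hM (hmaj y hy).1 (hmaj y hy).2 hχ χ).1
  obtain ⟨q, hq⟩ := rat_of_galConj_fixed hPmem fun σ j hj hσ => by
    have hpow : ∀ y ∈ Z, y ^ j ∈ Z := fun y hy => by
      obtain ⟨hy1, hy2⟩ := (hZm y).1 hy
      exact (hZm _).2 ⟨D.pow_mem hy1 j, fun a ha => (Commute.pow_right (hy2 a ha) j).eq⟩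
    have hinj : Set.InjOn (fun y => y ^ j) (Z : Set G) := fun y hy z hz hyz => by
      have hy' := hord y hy
      have hz' := hord z hz
      obtain ⟨i, hi⟩ : ∃ i, j * i ≡ 1 [MOD N] := by
        refine ⟨((ZMod.unitOfCoprime j hj)⁻¹ : (ZMod N)ˣ).1.val,
          (ZMod.natCast_eq_natCast_iff _ _ _).1 ?_⟩
        rw [Nat.cast_mul, ZMod.natCast_val, ZMod.cast_id', id, Nat.cast_one]
        exact (ZMod.unitOfCoprime j hj).mul_inv
      have h1 := congrArg (fun a => a ^ i) hyz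
      simp only [← pow_mul] at h1
      rwa [pow_eq_self_of_modEq_one (orderOf_dvd_of_pow_eq_one hy') hi,
        pow_eq_self_of_modEq_one (orderOf_dvd_of_pow_eq_one hz') hi] at h1
    have hσy : ∀ y ∈ Z, σ (m y / ((p ^ h : ℕ) : ℂ)) = m (y ^ j) / ((p ^ h : ℕ) : ℂ) := by
      intro y hy
      obtain ⟨hy1, hy2⟩ := (hZm y).1 hy
      obtain ⟨hDK, hCK⟩ := le_centralizer_zpowers_center hy1 hy2
      have hzp : Subgroup.zpowers y = Subgroup.zpowers (y ^ j) := by
        refine le_antisymm ?_ (Subgroup.zpowers_le.2 (Subgroup.npow_mem_zpowers y j))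
        obtain ⟨i, hi⟩ : ∃ i, j * i ≡ 1 [MOD N] := by
          refine ⟨((ZMod.unitOfCoprime j hj)⁻¹ : (ZMod N)ˣ).1.val,
            (ZMod.natCast_eq_natCast_iff _ _ _).1 ?_⟩
          rw [Nat.cast_mul, ZMod.natCast_val, ZMod.cast_id', id, Nat.cast_one]
          exact (ZMod.unitOfCoprime j hj).mul_inv
        have h1 : (y ^ j) ^ i = y := by
          rw [← pow_mul]
          exact pow_eq_self_of_modEq_one (orderOf_dvd_of_pow_eq_one (hord y hy)) hi
        refine Subgroup.zpowers_le.2 ?_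
        have h2 := Subgroup.npow_mem_zpowers (y ^ j) i
        rwa [h1] at h2
      have h1 := hrep y hy 1
      rw [pow_one] at h1
      have h2 : contribution p (y ^ j) (fb y) χ χ = m (y ^ j) :=
        contribution_eq_of_br hM hc.1 (congrArg (fun K : Subgroup G => C⟨K⟩) hzp) hDK hCK
          (hfb y hy).1 (hfb _ (hpow y hy)).1 (hfb y hy).2 (hfb _ (hpow y hy)).2 (y ^ j) χ χ
      rw [map_div₀, map_natCast, ← h2, hrep y hy j]
      congr 1
      rw [hm]
      dsimp only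
      rw [h1, map_sum]
      refine Finset.sum_congr rfl fun i _ => ?_
      rw [map_mul, map_intCast, pow_one, hσ _ (hroot y hy _ _)]
    rw [hP, map_prod, Finset.prod_congr rfl hσy]
    refine Finset.prod_nbij (fun y => y ^ j) hpow hinj ?_ fun y _ => rfl
    exact Finset.surjOn_of_injOn_of_card_le _ hpow hinj le_rfl
  obtain ⟨w, hw⟩ := int_of_isIntegral_rat (q := q) (hq ▸ hPint)
  have hPr : P = ((∏ y ∈ Z, β y : ℝ) : ℂ) := by
    rw [hP, Complex.ofReal_prod]
    exact Finset.prod_congr rfl fun y hy => (hβm y hy).symm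
  have hprod : 1 ≤ ∏ y ∈ Z, β y := by
    have h1 : (∏ y ∈ Z, β y) = (w : ℝ) := by
      have h2 : ((∏ y ∈ Z, β y : ℝ) : ℂ) = ((w : ℝ) : ℂ) := by
        rw [← hPr, hq, hw]
        push_cast
        rfl
      exact_mod_cast h2
    have h3 := Finset.prod_pos hβpos
    rw [h1] at h3 ⊢
    have h4 : 0 < w := by exact_mod_cast h3
    exact_mod_cast h4
  have hcount : (p : ℝ) ^ cz ≤ ∑ y ∈ Z, β y := by
    have h1 : 0 ≤ ∑ y ∈ Z, Real.log (β y) := by
      rw [← Real.log_prod (fun y hy => (hβpos y hy).ne')]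
      exact Real.log_nonneg hprod
    have h2 : ∑ y ∈ Z, Real.log (β y) ≤ ∑ y ∈ Z, (β y - 1) :=
      Finset.sum_le_sum fun y hy => Real.log_le_sub_one_of_pos (hβpos y hy)
    rw [Finset.sum_sub_distrib, Finset.sum_const, nsmul_one, hZcard] at h2
    push_cast at h2
    linarith
  -- the sections
  set S : SecIdx G → ℝ := secMass p χ with hS
  set U := (Finset.univ : Finset G) ×ˢ Z with hU
  set Ω := U.image (secMap fb) with hΩ
  have hΩle : ∑ ω ∈ Ω, S ω ≤ (Nat.card G : ℝ) := by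
    refine sum_secMass_le hM χ Ω fun ω hω => ?_
    obtain ⟨⟨g, y⟩, hgy, rfl⟩ := Finset.mem_image.1 hω
    have hy := (Finset.mem_product.1 hgy).2
    refine ⟨?_, IsPBlock.conjSet (isConjSub_zpowers g y) (hfb y hy).1⟩
    obtain ⟨k, hk⟩ := hppow y hy
    exact ⟨k, (orderOf_injective (MulAut.conj g).toMonoidHom
      (MulAut.conj g).injective y).trans hk⟩
  have hfib : ∀ ω ∈ Ω, ∑ q ∈ U.filter (fun q => secMap fb q = ω),
      (Nat.card C⟨Subgroup.zpowers q.2⟩ : ℝ)⁻¹ ≤ (e : ℝ) := by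
    intro ω hω
    obtain ⟨⟨g₀, y₀⟩, hU₀, rfl⟩ := Finset.mem_image.1 hω
    have hy₀ := (Finset.mem_product.1 hU₀).2
    obtain ⟨hy₀1, hy₀2⟩ := (hZm y₀).1 hy₀
    set O := Finset.univ.filter (fun y : G => ∃ t ∈ T, t * y₀ * t⁻¹ = y) with hO
    have hOcard : O.card ≤ e := by
      rw [he, Subgroup.relIndex, Subgroup.index_eq_card]
      have h2 : O.card = Nat.card {y : G // ∃ t ∈ T, t * y₀ * t⁻¹ = y} := by
        rw [Nat.card_eq_fintype_card, Fintype.card_subtype, hO]
      rw [h2]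
      refine Nat.card_le_card_of_surjective
        (Quotient.lift (fun t : T => (⟨(t : G) * y₀ * (t : G)⁻¹, t, t.2, rfl⟩ :
          {y : G // ∃ t ∈ T, t * y₀ * t⁻¹ = y})) fun a b hab => ?_) ?_
      · have h' : (a⁻¹ * b : T) ∈ H.subgroupOf T := QuotientGroup.leftRel_apply.1 hab
        have h3 := hH _ h' y₀ hy₀1 hy₀2
        change (a : G)⁻¹ * (b : G) * y₀ * ((a : G)⁻¹ * (b : G))⁻¹ = y₀ at h3
        apply Subtype.ext
        show (a : G) * y₀ * (a : G)⁻¹ = (b : G) * y₀ * (b : G)⁻¹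
        conv_lhs => rw [← h3]
        group
      · rintro ⟨y, t, ht, rfl⟩
        exact ⟨Quotient.mk _ ⟨t, ht⟩, rfl⟩
    rw [← Finset.sum_fiberwise_of_maps_to (g := Prod.snd) (t := O) fun q hq => ?_]
    swap
    · obtain ⟨hqU, hq⟩ := Finset.mem_filter.1 hq
      have hy := (Finset.mem_product.1 hqU).2
      obtain ⟨hy1, hy2⟩ := (hZm _).1 hy
      obtain ⟨h1, h2⟩ := (secMap_eq_iff hM fb (hfb _ hy).1
        (IsPBlock.conjSet (isConjSub_zpowers g₀ y₀) (hfb y₀ hy₀).1)).1 hq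
      rw [bi_conjSet (isConjSub_zpowers g₀ y₀)] at h2
      obtain ⟨t, htN, htc, hty⟩ := major_fusion hM hD hc hy₀1 hy₀2 hy1 hy2 (hfb y₀ hy₀) (hfb _ hy)
        (g := q.1⁻¹ * g₀) (by
          calc q.1⁻¹ * g₀ * y₀ * (q.1⁻¹ * g₀)⁻¹ = q.1⁻¹ * (g₀ * y₀ * g₀⁻¹) * q.1 := by group
            _ = q.2 := by rw [← h1]; group)
        (by rw [← cj_cj, ← h2, cj_cj, inv_mul_cancel, cj_one])
      exact Finset.mem_filter.2 ⟨Finset.mem_univ _, t, hT t htN htc, hty⟩
    refine (Finset.sum_le_sum fun y _ => ?_ : _ ≤ ∑ y ∈ O, (1 : ℝ)).trans ?_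
    · rw [Finset.sum_congr rfl fun q hq => by
        rw [(Finset.mem_filter.1 hq).2], Finset.sum_const, nsmul_eq_mul]
      rw [← div_eq_mul_inv, div_le_one (Nat.cast_pos.2 Nat.card_pos), Nat.cast_le]
      rcases Finset.eq_empty_or_nonempty
        ((U.filter (fun q => secMap fb q = secMap fb (g₀, y₀))).filter fun q => q.2 = y) with
        hne | ⟨q₁, hq₁⟩
      · rw [hne, Finset.card_empty]; exact Nat.zero_le _
      have hfst : ∀ q ∈ (U.filter (fun q => secMap fb q = secMap fb (g₀, y₀))).filter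
          fun q => q.2 = y, q.1 * y * q.1⁻¹ = g₀ * y₀ * g₀⁻¹ := fun q hq => by
        obtain ⟨hq', hqy⟩ := Finset.mem_filter.1 hq
        have h1 := congrArg Sigma.fst (Finset.mem_filter.1 hq').2
        rw [← hqy]
        exact h1
      rw [Nat.card_eq_fintype_card, ← Finset.card_univ]
      refine Finset.card_le_card_of_injOn (fun q => if hmem : q₁.1⁻¹ * q.1 ∈ C⟨Subgroup.zpowers y⟩
          then ⟨_, hmem⟩ else 1) (fun q _ => Finset.mem_univ _) fun q hq q' hq' hqq => ?_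
      have hmem : ∀ q ∈ (U.filter (fun q => secMap fb q = secMap fb (g₀, y₀))).filter
          fun q => q.2 = y, q₁.1⁻¹ * q.1 ∈ C⟨Subgroup.zpowers y⟩ := fun q hq => by
        rw [centralizer_zpowers, Subgroup.mem_centralizer_singleton_iff]
        have h1 := hfst q hq
        rw [← hfst q₁ hq₁] at h1
        calc q₁.1⁻¹ * q.1 * y = q₁.1⁻¹ * (q.1 * y * q.1⁻¹) * q.1 := by group
          _ = y * (q₁.1⁻¹ * q.1) := by rw [h1]; group
      dsimp only at hqq
      rw [dif_pos (hmem q hq), dif_pos (hmem q' hq')] at hqq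
      refine Prod.ext (mul_left_cancel (congrArg Subtype.val hqq)) ?_
      rw [(Finset.mem_filter.1 hq).2, (Finset.mem_filter.1 hq').2]
    · rw [Finset.sum_const, nsmul_one]
      exact_mod_cast hOcard
  have hmain : (Nat.card G : ℝ) * ∑ y ∈ Z, β y ≤
      (p : ℝ) ^ d / (p : ℝ) ^ h * ((e : ℝ) * (Nat.card G : ℝ)) := by
    have h1 : (Nat.card G : ℝ) * ∑ y ∈ Z, β y = (p : ℝ) ^ d / (p : ℝ) ^ h *
        ∑ q ∈ U, (Nat.card C⟨Subgroup.zpowers q.2⟩ : ℝ)⁻¹ * S (secMap fb q) := by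
      rw [hU, Finset.sum_product, Finset.sum_congr rfl fun g _ => Finset.sum_congr rfl fun y _ => by
        rw [hS, secMass_secMap]]
      dsimp only
      rw [Finset.sum_const, Finset.card_univ, nsmul_eq_mul,
        ← Nat.card_eq_fintype_card, mul_left_comm ((p : ℝ) ^ d / (p : ℝ) ^ h), Finset.mul_sum,
        Finset.mul_sum, Finset.mul_sum]
      refine Finset.sum_congr rfl fun y _ => ?_
      rw [hβ]
      ring
    rw [h1]
    refine mul_le_mul_of_nonneg_left ?_ (by positivity)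
    rw [← Finset.sum_fiberwise_of_maps_to (g := secMap fb) (t := Ω)
      fun q hq => Finset.mem_image_of_mem _ hq]
    refine (Finset.sum_le_sum fun ω hω => ?_ : _ ≤ ∑ ω ∈ Ω, (e : ℝ) * S ω).trans ?_
    · rw [Finset.sum_congr rfl fun q hq => by rw [(Finset.mem_filter.1 hq).2], ← Finset.sum_mul]
      exact mul_le_mul_of_nonneg_right (hfib ω hω) (secMass_nonneg χ ω)
    · rw [← Finset.mul_sum]
      exact mul_le_mul_of_nonneg_left hΩle (Nat.cast_nonneg _)
  have hG : (0 : ℝ) < Nat.card G := Nat.cast_pos.2 Nat.card_pos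
  have hfin : (p : ℝ) ^ cz ≤ (p : ℝ) ^ d / (p : ℝ) ^ h * e := by
    refine hcount.trans (le_of_mul_le_mul_left (hmain.trans (le_of_eq ?_)) hG)
    ring
  have hph : (0 : ℝ) < (p : ℝ) ^ h := pow_pos (Nat.cast_pos.2 hp.pos) _
  rw [div_mul_eq_mul_div, le_div_iff₀ hph, ← pow_add] at hfin
  have h5 : ((p ^ (h + cz) : ℕ) : ℝ) ≤ ((e * p ^ d : ℕ) : ℝ) := by
    push_cast
    rw [add_comm h cz, mul_comm (e : ℝ)]
    exact hfin
  exact_mod_cast h5

end Cfsg.Lib.Blocks
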