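import Mathlib
import Cfsg.Agent.Blocks.Star.AbelianTrace
import Cfsg.Agent.Blocks.Star.PrincipalMatrices

/-!
# The star matrices of a block with an abelian defect group

Every generalized character of the defect group that is invariant under the stabilizer of the
maximal pair acts on the block by an integral matrix, and products go to products of matrices.
-/

set_option autoImplicit false
set_option linter.unusedSectionVars false
set_option linter.style.haveILetI false

namespace Cfsg.Lib.Blocks.AbelianStar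

open Cfsg.Lib.Chars Cfsg.Lib.Blocks Cfsg.Lib.Blocks.Star
open scoped _root_.Classical ComplexConjugate

universe u

local notation "C⟨" P "⟩" => Subgroup.centralizer (SetLike.coe P)

variable {G : Type u} [Group G] [Fintype G] {M : Ideal AlgInt} {p : ℕ} [Fact p.Prime]
  {B : Set (IrrCharacter G)} {P T : Subgroup G} {c : Set (IrrCharacter C⟨P⟩)}
  {fb : ∀ y : G, Set (IrrCharacter C⟨Subgroup.zpowers y⟩)}

/-- The proportion of the stabilizer fixing an element. -/
noncomputable def wt (T : Subgroup G) (y : G) : ℂ :=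
  (Nat.card (T ⊓ C⟨Subgroup.zpowers y⟩ : Subgroup G) : ℂ) / Nat.card T

/-- The contribution of an element, scaled. -/
noncomputable def kk (p : ℕ) (fb : ∀ y : G, Set (IrrCharacter C⟨Subgroup.zpowers y⟩)) (y : G)
    (η χ : IrrCharacter G) : ℂ :=
  (Nat.card C⟨Subgroup.zpowers y⟩ : ℂ)⁻¹ * secDot p η χ (⟨y, fb y⟩ : SecIdx G)

/-- The matrix of a function on `P`. -/
noncomputable def mat (p : ℕ) (P T : Subgroup G)
    (fb : ∀ y : G, Set (IrrCharacter C⟨Subgroup.zpowers y⟩)) (f : G → ℂ)
    (η χ : IrrCharacter G) : ℂ :=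
  ∑ y : P, f y * wt T y * kk p fb (y : G) η χ

/-- The setting: a block with abelian defect group and chosen blocks below the maximal pair. -/
structure Setting (p : ℕ) (M : Ideal AlgInt) (B : Set (IrrCharacter G)) (P T : Subgroup G)
    (c : Set (IrrCharacter C⟨P⟩)) (fb : ∀ y : G, Set (IrrCharacter C⟨Subgroup.zpowers y⟩)) :
    Prop where
  modular : IsPModular p M
  defect : IsDefectGroup p M B P
  pair : IsBrauerPairOf p M B P c
  comm : ∀ a ∈ P, ∀ b ∈ P, a * b = b * a
  stab : IsPairStab P c T
  below : ∀ y ∈ P, IsBelow M P c y (fb y)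

/-- A function suitable for the construction. -/
structure Good (P T : Subgroup G) (f : G → ℂ) : Prop where
  gen : IsGeneralizedCharacter P (fun y : P => f y)
  inv : ∀ t ∈ T, ∀ y ∈ P, f (t * y * t⁻¹) = f y

lemma good_one : Good P T fun _ : G => (1 : ℂ) :=
  ⟨by
    have h := IsCharacter.isGeneralized (isCharacter_linear (1 : P →* ℂˣ))
    simp only [MonoidHom.one_apply, Units.val_one] at h
    exact h, fun _ _ _ _ => rfl⟩

lemma Good.mul {f f' : G → ℂ} (h : Good P T f) (h' : Good P T f') : Good P T fun g => f g * f' g :=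
  ⟨IsGeneralizedCharacter.mul h.gen h'.gen, fun t ht y hy => by rw [h.inv t ht y hy, h'.inv t ht y hy]⟩

lemma mat_congr {f f' : G → ℂ} (h : ∀ y : P, f y = f' y) (η χ : IrrCharacter G) :
    mat p P T fb f η χ = mat p P T fb f' η χ := by
  simp only [mat, h]

lemma conj_mat (f : G → ℂ) (η χ : IrrCharacter G) :
    conj (mat p P T fb f η χ) = mat p P T fb (fun g => conj (f g)) χ η := by
  simp only [mat, map_sum, map_mul, wt, map_div₀, map_natCast, kk, secDot, map_inv₀,
    Complex.conj_conj]
  refine Finset.sum_congr rfl fun y _ => ?_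
  congr 2
  exact Finset.sum_congr rfl fun w _ => mul_comm _ _

variable (s : Setting p M B P T c fb)
include s

lemma Setting.maximal : IsMaximalBrauerPair p M B P c :=
  isMaximal_of_isDefectGroup s.modular s.pair s.defect

lemma Setting.subpair {y : G} (hy : y ∈ P) :
    SubpairLE p M (Subgroup.zpowers y) (fb y) P c :=
  Relation.ReflTransGen.single ((s.below y hy).normalSubpair s.modular s.pair.1 s.comm hy)

lemma Setting.stable {f : G → ℂ} (hf : Good P T f) : Stable p M P c f := by
  intro y g β h1 h2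
  have hy : y ∈ P := by simpa using h1.mem
  have hy' : g * y * g⁻¹ ∈ P := h2.mem
  obtain ⟨Q, e, hQ, hle, he⟩ := h1
  obtain ⟨Q', e', hQ', hle', he'⟩ := h2
  rw [one_mul, inv_one, mul_one] at hQ
  subst hQ
  subst hQ'
  rw [cj_one] at he
  obtain rfl := (existsUnique_subpairLE s.modular s.pair.1 (Subgroup.zpowers_le.2 hy)).unique hle
    (s.subpair hy)
  obtain rfl := (existsUnique_subpairLE s.modular s.pair.1 (Subgroup.zpowers_le.2 hy')).unique hle'
    (s.subpair hy')
  obtain ⟨t, ht, hty⟩ := IsBelow.fusion s.modular s.defect s.pair s.comm s.stab hy hy'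
    (s.below y hy) (s.below _ hy') rfl (by rw [he, he'])
  rw [← hty, hf.inv t ht y hy]

lemma Setting.weights_sum (g₀ : G) (y₀ : P) :
    ∑ q ∈ Finset.univ.filter (fun q : G × P =>
      secMap fb (q.1, (q.2 : G)) = secMap fb (g₀, (y₀ : G))),
      wt T (q.2 : G) * (Nat.card C⟨Subgroup.zpowers (q.2 : G)⟩ : ℂ)⁻¹ = 1 := by
  set Fb := Finset.univ.filter (fun q : G × P =>
      secMap fb (q.1, (q.2 : G)) = secMap fb (g₀, (y₀ : G))) with hFb
  have hN : ∀ q ∈ Fb, wt T (q.2 : G) *
      (Nat.card C⟨Subgroup.zpowers (q.2 : G)⟩ : ℂ)⁻¹ = (Fb.card : ℂ)⁻¹ := by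
    intro q hq
    have h := card_section_fibre_abelian s.modular s.defect s.pair s.comm s.stab fb s.below q.1 q.2
    rw [(Finset.mem_filter.1 hq).2, ← hFb] at h
    have h' := congrArg (Nat.cast (R := ℂ)) h
    simp only [Nat.cast_mul] at h'
    have hF0 : (Fb.card : ℂ) ≠ 0 := Nat.cast_ne_zero.2 (Finset.card_pos.2 ⟨q, hq⟩).ne'
    have hT0 : (Nat.card T : ℂ) ≠ 0 := Nat.cast_ne_zero.2 Nat.card_pos.ne'
    have hC0 : (Nat.card C⟨Subgroup.zpowers (q.2 : G)⟩ : ℂ) ≠ 0 :=
      Nat.cast_ne_zero.2 Nat.card_pos.ne'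
    rw [wt]
    field_simp
    linear_combination h'
  rw [Finset.sum_congr rfl hN, Finset.sum_const, nsmul_eq_mul,
    mul_inv_cancel₀ (Nat.cast_ne_zero.2 (Finset.card_pos.2 ⟨(g₀, y₀), by simp [hFb]⟩).ne')]

/-- Inner products of stars are matrices of products. -/
theorem Setting.classInner_star {f f' : G → ℂ} (hf : Good P T f) (hf' : Good P T f')
    {η χ : IrrCharacter G} (hη : η ∈ B) :
    classInner (starFn p M P c f η) (starFn p M P c f' χ) =
      mat p P T fb (fun g => f g * conj (f' g)) η χ := by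
  rw [classInner_starFn_sections s.modular s.maximal fb (fun y hy => s.subpair hy)
    (fun y => wt T (y : G) * (Nat.card C⟨Subgroup.zpowers (y : G)⟩ : ℂ)⁻¹)
    s.weights_sum (s.stable hf) (s.stable hf') hη]
  exact Finset.sum_congr rfl fun y _ => by rw [kk]; ring

lemma Setting.star_one {χ : IrrCharacter G} (hχ : χ ∈ B) :
    starFn p M P c (fun _ => (1 : ℂ)) χ = (χ : G → ℂ) := by
  funext g
  rw [← starFn_one s.modular (isBlockFusionSystemOn_blockSystem s.modular s.maximal) hχ g]
  obtain ⟨x, hx⟩ := exists_isPPart' (Fact.out : p.Prime) g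
  rw [starFn_eq hx, starFn_eq hx]
  refine Finset.sum_congr rfl fun F _ => ?_
  congr 1
  unfold weight
  split_ifs with h
  · rw [show h.choose * x * h.choose⁻¹ =
      ((⟨_, h.choose_spec.mem⟩ : P) : G) from rfl, lamFn_coe, MonoidHom.one_apply, Units.val_one]
  · rfl

lemma Setting.inner_eq_zero (f : G → ℂ) {η θ : IrrCharacter G} (hη : η ∈ B) (hθ : θ ∉ B) :
    classInner (starFn p M P c f η) (θ : G → ℂ) = 0 := by
  have hM := s.modular
  have hB : IsPBlock M B := s.pair.2.1
  rw [classInner_def, sum_sections_complex (p := p), Finset.sum_eq_zero fun x hx => ?_,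
    mul_zero]
  have hx' := (Finset.mem_filter.1 hx).2
  refine Eq.trans (sum_blockPart_mul_conj (p := p) hM
    (f := secFn x (starFn p M P c f η))
    (isClassFunction_secFn x (isClassFunction_irr θ))).symm ?_
  refine Finset.sum_eq_zero fun b hb => Finset.sum_eq_zero fun w hw => ?_
  have hb' := (mem_blocksFinset hM).1 hb
  have hw' := (Finset.mem_filter.1 hw).2
  by_cases hi : IsInducedBlock M C⟨Subgroup.zpowers x⟩ b B
  · have hθB : IsPBlock M (blockOf M (θ : G → ℂ)) := isPBlock_blockOf θ
    have hni : ¬ IsInducedBlock M C⟨Subgroup.zpowers x⟩ b (blockOf M (θ : G → ℂ)) := fun h => by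
      have h' := IsInducedBlock.unique hM h hi
      exact hθ (h' ▸ mem_blockOf_self hM θ)
    have hz := blockPart_translate_eq_zero hM hx' rfl hθB (mem_blockOf_self hM θ) hb' hni w hw'
    unfold secFn
    rw [hz, map_zero, mul_zero]
  · rw [part_starFn hM η hx' hb' w hw']
    have hz := blockPart_translate_eq_zero hM hx' rfl hB hη hb' hi w hw'
    unfold secFn
    rw [hz, mul_zero, zero_mul]

theorem Setting.inner_eq_mat {f : G → ℂ} (hf : Good P T f) {η θ : IrrCharacter G} (hη : η ∈ B)
    (hθ : θ ∈ B) : classInner (starFn p M P c f η) (θ : G → ℂ) = mat p P T fb f η θ := by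
  rw [← s.star_one hθ, s.classInner_star hf good_one hη]
  exact mat_congr (fun y => by simp) η θ

theorem Setting.mat_one {η θ : IrrCharacter G} (hη : η ∈ B) (hθ : θ ∈ B) :
    mat p P T fb (fun _ => 1) η θ = if η = θ then 1 else 0 := by
  rw [← s.inner_eq_mat good_one hη hθ, s.star_one hη]
  exact classInner_irrCharacter η θ

/-- The matrices are integral. -/
theorem Setting.exists_int {f : G → ℂ} (hf : Good P T f) {η θ : IrrCharacter G} (hη : η ∈ B)
    (hθ : θ ∈ B) : ∃ z : ℤ, mat p P T fb f η θ = (z : ℂ) := by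
  rw [← s.inner_eq_mat hf hη hθ]
  exact IsGeneralizedCharacter.exists_mult
    (isGeneralized_starFn s.modular s.maximal (s.stable hf) hf.gen hη) θ.2

/-- Products of functions go to products of matrices. -/
theorem Setting.mat_mul {f f' : G → ℂ} (hf : Good P T f) (hf' : Good P T f')
    {η χ : IrrCharacter G} (hη : η ∈ B) (hχ : χ ∈ B) :
    ∑ θ ∈ Finset.univ.filter (· ∈ B),
      mat p P T fb f η θ * conj (mat p P T fb f' χ θ) =
      mat p P T fb (fun g => f g * conj (f' g)) η χ := by
  rw [← s.classInner_star hf hf' hη]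
  have hgen := isGeneralized_starFn s.modular s.maximal (s.stable hf) hf.gen hη
  have hd : starFn p M P c f η =
      ∑ θ : IrrCharacter G, classInner (starFn p M P c f η) (θ : G → ℂ) • (θ : G → ℂ) :=
    classFunction_expand (isClassFunction_generalized hgen)
  conv_rhs => rw [hd, classInner_sum_left]
  rw [← Finset.sum_filter_add_sum_filter_not Finset.univ (· ∈ B) (fun θ : IrrCharacter G =>
    classInner (classInner (starFn p M P c f η) (θ : G → ℂ) • (θ : G → ℂ))
      (starFn p M P c f' χ)), Finset.sum_eq_zero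
      (s := Finset.univ.filter fun θ : IrrCharacter G => ¬ θ ∈ B) (fun θ hθ => by
    rw [classInner_smul_left, s.inner_eq_zero f hη (Finset.mem_filter.1 hθ).2, zero_mul]), add_zero]
  refine Finset.sum_congr rfl fun θ hθ => ?_
  have hθ' := (Finset.mem_filter.1 hθ).2
  rw [classInner_smul_left, ← s.inner_eq_mat hf hη hθ', ← s.inner_eq_mat hf' hχ hθ',
    classInner_conj_symm]

end Cfsg.Lib.Blocks.AbelianStar
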