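import Mathlib
import Cfsg.Prelude.Def_BrauerPairs
import Cfsg.Agent.Blocks.FirstMain
import Cfsg.Agent.Blocks.SubsectionColumns
import Cfsg.Agent.Blocks.RegularCongr
import Cfsg.Agent.Blocks.Roots

/-!
# Nonvanishing on sections of an abelian defect group
-/

set_option autoImplicit false
set_option linter.unusedSectionVars false

namespace Cfsg.Lib.Blocks

open Cfsg Cfsg.Lib.Chars

universe u

variable {G : Type u} [Group G] [Fintype G] {M : Ideal AlgInt} {p : ℕ}

/-- Uniqueness of the decomposition into a `p`-element and a commuting `p`-regular element. -/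
lemma eq_of_mul_eq_mul_regular (hp : p.Prime) {u u' w w' : G} (hc : Commute u w)
    (hc' : Commute u' w') (hu : ∃ k, u ^ p ^ k = 1) (hu' : ∃ k, u' ^ p ^ k = 1)
    (hw : ¬ p ∣ orderOf w) (hw' : ¬ p ∣ orderOf w') (h : u * w = u' * w') : w = w' ∧ u = u' := by
  obtain ⟨e, he⟩ := hu
  obtain ⟨e', he'⟩ := hu'
  have hco : Nat.Coprime (p ^ (e + e')) (orderOf w * orderOf w') :=
    Nat.Coprime.pow_left _ (Nat.Coprime.mul_right (hp.coprime_iff_not_dvd.2 hw)
      (hp.coprime_iff_not_dvd.2 hw'))
  obtain ⟨t, ht0, ht1⟩ := Nat.chineseRemainder hco 0 1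
  have hkill : ∀ {x : G} {j : ℕ}, x ^ p ^ j = 1 → j ≤ e + e' → x ^ t = 1 := fun {x j} hx hj => by
    obtain ⟨c, hc⟩ := (pow_dvd_pow p hj).trans (Nat.modEq_zero_iff_dvd.1 ht0)
    rw [hc, pow_mul, hx, one_pow]
  have hid : ∀ {x : G}, orderOf x ∣ orderOf w * orderOf w' → x ^ t = x := fun {x} hx => by
    conv_rhs => rw [← pow_one x]
    exact pow_eq_pow_iff_modEq.2 (ht1.of_dvd hx)
  have h' := congrArg (fun x => x ^ t) h
  simp only [hc.mul_pow, hc'.mul_pow, hkill he (Nat.le_add_right e e'),
    hkill he' (Nat.le_add_left e' e), one_mul, hid (dvd_mul_right _ _), hid (dvd_mul_left _ _)] at h'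
  refine ⟨h', ?_⟩
  rw [h'] at h
  exact mul_right_cancel h

/-- Central characters along a section of an abelian defect group. -/
theorem apply_section_ne_zero [Fact p.Prime] (hM : IsPModular p M) {B : Set (IrrCharacter G)}
    (hB : IsPBlock M B) {P : Subgroup G} (hD : IsDefectGroup p M B P)
    (hab : ∀ x ∈ P, ∀ y ∈ P, x * y = y * x) (hPp : IsPGroup p P) {g : G}
    (hPg : P ≤ Subgroup.centralizer ({g} : Set G))
    (hidx : ¬ p ∣ P.relIndex (Subgroup.centralizer ({g} : Set G))) (hg : ¬ p ∣ orderOf g)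
    {χ : IrrCharacter G} (hχ : χ ∈ B) (hω : ¬ Small M (centralChar (χ : G → ℂ) g))
    {u0 : G} (hu0 : u0 ∈ P) : (χ : G → ℂ) (u0 * g) ≠ 0 := by
  classical
  have hp : p.Prime := Fact.out
  have := charP_res hM
  set C := Subgroup.centralizer (P : Set G) with hC
  have : Fintype C := Fintype.ofFinite _
  have hPC : P ≤ C := fun x hx => Subgroup.mem_centralizer_iff.2 fun y hy => hab y hy x hx
  obtain ⟨f, hf⟩ := exists_pair_of_defect hM hB hD
  have hfb : IsPBlock M f := hf.1.1.2
  have hind : IsInducedBlock M C f B := by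
    refine isInducedBlock_of_pair hM hPC le_rfl hfb ?_ hf.1
    rw [br, trunc_eq_self (suppOn_bi f), bi_mul_self hM hfb]
  obtain ⟨ξ, hξ⟩ := IsPBlock.nonempty hM hfb
  have key := (isInducedBlock_iff hM C hfb hB hξ hχ).1 hind
  simp only [inducedCentralChar_eq_omega] at key
  have hpel : ∀ x ∈ P, ∃ k, x ^ p ^ k = 1 := fun x hx => by
    obtain ⟨k, hk⟩ := hPp ⟨x, hx⟩
    exact ⟨k, congrArg Subtype.val hk⟩
  have hcg : ∀ x ∈ P, Commute x g := fun x hx =>
    Subgroup.mem_centralizer_singleton_iff.1 (hPg hx)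
  set x0 := u0 * g with hx0
  -- the centralizer of the section element
  have hCx0 : Subgroup.centralizer ({x0} : Set G) ≤ Subgroup.centralizer ({g} : Set G) := by
    intro s hs
    rw [Subgroup.mem_centralizer_singleton_iff] at hs ⊢
    have h1 : (s * u0 * s⁻¹) * (s * g * s⁻¹) = u0 * g := by
      rw [show s * u0 * s⁻¹ * (s * g * s⁻¹) = s * x0 * s⁻¹ by rw [hx0]; group, hs,
        mul_inv_cancel_right]
    obtain ⟨h2, -⟩ := eq_of_mul_eq_mul_regular hp ((hcg u0 hu0).map (MulAut.conj s)) (hcg u0 hu0)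
      (by
        obtain ⟨k, hk⟩ := hpel u0 hu0
        exact ⟨k, by rw [MulAut.conj_apply, conj_pow, hk, mul_one, mul_inv_cancel]⟩)
      (hpel u0 hu0) (by rw [MulEquiv.orderOf_eq]; exact hg) hg
      (by rw [MulAut.conj_apply, MulAut.conj_apply]; exact h1)
    rw [MulAut.conj_apply, mul_inv_eq_iff_eq_mul] at h2
    exact h2
  have hPx0 : P ≤ Subgroup.centralizer ({x0} : Set G) := fun x hx => by
    rw [Subgroup.mem_centralizer_singleton_iff]
    exact ((show Commute x u0 from hab x hx u0 hu0).mul_right (hcg x hx)).eq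
  have hidx0 : ¬ p ∣ P.relIndex (Subgroup.centralizer ({x0} : Set G)) := fun h =>
    hidx (h.trans ⟨_, (Subgroup.relIndex_mul_relIndex P _ _ hPx0 hCx0).symm⟩)
  -- conjugates centralizing `P` have their `p`-part in `P`
  have hmemP : ∀ t : G, (∀ x ∈ P, Commute x (t * x0 * t⁻¹)) → t * u0 * t⁻¹ ∈ P := by
    intro t ht
    set Z := Subgroup.centralizer ({t * x0 * t⁻¹} : Set G) with hZ
    have hPZ : P ≤ Z := fun x hx => Subgroup.mem_centralizer_singleton_iff.2 (ht x hx)
    have hZmap : Z = (Subgroup.centralizer ({x0} : Set G)).map (MulAut.conj t).toMonoidHom := by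
      ext s
      rw [hZ, Subgroup.mem_map_equiv, Subgroup.mem_centralizer_singleton_iff,
        Subgroup.mem_centralizer_singleton_iff, MulAut.conj_symm_apply]
      constructor
      · intro h
        calc t⁻¹ * s * t * x0 = t⁻¹ * (s * (t * x0 * t⁻¹)) * t := by group
          _ = x0 * (t⁻¹ * s * t) := by rw [h]; group
      · intro h
        calc s * (t * x0 * t⁻¹) = t * (t⁻¹ * s * t * x0) * t⁻¹ := by group
          _ = t * x0 * t⁻¹ * s := by rw [h]; group
    have hZcard : Nat.card Z = Nat.card (Subgroup.centralizer ({x0} : Set G)) := by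
      rw [hZmap]; exact Subgroup.card_map_of_injective (MulAut.conj t).injective
    set v := t * u0 * t⁻¹ with hv
    have hvZ : ∀ s ∈ Z, Commute s v := fun s hs => by
      rw [hZmap, Subgroup.mem_map_equiv, MulAut.conj_symm_apply] at hs
      have h1 := hCx0 hs
      rw [Subgroup.mem_centralizer_singleton_iff] at h1 hs
      have h2 : t⁻¹ * s * t * u0 = u0 * (t⁻¹ * s * t) := by
        have e : t⁻¹ * s * t * x0 = x0 * (t⁻¹ * s * t) := hs
        rw [hx0, ← mul_assoc] at e
        refine mul_right_cancel (b := g) ?_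
        rw [e, mul_assoc u0 g, ← h1]
        group
      show s * v = v * s
      calc s * v = t * (t⁻¹ * s * t * u0) * t⁻¹ := by rw [hv]; group
        _ = v * s := by rw [h2, hv]; group
    have hvmem : v ∈ Z := by
      rw [hZmap, Subgroup.mem_map_equiv, MulAut.conj_symm_apply, hv,
        show t⁻¹ * (t * u0 * t⁻¹) * t = u0 by group]
      exact hPx0 hu0
    let Y : Subgroup G := P ⊔ Subgroup.zpowers v
    have hYZ : Y ≤ Z := sup_le hPZ (Subgroup.zpowers_le.2 hvmem)
    have hYp : IsPGroup p Y := by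
      refine IsPGroup.to_sup_of_normal_right' hPp ?_ ?_
      · rintro ⟨s, hs⟩
        obtain ⟨j, rfl⟩ := Subgroup.mem_zpowers_iff.1 hs
        obtain ⟨k, hk⟩ := hpel u0 hu0
        refine ⟨k, Subtype.ext ?_⟩
        show (v ^ j) ^ p ^ k = 1
        rw [← zpow_natCast, ← zpow_mul, mul_comm, zpow_mul, zpow_natCast, hv, conj_pow, hk,
          mul_one, mul_inv_cancel, one_zpow]
      · intro x hx
        rw [Subgroup.mem_normalizer_iff]
        intro s
        have hcx : ∀ s ∈ Subgroup.zpowers v, x * s * x⁻¹ = s := fun s hs => by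
          obtain ⟨j, rfl⟩ := Subgroup.mem_zpowers_iff.1 hs
          rw [((hvZ x (hPZ hx)).zpow_right j).eq, mul_inv_cancel_right]
        refine ⟨fun hs => by rwa [hcx s hs], fun hs => ?_⟩
        have h := hcx _ hs
        have : x * s * x⁻¹ = s := mul_left_cancel (a := x) (mul_right_cancel (b := x⁻¹) h)
        rwa [this] at hs
    obtain ⟨a, ha⟩ := IsPGroup.iff_card.1 hYp
    obtain ⟨b, hb⟩ := IsPGroup.iff_card.1 hPp
    have hdvd : p ^ a ∣ p ^ b * P.relIndex (Subgroup.centralizer ({x0} : Set G)) := by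
      rw [← ha, ← hb, ← Subgroup.relIndex_bot_left P,
        Subgroup.relIndex_mul_relIndex _ _ _ bot_le hPx0, Subgroup.relIndex_bot_left, ← hZcard]
      exact Subgroup.card_dvd_of_le hYZ
    have hle : p ^ a ∣ p ^ b :=
      (Nat.Coprime.pow_left a (hp.coprime_iff_not_dvd.2 hidx0)).dvd_of_dvd_mul_right hdvd
    have hYP : P = Y := Subgroup.eq_of_le_of_card_ge le_sup_left (by
      rw [ha, hb]; exact Nat.le_of_dvd (pow_pos hp.pos b) hle)
    rw [hYP]
    exact Subgroup.mem_sup_right (Subgroup.mem_zpowers v)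
  -- the fibre count
  set T1 : Set G := {u | ∃ t ∈ Subgroup.centralizer ({g} : Set G), t * u0 * t⁻¹ = u} with hT1
  have hT1card : ¬ p ∣ Nat.card T1 := by
    intro hdvd
    apply hidx
    let S0 : Subgroup (Subgroup.centralizer ({g} : Set G)) :=
      (Subgroup.centralizer ({u0} : Set G)).subgroupOf _
    let e : Subgroup.centralizer ({g} : Set G) ⧸ S0 ≃ T1 :=
      Equiv.ofBijective (Quotient.lift (fun t => ⟨(t : G) * u0 * (t : G)⁻¹, t, t.2, rfl⟩) (fun a b hab => by
        have h : (a⁻¹ * b : Subgroup.centralizer ({g} : Set G)) ∈ S0 :=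
          QuotientGroup.leftRel_apply.1 hab
        rw [Subgroup.mem_subgroupOf, Subgroup.mem_centralizer_singleton_iff, Subgroup.coe_mul,
          Subgroup.coe_inv] at h
        apply Subtype.ext
        show (a : G) * u0 * (a : G)⁻¹ = (b : G) * u0 * (b : G)⁻¹
        calc (a : G) * u0 * (a : G)⁻¹
            = (a : G) * (u0 * ((a : G)⁻¹ * (b : G))) * (b : G)⁻¹ := by group
          _ = (b : G) * u0 * (b : G)⁻¹ := by rw [← h]; group))
        ⟨by
          intro x y
          refine Quotient.inductionOn₂ x y fun a b hab => ?_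
          refine Quotient.sound (QuotientGroup.leftRel_apply.2 ?_)
          have h : (a : G) * u0 * (a : G)⁻¹ = (b : G) * u0 * (b : G)⁻¹ := congrArg Subtype.val hab
          rw [Subgroup.mem_subgroupOf, Subgroup.mem_centralizer_singleton_iff, Subgroup.coe_mul,
            Subgroup.coe_inv]
          calc (a : G)⁻¹ * (b : G) * u0 = (a : G)⁻¹ * ((b : G) * u0 * (b : G)⁻¹) * (b : G) := by group
            _ = u0 * ((a : G)⁻¹ * (b : G)) := by rw [← h]; group,
        by
          rintro ⟨u, t, ht, rfl⟩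
          exact ⟨Quotient.mk _ ⟨t, ht⟩, rfl⟩⟩
    refine hdvd.trans ?_
    rw [← Nat.card_congr e]
    refine Subgroup.index_dvd_of_le fun x hx => ?_
    rw [Subgroup.mem_subgroupOf, Subgroup.mem_centralizer_singleton_iff]
    exact hab _ hx u0 hu0
  let f : P → C → ℕ := fun u w =>
    if ¬ p ∣ orderOf (w : G) ∧ IsConj x0 ((u : G) * (w : G)) then 1 else 0
  let ph : C → ℕ := fun w => ∑ u : P, f u w
  -- the class sum in `C`
  have hsum : resElem C (cls ℂ x0) = ∑ u : P,
      MonoidAlgebra.single (⟨(u : G), hPC u.2⟩ : C) (1 : ℂ) * ofFn (fun w => (f u w : ℂ)) := by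
    refine fn_ext fun h => ?_
    rw [fn_resElem, fn_cls, fn_sum]
    simp only [fn_single_mul, one_mul, fn_ofFn]
    have hmul : ∀ u : P, (u : G) * (((⟨(u : G), hPC u.2⟩ : C)⁻¹ * h : C) : G) = (h : G) := fun u => by
      simp
    by_cases hconj : IsConj x0 (h : G)
    · rw [if_pos hconj]
      obtain ⟨t, ht⟩ := isConj_iff.1 hconj
      have hv : t * u0 * t⁻¹ ∈ P := hmemP t fun x hx => by
        rw [ht]; exact Subgroup.mem_centralizer_iff.1 h.2 x hx
      have hw : ((⟨t * u0 * t⁻¹, hPC hv⟩ : C)⁻¹ * h : C) = (t * g * t⁻¹ : G) := by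
        rw [Subgroup.coe_mul, Subgroup.coe_inv, ← ht, hx0]
        group
      rw [Finset.sum_eq_single (⟨t * u0 * t⁻¹, hv⟩ : P)]
      · simp only [f]
        rw [if_pos]
        · exact Nat.cast_one.symm
        refine ⟨?_, ?_⟩
        · rw [hw]
          have := MulEquiv.orderOf_eq (MulAut.conj t) g
          rw [MulAut.conj_apply] at this
          rw [this]; exact hg
        · have e := hmul ⟨t * u0 * t⁻¹, hv⟩
          simp only at e ⊢
          rw [e]; exact hconj
      · intro u _ hu
        simp only [f]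
        rw [if_neg, Nat.cast_zero]
        rintro ⟨hreg, -⟩
        apply hu
        set w := (((⟨(u : G), hPC u.2⟩ : C)⁻¹ * h : C) : G) with hwdef
        have hcom : Commute (u : G) w :=
          Subgroup.mem_centralizer_iff.1 ((⟨(u : G), hPC u.2⟩ : C)⁻¹ * h).2 _ u.2
        obtain ⟨-, h2⟩ := eq_of_mul_eq_mul_regular hp hcom ((hcg u0 hu0).map (MulAut.conj t))
          (hpel _ u.2) (by
            obtain ⟨k, hk⟩ := hpel u0 hu0
            exact ⟨k, by rw [MulAut.conj_apply, conj_pow, hk, mul_one, mul_inv_cancel]⟩) hreg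
          (by rw [MulEquiv.orderOf_eq]; exact hg) (by
            rw [hwdef, hmul, MulAut.conj_apply, MulAut.conj_apply, ← ht, hx0]; group)
        exact Subtype.ext h2
      · simp
    · rw [if_neg hconj]
      symm
      refine Finset.sum_eq_zero fun u _ => ?_
      simp only [f]
      rw [if_neg, Nat.cast_zero]
      rintro ⟨-, h'⟩
      rw [hmul] at h'
      exact hconj h'
  -- values of the fibre count modulo `p`
  have hph : ∀ w : C, (ph w : Res M) =
      (Nat.card T1 : Res M) * (if IsConj g (w : G) then 1 else 0) := by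
    intro w
    have hexp : ph w = (Finset.univ.filter fun u : P =>
        ¬ p ∣ orderOf (w : G) ∧ IsConj x0 ((u : G) * (w : G))).card := by
      simp only [ph, f, Finset.sum_boole, Nat.cast_id]
    by_cases hw : IsConj g (w : G)
    · rw [if_pos hw, mul_one]
      obtain ⟨t1, ht1⟩ := isConj_iff.1 hw
      set Tw : Set G := {u | ∃ t : G, t * g * t⁻¹ = (w : G) ∧ t * u0 * t⁻¹ = u} with hTw
      have hcardTw : Nat.card Tw = Nat.card T1 := by
        refine (Nat.card_congr ((MulAut.conj t1).toEquiv.subtypeEquiv fun u => ?_)).symm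
        simp only [MulEquiv.toEquiv_eq_coe, MulEquiv.coe_toEquiv, MulAut.conj_apply]
        constructor
        · rintro ⟨t, ht, rfl⟩
          refine ⟨t1 * t, ?_, by group⟩
          rw [Subgroup.mem_centralizer_singleton_iff] at ht
          calc t1 * t * g * (t1 * t)⁻¹ = t1 * (t * g) * t⁻¹ * t1⁻¹ := by group
            _ = (w : G) := by rw [ht, ← ht1]; group
        · rintro ⟨t, ht, hu⟩
          refine ⟨t1⁻¹ * t, ?_, ?_⟩
          · rw [Subgroup.mem_centralizer_singleton_iff]
            calc t1⁻¹ * t * g = t1⁻¹ * (t * g * t⁻¹) * t := by group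
              _ = g * (t1⁻¹ * t) := by rw [ht, ← ht1]; group
          · calc t1⁻¹ * t * u0 * (t1⁻¹ * t)⁻¹ = t1⁻¹ * (t * u0 * t⁻¹) * t1 := by group
              _ = u := by rw [hu]; group
      have hregw : ¬ p ∣ orderOf (w : G) := by
        rw [← ht1]
        have := MulEquiv.orderOf_eq (MulAut.conj t1) g
        rw [MulAut.conj_apply] at this
        rw [this]; exact hg
      -- the action of `P` on the fibre
      let act : MulAction P Tw :=
        { smul := fun x u => ⟨(x : G) * u.1 * (x : G)⁻¹, by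
            obtain ⟨t, ht, hu⟩ := u.2
            refine ⟨x * t, ?_, by rw [← hu]; group⟩
            have hxw : (x : G) * (w : G) = (w : G) * x := Subgroup.mem_centralizer_iff.1 w.2 _ x.2
            calc (x : G) * t * g * ((x : G) * t)⁻¹ = (x : G) * (t * g * t⁻¹) * (x : G)⁻¹ := by group
              _ = (w : G) := by rw [ht, hxw, mul_inv_cancel_right]⟩
          one_smul := fun u => Subtype.ext (by
            show ((1 : P) : G) * u.1 * ((1 : P) : G)⁻¹ = u.1
            simp)
          mul_smul := fun x y u => Subtype.ext (by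
            show ((x * y : P) : G) * u.1 * ((x * y : P) : G)⁻¹ =
              (x : G) * ((y : G) * u.1 * (y : G)⁻¹) * (x : G)⁻¹
            rw [Subgroup.coe_mul]; group) }
      have hfix := IsPGroup.card_modEq_card_fixedPoints hPp Tw
      have hcount : Nat.card (MulAction.fixedPoints P Tw) = ph w := by
        rw [hexp, ← Fintype.card_subtype, ← Nat.card_eq_fintype_card]
        refine Nat.card_congr ?_
        refine
          { toFun := fun u => ⟨⟨u.1.1, ?_⟩, hregw, ?_⟩
            invFun := fun u => ⟨⟨(u.1 : G), ?_⟩, ?_⟩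
            left_inv := fun u => rfl
            right_inv := fun u => rfl }
        · obtain ⟨t, ht, hu⟩ := u.1.2
          rw [← hu]
          refine hmemP t fun x hx => ?_
          have hfx : x * u.1.1 * x⁻¹ = u.1.1 := congrArg Subtype.val (u.2 ⟨x, hx⟩)
          rw [show t * x0 * t⁻¹ = u.1.1 * (w : G) by rw [← hu, ← ht, hx0]; group]
          exact (show Commute x u.1.1 from mul_inv_eq_iff_eq_mul.1 hfx).mul_right
            (Subgroup.mem_centralizer_iff.1 w.2 x hx)
        · obtain ⟨t, ht, hu⟩ := u.1.2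
          exact isConj_iff.2 ⟨t, by
            show t * x0 * t⁻¹ = u.1.1 * (w : G)
            rw [← hu, ← ht, hx0]; group⟩
        · obtain ⟨-, hc⟩ := u.2
          obtain ⟨t, ht⟩ := isConj_iff.1 hc
          have hcom : Commute (u.1 : G) (w : G) := Subgroup.mem_centralizer_iff.1 w.2 _ u.1.2
          obtain ⟨h1, h2⟩ := eq_of_mul_eq_mul_regular hp ((hcg u0 hu0).map (MulAut.conj t)) hcom
            (by
              obtain ⟨k, hk⟩ := hpel u0 hu0
              exact ⟨k, by rw [MulAut.conj_apply, conj_pow, hk, mul_one, mul_inv_cancel]⟩)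
            (hpel _ u.1.2) (by rw [MulEquiv.orderOf_eq]; exact hg) hregw (by
              rw [MulAut.conj_apply, MulAut.conj_apply, ← ht, hx0]; group)
          exact ⟨t, by rwa [MulAut.conj_apply] at h1, by rwa [MulAut.conj_apply] at h2⟩
        · intro x
          apply Subtype.ext
          show (x : G) * (u.1 : G) * (x : G)⁻¹ = u.1
          rw [hab _ x.2 _ u.1.2, mul_inv_cancel_right]
      rw [hcount, hcardTw] at hfix
      exact ((CharP.natCast_eq_natCast (Res M) p).2 hfix).symm
    · rw [if_neg hw, mul_zero, hexp, Finset.card_eq_zero.2, Nat.cast_zero]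
      refine Finset.filter_eq_empty_iff.2 fun u _ => ?_
      rintro ⟨hreg, hc⟩
      obtain ⟨t, ht⟩ := isConj_iff.1 hc
      have hcom : Commute (u : G) (w : G) := Subgroup.mem_centralizer_iff.1 w.2 _ u.2
      obtain ⟨h1, -⟩ := eq_of_mul_eq_mul_regular hp ((hcg u0 hu0).map (MulAut.conj t)) hcom
        (by
          obtain ⟨k, hk⟩ := hpel u0 hu0
          exact ⟨k, by rw [MulAut.conj_apply, conj_pow, hk, mul_one, mul_inv_cancel]⟩)
        (hpel _ u.2) (by rw [MulEquiv.orderOf_eq]; exact hg) hreg (by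
          rw [MulAut.conj_apply, MulAut.conj_apply, ← ht, hx0]; group)
      exact hw (isConj_iff.2 ⟨t, by rwa [MulAut.conj_apply] at h1⟩)
  -- compare the central characters
  have hfcen : ∀ u : P, IsCentralFn (ofFn (fun w => (f u w : ℂ)) : MonoidAlgebra ℂ C) := by
    intro u
    refine isCentralFn_ofFn fun a b => ?_
    have ho : orderOf ((b * a * b⁻¹ : C) : G) = orderOf (a : G) := by
      rw [Subgroup.orderOf_coe, Subgroup.orderOf_coe]
      exact MulEquiv.orderOf_eq (MulAut.conj b) a
    have hc : IsConj x0 ((u : G) * ((b * a * b⁻¹ : C) : G)) ↔ IsConj x0 ((u : G) * (a : G)) := by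
      have hub : (u : G) * (b : G) = (b : G) * u := Subgroup.mem_centralizer_iff.1 b.2 _ u.2
      have he : IsConj ((u : G) * (a : G)) ((u : G) * ((b * a * b⁻¹ : C) : G)) :=
        isConj_iff.2 ⟨(b : G), by
          simp only [Subgroup.coe_mul, Subgroup.coe_inv]
          rw [← mul_assoc (b : G), ← hub]; group⟩
      exact ⟨fun h => h.trans he.symm, fun h => h.trans he⟩
    simp only [f, ho, hc]
  have hfint : ∀ u : P, Integral M (ofFn (fun w => (f u w : ℂ)) : MonoidAlgebra ℂ C) := fun u w => by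
    rw [fn_ofFn]; exact natCast_mem_place _
  have hzu : ∀ u : P, (⟨(u : G), hPC u.2⟩ : C) ∈ Subgroup.center C := fun u =>
    Subgroup.mem_center_iff.2 fun c => Subtype.ext
      (Subgroup.mem_centralizer_iff.1 c.2 _ u.2).symm
  have hres : res M (omega (ξ : C → ℂ) (resElem C (cls ℂ x0))) =
      (Nat.card T1 : Res M) * res M (omega (ξ : C → ℂ) (resElem C (cls ℂ g))) := by
    have hterm : ∀ u : P, res M (omega (ξ : C → ℂ)
        (MonoidAlgebra.single (⟨(u : G), hPC u.2⟩ : C) (1 : ℂ) * ofFn (fun w => (f u w : ℂ)))) =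
        res M (omega (ξ : C → ℂ) (ofFn (fun w => (f u w : ℂ)))) ∧
        omega (ξ : C → ℂ) (MonoidAlgebra.single (⟨(u : G), hPC u.2⟩ : C) (1 : ℂ) *
          ofFn (fun w => (f u w : ℂ))) ∈ place M := fun u => by
      obtain ⟨k, hk⟩ := hpel _ u.2
      have hroot := apply_central_root ξ (hzu u) (n := p ^ k) (Subtype.ext (by simpa using hk))
      have hpl := (isUnitAt_of_pow_eq_one hM (pow_pos hp.pos k).ne' hroot).mem_place
      have e : omega (ξ : C → ℂ) (MonoidAlgebra.single (⟨(u : G), hPC u.2⟩ : C) (1 : ℂ) *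
          ofFn (fun w => (f u w : ℂ))) = (ξ : C → ℂ) ⟨(u : G), hPC u.2⟩ / (ξ : C → ℂ) 1 *
            omega (ξ : C → ℂ) (ofFn (fun w => (f u w : ℂ))) := by
        have hcs : IsCentralFn (MonoidAlgebra.single (⟨(u : G), hPC u.2⟩ : C) (1 : ℂ)) := fun a b => by
          rw [fn_single, fn_single]
          congr 1
          apply propext
          have hz := Subgroup.mem_center_iff.1 (hzu u) b
          constructor
          · intro h; rw [h] at hz
            calc (⟨(u : G), hPC u.2⟩ : C) = b * a * b⁻¹ := h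
              _ = b⁻¹ * (b * a * b⁻¹ * b) := by rw [← hz]; group
              _ = a := by group
          · rintro rfl; rw [hz, mul_inv_cancel_right]
        rw [omega_mul ξ hcs, omega, chiEval_single, one_mul]
      have hm := omega_mem_place hM ξ (hfcen u) (hfint u)
      rw [e, res_mul hpl hm, (res_eq_iff hpl (one_mem _)).2 (small_sub_one_of_ppow hM hroot),
        ← res_mul (one_mem _) hm, one_mul]
      exact ⟨rfl, mul_mem hpl hm⟩
    rw [hsum, omega_sum, res_sum _ _ fun u _ => (hterm u).2,
      Finset.sum_congr rfl fun u _ => (hterm u).1,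
      ← res_sum _ _ fun u _ => omega_mem_place hM ξ (hfcen u) (hfint u), ← omega_sum]
    have hcK : IsCentralFn (resElem C (cls ℂ g)) := (isCentralFn_cls g).resElem C
    have hcS : IsCentralFn (∑ u : P, (ofFn (fun w => (f u w : ℂ)) : MonoidAlgebra ℂ C)) :=
      IsCentralFn.sum _ _ fun u _ => hfcen u
    have hin : ∀ w, fn (∑ u : P, (ofFn (fun w => (f u w : ℂ)) : MonoidAlgebra ℂ C)) w =
        (ph w : ℂ) := fun w => by
      simp [fn_sum, ph, fn_ofFn]
    rw [omega_eq_sum_classes _ (isClassFunction_irr ξ) hcS,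
      omega_eq_sum_classes _ (isClassFunction_irr ξ) hcK]
    have hiK : ∀ w, fn (resElem C (cls ℂ g)) w ∈ place M := (integral_cls g).resElem C
    rw [res_sum _ _ fun D _ => mul_mem (hin _ ▸ natCast_mem_place _) (centralChar_mem_place hM ξ _),
      res_sum _ _ fun D _ => mul_mem (hiK _) (centralChar_mem_place hM ξ _), Finset.mul_sum]
    refine Finset.sum_congr rfl fun D _ => ?_
    rw [res_mul (hin _ ▸ natCast_mem_place _) (centralChar_mem_place hM ξ _),
      res_mul (hiK _) (centralChar_mem_place hM ξ _), hin, res_natCast, hph, fn_resElem, fn_cls,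
      mul_assoc]
    congr 1
    congr 1
    split_ifs
    · rw [← Nat.cast_one (R := ℂ), res_natCast, Nat.cast_one]
    · rw [← Nat.cast_zero (R := ℂ), res_natCast, Nat.cast_zero]
  intro h0
  have hL := key x0
  rw [hres] at hL
  have hz : centralChar (χ : G → ℂ) x0 = 0 := by
    rw [centralChar, h0, mul_zero, zero_div]
  rw [hz, key g, ← Nat.cast_zero (R := ℂ), res_natCast, Nat.cast_zero] at hL
  rcases mul_eq_zero.1 hL with h1 | h1
  · exact hT1card ((res_natCast_eq_zero_iff hM _).1 h1)
  · exact hω ((res_eq_zero_iff (centralChar_mem_place hM χ g)).1 h1)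

end Cfsg.Lib.Blocks
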