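import Mathlib
import Cfsg.Prelude.Def_BlockRank
import Cfsg.Agent.Blocks.AbelianSection
import Cfsg.Agent.Blocks.CoveringDefect
import Cfsg.Agent.Chars.AbelianInertia

/-!
# Stable blocks below blocks with abelian defect, at index a power of the prime
-/

set_option autoImplicit false
set_option linter.unusedSectionVars false

namespace Cfsg.Lib.Blocks

open Cfsg Cfsg.Lib.Chars
open scoped ComplexConjugate

universe u

variable {G : Type u} [Group G] [Fintype G] {M : Ideal AlgInt} {p : ℕ}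

/-- Members of a block with abelian defect restrict irreducibly to a normal supplement of the
defect group. -/
theorem restrict_irr_of_abelian_defect [Fact p.Prime] (hM : IsPModular p M) (N : Subgroup G)
    [N.Normal] [Fintype N] {k : ℕ} (hidx : N.index = p ^ k) {B : Set (IrrCharacter G)}
    (hB : IsPBlock M B) {P : Subgroup G} (hPD : IsDefectGroup p M B P)
    (hab : ∀ x ∈ P, ∀ y ∈ P, x * y = y * x) (hsup : N ⊔ P = ⊤) {χ : IrrCharacter G}
    (hχ : χ ∈ B) : IsIrrCharacter N (fun n : N => (χ : G → ℂ) n) := by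
  classical
  have hp : p.Prime := Fact.out
  obtain ⟨g, hg, S, hS⟩ := id hPD
  have hg' := (isDefectClass_iff hM hB g).1 hg
  have hreg := not_dvd_orderOf_of_not_small hM hB hg'.1
  have hgN : g ∈ N := mem_of_pRegular_of_index_eq_pow hp N hidx hreg
  have hPle : P ≤ Subgroup.centralizer ({g} : Set G) := by
    rw [hS]
    exact Subgroup.map_subtype_le _
  have hPidx : ¬ p ∣ P.relIndex (Subgroup.centralizer ({g} : Set G)) := by
    rw [hS, Subgroup.relIndex, Subgroup.subgroupOf,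
      Subgroup.comap_map_eq_self_of_injective Subtype.val_injective]
    exact S.not_dvd_index
  have hne : ∀ u ∈ P, (χ : G → ℂ) (u * g) ≠ 0 := fun u hu =>
    apply_section_ne_zero hM hB hPD hab (IsDefectGroup.isPGroup hPD) hPle hPidx hreg hχ
      (hg'.2 χ hχ) hu
  have hdec : ∀ x : G, ∃ n ∈ N, ∃ y ∈ P, x = n * y := fun x => by
    obtain ⟨n, hn, y, hy, rfl⟩ :=
      Subgroup.mem_sup_of_normal_left.1 (show x ∈ N ⊔ P by rw [hsup]; exact Subgroup.mem_top x)
    exact ⟨n, hn, y, hy, rfl⟩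
  set π := QuotientGroup.mk' N with hπ
  have hπN : ∀ n ∈ N, π n = 1 := fun n hn => (QuotientGroup.eq_one_iff n).2 hn
  have hQ : ∀ a b : G ⧸ N, a * b = b * a := by
    intro a b
    obtain ⟨x, rfl⟩ := QuotientGroup.mk'_surjective N a
    obtain ⟨y, rfl⟩ := QuotientGroup.mk'_surjective N b
    obtain ⟨n, hn, u, hu, rfl⟩ := hdec x
    obtain ⟨m, hm, v, hv, rfl⟩ := hdec y
    rw [← hπ, map_mul π n u, map_mul π m v, hπN n hn, hπN m hm, one_mul, one_mul, ← map_mul,
      ← map_mul, hab u hu v hv]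
  have := Fintype.ofFinite (G ⧸ N)
  have hsum : ∀ x : G, ∑ l : IrrCharacter (G ⧸ N), (l : G ⧸ N → ℂ) (π x) =
      if x ∈ N then (Nat.card (G ⧸ N) : ℂ) else 0 := by
    intro x
    have h1 := sum_deg_mul (π x)
    simp only [irr_deg_one_of_comm hQ (Subtype.prop _), one_mul] at h1
    rw [h1]
    exact if_congr (QuotientGroup.eq_one_iff x) rfl rfl
  have hterm : ∀ l : IrrCharacter (G ⧸ N),
      classInner (fun x => (l : G ⧸ N → ℂ) (π x) * (χ : G → ℂ) x) (χ : G → ℂ) =
        if (∀ a, (l : G ⧸ N → ℂ) a = 1) then 1 else 0 := by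
    intro l
    obtain ⟨f, hf⟩ := exists_hom_of_deg_one (isCharacter_of_irr l.2) (irr_deg_one_of_comm hQ l.2)
    have hirr : IsIrrCharacter G (fun x => (l : G ⧸ N → ℂ) (π x) * (χ : G → ℂ) x) := by
      rw [hf]
      exact IsIrrCharacter.mul_linear χ.2 (f.comp π)
    rw [classInner_irrChar hirr χ.2]
    refine if_congr ⟨fun h a => ?_, fun h => funext fun x => ?_⟩ rfl rfl
    · obtain ⟨x, rfl⟩ := QuotientGroup.mk'_surjective N a
      obtain ⟨n, hn, u, hu, rfl⟩ := hdec x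
      have h1 := congrFun h (u * g)
      simp only [map_mul, hπN g hgN, mul_one] at h1
      rw [← hπ, map_mul, hπN n hn, one_mul]
      exact mul_right_cancel₀ (hne u hu) (h1.trans (one_mul _).symm)
    · rw [h, one_mul]
  have hone : ∀ l : IrrCharacter (G ⧸ N), (∀ a, (l : G ⧸ N → ℂ) a = 1) →
      ∀ l' : IrrCharacter (G ⧸ N), (∀ a, (l' : G ⧸ N → ℂ) a = 1) → l = l' := fun l h l' h' =>
    Subtype.ext (funext fun a => by rw [h, h'])
  have htriv : IsIrrCharacter (G ⧸ N) (fun _ => (1 : ℂ)) := isIrrCharacter_one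
  have htot : ∑ l : IrrCharacter (G ⧸ N),
      classInner (fun x => (l : G ⧸ N → ℂ) (π x) * (χ : G → ℂ) x) (χ : G → ℂ) = 1 := by
    rw [Finset.sum_eq_single (⟨_, htriv⟩ : IrrCharacter (G ⧸ N))]
    · rw [hterm, if_pos fun _ => rfl]
    · intro l _ hl
      rw [hterm, if_neg fun h => hl (hone l h _ fun _ => rfl)]
    · simp
  simp only [classInner_def] at htot
  rw [← Finset.mul_sum, Finset.sum_comm] at htot
  have h1 : ∀ x : G, ∑ l : IrrCharacter (G ⧸ N),
      (l : G ⧸ N → ℂ) (π x) * (χ : G → ℂ) x * conj ((χ : G → ℂ) x) =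
      if x ∈ N then (Nat.card (G ⧸ N) : ℂ) * ((χ : G → ℂ) x * conj ((χ : G → ℂ) x)) else 0 :=
    fun x => by
      simp only [mul_assoc]
      rw [← Finset.sum_mul, hsum x, ite_mul, zero_mul]
  rw [Finset.sum_congr rfl fun x _ => h1 x, ← Finset.sum_filter,
    Finset.sum_subtype (p := fun x => x ∈ N) _ (fun x => by simp), ← Finset.mul_sum] at htot
  refine isIrrCharacter_of_norm_one (IsCharacter.restrict (isCharacter_of_irr χ.2) N) ?_
  rw [classInner_def]
  have hG : (Nat.card G : ℂ) = (Nat.card N : ℂ) * (Nat.card (G ⧸ N) : ℂ) := by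
    rw [← Nat.cast_mul, mul_comm, ← Subgroup.card_eq_card_quotient_mul_card_subgroup]
  have hq : (Nat.card (G ⧸ N) : ℂ) ≠ 0 := by exact_mod_cast Nat.card_pos.ne'
  rw [hG, mul_inv, ← mul_assoc, mul_assoc _ _ (Nat.card (G ⧸ N) : ℂ), inv_mul_cancel₀ hq,
    mul_one] at htot
  exact htot

/-- Extending a function by zero outside a subgroup, as a linear map. -/
noncomputable def extZero (N : Subgroup G) : (N → ℂ) →ₗ[ℂ] (G → ℂ) where
  toFun f := fun x => by classical exact if h : x ∈ N then f ⟨x, h⟩ else 0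
  map_add' f g := by
    funext x
    by_cases h : x ∈ N <;> simp [h]
  map_smul' c f := by
    funext x
    by_cases h : x ∈ N <;> simp [h]

lemma extZero_injective (N : Subgroup G) : Function.Injective (extZero N) := fun f g h => by
  funext n
  have := congrFun h n
  simpa [extZero] using this

/-- Everything about a stable block below a block with abelian defect group. -/
theorem stable_abelian_defect [Fact p.Prime] (hM : IsPModular p M) (N : Subgroup G)
    [N.Normal] [Fintype N] {k : ℕ} (hidx : N.index = p ^ k) {b : Set (IrrCharacter N)}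
    (hb : IsPBlock M b) (hstab : ∀ g : G, StabilizesBlock N b g) {B : Set (IrrCharacter G)}
    (hB : IsPBlock M B)
    (hcov : ∃ χ ∈ B, ∃ θ ∈ b, classInner (fun n : N => (χ : G → ℂ) n) (θ : N → ℂ) ≠ 0)
    {P : Subgroup G} (hPD : IsDefectGroup p M B P) (hab : ∀ x ∈ P, ∀ y ∈ P, x * y = y * x) :
    N ⊔ P = ⊤ ∧ IsDefectGroup p M b ((P ⊓ N).subgroupOf N) ∧
      (∀ χ ∈ B, ∃ θ ∈ b, ∀ n : N, (χ : G → ℂ) n = (θ : N → ℂ) n) ∧
      (∀ θ ∈ b, Nat.card {χ : IrrCharacter G // χ ∈ B ∧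
        ∀ n : N, (χ : G → ℂ) n = (θ : N → ℂ) n} = N.index) ∧
      Nat.card B = N.index * Nat.card b ∧ blockRank p B = blockRank p b := by
  classical
  have hp : p.Prime := Fact.out
  have hinv : ∀ g : G, cjIrr N g '' b = b := fun g => by
    have := (stabilizesBlock_iff_cjIrr hM hb g⁻¹).1 (hstab g⁻¹)
    rwa [inv_inv] at this
  obtain ⟨B₁, -, huniq⟩ := existsUnique_covering hM N hidx hb
  obtain ⟨h1, h2, -⟩ := fong_max_defect hM hb hinv hB hcov (fun B' hB' hc' => by
    rw [huniq B' ⟨hB', hc'⟩, huniq B ⟨hB, hcov⟩]) hPD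
  have hsup : N ⊔ P = ⊤ := by
    rw [sup_comm, ← Subgroup.index_eq_one]
    have hd : (P ⊔ N).index ∣ p ^ k := hidx ▸ Subgroup.index_dvd_of_le le_sup_right
    obtain ⟨j, -, hj⟩ := (Nat.dvd_prime_pow hp).1 hd
    rcases j with _ | j
    · rw [hj, pow_zero]
    · exact absurd (hj ▸ dvd_pow_self p j.succ_ne_zero) h1
  have hirr := fun (χ : IrrCharacter G) (hχ : χ ∈ B) =>
    restrict_irr_of_abelian_defect hM N hidx hB hPD hab hsup hχ
  have heq : ∀ χ ∈ B, ∀ θ : IrrCharacter N,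
      classInner (fun n : N => (χ : G → ℂ) n) (θ : N → ℂ) ≠ 0 →
      ∀ n : N, (χ : G → ℂ) n = (θ : N → ℂ) n := fun χ hχ θ hθ n => by
    rw [classInner_irrChar (hirr χ hχ) θ.2] at hθ
    by_cases h : (fun n : N => (χ : G → ℂ) n) = (θ : N → ℂ)
    · exact congrFun h n
    · exact absurd (if_neg h) hθ
  have hres : ∀ χ ∈ B, ∃ θ ∈ b, ∀ n : N, (χ : G → ℂ) n = (θ : N → ℂ) n := fun χ hχ => by
    obtain ⟨θ, hθb, hθ⟩ := exists_constituent_mem hM hB hb hcov hχ
    exact ⟨θ, hθb, heq χ hχ θ hθ⟩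
  have hover : ∀ θ ∈ b, ∀ χ : IrrCharacter G,
      classInner (fun n : N => (χ : G → ℂ) n) (θ : N → ℂ) ≠ 0 → χ ∈ B := fun θ hθ χ hχ => by
    rw [huniq B ⟨hB, hcov⟩, ← huniq _ ⟨isPBlock_blockOf χ, χ, mem_blockOf_self hM χ, θ, hθ, hχ⟩]
    exact mem_blockOf_self hM χ
  have hab' : ∀ x y : G, x * y * x⁻¹ * y⁻¹ ∈ N := fun x y => by
    rw [← QuotientGroup.eq_one_iff]
    have hdec : ∀ z : G, ∃ u ∈ P, QuotientGroup.mk' N z = QuotientGroup.mk' N u := fun z => by
      obtain ⟨n, hn, u, hu, rfl⟩ :=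
        Subgroup.mem_sup_of_normal_left.1 (show z ∈ N ⊔ P by rw [hsup]; exact Subgroup.mem_top z)
      refine ⟨u, hu, ?_⟩
      rw [map_mul, show QuotientGroup.mk' N n = 1 from (QuotientGroup.eq_one_iff n).2 hn, one_mul]
    obtain ⟨u, hu, hu'⟩ := hdec x
    obtain ⟨v, hv, hv'⟩ := hdec y
    show QuotientGroup.mk' N (x * y * x⁻¹ * y⁻¹) = 1
    rw [map_mul, map_mul, map_mul, map_inv, map_inv, hu', hv', ← map_inv, ← map_inv, ← map_mul,
      ← map_mul, ← map_mul, hab u hu v hv, mul_inv_cancel_right, mul_inv_cancel, map_one]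
  have hfib : ∀ θ ∈ b, Nat.card {χ : IrrCharacter G // χ ∈ B ∧
      ∀ n : N, (χ : G → ℂ) n = (θ : N → ℂ) n} = N.index := by
    intro θ hθ
    have hres1 : ∀ χ : IrrCharacter G,
        classInner (fun n : N => (χ : G → ℂ) n) (θ : N → ℂ) ≠ 0 →
        ∀ n : N, (χ : G → ℂ) n = (θ : N → ℂ) n := fun χ hc => heq χ (hover θ hθ χ hc) θ hc
    obtain ⟨χ₀, hχ₀, hc₀⟩ := exists_over N θ.2
    have hθinv : ∀ g : G, conjN N g (θ : N → ℂ) = (θ : N → ℂ) := fun g => funext fun n => by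
      rw [conjN, ← hres1 ⟨χ₀, hχ₀⟩ hc₀, ← hres1 ⟨χ₀, hχ₀⟩ hc₀]
      exact (isClassFunction_irr ⟨χ₀, hχ₀⟩) n g
    obtain ⟨e, C, he, hCirr, hcard, -, hCres, hCall⟩ := indFun_abelian_quotient N hab' θ.2 hθinv
    have hmem : ∀ χ : IrrCharacter G,
        (χ : G → ℂ) ∈ C ↔ (χ ∈ B ∧ ∀ n : N, (χ : G → ℂ) n = (θ : N → ℂ) n) := by
      intro χ
      have hc : (χ : G → ℂ) ∈ C → classInner (fun n : N => (χ : G → ℂ) n) (θ : N → ℂ) ≠ 0 :=
        fun h => by
          rw [hCres _ h, classInner_smul_left, classInner_self_irr θ.2, mul_one]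
          exact_mod_cast he.ne'
      refine ⟨fun h => ⟨hover θ hθ χ (hc h), hres1 χ (hc h)⟩, fun h => hCall _ χ.2 ?_⟩
      rw [show (fun n : N => (χ : G → ℂ) n) = (θ : N → ℂ) from funext h.2,
        classInner_self_irr θ.2]
      exact one_ne_zero
    have he1 : e = 1 := by
      have h0 : χ₀ ∈ C := hCall χ₀ hχ₀ hc₀
      have := congrFun (hCres χ₀ h0) 1
      simp only [Pi.smul_apply, smul_eq_mul] at this
      rw [show χ₀ ((1 : N) : G) = (θ : N → ℂ) 1 from hres1 ⟨χ₀, hχ₀⟩ hc₀ 1] at this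
      have h' : (e : ℂ) = 1 :=
        (mul_right_cancel₀ (IsIrrCharacter.apply_one_ne_zero θ.2) ((one_mul _).trans this)).symm
      exact_mod_cast h'
    rw [he1, one_pow, one_mul] at hcard
    rw [← hcard, ← Nat.card_eq_finsetCard]
    refine Nat.card_congr
      { toFun := fun χ => ⟨χ.1, (hmem χ.1).2 χ.2⟩
        invFun := fun f => ⟨⟨f.1, hCirr _ f.2⟩, (hmem ⟨f.1, hCirr _ f.2⟩).1 f.2⟩
        left_inv := fun χ => rfl
        right_inv := fun f => rfl }
  refine ⟨hsup, h2, hres, hfib, ?_, ?_⟩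
  · choose r hrb hr using hres
    let F : (Σ θ : b, {χ : IrrCharacter G // χ ∈ B ∧
        ∀ n : N, (χ : G → ℂ) n = ((θ : IrrCharacter N) : N → ℂ) n}) ≃ B :=
      { toFun := fun x => ⟨x.2.1, x.2.2.1⟩
        invFun := fun χ => ⟨⟨r χ.1 χ.2, hrb χ.1 χ.2⟩, χ.1, χ.2, hr χ.1 χ.2⟩
        left_inv := by
          rintro ⟨⟨θ, hθ⟩, χ, hχ, hχθ⟩
          have : r χ hχ = θ := Subtype.ext (funext fun n => (hr χ hχ n).symm.trans (hχθ n))
          subst this
          rfl
        right_inv := fun χ => rfl }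
    rw [← Nat.card_congr F, Nat.card_sigma,
      Finset.sum_congr rfl (g := fun _ => N.index) fun θ _ => hfib θ.1 θ.2, Finset.sum_const,
      Finset.card_univ, smul_eq_mul, ← Nat.card_eq_fintype_card, mul_comm]
  · have hpart : ∀ χ ∈ B, ∀ θ : IrrCharacter N, (∀ n : N, (χ : G → ℂ) n = (θ : N → ℂ) n) →
        pRegularPart p (χ : G → ℂ) = extZero N (pRegularPart p (θ : N → ℂ)) := by
      intro χ _ θ hθ
      funext x
      simp only [extZero, LinearMap.coe_mk, AddHom.coe_mk, pRegularPart]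
      by_cases hx : x ∈ N
      · rw [dif_pos hx]
        refine if_congr ?_ (hθ ⟨x, hx⟩) rfl
        rw [IsPRegular, IsPRegular, ← Subgroup.orderOf_coe]
      · rw [dif_neg hx, if_neg]
        exact fun h => hx (mem_of_pRegular_of_index_eq_pow hp N hidx h)
    have himg : (fun χ : IrrCharacter G => pRegularPart p (χ : G → ℂ)) '' B =
        extZero N '' ((fun θ : IrrCharacter N => pRegularPart p (θ : N → ℂ)) '' b) := by
      ext f
      simp only [Set.mem_image, exists_exists_and_eq_and]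
      constructor
      · rintro ⟨χ, hχ, rfl⟩
        obtain ⟨θ, hθ, hθe⟩ := hres χ hχ
        exact ⟨θ, hθ, (hpart χ hχ θ hθe).symm⟩
      · rintro ⟨θ, hθ, rfl⟩
        have hpos : 0 < Nat.card {χ : IrrCharacter G // χ ∈ B ∧
            ∀ n : N, (χ : G → ℂ) n = (θ : N → ℂ) n} := by
          rw [hfib θ hθ]
          exact Nat.pos_of_ne_zero Subgroup.index_ne_zero_of_finite
        obtain ⟨χ, hχ, hχθ⟩ := (Nat.card_pos_iff.1 hpos).1
        exact ⟨χ, hχ, hpart χ hχ θ hχθ⟩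
    rw [blockRank, blockRank, himg, Submodule.span_image]
    exact (Submodule.equivMapOfInjective _ (extZero_injective N) _).finrank_eq.symm

end Cfsg.Lib.Blocks
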