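import Mathlib
import Cfsg.Agent.Chars.Perm
import Cfsg.Agent.Chars.Construct

/-!
# Three small characters of a four times transitive group

For an action that is four times transitive the functions `fix - 1`, the two characters hidden in
the action on two element subsets and the exterior square of the standard one are irreducible.
-/

set_option autoImplicit false
set_option linter.unusedSectionVars false

namespace Cfsg.Lib.AltZeros

open Cfsg.Lib.Chars MulAction
open scoped Pointwise

universe u v

variable (G : Type u) [Group G] (α : Type v) [MulAction G α]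

/-- The number of fixed points. -/
noncomputable def fixC (g : G) : ℕ := Nat.card (fixedBy α g)

/-- The points in the orbits of length two of `g`. -/
noncomputable def swapC (g : G) : ℕ := Nat.card {a : α // g • g • a = a ∧ g • a ≠ a}

/-- The standard character. -/
noncomputable def stdChar (g : G) : ℂ := (fixC G α g : ℂ) - 1

/-- The character on two element subsets without the standard one. -/
noncomputable def pairChar (g : G) : ℂ :=
  ((fixC G α g : ℂ) * ((fixC G α g : ℂ) - 1) + swapC G α g) / 2 - fixC G α g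

/-- The exterior square of the standard character. -/
noncomputable def extChar (g : G) : ℂ :=
  ((fixC G α g : ℂ) * ((fixC G α g : ℂ) - 1) - swapC G α g) / 2 - fixC G α g + 1

variable {G α} [Fintype G] [Finite α]

/-- The mean number of injective tuples moved along a fixed pattern is one. -/
theorem sum_pattern {k : ℕ} [IsMultiplyPretransitive G α k] [Nonempty (Fin k ↪ α)] (σ : Equiv.Perm (Fin k)) :
    ∑ g : G, Nat.card {v : Fin k ↪ α // ∀ i, g • v i = v (σ i)} = Nat.card G := by
  classical
  haveI := Fintype.ofFinite α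
  let h : (Fin k ↪ α) → (Fin k ↪ α) := fun v => σ.toEmbedding.trans v
  have e : ∀ g : G, Nat.card {v : Fin k ↪ α // ∀ i, g • v i = v (σ i)} =
      ∑ v : Fin k ↪ α, if g • v = h v then 1 else 0 := fun g => by
    rw [Nat.card_eq_fintype_card, Fintype.card_subtype, Finset.card_filter]
    refine Finset.sum_congr rfl fun v _ => ?_
    refine if_congr ⟨fun H => Function.Embedding.ext fun i => H i, fun H i => ?_⟩ rfl rfl
    exact congrFun (congrArg DFunLike.coe H) i
  simp only [e]
  rw [Finset.sum_comm]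
  have hv : ∀ v : Fin k ↪ α, (∑ g : G, if g • v = h v then 1 else 0) = Nat.card (stabilizer G v) := by
    intro v
    rw [← Finset.card_filter, Nat.card_eq_fintype_card, Fintype.card_subtype]
    obtain ⟨g₀, hg₀⟩ := exists_smul_eq G v (h v)
    refine Finset.card_bij (fun g _ => g₀⁻¹ * g) (fun g hg => ?_) (fun a _ b _ hab => mul_left_cancel hab)
      fun b hb => ⟨g₀ * b, ?_, inv_mul_cancel_left _ _⟩
    · simp only [Finset.mem_filter, Finset.mem_univ, true_and, mem_stabilizer_iff] at hg ⊢
      rw [mul_smul, hg, ← hg₀, inv_smul_smul]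
    · simp only [Finset.mem_filter, Finset.mem_univ, true_and, mem_stabilizer_iff] at hb ⊢
      rw [mul_smul, hb, hg₀]
  simp only [hv]
  obtain ⟨v₀⟩ := (inferInstance : Nonempty (Fin k ↪ α))
  have hconst : ∀ v : Fin k ↪ α, Nat.card (stabilizer G v) = Nat.card (stabilizer G v₀) := fun v => by
    obtain ⟨g, rfl⟩ := exists_smul_eq G v₀ v
    rw [stabilizer_smul_eq_stabilizer_map_conj, Subgroup.card_map_of_injective (MulEquiv.injective _)]
  rw [Finset.sum_congr rfl fun v _ => hconst v, Finset.sum_const, smul_eq_mul, Finset.card_univ,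
    ← Nat.card_eq_fintype_card, ← Subgroup.card_mul_index (stabilizer G v₀), index_stabilizer_of_transitive, mul_comm]

theorem card_fixed_tuples (k : ℕ) (g : G) :
    Nat.card {v : Fin k ↪ α // ∀ i, g • v i = v ((Equiv.refl (Fin k)) i)} =
      (fixC G α g).descFactorial k := by
  classical
  haveI := Fintype.ofFinite α
  have e : {v : Fin k ↪ α // ∀ i, g • v i = v i} ≃ (Fin k ↪ fixedBy α g) :=
    { toFun := fun v => ⟨fun i => ⟨v.1 i, v.2 i⟩, fun a b h => v.1.injective (congrArg Subtype.val h)⟩
      invFun := fun w => ⟨⟨fun i => (w i : α), fun a b h => w.injective (Subtype.ext h)⟩, fun i => (w i).2⟩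
      left_inv := fun v => Subtype.ext (Function.Embedding.ext fun i => rfl)
      right_inv := fun w => Function.Embedding.ext fun i => rfl }
  simp only [Equiv.refl_apply]
  rw [Nat.card_congr e, Nat.card_eq_fintype_card, Fintype.card_embedding_eq, Fintype.card_fin, fixC,
    Nat.card_eq_fintype_card]

theorem card_swapped (g : G) :
    Nat.card {v : Fin 2 ↪ α // ∀ i, g • v i = v (Equiv.swap 0 1 i)} = swapC G α g := by
  refine Nat.card_congr
    { toFun := fun v => ⟨v.1 0, ?_, ?_⟩
      invFun := fun a => ⟨⟨![a.1, g • a.1], ?_⟩, ?_⟩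
      left_inv := fun v => Subtype.ext (Function.Embedding.ext fun i => ?_)
      right_inv := fun a => rfl }
  · have h0 := v.2 0; have h1 := v.2 1
    simp only [Equiv.swap_apply_left, Equiv.swap_apply_right] at h0 h1
    rw [h0, h1]
  · intro h
    have h0 := v.2 0
    rw [Equiv.swap_apply_left, h] at h0
    exact absurd (v.1.injective h0) (by decide)
  · obtain ⟨a, -, ha⟩ := a
    intro i j hij
    fin_cases i <;> fin_cases j <;> first | rfl | (exfalso; simp [ha, Ne.symm ha] at hij)
  · intro i
    obtain ⟨a, ha2, ha⟩ := a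
    fin_cases i <;> simp [ha2]
  · have h0 := v.2 0
    rw [Equiv.swap_apply_left] at h0
    fin_cases i <;> simp [h0]

/-- Swapped pairs and fixed tuples. -/
theorem card_swap_fix (g : G) :
    Nat.card {v : Fin 3 ↪ α // ∀ i, g • v i = v (Equiv.swap 0 1 i)} = swapC G α g * fixC G α g := by
  rw [swapC, fixC, ← Nat.card_prod]
  refine Nat.card_congr
    { toFun := fun v => (⟨v.1 0, ?_, ?_⟩, ⟨v.1 2, ?_⟩)
      invFun := fun a => ⟨⟨![a.1.1, g • a.1.1, a.2.1], ?_⟩, ?_⟩
      left_inv := fun v => Subtype.ext (Function.Embedding.ext fun i => ?_)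
      right_inv := fun a => rfl }
  · have h0 := v.2 0; have h1 := v.2 1
    simp only [Equiv.swap_apply_left, Equiv.swap_apply_right] at h0 h1
    rw [h0, h1]
  · intro h
    have h0 := v.2 0
    rw [Equiv.swap_apply_left, h] at h0
    exact absurd (v.1.injective h0) (by decide)
  · exact v.2 2
  · obtain ⟨⟨a, ha2, ha⟩, ⟨c, hc⟩⟩ := a
    have hc' : g • c = c := hc
    have e1 : a ≠ c := fun e => ha (e ▸ hc')
    have e2 : g • a ≠ c := fun e => e1 (smul_left_cancel g (e.trans hc'.symm))
    intro i j hij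
    fin_cases i <;> fin_cases j <;> first | rfl | (exfalso; simp [ha, Ne.symm ha, e1, e1.symm, e2, e2.symm] at hij)
  · obtain ⟨⟨a, ha2, ha⟩, ⟨c, hc⟩⟩ := a
    intro i
    have hc' : g • c = c := hc
    fin_cases i <;> simp [ha2, hc', Equiv.swap_apply_def]
  · have h0 := v.2 0
    rw [Equiv.swap_apply_left] at h0
    fin_cases i <;> simp [h0]

theorem card_swap_fix_fix (g : G) :
    Nat.card {v : Fin 4 ↪ α // ∀ i, g • v i = v (Equiv.swap 0 1 i)} =
      swapC G α g * (fixC G α g).descFactorial 2 := by
  rw [← card_fixed_tuples, swapC, ← Nat.card_prod]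
  refine Nat.card_congr
    { toFun := fun v => (⟨v.1 0, ?_, ?_⟩, ⟨⟨![v.1 2, v.1 3], ?_⟩, ?_⟩)
      invFun := fun a => ⟨⟨![a.1.1, g • a.1.1, a.2.1 0, a.2.1 1], ?_⟩, ?_⟩
      left_inv := fun v => Subtype.ext (Function.Embedding.ext fun i => ?_)
      right_inv := fun a => ?_ }
  · have h0 := v.2 0; have h1 := v.2 1
    simp only [Equiv.swap_apply_left, Equiv.swap_apply_right] at h0 h1
    rw [h0, h1]
  · intro h
    have h0 := v.2 0
    rw [Equiv.swap_apply_left, h] at h0
    exact absurd (v.1.injective h0) (by decide)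
  · intro i j hij
    fin_cases i <;> fin_cases j <;> simp_all
  · intro i
    fin_cases i
    · exact v.2 2
    · exact v.2 3
  · obtain ⟨⟨a, ha2, ha⟩, ⟨w, hw⟩⟩ := a
    have hw0 : g • w 0 = w 0 := hw 0
    have hw1 : g • w 1 = w 1 := hw 1
    have hww : w 0 ≠ w 1 := fun e => absurd (w.injective e) (by decide)
    have e0 : a ≠ w 0 := fun e => ha (e ▸ hw0)
    have e1 : a ≠ w 1 := fun e => ha (e ▸ hw1)
    have f0 : g • a ≠ w 0 := fun e => e0 (by rw [← hw0] at e; exact smul_left_cancel g e)
    have f1 : g • a ≠ w 1 := fun e => e1 (by rw [← hw1] at e; exact smul_left_cancel g e)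
    intro i j hij
    fin_cases i <;> fin_cases j <;> first | rfl |
      (exfalso; simp [ha, Ne.symm ha, e0, e0.symm, e1, e1.symm, f0, f0.symm, f1, f1.symm, hww, hww.symm] at hij)
  · obtain ⟨⟨a, ha2, ha⟩, ⟨w, hw⟩⟩ := a
    intro i
    have hw0 : g • w 0 = w 0 := hw 0
    have hw1 : g • w 1 = w 1 := hw 1
    fin_cases i <;> simp [ha2, hw0, hw1, Equiv.swap_apply_def]
  · have h0 := v.2 0
    rw [Equiv.swap_apply_left] at h0
    fin_cases i <;> simp [h0] <;> rfl
  · refine Prod.ext rfl (Subtype.ext (Function.Embedding.ext fun i => ?_))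
    fin_cases i <;> rfl

/-- The double transposition pattern. -/
def dbl : Equiv.Perm (Fin 4) := Equiv.swap 0 1 * Equiv.swap 2 3

theorem card_double (g : G) :
    Nat.card {v : Fin 4 ↪ α // ∀ i, g • v i = v (dbl i)} + 2 * swapC G α g = swapC G α g * swapC G α g := by
  classical
  haveI := Fintype.ofFinite α
  set S := {a : α // g • g • a = a ∧ g • a ≠ a}
  have hd : dbl 0 = 1 ∧ dbl 1 = 0 ∧ dbl 2 = 3 ∧ dbl 3 = 2 := by decide
  have e : {v : Fin 4 ↪ α // ∀ i, g • v i = v (dbl i)} ≃
      {q : S × S // ¬ (q.2.1 = q.1.1 ∨ q.2.1 = g • q.1.1)} :=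
    { toFun := fun v => ⟨(⟨v.1 0, by
          have h0 := v.2 0; have h1 := v.2 1
          rw [hd.1] at h0; rw [hd.2.1] at h1
          refine ⟨by rw [h0, h1], fun h => absurd (v.1.injective (h0.symm.trans h)) (by decide)⟩⟩,
        ⟨v.1 2, by
          have h0 := v.2 2; have h1 := v.2 3
          rw [hd.2.2.1] at h0; rw [hd.2.2.2] at h1
          refine ⟨by rw [h0, h1], fun h => absurd (v.1.injective (h0.symm.trans h)) (by decide)⟩⟩), by
          rintro (h | h)
          · exact absurd (v.1.injective h) (by decide)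
          · have h0 := v.2 0
            rw [hd.1] at h0
            exact absurd (v.1.injective (h.trans h0)) (by decide)⟩
      invFun := fun q => ⟨⟨![q.1.1.1, g • q.1.1.1, q.1.2.1, g • q.1.2.1], by
          obtain ⟨⟨⟨a, ha2, ha⟩, ⟨c, hc2, hc⟩⟩, hq⟩ := q
          simp only [not_or] at hq
          have f1 : g • c ≠ a := fun h => hq.2 (by rw [← h, hc2])
          have f2 : g • a ≠ g • c := fun h => hq.1 (smul_left_cancel g h).symm
          have f3 : a ≠ c := fun h => hq.1 h.symm
          have f4 : g • a ≠ c := fun h => hq.2 h.symm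
          intro i j hij
          fin_cases i <;> fin_cases j <;> first | rfl |
            (exfalso; simp [ha, Ne.symm ha, hc, Ne.symm hc, f1, f1.symm, f2, f2.symm, f3, f3.symm, f4, f4.symm] at hij)⟩, by
          obtain ⟨⟨⟨a, ha2, ha⟩, ⟨c, hc2, hc⟩⟩, hq⟩ := q
          intro i
          fin_cases i <;> simp [dbl, Equiv.swap_apply_def, ha2, hc2]⟩
      left_inv := fun v => Subtype.ext (Function.Embedding.ext fun i => by
        have h0 := v.2 0; have h2 := v.2 2
        rw [hd.1] at h0; rw [hd.2.2.1] at h2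
        fin_cases i <;> simp [h0, h2])
      right_inv := fun q => rfl }
  have h2 : Fintype.card {q : S × S // q.2.1 = q.1.1 ∨ q.2.1 = g • q.1.1} = 2 * Fintype.card S := by
    rw [mul_comm, ← Fintype.card_bool, ← Fintype.card_prod]
    refine Fintype.card_congr (Equiv.ofBijective (fun z : S × Bool =>
      (⟨(z.1, bif z.2 then z.1 else ⟨g • z.1.1, by rw [z.1.2.1], fun h => z.1.2.2 (smul_left_cancel g h)⟩), by
        cases z.2 <;> simp⟩ : {q : S × S // q.2.1 = q.1.1 ∨ q.2.1 = g • q.1.1})) ⟨?_, ?_⟩).symm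
    · rintro ⟨a, b⟩ ⟨a', b'⟩ h
      have h1 := congrArg (fun q : {q : S × S // q.2.1 = q.1.1 ∨ q.2.1 = g • q.1.1} => q.1.1) h
      simp only at h1
      subst h1
      have h3 := congrArg (fun q : {q : S × S // q.2.1 = q.1.1 ∨ q.2.1 = g • q.1.1} => q.1.2.1) h
      cases b <;> cases b' <;> first | rfl | exact absurd h3 a.2.2 | exact absurd h3.symm a.2.2
    · rintro ⟨⟨a, c⟩, h | h⟩
      · exact ⟨(a, true), Subtype.ext (Prod.ext rfl (Subtype.ext h.symm))⟩
      · exact ⟨(a, false), Subtype.ext (Prod.ext rfl (Subtype.ext h.symm))⟩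
  have h3 := Fintype.card_subtype_compl (fun q : S × S => q.2.1 = q.1.1 ∨ q.2.1 = g • q.1.1)
  have h4 := Fintype.card_subtype_le (fun q : S × S => q.2.1 = q.1.1 ∨ q.2.1 = g • q.1.1)
  rw [Fintype.card_prod] at h3 h4
  rw [h2] at h3 h4
  rw [Nat.card_congr e, show swapC G α g = Fintype.card S from Nat.card_eq_fintype_card, Nat.card_eq_fintype_card, h3]
  omega

/-- The fixed two element subsets. -/
theorem two_mul_card_fixed_pairs [DecidableEq α] (g : G) :
    2 * Nat.card (fixedBy (Set.powersetCard α 2) g) = (fixC G α g).descFactorial 2 + swapC G α g := by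
  classical
  haveI := Fintype.ofFinite α
  rw [← card_fixed_tuples, ← card_swapped]
  set A := {v : Fin 2 ↪ α // ∀ i, g • v i = v ((Equiv.refl (Fin 2)) i)}
  set B := {v : Fin 2 ↪ α // ∀ i, g • v i = v (Equiv.swap 0 1 i)}
  rw [show Nat.card A + Nat.card B = Nat.card (A ⊕ B) from Nat.card_sum.symm]
  have hs : Nat.card (Σ s : fixedBy (Set.powersetCard α 2) g, ((s : Set.powersetCard α 2) : Finset α)) =
      2 * Nat.card (fixedBy (Set.powersetCard α 2) g) := by
    rw [Nat.card_sigma, Finset.sum_congr rfl (g := fun _ => 2) fun s _ => by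
      rw [Nat.card_eq_fintype_card, Fintype.card_coe]; exact (s : Set.powersetCard α 2).2,
      Finset.sum_const, Finset.card_univ, Nat.card_eq_fintype_card, smul_eq_mul, mul_comm]
  rw [← hs]
  symm
  have himg : ∀ v : Fin 2 ↪ α, ({g • v 0, g • v 1} : Finset α) = {v 0, v 1} →
      g • (⟨{v 0, v 1}, Finset.card_pair (fun e => absurd (v.injective e) (by decide))⟩ : Set.powersetCard α 2) =
        ⟨{v 0, v 1}, Finset.card_pair (fun e => absurd (v.injective e) (by decide))⟩ := fun v h => by
    apply Subtype.ext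
    rw [Set.powersetCard.coe_smul]
    rw [show g • ({v 0, v 1} : Finset α) = {g • v 0, g • v 1} by
      simp [Finset.smul_finset_def, Finset.image_insert]]
    exact h
  refine Nat.card_congr (Equiv.ofBijective (Sum.elim
    (fun v : A => (⟨⟨_, himg v.1 (by simp [v.2 0, v.2 1])⟩, ⟨v.1 0, by simp⟩⟩ :
      Σ s : fixedBy (Set.powersetCard α 2) g, ((s : Set.powersetCard α 2) : Finset α)))
    (fun v : B => ⟨⟨_, himg v.1 (by
      rw [v.2 0, v.2 1, Equiv.swap_apply_left, Equiv.swap_apply_right, Finset.pair_comm])⟩, ⟨v.1 0, by simp⟩⟩))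
    ⟨?_, ?_⟩)
  · have key : ∀ v w : Fin 2 ↪ α, v 0 = w 0 → ({v 0, v 1} : Finset α) = {w 0, w 1} → v = w := fun v w h0 h => by
      have h1 : v 1 ∈ ({w 0, w 1} : Finset α) := h ▸ by simp
      simp only [Finset.mem_insert, Finset.mem_singleton] at h1
      rcases h1 with h1 | h1
      · exact absurd (v.injective (h1.trans h0.symm)) (by decide)
      · ext i; fin_cases i <;> assumption
    rintro (v | v) (w | w) h <;> simp only [Sum.elim_inl, Sum.elim_inr] at h
    all_goals
      have h1 := congrArg (fun z : Σ s : fixedBy (Set.powersetCard α 2) g,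
        ((s : Set.powersetCard α 2) : Finset α) => (z.2 : α)) h
      have h2 := congrArg (fun z : Σ s : fixedBy (Set.powersetCard α 2) g,
        ((s : Set.powersetCard α 2) : Finset α) => ((z.1 : Set.powersetCard α 2) : Finset α)) h
      have h3 := key _ _ h1 h2
    · exact congrArg Sum.inl (Subtype.ext h3)
    · exfalso
      have e := v.2 0
      rw [Equiv.refl_apply, h3, w.2 0, Equiv.swap_apply_left] at e
      exact absurd (w.1.injective e) (by decide)
    · exfalso
      have e := w.2 0
      rw [Equiv.refl_apply, ← h3, v.2 0, Equiv.swap_apply_left] at e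
      exact absurd (v.1.injective e) (by decide)
    · exact congrArg Sum.inr (Subtype.ext h3)
  · rintro ⟨⟨⟨s, hs2⟩, hfix⟩, ⟨a, ha⟩⟩
    obtain ⟨x, y, hxy, hs'⟩ := Finset.card_eq_two.1 hs2
    obtain ⟨b, hab, hsab⟩ : ∃ b, a ≠ b ∧ s = {a, b} := by
      have ha' : a = x ∨ a = y := by simpa [hs'] using ha
      rcases ha' with rfl | rfl
      · exact ⟨y, hxy, hs'⟩
      · exact ⟨x, hxy.symm, hs'.trans (Finset.pair_comm _ _)⟩
    clear hs' hxy x y
    subst hsab
    have hg : ({g • a, g • b} : Finset α) = {a, b} := by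
      have h := congrArg Subtype.val (mem_fixedBy.1 hfix)
      rw [Set.powersetCard.coe_smul] at h
      simpa [Finset.smul_finset_def, Finset.image_insert] using h
    let v : Fin 2 ↪ α := ⟨![a, b], by
      intro i j hij; fin_cases i <;> fin_cases j <;> first | rfl | (exfalso; simp [hab, hab.symm] at hij)⟩
    have hga : g • a = a ∨ g • a = b := by
      have : g • a ∈ ({a, b} : Finset α) := hg ▸ by simp
      simpa using this
    have hgb : g • b = a ∨ g • b = b := by
      have : g • b ∈ ({a, b} : Finset α) := hg ▸ by simp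
      simpa using this
    rcases hga with hga | hga
    · have hgb' : g • b = b := hgb.resolve_left fun e => hab (smul_left_cancel g (hga.trans e.symm))
      refine ⟨Sum.inl ⟨v, fun i => by fin_cases i <;> first | exact hga | exact hgb'⟩, ?_⟩
      rfl
    · have hgb' : g • b = a := hgb.resolve_right fun e => hab (smul_left_cancel g (hga.trans e.symm))
      refine ⟨Sum.inr ⟨v, fun i => by fin_cases i <;> first | exact hga | exact hgb'⟩, ?_⟩
      rfl

variable (G α) in
/-- The hypotheses: four times transitive on at least seven points. -/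
class FourTrans : Prop where
  trans : ∀ k ≤ 4, IsMultiplyPretransitive G α k
  card : 7 ≤ Nat.card α

variable [FourTrans G α]

theorem moment {k : ℕ} (hk : k ≤ 4) (σ : Equiv.Perm (Fin k)) :
    ∑ g : G, (Nat.card {v : Fin k ↪ α // ∀ i, g • v i = v (σ i)} : ℂ) = Nat.card G := by
  haveI := FourTrans.trans (G := G) (α := α) k hk
  have h7 := FourTrans.card (G := G) (α := α)
  haveI : Nonempty (Fin k ↪ α) := by
    haveI := Fintype.ofFinite α
    exact Function.Embedding.nonempty_of_card_le (by
      rw [Fintype.card_fin, ← Nat.card_eq_fintype_card]; omega)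
  rw [← Nat.cast_sum, sum_pattern]

/-- The norm of a quadratic polynomial in the two counts. -/
theorem norm_eval (a b c d : ℤ) :
    classInner (fun g : G => (a : ℂ) * ((fixC G α g : ℂ) * ((fixC G α g : ℂ) - 1)) + b * swapC G α g +
        c * fixC G α g + d)
      (fun g : G => (a : ℂ) * ((fixC G α g : ℂ) * ((fixC G α g : ℂ) - 1)) + b * swapC G α g +
        c * fixC G α g + d) =
      7 * a ^ 2 + 3 * b ^ 2 + 2 * c ^ 2 + d ^ 2 + 2 * a * b + 6 * a * c + 2 * a * d + 2 * b * c + 2 * b * d +
        2 * c * d := by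
  have hd : ∀ (n k : ℕ), ((n.descFactorial (k + 1) : ℕ) : ℂ) = ((n : ℂ) - k) * (n.descFactorial k : ℂ) := by
    intro n k
    rw [Nat.descFactorial_succ, Nat.cast_mul]
    rcases le_or_gt k n with h | h
    · rw [Nat.cast_sub h]
    · simp [Nat.descFactorial_eq_zero_iff_lt.2 h]
  set F := fun g : G => (fixC G α g : ℂ)
  set T := fun g : G => (swapC G α g : ℂ)
  have s1 : ∑ g : G, F g = Nat.card G := by
    rw [← moment (G := G) (α := α) (show 1 ≤ 4 by norm_num) (Equiv.refl _)]
    exact Finset.sum_congr rfl fun g _ => by rw [card_fixed_tuples, Nat.descFactorial_one]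
  have s2 : ∑ g : G, F g * (F g - 1) = Nat.card G := by
    rw [← moment (G := G) (α := α) (show 2 ≤ 4 by norm_num) (Equiv.refl _)]
    exact Finset.sum_congr rfl fun g _ => by
      rw [card_fixed_tuples, hd, Nat.descFactorial_one]; push_cast; ring
  have s3 : ∑ g : G, F g * (F g - 1) * (F g - 2) = Nat.card G := by
    rw [← moment (G := G) (α := α) (show 3 ≤ 4 by norm_num) (Equiv.refl _)]
    exact Finset.sum_congr rfl fun g _ => by
      rw [card_fixed_tuples, hd, hd, Nat.descFactorial_one]; push_cast; ring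
  have s4 : ∑ g : G, F g * (F g - 1) * (F g - 2) * (F g - 3) = Nat.card G := by
    rw [← moment (G := G) (α := α) (show 4 ≤ 4 by norm_num) (Equiv.refl _)]
    exact Finset.sum_congr rfl fun g _ => by
      rw [card_fixed_tuples, hd, hd, hd, Nat.descFactorial_one]; push_cast; ring
  have t1 : ∑ g : G, T g = Nat.card G := by
    rw [← moment (G := G) (α := α) (show 2 ≤ 4 by norm_num) (Equiv.swap 0 1)]
    exact Finset.sum_congr rfl fun g _ => by rw [card_swapped]
  have t2 : ∑ g : G, T g * F g = Nat.card G := by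
    rw [← moment (G := G) (α := α) (show 3 ≤ 4 by norm_num) (Equiv.swap 0 1)]
    exact Finset.sum_congr rfl fun g _ => by rw [card_swap_fix, Nat.cast_mul]
  have t3 : ∑ g : G, T g * (F g * (F g - 1)) = Nat.card G := by
    rw [← moment (G := G) (α := α) (show 4 ≤ 4 by norm_num) (Equiv.swap 0 1)]
    exact Finset.sum_congr rfl fun g _ => by
      rw [card_swap_fix_fix, Nat.cast_mul, hd, Nat.descFactorial_one]; push_cast; ring
  have t4 : ∑ g : G, (T g * T g - 2 * T g) = Nat.card G := by
    rw [← moment (G := G) (α := α) (show 4 ≤ 4 by norm_num) dbl]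
    refine Finset.sum_congr rfl fun g _ => ?_
    have h := congrArg (Nat.cast : ℕ → ℂ) (card_double (α := α) g)
    push_cast at h
    linear_combination -h
  rw [classInner_def]
  simp only [map_add, map_mul, map_sub, map_one, Complex.conj_natCast, map_intCast]
  have key : ∀ g : G, ((a : ℂ) * (F g * (F g - 1)) + b * T g + c * F g + d) *
      ((a : ℂ) * (F g * (F g - 1)) + b * T g + c * F g + d) =
      (a : ℂ) ^ 2 * (F g * (F g - 1) * (F g - 2) * (F g - 3)) +
      (4 * (a : ℂ) ^ 2 + 2 * a * c) * (F g * (F g - 1) * (F g - 2)) +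
      (2 * (a : ℂ) ^ 2 + 4 * a * c + c ^ 2 + 2 * a * d) * (F g * (F g - 1)) +
      ((c : ℂ) ^ 2 + 2 * c * d) * F g + (b : ℂ) ^ 2 * (T g * T g - 2 * T g) +
      (2 * (b : ℂ) ^ 2 + 2 * b * d) * T g + 2 * (b : ℂ) * c * (T g * F g) +
      2 * (a : ℂ) * b * (T g * (F g * (F g - 1))) + (d : ℂ) ^ 2 := fun g => by ring
  rw [Finset.sum_congr rfl fun g _ => key g]
  simp only [Finset.sum_add_distrib, ← Finset.mul_sum, s1, s2, s3, s4, t1, t2, t3, t4, Finset.sum_const,
    Finset.card_univ, nsmul_eq_mul, ← Nat.card_eq_fintype_card]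
  have h0 : (Nat.card G : ℂ) ≠ 0 := Nat.cast_ne_zero.2 Nat.card_pos.ne'
  field_simp
  ring

theorem permChar_fix : permChar G α = fun g => (fixC G α g : ℂ) := rfl

omit [FourTrans G α] in
theorem permChar_pairs [DecidableEq α] :
    permChar G (Set.powersetCard α 2) =
      fun g => ((fixC G α g : ℂ) * ((fixC G α g : ℂ) - 1) + swapC G α g) / 2 := by
  funext g
  have h := congrArg (Nat.cast : ℕ → ℂ) (two_mul_card_fixed_pairs (α := α) g)
  have hd : (((fixC G α g).descFactorial 2 : ℕ) : ℂ) = (fixC G α g : ℂ) * ((fixC G α g : ℂ) - 1) := by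
    rcases Nat.eq_zero_or_pos (fixC G α g) with e | e
    · rw [e]; simp
    · rw [Nat.descFactorial_succ, Nat.descFactorial_one, Nat.cast_mul, Nat.cast_sub e]; push_cast; ring
  push_cast at h
  rw [hd] at h
  simp only [permChar]
  linear_combination h / 2

/-- The three characters are irreducible. -/
theorem irr_three :
    Cfsg.IsIrrCharacter G (stdChar G α) ∧ Cfsg.IsIrrCharacter G (pairChar G α) ∧
      Cfsg.IsIrrCharacter G (extChar G α) := by
  classical
  have h7 := FourTrans.card (G := G) (α := α)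
  have g1 : Cfsg.IsGeneralizedCharacter G (fun g => (fixC G α g : ℂ)) :=
    IsCharacter.isGeneralized (isCharacter_permChar α)
  haveI : Finite (Set.powersetCard α 2) := Subtype.finite
  have g2 : Cfsg.IsGeneralizedCharacter G
      (fun g => ((fixC G α g : ℂ) * ((fixC G α g : ℂ) - 1) + swapC G α g) / 2) :=
    permChar_pairs (G := G) (α := α) ▸ IsCharacter.isGeneralized (isCharacter_permChar (Set.powersetCard α 2))
  have g11 : Cfsg.IsGeneralizedCharacter G (fun g => (fixC G α g : ℂ) * ((fixC G α g : ℂ) - 1)) := by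
    have h := isCharacter_permChar (G := G) (α × α)
    have e : permChar G (α × α) = fun g => (fixC G α g : ℂ) * (fixC G α g : ℂ) := by
      funext g
      simp only [permChar, fixC, ← Nat.cast_mul, ← Nat.card_prod]
      refine congrArg _ (Nat.card_congr
        { toFun := fun z => (⟨z.1.1, congrArg Prod.fst z.2⟩, ⟨z.1.2, congrArg Prod.snd z.2⟩)
          invFun := fun z => ⟨(z.1.1, z.2.1), Prod.ext z.1.2 z.2.2⟩
          left_inv := fun z => rfl
          right_inv := fun z => rfl })
    rw [e] at h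
    have h' := IsGeneralizedCharacter.sub (IsCharacter.isGeneralized h) g1
    convert h' using 1
    funext g; simp [Pi.sub_apply]; ring
  have gone : Cfsg.IsGeneralizedCharacter G (fun _ => (1 : ℂ)) :=
    IsCharacter.isGeneralized (isCharacter_of_irr isIrrCharacter_one)
  have hf : fixC G α 1 = Nat.card α :=
    Nat.card_congr (Equiv.subtypeUnivEquiv fun a => one_smul G a)
  have ht : swapC G α 1 = 0 := by
    rw [swapC, Nat.card_eq_zero]
    exact Or.inl ⟨fun a => a.2.2 (one_smul G a.1)⟩
  set n := Nat.card α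
  have hfin : ∀ f : G → ℂ, Cfsg.IsGeneralizedCharacter G f → classInner f f = 1 →
      (∃ m : ℕ, 0 < m ∧ f 1 = m) → Cfsg.IsIrrCharacter G f := by
    rintro f hf hn ⟨m, hm, hf1⟩
    rcases isIrr_or_neg_of_norm_one hf hn with h | h
    · exact h
    · obtain ⟨k, -, hk⟩ := IsIrrCharacter.apply_one h
      rw [Pi.neg_apply, hf1] at hk
      have : ((m + k : ℕ) : ℂ) = 0 := by push_cast; linear_combination -hk
      rw [Nat.cast_eq_zero] at this
      omega
  refine ⟨?_, ?_, ?_⟩
  · refine hfin _ (IsGeneralizedCharacter.sub g1 gone) ?_ ⟨n - 1, by omega, ?_⟩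
    · have h := norm_eval (G := G) (α := α) 0 0 1 (-1)
      have e : stdChar G α = fun g : G => ((0 : ℤ) : ℂ) * ((fixC G α g : ℂ) * ((fixC G α g : ℂ) - 1)) +
          ((0 : ℤ) : ℂ) * swapC G α g + ((1 : ℤ) : ℂ) * fixC G α g + ((-1 : ℤ) : ℂ) := by
        funext g; simp [stdChar]; ring
      rw [e, h]; norm_num
    · simp [stdChar, hf, Nat.cast_sub (show 1 ≤ n by omega)]
  · refine hfin _ (IsGeneralizedCharacter.sub g2 g1) ?_ ⟨n * (n - 3) / 2, Nat.div_pos (by nlinarith [show 4 ≤ n - 3 by omega]) two_pos, ?_⟩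
    · have h := norm_eval (G := G) (α := α) 1 1 (-2) 0
      have e : pairChar G α = (1 / 2 : ℂ) • fun g : G => ((1 : ℤ) : ℂ) * ((fixC G α g : ℂ) * ((fixC G α g : ℂ) - 1)) +
          ((1 : ℤ) : ℂ) * swapC G α g + ((-2 : ℤ) : ℂ) * fixC G α g + ((0 : ℤ) : ℂ) := by
        funext g; simp [pairChar]; ring
      rw [e, classInner_smul_left, classInner_smul_right, h]; norm_num [map_ofNat]
    · have hev : 2 ∣ n * (n - 3) := by
        rcases Nat.even_or_odd n with e | e
        · exact dvd_mul_of_dvd_left e.two_dvd _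
        · exact dvd_mul_of_dvd_right (Nat.Odd.sub_odd e (by decide)).two_dvd _
      simp only [pairChar, hf, ht]
      rw [Nat.cast_div hev two_ne_zero, Nat.cast_mul, Nat.cast_sub (show 3 ≤ n by omega)]
      push_cast; ring
  · refine hfin _ ((fun h => ?_) (IsGeneralizedCharacter.add (IsGeneralizedCharacter.sub (IsGeneralizedCharacter.sub g11 g2) g1) gone)) ?_ ⟨(n - 1) * (n - 2) / 2,
      Nat.div_pos (by nlinarith [show 5 ≤ n - 2 by omega, show 6 ≤ n - 1 by omega]) two_pos, ?_⟩
    · convert h using 1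
      funext g; simp [extChar, Pi.sub_apply, Pi.add_apply]; ring
    · have h := norm_eval (G := G) (α := α) 1 (-1) (-2) 2
      have e : extChar G α = (1 / 2 : ℂ) • fun g : G => ((1 : ℤ) : ℂ) * ((fixC G α g : ℂ) * ((fixC G α g : ℂ) - 1)) +
          ((-1 : ℤ) : ℂ) * swapC G α g + ((-2 : ℤ) : ℂ) * fixC G α g + ((2 : ℤ) : ℂ) := by
        funext g; simp [extChar]; ring
      rw [e, classInner_smul_left, classInner_smul_right, h]; norm_num [map_ofNat]
    · have hev : 2 ∣ (n - 1) * (n - 2) := by
        rcases Nat.even_or_odd n with e | e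
        · exact dvd_mul_of_dvd_right ((Nat.even_sub (show 2 ≤ n by omega)).2 (iff_of_true e (by decide))).two_dvd _
        · exact dvd_mul_of_dvd_left (Nat.Odd.sub_odd e (by decide)).two_dvd _
      simp only [extChar, hf, ht]
      rw [Nat.cast_div hev two_ne_zero, Nat.cast_mul, Nat.cast_sub (show 1 ≤ n by omega),
        Nat.cast_sub (show 2 ≤ n by omega)]
      push_cast; ring

end Cfsg.Lib.AltZeros
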