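import Mathlib
import Cfsg.Agent.Blocks.AltZeros

/-!
# Zeros of small characters of alternating groups
-/

set_option autoImplicit false

namespace Cfsg.Lib.AltZeros

open Equiv Equiv.Perm MulAction Cfsg.Lib.Chars

variable {α : Type*} [Fintype α] [DecidableEq α]

theorem fixC_perm (σ : Perm α) : fixC (Perm α) α σ = Fintype.card α - σ.cycleType.sum := by
  rw [fixC, Nat.card_eq_fintype_card, ← card_fixedPoints]
  rfl

theorem swapC_perm (σ : Perm α) : swapC (Perm α) α σ = 2 * σ.cycleType.count 2 := by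
  classical
  rw [swapC, Nat.card_eq_fintype_card, Fintype.card_subtype, cycleType_def, Multiset.count_map]
  set F := σ.cycleFactorsFinset.filter fun c => 2 = (Finset.card ∘ Perm.support) c with hF
  change _ = 2 * F.card
  have h : (Finset.univ.filter fun a : α => σ • σ • a = a ∧ σ • a ≠ a) = F.biUnion Perm.support := by
    ext a
    simp only [Finset.mem_filter, Finset.mem_univ, true_and, Finset.mem_biUnion, Perm.smul_def, hF, Function.comp_apply]
    refine ⟨fun h => ⟨σ.cycleOf a, ⟨cycleOf_mem_cycleFactorsFinset_iff.2 (mem_support.2 h.2), ?_⟩,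
      mem_support_cycleOf_iff.2 ⟨SameCycle.refl σ a, mem_support.2 h.2⟩⟩, ?_⟩
    · have hc := isCycle_cycleOf σ h.2
      have h1 : σ.cycleOf a ^ 2 = 1 := by
        rw [hc.pow_eq_one_iff' (x := a) (by rw [cycleOf_apply_self]; exact h.2), cycleOf_pow_apply_self]
        exact h.1
      rw [← hc.orderOf]
      exact (orderOf_eq_prime h1 hc.ne_one).symm
    · rintro ⟨c, ⟨hc, hc2⟩, ha⟩
      obtain rfl := cycle_is_cycleOf ha hc
      have hσ : σ a ≠ a := mem_support.1 (mem_cycleFactorsFinset_support_le hc ha)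
      refine ⟨?_, hσ⟩
      have h1 := cycleOf_pow_apply_self σ a 2
      rw [hc2, ← (isCycle_cycleOf σ hσ).orderOf, pow_orderOf_eq_one] at h1
      rw [one_apply, (isCycle_cycleOf σ hσ).orderOf, ← hc2] at h1
      simpa [sq] using h1.symm
  rw [h, Finset.card_biUnion fun a ha b hb hab =>
    ((cycleFactorsFinset_pairwise_disjoint σ) (Finset.mem_filter.1 ha).1 (Finset.mem_filter.1 hb).1 hab).disjoint_support,
    Finset.sum_congr rfl (g := fun _ => 2) fun c hc => (Finset.mem_filter.1 hc).2.symm,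
    Finset.sum_const, smul_eq_mul, mul_comm]

variable (n : ℕ)

theorem fourTrans_alt (hn : 7 ≤ n) : FourTrans (alternatingGroup (Fin n)) (Fin n) := by
  refine ⟨fun k hk => ?_, by simpa using hn⟩
  haveI := alternatingGroup.isMultiplyPretransitive (Fin n)
  exact isMultiplyPretransitive_of_le (n := Nat.card (Fin n) - 2) (by simp; omega) (by simp)

theorem fourTrans_perm (hn : 7 ≤ n) : FourTrans (Perm (Fin n)) (Fin n) :=
  ⟨fun k _ => Perm.isMultiplyPretransitive (Fin n) k, by simpa using hn⟩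

/-- The value of a test function at a permutation with a prescribed cycle type. -/
theorem witness (hn : 7 ≤ n) (P : ℕ → Prop) (m : Multiset ℕ) (f : ℕ) (hm : m.sum + f = n)
    (h2 : ∀ a ∈ m, 2 ≤ a) (heven : Even (m.sum + Multiset.card m)) (hP : P m.lcm)
    (hz : (f = 1) ∨ (f * (f - 1) + 2 * m.count 2 = 2 * f) ∨ (f * (f - 1) + 2 = 2 * m.count 2 + 2 * f)) :
    ∃ χ : Cfsg.IrrCharacter (alternatingGroup (Fin n)), (∃ y : alternatingGroup (Fin n), P (orderOf y) ∧
      (χ : alternatingGroup (Fin n) → ℂ) y = 0) ∧ ∃ ψ : Cfsg.IrrCharacter (Perm (Fin n)),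
      ∀ x : alternatingGroup (Fin n), (ψ : Perm (Fin n) → ℂ) x = (χ : alternatingGroup (Fin n) → ℂ) x := by
  haveI := fourTrans_alt n hn
  haveI := fourTrans_perm n hn
  obtain ⟨σ, hσ⟩ := (Perm.exists_with_cycleType_iff (Fin n) (m := m)).2 ⟨by simp; omega, h2⟩
  have hmem : σ ∈ alternatingGroup (Fin n) := by
    rw [Perm.mem_alternatingGroup, sign_of_cycleType, hσ]
    exact heven.neg_one_pow
  let y : alternatingGroup (Fin n) := ⟨σ, hmem⟩
  have hy : P (orderOf y) := by
    rw [← Subgroup.orderOf_coe, ← lcm_cycleType, hσ]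
    exact hP
  have hfix : fixC (Perm (Fin n)) (Fin n) σ = f := by
    rw [fixC_perm, hσ, Fintype.card_fin]; omega
  have hsw : swapC (Perm (Fin n)) (Fin n) σ = 2 * m.count 2 := by rw [swapC_perm, hσ]
  obtain ⟨i1, i2, i3⟩ := irr_three (G := alternatingGroup (Fin n)) (α := Fin n)
  obtain ⟨j1, j2, j3⟩ := irr_three (G := Perm (Fin n)) (α := Fin n)
  have hff : ((f * (f - 1) : ℕ) : ℂ) = (f : ℂ) * ((f : ℂ) - 1) := by
    rcases Nat.eq_zero_or_pos f with e | e
    · subst e; simp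
    · rw [Nat.cast_mul, Nat.cast_sub e, Nat.cast_one]
  rcases hz with h | h | h
  · refine ⟨⟨_, i1⟩, ⟨y, hy, ?_⟩, ⟨_, j1⟩, fun x => rfl⟩
    change stdChar (Perm (Fin n)) (Fin n) σ = 0
    simp [stdChar, hfix, h]
  · refine ⟨⟨_, i2⟩, ⟨y, hy, ?_⟩, ⟨_, j2⟩, fun x => rfl⟩
    change pairChar (Perm (Fin n)) (Fin n) σ = 0
    have h' := congrArg (Nat.cast : ℕ → ℂ) h
    push_cast at h'
    simp only [pairChar, hfix, hsw]
    rw [← hff]; push_cast
    linear_combination h' / 2
  · refine ⟨⟨_, i3⟩, ⟨y, hy, ?_⟩, ⟨_, j3⟩, fun x => rfl⟩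
    change extChar (Perm (Fin n)) (Fin n) σ = 0
    have h' := congrArg (Nat.cast : ℕ → ℂ) h
    push_cast at h'
    simp only [extChar, hfix, hsw]
    rw [← hff]; push_cast
    linear_combination h' / 2

theorem lcm_two_power {m : Multiset ℕ} (h : ∀ a ∈ m, a ∣ 8) : ∃ j, m.lcm = 2 ^ j := by
  obtain ⟨j, -, hj⟩ := (Nat.dvd_prime_pow Nat.prime_two (m := 3)).1 (Multiset.lcm_dvd.2 h)
  exact ⟨j, hj⟩

theorem two_case (hn : 7 ≤ n) :
    ∃ χ : Cfsg.IrrCharacter (alternatingGroup (Fin n)), (∃ x : alternatingGroup (Fin n), (∃ j : ℕ, orderOf x = 2 ^ j) ∧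
      (χ : alternatingGroup (Fin n) → ℂ) x = 0) ∧ ∃ ψ : Cfsg.IrrCharacter (Perm (Fin n)),
      ∀ x : alternatingGroup (Fin n), (ψ : Perm (Fin n) → ℂ) x = (χ : alternatingGroup (Fin n) → ℂ) x := by
  have key := witness n hn (fun o => ∃ j : ℕ, o = 2 ^ j)
  rcases Nat.even_or_odd n with ⟨l, hl⟩ | ⟨l, hl⟩
  · rcases Nat.even_or_odd l with ⟨k, hk⟩ | ⟨k, hk⟩
    · obtain ⟨a, b, hab, hpar⟩ : ∃ a b, 4 * a + 8 * b + 4 = n ∧ (a + b) % 2 = 1 := by
        rcases Nat.even_or_odd k with ⟨i, hi⟩ | ⟨i, hi⟩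
        · exact ⟨k - 1, 0, by omega, by omega⟩
        · exact ⟨k - 3, 1, by omega, by omega⟩
      refine key (2 ::ₘ (Multiset.replicate a 4 + Multiset.replicate b 8)) 2
        (by simp; omega) ?_ ?_ (lcm_two_power ?_) (Or.inr (Or.inl ?_))
      · simp [or_imp, forall_and, Multiset.mem_replicate]
      · rw [Nat.even_iff]; simp; omega
      · simp [or_imp, forall_and, Multiset.mem_replicate]
      · simp [Multiset.count_replicate]
    · obtain ⟨a, b, hab, hpar⟩ : ∃ a b, 4 * a + 8 * b + 2 = n ∧ (a + b) % 2 = 0 := by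
        rcases Nat.even_or_odd k with ⟨i, hi⟩ | ⟨i, hi⟩
        · exact ⟨k, 0, by omega, by omega⟩
        · exact ⟨k - 2, 1, by omega, by omega⟩
      refine key (Multiset.replicate a 4 + Multiset.replicate b 8) 2
        (by simp; omega) ?_ ?_ (lcm_two_power ?_) (Or.inr (Or.inr ?_))
      · simp [or_imp, forall_and, Multiset.mem_replicate]
      · rw [Nat.even_iff]; simp; omega
      · simp [or_imp, forall_and, Multiset.mem_replicate]
      · simp [Multiset.count_replicate]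
  · obtain ⟨a, b, hab, hpar⟩ : ∃ a b, 2 * a + 4 * b + 1 = n ∧ (a + b) % 2 = 0 := by
      rcases Nat.even_or_odd l with ⟨i, hi⟩ | ⟨i, hi⟩
      · exact ⟨l, 0, by omega, by omega⟩
      · exact ⟨l - 2, 1, by omega, by omega⟩
    refine key (Multiset.replicate a 2 + Multiset.replicate b 4) 1
      (by simp; omega) ?_ ?_ (lcm_two_power ?_) (Or.inl rfl)
    · simp [or_imp, forall_and, Multiset.mem_replicate]
    · rw [Nat.even_iff]; simp; omega
    · simp [or_imp, forall_and, Multiset.mem_replicate]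

theorem three_case (hn : 7 ≤ n) :
    ∃ χ : Cfsg.IrrCharacter (alternatingGroup (Fin n)), (∃ y : alternatingGroup (Fin n), orderOf y = 3 ∧
      (χ : alternatingGroup (Fin n) → ℂ) y = 0) ∧ ∃ ψ : Cfsg.IrrCharacter (Perm (Fin n)),
      ∀ x : alternatingGroup (Fin n), (ψ : Perm (Fin n) → ℂ) x = (χ : alternatingGroup (Fin n) → ℂ) x := by
  refine witness n hn (fun o => o = 3) (Multiset.replicate (n / 3) 3) (n % 3)
    (by simp; omega) ?_ ?_ ?_ ?_
  · intro a ha
    rw [Multiset.eq_of_mem_replicate ha]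
    norm_num
  · rw [Nat.even_iff]; simp; omega
  · refine Nat.dvd_antisymm (Multiset.lcm_dvd.2 fun a ha => (Multiset.eq_of_mem_replicate ha).dvd) ?_
    exact Multiset.dvd_lcm (Multiset.mem_replicate.2 ⟨by omega, rfl⟩)
  · rcases (show n % 3 = 0 ∨ n % 3 = 1 ∨ n % 3 = 2 by omega) with h | h | h <;> simp [h, Multiset.count_replicate]

end Cfsg.Lib.AltZeros
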