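import Mathlib
import Cfsg.Agent.Blocks.Columns

/-!
# Averaging over a Sylow subgroup

A combination of characters vanishing at the nontrivial elements of a Sylow subgroup has value at
`1` divisible by its order; consequences for the idempotents and for intersections of blocks for
two primes.
-/

set_option autoImplicit false
set_option linter.unusedSectionVars false

namespace Cfsg.Lib.Blocks

open scoped ComplexConjugate
open Cfsg.Lib.Chars

universe u

variable {G : Type u} [Group G] [Fintype G] {M : Ideal AlgInt} {p : ℕ}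

/-- The value at `1` is the order times an integral combination of the coefficients. -/
lemma exists_natCast_avg (H : Subgroup G) [Fintype H] :
    ∃ m : IrrCharacter G → ℕ, ∀ (S : Finset (IrrCharacter G)) (c : IrrCharacter G → ℂ),
      (∀ u : H, u ≠ 1 → ∑ χ ∈ S, c χ * conj ((χ : G → ℂ) (u : G)) = 0) →
      ∑ χ ∈ S, c χ * conj ((χ : G → ℂ) 1) = (Nat.card H : ℂ) * ∑ χ ∈ S, c χ * (m χ : ℂ) := by
  classical
  choose m hm using fun χ : IrrCharacter G => IsCharacter.exists_mult
    (IsCharacter.restrict (isCharacter_of_irr χ.2) H) (isIrrCharacter_one (G := H))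
  refine ⟨m, fun S c h => ?_⟩
  have hm' : ∀ χ : IrrCharacter G,
      ∑ u : H, conj ((χ : G → ℂ) (u : G)) = (Nat.card H : ℂ) * (m χ : ℂ) := fun χ => by
    have h1 := congrArg conj (hm χ)
    rw [classInner_def, Complex.conj_natCast, map_mul, map_inv₀, Complex.conj_natCast,
      inv_mul_eq_iff_eq_mul₀ (Nat.cast_ne_zero.2 Nat.card_pos.ne'), map_sum] at h1
    rw [← h1]
    exact Finset.sum_congr rfl fun u _ => by simp
  calc ∑ χ ∈ S, c χ * conj ((χ : G → ℂ) 1)
      = ∑ u : H, ∑ χ ∈ S, c χ * conj ((χ : G → ℂ) (u : G)) := by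
        rw [Finset.sum_eq_single (1 : H) (fun u _ hu => h u hu)
          (fun h => absurd (Finset.mem_univ _) h), OneMemClass.coe_one]
    _ = _ := by
        rw [Finset.sum_comm, Finset.mul_sum]
        refine Finset.sum_congr rfl fun χ _ => ?_
        rw [← Finset.mul_sum, hm']
        ring

/-- The block idempotent is, up to the `p'`-part of the order, integral. -/
theorem isIntegral_blockCoeff (hM : IsPModular p M) {B : Set (IrrCharacter G)}
    (hB : IsPBlock M B) (g : G) :
    IsIntegral ℤ (((Nat.card G / p ^ (Nat.card G).factorization p : ℕ) : ℂ) * blockCoeff B g) := by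
  classical
  by_cases hg : p ∣ orderOf g
  · rw [blockCoeff_eq_zero_of_singular hM hB hg, mul_zero]; exact isIntegral_zero
  haveI := Fact.mk hM.1
  let S : Sylow p G := default
  letI := Fintype.ofFinite (S : Subgroup G)
  obtain ⟨m, hm⟩ := exists_natCast_avg (S : Subgroup G)
  have h := hm (Finset.univ.filter (· ∈ B)) (fun χ => (χ : G → ℂ) g) fun u hu =>
    block_orthogonality_regular hM hB hg (by
      obtain ⟨k, hk⟩ := IsPGroup.iff_orderOf.1 S.2 u
      rcases k with _ | k
      · exact absurd (orderOf_eq_one_iff.1 hk) hu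
      · rw [Subgroup.orderOf_coe, hk]; exact dvd_pow_self p k.succ_ne_zero)
  have hsum : ∑ χ ∈ Finset.univ.filter (· ∈ B), (χ : G → ℂ) 1 * conj ((χ : G → ℂ) g) =
      (Nat.card (S : Subgroup G) : ℂ) *
        ∑ χ ∈ Finset.univ.filter (· ∈ B), conj ((χ : G → ℂ) g) * (m χ : ℂ) := by
    have h1 := congrArg conj h
    rw [map_sum, map_mul, map_sum, Complex.conj_natCast] at h1
    refine (Finset.sum_congr rfl fun χ _ => ?_).trans (h1.trans
      (congrArg _ (Finset.sum_congr rfl fun χ _ => ?_)))
    · rw [map_mul, Complex.conj_conj, mul_comm]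
    · rw [map_mul, Complex.conj_natCast]
  have hfac : ((Nat.card G / p ^ (Nat.card G).factorization p : ℕ) : ℂ) *
      (Nat.card (S : Subgroup G) : ℂ) = (Nat.card G : ℂ) := by
    rw [S.card_eq_multiplicity, ← Nat.cast_mul, Nat.div_mul_cancel (Nat.ordProj_dvd _ _)]
  rw [blockCoeff_eq_sum, hsum, mul_left_comm, ← mul_assoc _ (Nat.card (S : Subgroup G) : ℂ) _,
    hfac, inv_mul_cancel_left₀ (Nat.cast_ne_zero.2 Nat.card_pos.ne')]
  exact IsIntegral.sum _ fun χ _ => IsIntegral.mul
    (by
      rw [IsCharacter.conj_inv (isCharacter_of_irr χ.2) g |>.symm]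
      exact IsCharacter.isIntegral (isCharacter_of_irr χ.2) _)
    (isIntegral_natCast _)

/-- Blocks do not depend on the maximal ideal over `p`. -/
theorem blockOf_eq_of_modular (hM : IsPModular p M) {M' : Ideal AlgInt} (hM' : IsPModular p M')
    (χ : IrrCharacter G) : blockOf M (χ : G → ℂ) = blockOf M' (χ : G → ℂ) := by
  have key : ∀ {N N' : Ideal AlgInt}, IsPModular p N → IsPModular p N' →
      blockOf N' (χ : G → ℂ) ⊆ blockOf N (χ : G → ℂ) := by
    intro N N' hN hN'
    refine blockOf_subset_of_integral hN' (fun g => ?_) (mem_blockOf_self hN χ)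
    rw [fn_blockElem]
    have h1 := isIntegral_mem_place hN'
      (isIntegral_blockCoeff hN (isPBlock_blockOf (M := N) χ) g)
    have hu : IsUnitAt N' ((Nat.card G / p ^ (Nat.card G).factorization p : ℕ) : ℂ) :=
      isUnitAt_natCast hN' (Nat.not_dvd_ordCompl hN'.1 Nat.card_pos.ne')
    have h2 := mul_mem hu.inv.mem_place h1
    rwa [inv_mul_cancel_left₀ hu.ne_zero] at h2
  exact le_antisymm (key hM' hM) (key hM hM')

/-- The kernel of an intersection. -/
lemma colKer_inter (A B : Set (IrrCharacter G)) (a c : G) :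
    ∑ w : G, colKer A a w * colKer B w c = (Nat.card G : ℂ) * colKer (A ∩ B) a c := by
  classical
  simp only [colKer_eq, Finset.sum_mul_sum]
  rw [Finset.sum_comm, Finset.mul_sum, Finset.sum_filter]
  conv_rhs => rw [Finset.sum_filter]
  refine Finset.sum_congr rfl fun χ _ => ?_
  by_cases hA : χ ∈ A
  · rw [if_pos hA, Finset.sum_comm]
    have horth : ∀ ψ : IrrCharacter G, ∑ w : G,
        (χ : G → ℂ) a * conj ((χ : G → ℂ) w) * ((ψ : G → ℂ) w * conj ((ψ : G → ℂ) c)) =
        (χ : G → ℂ) a * conj ((ψ : G → ℂ) c) *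
          ((Nat.card G : ℂ) * if ψ = χ then 1 else 0) := fun ψ => by
      have h := classInner_irrCharacter ψ χ
      rw [classInner_def, inv_mul_eq_iff_eq_mul₀ (Nat.cast_ne_zero.2 Nat.card_pos.ne')] at h
      rw [← h, Finset.mul_sum]
      exact Finset.sum_congr rfl fun w _ => by ring
    simp only [horth, mul_ite, mul_one, mul_zero, Finset.sum_ite_eq', Finset.mem_filter,
      Finset.mem_univ, true_and, Set.mem_inter_iff, hA]
    split_ifs <;> ring
  · rw [if_neg hA, if_neg fun h => hA h.1]

/-- **Two primes, no mixed elements**: the kernel of the intersection is divisible. -/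
theorem exists_inter_congruence {q : ℕ} [Fact p.Prime] [Fact q.Prime] (hpq : p ≠ q)
    {Mq : Ideal AlgInt} (hMp : IsPModular p M) (hMq : IsPModular q Mq)
    (hno : ∀ g : G, orderOf g ≠ p * q) {Bp Bq : Set (IrrCharacter G)} (hBp : IsPBlock M Bp)
    (hBq : IsPBlock Mq Bq) {y : G} (hy : p ∣ orderOf y) :
    ∃ w : ℂ, IsIntegral ℤ w ∧ ∑ᶠ χ ∈ Bp ∩ Bq,
      (deg ((χ : IrrCharacter G) : G → ℂ) : ℂ) * (χ : G → ℂ) y =
        (q : ℂ) ^ (Nat.card G).factorization q * w := by
  classical
  have hzero : ∀ u : G, q ∣ orderOf u → colKer (Bp ∩ Bq) y u = 0 := by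
    intro u hu
    refine (mul_eq_zero.1 ((colKer_inter Bp Bq y u).symm.trans
      (Finset.sum_eq_zero fun w _ => ?_))).resolve_left (Nat.cast_ne_zero.2 Nat.card_pos.ne')
    by_cases hw : q ∣ orderOf w
    · have hwp : ¬ p ∣ orderOf w := by
        intro h
        have hd : p * q ∣ orderOf w := Nat.Coprime.mul_dvd_of_dvd_of_dvd
          ((Nat.coprime_primes hMp.1 hMq.1).2 hpq) h hw
        refine hno (w ^ (orderOf w / (p * q))) ?_
        rw [orderOf_pow' _ (Nat.div_pos (Nat.le_of_dvd (orderOf_pos w) hd)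
            (Nat.mul_pos hMp.1.pos hMq.1.pos)).ne', Nat.gcd_eq_right (Nat.div_dvd_of_dvd hd),
          Nat.div_div_self hd (orderOf_pos w).ne']
      rw [show colKer Bp y w = 0 by
        rw [colKer_eq]; exact block_orthogonality_regular' hMp hBp hy hwp, zero_mul]
    · rw [show colKer Bq w u = 0 by
        rw [colKer_eq]; exact block_orthogonality_regular hMq hBq hw hu, mul_zero]
  let S : Sylow q G := default
  letI := Fintype.ofFinite (S : Subgroup G)
  obtain ⟨m, hm⟩ := exists_natCast_avg (S : Subgroup G)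
  have h := hm (Finset.univ.filter (· ∈ Bp ∩ Bq)) (fun χ => (χ : G → ℂ) y) fun u hu => by
    rw [← colKer_eq]
    refine hzero u ?_
    obtain ⟨k, hk⟩ := IsPGroup.iff_orderOf.1 S.2 u
    rcases k with _ | k
    · exact absurd (orderOf_eq_one_iff.1 hk) hu
    · rw [Subgroup.orderOf_coe, hk]; exact dvd_pow_self q k.succ_ne_zero
  refine ⟨∑ χ ∈ Finset.univ.filter (· ∈ Bp ∩ Bq), (χ : G → ℂ) y * (m χ : ℂ),
    IsIntegral.sum _ fun χ _ => (IsCharacter.isIntegral (isCharacter_of_irr χ.2) _).mul
      (isIntegral_natCast _), ?_⟩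
  rw [← Nat.cast_pow, ← S.card_eq_multiplicity, ← h,
    finsum_mem_eq_sum_of_inter_support_eq _ (t := Finset.univ.filter (· ∈ Bp ∩ Bq)) (by simp)]
  refine Finset.sum_congr rfl fun χ _ => ?_
  rw [irr_apply_one_eq_deg, Complex.conj_natCast, mul_comm]

end Cfsg.Lib.Blocks
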