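import Mathlib

/-!
# Principal minors of an integral multiple of a projection

The principal minors of size `r` of a projection of rank `r` sum to one; at least `r + 1` of them
are nonzero when no diagonal entry is one.  For an integral form of rank one modulo `p` this bounds
its nonzero values below by the rank.
-/

set_option autoImplicit false
set_option linter.unusedSectionVars false

namespace Cfsg.Lib.ProjMinors

open Matrix Polynomial

variable {ι : Type*} [Fintype ι] [DecidableEq ι]

/-- The principal minor on `T`. -/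
noncomputable def minor (P : Matrix ι ι ℝ) (T : Finset ι) : ℝ :=
  (P.submatrix (Subtype.val : T → ι) (Subtype.val : T → ι)).det

lemma minor_eq_gram {P : Matrix ι ι ℝ} (hP : P.IsHermitian) (hPP : P * P = P) (T : Finset ι) :
    P.submatrix (Subtype.val : T → ι) (Subtype.val : T → ι) =
      (P.submatrix id (Subtype.val : T → ι))ᴴ * P.submatrix id (Subtype.val : T → ι) := by
  rw [conjTranspose_submatrix, hP.eq, ← submatrix_mul _ _ _ id _ Function.bijective_id, hPP]

lemma minor_nonneg {P : Matrix ι ι ℝ} (hP : P.IsHermitian) (hPP : P * P = P) (T : Finset ι) :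
    0 ≤ minor P T := by
  rw [minor, minor_eq_gram hP hPP]
  exact (posSemidef_conjTranspose_mul_self _).det_nonneg

lemma minor_pos {P : Matrix ι ι ℝ} (hP : P.IsHermitian) (hPP : P * P = P) (T : Finset ι)
    (hT : LinearIndepOn ℝ P.col (T : Set ι)) : 0 < minor P T := by
  rw [minor, minor_eq_gram hP hPP]
  exact (PosDef.conjTranspose_mul_self _ (mulVec_injective_iff.2 hT)).det_pos

theorem sum_minor {P : Matrix ι ι ℝ} (hP : P.IsHermitian) (hPP : P * P = P) {r : ℕ}
    (hr : P.trace = r) :
    ∑ T ∈ Finset.univ.powersetCard r, minor P T = 1 ∧ P.rank = r := by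
  classical
  have h01 : ∀ i, hP.eigenvalues i = 0 ∨ hP.eigenvalues i = 1 := by
    intro i
    have h1 := hP.mulVec_eigenvectorBasis i
    have h2 := congrArg (fun v => P *ᵥ v) h1
    dsimp only at h2
    rw [mulVec_mulVec, hPP, mulVec_smul, h1, smul_smul] at h2
    have hne : (⇑(hP.eigenvectorBasis i) : ι → ℝ) ≠ 0 := fun h =>
      (hP.eigenvectorBasis.orthonormal.ne_zero i) (by ext j; exact congrFun h j)
    have h3 : hP.eigenvalues i = hP.eigenvalues i * hP.eigenvalues i := by
      by_contra h
      have h4 : (hP.eigenvalues i - hP.eigenvalues i * hP.eigenvalues i) •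
          (⇑(hP.eigenvectorBasis i) : ι → ℝ) = 0 := by
        rw [sub_smul, ← h2, sub_self]
      exact (smul_eq_zero.1 h4).elim (sub_ne_zero.2 h) hne
    rcases eq_or_ne (hP.eigenvalues i) 0 with h | h
    · exact Or.inl h
    · exact Or.inr (mul_left_cancel₀ h (by rw [mul_one]; exact h3.symm))
  set S := Finset.univ.filter (fun i => hP.eigenvalues i ≠ 0) with hS
  have hone : ∀ i ∈ S, hP.eigenvalues i = 1 := fun i hi =>
    (h01 i).resolve_left (Finset.mem_filter.1 hi).2
  have hcard : S.card = r := by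
    have h := hP.trace_eq_sum_eigenvalues
    rw [hr, ← Finset.sum_filter_ne_zero, Finset.sum_congr rfl fun i hi => ?_] at h
    · rw [Finset.sum_const, nsmul_one] at h
      have h' : (r : ℝ) = ((Finset.univ.filter fun i => (hP.eigenvalues i : ℝ) ≠ 0).card : ℝ) := by
        simpa using h
      exact_mod_cast h'.symm
    · show (hP.eigenvalues i : ℝ) = 1
      exact_mod_cast hone i (by simpa [hS] using hi)
  refine ⟨?_, by rw [hP.rank_eq_card_non_zero_eigs, Fintype.card_subtype, ← hS, hcard]⟩
  have hrn : r ≤ Fintype.card ι := hcard ▸ Finset.card_le_univ S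
  have hcp : P.charpoly = (X - C 1) ^ r * X ^ (Fintype.card ι - r) := by
    rw [hP.charpoly_eq, ← Finset.prod_mul_prod_compl S, ← hcard, ← Finset.card_compl]
    congr 1
    · rw [Finset.prod_congr rfl fun i hi => by rw [hone i hi], Finset.prod_const]
      simp
    · rw [Finset.prod_congr rfl fun i hi => by
        rw [show hP.eigenvalues i = 0 by simpa [hS] using hi], Finset.prod_const]
      simp
  have h := P.charpoly_coeff_eq_sum_minors r hrn
  rw [hcp, Polynomial.coeff_mul_X_pow', if_pos le_rfl, Nat.sub_self,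
    Polynomial.coeff_zero_eq_eval_zero, eval_pow, eval_sub, eval_X, eval_C, zero_sub] at h
  exact (mul_left_cancel₀ (pow_ne_zero r (neg_ne_zero.2 one_ne_zero)) (by rw [mul_one]; exact h.symm))

theorem succ_le_card_minor {P : Matrix ι ι ℝ} (hP : P.IsHermitian) (hPP : P * P = P) {r : ℕ}
    (hr : P.trace = r) (hd : ∀ f, P f f ≠ 1) :
    r + 1 ≤ ((Finset.univ.powersetCard r).filter fun T => minor P T ≠ 0).card := by
  classical
  obtain ⟨b, -, -, hsp, hli⟩ := exists_linearIndepOn_extension (linearIndepOn_empty ℝ P.col)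
    (Set.subset_univ _)
  set T := b.toFinset with hT
  have hbT : (T : Set ι) = b := Set.coe_toFinset b
  have hTr : T.card = r := by
    have h1 := finrank_span_eq_card (R := ℝ) hli.linearIndependent
    rw [← (sum_minor hP hPP hr).2, rank_eq_finrank_span_cols, hT, Set.toFinset_card, ← h1]
    have hspan : Submodule.span ℝ (Set.range P.col) =
        Submodule.span ℝ (Set.range fun x : b => P.col x) := by
      refine le_antisymm ?_ (Submodule.span_mono (by rintro _ ⟨i, rfl⟩; exact ⟨i, rfl⟩))
      rw [Submodule.span_le]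
      rintro _ ⟨i, rfl⟩
      have := hsp (Set.mem_image_of_mem P.col (Set.mem_univ i))
      rwa [Set.image_eq_range] at this
    rw [hspan]
  -- exchange
  have hex : ∀ f ∈ T, ∃ g, g ≠ f ∧ P.col g ∉ Submodule.span ℝ (P.col '' (b \ {f})) := by
    intro f hf
    by_contra h
    push Not at h
    have hfb : f ∈ b := Set.mem_toFinset.1 hf
    refine hli.notMem_span hfb ?_
    have hcol : (1 - P f f) • P.col f = ∑ g ∈ Finset.univ.erase f, P g f • P.col g := by
      funext i
      have h1 := congrFun (congrFun hPP i) f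
      simp only [mul_apply, ← Finset.add_sum_erase _ _ (Finset.mem_univ f)] at h1
      simp only [Pi.smul_apply, smul_eq_mul, Matrix.col_apply, Finset.sum_apply]
      rw [Finset.sum_congr rfl fun g _ => mul_comm (P g f) (P i g)]
      linarith
    rw [← inv_smul_smul₀ (sub_ne_zero.2 (Ne.symm (hd f))) (P.col f), hcol]
    exact Submodule.smul_mem _ _ (sum_mem fun g hg => Submodule.smul_mem _ _
      (h g (Finset.ne_of_mem_erase hg)))
  choose! g hg using hex
  have hmem : ∀ U : Finset ι, U.card = r → LinearIndepOn ℝ P.col (U : Set ι) →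
      U ∈ (Finset.univ.powersetCard r).filter fun T => minor P T ≠ 0 := fun U h1 h2 =>
    Finset.mem_filter.2 ⟨Finset.mem_powersetCard.2 ⟨Finset.subset_univ _, h1⟩,
      (minor_pos hP hPP U h2).ne'⟩
  have hgT : ∀ f ∈ T, g f ∉ T := fun f hf hc => (hg f hf).2
    (Submodule.subset_span ⟨g f, ⟨Set.mem_toFinset.1 hc, (hg f hf).1⟩, rfl⟩)
  let Φ : Option T → Finset ι := fun o => o.elim T fun f => insert (g f) (T.erase f)
  have hnot : ∀ f : T, (f : ι) ∉ Φ (some f) := fun f => by
    show (f : ι) ∉ insert (g f) (T.erase f)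
    simp [Ne.symm (hg f f.2).1]
  have hinj : Function.Injective Φ := by
    intro o o' h
    rcases o with _ | f <;> rcases o' with _ | f'
    · rfl
    · exact absurd (h ▸ f'.2 : (f' : ι) ∈ Φ (some f')) (hnot f')
    · exact absurd (h ▸ f.2 : (f : ι) ∈ Φ (some f)) (hnot f)
    · by_contra hne
      refine hnot f' (h ▸ Finset.mem_insert_of_mem (Finset.mem_erase.2 ⟨?_, f'.2⟩))
      exact fun he => hne (congrArg some (Subtype.ext he.symm))
  have := Finset.card_le_card_of_injOn (s := Finset.univ) Φ (fun o _ => ?_) hinj.injOn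
    (t := (Finset.univ.powersetCard r).filter fun T => minor P T ≠ 0)
  · simpa [hTr] using this
  rcases o with _ | f
  · exact hmem T hTr (hbT ▸ hli)
  · refine hmem _ ?_ ?_
    · show (insert (g f) (T.erase f)).card = r
      rw [Finset.card_insert_of_notMem (fun h => hgT f f.2 (Finset.mem_of_mem_erase h)),
        Finset.card_erase_of_mem f.2, hTr]
      have := Finset.card_pos.2 ⟨_, f.2⟩
      omega
    · show LinearIndepOn ℝ P.col ((insert (g f) (T.erase f) : Finset ι) : Set ι)
      rw [Finset.coe_insert, Finset.coe_erase, hbT]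
      exact (hli.mono Set.sdiff_subset).insert (hg f f.2).2

/-- A determinant with entries of rank one modulo `p`. -/
lemma pow_dvd_det {n : Type*} [Fintype n] [DecidableEq n] {p : ℕ} (hp : p ≠ 0) (A : Matrix n n ℤ)
    (u : n → ℤ) (t : ℤ) (h : ∀ i j, (p : ℤ) ∣ A i j - t * u i * u j) :
    (p : ℤ) ^ (Fintype.card n - 1) ∣ A.det := by
  classical
  rcases Nat.eq_zero_or_pos (Fintype.card n) with h0 | h0
  · simp [h0]
  choose N hN using h
  set B : Matrix Unit n ℤ := of fun _ j => t * u j
  set C : Matrix n Unit ℤ := of fun i _ => -u i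
  set F' := fromBlocks ((p : ℤ) • (1 : Matrix Unit Unit ℤ)) B C (of N) with hF'
  have hA : (fromBlocks (1 : Matrix Unit Unit ℤ) B C ((p : ℤ) • of N)).det = A.det := by
    rw [det_fromBlocks_one₁₁]
    congr 1
    ext i j
    have := hN i j
    simp [B, C, mul_apply]
    linarith
  have hmul : fromBlocks (1 : Matrix Unit Unit ℤ) B C ((p : ℤ) • of N) *
      fromBlocks ((p : ℤ) • 1) 0 0 (1 : Matrix n n ℤ) =
      fromBlocks (1 : Matrix Unit Unit ℤ) 0 0 ((p : ℤ) • 1) * F' := by
    simp [hF', fromBlocks_multiply]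
    constructor <;> ext i j <;>
      simp [← Matrix.diagonal_natCast, Matrix.mul_diagonal, Matrix.diagonal_mul, mul_comm]
  have h2 := congrArg Matrix.det hmul
  simp only [det_mul, hA, det_fromBlocks_zero₂₁, det_smul, det_one, mul_one, one_mul,
    Fintype.card_unit, pow_one] at h2
  refine ⟨F'.det, mul_right_cancel₀ (Int.natCast_ne_zero.2 hp) (h2.trans ?_)⟩
  conv_lhs => rw [show Fintype.card n = Fintype.card n - 1 + 1 by omega, pow_succ]
  ring

/-- **The nonzero values of an integral form of rank one modulo `p`.** -/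
theorem form_bound (R : Matrix ι ι ℤ) (w : ι → ℤ) (q : ℤ) {p l : ℕ} (hp : p ≠ 0)
    (hsymm : ∀ f g, R f g = R g f) (hsq : ∀ f g, ∑ h, R f h * R h g = p * R f g)
    (htr : ∑ f, R f f = p * l) (hdiag : ∀ f, ¬ (p : ℤ) ∣ R f f)
    (hRw : ∀ f, ∑ g, R f g * w g = p * w f) (hww : ∑ f, w f * w f = p * q)
    (u : ι → ℤ) (u₀ t : ℤ) (h1 : ∀ f g, (p : ℤ) ∣ R f g - t * u f * u g)
    (h2 : ∀ f, (p : ℤ) ∣ w f - t * u f * u₀) (h3 : (p : ℤ) ∣ q - t * u₀ * u₀) (hq : q ≠ 0) :
    (l : ℤ) ≤ q := by
  classical
  have hpR : (0 : ℝ) < p := Nat.cast_pos.2 (Nat.pos_of_ne_zero hp)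
  have hq0 : 0 < q := by
    refine lt_of_le_of_ne ?_ (Ne.symm hq)
    have : (0 : ℤ) ≤ p * q := hww ▸ Finset.sum_nonneg fun f _ => mul_self_nonneg _
    exact nonneg_of_mul_nonneg_right (by simpa [mul_comm] using this) (by omega)
  rcases Nat.eq_zero_or_pos l with hl | hl
  · simp [hl, hq0.le]
  obtain ⟨r, rfl⟩ : ∃ r, l = r + 1 := ⟨l - 1, by omega⟩
  have hqR : (0 : ℝ) < q := Int.cast_pos.2 hq0
  set P : Matrix ι ι ℝ := of fun f g => ((R f g : ℝ) - w f * w g / q) / p with hP
  have hPh : P.IsHermitian := Matrix.IsHermitian.ext fun f g => by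
    simp [hP, hsymm f g, mul_comm]
  have hsqR : ∀ f g, ∑ h, (R f h : ℝ) * R h g = p * R f g := fun f g => by exact_mod_cast hsq f g
  have hwR : ∀ f, ∑ g, (R f g : ℝ) * w g = p * w f := fun f => by exact_mod_cast hRw f
  have hwR' : ∀ g, ∑ h, (w h : ℝ) * R h g = p * w g := fun g => by
    rw [← hwR g]
    exact Finset.sum_congr rfl fun h _ => by rw [hsymm h g, mul_comm]
  have hwwR : ∑ f, (w f : ℝ) * w f = p * q := by exact_mod_cast hww
  have hPP : P * P = P := by
    ext f g
    simp only [hP, mul_apply, of_apply]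
    rw [Finset.sum_congr rfl fun h _ => show ((R f h : ℝ) - w f * w h / q) / p *
      (((R h g : ℝ) - w h * w g / q) / p) = ((R f h : ℝ) * R h g) / p ^ 2 -
        ((R f h : ℝ) * w h) * (w g / q / p ^ 2) - ((w h : ℝ) * R h g) * (w f / q / p ^ 2) +
        ((w h : ℝ) * w h) * (w f * w g / q ^ 2 / p ^ 2) by ring,
      Finset.sum_add_distrib, Finset.sum_sub_distrib, Finset.sum_sub_distrib, ← Finset.sum_div,
      ← Finset.sum_mul, ← Finset.sum_mul, ← Finset.sum_mul, hsqR, hwR, hwR', hwwR]
    field_simp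
    ring
  have htrR : ∑ f, (R f f : ℝ) = p * (r + 1 : ℕ) := by exact_mod_cast htr
  have hPr : P.trace = r := by
    simp only [Matrix.trace, diag_apply, hP, of_apply]
    rw [← Finset.sum_div, Finset.sum_sub_distrib, ← Finset.sum_div, htrR, hwwR]
    field_simp
    push_cast
    ring
  have hd : ∀ f, P f f ≠ 1 := fun f h => by
    have h4 : R f f * R f f ≤ p * R f f := by
      rw [← hsq f f]
      refine le_trans (le_of_eq ?_) (Finset.single_le_sum (fun h _ => ?_) (Finset.mem_univ f))
      · rfl
      · rw [hsymm h f]; exact mul_self_nonneg _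
    have h5 : R f f < p := by
      rcases le_or_gt (R f f) 0 with h' | h'
      · exact lt_of_le_of_lt h' (by exact_mod_cast Nat.pos_of_ne_zero hp)
      · exact lt_of_le_of_ne (le_of_mul_le_mul_right h4 h') fun h' => hdiag f (h' ▸ dvd_rfl)
    simp only [hP, of_apply, div_eq_one_iff_eq hpR.ne'] at h
    have h6 : (R f f : ℝ) < p := by exact_mod_cast h5
    have h7 : 0 ≤ (w f : ℝ) * w f / q := div_nonneg (mul_self_nonneg _) hqR.le
    linarith
  -- integrality of the minors
  have hint : ∀ T ∈ Finset.univ.powersetCard r, ∃ z : ℤ, (q : ℝ) * minor P T = z := by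
    intro T hT
    have hcT : T.card = r := (Finset.mem_powersetCard.1 hT).2
    set A : Matrix (T ⊕ Unit) (T ⊕ Unit) ℤ :=
      fromBlocks (of fun a b => R a b) (of fun a _ => w a) (of fun _ b => w b) (of fun _ _ => q)
      with hA
    obtain ⟨z, hz⟩ := pow_dvd_det hp A (Sum.elim (fun a => u a) fun _ => u₀) t (by
      rintro (a | a) (b | b)
      · exact h1 a b
      · exact h2 a
      · simpa [hA, mul_comm, mul_left_comm] using h2 b
      · exact h3)
    rw [Fintype.card_sum, Fintype.card_coe, hcT, Fintype.card_unit, Nat.add_sub_cancel] at hz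
    refine ⟨z, ?_⟩
    have hAR : A.map (Int.cast : ℤ → ℝ) =
        fromBlocks ((p : ℝ) • P.submatrix (Subtype.val : T → ι) (Subtype.val : T → ι))
          (of fun a _ => (w a : ℝ)) 0 ((q : ℝ) • (1 : Matrix Unit Unit ℝ)) *
        fromBlocks (1 : Matrix T T ℝ) 0 (of fun _ b => (w b : ℝ) / q) 1 := by
      rw [fromBlocks_multiply, hA, fromBlocks_map]
      congr 1 <;> ext a b <;> simp [hP, mul_apply] <;> field_simp <;> ring
    have h := congrArg Matrix.det hAR
    rw [det_mul, det_fromBlocks_zero₂₁, det_fromBlocks_zero₁₂, det_smul, det_smul, det_one,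
      det_one, Fintype.card_coe, hcT, Fintype.card_unit, pow_one, mul_one, mul_one, mul_one,
      show (A.map (Int.cast : ℤ → ℝ)).det = (A.det : ℝ) from (Int.cast_det A).symm, hz] at h
    push_cast at h
    refine mul_left_cancel₀ (pow_ne_zero r hpR.ne') (?_ : (p : ℝ) ^ r * _ = _)
    rw [minor]
    linear_combination -h
  have hge : ∀ T ∈ (Finset.univ.powersetCard r).filter (fun T => minor P T ≠ 0),
      (1 : ℝ) ≤ (q : ℝ) * minor P T := by
    intro T hT
    obtain ⟨hT1, hT2⟩ := Finset.mem_filter.1 hT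
    obtain ⟨z, hz⟩ := hint T hT1
    have : (0 : ℝ) < q * minor P T := mul_pos hqR (lt_of_le_of_ne (minor_nonneg hPh hPP T) (Ne.symm hT2))
    rw [hz] at this ⊢
    exact_mod_cast (show (0 : ℤ) < z by exact_mod_cast this)
  have hsum := Finset.sum_le_sum hge
  rw [Finset.sum_const, nsmul_one] at hsum
  have hle : ((r + 1 : ℕ) : ℝ) ≤ q := by
    refine le_trans (Nat.cast_le.2 (succ_le_card_minor hPh hPP hPr hd)) (hsum.trans (le_of_eq ?_))
    rw [Finset.sum_filter_of_ne fun T _ h => right_ne_zero_of_mul h, ← Finset.mul_sum,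
      (sum_minor hPh hPP hPr).1, mul_one]
  exact_mod_cast hle

end Cfsg.Lib.ProjMinors
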