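import Cfsg.Agent.Blocks.CentralReduction
import Cfsg.Agent.Blocks.ProjectionMinors
import Cfsg.Agent.Blocks.MajorHeightBound
import Cfsg.Agent.Blocks.FirstMain
import Cfsg.Agent.Blocks.Projective
import Cfsg.Agent.Blocks.Feit3
import Cfsg.Agent.S4716

/-!
# The number of characters of a block

A major subsection at an element of order `p` of the centre of a defect group reduces the defect by
one.  In defect two the form of the contributions takes no nonzero value below the rank.
-/

set_option autoImplicit false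
set_option linter.unusedSectionVars false
set_option linter.style.haveILetI false

namespace Cfsg.Lib.Blocks.BlockSize

open Cfsg.Lib.Chars Cfsg.Lib.Blocks Cfsg.Lib.Blocks.CentralReduction
open scoped ComplexConjugate

universe u

variable {G : Type u} [Group G] [Fintype G] {M : Ideal AlgInt} {p : ℕ}

/-- The nonzero values of the form of a block of defect two with a central element of order `p`. -/
theorem regRed_form_bound (hM : IsPModular p M) {f : Set (IrrCharacter G)} (hf : IsPBlock M f)
    [Fintype f] {y : G} (hyc : y ∈ Subgroup.center G) (hy : orderOf y = p)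
    [Fintype (trivPart f y)] (hd : blockDefect p f = 2) (v : f → ℤ) :
    ((∑ θ : f, ∑ θ' : f, regRed p f θ.1 θ'.1 * (v θ * v θ')) = 0 ∨
      (blockRank p f : ℤ) ≤ ∑ θ : f, ∑ θ' : f, regRed p f θ.1 θ'.1 * (v θ * v θ')) ∧
    ∑ φ : trivPart f y, (∑ θ : f, regRed p f φ.1 θ.1 * v θ) * (∑ θ : f, regRed p f φ.1 θ.1 * v θ) =
      (p : ℤ) * ∑ θ : f, ∑ θ' : f, regRed p f θ.1 θ'.1 * (v θ * v θ') := by
  classical
  haveI := charP_res hM
  have hp : (p : ℤ) ≠ 0 := Int.natCast_ne_zero.2 hM.1.ne_zero
  have hone : ∀ {a b : IrrCharacter G}, a ∈ f → b ∈ f →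
      ∑ φ : trivPart f y, regRed p f a φ.1 * regRed p f φ.1 b = (p : ℤ) * regRed p f a b :=
    fun {a b} ha hb => by
      refine mul_left_cancel₀ hp ?_
      rw [mul_sum_regRed_mul hM hf hyc hy ha hb, hd]
      ring
  have hht : ∀ θ ∈ f, blockHeight p f (θ : G → ℂ) = 0 := fun θ hθ => by
    by_contra h
    have := height_add_two_le hM hf hθ h
    omega
  obtain ⟨θ₀, hθ₀, hθ0⟩ := exists_height_zero hM hf
  set c00 := regRed p f θ₀ θ₀ with hc00
  have hnd : ¬ (p : ℤ) ∣ c00 := not_dvd_regRed_self hM hf hθ₀ hθ0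
  obtain ⟨t, s, hts⟩ := (((Nat.prime_iff_prime_int.1 hM.1).coprime_iff_not_dvd).2 hnd).symm
  have hrank1 : ∀ a ∈ f, ∀ b ∈ f,
      (p : ℤ) ∣ regRed p f a b - t * regRed p f a θ₀ * regRed p f b θ₀ := fun a ha b hb => by
    have h : (p : ℤ) ∣ regRed p f a b * c00 - regRed p f a θ₀ * regRed p f b θ₀ := by
      rw [← CharP.intCast_eq_zero_iff (Res M) p]
      push_cast
      exact sub_eq_zero.2 (cast_regRed_mul hM hf hθ₀ ha hb)
    obtain ⟨e, he⟩ := h
    exact ⟨t * e + s * regRed p f a b, by linear_combination t * he - regRed p f a b * hts⟩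
  set w : trivPart f y → ℤ := fun φ => ∑ θ : f, regRed p f φ.1 θ.1 * v θ with hw
  set q : ℤ := ∑ θ : f, ∑ θ' : f, regRed p f θ.1 θ'.1 * (v θ * v θ') with hq
  have hww : ∑ φ, w φ * w φ = (p : ℤ) * q := by
    simp only [hw, Finset.sum_mul, Finset.mul_sum, hq]
    rw [Finset.sum_comm]
    refine Finset.sum_congr rfl fun θ _ => ?_
    rw [Finset.sum_comm]
    refine Finset.sum_congr rfl fun θ' _ => ?_
    rw [← mul_assoc (p : ℤ), ← hone θ.2 θ'.2, Finset.sum_mul]
    exact Finset.sum_congr rfl fun φ _ => by rw [regRed_symm hM.1 θ.1]; ring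
  refine ⟨?_, hww⟩
  by_cases hq0 : q = 0
  · exact Or.inl hq0
  refine Or.inr (Lib.ProjMinors.form_bound (Matrix.of fun φ ψ : trivPart f y => regRed p f φ.1 ψ.1)
    w q hM.1.ne_zero (fun φ ψ => regRed_symm hM.1 _ _) (fun φ ψ => hone φ.2.1 ψ.2.1) ?_
    (fun φ => not_dvd_regRed_self hM hf φ.2.1 (hht _ φ.2.1)) (fun φ => ?_) hww
    (fun φ => regRed p f φ.1 θ₀) (∑ θ : f, v θ * regRed p f θ.1 θ₀) t
    (fun φ ψ => hrank1 _ φ.2.1 _ ψ.2.1) (fun φ => ?_) ?_ hq0)
  · refine mul_left_cancel₀ hp ((mul_trace_regRed hM hf hyc hy).trans ?_)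
    rw [hd]; ring
  · simp only [hw, Matrix.of_apply, Finset.mul_sum]
    rw [Finset.sum_comm]
    refine Finset.sum_congr rfl fun θ _ => ?_
    rw [← mul_assoc, ← hone φ.2.1 θ.2, Finset.sum_mul]
    exact Finset.sum_congr rfl fun ψ _ => by ring
  · simp only [hw, Finset.mul_sum, ← Finset.sum_sub_distrib]
    refine Finset.dvd_sum fun θ _ => ?_
    obtain ⟨e, he⟩ := hrank1 _ φ.2.1 _ θ.2
    exact ⟨e * v θ, by linear_combination v θ * he⟩
  · simp only [hq, Finset.mul_sum, Finset.sum_mul, ← Finset.sum_sub_distrib]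
    refine Finset.dvd_sum fun θ _ => Finset.dvd_sum fun θ' _ => ?_
    obtain ⟨e, he⟩ := hrank1 _ θ.2 _ θ'.2
    exact ⟨e * (v θ * v θ'), by linear_combination v θ * v θ' * he⟩

/-- Averaging the contributions over the powers of the element. -/
theorem card_le_sq (hM : IsPModular p M) {B : Set (IrrCharacter G)} {y : G} (hy : orderOf y = p)
    {H : Subgroup G} [Fintype H] (hH : H = Subgroup.centralizer (Subgroup.zpowers y : Set G))
    {f : Set (IrrCharacter H)} (hind : IsInducedBlock M H f B)
    (hdef : blockDefect p f = blockDefect p B) (hd : blockDefect p B = 2) :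
    Nat.card B ≤ p ^ 2 := by
  classical
  haveI : NeZero p := ⟨hM.1.ne_zero⟩
  have hf : IsPBlock M f := hind.1
  have hyH : y ∈ H := mem_of_eq_centralizer hH
  set y' : H := ⟨y, hyH⟩ with hy'
  have hyc : y' ∈ Subgroup.center H := mem_center_of_eq_centralizer hH hyH
  have hy'o : orderOf y' = p := by rw [← hy, ← Subgroup.orderOf_coe]
  set ζ : ℂ := Complex.exp (2 * Real.pi * Complex.I / p)
  have hζ : IsPrimitiveRoot ζ p := Complex.isPrimitiveRoot_exp p hM.1.ne_zero
  have hlam : ∀ θ : IrrCharacter H, ∃ i < p, ζ ^ i = centralValue y θ := fun θ =>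
    hζ.eq_pow_of_pow_eq_one (centralValue_pow hH (by rw [← hy, pow_orderOf_eq_one]) θ)
  choose t htp ht using hlam
  have hxj : ∀ j ∈ Finset.Ico 1 p, (∃ i, orderOf (y ^ j) = p ^ i) ∧
      H = Subgroup.centralizer (Subgroup.zpowers (y ^ j) : Set G) := fun j hj => by
    rw [Finset.mem_Ico] at hj
    have hco : (orderOf y).Coprime j := by
      rw [hy]
      exact hM.1.coprime_iff_not_dvd.2 fun h => absurd (Nat.le_of_dvd hj.1 h) (not_le.2 hj.2)
    have hord : orderOf (y ^ j) = orderOf y := by rw [Nat.Coprime.orderOf_pow hco]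
    refine ⟨⟨1, by rw [hord, hy, pow_one]⟩, ?_⟩
    rw [hH]
    congr 2
    exact (Subgroup.eq_of_le_of_card_ge (Subgroup.zpowers_le.2 (Subgroup.pow_mem _
      (Subgroup.mem_zpowers y) _)) (by rw [Nat.card_zpowers, Nat.card_zpowers, hord])).symm
  have hhtB : ∀ χ ∈ B, blockHeight p B (χ : G → ℂ) = 0 := fun χ hχ => by
    by_contra h
    have := height_add_two_le hM hind.2.1 hχ h
    omega
  set l := blockRank p f with hl
  set S := Finset.univ.filter (· ∈ B) with hS
  have key : ∀ χ ∈ S, ((p - 1 : ℕ) : ℝ) * l ≤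
      (∑ j ∈ Finset.Ico 1 p, contribution p (y ^ j) f χ χ).re := by
    intro χ hχ
    have hχB := (Finset.mem_filter.1 hχ).2
    set m : f → ℤ := fun θ => (resMult H χ θ.1 : ℤ) with hm
    set c : f → f → ℤ := fun θ θ' => regRed p f θ.1 θ'.1 with hc
    set Sum₀ : ℤ := ∑ θ : f, ∑ θ' : f,
      c θ θ' * (m θ * m θ') * ((if t θ.1 = t θ'.1 then (p : ℤ) else 0) - 1) with hSum
    have hval : ∑ j ∈ Finset.Ico 1 p, contribution p (y ^ j) f χ χ = (Sum₀ : ℂ) := by
      have hgeo : ∀ a < p, ∀ b < p, ∑ j ∈ Finset.Ico 1 p, (ζ ^ a * conj (ζ ^ b)) ^ j =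
          (if a = b then (p : ℂ) else 0) - 1 := by
        intro a ha b hb
        have hp1 : ∑ j ∈ Finset.range p, (ζ ^ a * conj (ζ ^ b)) ^ j =
            if a = b then (p : ℂ) else 0 := by
          have hconj : conj (ζ ^ b) = (ζ ^ b)⁻¹ := by
            rw [← Complex.inv_eq_conj]
            rw [norm_pow, hζ.norm'_eq_one hM.1.ne_zero, one_pow]
          rw [hconj]
          have hb0 : ζ ^ b ≠ 0 := pow_ne_zero _ (hζ.ne_zero hM.1.ne_zero)
          split_ifs with h
          · subst h; simp [mul_inv_cancel₀ hb0]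
          · rw [geom_sum_eq (fun h' => h (hζ.pow_inj ha hb (by
              rwa [mul_inv_eq_one₀ hb0] at h'))), mul_pow, inv_pow, ← pow_mul, ← pow_mul, mul_comm a,
              mul_comm b, pow_mul, pow_mul, hζ.pow_eq_one]
            simp
        rw [← hp1, Finset.range_eq_Ico,
          Finset.sum_eq_sum_Ico_succ_bot (Nat.pos_of_ne_zero hM.1.ne_zero)]
        simp
      simp only [contribution_def, Finset.sum_subtype (p := (· ∈ f))
        (Finset.univ.filter (· ∈ f)) (fun θ => by simp), sectCoef_pow hH, hSum, hc, hm]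
      push_cast
      rw [Finset.sum_comm]
      refine Finset.sum_congr rfl fun θ _ => ?_
      rw [Finset.sum_comm]
      refine Finset.sum_congr rfl fun θ' _ => ?_
      rw [show (if t θ.1 = t θ'.1 then (p : ℂ) else 0) - 1 = _ from
        (hgeo _ (htp θ.1) _ (htp θ'.1)).symm, Finset.mul_sum]
      refine Finset.sum_congr rfl fun j _ => ?_
      simp only [map_mul, map_natCast, map_pow, ← ht, mul_pow]
      ring
    have hpos : 0 < Sum₀ := by
      have hre : ((Sum₀ : ℤ) : ℝ) = ∑ j ∈ Finset.Ico 1 p, (contribution p (y ^ j) f χ χ).re := by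
        rw [← Complex.re_sum, hval, Complex.intCast_re]
      have : (0 : ℝ) < Sum₀ := by
        rw [hre]
        refine Finset.sum_pos (fun j hj => ?_) ⟨1, Finset.mem_Ico.2 ⟨le_rfl, hM.1.one_lt⟩⟩
        obtain ⟨r, hr0, hr⟩ := contribution_self_eq (x := y ^ j) hM hf χ
        rw [hr, Complex.ofReal_re]
        refine lt_of_le_of_ne hr0 fun h => (contribution_height (hxj j hj).2 (hxj j hj).1 hM hind
          hdef hχB hχB (hhtB χ hχB)).1 ?_
        rw [hr, ← h, Complex.ofReal_zero]
      exact_mod_cast this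
    set v : ℕ → ℕ → f → ℤ := fun a b θ =>
      m θ * ((if t θ.1 = a then 1 else 0) - if t θ.1 = b then 1 else 0) with hv
    set Q : ℕ → ℕ → ℤ := fun a b => ∑ θ : f, ∑ θ' : f, c θ θ' * (v a b θ * v a b θ') with hQ
    have htwo : ∑ a ∈ Finset.range p, ∑ b ∈ Finset.range p, Q a b = 2 * Sum₀ := by
      simp only [hQ, hSum, Finset.mul_sum]
      rw [← Finset.sum_product', Finset.sum_comm]
      refine Finset.sum_congr rfl fun θ _ => ?_
      rw [Finset.sum_comm]
      refine Finset.sum_congr rfl fun θ' _ => ?_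
      rw [Finset.sum_product]
      simp only [hv]
      have hδ : ∀ a : ℕ, ∀ i < p, ∑ b ∈ Finset.range p, (if i = b then (a : ℤ) else 0) = a :=
        fun a i hi => by rw [Finset.sum_ite_eq, if_pos (Finset.mem_range.2 hi)]
      set i := t θ.1
      set i' := t θ'.1
      have hi : i < p := htp θ.1
      have hi' : i' < p := htp θ'.1
      have e : ∀ a b : ℕ, c θ θ' * (m θ * ((if i = a then 1 else 0) - if i = b then 1 else 0) *
          (m θ' * ((if i' = a then 1 else 0) - if i' = b then 1 else 0))) =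
          c θ θ' * (m θ * m θ') *
            ((if i = a ∧ i' = a then 1 else 0) - (if i = a ∧ i' = b then 1 else 0) -
              (if i = b ∧ i' = a then 1 else 0) + (if i = b ∧ i' = b then 1 else 0)) := fun a b => by
        simp only [ite_and]
        split_ifs <;> ring
      simp only [e, ← Finset.mul_sum, ite_and, Finset.sum_add_distrib, Finset.sum_sub_distrib,
        Finset.sum_ite_eq, Finset.sum_ite_irrel, Finset.sum_const_zero, Finset.mem_range, hi, hi',
        if_true, Finset.sum_const, Finset.card_range, nsmul_eq_mul, mul_one]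
      by_cases hii : i = i'
      · rw [if_pos hii.symm, if_pos hii]; ring
      · rw [if_neg (Ne.symm hii), if_neg hii]; ring
    have hbound : ∀ a b, (Q a b = 0 ∨ (l : ℤ) ≤ Q a b) ∧
        ((Q a b = 0) ↔ ∀ φ : trivPart f y', ∑ θ : f, regRed p f φ.1 θ.1 * v a b θ = 0) := by
      intro a b
      obtain ⟨h1, h2⟩ := regRed_form_bound hM hf hyc hy'o (by rw [hdef, hd]) (v a b)
      refine ⟨h1, fun h0 φ => ?_, fun h0 => ?_⟩
      · simp only [hQ, hc] at h0
        rw [h0, mul_zero] at h2
        exact mul_self_eq_zero.1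
          ((Finset.sum_eq_zero_iff_of_nonneg fun φ _ => mul_self_nonneg _).1 h2 φ (Finset.mem_univ _))
      · rw [Finset.sum_eq_zero fun φ _ => by rw [h0 φ, zero_mul], eq_comm, mul_eq_zero] at h2
        exact h2.resolve_left (Int.natCast_ne_zero.2 hM.1.ne_zero)
    obtain ⟨a, ha, b, hb, hab⟩ : ∃ a ∈ Finset.range p, ∃ b ∈ Finset.range p, Q a b ≠ 0 := by
      by_contra h
      push Not at h
      rw [Finset.sum_eq_zero fun a ha => Finset.sum_eq_zero (h a ha)] at htwo
      omega
    have hvsub : ∀ x z θ, v x z θ = v a z θ - v a x θ := fun x z θ => by simp only [hv]; ring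
    have hswap : ∀ x z, Q x z = Q z x := fun x z => by
      simp only [hQ, hv]
      exact Finset.sum_congr rfl fun θ _ => Finset.sum_congr rfl fun θ' _ => by ring
    have hdiag : ∀ x, Q x x = 0 := fun x => by simp [hQ, hv]
    have hor : ∀ z, Q a z ≠ 0 ∨ Q b z ≠ 0 := fun z => by
      by_contra h
      push Not at h
      refine hab ((hbound a b).2.2 fun φ => ?_)
      have h1 := (hbound a z).2.1 h.1 φ
      have h2 := (hbound b z).2.1 h.2 φ
      simp only [hvsub b z, mul_sub, Finset.sum_sub_distrib, h1, zero_sub, neg_eq_zero] at h2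
      exact h2
    set F : ℕ → ℕ × ℕ := fun z => if Q a z ≠ 0 then (a, z) else (b, z) with hF
    have hF1 : ∀ z, ((F z).1 = a ∨ (F z).1 = b) ∧ (F z).2 = z ∧ Q (F z).1 (F z).2 ≠ 0 := fun z => by
      simp only [hF]
      split_ifs with h
      · exact ⟨Or.inl rfl, rfl, h⟩
      · exact ⟨Or.inr rfl, rfl, (hor z).resolve_left h⟩
    set D := (Finset.range p).erase a with hD
    set P := (Finset.range p ×ˢ Finset.range p).filter (fun x => Q x.1 x.2 ≠ 0) with hP
    have hDcard : D.card = p - 1 := by rw [hD, Finset.card_erase_of_mem ha, Finset.card_range]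
    have hcardP : 2 * (p - 1) ≤ P.card := by
      have hsub : D.image F ∪ D.image (fun z => (F z).swap) ⊆ P := by
        intro x hx
        simp only [Finset.mem_union, Finset.mem_image] at hx
        rcases hx with ⟨z, hz, rfl⟩ | ⟨z, hz, rfl⟩
        all_goals
          obtain ⟨h1, h2, h3⟩ := hF1 z
          have hz' := Finset.mem_of_mem_erase hz
          have hfst : (F z).1 ∈ Finset.range p := by rcases h1 with h | h <;> rw [h] <;> assumption
          have hsnd : (F z).2 ∈ Finset.range p := by rwa [h2]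
          simp only [hP, Finset.mem_filter, Finset.mem_product, Prod.fst_swap, Prod.snd_swap]
          first
            | exact ⟨⟨hfst, hsnd⟩, h3⟩
            | exact ⟨⟨hsnd, hfst⟩, by rwa [hswap]⟩
      refine le_trans (le_of_eq ?_) (Finset.card_le_card hsub)
      rw [Finset.card_union_of_disjoint, Finset.card_image_of_injective,
        Finset.card_image_of_injective, hDcard, two_mul]
      · intro z z' h
        have := congrArg Prod.fst h
        simpa [(hF1 z).2.1, (hF1 z').2.1] using this
      · intro z z' h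
        have := congrArg Prod.snd h
        simpa [(hF1 z).2.1, (hF1 z').2.1] using this
      · rw [Finset.disjoint_left]
        intro x hx hx'
        obtain ⟨z, hz, rfl⟩ := Finset.mem_image.1 hx
        obtain ⟨z', hz', he⟩ := Finset.mem_image.1 hx'
        obtain ⟨h1, h2, h3⟩ := hF1 z
        obtain ⟨h1', h2', -⟩ := hF1 z'
        have e1 : z' = (F z).1 := by rw [← h2', ← he, Prod.fst_swap]
        have e2 : (F z').1 = z := by rw [← h2, ← he, Prod.snd_swap]
        have hza := Finset.ne_of_mem_erase hz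
        have hza' := Finset.ne_of_mem_erase hz'
        have e3 : z' = b := by
          rcases h1 with h | h
          · exact absurd (e1.trans h) hza'
          · exact e1.trans h
        have e4 : z = b := by
          rcases h1' with h | h
          · exact absurd (e2.symm.trans h) hza
          · exact e2.symm.trans h
        rw [h2, ← e1, e3, e4] at h3
        exact h3 (hdiag b)
    have hZ : 2 * ((p - 1 : ℕ) : ℤ) * l ≤ 2 * Sum₀ := by
      rw [← htwo, ← Finset.sum_product']
      refine le_trans ?_ (le_of_eq (Finset.sum_filter_of_ne (p := fun x : ℕ × ℕ => Q x.1 x.2 ≠ 0)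
        fun x _ h => h))
      refine le_trans ?_ (Finset.card_nsmul_le_sum P _ (l : ℤ) fun x hx =>
        (hbound x.1 x.2).1.resolve_left (Finset.mem_filter.1 hx).2)
      rw [nsmul_eq_mul]
      exact mul_le_mul_of_nonneg_right (by exact_mod_cast hcardP) (Int.natCast_nonneg _)
    rw [hval, Complex.intCast_re]
    have : ((p - 1 : ℕ) : ℤ) * l ≤ Sum₀ := by linarith
    exact_mod_cast this
  have htot : ∑ χ ∈ S, (∑ j ∈ Finset.Ico 1 p, contribution p (y ^ j) f χ χ).re =
      ((p - 1 : ℕ) : ℝ) * ((p : ℝ) ^ 2 * l) := by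
    rw [← Complex.re_sum, Finset.sum_comm, Finset.sum_congr rfl fun j hj =>
      sum_contribution_self hM (hxj j hj).1 (hxj j hj).2 hind, Finset.sum_const, Nat.card_Ico,
      nsmul_eq_mul, hdef, hd, ← hl]
    simp [pow_two]
  have h := Finset.sum_le_sum key
  rw [htot, Finset.sum_const, nsmul_eq_mul] at h
  have hpl : (0 : ℝ) < ((p - 1 : ℕ) : ℝ) * l :=
    mul_pos (Nat.cast_pos.2 (Nat.sub_pos_of_lt hM.1.one_lt)) (Nat.cast_pos.2 (blockRank_pos hM hf))
  have h' : (S.card : ℝ) ≤ (p : ℝ) ^ 2 := le_of_mul_le_mul_right (by linarith) hpl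
  have hcard : Nat.card B = S.card := by
    rw [Nat.card_eq_fintype_card, hS]; exact Fintype.card_subtype _
  rw [hcard]
  exact_mod_cast h'

/-- **The number of characters of a block.** -/
theorem card_le_pow [Fact p.Prime] (hM : IsPModular p M) (d : ℕ) :
    ∀ {G : Type u} [Group G] [Fintype G] (B : Set (IrrCharacter G)), IsPBlock M B →
      blockDefect p B = d →
      (d ≤ 2 → Nat.card B ≤ p ^ d) ∧ (3 ≤ d → Nat.card B ≤ p ^ (2 * d - 2)) := by
  induction d with
  | zero =>
    intro G _ _ B hB hd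
    exact ⟨fun _ => by rw [card_eq_one_of_defect_zero hM hB hd, pow_zero], fun h => by omega⟩
  | succ e ih =>
    intro G _ _ B hB hd
    classical
    obtain ⟨D, hD⟩ := exists_defectGroup hM hB
    obtain ⟨c, hc⟩ := exists_pair_of_defect hM hB hD
    have hcard := IsDefectGroup.card hM hB hD
    haveI : Nontrivial D := Finite.one_lt_card_iff_nontrivial.1 (by
      rw [hcard, hd]; exact Nat.one_lt_pow e.succ_ne_zero hM.1.one_lt)
    haveI := (IsDefectGroup.isPGroup hD).center_nontrivial
    obtain ⟨n, hn⟩ := IsPGroup.iff_card.1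
      ((IsDefectGroup.isPGroup hD).to_subgroup (Subgroup.center D))
    have hn0 : n ≠ 0 := fun h => by
      have := Finite.one_lt_card (α := Subgroup.center D)
      rw [hn, h, pow_zero] at this
      exact absurd this (lt_irrefl _)
    obtain ⟨z, hz⟩ := exists_prime_orderOf_dvd_card' (G := Subgroup.center D) p
      (hn ▸ dvd_pow_self p hn0)
    set y : G := ((z : D) : G) with hydef
    have hyo : orderOf y = p := by rw [hydef, Subgroup.orderOf_coe, Subgroup.orderOf_coe, hz]
    have hyD : y ∈ D := (z : D).2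
    have hyc : ∀ a ∈ D, a * y = y * a := fun a ha =>
      congrArg Subtype.val (Subgroup.mem_center_iff.1 z.2 ⟨a, ha⟩)
    obtain ⟨hDK, hCK⟩ := le_centralizer_zpowers_center hyD hyc
    set H := Subgroup.centralizer (Subgroup.zpowers y : Set G) with hH
    letI := Fintype.ofFinite H
    obtain ⟨f, hfpair⟩ := existsUnique_block (G := H) hM (e := downSet hDK c)
      ⟨hc.1.1.1.comap_subtype, isPBlock_downSet hDK hCK hc.1.1.2⟩ |>.exists
    have hbelow : IsBelow M D c y f := ⟨hfpair.2.1,
      (pair_down_iff hM hDK hCK hc.1.1.1 hfpair.2.1 hc.1.1.2).1 hfpair⟩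
    obtain ⟨hind, -, hdef⟩ := major_section hM hD hc.1 hyD hyc hbelow
    have hyH : y ∈ H := mem_of_eq_centralizer hH
    set y' : H := ⟨y, hyH⟩
    have hy'c : y' ∈ Subgroup.center H := mem_center_of_eq_centralizer hH hyH
    have hy'o : orderOf y' = p := by rw [← hyo, ← Subgroup.orderOf_coe]
    haveI : (Subgroup.zpowers y').Normal := ⟨fun a ha g => by
      rwa [Subgroup.mem_center_iff.1 (Subgroup.zpowers_le.2 hy'c ha) g, mul_inv_cancel_right]⟩
    letI := Fintype.ofFinite (H ⧸ Subgroup.zpowers y')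
    obtain ⟨fbar, hfb, hfd, hfc⟩ := exists_quotient_block hM hind.1 hy'o hy'c
    have hl : blockRank p f ≤ Nat.card fbar := hfc ▸ blockRank_le hM hind.1 hy'c hy'o
    have hih := ih fbar hfb (by omega)
    have hyk : ∃ k : ℕ, orderOf y = p ^ k := ⟨1, by rw [hyo, pow_one]⟩
    have hsq : (∀ χ ∈ B, blockHeight p B (χ : G → ℂ) = 0) →
        Nat.card B ^ 2 ≤ p ^ (2 * (e + 1)) * blockRank p f := fun hh =>
      Cfsg.Agent.S4716.sq_card_le hM hh hyk H (by rw [hH, centralizer_zpowers]) hind (hdef.trans hd)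
    refine ⟨fun h2 => ?_, fun h3 => ?_⟩
    · rcases Nat.eq_zero_or_pos e with rfl | he
      · have h1 := hl.trans (hih.1 (Nat.zero_le _))
        rw [pow_zero] at h1
        refine (Nat.pow_le_pow_iff_left two_ne_zero).1 ((hsq fun χ hχ => ?_).trans ?_)
        · by_contra h
          have := height_add_two_le hM hB hχ h
          omega
        · exact le_trans (Nat.mul_le_mul_left _ h1) (le_of_eq (by ring))
      · obtain rfl : e = 1 := by omega
        exact card_le_sq hM hyo hH hind hdef hd
    · by_cases hh : ∀ χ ∈ B, blockHeight p B (χ : G → ℂ) = 0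
      · have hl' : blockRank p f ≤ p ^ (2 * e - 2) := by
          refine hl.trans ?_
          rcases Nat.eq_or_lt_of_le (show 2 ≤ e by omega) with h | h
          · subst h; exact hih.1 le_rfl
          · exact hih.2 h
        refine (Nat.pow_le_pow_iff_left two_ne_zero).1 ((hsq hh).trans
          ((Nat.mul_le_mul_left _ hl').trans (le_of_eq ?_)))
        rw [← pow_add, ← pow_mul]
        congr 1
        omega
      · push Not at hh
        obtain ⟨χ, hχ, h0⟩ := hh
        have := two_mul_card_le hM hB ⟨χ, hχ, Nat.pos_of_ne_zero h0⟩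
        rw [hd] at this
        omega

end Cfsg.Lib.Blocks.BlockSize
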