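import Mathlib
import Cfsg.Agent.Blocks.PrimeSylow
import Cfsg.Agent.Chars.Inertia
import Cfsg.Agent.Chars.Gallagher

/-!
# A subgroup of prime order `p` with `p²` not dividing the group order

The centralizer of `y` is `⟨y⟩ × V`. For a character `θ` of `V` the functions
`(1 - λ_k) ⊗ θ` induced to the group are generalized characters with known inner products,
and their multiplicities in a character determine its values on the singular elements.
-/

set_option autoImplicit false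
set_option linter.unusedSectionVars false

namespace Cfsg.Lib.Blocks

open Cfsg.Lib.Chars
open scoped ComplexConjugate Classical

universe u

/-- An element of prime order `p` with a complement `H` of `⟨y⟩` in its normalizer and the action
of `H` on `⟨y⟩`. -/
structure Cyc (G : Type u) [Group G] (p : ℕ) where
  /-- The element. -/
  y : G
  /-- The complement. -/
  H : Subgroup G
  /-- The action. -/
  act : H →* (ZMod p)ˣ
  order : orderOf y = p
  le_norm : H ≤ Subgroup.normalizer (Subgroup.zpowers y : Set G)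
  decomp : ∀ g ∈ Subgroup.normalizer (Subgroup.zpowers y : Set G),
    ∃ i : ℕ, ∃ h ∈ H, g = y ^ i * h
  not_dvd : ¬ p ∣ Nat.card H
  sq : ¬ p ^ 2 ∣ Nat.card G
  conj_y : ∀ h : H, (h : G) * y * (h : G)⁻¹ = y ^ (act h : ZMod p).val

variable {G : Type u} [Group G] [Fintype G] {M : Ideal AlgInt} {p : ℕ} [Fact p.Prime]

theorem exists_cyc (hdiv : p ∣ Nat.card G) (hsq : ¬ p ^ 2 ∣ Nat.card G) (P : Sylow p G) :
    ∃ C : Cyc G p, Subgroup.zpowers C.y = (P : Subgroup G) := by
  have hp := (Fact.out : p.Prime)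
  have hP : Nat.card (P : Subgroup G) = p := by
    rw [P.card_eq_multiplicity]
    have h1 : (Nat.card G).factorization p = 1 := by
      refine le_antisymm ?_ (hp.factorization_pos_of_dvd Nat.card_pos.ne' hdiv)
      by_contra h
      exact hsq ((hp.pow_dvd_iff_le_factorization Nat.card_pos.ne').2 (by omega))
    rw [h1, pow_one]
  obtain ⟨y, H, V, h₀, hy, hPy, hHN, hdec, hH, -, -, -, -, -, -⟩ := exists_normalizer_complement hP
  have hex : ∀ h : H, ∃ c : ZMod p, (h : G) * y * (h : G)⁻¹ = y ^ c.val := fun h => by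
    obtain ⟨a, ha⟩ := (isOfFinOrder_of_finite y).mem_powers_iff_mem_zpowers.2
      ((Subgroup.mem_normalizer_iff.1 (hHN h.2) y).1 (Subgroup.mem_zpowers y))
    refine ⟨a, ha.symm.trans ?_⟩
    rw [ZMod.val_natCast, ← hy, pow_mod_orderOf]
  choose a ha using hex
  have heq : ∀ (h : H) (c : ZMod p), (h : G) * y * (h : G)⁻¹ = y ^ c.val → a h = c := by
    intro h c hc
    rw [ha h, pow_eq_pow_iff_modEq, hy, ← ZMod.natCast_eq_natCast_iff] at hc
    rwa [ZMod.natCast_zmod_val, ZMod.natCast_zmod_val] at hc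
  let φ : H →* ZMod p :=
    { toFun := a
      map_one' := heq 1 1 (by rw [ZMod.val_one]; simp)
      map_mul' := fun g h => heq _ _ (by
        rw [ZMod.val_mul]
        refine Eq.trans (b := y ^ ((a g).val * (a h).val)) ?_
          (pow_eq_pow_iff_modEq.2 (by rw [hy]; exact (Nat.mod_modEq _ _).symm))
        rw [pow_mul, ← ha g, conj_pow, ← ha h, Subgroup.coe_mul, mul_inv_rev]
        group) }
  exact ⟨⟨y, H, φ.toHomUnits, hy, hHN, hdec, hH, hsq, fun h => by
    rw [MonoidHom.coe_toHomUnits]; exact ha h⟩, hPy⟩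

/-- The standard character of `ℤ/p`. -/
noncomputable abbrev psi (p : ℕ) [Fact p.Prime] : AddChar (ZMod p) ℂ := ZMod.stdAddChar

lemma psi_conj (a : ZMod p) : conj (psi p a) = psi p (-a) := (AddChar.map_neg_eq_conj _ _).symm

lemma sum_psi_mul (b : ZMod p) :
    ∑ x : ZMod p, psi p (x * b) = if b = 0 then (p : ℂ) else 0 := by
  rw [AddChar.sum_mulShift b (ZMod.isPrimitive_stdAddChar p), ZMod.card]
  split_ifs <;> simp

namespace Cyc

variable (C : Cyc G p)

/-- The complement of `⟨y⟩` in its centralizer, inside `H`. -/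
abbrev V : Subgroup C.H := C.act.ker

/-- The powers of `y`. -/
noncomputable def yP (i : ZMod p) : G := C.y ^ i.val

lemma yP_natCast (m : ℕ) : C.yP (m : ZMod p) = C.y ^ m := by
  rw [yP, ZMod.val_natCast, pow_eq_pow_iff_modEq, C.order]
  exact Nat.mod_modEq m p

lemma yP_add (i j : ZMod p) : C.yP (i + j) = C.yP i * C.yP j := by
  conv_lhs => rw [← ZMod.natCast_zmod_val i, ← ZMod.natCast_zmod_val j, ← Nat.cast_add,
    C.yP_natCast, pow_add]
  rfl

@[simp] lemma yP_zero : C.yP 0 = 1 := by simp [yP]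

@[simp] lemma yP_one : C.yP 1 = C.y := by simp [yP, ZMod.val_one]

lemma yP_neg (i : ZMod p) : C.yP (-i) = (C.yP i)⁻¹ :=
  eq_inv_of_mul_eq_one_left (by rw [← C.yP_add, neg_add_cancel, yP_zero])

lemma yP_pow (i : ZMod p) (m : ℕ) : C.yP i ^ m = C.yP (m * i) := by
  induction m with
  | zero => simp
  | succ m ih => rw [pow_succ, ih, ← C.yP_add]; congr 1; push_cast; ring

lemma yP_injective : Function.Injective C.yP := fun i j h => by
  have := pow_eq_pow_iff_modEq.1 (show C.y ^ i.val = C.y ^ j.val from h)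
  rw [C.order, ← ZMod.natCast_eq_natCast_iff, ZMod.natCast_zmod_val, ZMod.natCast_zmod_val] at this
  exact this

lemma mem_zpowers_iff {g : G} : g ∈ Subgroup.zpowers C.y ↔ ∃ i, C.yP i = g := by
  constructor
  · intro h
    obtain ⟨m, rfl⟩ := (isOfFinOrder_of_finite C.y).mem_powers_iff_mem_zpowers.2 h
    exact ⟨m, C.yP_natCast m⟩
  · rintro ⟨i, rfl⟩
    exact Subgroup.pow_mem _ (Subgroup.mem_zpowers _) _

lemma yP_mem_norm (i : ZMod p) :
    C.yP i ∈ Subgroup.normalizer (Subgroup.zpowers C.y : Set G) :=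
  Subgroup.le_normalizer (C.mem_zpowers_iff.2 ⟨i, rfl⟩)

lemma conj_yP (h : C.H) (i : ZMod p) :
    (h : G) * C.yP i * (h : G)⁻¹ = C.yP ((C.act h : ZMod p) * i) := by
  have h1 : (h : G) * C.yP i * (h : G)⁻¹ = C.yP (C.act h : ZMod p) ^ i.val := by
    rw [yP, ← _root_.conj_pow, C.conj_y]
    rfl
  rw [h1, C.yP_pow, ZMod.natCast_zmod_val, mul_comm]

lemma commute_V (v : C.V) (i : ZMod p) : Commute ((v : C.H) : G) (C.yP i) := by
  have := C.conj_yP v i
  rw [show C.act (v : C.H) = 1 from v.2, Units.val_one, one_mul] at this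
  exact mul_inv_eq_iff_eq_mul.1 this

/-- The element `yⁱ v` of the centralizer. -/
noncomputable def el (i : ZMod p) (v : C.V) : G := C.yP i * ((v : C.H) : G)

lemma el_mul (i j : ZMod p) (v w : C.V) : C.el i v * C.el j w = C.el (i + j) (v * w) := by
  rw [el, el, el, C.yP_add, mul_assoc, ← mul_assoc ((v : C.H) : G), (C.commute_V v j).eq]
  simp only [Subgroup.coe_mul]
  group

lemma el_conj (h : C.H) (i : ZMod p) (v : C.V) :
    (h : G) * C.el i v * (h : G)⁻¹ = C.el ((C.act h : ZMod p) * i) (MulAut.conjNormal h v) := by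
  rw [el, el, MulAut.conjNormal_apply, ← C.conj_yP]
  simp only [Subgroup.coe_mul, Subgroup.coe_inv]
  group

lemma el_zero (v : C.V) : C.el 0 v = ((v : C.H) : G) := by simp [el]

lemma el_one_right (i : ZMod p) : C.el i 1 = C.yP i := by simp [el]

lemma el_pow (i : ZMod p) (v : C.V) (m : ℕ) : C.el i v ^ m = C.el (m * i) (v ^ m) := by
  induction m with
  | zero => simp [el]
  | succ m ih => rw [pow_succ, ih, C.el_mul, pow_succ]; congr 1; push_cast; ring

lemma el_pow_card (i : ZMod p) (v : C.V) :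
    C.el i v ^ Nat.card C.H = C.yP (Nat.card C.H * i) := by
  rw [C.el_pow, show v ^ Nat.card C.H = 1 from Subtype.ext (pow_card_eq_one' (x := (v : C.H))),
    C.el_one_right]

lemma card_cast_ne_zero : (Nat.card C.H : ZMod p) ≠ 0 := by
  rw [Ne, ZMod.natCast_eq_zero_iff]
  exact C.not_dvd

lemma el_injective : Function.Injective fun x : ZMod p × C.V => C.el x.1 x.2 := by
  rintro ⟨i, v⟩ ⟨j, w⟩ h
  simp only at h
  have h1 := congrArg (· ^ Nat.card C.H) h
  simp only [C.el_pow_card] at h1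
  have h2 : i = j := mul_left_cancel₀ C.card_cast_ne_zero (C.yP_injective h1)
  subst h2
  exact Prod.ext rfl (Subtype.ext (Subtype.ext (mul_left_cancel h)))

/-- The centralizer of `y`. -/
abbrev Cs : Subgroup G := Subgroup.centralizer ({C.y} : Set G)

lemma el_mem (i : ZMod p) (v : C.V) : C.el i v ∈ C.Cs := by
  refine Subgroup.mem_centralizer_singleton_iff.2 ?_
  have h1 : Commute (C.yP i) (C.yP 1) := by
    show _ = _; rw [← C.yP_add, ← C.yP_add, add_comm]
  have := h1.mul_left (C.commute_V v 1)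
  rwa [yP_one] at this

lemma exists_el {g : G} (hg : g ∈ C.Cs) : ∃ i v, C.el i v = g := by
  have hc : Commute g C.y := Subgroup.mem_centralizer_singleton_iff.1 hg
  have hN : g ∈ Subgroup.normalizer (Subgroup.zpowers C.y : Set G) := by
    refine Subgroup.mem_normalizer_iff.2 fun w => ?_
    constructor
    · intro hw
      obtain ⟨i, rfl⟩ := C.mem_zpowers_iff.1 hw
      rw [yP, (hc.pow_right _).eq, mul_inv_cancel_right]
      exact Subgroup.pow_mem _ (Subgroup.mem_zpowers _) _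
    · intro hw
      obtain ⟨i, hi⟩ := C.mem_zpowers_iff.1 hw
      have : w = g⁻¹ * C.yP i * g := by rw [hi]; group
      rw [this, yP, mul_assoc, ← (hc.pow_right _).eq, inv_mul_cancel_left]
      exact Subgroup.pow_mem _ (Subgroup.mem_zpowers _) _
  obtain ⟨i, h, hh, rfl⟩ := C.decomp g hN
  have hhy : Commute h C.y := by
    have := (((Commute.refl C.y).pow_left i).inv_left).mul_left hc
    rwa [inv_mul_cancel_left] at this
  have hact : C.act ⟨h, hh⟩ = 1 := by
    apply Units.ext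
    apply C.yP_injective
    rw [Units.val_one, yP_one]
    show C.y ^ _ = C.y
    rw [← C.conj_y]
    show h * C.y * h⁻¹ = C.y
    rw [hhy.eq, mul_inv_cancel_right]
  exact ⟨i, ⟨⟨h, hh⟩, hact⟩, by rw [el, C.yP_natCast]⟩

/-- The centralizer is `⟨y⟩ × V`. -/
noncomputable def csEquiv : Multiplicative (ZMod p) × C.V ≃* C.Cs :=
  MulEquiv.ofBijective
    (MonoidHom.mk' (fun x => (⟨C.el x.1.toAdd x.2, C.el_mem _ _⟩ : C.Cs))
      fun x y => Subtype.ext (C.el_mul _ _ _ _).symm)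
    ⟨fun x y h => by
      have := C.el_injective (a₁ := (x.1.toAdd, x.2)) (a₂ := (y.1.toAdd, y.2))
        (congrArg Subtype.val h)
      exact Prod.ext (Prod.mk.inj this).1 (Prod.mk.inj this).2,
    fun g => by
      obtain ⟨i, v, h⟩ := C.exists_el g.2
      exact ⟨(Multiplicative.ofAdd i, v), Subtype.ext h⟩⟩

lemma csEquiv_apply (i : ZMod p) (v : C.V) :
    ((C.csEquiv (Multiplicative.ofAdd i, v) : C.Cs) : G) = C.el i v := rfl

lemma card_Cs : Nat.card C.Cs = p * Nat.card C.V := by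
  rw [← Nat.card_congr C.csEquiv.toEquiv, Nat.card_prod,
    Nat.card_congr Multiplicative.toAdd, Nat.card_zmod]

lemma sum_Cs (f : C.Cs → ℂ) :
    ∑ c : C.Cs, f c = ∑ i : ZMod p, ∑ v : C.V, f ⟨C.el i v, C.el_mem i v⟩ := by
  rw [← C.csEquiv.toEquiv.sum_comp, Fintype.sum_prod_type]
  exact (Fintype.sum_equiv Multiplicative.ofAdd _ _ fun i => rfl).symm

/-! ### Multiplicities -/

/-- The multiplicity function of `θ` in `χ` on the coset `yⁱ V`. -/
noncomputable def mu (χ : G → ℂ) (θ : C.V → ℂ) (i : ZMod p) : ℂ :=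
  (Nat.card C.V : ℂ)⁻¹ * ∑ v : C.V, χ (C.el i v) * conj (θ v)

/-- The Fourier coefficients of the singular multiplicities. -/
noncomputable def bb (χ : G → ℂ) (θ : C.V → ℂ) (k : ZMod p) : ℂ :=
  (p : ℂ)⁻¹ * ∑ i : ZMod p, C.mu χ θ i * (1 - psi p (-(k * i)))

lemma bb_zero (χ : G → ℂ) (θ : C.V → ℂ) : C.bb χ θ 0 = 0 := by simp [bb]

lemma mu_eq_neg_sum (χ : G → ℂ) (θ : C.V → ℂ) {i : ZMod p} (hi : i ≠ 0) :
    C.mu χ θ i = -∑ k : ZMod p, C.bb χ θ k * psi p (k * i) := by
  have h1 : ∀ j k : ZMod p, C.mu χ θ j * (1 - psi p (-(k * j))) * psi p (k * i) =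
      C.mu χ θ j * (psi p (k * i) - psi p (k * (i - j))) := fun j k => by
    rw [mul_assoc, sub_mul, one_mul, ← AddChar.map_add_eq_mul]
    congr 3
    ring
  simp only [bb, mul_assoc (p : ℂ)⁻¹, ← Finset.mul_sum, Finset.sum_mul, h1]
  rw [Finset.sum_comm]
  simp only [← Finset.mul_sum, Finset.sum_sub_distrib, sum_psi_mul, if_neg hi, zero_sub,
    sub_eq_zero, mul_neg, Finset.sum_neg_distrib, mul_ite, mul_zero]
  rw [Finset.sum_ite_eq, if_pos (Finset.mem_univ _)]
  have : (p : ℂ) ≠ 0 := Nat.cast_ne_zero.2 (Fact.out : p.Prime).ne_zero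
  field_simp

lemma apply_el_eq_sum {χ : G → ℂ} (hχ : Cfsg.IsClassFunction G χ) (i : ZMod p) (v : C.V) :
    χ (C.el i v) = ∑ θ : IrrCharacter C.V, C.mu χ (θ : C.V → ℂ) i * (θ : C.V → ℂ) v := by
  have hcl : Cfsg.IsClassFunction C.V fun w : C.V => χ (C.el i w) := fun g h => by
    show χ (C.el i (h * g * h⁻¹)) = χ (C.el i g)
    rw [← hχ (C.el i g) ((h : C.H) : G)]
    congr 1
    rw [C.el_conj, show C.act (h : C.H) = 1 from h.2, Units.val_one, one_mul]
    congr 1
  rw [classFunction_expand_apply hcl v]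
  rfl

lemma mu_conj {χ : G → ℂ} (hχ : Cfsg.IsClassFunction G χ) (θ : C.V → ℂ) (h : C.H) (i : ZMod p) :
    C.mu χ (conjN C.V h θ) i = C.mu χ θ ((C.act h : ZMod p) * i) := by
  rw [mu, mu]
  congr 1
  refine Fintype.sum_equiv (MulAut.conjNormal h).toEquiv _ _ fun v => ?_
  rw [conjN_eq_comp, MulEquiv.toEquiv_eq_coe, MulEquiv.coe_toEquiv, ← C.el_conj, hχ]

lemma bb_conj {χ : G → ℂ} (hχ : Cfsg.IsClassFunction G χ) (θ : C.V → ℂ) (h : C.H) (k : ZMod p) :
    C.bb χ (conjN C.V h θ) ((C.act h : ZMod p) * k) = C.bb χ θ k := by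
  rw [bb, bb]
  congr 1
  refine Fintype.sum_equiv (Equiv.mulLeft₀ (C.act h : ZMod p) (C.act h).ne_zero) _ _ fun i => ?_
  rw [C.mu_conj hχ, Equiv.mulLeft₀_apply]
  congr 4
  ring

/-! ### The induced generalized characters -/

/-- `(1 - λ_k) ⊗ θ` on the centralizer. -/
noncomputable def ff (k : ZMod p) (θ : C.V → ℂ) : C.Cs → ℂ := fun c =>
  (1 - psi p (k * (C.csEquiv.symm c).1.toAdd)) * θ (C.csEquiv.symm c).2

lemma ff_el (k : ZMod p) (θ : C.V → ℂ) (i : ZMod p) (v : C.V) :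
    C.ff k θ ⟨C.el i v, C.el_mem i v⟩ = (1 - psi p (k * i)) * θ v := by
  rw [ff, show (⟨C.el i v, C.el_mem i v⟩ : C.Cs) = C.csEquiv (Multiplicative.ofAdd i, v) from rfl,
    MulEquiv.symm_apply_apply]
  rfl

lemma isGeneralized_ff (k : ZMod p) {θ : C.V → ℂ} (hθ : Cfsg.IsCharacter C.V θ) :
    Cfsg.IsGeneralizedCharacter C.Cs (C.ff k θ) := by
  let P₂ : C.Cs →* C.V := (MonoidHom.snd (Multiplicative (ZMod p)) C.V).comp C.csEquiv.symm.toMonoidHom
  let P₁ : C.Cs →* Multiplicative (ZMod p) :=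
    (MonoidHom.fst (Multiplicative (ZMod p)) C.V).comp C.csEquiv.symm.toMonoidHom
  let l : C.Cs →* ℂˣ := MonoidHom.toHomUnits (((psi p).mulShift k).toMonoidHom.comp P₁)
  refine ⟨fun c => θ (P₂ c), fun c => (l c : ℂ) * θ (P₂ c), IsCharacter.comp_hom hθ P₂,
    IsCharacter.mul (isCharacter_linear l) (IsCharacter.comp_hom hθ P₂), funext fun c => ?_⟩
  show (1 - _) * _ = θ _ - (l c : ℂ) * θ _
  rw [MonoidHom.coe_toHomUnits]
  simp only [P₁, P₂, MonoidHom.coe_comp, Function.comp_apply, AddChar.toMonoidHom_apply,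
    AddChar.mulShift_apply, MonoidHom.coe_fst, MonoidHom.coe_snd, MulEquiv.coe_toMonoidHom]
  ring

/-- The induced generalized character. -/
noncomputable def Z (k : ZMod p) (θ : C.V → ℂ) : G → ℂ := Cfsg.indFun C.Cs (C.ff k θ)

lemma isGeneralized_Z (k : ZMod p) {θ : C.V → ℂ} (hθ : Cfsg.IsCharacter C.V θ) :
    Cfsg.IsGeneralizedCharacter G (C.Z k θ) :=
  IsGeneralizedCharacter.indFun (C.isGeneralized_ff k hθ)

lemma classInner_Z {χ : G → ℂ} (hχ : Cfsg.IsClassFunction G χ) (k : ZMod p) (θ : C.V → ℂ) :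
    Cfsg.classInner χ (C.Z k θ) = C.bb χ θ k := by
  rw [Z, frobenius_reciprocity' _ _ hχ, classInner_def, C.sum_Cs, C.card_Cs]
  simp only [C.ff_el, map_mul, map_sub, map_one, psi_conj, bb, mu, Finset.mul_sum, Finset.sum_mul]
  refine Finset.sum_congr rfl fun i _ => Finset.sum_congr rfl fun v _ => ?_
  push_cast
  rw [mul_inv]
  ring

lemma exists_int_bb {χ : G → ℂ} (hχ : Cfsg.IsCharacter G χ) (k : ZMod p) {θ : C.V → ℂ}
    (hθ : Cfsg.IsCharacter C.V θ) : ∃ b : ℤ, C.bb χ θ k = (b : ℂ) := by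
  obtain ⟨b, hb⟩ := classInner_generalized_int (C.isGeneralized_Z k hθ) hχ
  exact ⟨b, by rw [← C.classInner_Z (isClassFunction_isChar hχ), ← classInner_conj_symm, hb,
    map_intCast]⟩

lemma Z_one (k : ZMod p) (θ : C.V → ℂ) : C.Z k θ 1 = 0 := by
  have h0 := C.ff_el k θ 0 1
  rw [mul_zero, AddChar.map_zero_eq_one, sub_self, zero_mul] at h0
  rw [Z, indFun_one]
  have : (⟨C.el 0 1, C.el_mem 0 1⟩ : C.Cs) = 1 := Subtype.ext (by simp [el])
  rw [← this, h0, mul_zero]

lemma norm_of_mem {x : G} {i j : ZMod p} (hi : i ≠ 0)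
    (h : x⁻¹ * C.yP i * x = C.yP j) :
    x ∈ Subgroup.normalizer (Subgroup.zpowers C.y : Set G) := by
  have hi1 : C.yP i ≠ 1 := fun e => hi (C.yP_injective (e.trans C.yP_zero.symm))
  have hj1 : C.yP j ≠ 1 := fun e => hi1 (by
    rw [e] at h
    calc C.yP i = x * (x⁻¹ * C.yP i * x) * x⁻¹ := by group
      _ = 1 := by rw [h]; group)
  have hgen : ∀ k, C.yP k ≠ 1 → Subgroup.zpowers (C.yP k) = Subgroup.zpowers C.y := fun k hk => by
    refine Subgroup.eq_of_le_of_card_ge (Subgroup.zpowers_le.2 (C.mem_zpowers_iff.2 ⟨k, rfl⟩)) ?_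
    rw [Nat.card_zpowers, Nat.card_zpowers, C.order, yP]
    have hd : orderOf (C.y ^ k.val) ∣ p := (orderOf_pow_dvd k.val).trans (dvd_of_eq C.order)
    rcases (Nat.dvd_prime (Fact.out : p.Prime)).1 hd with h' | h'
    · exact absurd (orderOf_eq_one_iff.1 h') hk
    · exact h'.ge
  have hmap : (Subgroup.zpowers C.y).map (MulAut.conj x⁻¹).toMonoidHom = Subgroup.zpowers C.y := by
    rw [← hgen i hi1, MonoidHom.map_zpowers]
    rw [show (MulAut.conj x⁻¹).toMonoidHom (C.yP i) = x⁻¹ * C.yP i * x by simp, h, hgen j hj1,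
      hgen i hi1]
  have hx : x⁻¹ ∈ Subgroup.normalizer (Subgroup.zpowers C.y : Set G) := by
    rw [Subgroup.mem_normalizer_iff]
    intro v
    constructor
    · intro hv
      rw [← hmap]
      exact ⟨v, hv, by simp⟩
    · intro hv
      rw [← hmap] at hv
      obtain ⟨w, hw, e'⟩ := hv
      simp only [MulEquiv.coe_toMonoidHom, MulAut.conj_apply, inv_inv] at e'
      exact (mul_left_cancel (mul_right_cancel e')) ▸ hw
  simpa using Subgroup.inv_mem _ hx

/-- The `p`-part of a conjugate of `yⁱ v` lying in the centralizer. -/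
lemma conj_el_eq {x : G} {i j : ZMod p} {v w : C.V} (h : x⁻¹ * C.el i v * x = C.el j w) :
    x⁻¹ * C.yP (Nat.card C.H * i) * x = C.yP (Nat.card C.H * j) := by
  rw [← C.el_pow_card j w, ← h, ← C.el_pow_card i v]
  have e := _root_.conj_pow (i := Nat.card C.H) (a := x⁻¹) (b := C.el i v)
  rw [inv_inv] at e
  exact e.symm

lemma sum_norm (F : G → ℂ)
    (hF : ∀ x, x ∉ Subgroup.normalizer (Subgroup.zpowers C.y : Set G) → F x = 0) :
    ∑ x : G, F x = ∑ j : ZMod p, ∑ h : C.H, F ((h : G) * C.yP j) := by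
  classical
  rw [← Fintype.sum_prod_type' (fun (j : ZMod p) (h : C.H) => F ((h : G) * C.yP j))]
  symm
  refine Eq.trans (Finset.sum_map Finset.univ
    ⟨fun x : ZMod p × C.H => (x.2 : G) * C.yP x.1, fun a b e => ?_⟩ F).symm ?_
  swap
  · refine Finset.sum_subset (Finset.subset_univ _) fun x _ hx => hF x fun hN => hx ?_
    obtain ⟨i, h, hh, rfl⟩ := C.decomp x hN
    refine Finset.mem_map.2 ⟨(((C.act ⟨h, hh⟩)⁻¹ : (ZMod p)ˣ) * (i : ZMod p), ⟨h, hh⟩),
      Finset.mem_univ _, ?_⟩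
    show h * C.yP _ = C.y ^ i * h
    have := C.conj_yP ⟨h, hh⟩ (((C.act ⟨h, hh⟩)⁻¹ : (ZMod p)ˣ) * (i : ZMod p))
    rw [← mul_assoc, ← Units.val_mul, mul_inv_cancel, Units.val_one, one_mul, C.yP_natCast] at this
    exact mul_inv_eq_iff_eq_mul.1 this
  · simp only at e
    have hmem : ((b.2⁻¹ * a.2 : C.H) : G) = C.yP (b.1 - a.1) := by
      rw [sub_eq_add_neg, C.yP_add, C.yP_neg, eq_mul_inv_iff_mul_eq]
      simp only [Subgroup.coe_mul, Subgroup.coe_inv]
      rw [mul_assoc, e, inv_mul_cancel_left]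
    have h1 := congrArg (fun z : G => z ^ Nat.card C.H) hmem
    simp only [C.yP_pow, ← SubmonoidClass.coe_pow] at h1
    rw [pow_card_eq_one', OneMemClass.coe_one] at h1
    have h2 := C.yP_injective (h1.symm.trans C.yP_zero.symm)
    have h3 : b.1 = a.1 := sub_eq_zero.1 ((mul_eq_zero.1 h2).resolve_left C.card_cast_ne_zero)
    refine Prod.ext h3.symm (Subtype.ext ?_)
    rw [h3] at e
    exact mul_right_cancel e

lemma Z_el (k : ZMod p) (θ : C.V → ℂ) {i : ZMod p} (hi : i ≠ 0) (v : C.V) :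
    C.Z k θ (C.el i v) = (Nat.card C.V : ℂ)⁻¹ *
      ∑ h : C.H, (1 - psi p (k * ((C.act h : ZMod p) * i))) * conjN C.V h θ v := by
  classical
  rw [Z, indFun_apply, C.sum_norm _ ?_]
  · have h1 : ∀ (j : ZMod p) (h : C.H),
        Cfsg.extendByZero C.Cs (C.ff k θ) (((h : G) * C.yP j)⁻¹ * C.el i v * ((h : G) * C.yP j)) =
          (1 - psi p (k * ((C.act h⁻¹ : ZMod p) * i))) * conjN C.V h⁻¹ θ v := by
      intro j h
      have e : ((h : G) * C.yP j)⁻¹ * C.el i v * ((h : G) * C.yP j) =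
          C.el ((C.act h⁻¹ : ZMod p) * i) (MulAut.conjNormal h⁻¹ v) := by
        have := C.el_conj h⁻¹ i v
        rw [Subgroup.coe_inv, inv_inv] at this
        rw [mul_inv_rev, mul_assoc, mul_assoc, ← mul_assoc (C.el i v), ← mul_assoc ((h : G)⁻¹),
          ← mul_assoc ((h : G)⁻¹), this]
        set w := MulAut.conjNormal h⁻¹ v
        set l := (C.act h⁻¹ : ZMod p) * i
        rw [← C.el_one_right j, show (C.el j 1)⁻¹ = C.el (-j) 1 by
          rw [C.el_one_right, C.el_one_right, C.yP_neg], C.el_mul, C.el_mul]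
        simp [add_comm, add_left_comm]
      rw [e, extendByZero_mem _ (C.el_mem _ _), C.ff_el, conjN_eq_comp]
    simp only [h1, Finset.sum_const, Finset.card_univ, ZMod.card, nsmul_eq_mul, C.card_Cs]
    rw [← Fintype.sum_equiv (Equiv.inv C.H)
      (fun h => (1 - psi p (k * ((C.act h⁻¹ : ZMod p) * i))) * conjN C.V h⁻¹ θ v)
      (fun h => (1 - psi p (k * ((C.act h : ZMod p) * i))) * conjN C.V h θ v) fun h => rfl]
    have : (p : ℂ) ≠ 0 := Nat.cast_ne_zero.2 (Fact.out : p.Prime).ne_zero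
    have : (Nat.card C.V : ℂ) ≠ 0 := Nat.cast_ne_zero.2 Nat.card_pos.ne'
    push_cast
    field_simp
    exact Finset.sum_congr rfl fun h _ => by ring_nf
  · intro x hx
    by_cases hm : x⁻¹ * C.el i v * x ∈ C.Cs
    · obtain ⟨j, w, e⟩ := C.exists_el hm
      exact absurd (C.norm_of_mem (mul_ne_zero C.card_cast_ne_zero hi) (C.conj_el_eq e.symm)) hx
    · exact extendByZero_not_mem _ hm

lemma Z_regular (k : ZMod p) (θ : C.V → ℂ) {g : G} (hg : ¬ p ∣ orderOf g) : C.Z k θ g = 0 := by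
  rw [Z, indFun_apply]
  refine mul_eq_zero_of_right _ (Finset.sum_eq_zero fun x _ => ?_)
  by_cases hm : x⁻¹ * g * x ∈ C.Cs
  · obtain ⟨j, w, e⟩ := C.exists_el hm
    have hj : j = 0 := by
      by_contra hj
      apply hg
      have h1 : orderOf (C.el j w ^ Nat.card C.H) = p := by
        rw [C.el_pow_card, yP]
        refine ((Nat.dvd_prime (Fact.out : p.Prime)).1 ((orderOf_pow_dvd _).trans (dvd_of_eq C.order))).resolve_left
          fun h' => mul_ne_zero C.card_cast_ne_zero hj (C.yP_injective ?_)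
        rw [orderOf_eq_one_iff] at h'
        rw [C.yP_zero]
        exact h'
      have h2 : orderOf (x⁻¹ * g * x) = orderOf g := by
        rw [show x⁻¹ * g * x = MulAut.conj x⁻¹ g by simp, MulEquiv.orderOf_eq]
      rw [← h2, ← e]
      calc p = orderOf (C.el j w ^ Nat.card C.H) := h1.symm
        _ ∣ orderOf (C.el j w) := orderOf_pow_dvd _
    have h2 := C.ff_el k θ j w
    rw [hj, mul_zero, AddChar.map_zero_eq_one, sub_self, zero_mul] at h2
    have h3 : x⁻¹ * g * x = C.el 0 w := by rw [← e, hj]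
    rw [h3, extendByZero_mem _ (C.el_mem _ _)]
    exact h2
  · exact extendByZero_not_mem _ hm

/-! ### The inner products -/

/-- The stabilizer of `θ` in `H`. -/
abbrev stab (θ : C.V → ℂ) : Subgroup C.H := inertia C.V θ

lemma mem_stab {θ : C.V → ℂ} {h : C.H} : h ∈ C.stab θ ↔ conjN C.V h θ = θ := Iff.rfl

lemma V_le_stab {θ : C.V → ℂ} (hθ : Cfsg.IsClassFunction C.V θ) : C.V ≤ C.stab θ :=
  fun _ hv => conjN_of_mem hθ ⟨_, hv⟩

/-- The image of the stabilizer in `(ℤ/p)ˣ`. -/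
def E (θ : C.V → ℂ) : Subgroup (ZMod p)ˣ := (C.stab θ).map C.act

/-- The inertial index. -/
noncomputable def ee (θ : C.V → ℂ) : ℕ := Nat.card (C.E θ)

lemma sum_stab {θ : C.V → ℂ} (hθ : Cfsg.IsClassFunction C.V θ) (F : (ZMod p)ˣ → ℂ) :
    ∑ h ∈ Finset.univ.filter (fun h : C.H => h ∈ C.stab θ), F (C.act h) =
      (Nat.card C.V : ℂ) * ∑ u ∈ Finset.univ.filter (fun u => u ∈ C.E θ), F u := by
  rw [Finset.mul_sum]
  refine Eq.trans (Finset.sum_fiberwise_of_maps_to
    (g := fun h : C.H => C.act h) (t := Finset.univ.filter (fun u => u ∈ C.E θ))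
    (fun h hh => Finset.mem_filter.2
      ⟨Finset.mem_univ _, ⟨h, (Finset.mem_filter.1 hh).2, rfl⟩⟩) _).symm ?_
  refine Finset.sum_congr rfl fun u hu => ?_
  obtain ⟨h₀, hh₀, rfl⟩ := (Finset.mem_filter.1 hu).2
  rw [Finset.sum_congr rfl fun h hh => by rw [(Finset.mem_filter.1 hh).2], Finset.sum_const,
    nsmul_eq_mul]
  congr 1
  rw [Nat.cast_inj, Nat.card_eq_fintype_card, ← Finset.card_univ]
  refine (Finset.card_bij (fun (v : C.V) _ => h₀ * (v : C.H)) (fun v _ => ?_)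
    (fun v _ w _ e => Subtype.ext (mul_left_cancel e)) fun h hh => ?_).symm
  · simp only [Finset.mem_filter, Finset.mem_univ, true_and]
    exact ⟨(C.stab θ).mul_mem hh₀ (C.V_le_stab hθ v.2),
      by rw [map_mul, show C.act (v : C.H) = 1 from v.2, mul_one]⟩
  · simp only [Finset.mem_filter, Finset.mem_univ, true_and] at hh
    exact ⟨⟨h₀⁻¹ * h, by rw [MonoidHom.mem_ker, map_mul, map_inv, hh.2, inv_mul_cancel]⟩,
      Finset.mem_univ _, mul_inv_cancel_left _ _⟩

lemma bb_Z {θ : C.V → ℂ} (hθ : Cfsg.IsIrrCharacter C.V θ) {k l : ZMod p} (hk : k ≠ 0)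
    (hl : l ≠ 0) :
    C.bb (C.Z k θ) θ l = (C.ee θ : ℂ) +
      if ∃ u ∈ C.E θ, (u : ZMod p) * k = l then 1 else 0 := by
  have hV0 : (Nat.card C.V : ℂ) ≠ 0 := Nat.cast_ne_zero.2 Nat.card_pos.ne'
  have hp0 : (p : ℂ) ≠ 0 := Nat.cast_ne_zero.2 (Fact.out : p.Prime).ne_zero
  -- the multiplicities
  have hmu : ∀ i : ZMod p, C.mu (C.Z k θ) θ i * (1 - psi p (-(l * i))) =
      (∑ u ∈ Finset.univ.filter (fun u => u ∈ C.E θ), (1 - psi p (k * ((u : ZMod p) * i)))) *
        (1 - psi p (-(l * i))) := by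
    intro i
    by_cases hi : i = 0
    · simp [hi]
    congr 1
    have h1 : ∀ h : C.H, (Nat.card C.V : ℂ)⁻¹ * ∑ v : C.V, conjN C.V h θ v * conj (θ v) =
        if h ∈ C.stab θ then 1 else 0 := fun h => by
      rw [← classInner_def, classInner_irrChar (IsIrrCharacter.conjN hθ h) hθ]
      exact if_congr Iff.rfl rfl rfl
    have h4 : C.mu (C.Z k θ) θ i = (Nat.card C.V : ℂ)⁻¹ * ∑ h : C.H,
        (1 - psi p (k * ((C.act h : ZMod p) * i))) *
          ((Nat.card C.V : ℂ)⁻¹ * ∑ v : C.V, conjN C.V h θ v * conj (θ v)) := by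
      rw [mu, Finset.sum_congr rfl fun v _ => by rw [C.Z_el k θ hi v, Finset.mul_sum, Finset.sum_mul],
        Finset.sum_comm]
      congr 1
      refine Finset.sum_congr rfl fun h _ => ?_
      rw [Finset.mul_sum, Finset.mul_sum]
      exact Finset.sum_congr rfl fun v _ => by ring
    rw [h4, Finset.sum_congr rfl fun h _ => show
        (1 - psi p (k * ((C.act h : ZMod p) * i))) *
          ((Nat.card C.V : ℂ)⁻¹ * ∑ v : C.V, conjN C.V h θ v * conj (θ v)) =
        if h ∈ C.stab θ then (1 - psi p (k * ((C.act h : ZMod p) * i))) else 0 by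
      rw [h1 h, mul_ite, mul_one, mul_zero]]
    rw [← Finset.sum_filter, C.sum_stab (isClassFunction_isChar (isCharacter_of_irr hθ))
      (fun u => 1 - psi p (k * ((u : ZMod p) * i))), ← mul_assoc, inv_mul_cancel₀ hV0, one_mul]
  rw [bb, Finset.sum_congr rfl fun i _ => hmu i]
  simp only [Finset.sum_mul]
  rw [Finset.sum_comm]
  have h2 : ∀ u : (ZMod p)ˣ, ∑ i : ZMod p,
      (1 - psi p (k * ((u : ZMod p) * i))) * (1 - psi p (-(l * i))) =
      (p : ℂ) + if (u : ZMod p) * k = l then (p : ℂ) else 0 := by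
    intro u
    have h3 : ∀ i : ZMod p, (1 - psi p (k * ((u : ZMod p) * i))) * (1 - psi p (-(l * i))) =
        1 - psi p (i * ((u : ZMod p) * k)) - psi p (i * -l) +
          psi p (i * ((u : ZMod p) * k - l)) := by
      intro i
      rw [sub_eq_add_neg ((u : ZMod p) * k) l, mul_add i, AddChar.map_add_eq_mul,
        show k * ((u : ZMod p) * i) = i * ((u : ZMod p) * k) by ring,
        show -(l * i) = i * -l by ring]
      ring
    simp only [h3, Finset.sum_add_distrib, Finset.sum_sub_distrib, sum_psi_mul, Finset.sum_const,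
      Finset.card_univ, ZMod.card, nsmul_eq_mul, mul_one, neg_eq_zero, if_neg hl,
      mul_eq_zero, hk, u.ne_zero, or_false, if_false, sub_zero, sub_eq_zero]
  simp only [h2, Finset.sum_add_distrib, Finset.sum_const, nsmul_eq_mul, mul_add]
  congr 1
  · rw [ee, Nat.card_eq_fintype_card, Fintype.card_subtype]
    field_simp
  · split_ifs with h
    · obtain ⟨u, hu, hul⟩ := h
      rw [Finset.sum_eq_single u (fun w _ hne => if_neg fun e => hne
        (Units.ext (mul_right_cancel₀ hk (e.trans hul.symm)))) (fun h' => absurd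
          (Finset.mem_filter.2 ⟨Finset.mem_univ _, hu⟩) h'), if_pos hul, inv_mul_cancel₀ hp0]
    · rw [Finset.sum_eq_zero fun u hu => if_neg fun e =>
        h ⟨u, (Finset.mem_filter.1 hu).2, e⟩, mul_zero]

lemma classInner_Z_Z {θ : C.V → ℂ} (hθ : Cfsg.IsIrrCharacter C.V θ) {k l : ZMod p} (hk : k ≠ 0)
    (hl : l ≠ 0) :
    Cfsg.classInner (C.Z k θ) (C.Z l θ) = (C.ee θ : ℂ) +
      if ∃ u ∈ C.E θ, (u : ZMod p) * k = l then 1 else 0 := by
  rw [C.classInner_Z (χ := C.Z k θ) (isClassFunction_indFun _ _), C.bb_Z hθ hk hl]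

/-- The generalized character depends only on the coset of `k`. -/
lemma Z_eq {θ : C.V → ℂ} (hθ : Cfsg.IsIrrCharacter C.V θ) {u : (ZMod p)ˣ} (hu : u ∈ C.E θ)
    {k : ZMod p} (hk : k ≠ 0) : C.Z ((u : ZMod p) * k) θ = C.Z k θ := by
  classical
  have hk' : (u : ZMod p) * k ≠ 0 := mul_ne_zero u.ne_zero hk
  rw [← sub_eq_zero, ← classInner_self_eq_zero]
  simp only [classInner_sub_left, classInner_sub_right, C.classInner_Z_Z hθ hk' hk',
    C.classInner_Z_Z hθ hk hk, C.classInner_Z_Z hθ hk' hk, C.classInner_Z_Z hθ hk hk']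
  have e1 : ∀ l : ZMod p, ∃ w ∈ C.E θ, (w : ZMod p) * l = l := fun l =>
    ⟨1, one_mem _, by rw [Units.val_one, one_mul]⟩
  have e2 : ∃ w ∈ C.E θ, (w : ZMod p) * k = (u : ZMod p) * k := ⟨u, hu, rfl⟩
  have e3 : ∃ w ∈ C.E θ, (w : ZMod p) * ((u : ZMod p) * k) = k :=
    ⟨u⁻¹, inv_mem hu, by rw [← mul_assoc, ← Units.val_mul, inv_mul_cancel, Units.val_one, one_mul]⟩
  simp only [if_pos (e1 _), if_pos e2, if_pos e3, sub_self]

lemma bb_eq_of_coset {θ : C.V → ℂ} (hθ : Cfsg.IsIrrCharacter C.V θ) {u : (ZMod p)ˣ}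
    (hu : u ∈ C.E θ) {χ : G → ℂ} (hχ : Cfsg.IsClassFunction G χ) {k : ZMod p} (hk : k ≠ 0) :
    C.bb χ θ ((u : ZMod p) * k) = C.bb χ θ k := by
  rw [← C.classInner_Z hχ, ← C.classInner_Z hχ, C.Z_eq hθ hu hk]

end Cyc

end Cfsg.Lib.Blocks
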