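import Mathlib
import Cfsg.Agent.Blocks.CyclicSetting
import Cfsg.Agent.Blocks.Idem
import Cfsg.Agent.Chars.AbelianInertia
import Cfsg.Agent.Chars.ExtCriteria
import Cfsg.Agent.Chars.IrrTools

/-!
# The characters of the complement over an orbit of characters of the kernel
-/

set_option autoImplicit false
set_option linter.unusedSectionVars false

namespace Cfsg.Lib.Blocks

open Cfsg.Lib.Chars
open scoped ComplexConjugate Classical

universe u

variable {G : Type u} [Group G] [Fintype G] {p : ℕ} [Fact p.Prime]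

namespace Cyc

variable (C : Cyc G p)

/-- The irreducible characters of `H` over `θ`. -/
noncomputable def overSet (θ : C.V → ℂ) : Set (IrrCharacter C.H) :=
  {ψ | Cfsg.classInner (fun v : C.V => (ψ : C.H → ℂ) v) θ ≠ 0}

/-- The total degree of the orbit of `θ`. -/
noncomputable def orbDeg (θ : C.V → ℂ) : ℕ := (C.stab θ).index * deg θ

lemma card_orbit (θ : C.V → ℂ) : (conjOrbit C.V θ).card = (C.stab θ).index := by
  refine Nat.eq_of_mul_eq_mul_right (Nat.card_pos (α := C.stab θ)) ?_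
  rw [card_conjOrbit, Subgroup.index_mul_card]

lemma orbDeg_pos {θ : C.V → ℂ} (hθ : Cfsg.IsIrrCharacter C.V θ) : 0 < C.orbDeg θ :=
  Nat.mul_pos (Nat.pos_of_ne_zero Subgroup.index_ne_zero_of_finite) (deg_irr_pos ⟨θ, hθ⟩)

/-- Over a character of the stabiliser the degree does not change. -/
lemma deg_stab_over {θ : C.V → ℂ} (hθ : Cfsg.IsIrrCharacter C.V θ) (hle : C.V ≤ C.stab θ)
    {ψ : C.stab θ → ℂ} (hψ : Cfsg.IsIrrCharacter (C.stab θ) ψ)
    (hc : Cfsg.classInner (fun v : C.V => ψ ⟨v, hle v.2⟩) θ ≠ 0) : ψ 1 = θ 1 := by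
  let N' := C.V.subgroupOf (C.stab θ)
  let e : N' ≃* C.V := Subgroup.subgroupOfEquivOfLe hle
  have hθ' : Cfsg.IsIrrCharacter N' fun x => θ (e x) := IsIrrCharacter.comp_mulEquiv hθ e
  obtain ⟨d, ρ', hirr', hchar⟩ := id hθ'
  have hinv : ∀ g : ↥(C.stab θ), conjN N' g ρ'.character = ρ'.character := fun g => by
    rw [hchar]
    funext x
    exact congrFun (mem_inertia.1 g.2) (e x)
  have hker : N' = (C.act.comp (C.stab θ).subtype).ker := by
    ext x
    rw [Subgroup.mem_subgroupOf, MonoidHom.mem_ker, MonoidHom.mem_ker]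
    rfl
  have hcyc : IsCyclic (↥(C.stab θ) ⧸ N') := by
    let F : ↥(C.stab θ) ⧸ N' →* (ZMod p)ˣ :=
      QuotientGroup.lift N' (C.act.comp (C.stab θ).subtype) (le_of_eq hker)
    refine isCyclic_of_injective F ?_
    rw [injective_iff_map_eq_one]
    intro a ha
    induction a using QuotientGroup.induction_on with
    | H x =>
      rw [QuotientGroup.eq_one_iff, hker]
      exact ha
  obtain ⟨R, hR⟩ := exists_extension_of_hasSplit N' ρ' hinv (hasSplit_one_of_cyclic N' ρ' hcyc)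
  have hRchar : ∀ x : N', R.character (x : ↥(C.stab θ)) = θ (e x) := fun x => by
    rw [← congrFun hchar x]
    show LinearMap.trace ℂ _ (R (x : ↥(C.stab θ))) = LinearMap.trace ℂ _ (ρ' x)
    rw [hR]
  have hRirr : Cfsg.IsIrrCharacter ↥(C.stab θ) R.character :=
    irr_of_comp_irr (isCharacter_character R) N'.subtype
      (by rw [show (fun x => R.character (N'.subtype x)) = fun x => θ (e x) from funext hRchar]
          exact hθ')
  have hab : ∀ x y : ↥(C.stab θ), x * y * x⁻¹ * y⁻¹ ∈ N' := fun x y => by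
    rw [hker, MonoidHom.mem_ker]
    simp only [map_mul, map_inv]
    rw [mul_comm ((C.act.comp (C.stab θ).subtype) x) ((C.act.comp (C.stab θ).subtype) y)]
    simp
  obtain ⟨m, hm, hres⟩ := restrict_eq_mult_of_invariant N' (χ := ψ) hψ hθ'
    (fun g => by rw [← hchar]; exact hinv g) (by
      intro h0
      apply hc
      rw [← classInner_comp_equiv e.toEquiv]
      exact h0)
  have h1 := deg_eq_of_abelian_quotient N' hab hθ' hRirr hψ one_ne_zero hm.ne'
    (by rw [Nat.cast_one, one_smul]; exact funext hRchar) hres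
  rw [h1]
  have := hRchar 1
  rw [map_one] at this
  exact this

/-- The characters over `θ` have multiplicity one and the orbit degree. -/
lemma over_spec {θ : C.V → ℂ} (hθ : Cfsg.IsIrrCharacter C.V θ) {ψ : IrrCharacter C.H}
    (hψ : ψ ∈ C.overSet θ) :
    (ψ : C.H → ℂ) 1 = (C.orbDeg θ : ℂ) ∧
      Cfsg.classInner (fun v : C.V => (ψ : C.H → ℂ) v) θ = 1 := by
  have hle : C.V ≤ C.stab θ := le_inertia (isClassFunction_isChar (isCharacter_of_irr hθ))
  obtain ⟨φ, hφ, h1, h2⟩ := exists_constituent_over (C.stab θ) hle (isCharacter_of_irr ψ.2) hψ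
  obtain ⟨h3, h4, -⟩ := clifford_correspondence hθ (C.stab θ) rfl hle ψ.2 hφ h1 h2
  have hdeg : (ψ : C.H → ℂ) 1 = (C.orbDeg θ : ℂ) := by
    rw [← h3, indFun_one, C.deg_stab_over hθ hle hφ h2, orbDeg, Nat.cast_mul]
    congr 1
    exact irr_apply_one_eq_deg ⟨θ, hθ⟩
  refine ⟨hdeg, ?_⟩
  have hcl := congrFun (clifford C.V ψ.2 hθ hψ) 1
  have hone : ∀ φ' ∈ conjOrbit C.V θ, φ' 1 = (deg θ : ℂ) := fun φ' hφ' => by
    obtain ⟨g, rfl⟩ := (mem_conjOrbit C.V).1 hφ'
    rw [conjN_eq_comp]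
    show θ (MulAut.conjNormal g 1) = _
    rw [map_one]
    exact irr_apply_one_eq_deg ⟨θ, hθ⟩
  rw [Pi.smul_apply, Finset.sum_apply, Finset.sum_congr rfl hone, Finset.sum_const,
    nsmul_eq_mul, C.card_orbit, ← Nat.cast_mul, smul_eq_mul] at hcl
  rw [OneMemClass.coe_one, hdeg] at hcl
  have hne : (C.orbDeg θ : ℂ) ≠ 0 := Nat.cast_ne_zero.2 (C.orbDeg_pos hθ).ne'
  exact (mul_eq_right₀ hne).1 hcl.symm

/-- The idempotent of the characters over `θ`. -/
lemma blockCoeff_overSet {θ : C.V → ℂ} (hθ : Cfsg.IsIrrCharacter C.V θ) (h : C.H) :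
    blockCoeff (C.overSet θ) h =
      (Nat.card C.H : ℂ)⁻¹ * ((C.orbDeg θ : ℂ) * conj (Cfsg.indFun C.V θ h)) := by
  rw [blockCoeff_eq_sum]
  congr 1
  have hexp := classFunction_expand_apply (isClassFunction_indFun C.V θ) h
  rw [hexp, map_sum, Finset.mul_sum, Finset.sum_filter]
  refine Finset.sum_congr rfl fun ψ _ => ?_
  rw [frobenius_reciprocity C.V θ (isClassFunction_irr ψ), map_mul, classInner_conj_symm]
  by_cases hψ : ψ ∈ C.overSet θ
  · obtain ⟨h1, h2⟩ := C.over_spec hθ hψ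
    rw [if_pos hψ, h2, h1, one_mul]
  · rw [if_neg hψ, not_ne_iff.1 hψ, zero_mul, mul_zero]

lemma orbDeg_eq_sum (θ : C.V → ℂ) :
    (C.orbDeg θ : ℕ) = (conjOrbit C.V θ).card * deg θ := by rw [orbDeg, C.card_orbit]

end Cyc

end Cfsg.Lib.Blocks
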