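import Mathlib
import Cfsg.Agent.Blocks.UnramifiedFamily

/-!
# Simple modules of a group of order prime to the characteristic over a finite field

If the central elements act on a component of the group algebra by scalars then every nonzero
invariant subspace of that component contains one whose squared dimension is at most the rank
of the component.
-/

set_option autoImplicit false
set_option linter.unusedSectionVars false

namespace Cfsg.Lib.Blocks

open Cfsg.Lib.Chars Module IsLocalRing Herbrand
open scoped Classical

universe u v w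

section Field

variable {k : Type u} [Field k] [Finite k] {H : Type v} [Group H] [Fintype H] {W : Type w}
  [AddCommGroup W] [Module k W] [FiniteDimensional k W]

/-- A simple module whose centre consists of scalars is absolutely simple. -/
theorem span_range_eq_top (τ : H →* Module.End k W) (hH : (Nat.card H : k) ≠ 0)
    [Nontrivial W]
    (hmin : ∀ U : Submodule k W, (∀ h, ∀ x ∈ U, τ h x ∈ U) → U = ⊥ ∨ U = ⊤)
    (hcen : ∀ f : H → k, (∀ g x, f (x * g * x⁻¹) = f g) →
      ∃ c : k, ∑ h, f h • τ h = c • (1 : Module.End k W)) :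
    Submodule.span k (Set.range τ) = ⊤ := by
  set A := Submodule.span k (Set.range τ) with hA
  have hτA : ∀ h, τ h ∈ A := fun h => Submodule.subset_span ⟨h, rfl⟩
  have hone : (1 : Module.End k W) ∈ A := map_one τ ▸ hτA 1
  have hmulA : ∀ g, ∀ a ∈ A, τ g * a ∈ A := by
    intro g a ha
    induction ha using Submodule.span_induction with
    | mem x hx => obtain ⟨h, rfl⟩ := hx; rw [← map_mul]; exact hτA _
    | zero => rw [mul_zero]; exact A.zero_mem
    | add x y _ _ hx hy => rw [mul_add]; exact A.add_mem hx hy
    | smul c x _ hx => rw [mul_smul_comm]; exact A.smul_mem c hx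
  -- the averaged projection
  obtain ⟨Q, hQ⟩ := Submodule.exists_isCompl A
  let π₀ : Module.End k (Module.End k W) := A.subtype ∘ₗ Submodule.projectionOnto A Q hQ
  let π : Module.End k W → Module.End k W := fun φ =>
    (Nat.card H : k)⁻¹ • ∑ h, τ h * π₀ (τ h⁻¹ * φ)
  have hπadd : ∀ a b, π (a + b) = π a + π b := fun a b => by
    simp only [π, mul_add, map_add, Finset.sum_add_distrib, smul_add]
  have hπsmul : ∀ (c : k) a, π (c • a) = c • π a := fun c a => by
    simp only [π, mul_smul_comm, map_smul, ← Finset.smul_sum, smul_comm c]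
  have hπA : ∀ φ, π φ ∈ A := fun φ =>
    A.smul_mem _ (A.sum_mem fun h _ => hmulA h _ (Subtype.coe_prop _))
  have hπid : ∀ a ∈ A, π a = a := fun a ha => by
    have : ∀ h, τ h * π₀ (τ h⁻¹ * a) = a := fun h => by
      rw [show π₀ (τ h⁻¹ * a) = τ h⁻¹ * a from
        congrArg Subtype.val (Submodule.projectionOnto_apply_left hQ ⟨_, hmulA _ _ ha⟩),
        ← mul_assoc, ← map_mul, mul_inv_cancel, map_one, one_mul]
    show _ • _ = _
    rw [Finset.sum_congr rfl fun h _ => this h, Finset.sum_const, Finset.card_univ,
      ← Nat.card_eq_fintype_card, ← Nat.cast_smul_eq_nsmul k, smul_smul, inv_mul_cancel₀ hH,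
      one_smul]
  have hπeq : ∀ g φ, π (τ g * φ) = τ g * π φ := fun g φ => by
    show _ • _ = τ g * (_ • _)
    rw [mul_smul_comm, Finset.mul_sum]
    refine congrArg _ (Fintype.sum_bijective (fun h : H => g⁻¹ * h) (Group.mulLeft_bijective _) _ _
      fun h => ?_)
    simp only [mul_inv_rev, inv_inv, map_mul, ← mul_assoc]
    rw [← map_mul τ g g⁻¹, mul_inv_cancel, map_one, one_mul]
  -- the centraliser
  set D := Subalgebra.centralizer k (Set.range τ) with hD
  have hDmem : ∀ z, z ∈ D ↔ ∀ h, τ h * z = z * τ h := fun z => by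
    rw [hD, Subalgebra.mem_centralizer_iff]
    simp
  have hdouble : ∀ z : Module.End k W, (∀ d ∈ D, z * d = d * z) → z ∈ A := by
    intro z hz
    let b := Module.finBasis k W
    have hdec : ∀ φ : Module.End k W, φ = ∑ i, (b.coord i).smulRight (φ (b i)) := fun φ =>
      LinearMap.ext fun u => by
        simp only [LinearMap.sum_apply, LinearMap.smulRight_apply, ← map_smul, ← map_sum]
        congr 1
        exact (b.sum_repr u).symm
    let L : Fin (finrank k W) → W → Module.End k W := fun i u =>
      { toFun := fun x => π ((b.coord i).smulRight x) u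
        map_add' := fun x y => by
          rw [show (b.coord i).smulRight (x + y) = (b.coord i).smulRight x + (b.coord i).smulRight y
            from LinearMap.ext fun v => smul_add _ _ _, hπadd, LinearMap.add_apply]
        map_smul' := fun c x => by
          rw [show (b.coord i).smulRight (c • x) = c • (b.coord i).smulRight x
            from LinearMap.ext fun v => smul_comm _ _ _, hπsmul, LinearMap.smul_apply,
            RingHom.id_apply] }
    have hL : ∀ i u, L i u ∈ D := fun i u => (hDmem _).2 fun h => LinearMap.ext fun x => by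
      show τ h (π ((b.coord i).smulRight x) u) = π ((b.coord i).smulRight (τ h x)) u
      rw [show (b.coord i).smulRight (τ h x) = τ h * (b.coord i).smulRight x from
        LinearMap.ext fun v => (map_smul _ _ _).symm, hπeq, Module.End.mul_apply]
    have hπsum : ∀ (s : Finset (Fin (finrank k W))) (f : Fin (finrank k W) → Module.End k W),
        π (∑ i ∈ s, f i) = ∑ i ∈ s, π (f i) := fun s f => by
      induction s using Finset.induction with
      | empty =>
        rw [Finset.sum_empty, Finset.sum_empty]
        simpa using hπsmul 0 0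
      | @insert a s has ih => rw [Finset.sum_insert has, Finset.sum_insert has, hπadd, ih]
    have key : π (z * 1) = z * π 1 := by
      conv_lhs => rw [hdec (z * 1), hπsum]
      conv_rhs => rw [hdec 1, hπsum, Finset.mul_sum]
      refine Finset.sum_congr rfl fun i _ => LinearMap.ext fun u => ?_
      show L i u (z (b i)) = z (L i u ((1 : Module.End k W) (b i)))
      exact (LinearMap.congr_fun (hz _ (hL i u)) (b i)).symm
    rw [mul_one, hπid 1 hone, mul_one] at key
    exact key ▸ hπA z
  -- it is a field
  have hinj : ∀ d ∈ D, d ≠ 0 → Function.Injective d := by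
    intro d hd hd0
    rw [← LinearMap.ker_eq_bot]
    rcases hmin (LinearMap.ker d) (fun h x hx => by
      rw [LinearMap.mem_ker] at hx ⊢
      rw [← Module.End.mul_apply, ← (hDmem d).1 hd h, Module.End.mul_apply, hx, map_zero]) with h | h
    · exact h
    · exact absurd (LinearMap.ker_eq_top.1 h) hd0
  have : Finite (Module.End k W) := Module.finite_of_finite k
  have : IsDomain D := by
    have : NoZeroDivisors D := ⟨fun {a b} hab => by
      by_contra hne
      push Not at hne
      have ha : (a : Module.End k W) ≠ 0 := fun h => hne.1 (Subtype.ext h)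
      refine hne.2 (Subtype.ext (LinearMap.ext fun x => hinj a a.2 ha ?_))
      rw [ZeroMemClass.coe_zero, LinearMap.zero_apply, map_zero]
      exact LinearMap.congr_fun (congrArg Subtype.val hab) x⟩
    exact NoZeroDivisors.to_isDomain D
  have hcomm : ∀ a ∈ D, ∀ b ∈ D, a * b = b * a := fun a ha b hb =>
    congrArg Subtype.val ((Finite.isDomain_to_isField D).mul_comm ⟨a, ha⟩ ⟨b, hb⟩)
  -- it consists of scalars
  have hscal : ∀ d ∈ D, ∃ c : k, d = c • (1 : Module.End k W) := by
    intro d hd
    obtain ⟨f, hf⟩ := (Submodule.mem_span_range_iff_exists_fun k).1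
      (hdouble d fun e he => hcomm d hd e he)
    let f' : H → k := fun g => (Nat.card H : k)⁻¹ * ∑ x : H, f (x * g * x⁻¹)
    obtain ⟨c, hc⟩ := hcen f' fun g x => by
      refine congrArg ((Nat.card H : k)⁻¹ * ·) (Fintype.sum_bijective (fun z : H => z * x)
        (Group.mulRight_bijective _) _ _ fun z => ?_)
      congr 1
      group
    refine ⟨c, hc ▸ ?_⟩
    simp only [f', ← smul_smul, Finset.sum_smul, ← Finset.smul_sum]
    rw [Finset.sum_comm]
    have h2 : ∀ x : H, ∑ g : H, f (x * g * x⁻¹) • τ g = d := by
      intro x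
      rw [Fintype.sum_equiv (MulAut.conj x).toEquiv (fun g => f (x * g * x⁻¹) • τ g)
        (fun g => f g • τ (x⁻¹ * g * x)) fun g => by simp [mul_assoc]]
      rw [Finset.sum_congr rfl fun g _ => show f g • τ (x⁻¹ * g * x) =
          τ x⁻¹ * (f g • τ g) * τ x by rw [map_mul, map_mul, mul_smul_comm, smul_mul_assoc],
        ← Finset.sum_mul, ← Finset.mul_sum, hf,
        mul_assoc, ← (hDmem d).1 hd x, ← mul_assoc, ← map_mul, inv_mul_cancel, map_one, one_mul]
    rw [Finset.sum_congr rfl fun x _ => h2 x, Finset.sum_const, Finset.card_univ,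
      ← Nat.card_eq_fintype_card, ← Nat.cast_smul_eq_nsmul k, smul_smul, inv_mul_cancel₀ hH,
      one_smul]
  rw [eq_top_iff]
  intro z _
  refine hdouble z fun d hd => ?_
  obtain ⟨c, rfl⟩ := hscal d hd
  rw [mul_smul_comm, smul_mul_assoc, mul_one, one_mul]

end Field

section Lattice

variable {O : Type u} [CommRing O] [IsDomain O] [IsLocalRing O] [IsPrincipalIdealRing O]
  [CharZero O] {κ : Type w} [Fintype κ] [DecidableEq κ] {G : Type v} [Group G] [Fintype G]

local notation "kk" => IsLocalRing.ResidueField O

/-- The action of the group algebra of a subgroup. -/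
noncomputable def subAct (ρ : G →* Module.End O (κ → O)) (H : Subgroup G) :
    MonoidAlgebra O H →ₐ[O] Module.End O (κ → O) :=
  MonoidAlgebra.lift O (Module.End O (κ → O)) H (ρ.comp H.subtype)

lemma subAct_single (ρ : G →* Module.End O (κ → O)) (H : Subgroup G) (h : H) :
    subAct ρ H (MonoidAlgebra.single h 1) = ρ h := by
  rw [subAct, MonoidAlgebra.lift_single, one_smul]
  rfl

/-- An invariant subspace of a component contains a small one. -/
theorem exists_small_invariant [Finite kk] (ρ : G →* Module.End O (κ → O)) (H : Subgroup G)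
    (hH : (Nat.card H : kk) ≠ 0) {a : MonoidAlgebra O H} (haa : a * a = a)
    {d : ℕ} (hd : (Nat.card H : O) * fn a 1 = (d : O) * d)
    (hcen : ∀ z : MonoidAlgebra O H, IsCentralFn z → ∃ c : O, z * a = c • a)
    {W : Submodule kk (κ → kk)} (hWi : Inv ρ H W) (hW : W ≠ ⊥)
    (hid : ∀ w ∈ W, redE (subAct ρ H a) w = w) :
    ∃ W' ≤ W, Inv ρ H W' ∧ W' ≠ ⊥ ∧ finrank kk W' ≤ d := by
  let P : ℕ → Prop := fun m => ∃ W' ≤ W, Inv ρ H W' ∧ W' ≠ ⊥ ∧ finrank kk W' = m
  have hex : ∃ m, P m := ⟨_, W, le_rfl, hWi, hW, rfl⟩
  obtain ⟨W', hle, hinv, hne, hfr⟩ := Nat.find_spec hex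
  refine ⟨W', hle, hinv, hne, ?_⟩
  let τ : H →* Module.End kk W' :=
    { toFun := fun h => (redE (ρ h)).restrict fun x hx => hinv h h.2 x hx
      map_one' := LinearMap.ext fun x => Subtype.ext (by simp)
      map_mul' := fun g h => LinearMap.ext fun x => Subtype.ext (by simp) }
  have : Nontrivial W' := Submodule.nontrivial_iff_ne_bot.2 hne
  have hmin : ∀ U : Submodule kk W', (∀ h, ∀ x ∈ U, τ h x ∈ U) → U = ⊥ ∨ U = ⊤ := by
    intro U hU
    by_contra hcon
    push Not at hcon
    refine Nat.find_min hex (m := finrank kk U) ?_ ⟨U.map W'.subtype, ?_, ?_, ?_, ?_⟩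
    · rw [← hfr]
      exact Submodule.finrank_lt hcon.2
    · exact (Submodule.map_subtype_le _ _).trans hle
    · rintro h hh _ ⟨x, hx, rfl⟩
      exact ⟨_, hU ⟨h, hh⟩ x hx, rfl⟩
    · intro h0
      exact hcon.1 (Submodule.map_injective_of_injective W'.subtype_injective
        (h0.trans (Submodule.map_bot _).symm))
    · exact Submodule.finrank_map_subtype_eq _ _
  have hid' : ∀ x : W', redE (subAct ρ H a) (x : κ → kk) = x := fun x => hid _ (hle x.2)
  -- the action of the group algebra
  have hact : ∀ (z : MonoidAlgebra O H) (x : W'), redE (subAct ρ H z) (x : κ → kk) =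
      ∑ h : H, residue O (fn z h) • ((τ h x : W') : κ → kk) := by
    intro z x
    conv_lhs => rw [eq_sum_single z, map_sum, map_sum]
    rw [LinearMap.sum_apply]
    refine Finset.sum_congr rfl fun h _ => ?_
    rw [show MonoidAlgebra.single h (fn z h) = fn z h • (MonoidAlgebra.single h (1 : O) :
      MonoidAlgebra O H) from fn_ext fun y => by rw [fn_smul, fn_single, fn_single]; split_ifs <;> simp,
      map_smul, subAct_single, redE_smul]
    rfl
  obtain ⟨sec, hsec⟩ := (residue_surjective (R := O)).hasRightInverse
  have hcen' : ∀ f : H → kk, (∀ g x, f (x * g * x⁻¹) = f g) →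
      ∃ c : kk, ∑ h, f h • τ h = c • (1 : Module.End kk W') := by
    intro f hf
    obtain ⟨c, hc⟩ := hcen (ofFn fun h => sec (f h))
      (isCentralFn_ofFn fun g x => by rw [hf g x])
    refine ⟨residue O c, LinearMap.ext fun x => Subtype.ext ?_⟩
    have h1 := congrArg (fun z => redE (subAct ρ H z) (x : κ → kk)) hc
    simp only [map_mul, map_smul, redE_smul, Module.End.mul_apply, LinearMap.smul_apply, hid'] at h1
    rw [hact] at h1
    simp only [fn_ofFn, hsec _] at h1
    simp only [LinearMap.sum_apply, LinearMap.smul_apply, Module.End.one_apply,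
      Submodule.coe_sum, Submodule.coe_smul]
    exact h1
  have htop := span_range_eq_top τ hH hmin hcen'
  -- the rank of the component
  set L := LinearMap.range (LinearMap.mulLeft O a) with hLdef
  have : Module.Finite O (MonoidAlgebra O H) :=
    Module.Finite.of_basis (MonoidAlgebra.basis H O)
  have : Module.Free O (MonoidAlgebra O H) :=
    Module.Free.of_basis (MonoidAlgebra.basis H O)
  have hproj : LinearMap.IsProj L (LinearMap.mulLeft O a) :=
    ⟨fun x => ⟨x, rfl⟩, by
      rintro _ ⟨x, rfl⟩
      show a * (a * x) = a * x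
      rw [← mul_assoc, haa]⟩
  have hrank : finrank O L = d * d := by
    have h1 := hproj.trace
    rw [trace_mulLeft, ← Nat.card_eq_fintype_card, hd] at h1
    exact_mod_cast h1.symm
  let bL := Module.finBasis O L
  let post : Module.End kk W' →ₗ[kk] (W' →ₗ[kk] (κ → kk)) :=
    { toFun := fun f => W'.subtype ∘ₗ f
      map_add' := fun f g => LinearMap.comp_add f g W'.subtype
      map_smul' := fun c f => LinearMap.comp_smul W'.subtype c f }
  let vec : Fin (finrank O L) → (W' →ₗ[kk] (κ → kk)) := fun i =>
    (redE (subAct ρ H (bL i : MonoidAlgebra O H))) ∘ₗ W'.subtype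
  have hspan : ∀ h : H, post (τ h) ∈ Submodule.span kk (Set.range vec) := by
    intro h
    obtain ⟨c, hc⟩ := (Submodule.mem_span_range_iff_exists_fun O).1
      (bL.span_eq ▸ Submodule.mem_top :
        (⟨_, ⟨MonoidAlgebra.single h 1, rfl⟩⟩ : L) ∈ Submodule.span O (Set.range bL))
    have hc' : ∑ i, c i • (bL i : MonoidAlgebra O H) = a * MonoidAlgebra.single h 1 := by
      have := congrArg Subtype.val hc
      simpa [Submodule.coe_sum] using this
    refine (Submodule.mem_span_range_iff_exists_fun kk).2
      ⟨fun i => residue O (c i), LinearMap.ext fun x => ?_⟩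
    have h1 := congrArg (fun z => redE (subAct ρ H z) (x : κ → kk)) hc'
    simp only [map_sum, map_smul, redE_smul, LinearMap.sum_apply, LinearMap.smul_apply, map_mul,
      Module.End.mul_apply, subAct_single] at h1
    simp only [LinearMap.sum_apply, LinearMap.smul_apply, vec, LinearMap.comp_apply,
      Submodule.subtype_apply]
    rw [h1]
    exact hid' (τ h x)
  have hle' : Submodule.map post ⊤ ≤ Submodule.span kk (Set.range vec) := by
    rw [← htop, Submodule.map_span, Submodule.span_le]
    rintro _ ⟨_, ⟨h, rfl⟩, rfl⟩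
    exact hspan h
  have hinj : Function.Injective post := fun f g e => LinearMap.ext fun x =>
    Subtype.ext (LinearMap.congr_fun e x)
  have h3 := (Submodule.finrank_mono hle').trans (finrank_range_le_card vec)
  rw [Submodule.map_top, LinearMap.finrank_range_of_inj hinj, Module.finrank_linearMap,
    Fintype.card_fin, hrank] at h3
  exact Nat.mul_self_le_mul_self_iff.1 h3

end Lattice

end Cfsg.Lib.Blocks
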