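import Mathlib
import Cfsg.Agent.Blocks.OrbitIdem
import Cfsg.Agent.Blocks.SmallInvariant

/-!
# The bound on the singular multiplicities of a rational family
-/

set_option autoImplicit false
set_option linter.unusedSectionVars false

namespace Cfsg.Lib.Blocks

open Cfsg.Lib.Chars Module IsLocalRing Herbrand
open scoped ComplexConjugate Classical

universe u

variable {M : Ideal AlgInt} {p n : ℕ} [Fact p.Prime]

/-- The residue field of the unramified place is finite. -/
theorem finite_residue (hM : IsPModular p M) (hn : ¬ p ∣ n) :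
    Finite (ResidueField (Ov M n)) := by
  have : NeZero n := ⟨fun h => hn (h ▸ dvd_zero p)⟩
  have hd := isDVR hM hn
  have hpi := maximalIdeal_eq hM hn
  have : CharP (ResidueField (Ov M n)) p := (CharP.charP_iff_prime_eq_zero (Fact.out : p.Prime)).2
    (by rw [← map_natCast (residue (Ov M n))]; exact residue_p hpi)
  let _ : Algebra (ZMod p) (ResidueField (Ov M n)) := ZMod.algebra _ p
  have hfd := finiteDimensional_cycField n
  have hrank : Module.rank (ZMod p) (ResidueField (Ov M n)) ≤ finrank ℚ (cycField n) := by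
    refine rank_le fun s hs => ?_
    choose x hx using fun i : s => residue_surjective (R := Ov M n) (i : ResidueField (Ov M n))
    let v : s → cycField n := fun i => ((x i : Ov M n) : cycField n)
    have hli : LinearIndependent ℤ v := by
      rw [Fintype.linearIndependent_iff]
      intro c hc i₀
      have hdiv : ∀ (m : ℕ) (c : s → ℤ), ∑ i, c i • v i = 0 → ∀ i, (p : ℤ) ^ m ∣ c i := by
        intro m
        induction m with
        | zero => intro c _ i; simp
        | succ m ih =>
          intro c hc i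
          have h1 : ∀ i, (p : ℤ) ∣ c i := by
            have h0 : ∑ i, c i • x i = 0 := Subtype.ext (by
              rw [ZeroMemClass.coe_zero, ← hc]
              push_cast [v]
              rfl)
            have h2 := congrArg (residue (Ov M n)) h0
            rw [map_zero, map_sum] at h2
            simp only [map_zsmul, hx] at h2
            have h3 := Fintype.linearIndependent_iff.1 hs (fun i => (c i : ZMod p)) (by
              rw [← h2]
              exact Finset.sum_congr rfl fun i _ => Int.cast_smul_eq_zsmul (ZMod p) (c i) _)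
            exact fun i => (ZMod.intCast_zmod_eq_zero_iff_dvd _ p).1 (h3 i)
          choose d hd' using h1
          have h4 : ∑ i, d i • v i = 0 := by
            have h5 : (p : ℤ) • ∑ i, d i • v i = 0 := by
              rw [Finset.smul_sum, ← hc]
              exact Finset.sum_congr rfl fun i _ => by rw [smul_smul, ← hd' i]
            exact (smul_eq_zero.1 h5).resolve_left
              (by exact_mod_cast (Fact.out : p.Prime).ne_zero)
          rw [pow_succ', hd' i]
          exact mul_dvd_mul_left _ (ih d h4 i)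
      by_contra h0
      have h1 := hdiv (c i₀).natAbs c hc i₀
      have h2 := Nat.le_of_dvd (Int.natAbs_pos.2 h0) (Int.natAbs_dvd_natAbs.2 h1)
      rw [Int.natAbs_pow, Int.natAbs_natCast] at h2
      exact absurd h2 (not_le.2 (Nat.lt_pow_self (Fact.out : p.Prime).one_lt))
    have h5 := ((LinearIndependent.iff_fractionRing ℤ ℚ).1 hli).fintype_card_le_finrank
    rwa [Fintype.card_coe] at h5
  have : Module.Finite (ZMod p) (ResidueField (Ov M n)) :=
    Module.rank_lt_aleph0_iff.1 (lt_of_le_of_lt hrank (Cardinal.natCast_lt_aleph0))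
  exact Module.finite_of_finite (ZMod p)

variable {K : Type u} [Group K] [Fintype K]

/-- The idempotent of a set of characters over the unramified ring. -/
lemma exists_ov_blockElem (hM : IsPModular p M) (hn : ¬ p ∣ n) (hK : ¬ p ∣ Nat.card K)
    (hord : ∀ g : K, orderOf g ∣ n) (B : Set (IrrCharacter K)) :
    ∃ a : MonoidAlgebra (Ov M n) K, cA M n a = blockElem B := by
  have : NeZero n := ⟨fun h => hn (h ▸ dvd_zero p)⟩
  have h1 : ∀ g, blockCoeff B g ∈ cycField n ∧ blockCoeff B g ∈ place M := by
    intro g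
    rw [blockCoeff_eq_sum]
    have hu := (isUnitAt_natCast hM hK).inv
    refine ⟨mul_mem (inv_mem (natCast_mem _ _)) (sum_mem fun χ _ => ?_),
      mul_mem hu.mem_place (sum_mem fun χ _ => ?_)⟩
    · rw [← IsCharacter.conj_inv (isCharacter_of_irr χ.2)]
      exact mul_mem (IsCharacter.mem_cycField (isCharacter_of_irr χ.2) (hord 1))
        (IsCharacter.mem_cycField (isCharacter_of_irr χ.2) (hord _))
    · rw [← IsCharacter.conj_inv (isCharacter_of_irr χ.2)]
      exact mul_mem (isIntegral_mem_place hM (IsCharacter.isIntegral (isCharacter_of_irr χ.2) _))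
        (isIntegral_mem_place hM (IsCharacter.isIntegral (isCharacter_of_irr χ.2) _))
  choose c hc using fun g => exists_oC (h1 g).1 (h1 g).2
  exact ⟨ofFn c, fn_ext fun g => by rw [fn_cA, fn_ofFn, hc, fn_blockElem]⟩

lemma blockElem_mul_blockElem (A B : Set (IrrCharacter K)) :
    blockElem A * blockElem B = blockElem (A ∩ B) := by
  refine eq_of_omega_eq ((isCentralFn_blockElem A).mul (isCentralFn_blockElem B))
    (isCentralFn_blockElem _) fun χ => ?_
  rw [omega_mul χ (isCentralFn_blockElem A), omega_blockElem, omega_blockElem, omega_blockElem]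
  by_cases h1 : χ ∈ A <;> by_cases h2 : χ ∈ B <;> simp [h1, h2]

lemma sum_blockElem_single : ∑ ψ : IrrCharacter K, blockElem ({ψ} : Set (IrrCharacter K)) = 1 := by
  refine eq_of_omega_eq (IsCentralFn.sum _ _ fun _ _ => isCentralFn_blockElem _) isCentralFn_one
    fun χ => ?_
  rw [omega_sum, omega_one]
  simp only [omega_blockElem, Set.mem_singleton_iff]
  rw [Finset.sum_ite_eq Finset.univ χ (fun _ => (1 : ℂ)), if_pos (Finset.mem_univ χ)]

variable {G : Type u} [Group G] [Fintype G]

set_option synthInstance.maxHeartbeats 200000 in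
set_option maxHeartbeats 1000000 in
/-- The multiplicity sum of a rational family is at most one in absolute value. -/
theorem Cyc.natAbs_mu_sum_le_one (C : Cyc G p) (hM : IsPModular p M) (hn : ¬ p ∣ n)
    (hG : Nat.card G ∣ p * n) (S : Finset (IrrCharacter G)) {x : ℕ} (hxn : x < n)
    {χ₁ : IrrCharacter G} (hdeg : (χ₁ : G → ℂ) 1 = x)
    (hconj : ∀ χ ∈ S, ∃ σ : ℂ ≃+* ℂ, (∀ z ∈ cycField n, σ z = z) ∧
      ∀ g, (χ : G → ℂ) g = σ ((χ₁ : G → ℂ) g))
    (hsum : ∀ g, ∑ χ ∈ S, (χ : G → ℂ) g ∈ cycField n)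
    {θ : C.V → ℂ} (hθ : Cfsg.IsIrrCharacter C.V θ) (τ : ℤ)
    (hval : ∀ i : ZMod p, i ≠ 0 → ∑ χ ∈ S, C.mu (χ : G → ℂ) θ i = (τ : ℂ)) :
    τ.natAbs ≤ 1 := by
  obtain ⟨L⟩ := exists_familyLattice S hM hn hG hdeg hconj hsum
  have hdvr := isDVR hM hn
  have : CharZero (Ov M n) := ⟨fun a b h => by
    have := congrArg (oC M n) h
    simpa using this⟩
  have hpi := maximalIdeal_eq hM hn
  have := finite_residue hM hn
  let ρ : G →* Module.End (Ov M n) (Fin L.r → Ov M n) :=
    L.act.toMonoidHom.comp (MonoidAlgebra.of (Ov M n) G)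
  set N := Subgroup.normalizer (Subgroup.zpowers C.y : Set G)
  have hp := (Fact.out : p.Prime)
  have hord : ∀ h : C.H, orderOf h ∣ n := fun h => by
    have h1 : ¬ p ∣ orderOf h := fun hd => C.not_dvd (hd.trans (orderOf_dvd_natCard h))
    refine (hp.coprime_iff_not_dvd.2 h1).symm.dvd_of_dvd_mul_left ?_
    rw [← Subgroup.orderOf_coe]
    exact (orderOf_dvd_natCard _).trans hG
  choose a ha using fun B => exists_ov_blockElem (K := C.H) hM hn C.not_dvd hord B
  have hcent : ∀ B, IsCentralFn (a B) := fun B g h => oC_injective (by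
    rw [← fn_cA, ← fn_cA, ha]
    exact isCentralFn_blockElem B g h)
  set Pi0 := subAct ρ C.H with hPi0
  set aO := a (C.overSet θ)
  set E := Pi0 aO with hE
  have haO : ∀ h, oC M n (fn aO h) =
      (Nat.card C.H : ℂ)⁻¹ * ((C.orbDeg θ : ℂ) * conj (Cfsg.indFun C.V θ h)) := fun h => by
    rw [← fn_cA, ha, fn_blockElem, C.blockCoeff_overSet hθ]
  have haO0 : ∀ h, h ∉ C.V → fn aO h = 0 := fun h hh => oC_injective (by
    rw [haO, indFun_normal_not_mem C.V θ hh, map_zero, map_zero, mul_zero, mul_zero])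
  have hPi0sum : ∀ z, Pi0 z = ∑ h : C.H, fn z h • ρ h := fun z => by
    conv_lhs => rw [eq_sum_single z, map_sum]
    refine Finset.sum_congr rfl fun h _ => ?_
    rw [show MonoidAlgebra.single h (fn z h) = fn z h • (MonoidAlgebra.single h (1 : Ov M n) :
      MonoidAlgebra (Ov M n) C.H) from fn_ext fun y => by
        rw [fn_smul, fn_single, fn_single]; split_ifs <;> simp, map_smul, subAct_single]
  have hEE : E * E = E := by
    rw [hE, ← map_mul]
    congr 1
    refine cA_injective ?_
    rw [map_mul, ha, blockElem_mul_self]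
  have hEn : ∀ g ∈ N, Commute E (ρ g) := by
    intro g hg
    obtain ⟨i, h, hh, rfl⟩ := C.decomp g hg
    have h1 : Commute E (ρ C.y) := by
      rw [hE, hPi0sum]
      refine Commute.sum_left _ _ _ fun v _ => ?_
      by_cases hv : v ∈ C.V
      · have := C.commute_V ⟨v, hv⟩ 1
        rw [C.yP_one] at this
        exact (this.map ρ).smul_left _
      · rw [haO0 v hv, zero_smul]
        exact Commute.zero_left _
    have h2 : Commute E (ρ h) := by
      rw [hE, show ρ h = Pi0 (MonoidAlgebra.single (⟨h, hh⟩ : C.H) 1) from (subAct_single ρ C.H ⟨h, hh⟩).symm]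
      exact (show Commute aO _ from (hcent _).comm _).map Pi0
    rw [map_mul, map_pow]
    exact (h1.pow_right i).mul_right h2
  have hfree : ∀ g, g ∉ N → g⁻¹ * C.y * g ∉ N := by
    intro g hg hmem
    apply hg
    set z := g⁻¹ * C.y * g with hz
    have hzp : z ^ p = 1 := by
      have e := conj_pow (i := p) (a := g⁻¹) (b := C.y)
      rw [inv_inv] at e
      rw [hz, e, orderOf_dvd_iff_pow_eq_one.1 (dvd_of_eq C.order), mul_one, inv_mul_cancel]
    obtain ⟨i, h, hh, e⟩ := C.decomp z hmem
    have hpow : ∀ k : ℕ, ∃ j : ZMod p, z ^ k = C.yP j * h ^ k := by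
      intro k
      induction k with
      | zero => exact ⟨0, by simp⟩
      | succ k ih =>
        obtain ⟨j, hj⟩ := ih
        refine ⟨j + (C.act (⟨h, hh⟩ ^ k) : ZMod p) * i, ?_⟩
        rw [pow_succ, hj, e, ← C.yP_natCast, C.yP_add, pow_succ h k, ← C.conj_yP,
          SubmonoidClass.coe_pow]
        group
    obtain ⟨j, hj⟩ := hpow p
    rw [hzp] at hj
    have hh1 : h = 1 := by
      have h0 : h ^ p = C.yP (-j) := by rw [C.yP_neg, eq_inv_of_mul_eq_one_right hj.symm]
      have h2 : (C.yP (-j)) ^ Nat.card C.H = 1 := by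
        rw [← h0, ← pow_mul, mul_comm, pow_mul, show h ^ Nat.card C.H = 1 from
          congrArg Subtype.val (pow_card_eq_one' (x := (⟨h, hh⟩ : C.H))), one_pow]
      rw [C.yP_pow] at h2
      have h3 := (mul_eq_zero.1 (C.yP_injective (h2.trans C.yP_zero.symm))).resolve_left
        C.card_cast_ne_zero
      rw [h3, C.yP_zero] at h0
      exact orderOf_eq_one_iff.1 (Nat.eq_one_of_dvd_coprimes (hp.coprime_iff_not_dvd.2 C.not_dvd)
        (orderOf_dvd_of_pow_eq_one h0) (Subgroup.orderOf_dvd_natCard C.H hh))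
    rw [hh1, mul_one, ← C.yP_natCast] at e
    exact C.norm_of_mem (i := 1) (j := i) one_ne_zero (by rw [C.yP_one, ← hz]; exact e)
  have hS : Setup p ρ E C.y N C.H :=
    { order := C.order
      mem := Subgroup.le_normalizer (Subgroup.mem_zpowers C.y)
      free := hfree
      le := C.le_norm
      decomp := C.decomp
      norm := fun h hh => ⟨_, C.conj_y ⟨h, hh⟩⟩
      not_dvd := C.not_dvd
      idem := hEE
      comm := hEn
      central := fun Φ hΦ => by
        rw [hE, hPi0sum]
        exact Commute.sum_left _ _ _ fun v _ => (hΦ v).smul_left _ }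
  have : Fintype (G ⧸ N) := Fintype.ofFinite _
  -- the trace
  set D := C.orbDeg θ
  have htr : ∀ i, 0 < i → i < p →
      LinearMap.trace (Ov M n) _ (E * ρ C.y ^ i) = (((x : ℤ) * D * τ : ℤ) : Ov M n) := by
    intro i hi hip
    apply oC_injective (M := M) (n := n)
    have hi0 : (i : ZMod p) ≠ 0 := by
      rw [Ne, ZMod.natCast_eq_zero_iff]
      exact fun hd => absurd (Nat.le_of_dvd hi hd) (by omega)
    rw [hE, hPi0sum, Finset.sum_mul, map_sum, map_sum, map_intCast]
    have hterm : ∀ h : C.H, oC M n (LinearMap.trace (Ov M n) _ (fn aO h • ρ h * ρ C.y ^ i)) =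
        oC M n (fn aO h) * ((x : ℂ) * ∑ χ ∈ S, (χ : G → ℂ) ((h : G) * C.y ^ i)) := fun h => by
      rw [smul_mul_assoc, map_smul, smul_eq_mul, map_mul, ← map_pow, ← map_mul ρ]
      exact congrArg _ (L.trace_eq _)
    rw [Finset.sum_congr rfl fun h _ => hterm h]
    have hsupp : ∑ h : C.H, oC M n (fn aO h) * ((x : ℂ) * ∑ χ ∈ S, (χ : G → ℂ) ((h : G) * C.y ^ i)) =
        ∑ v : C.V, oC M n (fn aO v) * ((x : ℂ) * ∑ χ ∈ S, (χ : G → ℂ) (C.el (i : ZMod p) v)) := by
      symm
      refine Eq.trans ?_ (Finset.sum_subset (Finset.subset_univ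
        (Finset.univ.filter fun h : C.H => h ∈ C.V)) fun h _ hh => ?_)
      · rw [Finset.sum_subtype (p := fun h => h ∈ C.V) _ (fun h => by simp)]
        refine Finset.sum_congr rfl fun v _ => ?_
        rw [Cyc.el, ← (C.commute_V v _).eq, C.yP_natCast]
      · rw [haO0 h (fun hv => hh (Finset.mem_filter.2 ⟨Finset.mem_univ _, hv⟩)), map_zero, zero_mul]
    rw [hsupp]
    have hmu : ∀ h : C.H, ∑ χ ∈ S, ∑ v : C.V, (χ : G → ℂ) (C.el (i : ZMod p) v) *
        conj (conjN C.V h θ v) = (Nat.card C.V : ℂ) * τ := fun h => by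
      rw [← hval ((C.act h : ZMod p) * i) (mul_ne_zero (C.act h).ne_zero hi0), Finset.mul_sum]
      refine Finset.sum_congr rfl fun χ _ => ?_
      rw [← C.mu_conj (isClassFunction_irr χ), Cyc.mu, ← mul_assoc,
        mul_inv_cancel₀ (Nat.cast_ne_zero.2 Nat.card_pos.ne'), one_mul]
    have hind : ∀ v : C.V, conj (Cfsg.indFun C.V θ v) =
        (Nat.card C.V : ℂ)⁻¹ * ∑ h : C.H, conj (conjN C.V h θ v) := fun v => by
      rw [indFun_normal_mem, map_mul, map_inv₀, map_natCast, map_sum]
      rfl
    have hH0 : (Nat.card C.H : ℂ) ≠ 0 := Nat.cast_ne_zero.2 Nat.card_pos.ne'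
    have hV0 : (Nat.card C.V : ℂ) ≠ 0 := Nat.cast_ne_zero.2 Nat.card_pos.ne'
    calc ∑ v : C.V, oC M n (fn aO v) * ((x : ℂ) * ∑ χ ∈ S, (χ : G → ℂ) (C.el (i : ZMod p) v))
        = (Nat.card C.H : ℂ)⁻¹ * (D : ℂ) * x * (Nat.card C.V : ℂ)⁻¹ *
            ∑ h : C.H, ∑ χ ∈ S, ∑ v : C.V, (χ : G → ℂ) (C.el (i : ZMod p) v) *
              conj (conjN C.V h θ v) := by
          simp only [haO, hind, Finset.mul_sum, Finset.sum_mul]
          rw [Finset.sum_comm]
          refine (Finset.sum_congr rfl fun χ _ => Finset.sum_comm).trans ?_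
          rw [Finset.sum_comm]
          exact Finset.sum_congr rfl fun h _ => Finset.sum_congr rfl fun χ _ =>
            Finset.sum_congr rfl fun v _ => by ring
      _ = _ := by
          rw [Finset.sum_congr rfl fun h _ => hmu h, Finset.sum_const, Finset.card_univ,
            nsmul_eq_mul, ← Nat.card_eq_fintype_card]
          push_cast
          field_simp
  -- the small invariant subspaces
  have hsimple : ∀ W : Submodule (ResidueField (Ov M n)) _, (∀ v ∈ W, redE E v = v) →
      Inv ρ C.H W → W ≠ ⊥ → ∃ W' ≤ W, Inv ρ C.H W' ∧ W' ≠ ⊥ ∧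
        finrank (ResidueField (Ov M n)) W' ≤ D := by
    intro W hWE hWi hW0
    obtain ⟨w, hw, hw0⟩ := Submodule.exists_mem_ne_zero_of_ne_bot hW0
    have hpres : ∀ z, ∀ v ∈ W, redE (Pi0 z) v ∈ W := fun z v hv => by
      rw [hPi0sum, map_sum, LinearMap.sum_apply]
      refine W.sum_mem fun h _ => ?_
      rw [redE_smul]
      exact W.smul_mem _ (hWi h h.2 v hv)
    have hone : ∑ ψ : IrrCharacter C.H, a {ψ} = 1 := cA_injective (M := M) (n := n) (by
      rw [map_sum, map_one, Finset.sum_congr rfl fun ψ _ => ha {ψ}, sum_blockElem_single])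
    obtain ⟨ψ, hψ⟩ : ∃ ψ : IrrCharacter C.H, redE (Pi0 (a {ψ})) w ≠ 0 := by
      by_contra hall
      push Not at hall
      apply hw0
      have h1 := congrArg (fun z => redE (Pi0 z) w) hone
      simp only [map_sum, map_one, LinearMap.sum_apply, Module.End.one_apply, hall,
        Finset.sum_const_zero] at h1
      exact h1.symm
    have hψO : ψ ∈ C.overSet θ := by
      by_contra hno
      apply hψ
      rw [← hWE w hw, hE, ← Module.End.mul_apply, ← map_mul, ← map_mul]
      rw [show a {ψ} * aO = 0 from cA_injective (M := M) (n := n) (by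
        rw [map_mul, ha, ha, blockElem_mul_blockElem, map_zero]
        refine fn_ext fun g => ?_
        rw [fn_blockElem, fn_zero, blockCoeff_eq_sum, Finset.sum_eq_zero fun χ hχ => ?_, mul_zero]
        obtain ⟨rfl, h⟩ := (Finset.mem_filter.1 hχ).2
        exact absurd h hno)]
      simp
    have hidem : a {ψ} * a {ψ} = a {ψ} := cA_injective (M := M) (n := n) (by
      rw [map_mul, ha, blockElem_mul_self])
    set W₁ := W.map (redE (Pi0 (a {ψ}))) with hW₁
    have hW₁le : W₁ ≤ W := by
      rintro _ ⟨v, hv, rfl⟩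
      exact hpres _ v hv
    have hW₁i : Inv ρ C.H W₁ := by
      rintro h hh _ ⟨v, hv, rfl⟩
      refine ⟨redE (ρ h) v, hWi h hh v hv, ?_⟩
      rw [← Module.End.mul_apply, ← Module.End.mul_apply, ← map_mul, ← map_mul,
        show ρ h = Pi0 (MonoidAlgebra.single (⟨h, hh⟩ : C.H) 1) from (subAct_single ρ C.H ⟨h, hh⟩).symm,
        ← map_mul, ← map_mul, (hcent {ψ}).comm]
    obtain ⟨W', hle, hinv, hne, hd⟩ := exists_small_invariant ρ C.H (hS.card_ne_zero hpi) hidem
      (d := charDegree (ψ : C.H → ℂ)) (oC_injective (M := M) (n := n) (by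
        rw [map_mul, map_mul, map_natCast, map_natCast, ← fn_cA, ha, fn_blockElem_single, inv_one,
          irr_apply_one_eq_deg, ← mul_assoc,
          mul_inv_cancel₀ (Nat.cast_ne_zero.2 Nat.card_pos.ne'), one_mul]
        rfl))
      (fun z hz => by
        have hzc : IsCentralFn (cA M n z) := fun g h => by rw [fn_cA, fn_cA, hz g h]
        have hzI : Integral M (cA M n z) := fun g => by rw [fn_cA]; exact oC_mem_place _
        have : NeZero n := ⟨fun h => hn (h ▸ dvd_zero p)⟩
        have hm : omega (ψ : C.H → ℂ) (cA M n z) ∈ cycField n := by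
          rw [omega, chiEval]
          exact div_mem (sum_mem fun g _ => mul_mem (by rw [fn_cA]; exact oC_mem_cycField _)
            (IsCharacter.mem_cycField (isCharacter_of_irr ψ.2) (hord g)))
            (IsCharacter.mem_cycField (isCharacter_of_irr ψ.2) (hord 1))
        obtain ⟨c, hc⟩ := exists_oC hm (omega_mem_place hM ψ hzc hzI)
        refine ⟨c, cA_injective (M := M) (n := n) ?_⟩
        rw [map_mul, cA_smul, hc, ha]
        refine eq_of_omega_eq (hzc.mul (isCentralFn_blockElem _))
          ((isCentralFn_blockElem _).smul _) fun χ => ?_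
        rw [omega_mul χ hzc, omega_smul, omega_blockElem]
        split_ifs with h
        · rw [Set.mem_singleton_iff.1 h]
        · simp)
      hW₁i (fun h0 => hψ ((Submodule.eq_bot_iff _).1 h0 _ ⟨w, hw, rfl⟩))
      (by
        rintro _ ⟨v, hv, rfl⟩
        rw [← Module.End.mul_apply, ← map_mul, ← map_mul, hidem])
    refine ⟨W', hle.trans hW₁le, hinv, hne, hd.trans (le_of_eq ?_)⟩
    exact charDegree_of_eq (C.over_spec hθ hψO).1
  obtain ⟨sc, hsc⟩ := exists_scalars (M := M) hM hn
  have hv' : Function.Injective fun i : Fin (x + 1) => sc ⟨i, by omega⟩ := fun i j h =>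
    Fin.ext (by simpa using congrArg Fin.val (hsc h))
  have hb := hS.natAbs_le hpi ((x : ℤ) * D * τ) htr hsimple _ hv' fun Φ hΦ => by
    obtain ⟨f, hf1, hf2, s, hs, hroot⟩ := L.eig Φ hΦ
    refine ⟨f, hf1, hf2, (Finset.card_le_card fun l hl => hroot l ?_).trans hs⟩
    rw [Multiset.mem_toFinset] at hl
    exact Polynomial.isRoot_of_mem_roots hl
  rw [Int.natAbs_mul, Int.natAbs_mul, Int.natAbs_natCast, Int.natAbs_natCast] at hb
  rcases Nat.eq_zero_or_pos x with hx0 | hx0
  · exact absurd (by rw [hdeg, hx0]; simp) (IsIrrCharacter.apply_one_ne_zero χ₁.2)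
  · exact Nat.le_of_mul_le_mul_left (by rw [mul_one]; exact hb)
      (Nat.mul_pos hx0 (C.orbDeg_pos hθ))

end Cfsg.Lib.Blocks
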