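import Mathlib
import Cfsg.Agent.Blocks.OrbitBound
import Cfsg.Agent.Chars.FixedField

/-!
# Galois twists of characters and singular multiplicities
-/

set_option autoImplicit false
set_option linter.unusedSectionVars false

namespace Cfsg.Lib.Blocks

open Cfsg.Lib.Chars
open scoped ComplexConjugate Classical

universe u

variable {G : Type u} [Group G] [Fintype G] {p : ℕ} [Fact p.Prime]

/-- A multiple of the `p'`-part of the group order exceeding every degree. -/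
noncomputable def bigN (G : Type u) [Group G] (p : ℕ) : ℕ :=
  Nat.card G / p * (p * Nat.card G + 1)

namespace Cyc

variable (C : Cyc G p)
include C

lemma dvd_card : p ∣ Nat.card G := C.order ▸ orderOf_dvd_natCard C.y

lemma not_dvd_div : ¬ p ∣ Nat.card G / p := fun h =>
  C.sq (by rw [pow_two]; exact Nat.mul_dvd_of_dvd_div C.dvd_card h)

lemma card_dvd_mul {m : ℕ} (h : Nat.card G / p ∣ m) : Nat.card G ∣ p * m := by
  conv_lhs => rw [← Nat.mul_div_cancel' C.dvd_card]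
  exact mul_dvd_mul_left p h

lemma not_dvd_bigN : ¬ p ∣ bigN G p := by
  rw [bigN, (Fact.out : p.Prime).dvd_mul]
  rintro (h | h)
  · exact C.not_dvd_div h
  · exact (Fact.out : p.Prime).not_dvd_one ((Nat.dvd_add_right (dvd_mul_right p _)).1 h)

lemma card_lt_bigN : Nat.card G < bigN G p := by
  have h1 : 1 ≤ Nat.card G / p := Nat.one_le_div_iff (Fact.out : p.Prime).pos |>.2
    (Nat.le_of_dvd Nat.card_pos C.dvd_card)
  have h2 : Nat.card G ≤ p * Nat.card G := Nat.le_mul_of_pos_left _ (Fact.out : p.Prime).pos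
  have h3 : p * Nat.card G + 1 ≤ bigN G p := Nat.le_mul_of_pos_left _ h1
  omega

lemma orderOf_dvd_of_regular {m : ℕ} (hm : Nat.card G / p ∣ m) {g : G} (hg : ¬ p ∣ orderOf g) :
    orderOf g ∣ m :=
  ((Fact.out : p.Prime).coprime_iff_not_dvd.2 hg).symm.dvd_of_dvd_mul_left
    ((orderOf_dvd_natCard g).trans (C.card_dvd_mul hm))

lemma orderOf_V_dvd {m : ℕ} (hm : Nat.card G / p ∣ m) (v : C.V) : orderOf v ∣ m := by
  rw [← Subgroup.orderOf_coe, ← Subgroup.orderOf_coe]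
  refine C.orderOf_dvd_of_regular hm fun h => C.not_dvd (h.trans ?_)
  rw [Subgroup.orderOf_coe]
  exact orderOf_dvd_natCard _

omit C

lemma psi_one_eq : psi p 1 = zetaC p := by
  have := ZMod.stdAddChar_coe (N := p) 1
  simpa [zetaC] using this

lemma isPrimitiveRoot_psi : IsPrimitiveRoot (psi p 1) p := by
  have : NeZero p := ⟨(Fact.out : p.Prime).ne_zero⟩
  rw [psi_one_eq]
  exact isPrimitiveRoot_zetaC p

lemma map_psi {σ : ℂ ≃+* ℂ} {c : ZMod p} (h : σ (psi p 1) = psi p c) (j : ZMod p) :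
    σ (psi p j) = psi p (c * j) := by
  rw [← ZMod.natCast_zmod_val j, ← nsmul_one (A := ZMod p), AddChar.map_nsmul_eq_pow, map_pow, h,
    ← AddChar.map_nsmul_eq_pow, nsmul_eq_mul, nsmul_one, mul_comm]

lemma exists_unit_psi (σ : ℂ ≃+* ℂ) : ∃ c : (ZMod p)ˣ, σ (psi p 1) = psi p (c : ZMod p) := by
  have : NeZero p := ⟨(Fact.out : p.Prime).ne_zero⟩
  have h1 : σ (psi p 1) ^ p = 1 := by
    rw [← map_pow, isPrimitiveRoot_psi.pow_eq_one, map_one]
  obtain ⟨i, -, hi⟩ := isPrimitiveRoot_psi.eq_pow_of_pow_eq_one h1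
  rw [← AddChar.map_nsmul_eq_pow, nsmul_one] at hi
  have hne : (i : ZMod p) ≠ 0 := fun h => by
    rw [h, AddChar.map_zero_eq_one, eq_comm, ← map_one σ, σ.injective.eq_iff] at hi
    exact (Fact.out : p.Prime).ne_one (by
      have := isPrimitiveRoot_psi.eq_orderOf (ζ := psi p 1)
      rw [hi, orderOf_one] at this
      exact this)
  exact ⟨Units.mk0 _ hne, hi.symm⟩

/-- Two automorphisms agreeing on the `p`-th and the `m`-th roots of unity agree on the field of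
`pm`-th roots of unity. -/
lemma auto_eq_of_agree {m : ℕ} (hm : ¬ p ∣ m) {σ τ : ℂ ≃+* ℂ} (h1 : σ (psi p 1) = τ (psi p 1))
    (h2 : σ (zetaC m) = τ (zetaC m)) {z : ℂ} (hz : z ∈ cycField (p * m)) : σ z = τ z := by
  have : NeZero p := ⟨(Fact.out : p.Prime).ne_zero⟩
  have : NeZero m := ⟨fun h => hm (h ▸ dvd_zero p)⟩
  have hp := (Fact.out : p.Prime)
  suffices h : (σ.trans τ.symm) z = z by
    have := congrArg τ h
    simpa using this
  refine fixed_adjoin (fun s hs => ?_) z hz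
  rw [Set.mem_singleton_iff] at hs
  subst hs
  have ha : (σ.trans τ.symm) (psi p 1) = psi p 1 := by simp [h1]
  have hb : (σ.trans τ.symm) (zetaC m) = zetaC m := by simp [h2]
  have hco : Nat.Coprime p m := hp.coprime_iff_not_dvd.2 hm
  obtain ⟨e₁, he₁, he₁'⟩ := Nat.chineseRemainder hco 1 0
  obtain ⟨e₂, he₂, he₂'⟩ := Nat.chineseRemainder hco 0 1
  set w := zetaC (p * m)
  have hw : w ^ (p * m) = 1 := (isPrimitiveRoot_zetaC (p * m)).pow_eq_one
  have hsplit : w = w ^ e₁ * w ^ e₂ := by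
    rw [← pow_add]
    conv_lhs => rw [← pow_one w]
    refine pow_eq_pow_of_modEq ?_ hw
    refine ((Nat.modEq_and_modEq_iff_modEq_mul hco).1 ⟨?_, ?_⟩).symm
    · simpa using he₁.add he₂
    · simpa using he₁'.add he₂'
  obtain ⟨i, -, hi⟩ := isPrimitiveRoot_psi.eq_pow_of_pow_eq_one
    (show (w ^ e₁) ^ p = 1 by
      obtain ⟨d, hd⟩ := Nat.modEq_zero_iff_dvd.1 he₁'
      rw [← pow_mul, hd, mul_comm (m * d), ← mul_assoc, pow_mul, hw, one_pow])
  obtain ⟨j, -, hj⟩ := (isPrimitiveRoot_zetaC m).eq_pow_of_pow_eq_one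
    (show (w ^ e₂) ^ m = 1 by
      obtain ⟨d, hd⟩ := Nat.modEq_zero_iff_dvd.1 he₂
      rw [← pow_mul, hd, mul_comm (p * d), ← mul_assoc, mul_comm m p, pow_mul, hw, one_pow])
  rw [hsplit, ← hi, ← hj, map_mul, map_pow, map_pow, ha, hb]

lemma exists_gal {m : ℕ} (hm : ¬ p ∣ m) (c : (ZMod p)ˣ) :
    ∃ σ : ℂ ≃+* ℂ, (∀ z ∈ cycField m, σ z = z) ∧ σ (psi p 1) = psi p (c : ZMod p) := by
  have hp := (Fact.out : p.Prime)
  have : NeZero m := ⟨fun h => hm (h ▸ dvd_zero p)⟩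
  have : NeZero p := ⟨hp.ne_zero⟩
  have hco : Nat.Coprime p m := hp.coprime_iff_not_dvd.2 hm
  obtain ⟨k, hk1, hk2⟩ := Nat.chineseRemainder hco (c : ZMod p).val 1
  have hk : k.Coprime (p * m) := by
    refine Nat.Coprime.mul_right ?_ ?_
    · refine (hp.coprime_iff_not_dvd.2 fun h => c.ne_zero ?_).symm
      rw [← ZMod.natCast_zmod_val (c : ZMod p), ZMod.natCast_eq_zero_iff]
      exact (hk1.dvd_iff dvd_rfl).1 h
    · unfold Nat.Coprime
      rw [hk2.gcd_eq]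
      exact Nat.gcd_one_left m
  obtain ⟨σ, hσ⟩ := exists_galConj_auto (m := p * m) hk
  refine ⟨σ, fun z hz => fixed_adjoin (fun s hs => ?_) z hz, ?_⟩
  · rw [Set.mem_singleton_iff] at hs
    subst hs
    have h1 := (isPrimitiveRoot_zetaC m).pow_eq_one
    rw [hσ _ (by rw [mul_comm, pow_mul, h1, one_pow])]
    conv_rhs => rw [← pow_one (zetaC m)]
    exact pow_eq_pow_of_modEq hk2 h1
  · have h1 := (isPrimitiveRoot_psi (p := p)).pow_eq_one
    rw [hσ _ (by rw [pow_mul, h1, one_pow]), ← AddChar.map_nsmul_eq_pow, nsmul_one,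
      ← ZMod.natCast_zmod_val (c : ZMod p)]
    congr 1
    exact (ZMod.natCast_eq_natCast_iff _ _ _).2 hk1

/-- The automorphism attached to a unit. -/
noncomputable def gal (C : Cyc G p) (c : (ZMod p)ˣ) : ℂ ≃+* ℂ :=
  Classical.choose (exists_gal C.not_dvd_bigN c)

variable (C : Cyc G p)

lemma gal_fix (c : (ZMod p)ˣ) {z : ℂ} (hz : z ∈ cycField (bigN G p)) : C.gal c z = z :=
  (Classical.choose_spec (exists_gal C.not_dvd_bigN c)).1 z hz

lemma gal_psi (c : (ZMod p)ˣ) (j : ZMod p) : C.gal c (psi p j) = psi p ((c : ZMod p) * j) :=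
  map_psi (Classical.choose_spec (exists_gal C.not_dvd_bigN c)).2 j

include C in
lemma value_mem (χ : IrrCharacter G) (g : G) {m : ℕ} (hm : Nat.card G / p ∣ m) [NeZero (p * m)] :
    (χ : G → ℂ) g ∈ cycField (p * m) :=
  IsCharacter.mem_cycField (isCharacter_of_irr χ.2)
    ((orderOf_dvd_natCard g).trans (C.card_dvd_mul hm))

include C in
lemma regular_mem (χ : IrrCharacter G) {g : G} (hg : ¬ p ∣ orderOf g) :
    (χ : G → ℂ) g ∈ cycField (bigN G p) := by
  have : NeZero (bigN G p) := ⟨fun h => C.not_dvd_bigN (h ▸ dvd_zero p)⟩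
  exact IsCharacter.mem_cycField (isCharacter_of_irr χ.2)
    (C.orderOf_dvd_of_regular (dvd_mul_right _ _) hg)

/-- The twist of a character. -/
noncomputable def twist (c : (ZMod p)ˣ) (χ : IrrCharacter G) : IrrCharacter G :=
  ⟨fun g => C.gal c ((χ : G → ℂ) g), IsIrrCharacter.map_auto χ.2 _⟩

lemma twist_apply (c : (ZMod p)ˣ) (χ : IrrCharacter G) (g : G) :
    (C.twist c χ : G → ℂ) g = C.gal c ((χ : G → ℂ) g) := rfl

lemma twist_regular (c : (ZMod p)ˣ) (χ : IrrCharacter G) {g : G} (hg : ¬ p ∣ orderOf g) :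
    (C.twist c χ : G → ℂ) g = (χ : G → ℂ) g := C.gal_fix c (C.regular_mem χ hg)

/-- An automorphism fixing the roots of unity of order prime to `p` acts as a twist. -/
lemma exists_twist_eq {σ : ℂ ≃+* ℂ} {m : ℕ} (hm : Nat.card G / p ∣ m) (hm' : ¬ p ∣ m)
    (hmN : m ∣ bigN G p) (hσ : σ (zetaC m) = zetaC m) (χ : IrrCharacter G) :
    ∃ c : (ZMod p)ˣ, ∀ g, σ ((χ : G → ℂ) g) = (C.twist c χ : G → ℂ) g := by
  obtain ⟨c, hc⟩ := exists_unit_psi (p := p) σ
  refine ⟨c, fun g => ?_⟩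
  have : NeZero m := ⟨fun h => hm' (h ▸ dvd_zero p)⟩
  have : NeZero (bigN G p) := ⟨fun h => C.not_dvd_bigN (h ▸ dvd_zero p)⟩
  have : NeZero (p * m) := ⟨Nat.mul_ne_zero (Fact.out : p.Prime).ne_zero (NeZero.ne m)⟩
  refine auto_eq_of_agree hm' ?_ ?_ (C.value_mem χ g hm)
  · rw [hc, C.gal_psi, mul_one]
  · rw [hσ, C.gal_fix]
    obtain ⟨d, hd⟩ := hmN
    exact mem_cycField_of_pow_eq_one _ (by
      rw [hd, pow_mul, (isPrimitiveRoot_zetaC m).pow_eq_one, one_pow])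

lemma twist_twist (a b : (ZMod p)ˣ) (χ : IrrCharacter G) :
    C.twist a (C.twist b χ) = C.twist (a * b) χ := by
  refine Subtype.ext (funext fun g => ?_)
  have : NeZero (bigN G p) := ⟨fun h => C.not_dvd_bigN (h ▸ dvd_zero p)⟩
  have : NeZero (p * bigN G p) := ⟨Nat.mul_ne_zero (Fact.out : p.Prime).ne_zero (NeZero.ne _)⟩
  have hz : zetaC (bigN G p) ∈ cycField (bigN G p) :=
    mem_cycField_of_pow_eq_one _ (isPrimitiveRoot_zetaC _).pow_eq_one
  show ((C.gal b).trans (C.gal a)) ((χ : G → ℂ) g) = C.gal (a * b) ((χ : G → ℂ) g)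
  refine auto_eq_of_agree C.not_dvd_bigN ?_ ?_ (C.value_mem χ g (dvd_mul_right _ _))
  · simp only [RingEquiv.trans_apply, gal_psi]
    rw [Units.val_mul, mul_assoc]
  · simp only [RingEquiv.trans_apply, C.gal_fix _ hz]

lemma twist_one (χ : IrrCharacter G) : C.twist 1 χ = χ := by
  refine Subtype.ext (funext fun g => ?_)
  have : NeZero (bigN G p) := ⟨fun h => C.not_dvd_bigN (h ▸ dvd_zero p)⟩
  have : NeZero (p * bigN G p) := ⟨Nat.mul_ne_zero (Fact.out : p.Prime).ne_zero (NeZero.ne _)⟩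
  show C.gal 1 ((χ : G → ℂ) g) = (RingEquiv.refl ℂ) ((χ : G → ℂ) g)
  refine auto_eq_of_agree C.not_dvd_bigN ?_ ?_ (C.value_mem χ g (dvd_mul_right _ _))
  · simp [gal_psi]
  · exact C.gal_fix 1 (mem_cycField_of_pow_eq_one _ (isPrimitiveRoot_zetaC _).pow_eq_one)

/-! ### Integral multiplicities -/

/-- The multiplicities as integers. -/
noncomputable def bI (χ : IrrCharacter G) (θ : IrrCharacter C.V) (k : ZMod p) : ℤ :=
  Classical.choose (C.exists_int_bb (isCharacter_of_irr χ.2) k (isCharacter_of_irr θ.2))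

lemma bb_eq (χ : IrrCharacter G) (θ : IrrCharacter C.V) (k : ZMod p) :
    C.bb (χ : G → ℂ) (θ : C.V → ℂ) k = (C.bI χ θ k : ℂ) :=
  Classical.choose_spec (C.exists_int_bb (isCharacter_of_irr χ.2) k (isCharacter_of_irr θ.2))

lemma bI_zero (χ : IrrCharacter G) (θ : IrrCharacter C.V) : C.bI χ θ 0 = 0 :=
  Int.cast_injective (α := ℂ) (by rw [← C.bb_eq, C.bb_zero, Int.cast_zero])

lemma gal_mu (c : (ZMod p)ˣ) (χ : IrrCharacter G) (θ : IrrCharacter C.V) (i : ZMod p) :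
    C.mu (C.twist c χ : G → ℂ) (θ : C.V → ℂ) i = C.gal c (C.mu (χ : G → ℂ) (θ : C.V → ℂ) i) := by
  have : NeZero (bigN G p) := ⟨fun h => C.not_dvd_bigN (h ▸ dvd_zero p)⟩
  rw [Cyc.mu, Cyc.mu, map_mul, map_inv₀, map_natCast, map_sum]
  congr 1
  refine Finset.sum_congr rfl fun v _ => ?_
  rw [map_mul, C.twist_apply]
  congr 1
  refine (C.gal_fix c ?_).symm
  rw [← IsCharacter.conj_inv (isCharacter_of_irr θ.2)]
  exact IsCharacter.mem_cycField (isCharacter_of_irr θ.2)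
    (C.orderOf_V_dvd (dvd_mul_right _ _) _)

lemma bI_twist (c : (ZMod p)ˣ) (χ : IrrCharacter G) (θ : IrrCharacter C.V) (k : ZMod p) :
    C.bI (C.twist c χ) θ ((c : ZMod p) * k) = C.bI χ θ k := by
  apply Int.cast_injective (α := ℂ)
  rw [← C.bb_eq, ← map_intCast (C.gal c), ← C.bb_eq, Cyc.bb, Cyc.bb, map_mul, map_inv₀,
    map_natCast, map_sum]
  congr 1
  refine Finset.sum_congr rfl fun i _ => ?_
  rw [map_mul, C.gal_mu, map_sub, map_one, C.gal_psi]
  congr 3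
  ring

lemma bI_coset (χ : IrrCharacter G) (θ : IrrCharacter C.V) {u : (ZMod p)ˣ}
    (hu : u ∈ C.E (θ : C.V → ℂ)) (v : (ZMod p)ˣ) :
    C.bI χ θ ((u * v : (ZMod p)ˣ) : ZMod p) = C.bI χ θ (v : ZMod p) := by
  apply Int.cast_injective (α := ℂ)
  rw [← C.bb_eq, ← C.bb_eq, Units.val_mul,
    C.bb_eq_of_coset θ.2 hu (isClassFunction_irr χ) v.ne_zero]

/-- The expansion of the induced generalized character. -/
lemma Z_expand (θ : IrrCharacter C.V) (k : ZMod p) (g : G) :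
    C.Z k (θ : C.V → ℂ) g = ∑ χ : IrrCharacter G, (C.bI χ θ k : ℂ) * (χ : G → ℂ) g := by
  rw [classFunction_expand_apply (f := C.Z k (θ : C.V → ℂ)) (isClassFunction_indFun _ _) g]
  refine Finset.sum_congr rfl fun χ _ => ?_
  rw [← classInner_conj_symm]
  show conj (Cfsg.classInner (χ : G → ℂ) (C.Z k (θ : C.V → ℂ))) * _ = _
  rw [C.classInner_Z (isClassFunction_irr χ), C.bb_eq, map_intCast]

/-- The Gram matrix. -/
lemma sum_bI_mul (θ : IrrCharacter C.V) {u v : (ZMod p)ˣ} :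
    ∑ χ : IrrCharacter G, C.bI χ θ u * C.bI χ θ v =
      (C.ee (θ : C.V → ℂ) : ℤ) + if u⁻¹ * v ∈ C.E (θ : C.V → ℂ) then 1 else 0 := by
  apply Int.cast_injective (α := ℂ)
  have h := C.classInner_Z_Z (θ := (θ : C.V → ℂ)) θ.2 (k := (u : ZMod p)) (l := (v : ZMod p))
    u.ne_zero v.ne_zero
  rw [show C.Z (u : ZMod p) (θ : C.V → ℂ) = ∑ χ : IrrCharacter G,
      (C.bI χ θ u : ℂ) • (χ : G → ℂ) from funext fun g => by
        rw [C.Z_expand, Finset.sum_apply]; rfl, classInner_sum_left] at h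
  simp only [classInner_smul_left, C.classInner_Z (isClassFunction_irr _), C.bb_eq] at h
  push_cast
  rw [h]
  congr 1
  refine if_congr ⟨?_, fun hm => ⟨_, hm, ?_⟩⟩ rfl rfl
  · rintro ⟨w, hw, e⟩
    rw [← Units.val_mul, Units.val_inj] at e
    rwa [← e, mul_comm w u, inv_mul_cancel_left]
  · rw [← Units.val_mul, Units.val_inj, mul_comm, mul_inv_cancel_left]

lemma mu_eq_bI (χ : IrrCharacter G) (θ : IrrCharacter C.V) {i : ZMod p} (hi : i ≠ 0) :
    C.mu (χ : G → ℂ) (θ : C.V → ℂ) i =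
      -∑ u : (ZMod p)ˣ, (C.bI χ θ u : ℂ) * psi p ((u : ZMod p) * i) := by
  rw [C.mu_eq_neg_sum _ _ hi]
  congr 1
  simp only [C.bb_eq]
  rw [← Finset.sum_subset (Finset.subset_univ ((Finset.univ : Finset (ZMod p)).erase 0))
    fun k _ hk => ?_]
  · refine Finset.sum_bij (fun k hk => Units.mk0 k (Finset.mem_erase.1 hk).1)
      (fun _ _ => Finset.mem_univ _) (fun a _ b _ e => congrArg Units.val e)
      (fun u _ => ⟨u, Finset.mem_erase.2 ⟨u.ne_zero, Finset.mem_univ _⟩, Units.ext rfl⟩)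
      fun _ _ => rfl
  · have : k = 0 := by simpa using hk
    simp [this, C.bI_zero]

lemma sum_units_psi {i : ZMod p} (hi : i ≠ 0) :
    ∑ u : (ZMod p)ˣ, psi p ((u : ZMod p) * i) = -1 := by
  have h := sum_psi_mul i
  rw [if_neg hi, ← Finset.add_sum_erase _ _ (Finset.mem_univ (0 : ZMod p)), zero_mul,
    AddChar.map_zero_eq_one] at h
  rw [← eq_neg_of_add_eq_zero_right h]
  exact (Finset.sum_bij (fun k hk => Units.mk0 k (Finset.mem_erase.1 hk).1)
    (fun _ _ => Finset.mem_univ _) (fun a _ b _ e => congrArg Units.val e)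
    (fun u _ => ⟨u, Finset.mem_erase.2 ⟨u.ne_zero, Finset.mem_univ _⟩, Units.ext rfl⟩)
    fun _ _ => rfl).symm

/-- The twist orbit. -/
noncomputable def orbit (χ : IrrCharacter G) : Finset (IrrCharacter G) :=
  Finset.univ.image fun c : (ZMod p)ˣ => C.twist c χ

lemma mem_orbit {χ ψ : IrrCharacter G} : ψ ∈ C.orbit χ ↔ ∃ c, C.twist c χ = ψ := by
  simp [orbit]

/-- The constant total of a twist orbit is at most one in absolute value. -/
theorem natAbs_orbit_le_one {M : Ideal AlgInt} (hM : IsPModular p M) (χ : IrrCharacter G)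
    (θ : IrrCharacter C.V) (T : ℤ)
    (h : ∀ u : (ZMod p)ˣ, ∑ ψ ∈ C.orbit χ, C.bI ψ θ u = T) : T.natAbs ≤ 1 := by
  have : NeZero (bigN G p) := ⟨fun h => C.not_dvd_bigN (h ▸ dvd_zero p)⟩
  have : NeZero p := ⟨(Fact.out : p.Prime).ne_zero⟩
  have hperm : ∀ (c : (ZMod p)ˣ) g, C.gal c (∑ ψ ∈ C.orbit χ, (ψ : G → ℂ) g) =
      ∑ ψ ∈ C.orbit χ, (ψ : G → ℂ) g := by
    intro c g
    rw [map_sum]
    refine Finset.sum_bij (fun ψ _ => C.twist c ψ) (fun ψ hψ => ?_) (fun a _ b _ e => ?_)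
      (fun ψ hψ => ⟨C.twist c⁻¹ ψ, ?_, by rw [twist_twist, mul_inv_cancel, twist_one]⟩)
      fun ψ _ => rfl
    · obtain ⟨d, rfl⟩ := C.mem_orbit.1 hψ
      exact C.mem_orbit.2 ⟨c * d, (C.twist_twist c d χ).symm⟩
    · have e' := congrArg (C.twist c⁻¹) e
      rwa [twist_twist, twist_twist, inv_mul_cancel, twist_one, twist_one] at e'
    · obtain ⟨d, rfl⟩ := C.mem_orbit.1 hψ
      exact C.mem_orbit.2 ⟨c⁻¹ * d, (C.twist_twist _ d χ).symm⟩
  refine C.natAbs_mu_sum_le_one hM C.not_dvd_bigN (C.card_dvd_mul (dvd_mul_right _ _))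
    (C.orbit χ) (x := charDegree (χ : G → ℂ)) ?_ (χ₁ := χ) (irr_apply_one_eq_deg χ) ?_ ?_ θ.2 T ?_
  · refine lt_of_le_of_lt ?_ C.card_lt_bigN
    exact Nat.le_of_dvd Nat.card_pos (IsIrrCharacter.deg_dvd χ.2)
  · intro ψ hψ
    obtain ⟨c, rfl⟩ := C.mem_orbit.1 hψ
    exact ⟨C.gal c, fun z hz => C.gal_fix c hz, fun g => rfl⟩
  · intro g
    have hle : ∀ s ∈ ({zetaC (bigN G p)} : Set ℂ), s ∈ cycField (p * bigN G p) := fun s hs => by
      rw [Set.mem_singleton_iff] at hs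
      subst hs
      exact mem_cycField_of_pow_eq_one _ (by
        rw [mul_comm, pow_mul, (isPrimitiveRoot_zetaC _).pow_eq_one, one_pow])
    refine mem_adjoin_of_fixed hle (sum_mem fun ψ _ => C.value_mem ψ g (dvd_mul_right _ _))
      fun σ k _ _ hσ => ?_
    obtain ⟨c, hc⟩ := exists_unit_psi (p := p) σ
    refine Eq.trans ?_ (hperm c g)
    refine auto_eq_of_agree C.not_dvd_bigN ?_ ?_
      (sum_mem fun ψ _ => C.value_mem ψ g (dvd_mul_right _ _))
    · rw [hc, C.gal_psi, mul_one]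
    · rw [hσ _ rfl, C.gal_fix c (mem_cycField_of_pow_eq_one _
        (isPrimitiveRoot_zetaC _).pow_eq_one)]
  · intro i hi
    rw [Finset.sum_congr rfl fun ψ _ => C.mu_eq_bI ψ θ hi, Finset.sum_neg_distrib, Finset.sum_comm]
    simp only [← Finset.sum_mul, ← Int.cast_sum, h, ← Finset.mul_sum, sum_units_psi hi]
    ring

end Cyc

end Cfsg.Lib.Blocks
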