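import Mathlib
import Cfsg.Agent.Blocks.OrbitGalois
import Cfsg.Agent.Chars.NormTwo

/-!
# The exceptional family and the signed characters attached to an orbit
-/

set_option autoImplicit false
set_option linter.unusedSectionVars false

namespace Cfsg.Lib.Blocks

open Cfsg.Lib.Chars
open scoped ComplexConjugate Classical

universe u

variable {G : Type u} [Group G] [Fintype G] {p : ℕ} [Fact p.Prime]

namespace Cyc

/-- The exceptional family `ν` with sign `δ`; all other characters have constant multiplicity. -/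
structure OrbitData (C : Cyc G p) (θ : IrrCharacter C.V) (ν : (ZMod p)ˣ → IrrCharacter G)
    (δ : ℤ) : Prop where
  sign : δ = 1 ∨ δ = -1
  eq_iff : ∀ u v, ν u = ν v ↔ u⁻¹ * v ∈ C.E (θ : C.V → ℂ)
  bI_exc : ∀ u v : (ZMod p)ˣ,
    C.bI (ν u) θ v = if u⁻¹ * v ∈ C.E (θ : C.V → ℂ) then -δ else 0
  twist_exc : ∀ c u, C.twist c (ν u) = ν (c * u)
  bI_ord : ∀ χ ∉ Set.range ν, ∀ v : (ZMod p)ˣ, C.bI χ θ v = C.bI χ θ 1
  abs_ord : ∀ χ ∉ Set.range ν, (C.bI χ θ 1).natAbs ≤ 1
  rational : ∀ χ ∉ Set.range ν, C.bI χ θ 1 ≠ 0 → ∀ c, C.twist c χ = χ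
  card_ord : Nat.card {χ : IrrCharacter G // χ ∉ Set.range ν ∧ C.bI χ θ 1 ≠ 0} =
    C.ee (θ : C.V → ℂ)

variable (C : Cyc G p)

lemma bI_twist' (c v : (ZMod p)ˣ) (χ : IrrCharacter G) (θ : IrrCharacter C.V) :
    C.bI (C.twist c χ) θ v = C.bI χ θ ((c⁻¹ * v : (ZMod p)ˣ) : ZMod p) := by
  conv_lhs => rw [show (v : ZMod p) = (c : ZMod p) * ((c⁻¹ * v : (ZMod p)ˣ) : ZMod p) by
    rw [← Units.val_mul, mul_inv_cancel_left]]
  exact C.bI_twist c χ θ _

/-- A constant multiplicity is a sign and the character is then rational. -/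
lemma ord_bound {M : Ideal AlgInt} (hM : IsPModular p M) (θ : IrrCharacter C.V)
    {χ : IrrCharacter G} (hc : ∀ v : (ZMod p)ˣ, C.bI χ θ v = C.bI χ θ 1) :
    (C.bI χ θ 1).natAbs ≤ 1 ∧ (C.bI χ θ 1 ≠ 0 → ∀ c, C.twist c χ = χ) := by
  have h1 : ∀ u : (ZMod p)ˣ, ∑ ψ ∈ C.orbit χ, C.bI ψ θ u =
      ((C.orbit χ).card : ℤ) * C.bI χ θ 1 := fun u => by
    rw [← nsmul_eq_mul]
    refine Finset.sum_eq_card_nsmul fun ψ hψ => ?_
    obtain ⟨c, rfl⟩ := C.mem_orbit.1 hψ
    rw [C.bI_twist', hc]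
  have h2 := C.natAbs_orbit_le_one hM χ θ _ h1
  rw [Int.natAbs_mul, Int.natAbs_natCast] at h2
  have hmem : χ ∈ C.orbit χ := C.mem_orbit.2 ⟨1, C.twist_one χ⟩
  have hpos : 1 ≤ (C.orbit χ).card := Finset.card_pos.2 ⟨χ, hmem⟩
  refine ⟨(Nat.le_mul_of_pos_left _ hpos).trans h2, fun h0 c => ?_⟩
  have h3 : 1 ≤ (C.bI χ θ 1).natAbs := Int.natAbs_pos.2 h0
  have h4 : (C.orbit χ).card ≤ 1 := (Nat.le_mul_of_pos_right _ h3).trans h2
  exact Finset.card_le_one.1 h4 _ (C.mem_orbit.2 ⟨c, rfl⟩) _ hmem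

lemma card_ord_of {θ : IrrCharacter C.V} {ν : (ZMod p)ˣ → IrrCharacter G} {δ : ℤ}
    (hδ : δ = 1 ∨ δ = -1) (heq : ∀ u v, ν u = ν v ↔ u⁻¹ * v ∈ C.E (θ : C.V → ℂ))
    (hexc : ∀ u v : (ZMod p)ˣ,
      C.bI (ν u) θ v = if u⁻¹ * v ∈ C.E (θ : C.V → ℂ) then -δ else 0)
    (habs : ∀ χ ∉ Set.range ν, (C.bI χ θ 1).natAbs ≤ 1) :
    Nat.card {χ : IrrCharacter G // χ ∉ Set.range ν ∧ C.bI χ θ 1 ≠ 0} =
      C.ee (θ : C.V → ℂ) := by
  have h := C.sum_bI_mul θ (u := 1) (v := 1)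
  rw [inv_one, one_mul, if_pos (one_mem _), Units.val_one] at h
  have hterm : ∀ χ : IrrCharacter G, C.bI χ θ 1 * C.bI χ θ 1 =
      (if χ ∉ Set.range ν ∧ C.bI χ θ 1 ≠ 0 then 1 else 0) + if χ = ν 1 then 1 else 0 := by
    intro χ
    by_cases hr : χ ∈ Set.range ν
    · obtain ⟨u, rfl⟩ := hr
      have h1 := hexc u 1
      rw [Units.val_one] at h1
      rw [if_neg (fun h' => h'.1 ⟨u, rfl⟩), zero_add, h1]
      by_cases hu : u⁻¹ * 1 ∈ C.E (θ : C.V → ℂ)
      · rw [if_pos hu, if_pos ((heq u 1).2 hu)]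
        rcases hδ with e | e <;> simp [e]
      · rw [if_neg hu, if_neg (fun e => hu ((heq u 1).1 e)), mul_zero]
    · rw [if_neg (show ¬ χ = ν 1 from fun e => hr ⟨1, e.symm⟩), add_zero]
      by_cases h0 : C.bI χ θ 1 = 0
      · rw [if_neg (fun h' => h'.2 h0), h0, mul_zero]
      · rw [if_pos ⟨hr, h0⟩]
        rcases (show C.bI χ θ 1 = 1 ∨ C.bI χ θ 1 = -1 by have := habs χ hr; omega) with e | e <;>
          simp [e]
  rw [Finset.sum_congr rfl fun χ _ => hterm χ, Finset.sum_add_distrib, Finset.sum_boole,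
    Finset.sum_ite_eq' Finset.univ (ν 1) (fun _ => (1 : ℤ)), if_pos (Finset.mem_univ _)] at h
  rw [Nat.card_eq_fintype_card, Fintype.card_subtype]
  exact_mod_cast (add_right_cancel h)

theorem exists_orbitData {M : Ideal AlgInt} (hM : IsPModular p M) (θ : IrrCharacter C.V) :
    ∃ ν δ, OrbitData C θ ν δ := by
  set E := C.E (θ : C.V → ℂ) with hE
  set e := C.ee (θ : C.V → ℂ) with he
  by_cases htop : E = ⊤
  · -- a single exceptional character
    have hconst : ∀ (χ : IrrCharacter G) (v : (ZMod p)ˣ), C.bI χ θ v = C.bI χ θ 1 := fun χ v => by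
      have := C.bI_coset χ θ (u := v) (by rw [← hE, htop]; trivial) 1
      rwa [mul_one, Units.val_one] at this
    obtain ⟨χ₀, hχ₀⟩ : ∃ χ₀ : IrrCharacter G, C.bI χ₀ θ 1 ≠ 0 := by
      by_contra hall
      push Not at hall
      have h := C.sum_bI_mul θ (u := 1) (v := 1)
      rw [inv_one, one_mul, if_pos (one_mem _), Units.val_one,
        Finset.sum_eq_zero fun χ _ => by rw [hall χ, mul_zero]] at h
      omega
    have hb := C.ord_bound hM θ (hconst χ₀)
    have hδ : -C.bI χ₀ θ 1 = 1 ∨ -C.bI χ₀ θ 1 = -1 := by have := hb.1; omega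
    have hmem : ∀ u v : (ZMod p)ˣ, u⁻¹ * v ∈ E := fun u v => by rw [htop]; trivial
    have heq : ∀ u v : (ZMod p)ˣ, (fun _ => χ₀) u = (fun _ => χ₀) v ↔ u⁻¹ * v ∈ E :=
      fun u v => iff_of_true rfl (hmem u v)
    have hexc : ∀ u v : (ZMod p)ˣ, C.bI χ₀ θ v =
        if u⁻¹ * v ∈ E then -(-C.bI χ₀ θ 1) else 0 := fun u v => by
      rw [if_pos (hmem u v), neg_neg, hconst]
    exact ⟨fun _ => χ₀, -C.bI χ₀ θ 1,
      { sign := hδ
        eq_iff := heq
        bI_exc := hexc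
        twist_exc := fun c _ => hb.2 hχ₀ c
        bI_ord := fun χ _ v => hconst χ v
        abs_ord := fun χ _ => (C.ord_bound hM θ (hconst χ)).1
        rational := fun χ _ => (C.ord_bound hM θ (hconst χ)).2
        card_ord := C.card_ord_of hδ heq hexc fun χ _ => (C.ord_bound hM θ (hconst χ)).1 }⟩
  -- at least two cosets
  set ι := (ZMod p)ˣ ⧸ E
  have hout : ∀ (χ : IrrCharacter G) (v : (ZMod p)ˣ),
      C.bI χ θ ((v : ι).out : ZMod p) = C.bI χ θ v := fun χ v => by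
    obtain ⟨w, hw⟩ := QuotientGroup.mk_out_eq_mul E v
    rw [hw, mul_comm v, C.bI_coset χ θ w.2]
  have hZout : ∀ v : (ZMod p)ˣ, C.Z ((v : ι).out : ZMod p) (θ : C.V → ℂ) =
      C.Z (v : ZMod p) (θ : C.V → ℂ) := fun v => by
    obtain ⟨w, hw⟩ := QuotientGroup.mk_out_eq_mul E v
    rw [hw, mul_comm v, Units.val_mul, C.Z_eq θ.2 w.2 v.ne_zero]
  let τ : ι → G → ℂ := fun J =>
    C.Z (((1 : (ZMod p)ˣ) : ZMod p)) (θ : C.V → ℂ) - C.Z (J.out : ZMod p) (θ : C.V → ℂ)
  have hτ0 : τ ((1 : (ZMod p)ˣ) : ι) = 0 := by simp only [τ, hZout, sub_self]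
  have hgram : ∀ i j : ι, i ≠ ((1 : (ZMod p)ˣ) : ι) → j ≠ ((1 : (ZMod p)ˣ) : ι) →
      (i = j → Cfsg.classInner (τ i) (τ j) = 2) ∧ (i ≠ j → Cfsg.classInner (τ i) (τ j) = 1) := by
    intro i j
    induction i using QuotientGroup.induction_on with
    | H a =>
    induction j using QuotientGroup.induction_on with
    | H b =>
    intro ha hb
    rw [Ne, QuotientGroup.eq] at ha hb
    have hin : ∀ u v : (ZMod p)ˣ, Cfsg.classInner (C.Z (u : ZMod p) (θ : C.V → ℂ))
        (C.Z (v : ZMod p) (θ : C.V → ℂ)) = (e : ℂ) + if u⁻¹ * v ∈ E then 1 else 0 := by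
      intro u v
      rw [C.classInner_Z_Z θ.2 u.ne_zero v.ne_zero, ← he]
      congr 1
      refine if_congr ⟨?_, fun hm => ⟨_, hm, ?_⟩⟩ rfl rfl
      · rintro ⟨w, hw, e'⟩
        rw [← Units.val_mul, Units.val_inj] at e'
        rwa [← e', mul_comm w u, inv_mul_cancel_left]
      · rw [← Units.val_mul, Units.val_inj, mul_comm, mul_inv_cancel_left]
    have ha' : (1 : (ZMod p)ˣ)⁻¹ * a ∉ E := fun h => ha (by simpa using E.inv_mem h)
    have hb' : (1 : (ZMod p)ˣ)⁻¹ * b ∉ E := fun h => hb (by simpa using E.inv_mem h)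
    simp only [τ, hZout, classInner_sub_left, classInner_sub_right, hin]
    rw [if_neg ha, if_neg hb', if_pos (show (1 : (ZMod p)ˣ)⁻¹ * 1 ∈ E by simp)]
    constructor
    · intro h
      rw [if_pos (QuotientGroup.eq.1 h)]
      ring
    · intro h
      rw [if_neg fun h' => h (QuotientGroup.eq.2 h')]
      ring
  obtain ⟨εc, hεc, μ₀, hμirr, hμinj, hμ⟩ := exists_star ((1 : (ZMod p)ˣ) : ι) τ hτ0
    (fun J => by
      obtain ⟨a, b, ha, hb, e1⟩ := C.isGeneralized_Z ((1 : (ZMod p)ˣ) : ZMod p)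
        (isCharacter_of_irr θ.2)
      obtain ⟨a', b', ha', hb', e2⟩ := C.isGeneralized_Z (J.out : ZMod p) (isCharacter_of_irr θ.2)
      refine ⟨a + b', b + a', IsCharacter.add ha hb', IsCharacter.add hb ha', ?_⟩
      simp only [τ, e1, e2]
      abel)
    (fun J => by simp only [τ, Pi.sub_apply, C.Z_one, sub_self]) hgram
  obtain ⟨ε, hε, hεε⟩ : ∃ ε : ℤ, (ε = 1 ∨ ε = -1) ∧ εc = (ε : ℂ) := by
    rcases hεc with h | h
    · exact ⟨1, Or.inl rfl, by rw [h, Int.cast_one]⟩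
    · exact ⟨-1, Or.inr rfl, by rw [h, Int.cast_neg, Int.cast_one]⟩
  let μ : ι → IrrCharacter G := fun J => ⟨μ₀ J, hμirr J⟩
  have hμinj' : Function.Injective μ := fun i j h => hμinj (congrArg Subtype.val h)
  have hdiff : ∀ (χ : IrrCharacter G) (v : (ZMod p)ˣ), C.bI χ θ 1 - C.bI χ θ v =
      ε * ((if χ = μ (v : ι) then 1 else 0) - if χ = μ ((1 : (ZMod p)ˣ) : ι) then 1 else 0) := by
    intro χ v
    apply Int.cast_injective (α := ℂ)
    have h1 := congrArg (Cfsg.classInner (χ : G → ℂ)) (hμ (v : ι))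
    simp only [τ, classInner_sub_right, classInner_smul_right, hεε, hZout,
      C.classInner_Z (isClassFunction_irr χ), Units.val_one, C.bb_eq, map_intCast] at h1
    push_cast
    rw [h1, show μ₀ (v : ι) = (μ (v : ι) : G → ℂ) from rfl,
      show μ₀ ((1 : (ZMod p)ˣ) : ι) = (μ ((1 : (ZMod p)ˣ) : ι) : G → ℂ) from rfl,
      classInner_irrCharacter, classInner_irrCharacter]
  have hone : ((1 : (ZMod p)ˣ) : ι) = 1 := rfl
  set d := C.bI (μ 1) θ 1 + ε with hd
  have hrel : ∀ J : ι, J ≠ 1 → C.bI (μ J) θ 1 = d := by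
    intro J
    induction J using QuotientGroup.induction_on with
    | H v =>
    intro hv
    have h1 := C.sum_bI_mul θ (u := 1) (v := 1)
    have h2 := C.sum_bI_mul θ (u := 1) (v := v)
    rw [inv_one, one_mul, if_pos (one_mem _)] at h1
    rw [inv_one, one_mul, if_neg (fun h => hv ((QuotientGroup.eq_one_iff v).2 h))] at h2
    rw [Units.val_one] at h1 h2
    have h3 : ∑ χ : IrrCharacter G, C.bI χ θ 1 * (C.bI χ θ 1 - C.bI χ θ v) = 1 := by
      simp only [mul_sub, Finset.sum_sub_distrib, h1, h2]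
      ring
    simp only [hdiff, hone, mul_sub, mul_ite, mul_one, mul_zero, Finset.sum_sub_distrib,
      Finset.sum_ite_eq', Finset.mem_univ, if_true] at h3
    rcases hε with e' | e' <;> rw [e'] at h3 hd <;> omega
  have hval : ∀ (J : ι) (v : (ZMod p)ˣ), C.bI (μ J) θ v = d - if J = (v : ι) then ε else 0 := by
    intro J v
    have h := hdiff (μ J) v
    simp only [hμinj'.eq_iff, hone] at h
    by_cases hJ : J = 1
    · subst hJ
      simp only [mul_sub, mul_ite, mul_one, mul_zero, if_true] at h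
      linarith [hd]
    · rw [hrel J hJ, if_neg hJ, sub_zero, mul_ite, mul_one, mul_zero] at h
      linarith
  have hordμ : ∀ χ ∉ Set.range μ, ∀ v : (ZMod p)ˣ, C.bI χ θ v = C.bI χ θ 1 := fun χ hχ v => by
    have h := hdiff χ v
    rw [if_neg (fun e' => hχ ⟨_, e'.symm⟩), if_neg (fun e' => hχ ⟨_, e'.symm⟩), sub_zero,
      mul_zero] at h
    linarith
  obtain ⟨w₀, hw₀⟩ : ∃ w : (ZMod p)ˣ, w ∉ E := by
    by_contra hall
    push Not at hall
    exact htop (eq_top_iff.2 fun x _ => hall x)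
  have hε0 : ε ≠ 0 := by omega
  have htw : ∀ (c : (ZMod p)ˣ) (J : ι), C.twist c (μ J) = μ ((c : ι) * J) := by
    intro c J
    have hv : ∀ v : (ZMod p)ˣ, C.bI (C.twist c (μ J)) θ v =
        d - if (c : ι) * J = (v : ι) then ε else 0 := fun v => by
      rw [C.bI_twist', hval]
      congr 1
      refine if_congr ?_ rfl rfl
      rw [QuotientGroup.mk_mul, QuotientGroup.mk_inv, eq_inv_mul_iff_mul_eq]
    induction J using QuotientGroup.induction_on with
    | H u =>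
    have hmem : C.twist c (μ (u : ι)) ∈ Set.range μ := by
      by_contra hno
      have h1 := hordμ _ hno (c * u)
      have h2 := hordμ _ hno (c * u * w₀)
      rw [hv, if_pos (QuotientGroup.mk_mul E c u).symm] at h1
      rw [hv, if_neg (fun e' => hw₀ (by
        rw [← QuotientGroup.mk_mul, QuotientGroup.eq, inv_mul_cancel_left] at e'
        exact e')), sub_zero] at h2
      omega
    obtain ⟨K, hK⟩ := hmem
    have h1 := hv (c * u)
    rw [← hK, hval, if_pos (QuotientGroup.mk_mul E c u).symm] at h1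
    split_ifs at h1 with h
    · rw [← hK, h, QuotientGroup.mk_mul]
    · omega
  -- normalisation
  have hsum : ∀ v : (ZMod p)ˣ, ∑ ψ ∈ C.orbit (μ 1), C.bI ψ θ v = (Fintype.card ι : ℤ) * d - ε := by
    intro v
    have hoi : C.orbit (μ 1) = Finset.univ.image μ := by
      ext ψ
      rw [C.mem_orbit, Finset.mem_image]
      constructor
      · rintro ⟨c, rfl⟩
        exact ⟨(c : ι) * 1, Finset.mem_univ _, (htw c 1).symm⟩
      · rintro ⟨J, -, rfl⟩
        induction J using QuotientGroup.induction_on with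
        | H u => exact ⟨u, by rw [htw, mul_one]⟩
    rw [hoi, Finset.sum_image hμinj'.injOn]
    simp only [hval, Finset.sum_sub_distrib, Finset.sum_const, Finset.card_univ, nsmul_eq_mul]
    rw [Finset.sum_eq_single (v : ι) (fun b _ hb => if_neg hb) (by simp), if_pos rfl]
  have hbd := C.natAbs_orbit_le_one hM (μ 1) θ _ hsum
  have ht2 : 2 ≤ Fintype.card ι := by
    have : Nontrivial ι :=
      ⟨(w₀ : ι), 1, fun h => hw₀ ((QuotientGroup.eq_one_iff w₀).1 h)⟩
    exact Fintype.one_lt_card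
  obtain ⟨g₀, δ, hδ, hg⟩ : ∃ (g₀ : ι) (δ : ℤ), (δ = 1 ∨ δ = -1) ∧
      ∀ (J : ι) (v : (ZMod p)ˣ), C.bI (μ (g₀ * J)) θ v = if J = (v : ι) then -δ else 0 := by
    by_cases hd0 : d = 0
    · exact ⟨1, ε, hε, fun J v => by rw [one_mul, hval, hd0]; split_ifs <;> simp⟩
    have hcase : Fintype.card ι = 2 ∧ d = ε := by
      obtain ⟨k, hk⟩ := Nat.exists_eq_add_of_le ht2
      rw [hk] at hbd ⊢
      push_cast at hbd
      have h1 : (k : ℤ) * d ≥ 0 ∨ (k : ℤ) * d ≤ 0 := le_total 0 _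
      rcases lt_or_gt_of_ne hd0 with hneg | hpos
      · have h2 : (k : ℤ) * d ≤ 0 := mul_nonpos_of_nonneg_of_nonpos (Int.natCast_nonneg k) hneg.le
        have h3 : (k : ℤ) * d ≤ -(k : ℤ) := by nlinarith
        rw [add_mul] at hbd
        omega
      · have h3 : (k : ℤ) ≤ (k : ℤ) * d := le_mul_of_one_le_right (Int.natCast_nonneg k) hpos
        rw [add_mul] at hbd
        omega
    obtain ⟨ht, hdε⟩ := hcase
    have hw1 : (w₀ : ι) ≠ 1 := fun h => hw₀ ((QuotientGroup.eq_one_iff w₀).1 h)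
    refine ⟨(w₀ : ι), -ε, by omega, fun J v => ?_⟩
    rw [hval, hdε, neg_neg]
    by_cases hJ : J = (v : ι)
    · rw [if_pos hJ, if_neg, sub_zero]
      rw [hJ]
      exact fun h => hw1 (mul_eq_right.1 h)
    · rw [if_neg hJ, if_pos, sub_self]
      by_contra hne
      have h3 : ({(v : ι), J, (w₀ : ι) * J} : Finset ι).card ≤ 2 := ht ▸ Finset.card_le_univ _
      rw [Finset.card_insert_of_notMem, Finset.card_insert_of_notMem, Finset.card_singleton] at h3
      · omega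
      · rw [Finset.mem_singleton]
        exact fun h => hw1 (mul_eq_right.1 h.symm)
      · simp only [Finset.mem_insert, Finset.mem_singleton, not_or]
        exact ⟨fun h => hJ h.symm, fun h => hne h.symm⟩
  let ν : (ZMod p)ˣ → IrrCharacter G := fun u => μ (g₀ * (u : ι))
  have heq : ∀ u v, ν u = ν v ↔ u⁻¹ * v ∈ E := fun u v => by
    rw [← QuotientGroup.eq]
    exact hμinj'.eq_iff.trans mul_left_cancel_iff
  have hexc : ∀ u v : (ZMod p)ˣ, C.bI (ν u) θ v = if u⁻¹ * v ∈ E then -δ else 0 := fun u v => by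
    rw [hg]
    exact if_congr QuotientGroup.eq rfl rfl
  have hrange : ∀ χ ∉ Set.range ν, χ ∉ Set.range μ := by
    rintro χ hχ ⟨J, rfl⟩
    induction J using QuotientGroup.induction_on with
    | H u =>
    obtain ⟨g, hg'⟩ := QuotientGroup.mk_surjective g₀
    exact hχ ⟨g⁻¹ * u, by
      show μ (g₀ * _) = _
      rw [← hg', ← QuotientGroup.mk_mul, mul_inv_cancel_left]⟩
  have habs : ∀ χ ∉ Set.range ν, (C.bI χ θ 1).natAbs ≤ 1 := fun χ hχ =>
    (C.ord_bound hM θ (hordμ χ (hrange χ hχ))).1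
  exact ⟨ν, δ,
    { sign := hδ
      eq_iff := heq
      bI_exc := hexc
      twist_exc := fun c u => by
        show C.twist c (μ _) = μ _
        rw [htw, QuotientGroup.mk_mul]
        congr 1
        exact mul_left_comm (G := (ZMod p)ˣ ⧸ E) _ _ _
      bI_ord := fun χ hχ => hordμ χ (hrange χ hχ)
      abs_ord := habs
      rational := fun χ hχ => (C.ord_bound hM θ (hordμ χ (hrange χ hχ))).2
      card_ord := C.card_ord_of hδ heq hexc habs }⟩

end Cyc

end Cfsg.Lib.Blocks
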