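import Mathlib
import Cfsg.Agent.Blocks.OrbitData
import Cfsg.Agent.Blocks.RegularCongr
import Cfsg.Agent.Chars.Sums

/-!
# The blocks of positive defect correspond to the orbits
-/

set_option autoImplicit false
set_option linter.unusedSectionVars false

namespace Cfsg.Lib.Blocks

open Cfsg.Lib.Chars
open scoped ComplexConjugate Classical

universe u

variable {G : Type u} [Group G] [Fintype G] {M : Ideal AlgInt} {p : ℕ} [Fact p.Prime]

namespace Cyc

variable (C : Cyc G p)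

/-- `χ` has singular multiplicities over `θ`. -/
def Lies (χ : IrrCharacter G) (θ : IrrCharacter C.V) : Prop :=
  ∃ v : (ZMod p)ˣ, C.bI χ θ v ≠ 0

/-- The conjugate character of `V`. -/
noncomputable def conjI (h : C.H) (θ : IrrCharacter C.V) : IrrCharacter C.V :=
  ⟨conjN C.V h (θ : C.V → ℂ), IsIrrCharacter.conjN θ.2 h⟩

lemma conjI_one (h : C.H) (θ : IrrCharacter C.V) :
    (C.conjI h θ : C.V → ℂ) 1 = (θ : C.V → ℂ) 1 := by
  show conjN C.V h (θ : C.V → ℂ) 1 = _
  rw [conjN_eq_comp]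
  show (θ : C.V → ℂ) (MulAut.conjNormal h 1) = _
  rw [map_one]

lemma bI_conjI (χ : IrrCharacter G) (θ : IrrCharacter C.V) (h : C.H) (v : (ZMod p)ˣ) :
    C.bI χ (C.conjI h θ) ((C.act h * v : (ZMod p)ˣ) : ZMod p) = C.bI χ θ v := by
  apply Int.cast_injective (α := ℂ)
  rw [← C.bb_eq, ← C.bb_eq, Units.val_mul]
  exact C.bb_conj (isClassFunction_irr χ) _ h _

lemma lies_conjI {χ : IrrCharacter G} {θ : IrrCharacter C.V} (h : C.H) :
    C.Lies χ (C.conjI h θ) ↔ C.Lies χ θ := by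
  constructor
  · rintro ⟨v, hv⟩
    refine ⟨(C.act h)⁻¹ * v, ?_⟩
    rwa [← C.bI_conjI χ θ h, mul_inv_cancel_left]
  · rintro ⟨v, hv⟩
    exact ⟨C.act h * v, by rwa [C.bI_conjI]⟩

lemma mu_eq_zero_of_not_lies {χ : IrrCharacter G} {θ : IrrCharacter C.V} (hl : ¬ C.Lies χ θ)
    {i : ZMod p} (hi : i ≠ 0) : C.mu (χ : G → ℂ) (θ : C.V → ℂ) i = 0 := by
  rw [C.mu_eq_bI χ θ hi, Finset.sum_eq_zero fun v _ => ?_, neg_zero]
  rw [show C.bI χ θ v = 0 by by_contra h; exact hl ⟨v, h⟩, Int.cast_zero, zero_mul]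

lemma small_mu_sub (hM : IsPModular p M) (χ : IrrCharacter G) (θ : IrrCharacter C.V)
    (i : ZMod p) :
    Small M (C.mu (χ : G → ℂ) (θ : C.V → ℂ) i - C.mu (χ : G → ℂ) (θ : C.V → ℂ) 0) := by
  rw [Cyc.mu, Cyc.mu, ← mul_sub, ← Finset.sum_sub_distrib]
  refine Small.mem_mul (small_sum _ _ fun v _ => ?_)
    (isUnitAt_natCast hM fun h => C.not_dvd (h.trans (Subgroup.card_subgroup_dvd_card C.V))).inv.mem_place
  rw [← sub_mul]
  refine Small.mul_mem ?_ (isIntegral_mem_place hM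
    (IsCharacter.isIntegral (IsCharacter.conjugate (isCharacter_of_irr θ.2)) v))
  rw [C.el_zero, Cyc.el]
  refine small_apply_mul_sub hM (isCharacter_of_irr χ.2) (C.commute_V v i).symm ?_ fun h => ?_
  · rcases (Nat.dvd_prime (Fact.out : p.Prime)).1
      ((orderOf_pow_dvd (x := C.y) i.val).trans (dvd_of_eq C.order)) with e | e
    · exact ⟨0, by rw [pow_zero]; exact e⟩
    · exact ⟨1, by rw [pow_one]; exact e⟩
  · rw [Subgroup.orderOf_coe] at h
    exact C.not_dvd (h.trans (orderOf_dvd_natCard _))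

variable {C}

lemma OrbitData.lies_iff {θ : IrrCharacter C.V} {ν : (ZMod p)ˣ → IrrCharacter G} {δ : ℤ}
    (hD : OrbitData C θ ν δ) (χ : IrrCharacter G) :
    C.Lies χ θ ↔ χ ∈ Set.range ν ∨ (χ ∉ Set.range ν ∧ C.bI χ θ 1 ≠ 0) := by
  by_cases hr : χ ∈ Set.range ν
  · refine iff_of_true ?_ (Or.inl hr)
    obtain ⟨u, rfl⟩ := hr
    refine ⟨u, ?_⟩
    rw [hD.bI_exc, if_pos (by simp)]
    have := hD.sign
    omega
  · simp only [hr, false_or, not_false_iff, true_and]
    exact ⟨fun ⟨v, hv⟩ => by rwa [hD.bI_ord χ hr] at hv, fun h => ⟨1, by rwa [Units.val_one]⟩⟩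

lemma OrbitData.mu_ord {θ : IrrCharacter C.V} {ν : (ZMod p)ˣ → IrrCharacter G} {δ : ℤ}
    (hD : OrbitData C θ ν δ) {χ : IrrCharacter G} (hr : χ ∉ Set.range ν) {i : ZMod p} (hi : i ≠ 0) :
    C.mu (χ : G → ℂ) (θ : C.V → ℂ) i = (C.bI χ θ 1 : ℂ) := by
  rw [C.mu_eq_bI χ θ hi]
  simp only [hD.bI_ord χ hr]
  rw [← Finset.mul_sum, sum_units_psi hi]
  ring

lemma OrbitData.small_mu_exc (hM : IsPModular p M) {θ : IrrCharacter C.V}
    {ν : (ZMod p)ˣ → IrrCharacter G} {δ : ℤ} (hD : OrbitData C θ ν δ) (u : (ZMod p)ˣ) {i : ZMod p}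
    (hi : i ≠ 0) :
    Small M (C.mu (ν u : G → ℂ) (θ : C.V → ℂ) i -
      ((δ * C.ee (θ : C.V → ℂ) : ℤ) : ℂ)) := by
  set S := Finset.univ.filter fun v : (ZMod p)ˣ => u⁻¹ * v ∈ C.E (θ : C.V → ℂ)
  have hcard : S.card = C.ee (θ : C.V → ℂ) := by
    rw [Cyc.ee, Nat.card_eq_fintype_card, Fintype.card_subtype]
    exact Finset.card_bij (fun v _ => u⁻¹ * v)
      (fun v hv => Finset.mem_filter.2 ⟨Finset.mem_univ _, (Finset.mem_filter.1 hv).2⟩)
      (fun a _ b _ e => mul_left_cancel e)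
      fun w hw => ⟨u * w, Finset.mem_filter.2 ⟨Finset.mem_univ _, by
        rw [inv_mul_cancel_left]; exact (Finset.mem_filter.1 hw).2⟩, inv_mul_cancel_left u w⟩
  have hmu : C.mu (ν u : G → ℂ) (θ : C.V → ℂ) i =
      (δ : ℂ) * ∑ v ∈ S, psi p ((v : ZMod p) * i) := by
    rw [C.mu_eq_bI _ θ hi]
    simp only [hD.bI_exc]
    rw [Finset.mul_sum, Finset.sum_filter, ← Finset.sum_neg_distrib]
    refine Finset.sum_congr rfl fun v _ => ?_
    split_ifs <;> simp
  rw [hmu, ← hcard, Int.cast_mul, Int.cast_natCast, ← mul_sub, Finset.card_eq_sum_ones,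
    Nat.cast_sum, Nat.cast_one, ← Finset.sum_sub_distrib]
  refine Small.mem_mul (small_sum _ _ fun v _ => small_sub_one_of_ppow hM (k := 1) ?_)
    (intCast_mem_place δ)
  rw [pow_one, ← AddChar.map_nsmul_eq_pow, nsmul_eq_mul, ZMod.natCast_self, zero_mul,
    AddChar.map_zero_eq_one]

variable (C)

lemma ee_dvd (θ : C.V → ℂ) : C.ee θ ∣ p - 1 := by
  have := Subgroup.card_subgroup_dvd_card (C.E θ)
  rwa [Nat.card_eq_fintype_card (α := (ZMod p)ˣ), ZMod.card_units] at this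

lemma not_dvd_ee (θ : C.V → ℂ) : ¬ p ∣ C.ee θ := fun h => by
  have := Nat.le_of_dvd (by have := (Fact.out : p.Prime).two_le; omega) (h.trans (C.ee_dvd θ))
  have := (Fact.out : p.Prime).two_le
  omega

lemma exists_mval (hM : IsPModular p M) {χ : IrrCharacter G} {θ : IrrCharacter C.V}
    (hl : C.Lies χ θ) :
    ∃ m : ℤ, ¬ (p : ℤ) ∣ m ∧ ∀ i : ZMod p, i ≠ 0 →
      Small M (C.mu (χ : G → ℂ) (θ : C.V → ℂ) i - (m : ℂ)) := by
  obtain ⟨ν, δ, hD⟩ := C.exists_orbitData hM θ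
  rcases (hD.lies_iff χ).1 hl with ⟨u, rfl⟩ | ⟨hr, h0⟩
  · refine ⟨δ * C.ee (θ : C.V → ℂ), fun h => ?_, fun i hi => hD.small_mu_exc hM u hi⟩
    rcases hD.sign with e | e <;> rw [e] at h <;>
      simp only [one_mul, neg_mul, dvd_neg, Int.natCast_dvd_natCast] at h <;>
      exact C.not_dvd_ee _ h
  · refine ⟨C.bI χ θ 1, fun h => ?_, fun i hi => ?_⟩
    · have h1 := Nat.le_of_dvd (Int.natAbs_pos.2 h0) (Int.natCast_dvd.1 h)
      have := hD.abs_ord χ hr
      have := (Fact.out : p.Prime).two_le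
      omega
    · rw [hD.mu_ord hr hi, sub_self]
      exact small_zero

/-! ### The congruence of central characters -/

/-- The normalised orbit average of `θ`. -/
noncomputable def thAvg (θ : IrrCharacter C.V) (v : C.V) : ℂ :=
  ((Nat.card C.H : ℂ) * (θ : C.V → ℂ) 1)⁻¹ * ∑ h : C.H, conjN C.V h (θ : C.V → ℂ) v

/-- The central character of the orbit of `θ` induced to the group. -/
noncomputable def Th (θ : IrrCharacter C.V) (g : G) : ℂ :=
  ∑ x ∈ Finset.univ.filter (fun x : ZMod p × C.V => IsConj g (C.el x.1 x.2)), C.thAvg θ x.2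

lemma not_dvd_card_V : ¬ p ∣ Nat.card C.V := fun h =>
  C.not_dvd (h.trans (Subgroup.card_subgroup_dvd_card C.V))

lemma not_dvd_deg_V (θ : IrrCharacter C.V) : ¬ p ∣ deg (θ : C.V → ℂ) := fun h =>
  C.not_dvd_card_V (h.trans (IsIrrCharacter.deg_dvd θ.2))

lemma isUnitAt_theta_one (hM : IsPModular p M) (θ : IrrCharacter C.V) :
    IsUnitAt M ((θ : C.V → ℂ) 1) := by
  rw [irr_apply_one_eq_deg]
  exact isUnitAt_natCast hM (C.not_dvd_deg_V θ)

lemma thAvg_mem (hM : IsPModular p M) (θ : IrrCharacter C.V) (v : C.V) :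
    C.thAvg θ v ∈ place M :=
  mul_mem ((isUnitAt_natCast hM C.not_dvd).mul (C.isUnitAt_theta_one hM θ)).inv.mem_place
    (sum_mem fun _ _ => isIntegral_mem_place hM (IsCharacter.isIntegral (isCharacter_of_irr θ.2) _))

lemma thAvg_one (θ : IrrCharacter C.V) : C.thAvg θ 1 = 1 := by
  have h : ∀ h : C.H, conjN C.V h (θ : C.V → ℂ) 1 = (θ : C.V → ℂ) 1 := fun h => by
    rw [conjN_eq_comp]
    show (θ : C.V → ℂ) (MulAut.conjNormal h 1) = _
    rw [map_one]
  rw [thAvg, Finset.sum_congr rfl fun h' _ => h h', Finset.sum_const, Finset.card_univ,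
    nsmul_eq_mul, ← Nat.card_eq_fintype_card, inv_mul_cancel₀]
  exact mul_ne_zero (Nat.cast_ne_zero.2 Nat.card_pos.ne') (IsIrrCharacter.apply_one_ne_zero θ.2)

/-- A conjugation invariant function without fixed points sums to a small number. -/
lemma small_sum_free (hM : IsPModular p M) (A : Finset G) (F : G → ℂ)
    (hA : ∀ x ∈ A, C.y * x * C.y⁻¹ ∈ A) (hfix : ∀ x ∈ A, x ∉ C.Cs)
    (hF : ∀ x, F (C.y * x * C.y⁻¹) = F x) (hmem : ∀ x, F x ∈ place M) :
    Small M (∑ x ∈ A, F x) := by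
  rw [← Finset.sum_fiberwise_of_maps_to (g := F) (t := A.image F)
    fun x hx => Finset.mem_image_of_mem F hx]
  refine small_sum _ _ fun w hw => ?_
  rw [Finset.sum_congr rfl fun x hx => (Finset.mem_filter.1 hx).2, Finset.sum_const, nsmul_eq_mul]
  obtain ⟨x₀, -, rfl⟩ := Finset.mem_image.1 hw
  refine Small.mul_mem (small_natCast hM ?_) (hmem x₀)
  set B := A.filter fun x => F x = F x₀
  have hB : ∀ x ∈ B, C.y * x * C.y⁻¹ ∈ B := fun x hx => by
    rw [Finset.mem_filter] at hx ⊢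
    exact ⟨hA x hx.1, by rw [hF]; exact hx.2⟩
  let f : Function.End B := fun x => ⟨C.y * (x : G) * C.y⁻¹, hB _ x.2⟩
  have hpow : ∀ (k : ℕ) (x : B), (((f ^ k) x : B) : G) = C.y ^ k * (x : G) * (C.y ^ k)⁻¹ := by
    intro k
    induction k with
    | zero =>
      intro x
      rw [pow_zero, pow_zero, one_mul, inv_one, mul_one]
      rfl
    | succ k ih =>
      intro x
      rw [pow_succ, pow_succ]
      show (((f ^ k) (f x) : B) : G) = _
      rw [ih]
      show C.y ^ k * (C.y * (x : G) * C.y⁻¹) * (C.y ^ k)⁻¹ = _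
      group
  have hf : f ^ p ^ 1 = 1 := funext fun x => Subtype.ext (by
    rw [hpow, pow_one, orderOf_dvd_iff_pow_eq_one.1 (dvd_of_eq C.order), one_mul, inv_one, mul_one]
    rfl)
  have h0 := Equiv.Perm.card_fixedPoints_modEq hf
  have hempty : IsEmpty f.fixedPoints := ⟨fun ⟨x, hx⟩ => hfix x (Finset.mem_filter.1 x.2).1
    (Subgroup.mem_centralizer_singleton_iff.2
      (mul_inv_eq_iff_eq_mul.1 (congrArg Subtype.val hx)).symm)⟩
  rw [Fintype.card_coe, Fintype.card_eq_zero] at h0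
  exact Nat.modEq_zero_iff_dvd.1 h0

/-- The coefficients of the orbit idempotent. -/
noncomputable def cV (θ : IrrCharacter C.V) (v : C.V) : ℂ :=
  (Nat.card C.H : ℂ)⁻¹ * (C.orbDeg (θ : C.V → ℂ) : ℂ) *
    ((Nat.card C.V : ℂ)⁻¹ * ∑ h : C.H, conj (conjN C.V h (θ : C.V → ℂ) v))

/-- The value of `χ` on the product with the orbit idempotent. -/
noncomputable def chiE (χ : IrrCharacter G) (θ : IrrCharacter C.V) (x : G) : ℂ :=
  ∑ v : C.V, C.cV θ v * (χ : G → ℂ) (x * ((v : C.H) : G))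

lemma cV_mem (hM : IsPModular p M) (θ : IrrCharacter C.V) (v : C.V) : C.cV θ v ∈ place M :=
  mul_mem (mul_mem (isUnitAt_natCast hM C.not_dvd).inv.mem_place (natCast_mem_place _))
    (mul_mem (isUnitAt_natCast hM C.not_dvd_card_V).inv.mem_place
      (sum_mem fun _ _ => isIntegral_mem_place hM
        (IsCharacter.isIntegral (IsCharacter.conjugate (isCharacter_of_irr θ.2)) _)))

lemma chiE_mem (hM : IsPModular p M) (χ : IrrCharacter G) (θ : IrrCharacter C.V) (x : G) :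
    C.chiE χ θ x ∈ place M :=
  sum_mem fun v _ => mul_mem (C.cV_mem hM θ v)
    (isIntegral_mem_place hM (IsCharacter.isIntegral (isCharacter_of_irr χ.2) _))

lemma chiE_conj (χ : IrrCharacter G) (θ : IrrCharacter C.V) (x : G) :
    C.chiE χ θ (C.y * x * C.y⁻¹) = C.chiE χ θ x := by
  refine Finset.sum_congr rfl fun v _ => congrArg _ ?_
  have h := C.commute_V v 1
  rw [C.yP_one] at h
  have : C.y * x * C.y⁻¹ * ((v : C.H) : G) = C.y * (x * ((v : C.H) : G)) * C.y⁻¹ := by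
    rw [mul_assoc (C.y * x) C.y⁻¹, ← h.inv_right.eq]
    group
  rw [this]
  exact isClassFunction_irr χ _ _

lemma small_chiE_el (hM : IsPModular p M) (χ : IrrCharacter G) (θ : IrrCharacter C.V) (m : ℤ)
    (hm : ∀ i : ZMod p, i ≠ 0 → Small M (C.mu (χ : G → ℂ) (θ : C.V → ℂ) i - (m : ℂ)))
    (j : ZMod p) (w : C.V) :
    Small M (C.chiE χ θ (C.el j w) -
      (m : ℂ) * (C.orbDeg (θ : C.V → ℂ) : ℂ) * C.thAvg θ w) := by
  set D : ℂ := (C.orbDeg (θ : C.V → ℂ) : ℂ)
  have hH0 : (Nat.card C.H : ℂ) ≠ 0 := Nat.cast_ne_zero.2 Nat.card_pos.ne'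
  have hV0 : (Nat.card C.V : ℂ) ≠ 0 := Nat.cast_ne_zero.2 Nat.card_pos.ne'
  have hθ0 := IsIrrCharacter.apply_one_ne_zero θ.2
  have horth : ∀ (h : C.H) (φ : IrrCharacter C.V),
      ∑ v : C.V, conj (conjN C.V h (θ : C.V → ℂ) v) * (φ : C.V → ℂ) (w * v) =
        if φ = C.conjI h θ then
          (Nat.card C.V : ℂ) * conjN C.V h (θ : C.V → ℂ) w / (θ : C.V → ℂ) 1 else 0 := by
    intro h φ
    split_ifs with e
    · subst e
      have h1 := sum_irr_mul_inv_mul (C.conjI h θ).2 w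
      have e1 : (C.conjI h θ : C.V → ℂ) 1 = (θ : C.V → ℂ) 1 := C.conjI_one h θ
      rw [e1] at h1
      rw [← show (C.conjI h θ : C.V → ℂ) = conjN C.V h (θ : C.V → ℂ) from rfl, ← h1]
      refine Fintype.sum_equiv (Equiv.inv C.V) _ _ fun v => ?_
      rw [Equiv.inv_apply, inv_inv, IsCharacter.conj_inv (isCharacter_of_irr (C.conjI h θ).2),
        classFunction_mul_comm (isClassFunction_irr (C.conjI h θ)) v w]
    · have h1 := blockElem_mul_blockElem ({C.conjI h θ} : Set (IrrCharacter C.V)) {φ}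
      have h2 : ({C.conjI h θ} : Set (IrrCharacter C.V)) ∩ {φ} = ∅ := by
        ext ψ
        simp only [Set.mem_inter_iff, Set.mem_singleton_iff, Set.mem_empty_iff_false, iff_false,
          not_and]
        rintro rfl h'
        exact e h'.symm
      rw [h2] at h1
      have h3 := congrArg (fun z => fn z w⁻¹) h1
      simp only [fn_mul, fn_blockElem_single] at h3
      rw [show fn (blockElem (∅ : Set (IrrCharacter C.V))) w⁻¹ = 0 by
        simp [fn_blockElem, blockCoeff]] at h3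
      have h4 : ∀ v : C.V, (Nat.card C.V : ℂ)⁻¹ * ((C.conjI h θ : C.V → ℂ) 1 *
            (C.conjI h θ : C.V → ℂ) v⁻¹) * ((Nat.card C.V : ℂ)⁻¹ * ((φ : C.V → ℂ) 1 *
            (φ : C.V → ℂ) (v⁻¹ * w⁻¹)⁻¹)) =
          ((Nat.card C.V : ℂ)⁻¹ * (C.conjI h θ : C.V → ℂ) 1 *
            ((Nat.card C.V : ℂ)⁻¹ * (φ : C.V → ℂ) 1)) *
            (conj (conjN C.V h (θ : C.V → ℂ) v) * (φ : C.V → ℂ) (w * v)) := by
        intro v
        rw [mul_inv_rev, inv_inv, inv_inv,
          show conj (conjN C.V h (θ : C.V → ℂ) v) = (C.conjI h θ : C.V → ℂ) v⁻¹ from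
            (IsCharacter.conj_inv (isCharacter_of_irr (C.conjI h θ).2) v).symm]
        ring
      rw [Finset.sum_congr rfl fun v _ => h4 v, ← Finset.mul_sum] at h3
      exact (mul_eq_zero.1 h3).resolve_left (mul_ne_zero
        (mul_ne_zero (inv_ne_zero hV0) (IsIrrCharacter.apply_one_ne_zero (C.conjI h θ).2))
        (mul_ne_zero (inv_ne_zero hV0) (IsIrrCharacter.apply_one_ne_zero φ.2)))
  have hexp : C.chiE χ θ (C.el j w) = (Nat.card C.H : ℂ)⁻¹ * D * ((θ : C.V → ℂ) 1)⁻¹ *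
      ∑ h : C.H, C.mu (χ : G → ℂ) (conjN C.V h (θ : C.V → ℂ)) j *
        conjN C.V h (θ : C.V → ℂ) w := by
    have hx : ∀ v : C.V, C.el j w * ((v : C.H) : G) = C.el j (w * v) := fun v => by
      rw [← C.el_zero v, C.el_mul, add_zero]
    simp only [chiE, cV, hx, C.apply_el_eq_sum (isClassFunction_irr χ), Finset.mul_sum,
      Finset.sum_mul]
    rw [Finset.sum_comm]
    refine (Finset.sum_congr rfl fun φ _ => Finset.sum_comm).trans ?_
    rw [Finset.sum_comm]
    refine Finset.sum_congr rfl fun h _ => ?_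
    rw [Finset.sum_congr rfl fun (φ : IrrCharacter C.V) _ => show ∑ v : C.V, (Nat.card C.H : ℂ)⁻¹ * (C.orbDeg (θ : C.V → ℂ) : ℂ) *
        ((Nat.card C.V : ℂ)⁻¹ * conj (conjN C.V h (θ : C.V → ℂ) v)) *
        (C.mu (χ : G → ℂ) (φ : C.V → ℂ) j * (φ : C.V → ℂ) (w * v)) =
        (Nat.card C.H : ℂ)⁻¹ * D * ((Nat.card C.V : ℂ)⁻¹ * C.mu (χ : G → ℂ) (φ : C.V → ℂ) j) *
          ∑ v : C.V, conj (conjN C.V h (θ : C.V → ℂ) v) * (φ : C.V → ℂ) (w * v) by
        rw [Finset.mul_sum]; exact Finset.sum_congr rfl fun v _ => by ring,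
      Finset.sum_eq_single (C.conjI h θ) (fun φ _ hφ => by rw [horth, if_neg hφ, mul_zero])
        (by simp), horth, if_pos rfl, show (C.conjI h θ : C.V → ℂ) = conjN C.V h (θ : C.V → ℂ) from rfl]
    field_simp
  rw [hexp, thAvg, mul_inv, Finset.mul_sum, Finset.mul_sum, Finset.mul_sum,
    ← Finset.sum_sub_distrib]
  refine small_sum _ _ fun h _ => ?_
  have hu : (Nat.card C.H : ℂ)⁻¹ * D * ((θ : C.V → ℂ) 1)⁻¹ * conjN C.V h (θ : C.V → ℂ) w ∈ place M :=
    mul_mem (mul_mem (mul_mem (isUnitAt_natCast hM C.not_dvd).inv.mem_place (natCast_mem_place _))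
      (C.isUnitAt_theta_one hM θ).inv.mem_place)
      (isIntegral_mem_place hM (IsCharacter.isIntegral (isCharacter_of_irr θ.2) _))
  have hsm : Small M (C.mu (χ : G → ℂ) (conjN C.V h (θ : C.V → ℂ)) j - (m : ℂ)) := by
    have h1 : Small M (C.mu (χ : G → ℂ) (θ : C.V → ℂ) ((C.act h : ZMod p) * j) - (m : ℂ)) := by
      by_cases hj : j = 0
      · rw [hj, mul_zero]
        have := (hm 1 one_ne_zero).sub (C.small_mu_sub hM χ θ 1)
        rwa [sub_sub_sub_cancel_left] at this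
      · exact hm _ (mul_ne_zero (C.act h).ne_zero hj)
    rwa [← C.mu_conj (isClassFunction_irr χ)] at h1
  have h2 := hsm.mul_mem hu
  convert h2 using 1
  ring

lemma small_chiE_one (hM : IsPModular p M) (χ : IrrCharacter G) (θ : IrrCharacter C.V) (m : ℤ)
    (hm : ∀ i : ZMod p, i ≠ 0 → Small M (C.mu (χ : G → ℂ) (θ : C.V → ℂ) i - (m : ℂ))) :
    Small M (C.chiE χ θ 1 - (m : ℂ) * (C.orbDeg (θ : C.V → ℂ) : ℂ)) := by
  have h := C.small_chiE_el hM χ θ m hm 0 1
  rwa [C.thAvg_one, mul_one, C.el_zero, OneMemClass.coe_one, OneMemClass.coe_one] at h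

lemma chiE_class (χ : IrrCharacter G) (θ : IrrCharacter C.V) (g : G) :
    centralChar (χ : G → ℂ) g * C.chiE χ θ 1 =
      ∑ x ∈ Finset.univ.filter (fun x => IsConj g x), C.chiE χ θ x := by
  set e : MonoidAlgebra ℂ G := ∑ v : C.V, MonoidAlgebra.single ((v : C.H) : G) (C.cV θ v)
  have h1 : ∀ x : G, chiEval (χ : G → ℂ) (MonoidAlgebra.single x 1 * e) = C.chiE χ θ x := fun x => by
    rw [Finset.mul_sum, chiEval_sum]
    refine Finset.sum_congr rfl fun v _ => ?_
    rw [MonoidAlgebra.single_mul_single, chiEval_single, one_mul]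
  have h2 : cls ℂ g = ∑ x ∈ Finset.univ.filter (fun x => IsConj g x),
      MonoidAlgebra.single x (1 : ℂ) := by
    refine fn_ext fun z => ?_
    rw [fn_cls, fn_sum]
    simp only [fn_single]
    rw [Finset.sum_ite_eq' _ z (fun _ => (1 : ℂ))]
    simp
  have h3 : C.chiE χ θ 1 = chiEval (χ : G → ℂ) e := by
    rw [← h1 1, ← MonoidAlgebra.one_def, one_mul]
  rw [h3, ← omega_cls_irr χ g, ← chiEval_central_mul χ (isCentralFn_cls g), h2, Finset.sum_mul,
    chiEval_sum]
  exact Finset.sum_congr rfl fun x _ => h1 x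

/-- The central character of a character lying over `θ`. -/
theorem small_centralChar_sub_Th (hM : IsPModular p M) {χ : IrrCharacter G}
    {θ : IrrCharacter C.V} (hl : C.Lies χ θ) (g : G) :
    Small M (centralChar (χ : G → ℂ) g - C.Th θ g) := by
  obtain ⟨m, hmp, hm⟩ := C.exists_mval hM hl
  set D : ℂ := (C.orbDeg (θ : C.V → ℂ) : ℂ)
  have hu : IsUnitAt M ((m : ℂ) * D) := by
    refine IsUnitAt.mul (isUnitAt_iff.2 ⟨intCast_mem_place m, not_small_intCast hM hmp⟩)
      (isUnitAt_natCast hM ?_)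
    rw [Cyc.orbDeg, (Fact.out : p.Prime).dvd_mul]
    rintro (h | h)
    · exact C.not_dvd (h.trans (Subgroup.index_dvd_card _))
    · exact C.not_dvd_deg_V θ h
  set X := Finset.univ.filter (fun x => IsConj g x)
  have hout : Small M (∑ x ∈ X.filter (fun x => x ∉ C.Cs), C.chiE χ θ x) := by
    refine C.small_sum_free hM _ _ (fun x hx => ?_) (fun x hx => (Finset.mem_filter.1 hx).2)
      (C.chiE_conj χ θ) (C.chiE_mem hM χ θ)
    simp only [X, Finset.mem_filter, Finset.mem_univ, true_and] at hx ⊢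
    refine ⟨hx.1.trans (isConj_iff.2 ⟨C.y, rfl⟩), fun h => hx.2 ?_⟩
    have h' := Subgroup.mem_centralizer_singleton_iff.1 h
    refine Subgroup.mem_centralizer_singleton_iff.2 ?_
    have h5 := congrArg (fun z => C.y⁻¹ * z * C.y) h'
    simp only [mul_assoc, inv_mul_cancel_left, inv_mul_cancel, mul_one] at h5 ⊢
    exact h5
  have hin : Small M (∑ x ∈ X.filter (fun x => x ∈ C.Cs), C.chiE χ θ x -
      (m : ℂ) * D * C.Th θ g) := by
    rw [Th, Finset.mul_sum]
    have hbij : ∑ x ∈ X.filter (fun x => x ∈ C.Cs), C.chiE χ θ x =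
        ∑ x ∈ Finset.univ.filter (fun x : ZMod p × C.V => IsConj g (C.el x.1 x.2)),
          C.chiE χ θ (C.el x.1 x.2) := by
      symm
      refine Finset.sum_bij (fun x _ => C.el x.1 x.2) (fun x hx => ?_)
        (fun a _ b _ e => C.el_injective e) (fun z hz => ?_) fun _ _ => rfl
      · simp only [X, Finset.mem_filter, Finset.mem_univ, true_and] at hx ⊢
        exact ⟨hx, C.el_mem _ _⟩
      · simp only [X, Finset.mem_filter, Finset.mem_univ, true_and] at hz
        obtain ⟨j, w, e⟩ := C.exists_el hz.2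
        refine ⟨(j, w), Finset.mem_filter.2 ⟨Finset.mem_univ _, ?_⟩, e⟩
        show IsConj g (C.el j w)
        rw [e]
        exact isConj_iff.2 (isConj_iff.1 hz.1)
    rw [hbij, ← Finset.sum_sub_distrib]
    exact small_sum _ _ fun x _ => C.small_chiE_el hM χ θ m hm x.1 x.2
  have htot : Small M (centralChar (χ : G → ℂ) g * C.chiE χ θ 1 - (m : ℂ) * D * C.Th θ g) := by
    rw [C.chiE_class, ← Finset.sum_filter_add_sum_filter_not X (fun x => x ∈ C.Cs)]
    have := hin.add hout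
    convert this using 1
    ring
  have h1 := (C.small_chiE_one hM χ θ m hm).mem_mul (centralChar_mem_place hM χ g)
  have h2 := (htot.sub h1).mul_mem hu.inv.mem_place
  obtain ⟨hm0, hD0⟩ := mul_ne_zero_iff.1 hu.ne_zero
  have e : (centralChar (χ : G → ℂ) g * C.chiE χ θ 1 - (m : ℂ) * D * C.Th θ g -
      centralChar (χ : G → ℂ) g * (C.chiE χ θ 1 - (m : ℂ) * D)) * ((m : ℂ) * D)⁻¹ =
      centralChar (χ : G → ℂ) g - C.Th θ g := by field_simp; ring
  exact e ▸ h2

theorem sameBlock_of_lies (hM : IsPModular p M) {χ χ' : IrrCharacter G} {θ : IrrCharacter C.V}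
    (h : C.Lies χ θ) (h' : C.Lies χ' θ) : SameBlock M (χ : G → ℂ) χ' := by
  rw [sameBlock_iff hM]
  intro g
  have := (C.small_centralChar_sub_Th hM h g).sub (C.small_centralChar_sub_Th hM h' g)
  rwa [sub_sub_sub_cancel_right] at this

lemma conj_el_iff (v : C.V) (x : ZMod p × C.V) :
    IsConj (C.el 1 v) (C.el x.1 x.2) ↔
      ∃ h : C.H, ((C.act h : ZMod p), MulAut.conjNormal h v) = x := by
  constructor
  · intro hc
    obtain ⟨c, hc⟩ := isConj_iff.1 hc
    have h1 : c⁻¹⁻¹ * C.el 1 v * c⁻¹ = C.el x.1 x.2 := by rwa [inv_inv]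
    have hN := C.norm_of_mem (mul_ne_zero C.card_cast_ne_zero one_ne_zero) (C.conj_el_eq h1)
    obtain ⟨i, h, hh, e⟩ := C.decomp c (by simpa using Subgroup.inv_mem _ hN)
    refine ⟨⟨h, hh⟩, C.el_injective ?_⟩
    show C.el _ _ = C.el x.1 x.2
    rw [← hc, e, show C.y ^ i * h * C.el 1 v * (C.y ^ i * h)⁻¹ =
        C.y ^ i * (h * C.el 1 v * h⁻¹) * (C.y ^ i)⁻¹ by group]
    have := C.el_conj ⟨h, hh⟩ 1 v
    rw [mul_one] at this
    rw [this, ← C.yP_natCast, ← C.yP_neg, ← C.el_one_right, ← C.el_one_right (-_), C.el_mul,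
      C.el_mul, one_mul, mul_one]
    congr 1
    ring
  · rintro ⟨h, rfl⟩
    refine isConj_iff.2 ⟨(h : G), ?_⟩
    rw [C.el_conj, mul_one]

/-- Characters of distinct orbits have distinct central characters. -/
theorem exists_conjI_of_small (hM : IsPModular p M) {θ θ' : IrrCharacter C.V}
    (hsm : ∀ g, Small M (C.Th θ g - C.Th θ' g)) : ∃ h : C.H, C.conjI h θ = θ' := by
  by_contra hno
  push Not at hno
  -- on the class of `y v`
  let π : C.V → C.H → ZMod p × C.V := fun v h => ((C.act h : ZMod p), MulAut.conjNormal h v)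
  have hkey : ∀ v : C.V, ∃ k : ℕ, ∀ φ : IrrCharacter C.V,
      (k : ℂ) * C.Th φ (C.el 1 v) = ∑ h : C.H, C.thAvg φ (MulAut.conjNormal h v) := by
    intro v
    set S : Finset C.H := Finset.univ.filter fun s => π v s = π v 1
    refine ⟨S.card, fun φ => ?_⟩
    have himg : Finset.univ.filter (fun x : ZMod p × C.V => IsConj (C.el 1 v) (C.el x.1 x.2)) =
        Finset.univ.image (π v) := by
      ext x
      simp only [Finset.mem_filter, Finset.mem_univ, true_and, Finset.mem_image]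
      exact C.conj_el_iff v x
    rw [Th, himg, Finset.mul_sum]
    symm
    rw [← Finset.sum_fiberwise_of_maps_to (g := π v) (t := Finset.univ.image (π v))
      fun h _ => Finset.mem_image_of_mem _ (Finset.mem_univ h)]
    refine Finset.sum_congr rfl fun x hx => ?_
    obtain ⟨h₀, -, rfl⟩ := Finset.mem_image.1 hx
    rw [Finset.sum_congr rfl (g := fun _ => C.thAvg φ (π v h₀).2) fun h hh => by
      rw [← (Finset.mem_filter.1 hh).2], Finset.sum_const, nsmul_eq_mul]
    congr 1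
    rw [Nat.cast_inj]
    symm
    refine Finset.card_bij (fun s _ => h₀ * s) (fun s hs => ?_) (fun a _ b _ e => mul_left_cancel e)
      fun h hh => ⟨h₀⁻¹ * h, ?_, mul_inv_cancel_left h₀ h⟩
    · simp only [π, S, Finset.mem_filter, Finset.mem_univ, true_and, Prod.mk.injEq, map_mul,
        Units.val_mul, MulAut.mul_apply] at hs ⊢
      rw [hs.1, hs.2]
      simp
    · simp only [π, S, Finset.mem_filter, Finset.mem_univ, true_and, Prod.mk.injEq, map_mul,
        map_inv, Units.val_mul, MulAut.mul_apply, map_one, Units.val_one, MulAut.one_apply] at hh ⊢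
      rw [hh.1, hh.2]
      refine ⟨?_, ?_⟩
      · rw [← Units.val_mul, inv_mul_cancel, Units.val_one]
      · exact MulEquiv.symm_apply_apply _ v
  have havg : ∀ (φ : IrrCharacter C.V) (v : C.V), ∑ h : C.H, C.thAvg φ (MulAut.conjNormal h v) =
      ((φ : C.V → ℂ) 1)⁻¹ * ∑ k : C.H, conjN C.V k (φ : C.V → ℂ) v := by
    intro φ v
    have h1 : ∀ h : C.H, C.thAvg φ (MulAut.conjNormal h v) = C.thAvg φ v := fun h => by
      rw [thAvg, thAvg]
      congr 1
      refine Fintype.sum_equiv (Equiv.mulRight h) _ _ fun k => ?_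
      rw [Equiv.coe_mulRight, conjN_eq_comp, conjN_eq_comp, map_mul]
      rfl
    rw [Finset.sum_congr rfl fun h _ => h1 h, Finset.sum_const, Finset.card_univ, nsmul_eq_mul,
      ← Nat.card_eq_fintype_card, thAvg, mul_inv, ← mul_assoc, ← mul_assoc,
      mul_inv_cancel₀ (Nat.cast_ne_zero.2 Nat.card_pos.ne'), one_mul]
  have hv : ∀ v : C.V, Small M (((θ : C.V → ℂ) 1)⁻¹ * ∑ k : C.H, conjN C.V k (θ : C.V → ℂ) v -
      ((θ' : C.V → ℂ) 1)⁻¹ * ∑ k : C.H, conjN C.V k (θ' : C.V → ℂ) v) := fun v => by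
    obtain ⟨k, hk⟩ := hkey v
    have := (hsm (C.el 1 v)).mem_mul (natCast_mem_place k)
    rwa [mul_sub, hk, hk, havg, havg] at this
  have h1 : ∀ φ : IrrCharacter C.V, (Nat.card C.V : ℂ)⁻¹ * ∑ v : C.V,
      ((φ : C.V → ℂ) 1)⁻¹ * (∑ k : C.H, conjN C.V k (φ : C.V → ℂ) v) * conj ((θ : C.V → ℂ) v) =
      ((φ : C.V → ℂ) 1)⁻¹ * ∑ k : C.H, if C.conjI k φ = θ then (1 : ℂ) else 0 := by
    intro φ
    rw [Finset.sum_congr rfl fun k _ => (classInner_irrCharacter (C.conjI k φ) θ).symm]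
    simp only [classInner_def, Finset.mul_sum, Finset.sum_mul]
    rw [Finset.sum_comm]
    exact Finset.sum_congr rfl fun k _ => Finset.sum_congr rfl fun v _ => by
      rw [show (C.conjI k φ : C.V → ℂ) v = conjN C.V k (φ : C.V → ℂ) v from rfl]; ring
  have h2 : Small M (((θ : C.V → ℂ) 1)⁻¹ * ∑ k : C.H, if C.conjI k θ = θ then (1 : ℂ) else 0) := by
    have h3 : Small M ((Nat.card C.V : ℂ)⁻¹ * ∑ v : C.V,
        (((θ : C.V → ℂ) 1)⁻¹ * ∑ k : C.H, conjN C.V k (θ : C.V → ℂ) v -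
        ((θ' : C.V → ℂ) 1)⁻¹ * ∑ k : C.H, conjN C.V k (θ' : C.V → ℂ) v) * conj ((θ : C.V → ℂ) v)) :=
      Small.mem_mul (small_sum _ _ fun v _ => (hv v).mul_mem (isIntegral_mem_place hM
        (IsCharacter.isIntegral (IsCharacter.conjugate (isCharacter_of_irr θ.2)) v)))
        (isUnitAt_natCast hM C.not_dvd_card_V).inv.mem_place
    rw [Finset.sum_congr rfl fun v _ => sub_mul _ _ _, Finset.sum_sub_distrib, mul_sub, h1, h1] at h3
    rwa [Finset.sum_eq_zero (s := Finset.univ) (f := fun k : C.H =>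
      if C.conjI k θ' = θ then (1 : ℂ) else 0) fun k _ => if_neg fun e => hno k⁻¹ (by
        rw [← e]
        refine Subtype.ext ?_
        show conjN C.V k⁻¹ (conjN C.V k (θ' : C.V → ℂ)) = _
        rw [← conjN_mul, mul_inv_cancel, conjN_one]), mul_zero, sub_zero] at h3
  refine IsUnitAt.not_small ((C.isUnitAt_theta_one hM θ).inv.mul ?_) h2
  rw [Finset.sum_boole]
  refine isUnitAt_natCast hM fun h => C.not_dvd (h.trans ?_)
  have e : (Finset.univ.filter fun k => C.conjI k θ = θ).card = Nat.card (C.stab (θ : C.V → ℂ)) := by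
    rw [Nat.card_eq_fintype_card, Fintype.card_subtype]
    congr 1
    ext k
    simp only [Finset.mem_filter, Finset.mem_univ, true_and, mem_inertia]
    exact Subtype.ext_iff
  rw [e]
  exact Subgroup.card_subgroup_dvd_card _

theorem conjI_of_lies (hM : IsPModular p M) {χ : IrrCharacter G} {θ θ' : IrrCharacter C.V}
    (h : C.Lies χ θ) (h' : C.Lies χ θ') : ∃ k : C.H, C.conjI k θ = θ' :=
  C.exists_conjI_of_small hM fun g => by
    have := (C.small_centralChar_sub_Th hM h' g).sub (C.small_centralChar_sub_Th hM h g)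
    rwa [sub_sub_sub_cancel_left] at this

/-- The degree of a character lying over `θ`. -/
theorem small_deg_sub (hM : IsPModular p M) {χ : IrrCharacter G} {θ : IrrCharacter C.V}
    (hl : C.Lies χ θ) (m : ℤ)
    (hm : ∀ i : ZMod p, i ≠ 0 → Small M (C.mu (χ : G → ℂ) (θ : C.V → ℂ) i - (m : ℂ))) :
    Small M ((χ : G → ℂ) 1 - (m : ℂ) * (C.orbDeg (θ : C.V → ℂ) : ℂ)) := by
  have hsum : (χ : G → ℂ) 1 = ∑ φ : IrrCharacter C.V,
      C.mu (χ : G → ℂ) (φ : C.V → ℂ) 0 * (φ : C.V → ℂ) 1 := by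
    rw [← C.apply_el_eq_sum (isClassFunction_irr χ), C.el_zero]
    rfl
  set O : Finset (IrrCharacter C.V) := Finset.univ.image fun k : C.H => C.conjI k θ
  have hO : ∀ φ ∈ O, Small M (C.mu (χ : G → ℂ) (φ : C.V → ℂ) 0 - (m : ℂ)) ∧
      (φ : C.V → ℂ) 1 = (θ : C.V → ℂ) 1 := by
    intro φ hφ
    obtain ⟨k, -, rfl⟩ := Finset.mem_image.1 hφ
    refine ⟨?_, ?_⟩
    · show Small M (C.mu (χ : G → ℂ) (conjN C.V k (θ : C.V → ℂ)) 0 - _)
      rw [C.mu_conj (isClassFunction_irr χ), mul_zero]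
      have := (hm 1 one_ne_zero).sub (C.small_mu_sub hM χ θ 1)
      rwa [sub_sub_sub_cancel_left] at this
    · exact C.conjI_one k θ
  have hrest : ∀ φ ∉ O, Small M (C.mu (χ : G → ℂ) (φ : C.V → ℂ) 0) := fun φ hφ => by
    have h0 : ¬ C.Lies χ φ := fun h => by
      obtain ⟨k, hk⟩ := C.conjI_of_lies hM hl h
      exact hφ (Finset.mem_image.2 ⟨k, Finset.mem_univ _, hk⟩)
    have := (C.small_mu_sub hM χ φ 1).neg
    rwa [C.mu_eq_zero_of_not_lies h0 one_ne_zero, zero_sub, neg_neg] at this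
  have hcard : O.card = (C.stab (θ : C.V → ℂ)).index := by
    rw [← C.card_orbit]
    refine Finset.card_bij (fun φ _ => (φ : C.V → ℂ)) (fun φ hφ => ?_)
      (fun a _ b _ e => Subtype.ext e) fun ψ hψ => ?_
    · obtain ⟨k, -, rfl⟩ := Finset.mem_image.1 hφ
      exact (mem_conjOrbit C.V).2 ⟨k, rfl⟩
    · obtain ⟨k, rfl⟩ := (mem_conjOrbit C.V).1 hψ
      exact ⟨C.conjI k θ, Finset.mem_image.2 ⟨k, Finset.mem_univ _, rfl⟩, rfl⟩
  rw [hsum, ← Finset.sum_add_sum_compl O, Cyc.orbDeg, ← hcard, Nat.cast_mul,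
    ← IsCharacter.apply_one_eq_deg (isCharacter_of_irr θ.2), mul_left_comm, ← mul_assoc,
    show ∀ a b : ℂ, (O.card : ℂ) * a * b = ∑ _φ ∈ O, a * b from fun a b => by
      rw [Finset.sum_const, nsmul_eq_mul, mul_assoc], add_sub_right_comm, ← Finset.sum_sub_distrib]
  refine (small_sum _ _ fun φ hφ => ?_).add (small_sum _ _ fun φ hφ => ?_)
  · rw [(hO φ hφ).2, ← sub_mul]
    exact (hO φ hφ).1.mul_mem (C.isUnitAt_theta_one hM θ).mem_place
  · exact (hrest φ (Finset.mem_compl.1 hφ)).mul_mem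
      (isIntegral_mem_place hM (IsCharacter.isIntegral (isCharacter_of_irr φ.2) 1))

theorem not_dvd_deg_of_lies (hM : IsPModular p M) {χ : IrrCharacter G} {θ : IrrCharacter C.V}
    (hl : C.Lies χ θ) : ¬ p ∣ charDegree (χ : G → ℂ) := by
  obtain ⟨m, hmp, hm⟩ := C.exists_mval hM hl
  intro hd
  have h1 := C.small_deg_sub hM hl m hm
  rw [irr_apply_one_eq_deg, ← Int.cast_natCast, ← Int.cast_natCast (R := ℂ) (C.orbDeg _),
    ← Int.cast_mul, ← Int.cast_sub, small_intCast_iff hM] at h1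
  have h2 : (p : ℤ) ∣ m * (C.orbDeg (θ : C.V → ℂ) : ℤ) :=
    (dvd_sub_right (Int.natCast_dvd_natCast.2 hd)).1 h1
  rcases (Nat.prime_iff_prime_int.1 (Fact.out : p.Prime)).dvd_mul.1 h2 with h | h
  · exact hmp h
  · rw [Int.natCast_dvd_natCast, Cyc.orbDeg, (Fact.out : p.Prime).dvd_mul] at h
    rcases h with h | h
    · exact C.not_dvd (h.trans (Subgroup.index_dvd_card _))
    · exact C.not_dvd_deg_V θ h

lemma exists_conj_el {g : G} (hg : p ∣ orderOf g) (P : Sylow p G)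
    (hP : Subgroup.zpowers C.y = (P : Subgroup G)) :
    ∃ i : ZMod p, i ≠ 0 ∧ ∃ v, IsConj g (C.el i v) := by
  obtain ⟨z, ⟨w, hw⟩, hgz, hz, hw1⟩ := exists_conj_isPPart P hg
  rw [← hP] at hw
  obtain ⟨i, rfl⟩ := C.mem_zpowers_iff.1 hw
  have hi : i ≠ 0 := fun h => hw1 (by simp [h])
  obtain ⟨x, hx, hc, -, hxp⟩ := hz
  have hcy : z ∈ C.Cs := by
    rw [← hx]
    refine C.Cs.mul_mem ?_ ?_
    · show C.yP i ∈ C.Cs
      rw [← C.el_one_right]; exact C.el_mem i 1
    · refine Subgroup.mem_centralizer_singleton_iff.2 ?_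
      obtain ⟨k, hk⟩ : ∃ k : ℕ, C.yP i ^ k = C.y := by
        refine ⟨(i⁻¹).val, ?_⟩
        rw [C.yP_pow, ZMod.natCast_zmod_val, inv_mul_cancel₀ hi, C.yP_one]
      rw [← hk]
      exact ((hc.pow_left k).symm).eq
  obtain ⟨j, v, e⟩ := C.exists_el hcy
  refine ⟨j, fun h0 => ?_, v, e ▸ hgz⟩
  apply hi
  have hreg : ¬ p ∣ orderOf z := by
    rw [← e, h0, C.el_zero, Subgroup.orderOf_coe]
    exact fun hd => C.not_dvd (hd.trans (orderOf_dvd_natCard _))
  obtain ⟨c, rfl⟩ := isConj_iff.1 hgz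
  exact absurd hg (by rwa [show c * g * c⁻¹ = MulAut.conj c g from rfl, MulEquiv.orderOf_eq] at hreg)

lemma apply_singular_of_forall_not_lies {χ : IrrCharacter G}
    (h : ∀ θ : IrrCharacter C.V, ¬ C.Lies χ θ) (P : Sylow p G)
    (hP : Subgroup.zpowers C.y = (P : Subgroup G)) {g : G} (hg : p ∣ orderOf g) :
    (χ : G → ℂ) g = 0 := by
  obtain ⟨i, hi, v, hc⟩ := C.exists_conj_el hg P hP
  rw [apply_of_isConj χ hc, C.apply_el_eq_sum (isClassFunction_irr χ)]
  exact Finset.sum_eq_zero fun φ _ => by rw [C.mu_eq_zero_of_not_lies (h φ) hi, zero_mul]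

lemma dvd_deg_of_forall_not_lies {χ : IrrCharacter G}
    (h : ∀ θ : IrrCharacter C.V, ¬ C.Lies χ θ) (P : Sylow p G)
    (hP : Subgroup.zpowers C.y = (P : Subgroup G)) : p ∣ charDegree (χ : G → ℂ) := by
  have h1 := isIntegral_avg_coset (isCharacter_of_irr χ.2) (Subgroup.zpowers C.y) (g := 1)
    (one_mem _)
  rw [Nat.card_zpowers, C.order, Finset.sum_eq_single (1 : Subgroup.zpowers C.y)
    (fun u _ hu => ?_) (by simp), OneMemClass.coe_one, mul_one, irr_apply_one_eq_deg] at h1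
  · obtain ⟨w, hw⟩ := IsIntegrallyClosed.isIntegral_iff.1
      (show IsIntegral ℤ ((deg (χ : G → ℂ) : ℚ) / p) by
        refine (isIntegral_algebraMap_iff (B := ℂ) (algebraMap ℚ ℂ).injective).1 ?_
        rw [map_div₀, map_natCast, map_natCast, div_eq_inv_mul]
        exact h1)
    have : (deg (χ : G → ℂ) : ℤ) = w * p := by
      apply Int.cast_injective (α := ℚ)
      rw [Int.cast_mul, Int.cast_natCast, Int.cast_natCast]
      have hp0 : (p : ℚ) ≠ 0 := Nat.cast_ne_zero.2 (Fact.out : p.Prime).ne_zero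
      rw [eq_div_iff hp0] at hw
      simpa using hw.symm
    exact Int.natCast_dvd_natCast.1 (this ▸ dvd_mul_left (p : ℤ) w)
  · refine C.apply_singular_of_forall_not_lies h P hP ?_
    rw [one_mul, Subgroup.orderOf_coe]
    have h2 : orderOf u ∣ p := by
      have := orderOf_dvd_natCard u
      rwa [Nat.card_zpowers, C.order] at this
    exact (((Nat.dvd_prime (Fact.out : p.Prime)).1 h2).resolve_left
      fun e => hu (orderOf_eq_one_iff.1 e)).ge.antisymm (Nat.le_of_dvd (Fact.out : p.Prime).pos h2)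
        ▸ dvd_rfl

/-- A character with no singular multiplicities is alone in its block. -/
lemma blockOf_of_forall_not_lies (hM : IsPModular p M) {χ : IrrCharacter G}
    (h : ∀ θ : IrrCharacter C.V, ¬ C.Lies χ θ) (P : Sylow p G)
    (hP : Subgroup.zpowers C.y = (P : Subgroup G)) :
    blockOf M (χ : G → ℂ) ⊆ {χ} := by
  refine blockOf_subset_of_integral hM (fun g => ?_) rfl
  rw [fn_blockElem_single]
  by_cases hg : p ∣ orderOf g
  · rw [C.apply_singular_of_forall_not_lies h P hP (g := g⁻¹) (by rwa [orderOf_inv]), mul_zero,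
      mul_zero]
    exact zero_mem _
  · obtain ⟨d, hd⟩ := C.dvd_deg_of_forall_not_lies h P hP
    obtain ⟨q, hq⟩ := C.dvd_card
    have hqp : ¬ p ∣ q := fun hd' => C.sq (by rw [hq, pow_two]; exact mul_dvd_mul_left p hd')
    rw [irr_apply_one_eq_deg, show deg (χ : G → ℂ) = p * d from hd, hq, ← mul_assoc]
    refine mul_mem ?_ (isIntegral_mem_place hM (IsCharacter.isIntegral (isCharacter_of_irr χ.2) _))
    rw [Nat.cast_mul, Nat.cast_mul, mul_inv]
    have hp0 : (p : ℂ) ≠ 0 := Nat.cast_ne_zero.2 (Fact.out : p.Prime).ne_zero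
    rw [show (p : ℂ)⁻¹ * (q : ℂ)⁻¹ * ((p : ℂ) * (d : ℂ)) = (q : ℂ)⁻¹ * d by field_simp]
    exact mul_mem (isUnitAt_natCast hM hqp).inv.mem_place (natCast_mem_place d)

/-- **The block of an orbit.** -/
theorem mem_blockOf_iff_lies (hM : IsPModular p M) (P : Sylow p G)
    (hP : Subgroup.zpowers C.y = (P : Subgroup G)) {χ χ' : IrrCharacter G}
    {θ : IrrCharacter C.V} (hl : C.Lies χ θ) :
    χ' ∈ blockOf M (χ : G → ℂ) ↔ C.Lies χ' θ := by
  refine ⟨fun hb => ?_, fun h' => C.sameBlock_of_lies hM hl h'⟩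
  by_cases h : ∃ φ : IrrCharacter C.V, C.Lies χ' φ
  · obtain ⟨φ, hφ⟩ := h
    obtain ⟨k, hk⟩ := C.exists_conjI_of_small hM (θ := θ) (θ' := φ) fun g => by
      have h1 := (sameBlock_iff hM χ χ').1 hb g
      have := ((C.small_centralChar_sub_Th hM hφ g).sub (C.small_centralChar_sub_Th hM hl g)).add h1
      convert this using 1
      ring
    rw [← hk] at hφ
    exact (C.lies_conjI k).1 hφ
  · push Not at h
    have h1 := C.blockOf_of_forall_not_lies hM h P hP
      (show χ ∈ blockOf M (χ' : G → ℂ) by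
        rw [mem_blockOf_iff, sameBlock_iff hM] at *
        intro g
        have := (hb g).neg
        rwa [neg_sub] at this)
    rw [Set.mem_singleton_iff.1 h1] at hl
    exact absurd hl (h θ)

end Cyc

end Cfsg.Lib.Blocks
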