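import Mathlib
import Cfsg.Agent.Blocks.OrbitBlock

/-!
# The members of a block of positive defect
-/

set_option autoImplicit false
set_option linter.unusedSectionVars false

namespace Cfsg.Lib.Blocks

open Cfsg.Lib.Chars
open scoped ComplexConjugate Classical

universe u

variable {G : Type u} [Group G] [Fintype G] {M : Ideal AlgInt} {p : ℕ} [Fact p.Prime]

namespace Cyc

variable (C : Cyc G p)

include C in
lemma factorization_card : (Nat.card G).factorization p = 1 := by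
  have hp := (Fact.out : p.Prime)
  refine le_antisymm ?_ (hp.factorization_pos_of_dvd Nat.card_pos.ne' C.dvd_card)
  by_contra h
  exact C.sq ((hp.pow_dvd_iff_le_factorization Nat.card_pos.ne').2 (by omega))

include C in
lemma card_div_pPart : Nat.card G / p ^ (Nat.card G).factorization p = Nat.card G / p := by
  rw [C.factorization_card, pow_one]

lemma index_E_dvd (θ : C.V → ℂ) : (C.E θ).index ∣ p - 1 := by
  have h := Subgroup.index_dvd_card (C.E θ)
  rwa [Nat.card_eq_fintype_card, ZMod.card_units] at h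

lemma index_E_mul (θ : C.V → ℂ) : (C.E θ).index * C.ee θ = p - 1 := by
  rw [Cyc.ee, Subgroup.index_mul_card, Nat.card_eq_fintype_card, ZMod.card_units]

lemma ee_pos (θ : C.V → ℂ) : 0 < C.ee θ := Nat.card_pos

lemma div_index_E (θ : C.V → ℂ) : (p - 1) / (C.E θ).index = C.ee θ := by
  rw [← C.index_E_mul θ, Nat.mul_div_cancel_left _
    (Nat.pos_of_ne_zero Subgroup.index_ne_zero_of_finite)]

lemma div_ee (θ : C.V → ℂ) : (p - 1) / C.ee θ = (C.E θ).index := by
  rw [← C.index_E_mul θ, Nat.mul_div_cancel _ (C.ee_pos θ)]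

variable {C}

lemma OrbitData.card_range {θ : IrrCharacter C.V} {ν : (ZMod p)ˣ → IrrCharacter G} {δ : ℤ}
    (hD : OrbitData C θ ν δ) : Nat.card (Set.range ν) = (C.E (θ : C.V → ℂ)).index := by
  let f : (ZMod p)ˣ ⧸ C.E (θ : C.V → ℂ) → Set.range ν :=
    Quotient.lift (fun u => (⟨ν u, u, rfl⟩ : Set.range ν)) fun a b h =>
      Subtype.ext ((hD.eq_iff a b).2 (QuotientGroup.leftRel_apply.1 h))
  refine (Nat.card_congr (Equiv.ofBijective f ⟨?_, ?_⟩)).symm
  · intro a b e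
    induction a using QuotientGroup.induction_on with
    | H x =>
    induction b using QuotientGroup.induction_on with
    | H y =>
    exact QuotientGroup.eq.2 ((hD.eq_iff x y).1 (congrArg Subtype.val e))
  · rintro ⟨_, u, rfl⟩
    exact ⟨(u : (ZMod p)ˣ ⧸ C.E (θ : C.V → ℂ)), rfl⟩

lemma OrbitData.range_subset {θ : IrrCharacter C.V} {ν : (ZMod p)ˣ → IrrCharacter G} {δ : ℤ}
    (hD : OrbitData C θ ν δ) : Set.range ν ⊆ {χ | C.Lies χ θ} :=
  fun χ hχ => (hD.lies_iff χ).2 (Or.inl hχ)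

lemma OrbitData.card_diff {θ : IrrCharacter C.V} {ν : (ZMod p)ˣ → IrrCharacter G} {δ : ℤ}
    (hD : OrbitData C θ ν δ) :
    Nat.card ↥({χ | C.Lies χ θ} \ Set.range ν) = C.ee (θ : C.V → ℂ) := by
  rw [← hD.card_ord]
  refine Nat.card_congr (Equiv.subtypeEquivRight fun χ => ?_)
  rw [Set.mem_sdiff, Set.mem_ofPred_eq, hD.lies_iff]
  tauto

lemma OrbitData.card_lies {θ : IrrCharacter C.V} {ν : (ZMod p)ˣ → IrrCharacter G} {δ : ℤ}
    (hD : OrbitData C θ ν δ) :
    Nat.card {χ | C.Lies χ θ} = (C.E (θ : C.V → ℂ)).index + C.ee (θ : C.V → ℂ) := by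
  rw [← hD.card_range, ← hD.card_diff, Nat.card_coe_set_eq, Nat.card_coe_set_eq,
    Nat.card_coe_set_eq, add_comm, Set.ncard_sdiff_add_ncard_of_subset hD.range_subset]

lemma OrbitData.sign_diff {θ : IrrCharacter C.V} {ν : (ZMod p)ˣ → IrrCharacter G} {δ : ℤ}
    (hD : OrbitData C θ ν δ) {χ : IrrCharacter G} (hχ : χ ∈ {χ | C.Lies χ θ} \ Set.range ν) :
    C.bI χ θ 1 = 1 ∨ C.bI χ θ 1 = -1 := by
  have h0 : C.bI χ θ 1 ≠ 0 := by
    rcases (hD.lies_iff χ).1 hχ.1 with h | h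
    · exact absurd h hχ.2
    · exact h.2
  have := hD.abs_ord χ hχ.2
  omega

/-- The relation on the regular elements. -/
lemma OrbitData.regular_sum {θ : IrrCharacter C.V} {ν : (ZMod p)ˣ → IrrCharacter G} {δ : ℤ}
    (hD : OrbitData C θ ν δ) {x : G} (hx : ¬ p ∣ orderOf x) (w : (ZMod p)ˣ) :
    (∑ χ ∈ Finset.univ.filter (fun χ => χ ∈ {χ | C.Lies χ θ} \ Set.range ν),
      (C.bI χ θ 1 : ℂ) * (χ : G → ℂ) x) + ((-δ : ℤ) : ℂ) * (ν w : G → ℂ) x = 0 := by
  have h := C.Z_regular 1 (θ : C.V → ℂ) hx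
  rw [C.Z_expand] at h
  have hw : (ν w : G → ℂ) x = (ν 1 : G → ℂ) x := by
    rw [← C.twist_regular w (ν 1) hx, hD.twist_exc, mul_one]
  have hn : ν 1 ∉ Finset.univ.filter (fun χ => χ ∈ {χ | C.Lies χ θ} \ Set.range ν) := fun hm =>
    (Finset.mem_filter.1 hm).2.2 ⟨1, rfl⟩
  have he : C.bI (ν 1) θ 1 = -δ := by
    have := hD.bI_exc 1 1
    rwa [inv_one, one_mul, if_pos (one_mem _), Units.val_one] at this
  rw [hw, ← he, add_comm, ← Finset.sum_insert
    (f := fun χ : IrrCharacter G => (C.bI χ θ 1 : ℂ) * (χ : G → ℂ) x) hn]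
  refine Eq.trans (Finset.sum_subset (Finset.subset_univ _) fun χ _ hχ => ?_) h
  rw [Finset.mem_insert, Finset.mem_filter, not_or] at hχ
  suffices C.bI χ θ 1 = 0 by rw [this, Int.cast_zero, zero_mul]
  by_cases hr : χ ∈ Set.range ν
  · obtain ⟨u, rfl⟩ := hr
    have h1 := hD.bI_exc u 1
    rw [Units.val_one, if_neg fun hu => hχ.1 ((hD.eq_iff u 1).2 hu)] at h1
    exact h1
  · by_contra h0
    exact hχ.2 ⟨Finset.mem_univ _, (hD.lies_iff χ).2 (Or.inr ⟨hr, h0⟩), hr⟩

variable (C)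

theorem exists_lies_block (hM : IsPModular p M) (P : Sylow p G)
    (hP : Subgroup.zpowers C.y = (P : Subgroup G)) {B : Set (IrrCharacter G)} (hB : IsPBlock M B)
    (hd : 0 < blockDefect p B) : ∃ θ : IrrCharacter C.V, B = {χ | C.Lies χ θ} := by
  rw [blockDefect, C.factorization_card] at hd
  obtain ⟨χ, hχ, h0⟩ : ∃ χ ∈ B, (charDegree (χ : G → ℂ)).factorization p = 0 := by
    have hne := IsPBlock.nonempty hM hB
    obtain ⟨χ, hχ, h⟩ := Nat.sInf_mem (hne.image
      fun χ : IrrCharacter G => (charDegree (χ : G → ℂ)).factorization p)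
    refine ⟨χ, hχ, ?_⟩
    simp only at h
    omega
  have hnd : ¬ p ∣ charDegree (χ : G → ℂ) := fun hdv => by
    exact ((Fact.out : p.Prime).factorization_pos_of_dvd (deg_irr_pos χ).ne' hdv).ne' h0
  obtain ⟨θ, hθ⟩ : ∃ θ, C.Lies χ θ := by
    by_contra h
    push Not at h
    exact hnd (C.dvd_deg_of_forall_not_lies h P hP)
  refine ⟨θ, ?_⟩
  rw [IsPBlock.eq_blockOf hM hB hχ]
  ext χ'
  exact C.mem_blockOf_iff_lies hM P hP hθ

end Cyc

end Cfsg.Lib.Blocks
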