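import Mathlib
import Cfsg.Agent.Blocks.OrbitFamily

/-!
# The orbit of a block of the centralizer
-/

set_option autoImplicit false
set_option linter.unusedSectionVars false

namespace Cfsg.Lib.Blocks

open Cfsg.Lib.Chars
open scoped ComplexConjugate Classical

universe u

variable {G : Type u} [Group G] [Fintype G] {M : Ideal AlgInt} {p : ℕ} [Fact p.Prime]

namespace Cyc

variable (C : Cyc G p)

/-- The induced central character of an orbit as a plain sum. -/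
lemma Th_eq (θ : IrrCharacter C.V) (g : G) :
    C.Th θ g = ∑ x ∈ Finset.univ.filter (fun x : ZMod p × C.V => IsConj g (C.el x.1 x.2)),
      (θ : C.V → ℂ) x.2 / (θ : C.V → ℂ) 1 := by
  set S := Finset.univ.filter (fun x : ZMod p × C.V => IsConj g (C.el x.1 x.2)) with hS
  have h1 : ∀ h : C.H, ∑ x ∈ S, conjN C.V h (θ : C.V → ℂ) x.2 = ∑ x ∈ S, (θ : C.V → ℂ) x.2 := by
    intro h
    let π : ZMod p × C.V ≃ ZMod p × C.V :=
      (Equiv.mulLeft₀ (C.act h : ZMod p) (C.act h).ne_zero).prodCongr (MulAut.conjNormal h).toEquiv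
    refine Finset.sum_equiv π (fun x => ?_) fun x _ => ?_
    · simp only [hS, Finset.mem_filter, Finset.mem_univ, true_and]
      have hc : IsConj (C.el x.1 x.2) (C.el (π x).1 (π x).2) :=
        isConj_iff.2 ⟨(h : G), C.el_conj h x.1 x.2⟩
      exact ⟨fun e => e.trans hc, fun e => e.trans hc.symm⟩
    · rw [conjN_eq_comp]
      rfl
  rw [Th]
  simp only [thAvg, ← hS, ← Finset.mul_sum]
  rw [Finset.sum_comm, Finset.sum_congr rfl fun h _ => h1 h, Finset.sum_const, Finset.card_univ,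
    nsmul_eq_mul, ← Finset.sum_div, ← Nat.card_eq_fintype_card, mul_inv]
  have : (Nat.card C.H : ℂ) ≠ 0 := Nat.cast_ne_zero.2 Nat.card_pos.ne'
  field_simp

lemma centralizer_eq {P : Subgroup G} (hP : Subgroup.zpowers C.y = P) :
    Subgroup.centralizer (P : Set G) = C.Cs := by
  subst hP
  ext g
  rw [Subgroup.mem_centralizer_iff, Subgroup.mem_centralizer_singleton_iff]
  refine ⟨fun h => (h _ (Subgroup.mem_zpowers _)).symm, fun h x hx => ?_⟩
  obtain ⟨m, rfl⟩ := hx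
  exact ((Commute.zpow_right (show Commute g C.y from h) m)).symm.eq

/-- A character of the centralizer with `y` in its kernel. -/
lemma exists_restrict {K : Subgroup G} (hK : K = C.Cs) (θ : IrrCharacter K)
    (hker : ∀ x : K, (x : G) ∈ Subgroup.zpowers C.y → (θ : K → ℂ) x = (θ : K → ℂ) 1) :
    ∃ ϑ : IrrCharacter C.V, (ϑ : C.V → ℂ) 1 = (θ : K → ℂ) 1 ∧
      (∀ (i : ZMod p) (v : C.V) (h : C.el i v ∈ K), (θ : K → ℂ) ⟨C.el i v, h⟩ = (ϑ : C.V → ℂ) v) ∧
      ∀ g, inducedCentralChar K (θ : K → ℂ) g = C.Th ϑ g := by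
  subst hK
  have hθ := isCharacter_of_irr θ.2
  let r : C.V →* C.Cs := MonoidHom.mk' (fun v => ⟨C.el 0 v, C.el_mem 0 v⟩)
    fun v w => Subtype.ext (by rw [Subgroup.coe_mul, C.el_mul, add_zero])
  have hval : ∀ (i : ZMod p) (v : C.V),
      (θ : C.Cs → ℂ) ⟨C.el i v, C.el_mem i v⟩ = (θ : C.Cs → ℂ) (r v) := fun i v => by
    have e : (⟨C.el i v, C.el_mem i v⟩ : C.Cs) = ⟨C.el i 1, C.el_mem i 1⟩ * r v :=
      Subtype.ext (show C.el i v = C.el i 1 * C.el 0 v by rw [C.el_mul, add_zero, one_mul])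
    rw [e, IsCharacter.ker_mul hθ (hker _ (C.mem_zpowers_iff.2 ⟨i, (C.el_one_right i).symm⟩))]
  have hn : Cfsg.classInner (fun v => (θ : C.Cs → ℂ) (r v)) (fun v => (θ : C.Cs → ℂ) (r v)) = 1 := by
    have h := classInner_self_irr θ.2
    rw [classInner_def, C.sum_Cs] at h
    simp only [hval, Finset.sum_const, Finset.card_univ, ZMod.card, nsmul_eq_mul, C.card_Cs] at h
    rw [classInner_def, ← h]
    have : (p : ℂ) ≠ 0 := Nat.cast_ne_zero.2 (Fact.out : p.Prime).ne_zero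
    push_cast
    field_simp
  have hirr := isIrrCharacter_of_norm_one (IsCharacter.comp_hom hθ r) hn
  refine ⟨⟨_, hirr⟩, congrArg (θ : C.Cs → ℂ) (map_one r), fun i v _ => hval i v, fun g => ?_⟩
  rw [C.Th_eq]
  show ∑ᶠ h ∈ {h : C.Cs | IsConj g (h : G)}, _ = _
  rw [finsum_mem_eq_toFinset_sum, show
    (θ : C.Cs → ℂ) 1 = (θ : C.Cs → ℂ) (r 1) from congrArg _ (map_one r).symm]
  symm
  refine Finset.sum_bij (fun x _ => ⟨C.el x.1 x.2, C.el_mem _ _⟩) (fun x hx => ?_)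
    (fun a _ b _ e => C.el_injective (congrArg Subtype.val e)) (fun c hc => ?_) fun x _ => ?_
  · simpa using hx
  · obtain ⟨i, v, e⟩ := C.exists_el c.2
    refine ⟨(i, v), ?_, Subtype.ext e⟩
    rw [Set.mem_toFinset] at hc
    simpa [e] using hc
  · rw [hval]

/-- The centralizer lies in the stabiliser. -/
lemma centralizer_le_T {K : Subgroup G} (hK : K = C.Cs) (θ : K → ℂ) (ϑ : C.V → ℂ)
    (hcl : Cfsg.IsClassFunction C.V ϑ)
    (hval : ∀ (i : ZMod p) (v : C.V) (h : C.el i v ∈ K), θ ⟨C.el i v, h⟩ = ϑ v) (T : Subgroup G)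
    (hT : ∀ g : G, g ∈ T ↔ (g ∈ Subgroup.normalizer (Subgroup.zpowers C.y : Set G) ∧
      ∀ c c' : K, (c' : G) = g * c * g⁻¹ → θ c' = θ c)) :
    K ≤ T := by
  subst hK
  intro g hg
  obtain ⟨i, v, rfl⟩ := C.exists_el hg
  refine (hT _).2 ⟨Subgroup.mul_mem _ (C.yP_mem_norm i) (C.le_norm (v : C.H).2), fun c c' e => ?_⟩
  obtain ⟨j, w, hc⟩ := C.exists_el c.2
  have hv : C.el i v * C.el j w * (C.el i v)⁻¹ = C.el j (v * w * v⁻¹) := by
    rw [mul_inv_eq_iff_eq_mul, C.el_mul, C.el_mul, inv_mul_cancel_right, add_comm]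
  rw [← hc, hv] at e
  rw [show c' = ⟨C.el j (v * w * v⁻¹), C.el_mem _ _⟩ from Subtype.ext e, show
    c = ⟨C.el j w, C.el_mem _ _⟩ from Subtype.ext hc.symm, hval, hval]
  exact hcl w v

lemma el_conj_norm (i j : ZMod p) (h : C.H) (w : C.V) :
    C.yP i * (h : G) * C.el j w * (C.yP i * (h : G))⁻¹ =
      C.el ((C.act h : ZMod p) * j) (MulAut.conjNormal h w) := by
  rw [show C.yP i * (h : G) * C.el j w * (C.yP i * (h : G))⁻¹ =
    C.yP i * ((h : G) * C.el j w * (h : G)⁻¹) * (C.yP i)⁻¹ by group, C.el_conj, ← C.yP_neg,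
    ← C.el_one_right i, ← C.el_one_right (-i), C.el_mul, C.el_mul, one_mul, mul_one]
  congr 1
  ring

lemma yP_mul_injective : Function.Injective fun x : ZMod p × C.H => C.yP x.1 * (x.2 : G) := by
  rintro ⟨i, h⟩ ⟨j, k⟩ e
  simp only at e
  have hmem : ((h * k⁻¹ : C.H) : G) = C.yP (-i + j) := by
    rw [C.yP_add, C.yP_neg, Subgroup.coe_mul, Subgroup.coe_inv, eq_inv_mul_iff_mul_eq, ← mul_assoc,
      e, mul_inv_cancel_right]
  have h1 := congrArg (fun z : G => z ^ Nat.card C.H) hmem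
  simp only [C.yP_pow, ← SubmonoidClass.coe_pow] at h1
  rw [pow_card_eq_one', OneMemClass.coe_one] at h1
  have h2 := (mul_eq_zero.1 (C.yP_injective (h1.symm.trans C.yP_zero.symm))).resolve_left
    C.card_cast_ne_zero
  have h3 : i = j := by linear_combination -h2
  subst h3
  exact Prod.ext rfl (Subtype.ext (mul_left_cancel e))

/-- The normalizer of `⟨y⟩` has order `p|H|`. -/
lemma card_norm :
    Nat.card (Subgroup.normalizer (Subgroup.zpowers C.y : Set G)) = p * Nat.card C.H := by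
  rw [← Nat.card_congr (Equiv.ofBijective (fun x : ZMod p × C.H =>
    (⟨C.yP x.1 * (x.2 : G), Subgroup.mul_mem _ (C.yP_mem_norm x.1) (C.le_norm x.2.2)⟩ :
      Subgroup.normalizer (Subgroup.zpowers C.y : Set G))) ⟨fun a b e => C.yP_mul_injective
        (congrArg Subtype.val e), fun g => ?_⟩), Nat.card_prod, Nat.card_zmod]
  obtain ⟨i, h, hh, e⟩ := C.decomp g g.2
  exact ⟨((i : ZMod p), ⟨h, hh⟩), Subtype.ext (by rw [e, ← C.yP_natCast])⟩

/-- The order of the stabiliser. -/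
lemma card_T {K : Subgroup G} (hK : K = C.Cs) (θ : K → ℂ) (ϑ : C.V → ℂ)
    (hval : ∀ (i : ZMod p) (v : C.V) (h : C.el i v ∈ K), θ ⟨C.el i v, h⟩ = ϑ v) (T : Subgroup G)
    (hT : ∀ g : G, g ∈ T ↔ (g ∈ Subgroup.normalizer (Subgroup.zpowers C.y : Set G) ∧
      ∀ c c' : K, (c' : G) = g * c * g⁻¹ → θ c' = θ c)) :
    Nat.card T = p * Nat.card (C.stab ϑ) := by
  subst hK
  have hiff : ∀ (i : ZMod p) (h : C.H), C.yP i * (h : G) ∈ T ↔ h ∈ C.stab ϑ := by
    intro i h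
    rw [hT, C.mem_stab, conjN_eq_comp]
    constructor
    · rintro ⟨-, hc⟩
      funext w
      have := hc ⟨C.el 0 w, C.el_mem _ _⟩ ⟨_, C.el_mem _ _⟩ (C.el_conj_norm i 0 h w).symm
      rwa [hval, hval] at this
    · intro hs
      refine ⟨Subgroup.mul_mem _ (C.yP_mem_norm i) (C.le_norm h.2), fun c c' e => ?_⟩
      obtain ⟨j, w, hc⟩ := C.exists_el c.2
      rw [← hc, C.el_conj_norm] at e
      rw [show c' = ⟨C.el _ _, C.el_mem _ _⟩ from Subtype.ext e, show
        c = ⟨C.el j w, C.el_mem _ _⟩ from Subtype.ext hc.symm, hval, hval]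
      exact congrFun hs w
  rw [← Nat.card_congr (Equiv.ofBijective (fun x : ZMod p × C.stab ϑ =>
    (⟨C.yP x.1 * ((x.2 : C.H) : G), (hiff _ _).2 x.2.2⟩ : T)) ⟨fun a b e => ?_, fun g => ?_⟩),
    Nat.card_prod, Nat.card_zmod]
  · have := C.yP_mul_injective (a₁ := (a.1, (a.2 : C.H))) (a₂ := (b.1, (b.2 : C.H)))
      (congrArg Subtype.val e)
    rw [Prod.ext_iff] at this
    exact Prod.ext this.1 (Subtype.ext this.2)
  · obtain ⟨i, h, hh, e⟩ := C.decomp g ((hT _).1 g.2).1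
    have hg : C.yP (i : ZMod p) * ((⟨h, hh⟩ : C.H) : G) = g := by rw [C.yP_natCast, e]
    exact ⟨((i : ZMod p), ⟨⟨h, hh⟩, (hiff _ _).1 (hg ▸ g.2)⟩), Subtype.ext hg⟩

/-- `|stab θ| = e|V|`. -/
lemma card_stab {ϑ : C.V → ℂ} (hϑ : Cfsg.IsClassFunction C.V ϑ) :
    Nat.card (C.stab ϑ) = Nat.card C.V * C.ee ϑ := by
  have h := C.sum_stab hϑ (fun _ => 1)
  simp only [Finset.sum_const, nsmul_eq_mul, mul_one] at h
  rw [Cyc.ee, Nat.card_eq_fintype_card, Fintype.card_subtype,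
    Nat.card_eq_fintype_card (α := C.E ϑ), Fintype.card_subtype]
  exact_mod_cast h

end Cyc

end Cfsg.Lib.Blocks
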