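import Mathlib
import Cfsg.Agent.Blocks.OrbitLocal
import Cfsg.Agent.Blocks.Feit3
import Cfsg.Agent.Chars.Count

/-!
# Counting the characters of degree prime to `p`
-/

set_option autoImplicit false
set_option linter.unusedSectionVars false

namespace Cfsg.Lib.Blocks

open Cfsg.Lib.Chars
open scoped ComplexConjugate Classical

universe u v

variable {G : Type u} [Group G] [Fintype G] {M : Ideal AlgInt} {p : ℕ} [Fact p.Prime]

namespace Cyc

variable (C : Cyc G p)

lemma conjI_mul (h k : C.H) (θ : IrrCharacter C.V) :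
    C.conjI (h * k) θ = C.conjI k (C.conjI h θ) :=
  Subtype.ext (conjN_mul C.V h k (θ : C.V → ℂ))

lemma card_conjI_image (θ : IrrCharacter C.V) :
    (Finset.univ.image fun k : C.H => C.conjI k θ).card = (C.stab (θ : C.V → ℂ)).index := by
  rw [← C.card_orbit]
  refine Finset.card_bij (fun φ _ => (φ : C.V → ℂ)) (fun φ hφ => ?_)
    (fun a _ b _ e => Subtype.ext e) fun ψ hψ => ?_
  · obtain ⟨k, -, rfl⟩ := Finset.mem_image.1 hφ
    exact (mem_conjOrbit C.V).2 ⟨k, rfl⟩
  · obtain ⟨k, rfl⟩ := (mem_conjOrbit C.V).1 hψ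
    exact ⟨C.conjI k θ, Finset.mem_image.2 ⟨k, Finset.mem_univ _, rfl⟩, rfl⟩

lemma index_stab_conjI (h : C.H) (θ : IrrCharacter C.V) :
    (C.stab (C.conjI h θ : C.V → ℂ)).index = (C.stab (θ : C.V → ℂ)).index := by
  rw [← C.card_conjI_image, ← C.card_conjI_image]
  congr 1
  ext φ
  simp only [Finset.mem_image, Finset.mem_univ, true_and, ← C.conjI_mul]
  exact ⟨fun ⟨k, hk⟩ => ⟨h * k, hk⟩, fun ⟨k, hk⟩ => ⟨h⁻¹ * k, by rwa [mul_inv_cancel_left]⟩⟩

/-- The orbit count. -/
noncomputable def orbCount : ℚ :=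
  ∑ θ : IrrCharacter C.V,
    (((C.E (θ : C.V → ℂ)).index + C.ee (θ : C.V → ℂ) : ℕ) : ℚ) / (C.stab (θ : C.V → ℂ)).index

theorem card_deg_prime_to (hM : IsPModular p M) (P : Sylow p G)
    (hP : Subgroup.zpowers C.y = (P : Subgroup G)) :
    (Nat.card {χ : IrrCharacter G // ¬ p ∣ charDegree (χ : G → ℂ)} : ℚ) = C.orbCount := by
  have h1 : ∀ χ : IrrCharacter G, (if ¬ p ∣ charDegree (χ : G → ℂ) then (1 : ℚ) else 0) =
      ∑ θ : IrrCharacter C.V,
        if C.Lies χ θ then ((C.stab (θ : C.V → ℂ)).index : ℚ)⁻¹ else 0 := by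
    intro χ
    by_cases h : ∃ θ, C.Lies χ θ
    · obtain ⟨θ₀, hθ₀⟩ := h
      rw [if_pos (C.not_dvd_deg_of_lies hM hθ₀), ← Finset.sum_filter]
      have hO : Finset.univ.filter (fun θ => C.Lies χ θ) =
          Finset.univ.image fun k : C.H => C.conjI k θ₀ := by
        ext φ
        simp only [Finset.mem_filter, Finset.mem_univ, true_and, Finset.mem_image]
        exact ⟨fun hφ => C.conjI_of_lies hM hθ₀ hφ, fun ⟨k, hk⟩ => hk ▸ (C.lies_conjI k).2 hθ₀⟩
      rw [hO, Finset.sum_congr rfl (g := fun _ => ((C.stab (θ₀ : C.V → ℂ)).index : ℚ)⁻¹)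
        fun φ hφ => by
          obtain ⟨k, -, rfl⟩ := Finset.mem_image.1 hφ
          rw [C.index_stab_conjI], Finset.sum_const, C.card_conjI_image, nsmul_eq_mul,
        mul_inv_cancel₀ (Nat.cast_ne_zero.2 Subgroup.index_ne_zero_of_finite)]
    · push Not at h
      rw [if_neg (not_not.2 (C.dvd_deg_of_forall_not_lies h P hP)),
        Finset.sum_eq_zero fun θ _ => if_neg (h θ)]
  rw [Nat.card_eq_fintype_card, Fintype.card_subtype, ← Finset.sum_boole,
    Finset.sum_congr rfl fun χ _ => h1 χ, Finset.sum_comm, orbCount]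
  refine Finset.sum_congr rfl fun θ _ => ?_
  obtain ⟨ν, δ, hD⟩ := C.exists_orbitData hM θ
  rw [← Finset.sum_filter, Finset.sum_const, nsmul_eq_mul, div_eq_mul_inv, ← hD.card_lies,
    Nat.card_eq_fintype_card]
  congr 2
  exact (Fintype.card_of_subtype _ fun χ => by simp).symm

/-- The orbit count only depends on the complement and its action. -/
theorem orbCount_congr {G' : Type v} [Group G'] [Fintype G'] (C' : Cyc G' p) (e : C'.H ≃* C.H)
    (he : ∀ h, C.act (e h) = C'.act h) : C'.orbCount = C.orbCount := by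
  have hmem : ∀ x : C'.H, x ∈ C'.V ↔ e x ∈ C.V := fun x => by
    rw [MonoidHom.mem_ker, MonoidHom.mem_ker, he]
  let eV : C'.V ≃* C.V :=
    { toFun := fun v => ⟨e v, (hmem _).1 v.2⟩
      invFun := fun w => ⟨e.symm w, (hmem _).2 (by rw [e.apply_symm_apply]; exact w.2)⟩
      left_inv := fun v => Subtype.ext (e.symm_apply_apply _)
      right_inv := fun w => Subtype.ext (e.apply_symm_apply _)
      map_mul' := fun v w => Subtype.ext (map_mul e (v : C'.H) (w : C'.H)) }
  let f : IrrCharacter C.V ≃ IrrCharacter C'.V :=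
    { toFun := fun θ => ⟨fun v => (θ : C.V → ℂ) (eV v), IsIrrCharacter.comp_mulEquiv θ.2 eV⟩
      invFun := fun θ => ⟨fun w => (θ : C'.V → ℂ) (eV.symm w),
        IsIrrCharacter.comp_mulEquiv θ.2 eV.symm⟩
      left_inv := fun θ => Subtype.ext (funext fun w =>
        congrArg (θ : C.V → ℂ) (eV.apply_symm_apply w))
      right_inv := fun θ => Subtype.ext (funext fun v =>
        congrArg (θ : C'.V → ℂ) (eV.symm_apply_apply v)) }
  rw [orbCount, orbCount]
  refine (Fintype.sum_equiv f _ _ fun θ => ?_).symm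
  have hconj : ∀ (h : C'.H) (v : C'.V),
      eV (MulAut.conjNormal h v) = MulAut.conjNormal (e h) (eV v) := fun h v => Subtype.ext (by
    show e ((MulAut.conjNormal h v : C'.V) : C'.H) =
      ((MulAut.conjNormal (e h) (eV v) : C.V) : C.H)
    rw [MulAut.conjNormal_apply, MulAut.conjNormal_apply, map_mul, map_mul, map_inv]
    rfl)
  have hstab : C'.stab (f θ : C'.V → ℂ) = (C.stab (θ : C.V → ℂ)).comap e.toMonoidHom := by
    ext h
    rw [C'.mem_stab, Subgroup.mem_comap, C.mem_stab, conjN_eq_comp, conjN_eq_comp]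
    show (fun v => (θ : C.V → ℂ) (eV (MulAut.conjNormal h v))) = (fun v => (θ : C.V → ℂ) (eV v)) ↔
      (fun w => (θ : C.V → ℂ) (MulAut.conjNormal (e h) w)) = (θ : C.V → ℂ)
    simp only [hconj, funext_iff]
    exact ⟨fun hh w => by simpa using hh (eV.symm w), fun hh v => hh (eV v)⟩
  have hidx : (C'.stab (f θ : C'.V → ℂ)).index = (C.stab (θ : C.V → ℂ)).index := by
    rw [hstab, Subgroup.index_comap_of_surjective _ e.surjective]
  have hE : C'.E (f θ : C'.V → ℂ) = C.E (θ : C.V → ℂ) := by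
    rw [Cyc.E, Cyc.E, hstab]
    ext u
    simp only [Subgroup.mem_map, Subgroup.mem_comap]
    constructor
    · rintro ⟨h, hh, rfl⟩; exact ⟨e h, hh, he h⟩
    · rintro ⟨k, hk, rfl⟩
      exact ⟨e.symm k, by simpa using hk, by rw [← he, e.apply_symm_apply]⟩
  simp only [Cyc.ee, hidx, hE]

/-- With `⟨y⟩` normal every degree is prime to `p`. -/
lemma not_dvd_deg_of_normal (hn : (Subgroup.zpowers C.y).Normal) (P : Sylow p G)
    (hP : Subgroup.zpowers C.y = (P : Subgroup G)) (χ : IrrCharacter G) :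
    ¬ p ∣ charDegree (χ : G → ℂ) := by
  obtain ⟨M, hM⟩ := exists_isPModular (Fact.out : p.Prime)
  intro hd
  have hv : ∀ g, p ∣ orderOf g → (χ : G → ℂ) g = 0 := fun g hg =>
    C.apply_singular_of_forall_not_lies
      (fun θ hl => C.not_dvd_deg_of_lies hM hl hd) P hP hg
  let A := Subgroup.zpowers C.y
  have hA : Nat.card A = p := by rw [Nat.card_zpowers, C.order]
  have hne : ∀ a : A, a ≠ 1 → (χ : G → ℂ) a = 0 := fun a ha => by
    refine hv _ ?_
    rw [Subgroup.orderOf_coe]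
    have h2 : orderOf a ∣ p := by
      have := orderOf_dvd_natCard a
      rwa [hA] at this
    exact dvd_of_eq (((Nat.dvd_prime (Fact.out : p.Prime)).1 h2).resolve_left
      fun e => ha (orderOf_eq_one_iff.1 e)).symm
  have h1 : Cfsg.classInner (fun a : A => (χ : G → ℂ) a) (fun _ => 1) =
      (p : ℂ)⁻¹ * (χ : G → ℂ) 1 := by
    rw [classInner_def, Finset.sum_eq_single (1 : A) (fun a _ ha => by rw [hne a ha, zero_mul])
      (by simp), hA, OneMemClass.coe_one, map_one, mul_one]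
  have h0 : (χ : G → ℂ) 1 ≠ 0 := IsIrrCharacter.apply_one_ne_zero χ.2
  have hp0 : (p : ℂ) ≠ 0 := Nat.cast_ne_zero.2 (Fact.out : p.Prime).ne_zero
  have hcl := clifford A χ.2 (isIrrCharacter_one (G := A))
    (by rw [h1]; exact mul_ne_zero (inv_ne_zero hp0) h0)
  have horb : conjOrbit A (fun _ : A => (1 : ℂ)) = {fun _ => 1} := by
    ext ψ
    rw [mem_conjOrbit, Finset.mem_singleton]
    refine ⟨?_, fun h => ⟨1, ?_⟩⟩
    · rintro ⟨g, rfl⟩; rw [conjN_eq_comp]
    · rw [h, conjN_eq_comp]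
  have h2 := congrFun hcl ⟨C.y, Subgroup.mem_zpowers _⟩
  rw [h1, horb, Finset.sum_singleton] at h2
  simp only [Pi.smul_apply, smul_eq_mul, mul_one] at h2
  rw [hv C.y (dvd_of_eq C.order.symm)] at h2
  exact mul_ne_zero (inv_ne_zero hp0) h0 h2.symm

/-- The setting inside the normalizer. -/
noncomputable def normCyc : Cyc (Subgroup.normalizer (Subgroup.zpowers C.y : Set G)) p where
  y := ⟨C.y, Subgroup.le_normalizer (Subgroup.mem_zpowers _)⟩
  H := C.H.subgroupOf (Subgroup.normalizer (Subgroup.zpowers C.y : Set G))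
  act := C.act.comp (Subgroup.subgroupOfEquivOfLe C.le_norm).toMonoidHom
  order := by rw [Subgroup.orderOf_mk]; exact C.order
  le_norm := fun x _ => by
    refine Subgroup.mem_normalizer_iff.2 fun w => ?_
    have key : ∀ v : Subgroup.normalizer (Subgroup.zpowers C.y : Set G),
        v ∈ Subgroup.zpowers (⟨C.y, Subgroup.le_normalizer (Subgroup.mem_zpowers _)⟩ :
          Subgroup.normalizer (Subgroup.zpowers C.y : Set G)) ↔ (v : G) ∈ Subgroup.zpowers C.y :=
      fun v => ⟨fun ⟨m, hm⟩ => ⟨m, by rw [← hm]; rfl⟩, fun ⟨m, hm⟩ => ⟨m, Subtype.ext hm⟩⟩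
    rw [key, key]
    exact Subgroup.mem_normalizer_iff.1 x.2 w
  decomp := fun g _ => by
    obtain ⟨i, h, hh, e⟩ := C.decomp g g.2
    exact ⟨i, ⟨h, C.le_norm hh⟩, Subgroup.mem_subgroupOf.2 hh, Subtype.ext e⟩
  not_dvd := by
    rw [Nat.card_congr (Subgroup.subgroupOfEquivOfLe C.le_norm).toEquiv]
    exact C.not_dvd
  sq := fun h => C.sq (h.trans (Subgroup.card_subgroup_dvd_card _))
  conj_y := fun h => Subtype.ext (C.conj_y (Subgroup.subgroupOfEquivOfLe C.le_norm h))

theorem card_classes_normalizer (hM : IsPModular p M) (P : Sylow p G)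
    (hP : Subgroup.zpowers C.y = (P : Subgroup G)) :
    Nat.card {χ : IrrCharacter G // ¬ p ∣ charDegree (χ : G → ℂ)} =
      Nat.card (ConjClasses (Subgroup.normalizer (Subgroup.zpowers C.y : Set G))) := by
  let N := Subgroup.normalizer (Subgroup.zpowers C.y : Set G)
  have hcard : Nat.card (Subgroup.zpowers C.normCyc.y) =
      p ^ (Nat.card N).factorization p := by
    rw [C.normCyc.factorization_card, pow_one, Nat.card_zpowers, C.normCyc.order]
  let Q : Sylow p N := Sylow.ofCard (Subgroup.zpowers C.normCyc.y) hcard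
  have hQ : Subgroup.zpowers C.normCyc.y = (Q : Subgroup N) := rfl
  have hn : (Subgroup.zpowers C.normCyc.y).Normal := by
    rw [← Subgroup.normalizer_eq_top_iff, eq_top_iff]
    intro g _
    obtain ⟨i, h, hh, e⟩ := C.decomp g g.2
    have e2 : g = C.normCyc.y ^ i * ⟨h, C.le_norm hh⟩ := Subtype.ext e
    rw [e2]
    exact Subgroup.mul_mem _ (Subgroup.pow_mem _ (Subgroup.le_normalizer (Subgroup.mem_zpowers _)) _)
      (C.normCyc.le_norm (Subgroup.mem_subgroupOf.2 hh))
  have h1 := C.card_deg_prime_to hM P hP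
  rw [← C.orbCount_congr C.normCyc (Subgroup.subgroupOfEquivOfLe C.le_norm) (fun _ => rfl),
    ← C.normCyc.card_deg_prime_to hM Q hQ, Nat.cast_inj] at h1
  rw [h1, ← card_irrCharacter]
  exact Nat.card_congr (Equiv.subtypeUnivEquiv fun χ => C.normCyc.not_dvd_deg_of_normal hn Q hQ χ)

end Cyc

end Cfsg.Lib.Blocks
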