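import Mathlib
import Cfsg.Agent.Blocks.CyclicSetting

/-!
# Representations of small dimension in characteristic `p`

If a group generated by its elements of order dividing `p`, where `p²` does not divide the order,
has a faithful representation of dimension `x` over a field of characteristic `p` with
`2x + 1 ≤ p`, then the `p'`-part of the centralizer of an element of order `p` is central.
-/

set_option autoImplicit false
set_option linter.unusedSectionVars false

namespace Cfsg.Lib.Blocks.SmallDim

open Module Polynomial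

universe u v w

section Trace

variable {k : Type u} [Field k] {U : Type v} [AddCommGroup U] [Module k U] [FiniteDimensional k U]

lemma pow_finrank_eq_zero {f : Module.End k U} (h : IsNilpotent f) : f ^ finrank k U = 0 := by
  have := LinearMap.aeval_self_charpoly f
  rwa [h.charpoly_eq_X_pow_finrank, map_pow, aeval_X] at this

/-- An operator all whose powers have trace zero is nilpotent in dimension less than `p`. -/
lemma isNilpotent_of_trace_pow {p : ℕ} [CharP k p] (hdim : finrank k U < p) (z : Module.End k U)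
    (h : ∀ j : ℕ, LinearMap.trace k U (z ^ (j + 1)) = 0) : IsNilpotent z := by
  have htr : ∀ f : k[X], LinearMap.trace k U (aeval z (X * f)) = 0 := by
    intro f
    induction f using Polynomial.induction_on' with
    | add a b ha hb => rw [mul_add, map_add, map_add, ha, hb, add_zero]
    | monomial n a =>
      rw [X_mul_monomial, aeval_monomial, ← Algebra.smul_def, map_smul, h, smul_zero]
  have hint : IsIntegral k z := Algebra.IsIntegral.isIntegral z
  obtain ⟨g, hg, hg0⟩ := exists_eq_pow_rootMultiplicity_mul_and_not_dvd _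
    (minpoly.ne_zero hint) (0 : k)
  rw [map_zero, sub_zero] at hg hg0
  set a := (minpoly k z).rootMultiplicity 0
  have hco : IsCoprime ((X : k[X]) ^ (a + 1)) g :=
    (Polynomial.prime_X.irreducible.coprime_iff_not_dvd.2 hg0).pow_left
  obtain ⟨r, t, hrt⟩ := hco
  set ε := aeval z (r * X ^ (a + 1)) with hε
  have hzero : aeval z (X ^ a * g) = 0 := by rw [← hg]; exact minpoly.aeval k z
  have hidem : ε * ε = ε := by
    have e : r * X ^ (a + 1) * (r * X ^ (a + 1)) - r * X ^ (a + 1) =
        -((r * X * t) * (X ^ a * g)) := by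
      linear_combination (r * X ^ (a + 1)) * hrt
    have := congrArg (aeval z) e
    rw [map_sub, map_mul, map_neg, map_mul (aeval z) (r * X * t), hzero, mul_zero, neg_zero,
      sub_eq_zero] at this
    exact this
  have hproj : LinearMap.IsProj (LinearMap.range ε) ε :=
    ⟨fun x => LinearMap.mem_range_self ε x, fun x hx => by
      obtain ⟨y, rfl⟩ := hx
      exact LinearMap.congr_fun hidem y⟩
  have h1 := hproj.trace
  rw [hε, show r * X ^ (a + 1) = X * (r * X ^ a) by ring, htr] at h1
  have h2 : finrank k (LinearMap.range ε) = 0 := by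
    have h3 := (CharP.cast_eq_zero_iff k p _).1 h1.symm
    rw [show X * (r * X ^ a) = r * X ^ (a + 1) by ring, ← hε] at h3
    exact Nat.eq_zero_of_dvd_of_lt h3 (lt_of_le_of_lt (Submodule.finrank_le _) hdim)
  rw [Submodule.finrank_eq_zero, LinearMap.range_eq_bot] at h2
  refine ⟨a, ?_⟩
  have h4 := congrArg (aeval z) hrt
  rw [map_add, ← hε, h2, zero_add, map_one] at h4
  have h5 : aeval z (X ^ a * (t * g)) = 0 := by
    rw [show X ^ a * (t * g) = t * (X ^ a * g) by ring, map_mul, hzero, mul_zero]
  rwa [map_mul, h4, mul_one, map_pow, aeval_X] at h5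

/-- Jacobson's lemma. -/
lemma isNilpotent_commutator {p : ℕ} [CharP k p] (hdim : finrank k U < p) (n w : Module.End k U)
    (h : Commute n (n * w - w * n)) : IsNilpotent (n * w - w * n) := by
  refine isNilpotent_of_trace_pow hdim _ fun j => ?_
  rw [pow_succ]
  set q := (n * w - w * n) ^ j
  have hq : Commute n q := h.pow_right j
  rw [mul_sub, map_sub, sub_eq_zero, ← mul_assoc, ← mul_assoc, ← hq.eq,
    LinearMap.trace_mul_comm k (q * w) n, mul_assoc n q w]

end Trace

section Filtration

variable {k : Type u} [Field k] {W : Type v} [AddCommGroup W] [Module k W]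
  {p : ℕ} [Fact p.Prime] [CharP k p]

/-- Sums of `Aᵃ ψ Aᵇ` with `a + b ≥ n`. -/
def fil (A : Module.End k W) (n : ℕ) : Submodule k (Module.End k W) :=
  Submodule.span k {φ | ∃ a b : ℕ, ∃ ψ, n ≤ a + b ∧ φ = A ^ a * ψ * A ^ b}

lemma mem_fil {A : Module.End k W} {n a b : ℕ} (h : n ≤ a + b) (ψ : Module.End k W) :
    A ^ a * ψ * A ^ b ∈ fil A n :=
  Submodule.subset_span ⟨a, b, ψ, h, rfl⟩

variable {S S' : Module.End k W}

lemma fil_step (h1 : S * S' = 1) (h2 : S' * S = 1) {n : ℕ} {φ : Module.End k W}
    (hφ : φ ∈ fil (S - 1) n) : S * φ * S' - φ ∈ fil (S - 1) (n + 1) := by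
  set A := S - 1 with hA
  have hS' : S' - 1 = -(A * S') := by rw [hA, sub_mul, one_mul, h1, neg_sub]
  have hc : Commute A S' := by
    show A * S' = S' * A
    rw [hA, sub_mul, mul_sub, h1, h2, one_mul, mul_one]
  induction hφ using Submodule.span_induction with
  | mem x hx =>
    obtain ⟨a, b, ψ, hab, rfl⟩ := hx
    have e1 : S * (A ^ a * ψ * A ^ b) * S' - A ^ a * ψ * A ^ b =
        A ^ (a + 1) * (ψ * S') * A ^ b + A ^ a * (-(ψ * S')) * A ^ (b + 1) := by
      have hb := hc.pow_left b
      have hb1 := hc.pow_left (b + 1)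
      rw [show S = 1 + A by rw [hA]; abel, add_mul, add_mul, one_mul, add_sub_right_comm,
        show A ^ a * ψ * A ^ b * S' - A ^ a * ψ * A ^ b = A ^ a * ψ * A ^ b * (S' - 1) by
          rw [mul_sub, mul_one], hS', add_comm]
      congr 1
      · rw [pow_succ']; simp only [mul_assoc, hb.eq]
      · rw [mul_neg, mul_assoc _ (A ^ b), ← mul_assoc (A ^ b) A, ← pow_succ, mul_neg, neg_mul,
          neg_inj]
        simp only [mul_assoc, hb1.eq]
    rw [e1]
    exact (fil A (n + 1)).add_mem (mem_fil (by omega) _) (mem_fil (by omega) _)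
  | zero => simp
  | add x y _ _ hx hy =>
    rw [mul_add, add_mul, add_sub_add_comm]
    exact (fil A (n + 1)).add_mem hx hy
  | smul c x _ hx =>
    rw [mul_smul_comm, smul_mul_assoc, ← smul_sub]
    exact (fil A (n + 1)).smul_mem c hx

/-- The trace over the cyclic group of order `p` is in the last step. -/
lemma trace_mem_fil (h1 : S * S' = 1) (h2 : S' * S = 1) (ψ : Module.End k W) :
    ∑ j ∈ Finset.range p, S ^ j * ψ * S' ^ j ∈ fil (S - 1) (p - 1) := by
  let T : Module.End k (Module.End k W) := LinearMap.mulLeft k S * LinearMap.mulRight k S'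
  have hT : ∀ (j : ℕ) φ, (T ^ j) φ = S ^ j * φ * S' ^ j := by
    intro j φ
    rw [show T ^ j = _ from (LinearMap.commute_mulLeft_right S S').mul_pow j,
      LinearMap.pow_mulLeft, LinearMap.pow_mulRight, Module.End.mul_apply, LinearMap.mulLeft_apply,
      LinearMap.mulRight_apply, mul_assoc]
  have hp := (Fact.out : p.Prime)
  have hpoly : ((X : k[X]) - 1) ^ (p - 1) = ∑ i ∈ Finset.range p, X ^ i := by
    apply mul_left_cancel₀ (X_sub_C_ne_zero (1 : k))
    rw [map_one, ← pow_succ', Nat.sub_add_cancel hp.one_lt.le, sub_pow_char, one_pow, mul_geom_sum]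
  have hN : (T - 1) ^ (p - 1) = ∑ i ∈ Finset.range p, T ^ i := by
    simpa using congrArg (aeval T) hpoly
  have h := LinearMap.congr_fun hN ψ
  simp only [LinearMap.sum_apply, hT] at h
  rw [← h]
  suffices ∀ n, ((T - 1) ^ n) ψ ∈ fil (S - 1) n from this _
  intro n
  induction n with
  | zero =>
    simpa using mem_fil (A := S - 1) (n := 0) (a := 0) (b := 0) le_rfl ψ
  | succ n ih =>
    rw [pow_succ', Module.End.mul_apply, LinearMap.sub_apply, Module.End.one_apply,
      show T (((T - 1) ^ n) ψ) = S * ((T - 1) ^ n) ψ * S' by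
        simpa using hT 1 (((T - 1) ^ n) ψ)]
    exact fil_step h1 h2 ih

lemma fil_ker {A : Module.End k W} {m n : ℕ} (hm : A ^ m = 0) (hmn : m ≤ n) {φ : Module.End k W}
    (hφ : φ ∈ fil A n) {w : W} (hw : A w = 0) : φ w = 0 := by
  induction hφ using Submodule.span_induction with
  | mem x hx =>
    obtain ⟨a, b, ψ, hab, rfl⟩ := hx
    cases b with
    | zero =>
      rw [pow_eq_zero_of_le (by omega) hm]
      simp
    | succ b => simp [pow_succ, Module.End.mul_apply, hw]
  | zero => simp
  | add x y _ _ hx hy => simp [hx, hy]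
  | smul c x _ hx => simp [hx]

lemma fil_range {A : Module.End k W} {m n : ℕ} (hm : A ^ m = 0) (hmn : m ≤ n) {φ : Module.End k W}
    (hφ : φ ∈ fil A n) (i : ℕ) {w : W} (hw : w ∈ LinearMap.range (A ^ i)) :
    φ w ∈ LinearMap.range (A ^ (i + 1)) := by
  induction hφ using Submodule.span_induction with
  | mem x hx =>
    obtain ⟨a, b, ψ, hab, rfl⟩ := hx
    obtain ⟨w', rfl⟩ := hw
    rw [Module.End.mul_apply, Module.End.mul_apply, ← Module.End.mul_apply (A ^ b), ← pow_add]
    by_cases hb : m ≤ b + i
    · rw [pow_eq_zero_of_le hb hm]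
      simp
    · refine ⟨(A ^ (a - (i + 1))) (ψ ((A ^ (b + i)) w')), ?_⟩
      rw [← Module.End.mul_apply, ← pow_add, show i + 1 + (a - (i + 1)) = a by omega]
  | zero => simp
  | add x y _ _ hx hy => exact Submodule.add_mem _ hx hy
  | smul c x _ hx => exact Submodule.smul_mem _ c hx

end Filtration

/-- A sum over a set on which a map of order `p` has no fixed point. -/
lemma exists_orbit_sum {X V : Type*} [DecidableEq X] [AddCommMonoid V] {p : ℕ} (hp : p.Prime)
    (σ : X → X) (hσ : ∀ x, σ^[p] x = x) (T : V →+ V) (f : X → V) (hf : ∀ x, f (σ x) = T (f x))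
    (s : Finset X) (hs : ∀ x ∈ s, σ x ∈ s) (hfree : ∀ x ∈ s, σ x ≠ x) :
    ∃ ψ, ∑ x ∈ s, f x = ∑ j ∈ Finset.range p, (⇑T)^[j] ψ := by
  induction s using Finset.strongInduction with
  | _ s ih =>
  rcases s.eq_empty_or_nonempty with rfl | ⟨x, hx⟩
  · refine ⟨0, ?_⟩
    rw [Finset.sum_empty, Finset.sum_eq_zero fun j _ => iterate_map_zero T j]
  have hmem : ∀ j, σ^[j] x ∈ s := by
    intro j
    induction j with
    | zero => exact hx
    | succ j ihj => rw [Function.iterate_succ_apply']; exact hs _ ihj
  have hper : Function.minimalPeriod σ x = p :=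
    ((Nat.dvd_prime hp).1 (Function.IsPeriodicPt.minimalPeriod_dvd (hσ x))).resolve_left
      fun h => hfree x hx (Function.minimalPeriod_eq_one_iff_isFixedPt.1 h)
  have hinj : Set.InjOn (fun j => σ^[j] x) (Finset.range p : Set ℕ) := fun a ha b hb e =>
    Function.iterate_injOn_Iio_minimalPeriod (by simpa [hper] using ha) (by simpa [hper] using hb) e
  set O := (Finset.range p).image fun j => σ^[j] x with hO
  have hsub : O ⊆ s := fun z hz => by
    obtain ⟨j, -, rfl⟩ := Finset.mem_image.1 hz
    exact hmem j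
  have hne : s \ O ⊂ s := Finset.sdiff_ssubset hsub
    ⟨x, Finset.mem_image.2 ⟨0, Finset.mem_range.2 hp.pos, rfl⟩⟩
  obtain ⟨ψ, hψ⟩ := ih _ hne (fun z hz => by
    rw [Finset.mem_sdiff] at hz ⊢
    refine ⟨hs z hz.1, fun hzO => hz.2 ?_⟩
    obtain ⟨j, -, hj⟩ := Finset.mem_image.1 hzO
    refine Finset.mem_image.2 ⟨(j + (p - 1)) % p, Finset.mem_range.2 (Nat.mod_lt _ hp.pos), ?_⟩
    have hmod : σ^[(j + (p - 1)) % p] x = σ^[j + (p - 1)] x := by
      conv_rhs => rw [← Function.IsPeriodicPt.iterate_mod_apply (show Function.IsPeriodicPt σ p x from hσ x)]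
    rw [hmod, add_comm, Function.iterate_add_apply, hj, ← Function.iterate_succ_apply,
      show (p - 1).succ = p from Nat.sub_add_cancel hp.one_lt.le, hσ])
    fun z hz => hfree z (Finset.mem_sdiff.1 hz).1
  refine ⟨ψ + f x, ?_⟩
  have hfx : ∀ j, f (σ^[j] x) = (⇑T)^[j] (f x) := by
    intro j
    induction j with
    | zero => rfl
    | succ j ihj => rw [Function.iterate_succ_apply', hf, ihj, Function.iterate_succ_apply']
  rw [← Finset.sum_sdiff hsub, hψ, hO, Finset.sum_image hinj, ← Finset.sum_add_distrib]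
  exact Finset.sum_congr rfl fun j _ => by rw [hfx, iterate_map_add]

end Cfsg.Lib.Blocks.SmallDim
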