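import Mathlib
import Cfsg.Agent.Blocks.SmallDegModular
import Cfsg.Agent.Blocks.OrbitBlock

/-!
# The centralizer of an element of order `p` in a linear group of small degree
-/

set_option autoImplicit false
set_option linter.unusedSectionVars false

namespace Cfsg.Lib.Blocks

open Module
open scoped Classical

universe u v w

variable {G : Type u} [Group G] [Fintype G] {p : ℕ} [Fact p.Prime] {k : Type v} [Field k]
  [CharP k p] {U : Type w} [AddCommGroup U] [Module k U] [FiniteDimensional k U]

/-- The conjugation action on the endomorphisms. -/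
noncomputable def endConj (ρ : G →* Module.End k U) : G →* Module.End k (Module.End k U) :=
  { toFun := fun g => LinearMap.mulLeft k (ρ g) * LinearMap.mulRight k (ρ g⁻¹)
    map_one' := LinearMap.ext fun φ => by
      simp only [inv_one, map_one, Module.End.mul_apply, LinearMap.mulLeft_apply,
        LinearMap.mulRight_apply, Module.End.one_apply, one_mul, mul_one]
    map_mul' := fun g h => LinearMap.ext fun φ => by
      simp only [Module.End.mul_apply, LinearMap.mulLeft_apply, LinearMap.mulRight_apply, map_mul,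
        mul_inv_rev, mul_assoc] }

lemma endConj_apply (ρ : G →* Module.End k U) (g : G) (φ : Module.End k U) :
    endConj ρ g φ = ρ g * φ * ρ g⁻¹ := (mul_assoc _ _ _).symm

lemma endConj_fix_iff (ρ : G →* Module.End k U) (g : G) (φ : Module.End k U) :
    endConj ρ g φ = φ ↔ Commute (ρ g) φ := by
  rw [endConj_apply]
  constructor
  · intro h
    show ρ g * φ = φ * ρ g
    conv_rhs => rw [← h, mul_assoc, ← map_mul, inv_mul_cancel, map_one, mul_one]
  · intro h
    rw [h.eq, mul_assoc, ← map_mul, mul_inv_cancel, map_one, mul_one]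

namespace Cyc

open SmallDim

variable (C : Cyc G p)

omit [CharP k p] [FiniteDimensional k U] in
/-- An averaged projection onto the fixed operators along the commutators. -/
lemma exists_avg_proj {W : Type w} [AddCommGroup W] [Module k W] (hH : (Nat.card C.H : k) ≠ 0)
    (c : G →* Module.End k W) :
    ∃ π : Module.End k W,
      (∀ w ∈ LinearMap.range (c C.y - 1), π w = 0) ∧
      (∀ w, π w ∈ LinearMap.ker (c C.y - 1)) ∧
      (∀ w ∈ LinearMap.ker (c C.y - 1), π w - w ∈ LinearMap.range (c C.y - 1)) ∧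
      ∀ g ∈ Subgroup.normalizer (Subgroup.zpowers C.y : Set G), c g * π * c g⁻¹ = π := by
  set A := c C.y - 1 with hA
  set K := LinearMap.ker A
  set R := LinearMap.range A
  have hK : ∀ w, w ∈ K ↔ c C.y w = w := fun w => by
    rw [LinearMap.mem_ker, hA, LinearMap.sub_apply, sub_eq_zero]; rfl
  have hfix : ∀ w ∈ K, ∀ i : ℕ, c (C.y ^ i) w = w := by
    intro w hw i
    induction i with
    | zero => simp
    | succ i ih => rw [pow_succ, map_mul, Module.End.mul_apply, (hK w).1 hw, ih]
  have hKst : ∀ (h : C.H), ∀ w ∈ K, c (h : G) w ∈ K := by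
    intro h w hw
    rw [hK, ← Module.End.mul_apply, ← map_mul,
      show C.y * (h : G) = (h : G) * C.y ^ (C.act h⁻¹ : ZMod p).val by
        rw [← C.conj_y h⁻¹, Subgroup.coe_inv, inv_inv]; group,
      map_mul, Module.End.mul_apply, hfix w hw]
  have hRst : ∀ (h : C.H), ∀ w ∈ R, c (h : G) w ∈ R := by
    rintro h w ⟨w', rfl⟩
    set a := (C.act h : ZMod p).val
    refine ⟨(∑ i ∈ Finset.range a, c C.y ^ i) (c (h : G) w'), ?_⟩
    rw [← Module.End.mul_apply, hA, mul_geom_sum, LinearMap.sub_apply, LinearMap.sub_apply, map_sub,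
      Module.End.one_apply, Module.End.one_apply, ← map_pow, ← C.conj_y h, ← Module.End.mul_apply,
      ← Module.End.mul_apply, ← map_mul, ← map_mul, inv_mul_cancel_right]
  obtain ⟨l, hl⟩ := ((R.mkQ).comp K.subtype).rangeRestrict.exists_rightInverse_of_surjective
    (LinearMap.range_rangeRestrict _)
  obtain ⟨L, hL⟩ := l.exists_extend
  let π₀ : Module.End k W := K.subtype ∘ₗ L ∘ₗ R.mkQ
  have h0R : ∀ w ∈ R, π₀ w = 0 := fun w hw => by
    show ((L (R.mkQ w) : K) : W) = 0
    rw [show R.mkQ w = 0 from (Submodule.Quotient.mk_eq_zero R).2 hw, map_zero]; rfl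
  have h0K : ∀ w, π₀ w ∈ K := fun w => Subtype.coe_prop _
  have h0d : ∀ w ∈ K, π₀ w - w ∈ R := fun w hw => by
    rw [← Submodule.Quotient.mk_eq_zero, Submodule.Quotient.mk_sub, sub_eq_zero]
    let e := ((R.mkQ).comp K.subtype).rangeRestrict ⟨w, hw⟩
    have h1 : L (R.mkQ w) = l e := LinearMap.congr_fun hL e
    have h2 := congrArg Subtype.val (LinearMap.congr_fun hl e)
    show Submodule.Quotient.mk ((L (R.mkQ w) : K) : W) = _
    rw [h1]
    exact h2
  let π : Module.End k W :=
    (Nat.card C.H : k)⁻¹ • ∑ h : C.H, c (h : G) * π₀ * c ((h⁻¹ : C.H) : G)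
  have hπ : ∀ w, π w = (Nat.card C.H : k)⁻¹ • ∑ h : C.H, c (h : G) (π₀ (c ((h⁻¹ : C.H) : G) w)) :=
    fun w => by simp [π, LinearMap.sum_apply, Module.End.mul_apply]
  have hπR : ∀ w ∈ R, π w = 0 := fun w hw => by
    rw [hπ, Finset.sum_eq_zero fun h _ => by rw [h0R _ (hRst h⁻¹ w hw), map_zero], smul_zero]
  have hπK : ∀ w, π w ∈ K := fun w => by
    rw [hπ]; exact K.smul_mem _ (K.sum_mem fun h _ => hKst h _ (h0K _))
  refine ⟨π, hπR, hπK, fun w hw => ?_, fun g hg => ?_⟩
  · have hw' : w = (Nat.card C.H : k)⁻¹ • ∑ _h : C.H, w := by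
      rw [Finset.sum_const, Finset.card_univ, ← Nat.card_eq_fintype_card, ← Nat.cast_smul_eq_nsmul k,
        smul_smul, inv_mul_cancel₀ hH, one_smul]
    rw [hπ]
    conv => arg 2; arg 2; rw [hw']
    rw [← smul_sub, ← Finset.sum_sub_distrib]
    refine R.smul_mem _ (R.sum_mem fun h _ => ?_)
    have := hRst h _ (h0d _ (hKst h⁻¹ w hw))
    rwa [map_sub, ← Module.End.mul_apply (c (h : G)) (c ((h⁻¹ : C.H) : G)), ← map_mul,
      Subgroup.coe_inv, mul_inv_cancel, map_one, Module.End.one_apply, ← Subgroup.coe_inv] at this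
  · obtain ⟨i, h, hh, rfl⟩ := C.decomp g hg
    have h1 : c h * π * c h⁻¹ = π := by
      show c h * (_ • ∑ _h : C.H, _) * _ = _
      rw [mul_smul_comm, smul_mul_assoc, Finset.mul_sum, Finset.sum_mul]
      congr 1
      refine Fintype.sum_equiv (Equiv.mulLeft ⟨h, hh⟩) _ _ fun j => ?_
      simp only [Equiv.coe_mulLeft, mul_inv_rev, Subgroup.coe_mul, Subgroup.coe_inv, map_mul,
        mul_assoc]
    have hy : ∀ a : ℕ, c (C.y ^ a) * π = π ∧ π * c (C.y ^ a) = π := by
      intro a
      induction a with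
      | zero => simp
      | succ a ih =>
        refine ⟨LinearMap.ext fun w => hfix _ (hπK w) _, ?_⟩
        rw [pow_succ, map_mul, ← mul_assoc, ih.2]
        refine LinearMap.ext fun w => ?_
        have := hπR (A w) (LinearMap.mem_range_self A w)
        rw [hA, LinearMap.sub_apply, map_sub, sub_eq_zero] at this
        exact this
    have hyi : π * c ((C.y ^ i)⁻¹) = π := by
      conv_lhs => rw [← (hy i).2]
      rw [mul_assoc, ← map_mul, mul_inv_cancel, map_one, mul_one]
    rw [mul_inv_rev, map_mul, map_mul, show c (C.y ^ i) * c h * π * (c h⁻¹ * c (C.y ^ i)⁻¹) =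
      c (C.y ^ i) * (c h * π * c h⁻¹) * c (C.y ^ i)⁻¹ by simp only [mul_assoc], h1, (hy i).1, hyi]

/-- The transfer of an averaged projection from the normalizer. -/
lemma exists_transfer {W : Type w} [AddCommGroup W] [Module k W] (P : Sylow p G)
    (hP : Subgroup.zpowers C.y = (P : Subgroup G)) (c : G →* Module.End k W) (π : Module.End k W)
    (hN : ∀ g ∈ Subgroup.normalizer (Subgroup.zpowers C.y : Set G), c g * π * c g⁻¹ = π) :
    ∃ Φ : Module.End k W, (∀ g, Commute (c g) Φ) ∧
      ∃ ψ, Φ - π = ∑ j ∈ Finset.range p, c C.y ^ j * ψ * c C.y⁻¹ ^ j := by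
  let N := Subgroup.normalizer (Subgroup.zpowers C.y : Set G)
  let f : G ⧸ N → Module.End k W := fun q => c q.out * π * c q.out⁻¹
  have hf : ∀ g : G, f (g : G ⧸ N) = c g * π * c g⁻¹ := fun g => by
    obtain ⟨n, hn⟩ := QuotientGroup.mk_out_eq_mul N g
    show c _ * π * c _ = _
    rw [hn, mul_inv_rev, map_mul, map_mul, show c g * c (n : G) * π * (c (n : G)⁻¹ * c g⁻¹) =
      c g * (c (n : G) * π * c (n : G)⁻¹) * c g⁻¹ by simp only [mul_assoc], hN n n.2]
  have hsmul : ∀ (g : G) (q : G ⧸ N), f (g • q) = c g * f q * c g⁻¹ := fun g q => by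
    induction q using QuotientGroup.induction_on with
    | H a =>
      rw [MulAction.Quotient.smul_coe, smul_eq_mul, hf, hf, mul_inv_rev, map_mul, map_mul]
      simp only [mul_assoc]
  refine ⟨∑ q, f q, fun g => ?_, ?_⟩
  · have h1 : c g * (∑ q, f q) * c g⁻¹ = ∑ q, f q := by
      rw [Finset.mul_sum, Finset.sum_mul]
      exact Fintype.sum_equiv (MulAction.toPerm g) _ _ fun q => (hsmul g q).symm
    show _ = _
    conv_rhs => rw [← h1, mul_assoc, ← map_mul, inv_mul_cancel, map_one, mul_one]
  have hs : ∀ q ∈ Finset.univ.erase ((1 : G) : G ⧸ N),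
      C.y • q ∈ Finset.univ.erase ((1 : G) : G ⧸ N) := fun q hq => by
    rw [Finset.mem_erase] at hq ⊢
    refine ⟨fun e => hq.1 ?_, Finset.mem_univ _⟩
    rw [smul_eq_iff_eq_inv_smul, MulAction.Quotient.smul_coe, smul_eq_mul, mul_one] at e
    rw [e, QuotientGroup.eq, inv_inv, mul_one]
    exact Subgroup.le_normalizer (Subgroup.mem_zpowers _)
  have hfree : ∀ q ∈ Finset.univ.erase ((1 : G) : G ⧸ N), C.y • q ≠ q := fun q hq e => by
    refine (Finset.mem_erase.1 hq).1 ?_
    induction q using QuotientGroup.induction_on with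
    | H g =>
      rw [MulAction.Quotient.smul_coe, smul_eq_mul, eq_comm, QuotientGroup.eq] at e
      rw [QuotientGroup.eq, mul_one, inv_mem_iff]
      set z := g⁻¹ * (C.y * g) with hz
      have hzp : IsPGroup p (Subgroup.zpowers z) := by
        refine IsPGroup.of_card (n := 1) ?_
        rw [Nat.card_zpowers, pow_one, hz, show g⁻¹ * (C.y * g) = MulAut.conj g⁻¹ C.y by
          simp [mul_assoc], MulEquiv.orderOf_eq, C.order]
      have hzP : z ∈ Subgroup.zpowers C.y := by
        rw [hP]
        have h2 := hzp.inf_normalizer_sylow P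
        have e' : z ∈ Subgroup.normalizer ((P : Subgroup G) : Set G) := hP ▸ e
        exact (h2.le ⟨Subgroup.mem_zpowers z, e'⟩).2
      obtain ⟨j, hj⟩ := C.mem_zpowers_iff.1 hzP
      exact C.norm_of_mem (i := 1) one_ne_zero (j := j) (x := g)
        (by rw [C.yP_one, hj, hz, mul_assoc])
  obtain ⟨ψ, hψ⟩ := SmallDim.exists_orbit_sum (Fact.out : p.Prime) (fun q : G ⧸ N => C.y • q)
    (fun q => by rw [smul_iterate, orderOf_dvd_iff_pow_eq_one.1 (dvd_of_eq C.order)]; exact one_smul G q)
    (LinearMap.mulLeft k (c C.y) * LinearMap.mulRight k (c C.y⁻¹)).toAddMonoidHom f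
    (fun q => (hsmul C.y q).trans (mul_assoc _ _ _))
    (Finset.univ.erase ((1 : G) : G ⧸ N)) hs hfree
  refine ⟨ψ, ?_⟩
  have h1 : ∀ j φ, (⇑(LinearMap.mulLeft k (c C.y) *
      LinearMap.mulRight k (c C.y⁻¹)).toAddMonoidHom)^[j] φ = c C.y ^ j * φ * c C.y⁻¹ ^ j := by
    intro j φ
    induction j with
    | zero => simp
    | succ j ih =>
      rw [Function.iterate_succ_apply', ih, pow_succ', pow_succ]
      simp only [LinearMap.toAddMonoidHom_coe, Module.End.mul_apply, LinearMap.mulLeft_apply,
        LinearMap.mulRight_apply, mul_assoc]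
  rw [← Finset.add_sum_erase _ _ (Finset.mem_univ ((1 : G) : G ⧸ N)), hψ, hf, inv_one, map_one,
    one_mul, mul_one, add_sub_cancel_left]
  exact Finset.sum_congr rfl fun j _ => h1 j ψ

theorem mem_center_of_small_dim (ρ : G →* Module.End k U) (hinj : Function.Injective ρ)
    (P : Sylow p G) (hP : Subgroup.zpowers C.y = (P : Subgroup G))
    (hgen : Subgroup.closure {g : G | g ^ p = 1} = ⊤) (hdim : 2 * finrank k U + 1 ≤ p) (v : C.V) :
    ((v : C.H) : G) ∈ Subgroup.center G := by
  have hp := (Fact.out : p.Prime)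
  have : Nontrivial U := by
    by_contra h
    rw [not_nontrivial_iff_subsingleton] at h
    have : C.y = 1 := hinj (LinearMap.ext fun u => Subsingleton.elim _ _)
    exact hp.ne_one (by rw [← C.order, this, orderOf_one])
  have : CharP (Module.End k U) p :=
    charP_of_injective_ringHom (algebraMap k (Module.End k U)).injective p
  set x := finrank k U with hxdef
  have hinv : ∀ g : G, ρ g * ρ g⁻¹ = 1 ∧ ρ g⁻¹ * ρ g = 1 := fun g => by
    rw [← map_mul, ← map_mul, mul_inv_cancel, inv_mul_cancel, map_one]; exact ⟨rfl, rfl⟩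
  have hyp : C.y ^ p = 1 := orderOf_dvd_iff_pow_eq_one.1 (dvd_of_eq C.order)
  have hnil : ∀ g : G, g ^ p = 1 → (ρ g - 1) ^ x = 0 := fun g hg =>
    pow_finrank_eq_zero ⟨p, by
      rw [sub_pow_char_of_commute _ (Commute.one_right _), ← map_pow, hg, map_one, one_pow, sub_self]⟩
  set n := ρ C.y - 1 with hn
  set m' := ρ C.y⁻¹ - 1 with hm'
  set c := endConj ρ
  set A := c C.y - 1 with hA
  set m := x + x
  have hAm : A ^ m = 0 := by
    have e : A = LinearMap.mulLeft k n * LinearMap.mulRight k (ρ C.y⁻¹) + LinearMap.mulRight k m' := by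
      refine LinearMap.ext fun φ => ?_
      simp only [hA, c, hn, hm', LinearMap.add_apply, LinearMap.sub_apply, Module.End.mul_apply,
        LinearMap.mulLeft_apply, LinearMap.mulRight_apply, endConj_apply, Module.End.one_apply,
        mul_assoc, sub_mul, mul_sub, mul_one, one_mul]
      abel
    rw [e]
    refine Commute.add_pow_eq_zero_of_add_le_succ_of_pow_eq_zero (m := x) (n := x) ?_ ?_ ?_
      (Nat.le_succ _)
    · refine Commute.mul_left (LinearMap.commute_mulLeft_right _ _) (LinearMap.ext fun φ => ?_)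
      simp only [Module.End.mul_apply, LinearMap.mulRight_apply, hm', mul_sub, sub_mul, mul_assoc,
        mul_one]
    · rw [(LinearMap.commute_mulLeft_right _ _).mul_pow, LinearMap.pow_mulLeft,
        hnil _ hyp, LinearMap.mulLeft_zero_eq_zero, zero_mul]
    · rw [LinearMap.pow_mulRight, hnil _ (by rw [inv_pow, hyp, inv_one]),
        LinearMap.mulRight_zero_eq_zero]
  have hmp : m ≤ p - 1 := by omega
  have hH : (Nat.card C.H : k) ≠ 0 := by
    rw [Ne, CharP.cast_eq_zero_iff k p]; exact C.not_dvd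
  obtain ⟨π, hπR, hπK, hπd, hπN⟩ := C.exists_avg_proj hH c
  obtain ⟨Φ, hΦc, ψ, hψ⟩ := C.exists_transfer P hP c π hπN
  have hS1 : c C.y * c C.y⁻¹ = 1 := by rw [← map_mul, mul_inv_cancel, map_one]
  have hS2 : c C.y⁻¹ * c C.y = 1 := by rw [← map_mul, inv_mul_cancel, map_one]
  have hfil : Φ - π ∈ fil A (p - 1) := hψ ▸ trace_mem_fil hS1 hS2 ψ
  have hΦK : ∀ w ∈ LinearMap.ker A, Φ w = π w := fun w hw => by
    have := fil_ker hAm hmp hfil (LinearMap.mem_ker.1 hw)
    rwa [LinearMap.sub_apply, sub_eq_zero] at this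
  have hRle : ∀ i, LinearMap.range (A ^ (i + 1)) ≤ LinearMap.range A := fun i => by
    rintro _ ⟨w, rfl⟩
    exact ⟨(A ^ i) w, by rw [← Module.End.mul_apply, ← pow_succ']⟩
  have hiter : ∀ (i : ℕ) w, ∃ a, ∃ r ∈ LinearMap.range (A ^ (i + 1)),
      (Φ ^ (i + 1)) w = π a + r := by
    intro i
    induction i with
    | zero =>
      intro w
      refine ⟨w, (Φ - π) w, fil_range hAm hmp hfil 0 (by simp), ?_⟩
      simp
    | succ i ih =>
      intro w
      obtain ⟨a, r, hr, e⟩ := ih w
      refine ⟨π a, (Φ - π) r, fil_range hAm hmp hfil _ hr, ?_⟩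
      rw [pow_succ', Module.End.mul_apply, e, map_add, hΦK _ (hπK a), LinearMap.sub_apply,
        hπR r (hRle i hr), sub_zero]
  have hΦm : ∀ w, (Φ ^ (m + 1)) w ∈ LinearMap.ker A := fun w => by
    obtain ⟨a, r, ⟨w', rfl⟩, e⟩ := hiter m w
    rw [e, pow_eq_zero_of_le (Nat.le_succ m) hAm]
    rw [LinearMap.zero_apply, add_zero]
    exact hπK a
  set w₀ := ρ ((v : C.H) : G) with hw₀
  have hvy : Commute ((v : C.H) : G) C.y := by simpa using C.commute_V v 1
  have hw₀K : w₀ ∈ LinearMap.ker A := by
    rw [LinearMap.mem_ker, hA, LinearMap.sub_apply, sub_eq_zero]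
    exact (endConj_fix_iff ρ _ _).2 (show Commute (ρ C.y) w₀ from hvy.symm.map ρ)
  set s := π w₀ with hs
  have hss : π s = s := by
    have := hπR _ (hπd w₀ hw₀K)
    rwa [map_sub, sub_eq_zero] at this
  have hspow : ∀ i, (Φ ^ i) s = s := by
    intro i
    induction i with
    | zero => rfl
    | succ i ih => rw [pow_succ', Module.End.mul_apply, ih, hΦK s (hπK w₀), hss]
  have hconj : ∀ g : G, c (g * C.y * g⁻¹) s = s := fun g => by
    have hc := (hΦc g⁻¹).pow_right (m + 1)
    have h1 : c g⁻¹ s = (Φ ^ (m + 1)) (c g⁻¹ s) := by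
      conv_lhs => rw [← hspow (m + 1)]
      exact LinearMap.congr_fun hc.eq s
    have h2 : c C.y (c g⁻¹ s) = c g⁻¹ s := by
      rw [h1]
      have := hΦm (c g⁻¹ s)
      rwa [LinearMap.mem_ker, hA, LinearMap.sub_apply, sub_eq_zero] at this
    rw [map_mul, map_mul, Module.End.mul_apply, Module.End.mul_apply, h2, ← Module.End.mul_apply,
      ← map_mul, mul_inv_cancel, map_one, Module.End.one_apply]
  have hall : ∀ g : G, Commute (ρ g) s := by
    let S : Subgroup G :=
      { carrier := {g | c g s = s}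
        one_mem' := by simp
        mul_mem' := fun {a b} ha hb => by
          show c (a * b) s = s
          rw [map_mul, Module.End.mul_apply, hb, ha]
        inv_mem' := fun {a} ha => by
          show c a⁻¹ s = s
          conv_lhs => rw [← show c a s = s from ha, ← Module.End.mul_apply, ← map_mul,
            inv_mul_cancel, map_one, Module.End.one_apply] }
    have hS : S = ⊤ := by
      rw [← top_le_iff, ← hgen, Subgroup.closure_le]
      intro g hg
      rcases eq_or_ne g 1 with rfl | hg1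
      · exact S.one_mem
      have hgo : orderOf g = p := orderOf_eq_prime hg hg1
      obtain ⟨i, -, u, hc⟩ := C.exists_conj_el (dvd_of_eq hgo.symm) P hP
      obtain ⟨a, ha⟩ := isConj_iff.1 hc
      have hu : u = 1 := by
        have h1 : C.el i u ^ p = 1 := by rw [← ha, conj_pow, hg, mul_one, mul_inv_cancel]
        rw [C.el_pow, ZMod.natCast_self, zero_mul, C.el_zero] at h1
        have h2 : ((u : C.H) : G) ^ p = 1 := by simpa using h1
        have h3 : orderOf ((u : C.H) : G) = 1 := by
          rcases (Nat.dvd_prime hp).1 (orderOf_dvd_of_pow_eq_one h2) with e | e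
          · exact e
          · rw [Subgroup.orderOf_coe] at e
            exact absurd (e.symm.dvd.trans (orderOf_dvd_natCard _)) C.not_dvd
        exact Subtype.ext (Subtype.ext (orderOf_eq_one_iff.1 h3))
      have e : g = (a⁻¹ * C.y * a) ^ i.val := by
        rw [hu, C.el_one_right] at ha
        have := conj_pow (i := i.val) (a := a⁻¹) (b := C.y)
        rw [inv_inv] at this
        rw [this, ← show C.yP i = C.y ^ i.val from rfl, ← ha]
        group
      rw [e]
      refine S.pow_mem ?_ _
      show c _ s = s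
      simpa using hconj a⁻¹
    intro g
    exact (endConj_fix_iff ρ g s).1 (show g ∈ S from hS ▸ Subgroup.mem_top g)
  set z := w₀ - s with hz
  obtain ⟨w, hw⟩ : z ∈ LinearMap.range A := by
    rw [hz, ← neg_sub]; exact neg_mem (hπd w₀ hw₀K)
  have hzK : Commute (ρ C.y) z := by
    refine (endConj_fix_iff ρ _ _).1 ?_
    have h1 : z ∈ LinearMap.ker A := sub_mem hw₀K (hπK w₀)
    rwa [LinearMap.mem_ker, hA, LinearMap.sub_apply, sub_eq_zero] at h1
  have hzn : IsNilpotent z := by
    have e : z * ρ C.y = n * w - w * n := by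
      rw [← hw, hA, LinearMap.sub_apply, Module.End.one_apply, endConj_apply, sub_mul,
        mul_assoc _ (ρ C.y⁻¹), (hinv C.y).2, mul_one, hn, sub_mul, mul_sub, one_mul, mul_one]
      abel
    have h1 := SmallDim.isNilpotent_commutator (p := p) (by omega) n w (by
      rw [← e]
      exact (hzK.mul_right (Commute.refl _)).sub_left (Commute.one_left _))
    rw [← e] at h1
    have h2 : IsNilpotent (z * ρ C.y * ρ C.y⁻¹) := by
      refine Commute.isNilpotent_mul_right ?_ h1
      have hyy : Commute (ρ C.y) (ρ C.y⁻¹) := by show _ = _; rw [(hinv _).1, (hinv _).2]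
      refine Commute.mul_left ?_ hyy
      show z * ρ C.y⁻¹ = ρ C.y⁻¹ * z
      calc z * ρ C.y⁻¹ = ρ C.y⁻¹ * (ρ C.y * z) * ρ C.y⁻¹ := by
            rw [← mul_assoc (ρ C.y⁻¹), (hinv _).2, one_mul]
        _ = ρ C.y⁻¹ * z := by rw [hzK.eq, mul_assoc, mul_assoc, (hinv _).1, mul_one]
    rwa [mul_assoc, (hinv _).1, mul_one] at h2
  have hzp : z ^ p = 0 := pow_eq_zero_of_le (by omega) (pow_finrank_eq_zero hzn)
  have hvp : ρ (((v : C.H) : G) ^ p) = s ^ p := by
    rw [map_pow, ← hw₀, show w₀ = s + z by rw [hz]; abel, add_pow_char_of_commute _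
      (show Commute s z from ((hall _).symm).sub_right (Commute.refl s)), hzp, add_zero]
  have hcent : ((v : C.H) : G) ^ p ∈ Subgroup.center G := Subgroup.mem_center_iff.2 fun g =>
    hinj (by rw [map_mul ρ g, map_mul ρ _ g, hvp]; exact ((hall g).pow_right p).eq)
  obtain ⟨i, hi⟩ := exists_pow_eq_self_of_coprime (x := ((v : C.H) : G))
    (hp.coprime_iff_not_dvd.2 fun h => C.not_dvd (by
      rw [Subgroup.orderOf_coe] at h; exact h.trans (orderOf_dvd_natCard _)))
  rw [← hi]
  exact Subgroup.pow_mem _ hcent i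

end Cyc

end Cfsg.Lib.Blocks
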