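import Mathlib
import Cfsg.Agent.Blocks.RelTrace

/-!
# Faithful representations in characteristic `p`

A faithful complex representation of a group without a nontrivial normal `p`-subgroup reduces
to a faithful representation of the same dimension in characteristic `p`.
-/

set_option autoImplicit false
set_option linter.unusedSectionVars false

namespace Cfsg.Lib.Blocks

open Module
open scoped Classical

universe u

variable {G : Type u} [Group G] [Fintype G] {M : Ideal AlgInt} {p : ℕ}

/-- Right translation of functions on `G × Fin n`. -/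
def shiftFun (R : Type*) [Semiring R] (n : ℕ) : G →* Module.End R (G × Fin n → R) where
  toFun h := LinearMap.funLeft R R fun x => (x.1 * h, x.2)
  map_one' := LinearMap.ext fun f => funext fun x => by simp
  map_mul' a b := LinearMap.ext fun f => funext fun x => by simp [mul_assoc]

lemma shiftFun_apply {R : Type*} [Semiring R] {n : ℕ} (h : G) (f : G × Fin n → R)
    (x : G × Fin n) : shiftFun R n h f x = f (x.1 * h, x.2) := rfl

/-- The matrix coefficients of a vector. -/
def coeffMap {n : ℕ} (ρ : G →* Module.End ℂ (Fin n → ℂ)) : (Fin n → ℂ) →ₗ[ℂ] G × Fin n → ℂ where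
  toFun w x := ρ x.1 w x.2
  map_add' a b := funext fun x => by simp
  map_smul' c a := funext fun x => by simp

lemma shiftFun_coeffMap {n : ℕ} (ρ : G →* Module.End ℂ (Fin n → ℂ)) (h : G) (w : Fin n → ℂ) :
    shiftFun ℂ n h (coeffMap ρ w) = coeffMap ρ (ρ h w) :=
  funext fun x => by
    show ρ (x.1 * h) w x.2 = ρ x.1 (ρ h w) x.2
    rw [map_mul]; rfl

lemma coeffMap_injective {n : ℕ} (ρ : G →* Module.End ℂ (Fin n → ℂ)) :
    Function.Injective (coeffMap ρ) := fun a b e => funext fun i => by
  have := congrFun e ((1 : G), i)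
  simpa [coeffMap] using this

theorem exists_faithful_reduction (hM : IsPModular p M) {n : ℕ}
    (ρ : G →* Module.End ℂ (Fin n → ℂ)) (hinj : Function.Injective ρ)
    (hnop : ∀ N : Subgroup G, N.Normal → IsPGroup p N → N = ⊥) :
    ∃ (U : Submodule (Res M) (G × Fin n → Res M)) (σ : G →* Module.End (Res M) U),
      finrank (Res M) U = n ∧ Function.Injective σ := by
  set W := LinearMap.range (coeffMap ρ) with hW
  set U := redSub M W with hU
  have hWst : ∀ h : G, ∀ x ∈ W, shiftFun ℂ n h x ∈ W := by
    rintro h _ ⟨w, rfl⟩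
    exact ⟨ρ h w, (shiftFun_coeffMap ρ h w).symm⟩
  have hst : ∀ h : G, ∀ v ∈ U, shiftFun (Res M) n h v ∈ U := by
    rintro h _ ⟨x, hx, hxi, rfl⟩
    exact ⟨_, hWst h x hx, fun i => hxi _, rfl⟩
  let σ : G →* Module.End (Res M) U :=
    { toFun := fun h => (shiftFun (Res M) n h).restrict (hst h)
      map_one' := LinearMap.ext fun v => Subtype.ext (by
        show shiftFun (Res M) n 1 (v : G × Fin n → Res M) = v
        rw [map_one]; rfl)
      map_mul' := fun a b => LinearMap.ext fun v => Subtype.ext (by
        show shiftFun (Res M) n (a * b) (v : G × Fin n → Res M) = _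
        rw [map_mul]; rfl) }
  refine ⟨U, σ, ?_, ?_⟩
  · rw [hU, finrank_redSub, hW, LinearMap.finrank_range_of_inj (coeffMap_injective ρ),
      finrank_fintype_fun_eq_card, Fintype.card_fin]
  have hσ : ∀ h : G, σ h = 1 → ¬ p ∣ orderOf h → h = 1 := by
    intro h hh hp
    set m := orderOf h
    have hu := isUnitAt_natCast hM hp
    have hpow : ∀ (j : ℕ), ∀ v ∈ U, shiftFun (Res M) n (h ^ j) v = v := fun j v hv => by
      have : σ (h ^ j) = 1 := by rw [map_pow, hh, one_pow]
      exact congrArg Subtype.val (LinearMap.congr_fun this ⟨v, hv⟩)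
    set F := W ⊓ LinearMap.ker (shiftFun ℂ n h - 1) with hF
    have hle : U ≤ redSub M F := by
      rintro v hv
      obtain ⟨x, hx, hxi, rfl⟩ := id hv
      refine ⟨(m : ℂ)⁻¹ • ∑ j ∈ Finset.range m, shiftFun ℂ n (h ^ j) x,
        ⟨W.smul_mem _ (W.sum_mem fun j _ => hWst _ x hx), ?_⟩, fun i => ?_, ?_⟩
      · rw [SetLike.mem_coe, LinearMap.mem_ker, LinearMap.sub_apply, sub_eq_zero,
          Module.End.one_apply, map_smul, map_sum]
        congr 1
        rw [Finset.sum_congr rfl fun j _ => show shiftFun ℂ n h (shiftFun ℂ n (h ^ j) x) =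
          shiftFun ℂ n (h ^ (j + 1)) x by rw [pow_succ', map_mul]; rfl]
        have h1 := Finset.sum_range_succ' (fun j => shiftFun ℂ n (h ^ j) x) m
        rw [Finset.sum_range_succ, pow_orderOf_eq_one, pow_zero, add_left_inj] at h1
        exact h1.symm
      · rw [Pi.smul_apply, smul_eq_mul, Finset.sum_apply]
        exact mul_mem hu.inv.mem_place (sum_mem fun j _ => hxi _)
      · funext i
        have hsum : (∑ j ∈ Finset.range m, shiftFun ℂ n (h ^ j) x) i ∈ place M := by
          rw [Finset.sum_apply]; exact sum_mem fun j _ => hxi _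
        show res M ((m : ℂ)⁻¹ * _) = res M (x i)
        rw [res_mul hu.inv.mem_place hsum, Finset.sum_apply, res_sum (Finset.range m) (fun j => shiftFun ℂ n (h ^ j) x i) fun j _ => hxi _,
          Finset.sum_congr rfl (g := fun _ => res M (x i)) fun j _ =>
            (show res M (shiftFun ℂ n (h ^ j) x i) = res M (x i) from congrFun (hpow j _ hv) i), Finset.sum_const, Finset.card_range, nsmul_eq_mul,
          ← res_natCast, ← res_mul (natCast_mem_place m) (hxi i), ← res_mul hu.inv.mem_place
            (mul_mem (natCast_mem_place m) (hxi i)), ← mul_assoc, inv_mul_cancel₀ hu.ne_zero, one_mul]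
    have h2 : finrank ℂ W ≤ finrank ℂ F := by
      rw [← finrank_redSub M W, ← finrank_redSub M F]
      exact Submodule.finrank_mono hle
    have h3 : F = W := Submodule.eq_of_le_of_finrank_le inf_le_left h2
    refine hinj (LinearMap.ext fun w => coeffMap_injective ρ ?_)
    have hm : coeffMap ρ w ∈ F := h3 ▸ LinearMap.mem_range_self _ w
    have h4 := hm.2
    rw [SetLike.mem_coe, LinearMap.mem_ker, LinearMap.sub_apply, sub_eq_zero,
      shiftFun_coeffMap] at h4
    rw [map_one]
    exact h4
  have hker : σ.ker = ⊥ := by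
    refine hnop _ inferInstance fun g => ?_
    refine ⟨(orderOf (g : G)).factorization p, Subtype.ext ?_⟩
    rw [SubmonoidClass.coe_pow, OneMemClass.coe_one]
    refine hσ _ (by rw [map_pow, show σ (g : G) = 1 from g.2, one_pow]) ?_
    rw [orderOf_pow_of_dvd (pow_ne_zero _ hM.1.ne_zero) (Nat.ordProj_dvd _ _)]
    exact Nat.not_dvd_ordCompl hM.1 (orderOf_pos _).ne'
  exact (MonoidHom.ker_eq_bot_iff σ).1 hker

end Cfsg.Lib.Blocks
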