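import Mathlib
import Cfsg.Agent.Blocks.SmallDegCentral
import Cfsg.Agent.Blocks.SmallDegReduction
import Cfsg.Agent.Blocks.OrbitFamily
import Cfsg.Agent.Blocks.Feit3

/-!
# Faithful characters of small degree

If `p` exactly divides the group order and the Sylow subgroup is not normal, then a faithful
character has degree at least `(p - 1) / 2`.
-/

set_option autoImplicit false
set_option linter.unusedSectionVars false

namespace Cfsg.Lib.Blocks

open Cfsg.Lib.Chars
open scoped ComplexConjugate Classical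

universe u

variable {G : Type u} [Group G] [Fintype G] {M : Ideal AlgInt} {p : ℕ} [Fact p.Prime]

lemma sum_zmod_eq_add_sum_units (f : ZMod p → ℤ) :
    ∑ k, f k = f 0 + ∑ u : (ZMod p)ˣ, f u := by
  rw [← Finset.add_sum_erase _ _ (Finset.mem_univ (0 : ZMod p))]
  congr 1
  exact Finset.sum_bij (fun k hk => Units.mk0 k (Finset.mem_erase.1 hk).1)
    (fun _ _ => Finset.mem_univ _) (fun a _ b _ e => congrArg Units.val e)
    (fun u _ => ⟨u, Finset.mem_erase.2 ⟨u.ne_zero, Finset.mem_univ _⟩, Units.ext rfl⟩)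
    fun _ _ => rfl

/-- The only nontrivial normal `p`-subgroup would be everything. -/
lemma eq_bot_of_normal_pGroup (hsq : ¬ p ^ 2 ∣ Nat.card G)
    (hgen : Subgroup.closure {g : G | g ^ p = 1} = ⊤) (hne : ∃ a b : G, a * b ≠ b * a)
    (N : Subgroup G) (hN : N.Normal) (hp : IsPGroup p N) : N = ⊥ := by
  have hpr := (Fact.out : p.Prime)
  by_contra h
  obtain ⟨j, hj⟩ := IsPGroup.iff_card.1 hp
  have hj0 : j ≠ 0 := fun e => h (Subgroup.eq_bot_of_card_eq N (by rw [hj, e, pow_zero]))
  have hj2 : j < 2 := by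
    by_contra h2
    exact hsq ((pow_dvd_pow p (not_lt.1 h2)).trans (hj ▸ Subgroup.card_subgroup_dvd_card N))
  have hcard : Nat.card N = p := by rw [hj, show j = 1 by omega, pow_one]
  have htop : N = ⊤ := by
    rw [eq_top_iff, ← hgen, Subgroup.closure_le]
    intro g hg
    by_contra hgN
    have hgo : orderOf g = p := orderOf_eq_prime hg fun e => hgN (e ▸ N.one_mem)
    refine hsq ?_
    have hq : orderOf (QuotientGroup.mk' N g) = p := orderOf_eq_prime
      (by rw [← map_pow, hg, map_one]) fun e => hgN ((QuotientGroup.eq_one_iff g).1 e)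
    rw [Subgroup.card_eq_card_quotient_mul_card_subgroup N, pow_two, hcard]
    exact Nat.mul_dvd_mul_right (hq ▸ orderOf_dvd_natCard _) p
  obtain ⟨a, b, hab⟩ := hne
  have : IsCyclic N := isCyclic_of_prime_card hcard
  let _ : CommGroup N := IsCyclic.commGroup (α := N)
  exact hab (congrArg Subtype.val
    (mul_comm (⟨a, htop ▸ Subgroup.mem_top a⟩ : N) ⟨b, htop ▸ Subgroup.mem_top b⟩))

namespace Cyc

variable (C : Cyc G p)

lemma exists_conj_yP (P : Sylow p G) (hP : Subgroup.zpowers C.y = (P : Subgroup G)) {g : G}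
    (hg : g ^ p = 1) (hg1 : g ≠ 1) : ∃ i : ZMod p, i ≠ 0 ∧ IsConj g (C.yP i) := by
  have hp := (Fact.out : p.Prime)
  obtain ⟨i, hi, u, hc⟩ := C.exists_conj_el (dvd_of_eq (orderOf_eq_prime hg hg1).symm) P hP
  refine ⟨i, hi, ?_⟩
  obtain ⟨a, ha⟩ := isConj_iff.1 hc
  have h1 : C.el i u ^ p = 1 := by rw [← ha, conj_pow, hg, mul_one, mul_inv_cancel]
  rw [C.el_pow, ZMod.natCast_self, zero_mul, C.el_zero] at h1
  have h2 : ((u : C.H) : G) ^ p = 1 := by simpa using h1
  have h3 : orderOf ((u : C.H) : G) = 1 := by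
    rcases (Nat.dvd_prime hp).1 (orderOf_dvd_of_pow_eq_one h2) with e | e
    · exact e
    · rw [Subgroup.orderOf_coe] at e
      exact absurd (e.symm.dvd.trans (orderOf_dvd_natCard _)) C.not_dvd
  rw [show u = 1 from Subtype.ext (Subtype.ext (orderOf_eq_one_iff.1 h3)), C.el_one_right] at hc
  exact hc

/-- The embedding of `ℤ/p`. -/
noncomputable def iota : Multiplicative (ZMod p) →* G :=
  MonoidHom.mk' (fun a => C.yP a.toAdd) fun _ _ => C.yP_add _ _

/-- The multiplicity of the `k`-th eigenvalue of `y`. -/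
noncomputable def cc (f : G → ℂ) (k : ZMod p) : ℂ :=
  (p : ℂ)⁻¹ * ∑ i : ZMod p, f (C.yP i) * conj (psi p (k * i))

lemma exists_nat_cc {f : G → ℂ} (hf : Cfsg.IsCharacter G f) (k : ZMod p) :
    ∃ a : ℕ, C.cc f k = (a : ℂ) := by
  let l : Multiplicative (ZMod p) →* ℂˣ :=
    MonoidHom.toHomUnits ((psi p).mulShift k).toMonoidHom
  obtain ⟨a, ha⟩ := IsCharacter.exists_mult (IsCharacter.comp_hom hf C.iota)
    (isIrrCharacter_linear l)
  refine ⟨a, ?_⟩
  rw [← ha, cc, classInner_def, Nat.card_congr Multiplicative.toAdd, Nat.card_zmod]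
  congr 1
  exact Fintype.sum_equiv Multiplicative.ofAdd _ _ fun i => by
    rw [MonoidHom.coe_toHomUnits, AddChar.toMonoidHom_apply, AddChar.mulShift_apply]
    rfl

lemma sum_cc (f : G → ℂ) : ∑ k, C.cc f k = f 1 := by
  simp only [cc, ← Finset.mul_sum]
  rw [Finset.sum_comm]
  simp only [← Finset.mul_sum, psi_conj]
  rw [Finset.sum_eq_single (0 : ZMod p) (fun i _ hi => ?_) (by simp)]
  · simp only [mul_zero, neg_zero, AddChar.map_zero_eq_one, Finset.sum_const, Finset.card_univ,
      ZMod.card, nsmul_one, C.yP_zero]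
    have : (p : ℂ) ≠ 0 := Nat.cast_ne_zero.2 (Fact.out : p.Prime).ne_zero
    field_simp
  · have h := sum_psi_mul (-i)
    simp only [mul_neg, neg_eq_zero] at h
    rw [h, if_neg hi, mul_zero]

/-- The trivial character of `V`. -/
noncomputable def oneV : IrrCharacter C.V := ⟨fun _ => 1, isIrrCharacter_one⟩

lemma mu_oneV {η : IrrCharacter G}
    (hV : ∀ v : C.V, (η : G → ℂ) ((v : C.H) : G) = (η : G → ℂ) 1) (i : ZMod p) :
    C.mu (η : G → ℂ) (C.oneV : C.V → ℂ) i = (η : G → ℂ) (C.yP i) := by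
  have h1 : ∀ v : C.V, (η : G → ℂ) (C.el i v) * conj ((C.oneV : C.V → ℂ) v) =
      (η : G → ℂ) (C.yP i) := fun v => by
    show _ * conj (1 : ℂ) = _
    rw [map_one, mul_one, Cyc.el, ← (C.commute_V v i).eq,
      IsCharacter.ker_mul (isCharacter_of_irr η.2) (hV v)]
  rw [Cyc.mu, Finset.sum_congr rfl fun v _ => h1 v, Finset.sum_const, Finset.card_univ,
    nsmul_eq_mul, ← Nat.card_eq_fintype_card, ← mul_assoc,
    inv_mul_cancel₀ (Nat.cast_ne_zero.2 Nat.card_pos.ne'), one_mul]

lemma bI_oneV {η : IrrCharacter G}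
    (hV : ∀ v : C.V, (η : G → ℂ) ((v : C.H) : G) = (η : G → ℂ) 1) (k : ZMod p) :
    (C.bI η C.oneV k : ℂ) = C.cc (η : G → ℂ) 0 - C.cc (η : G → ℂ) k := by
  rw [← C.bb_eq, Cyc.bb, cc, cc, ← mul_sub, ← Finset.sum_sub_distrib]
  congr 1
  refine Finset.sum_congr rfl fun i _ => ?_
  rw [C.mu_oneV hV, zero_mul, AddChar.map_zero_eq_one, map_one, psi_conj]
  ring

/-- The inequality for a single constituent. -/
lemma cc_zero_le (hM : IsPModular p M) (P : Sylow p G)
    (hP : Subgroup.zpowers C.y = (P : Subgroup G))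
    (hgen : Subgroup.closure {g : G | g ^ p = 1} = ⊤) {η : IrrCharacter G}
    (hV : ∀ v : C.V, (η : G → ℂ) ((v : C.H) : G) = (η : G → ℂ) 1)
    (hne : (η : G → ℂ) ≠ fun _ => 1) {a : ℕ} (ha : C.cc (η : G → ℂ) 0 = (a : ℂ)) :
    (p + 1) * a ≤ 2 * deg (η : G → ℂ) := by
  have hp2 := (Fact.out : p.Prime).two_le
  have hsum : (deg (η : G → ℂ) : ℤ) =
      (p : ℤ) * a - ∑ u : (ZMod p)ˣ, C.bI η C.oneV (u : ZMod p) := by
    have h1 : (deg (η : G → ℂ) : ℤ) = ∑ k : ZMod p, ((a : ℤ) - C.bI η C.oneV k) := by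
      apply Int.cast_injective (α := ℂ)
      push_cast
      rw [← irr_apply_one_eq_deg, ← C.sum_cc (η : G → ℂ)]
      refine Finset.sum_congr rfl fun k _ => ?_
      rw [C.bI_oneV hV, ha, sub_sub_cancel]
    rw [h1, Finset.sum_sub_distrib, Finset.sum_const, Finset.card_univ, ZMod.card, nsmul_eq_mul,
      sum_zmod_eq_add_sum_units (fun k => C.bI η C.oneV k), C.bI_zero, zero_add]
  have htriv : (∀ u : (ZMod p)ˣ, C.bI η C.oneV (u : ZMod p) = 1) → a ≠ 1 := by
    intro hb ha1
    have hd : (η : G → ℂ) 1 = 1 := by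
      rw [irr_apply_one_eq_deg]
      have h2 : (deg (η : G → ℂ) : ℤ) = 1 := by
        rw [hsum, ha1, Finset.sum_congr rfl fun u _ => hb u, Finset.sum_const, Finset.card_univ,
          ZMod.card_units, nsmul_one]
        push_cast [Nat.cast_sub (show 1 ≤ p by omega)]
        ring
      exact_mod_cast h2
    have hy : ∀ i : ZMod p, i ≠ 0 → (η : G → ℂ) (C.yP i) = 1 := fun i hi => by
      rw [← C.mu_oneV hV, C.mu_eq_bI η C.oneV hi]
      simp only [hb, Int.cast_one, one_mul, sum_units_psi hi, neg_neg]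
    have hker : kerSubgroup (η : G → ℂ) (isCharacter_of_irr η.2) = ⊤ := by
      rw [eq_top_iff, ← hgen, Subgroup.closure_le]
      intro g hg
      rw [SetLike.mem_coe, mem_kerSubgroup]
      rcases eq_or_ne g 1 with rfl | hg1
      · rfl
      obtain ⟨i, hi, hc⟩ := C.exists_conj_yP P hP hg hg1
      rw [apply_of_isConj η hc, hy i hi, hd]
    exact hne (funext fun g => by
      have hg : g ∈ kerSubgroup (η : G → ℂ) (isCharacter_of_irr η.2) := hker ▸ Subgroup.mem_top g
      rw [mem_kerSubgroup] at hg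
      rw [hg, hd])
  obtain ⟨ν, δ, hD⟩ := C.exists_orbitData hM C.oneV
  have hp1 : ((p - 1 : ℕ) : ℤ) = (p : ℤ) - 1 := by rw [Nat.cast_sub (by omega), Nat.cast_one]
  suffices h : ((p : ℤ) + 1) * a ≤ 2 * (deg (η : G → ℂ) : ℤ) by exact_mod_cast h
  rw [hsum]
  by_cases hr : η ∈ Set.range ν
  · obtain ⟨u, rfl⟩ := hr
    set E := C.E (C.oneV : C.V → ℂ)
    have hS : ∑ v : (ZMod p)ˣ, C.bI (ν u) C.oneV (v : ZMod p) =
        -δ * (C.ee (C.oneV : C.V → ℂ) : ℤ) := by
      simp only [hD.bI_exc]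
      rw [← Finset.sum_filter, Finset.sum_const, nsmul_eq_mul, mul_comm (-δ)]
      congr 1
      rw [Nat.cast_inj, Cyc.ee, Nat.card_eq_fintype_card, Fintype.card_subtype]
      exact Finset.card_bij (fun v _ => u⁻¹ * v)
        (fun v hv => Finset.mem_filter.2 ⟨Finset.mem_univ _, (Finset.mem_filter.1 hv).2⟩)
        (fun a _ b _ e => mul_left_cancel e)
        fun w hw => ⟨u * w, Finset.mem_filter.2 ⟨Finset.mem_univ _, by
          rw [inv_mul_cancel_left]; exact (Finset.mem_filter.1 hw).2⟩, inv_mul_cancel_left u w⟩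
    rw [hS]
    have he := C.index_E_mul (C.oneV : C.V → ℂ)
    have he0 : (0 : ℤ) ≤ C.ee (C.oneV : C.V → ℂ) := Int.natCast_nonneg _
    have he1 : (C.ee (C.oneV : C.V → ℂ) : ℤ) ≤ (p : ℤ) - 1 := by
      rw [← hp1, Nat.cast_le]
      exact Nat.le_of_dvd (by omega) (C.ee_dvd _)
    rcases Nat.eq_zero_or_pos a with rfl | ha0
    · rcases hD.sign with hδ | hδ <;> rw [hδ] at hS ⊢
      · push_cast; linarith
      · exfalso
        -- a fixed space of dimension zero forces nonpositive multiplicities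
        have h1 := hD.bI_exc u u
        rw [inv_mul_cancel, if_pos (one_mem _), hδ, neg_neg] at h1
        obtain ⟨c, hc⟩ := C.exists_nat_cc (isCharacter_of_irr (ν u).2) (u : ZMod p)
        have h2 := C.bI_oneV hV (u : ZMod p)
        rw [h1, ha, hc] at h2
        have h3 : (1 : ℤ) = ((0 : ℕ) : ℤ) - (c : ℤ) := by exact_mod_cast h2
        omega
    rcases hD.sign with hδ | hδ <;> rw [hδ]
    · have : (0 : ℤ) ≤ ((p : ℤ) - 1) * a := mul_nonneg (by omega) (Int.natCast_nonneg _)
      nlinarith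
    rcases Nat.lt_or_ge 1 a with ha2 | ha1
    · have : ((p : ℤ) - 1) * 2 ≤ ((p : ℤ) - 1) * a :=
        mul_le_mul_of_nonneg_left (by exact_mod_cast ha2) (by omega)
      nlinarith
    have ha1' : a = 1 := by omega
    have ht : 2 ≤ E.index := by
      by_contra ht
      have htop : E = ⊤ := Subgroup.index_eq_one.1 (by
        have : E.index ≠ 0 := Subgroup.index_ne_zero_of_finite
        omega)
      exact htriv (fun v => by rw [hD.bI_exc, if_pos (by rw [← show C.E (C.oneV : C.V → ℂ) = E from rfl] at htop; rw [htop]; trivial), hδ, neg_neg]) ha1'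
    have : 2 * C.ee (C.oneV : C.V → ℂ) ≤ p - 1 := he ▸ Nat.mul_le_mul_right _ ht
    rw [ha1']
    push_cast
    omega
  · simp only [hD.bI_ord η hr, Finset.sum_const, Finset.card_univ, ZMod.card_units, nsmul_eq_mul, hp1]
    have hb := hD.abs_ord η hr
    by_cases hb1 : C.bI η C.oneV 1 = 1
    · rw [hb1, mul_one]
      rcases Nat.lt_or_ge 1 a with ha2 | ha1
      · have : ((p : ℤ) - 1) * 2 ≤ ((p : ℤ) - 1) * a :=
          mul_le_mul_of_nonneg_left (by exact_mod_cast ha2) (by omega)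
        nlinarith
      rcases Nat.eq_zero_or_pos a with rfl | ha0
      · exfalso
        obtain ⟨c, hc⟩ := C.exists_nat_cc (isCharacter_of_irr η.2) (1 : ZMod p)
        have h2 := C.bI_oneV hV (1 : ZMod p)
        rw [hb1, ha, hc] at h2
        have h3 : (1 : ℤ) = ((0 : ℕ) : ℤ) - (c : ℤ) := by exact_mod_cast h2
        omega
      · exact absurd (by omega : a = 1) (htriv fun v => by rw [hD.bI_ord η hr, hb1])
    · have h1 : C.bI η C.oneV 1 ≤ 0 := by omega
      have : ((p : ℤ) - 1) * C.bI η C.oneV 1 ≤ 0 := mul_nonpos_of_nonneg_of_nonpos (by omega) h1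
      have : (0 : ℤ) ≤ ((p : ℤ) - 1) * a := mul_nonneg (by omega) (Int.natCast_nonneg _)
      nlinarith

end Cyc

/-- The irreducible case. -/
theorem deg_bound_irr (hsq : ¬ p ^ 2 ∣ Nat.card G)
    (hgen : Subgroup.closure {g : G | g ^ p = 1} = ⊤) (hne : ∃ a b : G, a * b ≠ b * a)
    {χ : G → ℂ} (hχ : Cfsg.IsIrrCharacter G χ) (hfaith : ∀ g, χ g = χ 1 → g = 1) :
    p ≤ 2 * deg χ + 1 := by
  have hp := (Fact.out : p.Prime)
  have hirr := hχ
  obtain ⟨n, ρ, hρ, rfl⟩ := hχ
  rw [deg_character, Module.finrank_fintype_fun_eq_card, Fintype.card_fin]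
  by_contra hlt
  have hρinj : Function.Injective ρ := by
    refine (injective_iff_map_eq_one _).2 fun g hg => hfaith g ?_
    show LinearMap.trace ℂ _ (ρ g) = LinearMap.trace ℂ _ (ρ 1)
    rw [hg, map_one ρ]
  obtain ⟨M, hM⟩ := exists_isPModular hp
  have : CharP (Res M) p := charP_res hM
  have hn2 : 2 ≤ n := by
    by_contra hn
    obtain ⟨a, b, hab⟩ := hne
    refine hab (hρinj ?_)
    rw [map_mul, map_mul]
    have hsc : ∀ f : Module.End ℂ (Fin n → ℂ), ∃ c : ℂ, f = c • 1 := fun f => by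
      rcases Nat.eq_zero_or_pos n with rfl | h
      · exact ⟨0, LinearMap.ext fun w => Subsingleton.elim _ _⟩
      · have h1 : n = 1 := by omega
        subst h1
        refine ⟨f (fun _ => 1) 0, LinearMap.ext fun w => ?_⟩
        have hw : w = w 0 • (fun _ => (1 : ℂ)) := funext fun i => by
          rw [Subsingleton.elim i 0]; simp
        conv_lhs => rw [hw, map_smul]
        funext i
        rw [Subsingleton.elim i 0]
        simp [mul_comm]
    obtain ⟨c, hc⟩ := hsc (ρ a)
    rw [hc, smul_mul_assoc, mul_smul_comm, one_mul, mul_one]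
  obtain ⟨g₀, hg₀, hg₀1⟩ : ∃ g : G, g ^ p = 1 ∧ g ≠ 1 := by
    by_contra hall
    push Not at hall
    obtain ⟨a, b, hab⟩ := hne
    have htop : (⊤ : Subgroup G) = ⊥ := by
      rw [← hgen, Subgroup.closure_eq_bot_iff]
      exact fun g hg => Set.mem_singleton_iff.2 (hall g hg)
    have ha : a ∈ (⊥ : Subgroup G) := htop ▸ Subgroup.mem_top a
    rw [Subgroup.mem_bot] at ha
    exact hab (by rw [ha, one_mul, mul_one])
  have hdiv : p ∣ Nat.card G := orderOf_eq_prime hg₀ hg₀1 ▸ orderOf_dvd_natCard g₀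
  obtain ⟨P⟩ : Nonempty (Sylow p G) := inferInstance
  obtain ⟨C, hP⟩ := exists_cyc hdiv hsq P
  obtain ⟨U, σ, hU, hσ⟩ := exists_faithful_reduction hM ρ hρinj
    fun N hN hNp => eq_bot_of_normal_pGroup hsq hgen hne N hN hNp
  have hcent : ∀ v : C.V, ((v : C.H) : G) ∈ Subgroup.center G :=
    C.mem_center_of_small_dim σ hσ P hP hgen (by rw [hU]; omega)
  set χ := ρ.character with hχdef
  have hχc : Cfsg.IsCharacter G χ := ⟨n, ρ, rfl⟩
  have hχ1 : χ 1 = (n : ℂ) := by
    rw [hχdef, ρ.char_one, Module.finrank_fintype_fun_eq_card, Fintype.card_fin]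
  set f : G → ℂ := χ * fun g => conj (χ g) with hf
  have hfc : Cfsg.IsCharacter G f := IsCharacter.mul hχc (IsCharacter.conjugate hχc)
  have hfV : ∀ v : C.V, f ((v : C.H) : G) = f 1 := by
    intro v
    set g := ((v : C.H) : G)
    obtain ⟨c, hc⟩ := schur_scalar ρ (ρ g) fun h w => by
      rw [← Module.End.mul_apply, ← Module.End.mul_apply, ← map_mul, ← map_mul,
        Subgroup.mem_center_iff.1 (hcent v) h]
    have hpow : c ^ orderOf g = 1 := by
      have h1 : ρ (g ^ orderOf g) = 1 := by rw [pow_orderOf_eq_one, map_one]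
      rw [map_pow, hc, show (c • LinearMap.id : Module.End ℂ (Fin n → ℂ)) = c • 1 from rfl,
        smul_pow, one_pow] at h1
      have : Nontrivial (Fin n → ℂ) := by
        have : Nonempty (Fin n) := ⟨⟨0, by omega⟩⟩
        infer_instance
      obtain ⟨w, hw⟩ := exists_ne (0 : Fin n → ℂ)
      exact smul_left_injective ℂ hw (by simpa using LinearMap.congr_fun h1 w)
    have hval : χ g = c * (n : ℂ) := by
      show LinearMap.trace ℂ _ (ρ g) = _
      rw [hc, map_smul, LinearMap.trace_id, Module.finrank_fintype_fun_eq_card, Fintype.card_fin,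
        smul_eq_mul]
    have hnorm := Complex.norm_eq_one_of_pow_eq_one hpow (orderOf_pos g).ne'
    show χ g * conj (χ g) = χ 1 * conj (χ 1)
    rw [hval, hχ1, map_mul, mul_mul_mul_comm, Complex.mul_conj', hnorm]
    norm_num
  -- decomposition
  choose m hm using fun η : IrrCharacter G => IsCharacter.exists_mult hfc η.2
  have hexp : ∀ g, f g = ∑ η : IrrCharacter G, (m η : ℂ) * (η : G → ℂ) g := fun g => by
    rw [classFunction_expand_apply (isClassFunction_isChar hfc) g]
    exact Finset.sum_congr rfl fun η _ => by rw [hm]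
  have hker : ∀ η : IrrCharacter G, m η ≠ 0 →
      ∀ v : C.V, (η : G → ℂ) ((v : C.H) : G) = (η : G → ℂ) 1 := by
    intro η hη v
    have h1 : ∑ θ : IrrCharacter G, (m θ : ℝ) *
        (((θ : G → ℂ) 1).re - ((θ : G → ℂ) ((v : C.H) : G)).re) = 0 := by
      have h2 := congrArg Complex.re (hfV v)
      rw [hexp, hexp, Complex.re_sum, Complex.re_sum] at h2
      simp only [mul_sub, Finset.sum_sub_distrib]
      rw [sub_eq_zero]
      simpa [Complex.mul_re] using h2.symm
    have h3 := (Finset.sum_eq_zero_iff_of_nonneg fun θ _ => mul_nonneg (Nat.cast_nonneg _)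
      (sub_nonneg.2 (IsCharacter.re_le (isCharacter_of_irr θ.2) _))).1 h1 η (Finset.mem_univ _)
    exact IsCharacter.eq_apply_one_of_re_eq (isCharacter_of_irr η.2)
      (sub_eq_zero.1 ((mul_eq_zero.1 h3).resolve_left (Nat.cast_ne_zero.2 hη))).symm
  choose a ha using fun η : IrrCharacter G => C.exists_nat_cc (isCharacter_of_irr η.2) 0
  let one : IrrCharacter G := ⟨fun _ => 1, isIrrCharacter_one⟩
  have hm1 : m one = 1 := by
    apply Nat.cast_injective (R := ℂ)
    rw [← hm, Nat.cast_one, ← classInner_self_irr hirr, classInner_def, classInner_def]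
    simp only [hf, one, Pi.mul_apply, map_one, mul_one]
  have ha1 : a one = 1 := by
    apply Nat.cast_injective (R := ℂ)
    rw [← ha, Cyc.cc]
    simp only [one, zero_mul, AddChar.map_zero_eq_one, map_one, mul_one, Finset.sum_const,
      Finset.card_univ, ZMod.card, nsmul_one, Nat.cast_one]
    exact inv_mul_cancel₀ (Nat.cast_ne_zero.2 hp.ne_zero)
  have hd1 : deg (one : G → ℂ) = 1 := by
    apply Nat.cast_injective (R := ℂ)
    rw [← irr_apply_one_eq_deg, Nat.cast_one]
  have hdeg : n * n = ∑ η, m η * deg (η : G → ℂ) := by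
    apply Nat.cast_injective (R := ℂ)
    have h := hexp 1
    rw [show f 1 = χ 1 * conj (χ 1) from rfl, hχ1, Complex.conj_natCast] at h
    push_cast
    rw [h]
    exact Finset.sum_congr rfl fun η _ => by rw [irr_apply_one_eq_deg]
  have hA : (p + 1) * ∑ η, m η * a η + 2 ≤ 2 * ∑ η, m η * deg (η : G → ℂ) + (p + 1) := by
    rw [← Finset.add_sum_erase _ _ (Finset.mem_univ one), ← Finset.add_sum_erase _
      (fun η : IrrCharacter G => m η * deg (η : G → ℂ)) (Finset.mem_univ one), hm1, ha1, hd1]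
    have : (p + 1) * ∑ η ∈ Finset.univ.erase one, m η * a η ≤
        2 * ∑ η ∈ Finset.univ.erase one, m η * deg (η : G → ℂ) := by
      rw [Finset.mul_sum, Finset.mul_sum]
      refine Finset.sum_le_sum fun η hη => ?_
      rcases eq_or_ne (m η) 0 with h0 | h0
      · simp [h0]
      rw [mul_left_comm, mul_left_comm 2]
      exact Nat.mul_le_mul_left _ (C.cc_zero_le hM P hP hgen (hker η h0)
        (fun e => (Finset.mem_erase.1 hη).1 (Subtype.ext e)) (ha η))
    rw [mul_add, mul_add]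
    omega
  have hlow : n ≤ ∑ η, m η * a η := by
    obtain ⟨m', hm'⟩ := IsCharacter.exists_decomp (IsCharacter.comp_hom hχc C.iota)
    have hsq' : ((∑ η, m η * a η : ℕ) : ℂ) = ((∑ ξ, m' ξ * m' ξ : ℕ) : ℂ) := by
      push_cast
      have h1 : Cfsg.classInner (fun x => χ (C.iota x)) (fun x => χ (C.iota x)) = C.cc f 0 := by
        rw [classInner_def, Cyc.cc, Nat.card_congr Multiplicative.toAdd, Nat.card_zmod]
        congr 1
        exact Fintype.sum_equiv Multiplicative.toAdd _ _ fun x => by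
          rw [zero_mul, AddChar.map_zero_eq_one, map_one, mul_one]; rfl
      have h2 : C.cc f 0 = ∑ η : IrrCharacter G, (m η : ℂ) * (a η : ℂ) := by
        simp only [← ha, Cyc.cc, hexp, Finset.mul_sum, Finset.sum_mul]
        rw [Finset.sum_comm]
        exact Finset.sum_congr rfl fun η _ => Finset.sum_congr rfl fun i _ => by ring
      rw [← h2, ← h1, hm']
      simp only [← Nat.cast_smul_eq_nsmul ℂ, classInner_self_decomp, Complex.conj_natCast]
    have h3 : n = ∑ ξ, m' ξ := by
      apply Nat.cast_injective (R := ℂ)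
      have h4 := congrFun hm' 1
      rw [map_one, hχ1, Finset.sum_apply] at h4
      push_cast
      rw [h4]
      refine Finset.sum_congr rfl fun ξ _ => ?_
      rw [Pi.smul_apply, irr_deg_one_of_comm (fun a b => mul_comm a b) ξ.2, nsmul_one]
    rw [Nat.cast_inj] at hsq'
    rw [hsq', h3]
    exact Finset.sum_le_sum fun ξ _ => Nat.le_mul_self _
  rw [← hdeg] at hA
  have h5 : (p + 1) * n + 2 ≤ 2 * (n * n) + (p + 1) :=
    le_trans (Nat.add_le_add_right (Nat.mul_le_mul_left _ hlow) 2) hA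
  nlinarith

/-- A faithful character has degree at least `(p - 1) / 2`. -/
theorem deg_bound_faithful (hdiv : p ∣ Nat.card G) (hsq : ¬ p ^ 2 ∣ Nat.card G)
    (hnn : ∀ H : Subgroup G, H.Normal → Nat.card H ≠ p) {χ : G → ℂ} (hχ : Cfsg.IsCharacter G χ)
    (hfaith : ∀ g : G, χ g = χ 1 → g = 1) : p ≤ 2 * deg χ + 1 := by
  have hp := (Fact.out : p.Prime)
  obtain ⟨P⟩ : Nonempty (Sylow p G) := inferInstance
  obtain ⟨C, hP⟩ := exists_cyc hdiv hsq P
  have hPc : Nat.card (P : Subgroup G) = p := by rw [← hP, Nat.card_zpowers, C.order]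
  set K := Subgroup.normalClosure ((P : Subgroup G) : Set G) with hK
  have hχK : Cfsg.IsCharacter K fun x : K => χ x := IsCharacter.comp_hom hχ K.subtype
  obtain ⟨m, hm⟩ := IsCharacter.exists_decomp hχK
  obtain ⟨ψ, hψ0, a, b, hab⟩ : ∃ ψ : IrrCharacter K, m ψ ≠ 0 ∧ ∃ a b : K,
      (ψ : K → ℂ) (a * b * a⁻¹ * b⁻¹) ≠ (ψ : K → ℂ) 1 := by
    by_contra hall
    push Not at hall
    have hcomm : ∀ a b : K, a * b = b * a := by
      intro a b
      have h1 : (fun x : K => χ x) (a * b * a⁻¹ * b⁻¹) = (fun x : K => χ x) 1 := by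
        rw [hm]
        simp only [Finset.sum_apply, Pi.smul_apply]
        refine Finset.sum_congr rfl fun ψ _ => ?_
        rcases eq_or_ne (m ψ) 0 with h0 | h0
        · simp [h0]
        · rw [hall ψ h0]
      have h2 : a * b * a⁻¹ * b⁻¹ = 1 := Subtype.ext (hfaith _ h1)
      calc a * b = a * b * a⁻¹ * b⁻¹ * (b * a) := by group
        _ = b * a := by rw [h2, one_mul]
    refine hnn (P : Subgroup G) ?_ hPc
    refine ⟨fun x hx g => ?_⟩
    have hxK : g * x * g⁻¹ ∈ K := Subgroup.normalClosure_normal.conj_mem _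
      (Subgroup.subset_normalClosure hx) g
    have hN : g * x * g⁻¹ ∈ Subgroup.normalizer ((P : Subgroup G) : Set G) := by
      refine Subgroup.centralizer_le_normalizer _ ?_
      rw [Subgroup.mem_centralizer_iff]
      intro z hz
      exact congrArg Subtype.val (hcomm ⟨z, Subgroup.subset_normalClosure hz⟩ ⟨_, hxK⟩)
    have hxp : IsPGroup p (Subgroup.zpowers (g * x * g⁻¹)) := by
      obtain ⟨j, hj⟩ := P.2 ⟨x, hx⟩
      rintro ⟨z, k, rfl⟩
      refine ⟨j, Subtype.ext ?_⟩
      show ((g * x * g⁻¹) ^ k) ^ p ^ j = 1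
      rw [← zpow_natCast, ← zpow_mul, mul_comm k, zpow_mul, zpow_natCast, conj_pow,
        show x ^ p ^ j = 1 from congrArg Subtype.val hj, mul_one, mul_inv_cancel, one_zpow]
    exact (hxp.inf_normalizer_sylow P |>.le ⟨Subgroup.mem_zpowers _, hN⟩).2
  set N := kerSubgroup (ψ : K → ℂ) (isCharacter_of_irr ψ.2) with hN
  have : N.Normal := kerSubgroup_normal _
  set π := QuotientGroup.mk' N
  have hπ : Function.Surjective π := QuotientGroup.mk'_surjective N
  obtain ⟨φ, hφc, hφ⟩ := exists_factor π hπ (isCharacter_of_irr ψ.2) fun k hk => by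
    rw [QuotientGroup.ker_mk'] at hk
    exact (mem_kerSubgroup _ k).1 hk
  have : Fintype (K ⧸ N) := Fintype.ofFinite _
  have hφi : Cfsg.IsIrrCharacter (K ⧸ N) φ := IsIrrCharacter.descend hφc π hπ (hφ ▸ ψ.2)
  have hval : ∀ x, (ψ : K → ℂ) x = φ (π x) := fun x => congrFun hφ x
  have hφf : ∀ q, φ q = φ 1 → q = 1 := by
    intro q hq
    obtain ⟨x, rfl⟩ := hπ q
    rw [← map_one π, ← hval, ← hval] at hq
    exact (QuotientGroup.eq_one_iff x).2 ((mem_kerSubgroup _ x).2 hq)
  have hsqQ : ¬ p ^ 2 ∣ Nat.card (K ⧸ N) := fun h =>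
    hsq ((h.trans (Subgroup.card_quotient_dvd_card N)).trans (Subgroup.card_subgroup_dvd_card K))
  have hgenK : Subgroup.closure {k : K | k ^ p = 1} = ⊤ := by
    rw [eq_top_iff]
    intro k _
    have h1 : K ≤ (Subgroup.closure {k : K | k ^ p = 1}).map K.subtype := by
      rw [hK, Subgroup.normalClosure, Subgroup.closure_le]
      intro z hz
      have hzK : z ∈ K := Subgroup.subset_closure hz
      refine ⟨⟨z, hzK⟩, Subgroup.subset_closure (Subtype.ext ?_), rfl⟩
      obtain ⟨x, hx, hxz⟩ := Group.mem_conjugatesOfSet_iff.1 hz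
      obtain ⟨c, rfl⟩ := isConj_iff.1 hxz
      show (c * x * c⁻¹) ^ p = 1
      have h2 := pow_card_eq_one' (x := (⟨x, hx⟩ : (P : Subgroup G)))
      rw [hPc] at h2
      rw [conj_pow, show x ^ p = 1 from congrArg Subtype.val h2, mul_one, mul_inv_cancel]
    obtain ⟨k', hk', e⟩ := h1 k.2
    exact Subtype.ext e ▸ hk'
  have hgenQ : Subgroup.closure {q : K ⧸ N | q ^ p = 1} = ⊤ := by
    rw [eq_top_iff, ← Subgroup.map_top_of_surjective π hπ, ← hgenK, MonoidHom.map_closure]
    refine Subgroup.closure_mono ?_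
    rintro _ ⟨k, hk, rfl⟩
    show π k ^ p = 1
    rw [← map_pow, hk, map_one]
  have hneQ : ∃ a b : K ⧸ N, a * b ≠ b * a := by
    refine ⟨π a, π b, fun e => hab ?_⟩
    rw [hval, hval]
    congr 1
    rw [map_mul, map_mul, map_mul, map_inv, map_inv, map_one, e]
    group
  refine (deg_bound_irr hsqQ hgenQ hneQ hφi hφf).trans ?_
  suffices h : deg φ ≤ deg χ by omega
  have h1 : deg φ = deg (ψ : K → ℂ) := by
    unfold deg
    rw [hval 1, map_one]
  have h2 : deg χ = ∑ ξ : IrrCharacter K, m ξ * deg (ξ : K → ℂ) := by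
    apply Nat.cast_injective (R := ℂ)
    rw [← IsCharacter.apply_one_eq_deg hχ, show χ 1 = (fun x : K => χ x) 1 from rfl, hm]
    simp only [Finset.sum_apply, nsmul_eq_mul]
    push_cast
    simp only [Pi.mul_apply, Pi.natCast_apply, irr_apply_one_eq_deg]
  rw [h1, h2]
  exact (Nat.le_mul_of_pos_left _ (Nat.pos_of_ne_zero hψ0)).trans
    (Finset.single_le_sum (f := fun ξ : IrrCharacter K => m ξ * deg (ξ : K → ℂ))
      (fun ξ _ => Nat.zero_le _) (Finset.mem_univ ψ))

end Cfsg.Lib.Blocks
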