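import Mathlib
import Cfsg.Agent.Blocks.CoveringDefect

/-!
# The principal block of a central product
-/

set_option autoImplicit false
set_option linter.unusedSectionVars false

namespace Cfsg.Lib.Blocks

open Cfsg.Lib.Chars
open scoped ComplexConjugate

universe u

variable {G : Type u} [Group G] [Fintype G] {M : Ideal AlgInt} {p : ℕ}

/-- Central characters at the `p`-regular elements determine the block. -/
theorem sameBlock_of_regular [Fact p.Prime] (hM : IsPModular p M) {χ ψ : IrrCharacter G}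
    (h : ∀ g : G, ¬ p ∣ orderOf g →
      res M (centralChar (χ : G → ℂ) g) = res M (centralChar (ψ : G → ℂ) g)) :
    χ ∈ blockOf M (ψ : G → ℂ) := by
  classical
  haveI := charP_res hM
  letI : Fintype (ConjClasses G) := Fintype.ofFinite _
  set B := blockOf M (ψ : G → ℂ) with hBdef
  have hB : IsPBlock M B := isPBlock_blockOf ψ
  by_contra hn
  have h1 : res M (omega (χ : G → ℂ) (blockElem B)) = res M (omega (ψ : G → ℂ) (blockElem B)) := by
    rw [omega_eq_sum_classes _ (isClassFunction_irr χ) (isCentralFn_blockElem B),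
      omega_eq_sum_classes _ (isClassFunction_irr ψ) (isCentralFn_blockElem B),
      res_sum _ _ fun C _ => mul_mem (integral_blockElem hM hB _) (centralChar_mem_place hM χ _),
      res_sum _ _ fun C _ => mul_mem (integral_blockElem hM hB _) (centralChar_mem_place hM ψ _)]
    refine Finset.sum_congr rfl fun C _ => ?_
    rw [res_mul (integral_blockElem hM hB _) (centralChar_mem_place hM χ _),
      res_mul (integral_blockElem hM hB _) (centralChar_mem_place hM ψ _)]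
    by_cases hs : p ∣ orderOf (crep C)
    · rw [fn_blockElem, blockCoeff_eq_zero_of_singular hM hB hs, res_zero, zero_mul, zero_mul]
    · rw [h _ hs]
  rw [omega_blockElem, omega_blockElem, if_neg hn, if_pos (mem_blockOf_self hM ψ), res_zero,
    res_one] at h1
  exact zero_ne_one h1

section Factor

variable (U₁ U₂ : Subgroup G) (hcomm : ∀ u ∈ U₁, ∀ v ∈ U₂, u * v = v * u) (hgen : U₁ ⊔ U₂ = ⊤)
include hcomm hgen

lemma normal_factor : U₁.Normal := by
  rw [← Subgroup.normalizer_eq_top_iff, eq_top_iff, ← hgen]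
  refine sup_le Subgroup.le_normalizer fun v hv => Subgroup.mem_normalizer_iff.2 fun u => ?_
  constructor
  · intro hu
    rwa [← hcomm u hu v hv, mul_inv_cancel_right]
  · intro hu
    have e := hcomm _ hu v hv
    rw [show v * u * v⁻¹ * v = v * u by group] at e
    have e2 : u = v * u * v⁻¹ := mul_left_cancel e
    rwa [e2]

lemma exists_factor (g : G) : ∃ a ∈ U₁, ∃ b ∈ U₂, a * b = g := by
  haveI := normal_factor U₁ U₂ hcomm hgen
  exact Subgroup.mem_sup_of_normal_left.1 (hgen.symm ▸ Subgroup.mem_top g)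

lemma isConj_factor_iff {u : G} (hu : u ∈ U₁) (x : G) :
    IsConj u x ↔ ∃ a ∈ U₁, a * u * a⁻¹ = x := by
  refine ⟨fun h => ?_, fun ⟨a, _, ha⟩ => isConj_iff.2 ⟨a, ha⟩⟩
  obtain ⟨g, hg⟩ := isConj_iff.1 h
  obtain ⟨a, ha, b, hb, rfl⟩ := exists_factor U₁ U₂ hcomm hgen g
  refine ⟨a, ha, ?_⟩
  rw [← hg, mul_inv_rev, show a * b * u * (b⁻¹ * a⁻¹) = a * (b * u * b⁻¹) * a⁻¹ by group,
    ← hcomm u hu b hb, mul_inv_cancel_right]

/-- A factor's central character at its own elements. -/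
lemma centralChar_factor [Fintype U₁] (χ : IrrCharacter G) (ψ : IrrCharacter U₁)
    (h : classInner (fun u : U₁ => (χ : G → ℂ) u) (ψ : U₁ → ℂ) ≠ 0) (u : U₁) :
    centralChar (χ : G → ℂ) (u : G) = centralChar (ψ : U₁ → ℂ) u := by
  classical
  haveI := normal_factor U₁ U₂ hcomm hgen
  rw [← omega_cls_irr, ← omega_cls_irr,
    omega_eq_of_constituent U₁ (isCentralFn_cls _) (suppOn_cls u.2) χ ψ h]
  congr 1
  refine fn_ext fun x => ?_
  rw [fn_resElem, fn_cls, fn_cls]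
  refine if_congr ?_ rfl rfl
  rw [isConj_factor_iff U₁ U₂ hcomm hgen u.2, isConj_iff]
  exact ⟨fun ⟨a, ha, h⟩ => ⟨⟨a, ha⟩, Subtype.ext h⟩, fun ⟨a, h⟩ => ⟨a, a.2, congrArg Subtype.val h⟩⟩

/-- Central characters multiply over `p`-regular parts. -/
lemma centralChar_mul_factor [Fact p.Prime] (hZ : IsPGroup p ↥(U₁ ⊓ U₂)) (χ : IrrCharacter G)
    {u₁ u₂ : G} (h₁ : u₁ ∈ U₁) (h₂ : u₂ ∈ U₂) (hr : ¬ p ∣ orderOf u₁) :
    centralChar (χ : G → ℂ) (u₁ * u₂) =
      centralChar (χ : G → ℂ) u₁ * centralChar (χ : G → ℂ) u₂ := by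
  classical
  haveI := normal_factor U₁ U₂ hcomm hgen
  haveI := normal_factor U₂ U₁ (fun u hu v hv => (hcomm v hv u hu).symm) (by rw [sup_comm, hgen])
  rw [← omega_cls_irr, ← omega_cls_irr, ← omega_cls_irr, ← omega_mul χ (isCentralFn_cls _)]
  congr 1
  refine fn_ext fun y => ?_
  rw [fn_cls, fn_mul]
  have hmem₁ : ∀ t, IsConj u₁ t → t ∈ U₁ := fun t ht => by
    obtain ⟨g, hg⟩ := isConj_iff.1 ht
    exact hg ▸ Subgroup.Normal.conj_mem ‹U₁.Normal› _ h₁ g
  have hmem₂ : ∀ t, IsConj u₂ t → t ∈ U₂ := fun t ht => by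
    obtain ⟨g, hg⟩ := isConj_iff.1 ht
    exact hg ▸ Subgroup.Normal.conj_mem ‹U₂.Normal› _ h₂ g
  have hord : ∀ t, IsConj u₁ t → orderOf t = orderOf u₁ := fun t ht => by
    obtain ⟨g, hg⟩ := isConj_iff.1 ht
    rw [← hg, show g * u₁ * g⁻¹ = MulAut.conj g u₁ from rfl, (MulAut.conj g).orderOf_eq]
  have huniq : ∀ t t', IsConj u₁ t → IsConj u₁ t' → IsConj u₂ (t⁻¹ * y) → IsConj u₂ (t'⁻¹ * y) →
      t = t' := by
    intro t t' ht ht' hty ht'y
    set z := t'⁻¹ * t with hz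
    have hz1 : z ∈ U₁ := U₁.mul_mem (U₁.inv_mem (hmem₁ _ ht')) (hmem₁ _ ht)
    have hz2 : z ∈ U₂ := by
      have : z = (t'⁻¹ * y) * (t⁻¹ * y)⁻¹ := by rw [hz]; group
      rw [this]; exact U₂.mul_mem (hmem₂ _ ht'y) (U₂.inv_mem (hmem₂ _ hty))
    obtain ⟨i, hi⟩ := hZ ⟨z, hz1, hz2⟩
    have hzp : z ^ p ^ i = 1 := congrArg Subtype.val hi
    have hc : Commute t' z := hcomm _ (hmem₁ _ ht') _ hz2
    have htz : t' * z = t := by rw [hz, mul_inv_cancel_left]
    have hzm : z ^ orderOf u₁ = 1 := by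
      have e : (t' * z) ^ orderOf u₁ = 1 := by rw [htz, ← hord t ht, pow_orderOf_eq_one]
      rw [hc.mul_pow, ← hord t' ht', pow_orderOf_eq_one, one_mul] at e
      rwa [hord t' ht'] at e
    have hz0 : z = 1 := by
      have := pow_gcd_eq_one.mpr ⟨hzm, hzp⟩
      rwa [(((Fact.out : p.Prime).coprime_iff_not_dvd.2 hr).symm.pow_right i).gcd_eq_one, pow_one] at this
    rw [← htz, hz0, mul_one]
  simp only [fn_cls]
  by_cases hy : IsConj (u₁ * u₂) y
  · rw [if_pos hy]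
    obtain ⟨g, hg⟩ := isConj_iff.1 hy
    rw [Finset.sum_eq_single (g * u₁ * g⁻¹)]
    · rw [if_pos (isConj_iff.2 ⟨g, rfl⟩), if_pos (isConj_iff.2 ⟨g, by rw [← hg]; group⟩), one_mul]
    · intro t _ hne
      by_cases h1 : IsConj u₁ t
      · by_cases h2 : IsConj u₂ (t⁻¹ * y)
        · exact absurd (huniq _ _ h1 (isConj_iff.2 ⟨g, rfl⟩) h2
            (isConj_iff.2 ⟨g, by rw [← hg]; group⟩)) hne
        · rw [if_neg h2, mul_zero]
      · rw [if_neg h1, zero_mul]
    · exact fun h => absurd (Finset.mem_univ _) h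
  · rw [if_neg hy, Finset.sum_eq_zero]
    intro t _
    by_cases h1 : IsConj u₁ t
    · by_cases h2 : IsConj u₂ (t⁻¹ * y)
      · exfalso
        refine hy ?_
        obtain ⟨a, ha, hat⟩ := (isConj_factor_iff U₁ U₂ hcomm hgen h₁ t).1 h1
        obtain ⟨b, hb, hbt⟩ := (isConj_factor_iff U₂ U₁ (fun u hu v hv => (hcomm v hv u hu).symm)
          (by rw [sup_comm, hgen]) h₂ (t⁻¹ * y)).1 h2
        refine isConj_iff.2 ⟨a * b, ?_⟩
        have e1 : b * u₁ = u₁ * b := (hcomm u₁ h₁ b hb).symm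
        have e2 : a * (b * u₂ * b⁻¹) = (b * u₂ * b⁻¹) * a :=
          hcomm a ha _ (U₂.mul_mem (U₂.mul_mem hb h₂) (U₂.inv_mem hb))
        calc a * b * (u₁ * u₂) * (a * b)⁻¹ = a * (b * u₁) * u₂ * b⁻¹ * a⁻¹ := by group
          _ = a * (u₁ * b) * u₂ * b⁻¹ * a⁻¹ := by rw [e1]
          _ = a * u₁ * a⁻¹ * (a * (b * u₂ * b⁻¹)) * a⁻¹ := by group
          _ = a * u₁ * a⁻¹ * ((b * u₂ * b⁻¹) * a) * a⁻¹ := by rw [e2]
          _ = (a * u₁ * a⁻¹) * (b * u₂ * b⁻¹) := by group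
          _ = y := by rw [hat, hbt, mul_inv_cancel_left]
      · rw [if_neg h2, mul_zero]
    · rw [if_neg h1, zero_mul]

end Factor

end Cfsg.Lib.Blocks
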