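import Cfsg.Agent.Blocks.Normal
import Cfsg.Agent.Blocks.Defect2
import Cfsg.Agent.Blocks.LocalDefect
import Cfsg.Agent.Blocks.CanonicalCharacter
import Cfsg.Agent.Blocks.Roots
import Cfsg.Agent.Blocks.CentralDefect

/-!
# Groups with constrained local subgroups and one character of defect zero

If for every nontrivial `p`-subgroup `D` some normal `p`-subgroup of `C(D)` is centralised only by central
`p`-regular elements, then every block of positive defect has full defect and these blocks correspond to the
linear characters of the centre.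
-/

set_option autoImplicit false
set_option linter.unusedSectionVars false

namespace Cfsg.Lib.Blocks

open Cfsg.Lib.Chars
open scoped ComplexConjugate

universe u

variable {G : Type u} [Group G] [Fintype G] {M : Ideal AlgInt} {p : ℕ}

/-- The hypothesis on the centralisers of the nontrivial `p`-subgroups. -/
def LocallyConstrained (p : ℕ) (G : Type u) [Group G] : Prop :=
  ∀ D : Subgroup G, IsPGroup p D → D ≠ ⊥ → ∃ Q : Subgroup G, IsPGroup p Q ∧
    Q ≤ Subgroup.centralizer (D : Set G) ∧
    (∀ t ∈ Subgroup.centralizer (D : Set G), ∀ y ∈ Q, t * y * t⁻¹ ∈ Q) ∧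
    ∀ x ∈ Subgroup.centralizer (D : Set G), ¬ p ∣ orderOf x → x ∈ Subgroup.centralizer (Q : Set G) →
      x ∈ Subgroup.center G

/-- The idempotents only meet the centraliser of a `p`-subgroup in the centre. -/
theorem mem_center_of_blockCoeff (hM : IsPModular p M) (hc : LocallyConstrained p G)
    {B : Set (IrrCharacter G)} (hB : IsPBlock M B) {D : Subgroup G} (hD : IsPGroup p D) (hD1 : D ≠ ⊥)
    {g : G} (hg : g ∈ Subgroup.centralizer (D : Set G)) (hgB : ¬ Small M (blockCoeff B g)) :
    g ∈ Subgroup.center G := by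
  haveI := Fact.mk hM.1
  haveI := charP_res hM
  obtain ⟨Q, hQ, hQT, hn, hx⟩ := hc D hD hD1
  refine hx g hg (not_dvd_orderOf_of_not_small hM hB hgB) ?_
  have hei := integral_blockElem hM hB
  set e := br D (red M (blockElem B))
  have hinv : InvOn (⊤ : Subgroup G) (red M (blockElem B)) := invOn_top_iff.2 (isCentralFn_blockElem B).red
  have hi : InvOn (Subgroup.centralizer (D : Set G)) e := invOn_br (hinv.mono le_top) fun k hk y hy => by
    rwa [← (Subgroup.mem_centralizer_iff.1 hk y hy), mul_inv_cancel_right]
  have hee : e * e = e := by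
    rw [← br_mul hD (hinv.mono le_top) (hinv.mono le_top), ← red_mul hei hei, blockElem_mul_self]
  by_contra hgQ
  have h := suppOn_centralizer_of_idem hQ hQT hn (suppOn_br D _) hi hee g hgQ
  rw [br, fn_trunc_mem _ hg, fn_red, res_eq_zero_iff (hei g), fn_blockElem] at h
  exact hgB h

variable (hM : IsPModular p M) (hc : LocallyConstrained p G)
include hM hc

/-- **Full defect.** -/
theorem card_defectGroup_of_constrained {B : Set (IrrCharacter G)} (hB : IsPBlock M B)
    (h0 : blockDefect p B ≠ 0) :
    blockDefect p B = (Nat.card G).factorization p ∧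
      ∀ P : Sylow p G, IsDefectGroup p M B (P : Subgroup G) := by
  haveI := Fact.mk hM.1
  obtain ⟨D, hD⟩ := exists_defectGroup hM hB
  have hD' := IsDefectGroup.card hM hB hD
  obtain ⟨g, hg, S, rfl⟩ := id hD
  have hne : (S : Subgroup (Subgroup.centralizer ({g} : Set G))).map
      (Subgroup.centralizer ({g} : Set G)).subtype ≠ ⊥ := fun h => by
    rw [h, Subgroup.card_bot] at hD'
    exact (Nat.one_lt_pow h0 hM.1.one_lt).ne hD'
  have hgZ := mem_center_of_blockCoeff hM hc hB (IsDefectGroup.isPGroup hD) hne
    (mem_centralizer_centSyl S) ((isDefectClass_iff hM hB g).1 hg).1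
  have htop : Subgroup.centralizer ({g} : Set G) = ⊤ := eq_top_iff.2 fun x _ =>
    Subgroup.mem_centralizer_singleton_iff.2 (Subgroup.mem_center_iff.1 hgZ x)
  refine ⟨by rw [blockDefect_eq hM hB hg, htop, Subgroup.card_top], fun P => ?_⟩
  refine ⟨g, hg, P.subtype (by rw [htop]; exact le_top), ?_⟩
  rw [Sylow.coe_subtype, Subgroup.subgroupOf_map_subtype, htop, inf_top_eq]

/-- Central characters of positive blocks only see the centre on the idempotents. -/
theorem mem_center_of_centralChar {B B' : Set (IrrCharacter G)} (hB : IsPBlock M B)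
    (hB' : IsPBlock M B') (h0 : blockDefect p B' ≠ 0) {ψ : IrrCharacter G} (hψ : ψ ∈ B') {h : G}
    (hh : ¬ Small M (centralChar (ψ : G → ℂ) h)) (hb : ¬ Small M (blockCoeff B h)) :
    h ∈ Subgroup.center G := by
  haveI := Fact.mk hM.1
  obtain ⟨D, hD⟩ := exists_defectGroup hM hB'
  have hD' := IsDefectGroup.card hM hB' hD
  have hne : D ≠ ⊥ := fun h => by
    rw [h, Subgroup.card_bot] at hD'
    exact (Nat.one_lt_pow h0 hM.1.one_lt).ne hD'
  obtain ⟨t, ht, htc⟩ := exists_conj_mem_centralizer_defectGroup hM hB' hD hψ hh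
  obtain ⟨a, rfl⟩ := isConj_iff.1 ht
  have h1 := mem_center_of_blockCoeff hM hc hB (IsDefectGroup.isPGroup hD) hne htc
    (by rwa [blockCoeff_conj])
  have h2 := (Subgroup.center G).inv_mem h1
  have := Subgroup.Normal.conj_mem (inferInstance : (Subgroup.center G).Normal) _ h1 a⁻¹
  simpa [mul_assoc] using this

omit hc in
theorem centralChar_center (χ : IrrCharacter G) {z : G} (hz : z ∈ Subgroup.center G) :
    centralChar (χ : G → ℂ) z = (χ : G → ℂ) z / (χ : G → ℂ) 1 := by
  rw [centralChar, show Subgroup.centralizer ({z} : Set G) = ⊤ from eq_top_iff.2 fun x _ =>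
    Subgroup.mem_centralizer_singleton_iff.2 (Subgroup.mem_center_iff.1 hz x), Subgroup.index_top,
    Nat.cast_one, one_mul]

/-- **Blocks of positive defect are determined by their central linear character.** -/
theorem block_eq_of_center {B B' : Set (IrrCharacter G)} (hB : IsPBlock M B) (hB' : IsPBlock M B')
    (h0 : blockDefect p B ≠ 0) (h0' : blockDefect p B' ≠ 0) {χ ψ : IrrCharacter G} (hχ : χ ∈ B)
    (hψ : ψ ∈ B') (heq : ∀ z ∈ Subgroup.center G,
      (χ : G → ℂ) z / (χ : G → ℂ) 1 = (ψ : G → ℂ) z / (ψ : G → ℂ) 1) : B = B' := by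
  classical
  have hei := integral_blockElem hM hB
  have he := isCentralFn_blockElem B
  suffices h : res M (omega (χ : G → ℂ) (blockElem B)) = res M (omega (ψ : G → ℂ) (blockElem B)) by
    refine IsPBlock.eq_of_mem_inter hM hB hB' ?_ hψ
    by_contra hψB
    rw [omega_blockElem, omega_blockElem, if_pos hχ, if_neg hψB,
      res_eq_iff (one_mem _) (zero_mem _), sub_zero] at h
    exact not_small_one h
  rw [omega_eq_sum_classes _ (isClassFunction_irr χ) he, omega_eq_sum_classes _ (isClassFunction_irr ψ) he,
    res_sum _ _ fun C _ => mul_mem (hei _) (centralChar_mem_place hM χ _),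
    res_sum _ _ fun C _ => mul_mem (hei _) (centralChar_mem_place hM ψ _)]
  refine Finset.sum_congr rfl fun C _ => ?_
  rw [res_mul (hei _) (centralChar_mem_place hM χ _), res_mul (hei _) (centralChar_mem_place hM ψ _)]
  by_cases hb : Small M (fn (blockElem B) (crep C))
  · rw [(res_eq_zero_iff (hei _)).2 hb, zero_mul, zero_mul]
  congr 1
  rw [fn_blockElem] at hb
  by_cases hz : crep C ∈ Subgroup.center G
  · rw [centralChar_center hM χ hz, centralChar_center hM ψ hz, heq _ hz]
  · have h1 : Small M (centralChar (χ : G → ℂ) (crep C)) := by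
      by_contra h
      exact hz (mem_center_of_centralChar hM hc hB hB h0 hχ h hb)
    have h2 : Small M (centralChar (ψ : G → ℂ) (crep C)) := by
      by_contra h
      exact hz (mem_center_of_centralChar hM hc hB hB' h0' hψ h hb)
    rw [(res_eq_zero_iff (centralChar_mem_place hM χ _)).2 h1,
      (res_eq_zero_iff (centralChar_mem_place hM ψ _)).2 h2]

omit hc

/-- The linear character by which the centre acts. -/
noncomputable def centralLin (χ : IrrCharacter G) : Subgroup.center G →* ℂˣ :=
  MonoidHom.toHomUnits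
    { toFun := fun z => (χ : G → ℂ) z / (χ : G → ℂ) 1
      map_one' := div_self (IsIrrCharacter.apply_one_ne_zero χ.2)
      map_mul' := fun a b => by
        rw [Subgroup.coe_mul, apply_mul_central χ a.2, mul_div_assoc] }

omit hM in
theorem centralLin_apply (χ : IrrCharacter G) (z : Subgroup.center G) :
    (centralLin χ z : ℂ) = (χ : G → ℂ) z / (χ : G → ℂ) 1 := rfl

/-- The central linear character is constant on blocks. -/
theorem centralLin_eq_of_sameBlock (hZ : ¬ p ∣ Nat.card (Subgroup.center G)) {χ ψ : IrrCharacter G}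
    (h : SameBlock M (χ : G → ℂ) ψ) : centralLin χ = centralLin ψ := by
  refine MonoidHom.ext fun z => Units.ext ?_
  have hpow : ∀ φ : IrrCharacter G, (centralLin φ z : ℂ) ^ Nat.card (Subgroup.center G) = 1 := fun φ => by
    rw [← Units.val_pow_eq_pow_val, ← map_pow, pow_card_eq_one', map_one, Units.val_one]
  have hu := isUnitAt_of_pow_eq_one hM (Nat.card_pos.ne') (hpow ψ)
  have hs : Small M ((centralLin χ z : ℂ) / centralLin ψ z - 1) := by
    have h1 := (sameBlock_iff_res hM χ ψ).1 h (z : G)
    rw [res_eq_iff (centralChar_mem_place hM χ _) (centralChar_mem_place hM ψ _),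
      centralChar_center hM χ z.2, centralChar_center hM ψ z.2, ← centralLin_apply, ← centralLin_apply] at h1
    rw [show (centralLin χ z : ℂ) / centralLin ψ z - 1 =
      ((centralLin χ z : ℂ) - centralLin ψ z) * (centralLin ψ z : ℂ)⁻¹ by
      field_simp [(centralLin ψ z).ne_zero]]
    exact h1.mul_mem hu.inv.mem_place
  have := eq_one_of_small_sub_one hM hZ (by rw [div_pow, hpow, hpow, div_one]) hs
  exact (div_eq_one_iff_eq (centralLin ψ z).ne_zero).1 this

/-- A character of defect zero is alone in its block. -/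
theorem blockOf_defect_zero {φ : IrrCharacter G}
    (hd : (deg (φ : G → ℂ)).factorization p = (Nat.card G).factorization p) :
    blockOf M (φ : G → ℂ) = {φ} ∧ blockDefect p (blockOf M (φ : G → ℂ)) = 0 := by
  classical
  have he : blockOf M (φ : G → ℂ) = {φ} := by
    refine Set.eq_singleton_iff_unique_mem.2 ⟨mem_blockOf_self hM φ, fun ψ hψ => ?_⟩
    by_contra hne
    set a : MonoidAlgebra ℂ G := ofFn fun q => conj ((φ : G → ℂ) q) with ha
    have hac : IsCentralFn a := isCentralFn_ofFn fun g x => by rw [isClassFunction_irr φ g x]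
    have hai : Integral M a := fun q => by
      rw [ha, fn_ofFn]
      exact isIntegral_mem_place hM ((IsCharacter.isIntegral (isCharacter_of_irr φ.2) q).map
        (starRingEnd ℂ).toIntAlgHom)
    have hom : ∀ η : IrrCharacter G, omega (η : G → ℂ) a =
        (Nat.card G : ℂ) * classInner (η : G → ℂ) (φ : G → ℂ) / (η : G → ℂ) 1 := by
      intro η
      rw [omega, classInner_def, ← mul_assoc,
        mul_inv_cancel₀ (Nat.cast_ne_zero.2 Nat.card_pos.ne'), one_mul]
      congr 1
      exact Finset.sum_congr rfl fun q _ => by rw [ha, fn_ofFn, mul_comm]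
    have h3 := res_omega_eq_of_sameBlock hM (show SameBlock M (φ : G → ℂ) ψ from hψ) hac hai
    have h2 : IsUnitAt M (omega (φ : G → ℂ) a) := by
      rw [hom, classInner_irr_self, mul_one, irr_apply_one_eq_deg]
      show (place M).valuation _ = 1
      rw [map_div₀, valuation_natCast_eq_of_factorization hM Nat.card_pos.ne' (deg_irr_pos φ).ne' hd.symm,
        div_self]
      exact (Valuation.ne_zero_iff _).2 (Nat.cast_ne_zero.2 (deg_irr_pos φ).ne')
    have h1 : omega (ψ : G → ℂ) a = 0 := by
      rw [hom, classInner_irr_ne hne, mul_zero, zero_div]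
    rw [h1, res_zero, res_eq_zero_iff (omega_mem_place hM φ hac hai)] at h3
    exact h2.not_small h3
  refine ⟨he, ?_⟩
  rw [he, blockDefect, Set.image_singleton, csInf_singleton, charDegree_eq_deg, hd, Nat.sub_self]

/-- Each linear character of the centre is carried with total squared degree `|G : Z|`. -/
theorem sum_deg_sq_centralLin (l : Subgroup.center G →* ℂˣ) [DecidableEq (Subgroup.center G →* ℂˣ)] :
    (Nat.card (Subgroup.center G) : ℂ) *
      ∑ χ ∈ Finset.univ.filter (fun χ : IrrCharacter G => centralLin χ = l), (χ : G → ℂ) 1 ^ 2 =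
      (Nat.card G : ℂ) := by
  classical
  have key : ∀ χ : IrrCharacter G, ∑ z : Subgroup.center G, ((centralLin χ * l⁻¹) z : ℂ) =
      if centralLin χ = l then (Nat.card (Subgroup.center G) : ℂ) else 0 := fun χ => by
    split_ifs with h
    · simp [h, Nat.card_eq_fintype_card]
    · refine sum_hom_units_eq_zero (((Units.coeHom ℂ)).comp (centralLin χ * l⁻¹)) fun h1 => h ?_
      refine mul_inv_eq_one.1 (MonoidHom.ext fun z => Units.ext ?_)
      exact DFunLike.congr_fun h1 z
  have hsum : ∑ χ : IrrCharacter G, (χ : G → ℂ) 1 ^ 2 *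
      ∑ z : Subgroup.center G, ((centralLin χ * l⁻¹) z : ℂ) = (Nat.card G : ℂ) := by
    simp only [Finset.mul_sum]
    rw [Finset.sum_comm, Finset.sum_eq_single (1 : Subgroup.center G)]
    · simp only [map_one, Units.val_one, mul_one]
      exact sum_deg_sq
    · intro z _ hz
      have h1 := sum_deg_mul (z : G)
      rw [if_neg (fun e : (z : G) = 1 => hz (Subtype.ext e))] at h1
      have : ∀ χ : IrrCharacter G, (χ : G → ℂ) 1 ^ 2 * ((centralLin χ * l⁻¹) z : ℂ) =
          ((l⁻¹) z : ℂ) * ((χ : G → ℂ) 1 * (χ : G → ℂ) z) := fun χ => by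
        rw [MonoidHom.mul_apply, Units.val_mul, centralLin_apply]
        field_simp [IsIrrCharacter.apply_one_ne_zero χ.2]
      rw [Finset.sum_congr rfl fun χ _ => this χ, ← Finset.mul_sum, h1, mul_zero]
    · exact fun h => absurd (Finset.mem_univ _) h
  rw [← hsum, Finset.mul_sum, Finset.sum_filter]
  refine Finset.sum_congr rfl fun χ _ => ?_
  rw [key χ]
  split_ifs <;> ring

section Classification

variable (hc : LocallyConstrained p G) (hZ : ¬ p ∣ Nat.card (Subgroup.center G)) {s₀ : IrrCharacter G}
  (hs : deg (s₀ : G → ℂ) = p ^ (Nat.card G).factorization p)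
  (huniq : ∀ χ : IrrCharacter G, p ^ (Nat.card G).factorization p ∣ deg (χ : G → ℂ) → χ = s₀)

include hs in
theorem factorization_deg_defect_zero :
    (deg (s₀ : G → ℂ)).factorization p = (Nat.card G).factorization p := by
  rw [hs, hM.1.factorization_pow, Finsupp.single_eq_same]

include huniq in
theorem defect_ne_zero {χ : IrrCharacter G} (hne : χ ≠ s₀) :
    blockDefect p (blockOf M (χ : G → ℂ)) ≠ 0 := by
  have hlt : (charDegree (χ : G → ℂ)).factorization p < (Nat.card G).factorization p := by
    by_contra hge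
    exact hne (huniq χ ((pow_dvd_pow p (not_lt.1 hge)).trans (Nat.ordProj_dvd _ p)))
  have := Nat.sInf_le (s := (fun ψ : IrrCharacter G => (charDegree (ψ : G → ℂ)).factorization p) ''
    blockOf M (χ : G → ℂ)) ⟨χ, mem_blockOf_self hM χ, rfl⟩
  simp only at this
  rw [blockDefect]
  omega

include hs huniq in
theorem blockOf_ne {χ : IrrCharacter G} (hne : χ ≠ s₀) : blockOf M (χ : G → ℂ) ≠ {s₀} := fun e =>
  hne (Set.mem_singleton_iff.1 (e ▸ mem_blockOf_self hM χ))

include hs huniq in
theorem exists_centralLin (ha : (Nat.card G).factorization p ≠ 0) (l : Subgroup.center G →* ℂˣ) :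
    ∃ χ : IrrCharacter G, χ ≠ s₀ ∧ centralLin χ = l := by
  classical
  by_contra hno
  push Not at hno
  have h := sum_deg_sq_centralLin hM l
  have hsub : Finset.univ.filter (fun χ : IrrCharacter G => centralLin χ = l) ⊆ {s₀} := fun χ hχ => by
    rw [Finset.mem_singleton]
    by_contra hne
    exact hno χ hne (Finset.mem_filter.1 hχ).2
  rcases Finset.subset_singleton_iff.1 hsub with e | e
  · rw [e, Finset.sum_empty, mul_zero] at h
    exact (Nat.cast_ne_zero.2 (Nat.card_pos (α := G)).ne') h.symm
  · rw [e, Finset.sum_singleton, irr_apply_one_eq_deg, hs] at h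
    have h' : Nat.card (Subgroup.center G) * (p ^ (Nat.card G).factorization p) ^ 2 = Nat.card G := by
      exact_mod_cast h
    have h2 : p ^ (2 * (Nat.card G).factorization p) ∣ Nat.card G :=
      ⟨Nat.card (Subgroup.center G), by rw [pow_mul', mul_comm]; exact h'.symm⟩
    have := (hM.1.pow_dvd_iff_le_factorization Nat.card_pos.ne').1 h2
    omega

include hc hZ huniq in
theorem blockOf_eq_iff {χ ψ : IrrCharacter G} (hχ : χ ≠ s₀) (hψ : ψ ≠ s₀) :
    blockOf M (χ : G → ℂ) = blockOf M (ψ : G → ℂ) ↔ centralLin χ = centralLin ψ := by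
  constructor
  · intro h
    exact centralLin_eq_of_sameBlock hM hZ (show ψ ∈ blockOf M (χ : G → ℂ) from h ▸ mem_blockOf_self hM ψ)
  · intro h
    refine block_eq_of_center hM hc (isPBlock_blockOf χ) (isPBlock_blockOf ψ) (defect_ne_zero hM huniq hχ)
      (defect_ne_zero hM huniq hψ) (mem_blockOf_self hM χ) (mem_blockOf_self hM ψ) fun z hz => ?_
    exact congrArg Units.val (DFunLike.congr_fun h ⟨z, hz⟩)

include hs huniq in
/-- One block of defect zero. -/
theorem card_defect_zero_blocks :
    Nat.card {B : Set (IrrCharacter G) // IsPBlock M B ∧ blockDefect p B = 0} = 1 := by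
  rw [Nat.card_eq_one_iff_unique]
  have h := blockOf_defect_zero hM (factorization_deg_defect_zero hM hs)
  refine ⟨⟨fun B B' => Subtype.ext ?_⟩, ⟨⟨_, isPBlock_blockOf s₀, h.2⟩⟩⟩
  have key : ∀ B : {B : Set (IrrCharacter G) // IsPBlock M B ∧ blockDefect p B = 0},
      B.1 = blockOf M (s₀ : G → ℂ) := by
    rintro ⟨B, ⟨χ, rfl⟩, h0⟩
    rcases eq_or_ne χ s₀ with rfl | hne
    · rfl
    · exact absurd h0 (defect_ne_zero hM huniq hne)
  rw [key B, key B']

include hc hZ hs huniq in
/-- The blocks: the character of defect zero, and one for each linear character of the centre. -/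
theorem card_blocks_eq (ha : (Nat.card G).factorization p ≠ 0) :
    Nat.card {B : Set (IrrCharacter G) // IsPBlock M B} = Nat.card (Subgroup.center G) + 1 := by
  classical
  have h0 := blockOf_defect_zero hM (factorization_deg_defect_zero hM hs)
  choose f hf hfl using exists_centralLin hM hs huniq ha
  let F : Option (Subgroup.center G →* ℂˣ) → {B : Set (IrrCharacter G) // IsPBlock M B} := fun o =>
    match o with
    | none => ⟨_, isPBlock_blockOf s₀⟩
    | some l => ⟨_, isPBlock_blockOf (f l)⟩
  have hF : Function.Bijective F := by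
    constructor
    · rintro (_ | l) (_ | l') e
      · rfl
      · exact absurd ((congrArg Subtype.val e).symm.trans h0.1) (blockOf_ne hM hs huniq (hf l'))
      · exact absurd ((congrArg Subtype.val e).trans h0.1) (blockOf_ne hM hs huniq (hf l))
      · rw [← hfl l, ← hfl l', (blockOf_eq_iff hM hc hZ huniq (hf l) (hf l')).1 (congrArg Subtype.val e)]
    · rintro ⟨B, χ, rfl⟩
      rcases eq_or_ne χ s₀ with rfl | hne
      · exact ⟨none, rfl⟩
      · exact ⟨some (centralLin χ), Subtype.ext
          ((blockOf_eq_iff hM hc hZ huniq (hf _) hne).2 (hfl _))⟩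
  rw [← Nat.card_eq_of_bijective F hF, Finite.card_option]
  congr 1
  letI : CommGroup (Subgroup.center G) :=
    { (inferInstance : Group (Subgroup.center G)) with
      mul_comm := fun a b => Subtype.ext (Subgroup.mem_center_iff.1 b.2 a) }
  exact CommGroup.card_monoidHom_of_hasEnoughRootsOfUnity _ ℂ

end Classification

end Cfsg.Lib.Blocks
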