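import Mathlib

/-!
# Pairings on chains of `p`-subgroups fixed by a `p`-element
-/

set_option autoImplicit false
set_option linter.unusedSectionVars false

namespace Cfsg.Lib.Blocks

variable {G : Type*} [Group G] [Fintype G] {p : ℕ}

/-- The stabiliser of a set of subgroups. -/
def chainStab (s : Finset (Subgroup G)) : Subgroup G :=
  ⨅ Q ∈ s, Subgroup.normalizer (Q : Set G)

lemma mem_chainStab {s : Finset (Subgroup G)} {g : G} :
    g ∈ chainStab s ↔ ∀ Q ∈ s, g ∈ Subgroup.normalizer (Q : Set G) := by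
  simp [chainStab, Subgroup.mem_iInf]

/-- A chain of nontrivial `p`-subgroups normalised by `x`. -/
def IsFixedChain (p : ℕ) (x : G) (s : Finset (Subgroup G)) : Prop :=
  (∀ Q ∈ s, ∀ R ∈ s, Q ≤ R ∨ R ≤ Q) ∧ (∀ Q ∈ s, Q ≠ ⊥ ∧ IsPGroup p Q) ∧ x ∈ chainStab s

/-- A member of a chain is normalised from below. -/
def IsGoodMember (s : Finset (Subgroup G)) (Q : Subgroup G) : Prop :=
  ∀ P ∈ s, P ≤ Q → Q ≤ Subgroup.normalizer (P : Set G)

/-- A chain all of whose members are normal in the larger ones. -/
def IsNormalChain (s : Finset (Subgroup G)) : Prop := ∀ Q ∈ s, IsGoodMember s Q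

/-- The first member of a chain that fails to normalise the smaller ones. -/
def IsFirstBad (s : Finset (Subgroup G)) (U : Subgroup G) : Prop :=
  U ∈ s ∧ ¬ IsGoodMember s U ∧ ∀ P ∈ s, P < U → IsGoodMember s P

lemma IsFirstBad.unique {x : G} {s : Finset (Subgroup G)} (hs : IsFixedChain p x s) {U U' : Subgroup G}
    (h : IsFirstBad s U) (h' : IsFirstBad s U') : U = U' := by
  rcases hs.1 U h.1 U' h'.1 with hle | hle
  · exact hle.eq_or_lt.resolve_right fun hlt => h.2.1 (h'.2.2 U h.1 hlt)
  · exact (hle.eq_or_lt.resolve_right fun hlt => h'.2.1 (h.2.2 U' h'.1 hlt)).symm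

lemma exists_firstBad {s : Finset (Subgroup G)} (h : ¬ IsNormalChain s) :
    ∃ U, IsFirstBad s U := by
  classical
  simp only [IsNormalChain, not_forall] at h
  obtain ⟨Q, hQ, hbad⟩ := h
  obtain ⟨U, hUle, hU⟩ := (s.filter fun P => ¬ IsGoodMember s P).exists_le_minimal
    (a := Q) (Finset.mem_filter.2 ⟨hQ, hbad⟩)
  obtain ⟨hUs, hUb⟩ := Finset.mem_filter.1 hU.prop
  exact ⟨U, hUs, hUb, fun P hP hlt => by_contra fun hPb =>
    hlt.not_ge (hU.le_of_le (Finset.mem_filter.2 ⟨hP, hPb⟩) hlt.le)⟩

/-- Normalizer growth inside a `p`-group. -/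
lemma lt_inf_normalizer_pivot [Fact p.Prime] {T U : Subgroup G} (hU : IsPGroup p U) (hlt : T < U) :
    T < U ⊓ Subgroup.normalizer (T : Set G) := by
  refine lt_of_le_of_ne (le_inf hlt.le Subgroup.le_normalizer) fun heq => ?_
  haveI : Group.IsNilpotent U := hU.isNilpotent
  have hne : T.subgroupOf U ≠ ⊤ := fun h => hlt.not_ge (Subgroup.subgroupOf_eq_top.1 h)
  have h1 : T.subgroupOf U < Subgroup.normalizer (T.subgroupOf U : Set U) :=
    Group.normalizerCondition_of_isNilpotent (G := U) (T.subgroupOf U) (Ne.lt_top hne)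
  obtain ⟨⟨g, hgU⟩, hg, hgT⟩ := SetLike.exists_of_lt h1
  refine hgT ?_
  rw [Subgroup.mem_subgroupOf]
  show g ∈ T
  rw [heq]
  refine ⟨hgU, Subgroup.mem_normalizer_iff.2 fun h => ?_⟩
  constructor
  · intro hh
    exact (Subgroup.mem_normalizer_iff.1 hg ⟨h, hlt.le hh⟩).1 hh
  · intro hh
    have hU' : h ∈ U := by
      have := U.mul_mem (U.mul_mem (U.inv_mem hgU) (hlt.le hh)) hgU
      simpa [mul_assoc] using this
    exact (Subgroup.mem_normalizer_iff.1 hg ⟨h, hU'⟩).2 hh

/-- The subgroup toggled by the pairing on chains that are not normal. -/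
noncomputable def badPivot (s : Finset (Subgroup G)) (U : Subgroup G) : Subgroup G := by
  classical
  exact U ⊓ chainStab (s.filter fun P => P < U)

lemma mem_badPivot {s : Finset (Subgroup G)} {U : Subgroup G} {g : G} :
    g ∈ badPivot s U ↔ g ∈ U ∧ ∀ P ∈ s, P < U → g ∈ Subgroup.normalizer (P : Set G) := by
  classical
  rw [badPivot, Subgroup.mem_inf, mem_chainStab]
  simp

lemma le_badPivot {s : Finset (Subgroup G)} {U P : Subgroup G} {x : G} (hs : IsFixedChain p x s)
    (hU : IsFirstBad s U) (hP : P ∈ s) (hlt : P < U) : P ≤ badPivot s U := by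
  intro g hg
  refine mem_badPivot.2 ⟨hlt.le hg, fun R hR hRlt => ?_⟩
  rcases hs.1 R hR P hP with h | h
  · exact hU.2.2 P hP hlt R hR h hg
  · exact Subgroup.le_normalizer (h hg)

lemma badPivot_lt {s : Finset (Subgroup G)} {U : Subgroup G} (hU : IsFirstBad s U) :
    badPivot s U < U := by
  refine lt_of_le_of_ne (fun g hg => (mem_badPivot.1 hg).1) fun heq => hU.2.1 fun P hP hle => ?_
  rcases hle.eq_or_lt with rfl | hlt
  · exact Subgroup.le_normalizer
  · intro g hg
    exact (mem_badPivot.1 (heq.symm ▸ hg)).2 P hP hlt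

lemma exists_lt_of_firstBad {s : Finset (Subgroup G)} {U : Subgroup G} (hU : IsFirstBad s U) :
    ∃ P ∈ s, P < U := by
  by_contra h
  push Not at h
  refine hU.2.1 fun P hP hle => ?_
  rcases hle.eq_or_lt with rfl | hlt
  · exact Subgroup.le_normalizer
  · exact absurd hlt (h P hP)

lemma mem_normalizer_badPivot {s : Finset (Subgroup G)} {U : Subgroup G} {g : G} (hU : U ∈ s)
    (hg : g ∈ chainStab s) : g ∈ Subgroup.normalizer (badPivot s U : Set G) := by
  have hN := mem_chainStab.1 hg
  refine Subgroup.mem_normalizer_iff.2 fun h => ?_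
  simp only [mem_badPivot]
  refine and_congr (Subgroup.mem_normalizer_iff.1 (hN U hU) h) (forall_congr' fun P =>
    imp_congr_right fun hP => imp_congr_right fun _ => ?_)
  constructor
  · intro hh; exact mul_mem (mul_mem (hN P hP) hh) (inv_mem (hN P hP))
  · intro hh
    have := mul_mem (mul_mem (inv_mem (hN P hP)) hh) (hN P hP)
    simpa [mul_assoc] using this

variable {x : G}

/-- Inserting the pivot. -/
lemma firstBad_insert [DecidableEq (Subgroup G)] {s : Finset (Subgroup G)} {U : Subgroup G}
    (hs : IsFixedChain p x s) (hU : IsFirstBad s U) (hI : badPivot s U ∉ s) :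
    IsFixedChain p x (insert (badPivot s U) s) ∧ IsFirstBad (insert (badPivot s U) s) U ∧
      badPivot (insert (badPivot s U) s) U = badPivot s U := by
  set I := badPivot s U with hIdef
  have hIU := badPivot_lt hU
  obtain ⟨P₀, hP₀, hP₀U⟩ := exists_lt_of_firstBad hU
  have hcmp : ∀ R ∈ s, I ≤ R ∨ R ≤ I := fun R hR => by
    rcases hs.1 U hU.1 R hR with h | h
    · exact Or.inl (hIU.le.trans h)
    · rcases h.eq_or_lt with rfl | hlt
      · exact Or.inl hIU.le
      · exact Or.inr (le_badPivot hs hU hR hlt)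
  have hchain : IsFixedChain p x (insert I s) := by
    refine ⟨fun Q hQ R hR => ?_, fun Q hQ => ?_, mem_chainStab.2 fun Q hQ => ?_⟩
    · rcases Finset.mem_insert.1 hQ with rfl | hQ <;> rcases Finset.mem_insert.1 hR with rfl | hR
      · exact Or.inl le_rfl
      · exact hcmp R hR
      · exact (hcmp Q hQ).symm
      · exact hs.1 Q hQ R hR
    · rcases Finset.mem_insert.1 hQ with rfl | hQ
      · exact ⟨ne_bot_of_le_ne_bot (hs.2.1 P₀ hP₀).1 (le_badPivot hs hU hP₀ hP₀U),
          (hs.2.1 U hU.1).2.to_le hIU.le⟩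
      · exact hs.2.1 Q hQ
    · rcases Finset.mem_insert.1 hQ with rfl | hQ
      · exact mem_normalizer_badPivot hU.1 hs.2.2
      · exact mem_chainStab.1 hs.2.2 Q hQ
  have hgoodI : IsGoodMember (insert I s) I := fun P hP hle g hg => by
    rcases Finset.mem_insert.1 hP with rfl | hP
    · exact Subgroup.le_normalizer hg
    · exact (mem_badPivot.1 hg).2 P hP (lt_of_le_of_lt hle hIU)
  refine ⟨hchain, ⟨Finset.mem_insert_of_mem hU.1, fun hgood => hU.2.1 fun P hP hle =>
      hgood P (Finset.mem_insert_of_mem hP) hle, fun P hP hlt => ?_⟩, ?_⟩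
  · rcases Finset.mem_insert.1 hP with rfl | hP
    · exact hgoodI
    · intro R hR hRP
      rcases Finset.mem_insert.1 hR with rfl | hR
      · exact absurd ((le_badPivot hs hU hP hlt).antisymm hRP)
          fun h => hI (by rw [hIdef, ← h]; exact hP)
      · exact hU.2.2 P hP hlt R hR hRP
  · ext g
    rw [mem_badPivot, hIdef, mem_badPivot]
    constructor
    · exact fun h => ⟨h.1, fun P hP hlt => h.2 P (Finset.mem_insert_of_mem hP) hlt⟩
    · intro h
      refine ⟨h.1, fun P hP hlt => ?_⟩
      rcases Finset.mem_insert.1 hP with rfl | hP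
      · exact Subgroup.le_normalizer (mem_badPivot.2 h)
      · exact h.2 P hP hlt

/-- Erasing the pivot. -/
lemma firstBad_erase [Fact p.Prime] [DecidableEq (Subgroup G)] {s : Finset (Subgroup G)}
    {U : Subgroup G} (hs : IsFixedChain p x s) (hU : IsFirstBad s U) (hI : badPivot s U ∈ s) :
    IsFixedChain p x (s.erase (badPivot s U)) ∧ IsFirstBad (s.erase (badPivot s U)) U ∧
      badPivot (s.erase (badPivot s U)) U = badPivot s U := by
  set I := badPivot s U with hIdef
  have hIU := badPivot_lt hU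
  have hUne : U ≠ I := hIU.ne'
  have hpiv : badPivot (s.erase I) U = I := by
    refine le_antisymm ?_ fun g hg => mem_badPivot.2
      ⟨(mem_badPivot.1 hg).1, fun P hP hlt => (mem_badPivot.1 hg).2 P (Finset.mem_of_mem_erase hP) hlt⟩
    set J := badPivot (s.erase I) U with hJ
    have hIJ : I ≤ J := fun g hg => mem_badPivot.2
      ⟨(mem_badPivot.1 hg).1, fun P hP hlt => (mem_badPivot.1 hg).2 P (Finset.mem_of_mem_erase hP) hlt⟩
    by_contra hne
    have hlt : I < J := lt_of_le_of_ne hIJ fun h => hne (le_of_eq h.symm)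
    have hJp : IsPGroup p J := (hs.2.1 U hU.1).2.to_le fun g hg => (mem_badPivot.1 hg).1
    refine (lt_inf_normalizer_pivot hJp hlt).not_ge fun g hg => ?_
    refine mem_badPivot.2 ⟨(mem_badPivot.1 hg.1).1, fun P hP hPU => ?_⟩
    by_cases h : P = I
    · rw [h]; exact hg.2
    · exact (mem_badPivot.1 hg.1).2 P (Finset.mem_erase.2 ⟨h, hP⟩) hPU
  refine ⟨⟨fun Q hQ R hR => hs.1 Q (Finset.mem_of_mem_erase hQ) R (Finset.mem_of_mem_erase hR),
      fun Q hQ => hs.2.1 Q (Finset.mem_of_mem_erase hQ),
      mem_chainStab.2 fun Q hQ => mem_chainStab.1 hs.2.2 Q (Finset.mem_of_mem_erase hQ)⟩,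
    ⟨Finset.mem_erase.2 ⟨hUne, hU.1⟩, fun hgood => hIU.ne ?_, fun P hP hlt R hR hle =>
      hU.2.2 P (Finset.mem_of_mem_erase hP) hlt R (Finset.mem_of_mem_erase hR) hle⟩, hpiv⟩
  refine le_antisymm hIU.le ?_
  exact fun g hg => hpiv.le (mem_badPivot.2 ⟨hg, fun P hP hlt => hgood P hP hlt.le hg⟩)

/-- Non-normal fixed chains cancel. -/
theorem sum_not_normal_eq_zero [Fact p.Prime] (x : G) (W : Subgroup G → ℤ)
    [DecidablePred fun s : Finset (Subgroup G) => IsFixedChain p x s ∧ ¬ IsNormalChain s] :
    ∑ s ∈ Finset.univ.filter (fun s : Finset (Subgroup G) => IsFixedChain p x s ∧ ¬ IsNormalChain s),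
      (-1 : ℤ) ^ s.card * W (Subgroup.centralizer ({x} : Set G) ⊓ chainStab s) = 0 := by
  classical
  set piv : Finset (Subgroup G) → Subgroup G := fun s =>
    if h : ¬ IsNormalChain s then badPivot s (exists_firstBad h).choose else ⊥ with hpiv
  have hpv : ∀ (s : Finset (Subgroup G)) (U : Subgroup G), IsFixedChain p x s → IsFirstBad s U →
      piv s = badPivot s U := fun s U hs hU => by
    have hn : ¬ IsNormalChain s := fun h => hU.2.1 (h U hU.1)
    simp only [hpiv, dif_pos hn]
    rw [IsFirstBad.unique hs (exists_firstBad hn).choose_spec hU]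
  refine Finset.sum_involution (fun s _ => if piv s ∈ s then s.erase (piv s) else insert (piv s) s)
    (fun s hs => ?_) (fun s hs _ heq => ?_) (fun s hs => ?_) (fun s hs => ?_)
  · obtain ⟨hc, hn⟩ := (Finset.mem_filter.1 hs).2
    obtain ⟨U, hU⟩ := exists_firstBad hn
    rw [hpv s U hc hU]
    by_cases hI : badPivot s U ∈ s
    · rw [if_pos hI]
      have hZ : chainStab (s.erase (badPivot s U)) = chainStab s := by
        refine le_antisymm (fun g hg => mem_chainStab.2 fun Q hQ => ?_) fun g hg =>
          mem_chainStab.2 fun Q hQ => mem_chainStab.1 hg Q (Finset.mem_of_mem_erase hQ)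
        by_cases h : Q = badPivot s U
        · rw [h]
          obtain ⟨-, hU', hp'⟩ := firstBad_erase hc hU hI
          rw [← hp']
          exact mem_normalizer_badPivot hU'.1 hg
        · exact mem_chainStab.1 hg Q (Finset.mem_erase.2 ⟨h, hQ⟩)
      rw [hZ, ← Finset.card_erase_add_one hI, pow_succ]
      ring
    · rw [if_neg hI]
      have hZ : chainStab (insert (badPivot s U) s) = chainStab s := by
        refine le_antisymm (fun g hg => mem_chainStab.2 fun Q hQ =>
          mem_chainStab.1 hg Q (Finset.mem_insert_of_mem hQ)) fun g hg => mem_chainStab.2 fun Q hQ => ?_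
        rcases Finset.mem_insert.1 hQ with rfl | hQ
        · exact mem_normalizer_badPivot hU.1 hg
        · exact mem_chainStab.1 hg Q hQ
      rw [hZ, Finset.card_insert_of_notMem hI, pow_succ]
      ring
  · beta_reduce at heq
    split_ifs at heq with hI
    · have h' := Finset.notMem_erase (piv s) s
      rw [heq] at h'
      exact h' hI
    · have h' := Finset.mem_insert_self (piv s) s
      rw [heq] at h'
      exact hI h'
  · obtain ⟨hc, hn⟩ := (Finset.mem_filter.1 hs).2
    obtain ⟨U, hU⟩ := exists_firstBad hn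
    rw [hpv s U hc hU]
    split_ifs with hI
    · obtain ⟨hc', hU', -⟩ := firstBad_erase hc hU hI
      exact Finset.mem_filter.2 ⟨Finset.mem_univ _, hc', fun h => hU'.2.1 (h U hU'.1)⟩
    · obtain ⟨hc', hU', -⟩ := firstBad_insert hc hU hI
      exact Finset.mem_filter.2 ⟨Finset.mem_univ _, hc', fun h => hU'.2.1 (h U hU'.1)⟩
  · obtain ⟨hc, hn⟩ := (Finset.mem_filter.1 hs).2
    obtain ⟨U, hU⟩ := exists_firstBad hn
    simp only [hpv s U hc hU]
    by_cases hI : badPivot s U ∈ s
    · obtain ⟨hc', hU', hp'⟩ := firstBad_erase hc hU hI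
      simp only [if_pos hI]
      rw [hpv _ U hc' hU', hp', if_neg (Finset.notMem_erase _ _), Finset.insert_erase hI]
    · obtain ⟨hc', hU', hp'⟩ := firstBad_insert hc hU hI
      simp only [if_neg hI]
      rw [hpv _ U hc' hU', hp', if_pos (Finset.mem_insert_self _ _), Finset.erase_insert hI]

/-- All fixed chains cancel. -/
theorem sum_fixed_eq_zero [Fact p.Prime] (x : G) (hx : ∃ k : ℕ, orderOf x = p ^ k) (hx1 : x ≠ 1)
    (W : Subgroup G → ℤ) [DecidablePred fun s : Finset (Subgroup G) => IsFixedChain p x s] :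
    ∑ s ∈ Finset.univ.filter (fun s : Finset (Subgroup G) => IsFixedChain p x s),
      (-1 : ℤ) ^ s.card * W (Subgroup.centralizer ({x} : Set G) ⊓ chainStab s) = 0 := by
  classical
  obtain ⟨k, hk⟩ := hx
  have hxp : IsPGroup p (Subgroup.zpowers x) :=
    IsPGroup.of_card (n := k) (by rw [Nat.card_zpowers, hk])
  set piv : Finset (Subgroup G) → Subgroup G := fun s =>
    (s.filter fun Q => x ∉ Q).sup id ⊔ Subgroup.zpowers x with hpiv
  have hxI : ∀ s, x ∈ piv s := fun s => Subgroup.mem_sup_right (Subgroup.mem_zpowers x)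
  have hbase : ∀ s, IsFixedChain p x s →
      (s.filter fun Q => x ∉ Q).sup id = ⊥ ∨ (s.filter fun Q => x ∉ Q).sup id ∈ s := fun s hs => by
    rcases (s.filter fun Q => x ∉ Q).eq_empty_or_nonempty with h | h
    · exact Or.inl (by rw [h, Finset.sup_empty])
    · right
      obtain ⟨T, hT, hmax⟩ := Finset.exists_maximal h
      have : (s.filter fun Q => x ∉ Q).sup id = T := by
        refine le_antisymm (Finset.sup_le fun Q hQ => ?_) (Finset.le_sup (f := id) hT)
        rcases hs.1 Q (Finset.mem_filter.1 hQ).1 T (Finset.mem_filter.1 hT).1 with h' | h'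
        · exact h'
        · exact hmax hQ h'
      rw [this]
      exact (Finset.mem_filter.1 hT).1
  have hnorm : ∀ s, IsFixedChain p x s →
      Subgroup.centralizer ({x} : Set G) ⊓ chainStab s ≤ Subgroup.normalizer (piv s : Set G) := by
    intro s hs g hg
    have hgc : g * x * g⁻¹ = x := by
      rw [Subgroup.mem_centralizer_singleton_iff.1 hg.1, mul_inv_cancel_right]
    refine Subgroup.mem_normalizer_iff_map_conj_eq.2 ?_
    simp only [hpiv, Subgroup.map_sup]
    congr 1
    · rcases hbase s hs with h | h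
      · rw [h, Subgroup.map_bot]
      · exact Subgroup.mem_normalizer_iff_map_conj_eq.1 (mem_chainStab.1 hg.2 _ h)
    · rw [MonoidHom.map_zpowers]
      congr 1
  have hins : ∀ s, IsFixedChain p x s → IsFixedChain p x (insert (piv s) s) := by
    intro s hs
    have hP : IsPGroup p ((s.filter fun Q => x ∉ Q).sup id : Subgroup G) := by
      rcases hbase s hs with h | h
      · rw [h]; exact IsPGroup.of_bot
      · exact (hs.2.1 _ h).2
    have hxN : Subgroup.zpowers x ≤
        Subgroup.normalizer (((s.filter fun Q => x ∉ Q).sup id : Subgroup G) : Set G) := by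
      rw [Subgroup.zpowers_le]
      rcases hbase s hs with h | h
      · rw [h]; exact Subgroup.mem_normalizer_iff.2 fun g => by simp
      · exact mem_chainStab.1 hs.2.2 _ h
    have hcmp : ∀ R ∈ s, piv s ≤ R ∨ R ≤ piv s := fun R hR => by
      by_cases hxR : x ∈ R
      · left
        refine sup_le (Finset.sup_le fun Q hQ => ?_) (Subgroup.zpowers_le.2 hxR)
        rcases hs.1 Q (Finset.mem_filter.1 hQ).1 R hR with h | h
        · exact h
        · exact absurd (h hxR) (Finset.mem_filter.1 hQ).2
      · exact Or.inr ((Finset.le_sup (f := id) (Finset.mem_filter.2 ⟨hR, hxR⟩)).trans le_sup_left)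
    refine ⟨fun Q hQ R hR => ?_, fun Q hQ => ?_, mem_chainStab.2 fun Q hQ => ?_⟩
    · rcases Finset.mem_insert.1 hQ with rfl | hQ <;> rcases Finset.mem_insert.1 hR with rfl | hR
      · exact Or.inl le_rfl
      · exact hcmp R hR
      · exact (hcmp Q hQ).symm
      · exact hs.1 Q hQ R hR
    · rcases Finset.mem_insert.1 hQ with rfl | hQ
      · exact ⟨fun h => hx1 (by simpa [h] using hxI s), hP.to_sup_of_normal_left' hxp hxN⟩
      · exact hs.2.1 Q hQ
    · rcases Finset.mem_insert.1 hQ with rfl | hQ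
      · exact Subgroup.le_normalizer (hxI s)
      · exact mem_chainStab.1 hs.2.2 Q hQ
  have hpiv_insert : ∀ s, piv (insert (piv s) s) = piv s := fun s => by
    show ((insert (piv s) s).filter fun Q => x ∉ Q).sup id ⊔ _ = _
    rw [Finset.filter_insert, if_neg (not_not.2 (hxI s))]
  have hpiv_erase : ∀ s, piv (s.erase (piv s)) = piv s := fun s => by
    show ((s.erase (piv s)).filter fun Q => x ∉ Q).sup id ⊔ _ = _
    rw [Finset.filter_erase, Finset.erase_eq_of_notMem
      (a := piv s) (s := s.filter fun Q => x ∉ Q) (fun h => (Finset.mem_filter.1 h).2 (hxI s))]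
  refine Finset.sum_involution (fun s _ => if piv s ∈ s then s.erase (piv s) else insert (piv s) s)
    (fun s hs => ?_) (fun s hs _ heq => ?_) (fun s hs => ?_) (fun s hs => ?_)
  · have hc := (Finset.mem_filter.1 hs).2
    by_cases hI : piv s ∈ s
    · rw [if_pos hI]
      have hc' : IsFixedChain p x (s.erase (piv s)) :=
        ⟨fun Q hQ R hR => hc.1 Q (Finset.mem_of_mem_erase hQ) R (Finset.mem_of_mem_erase hR),
          fun Q hQ => hc.2.1 Q (Finset.mem_of_mem_erase hQ),
          mem_chainStab.2 fun Q hQ => mem_chainStab.1 hc.2.2 Q (Finset.mem_of_mem_erase hQ)⟩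
      have hZ : Subgroup.centralizer ({x} : Set G) ⊓ chainStab (s.erase (piv s)) =
          Subgroup.centralizer ({x} : Set G) ⊓ chainStab s := by
        refine le_antisymm (fun g hg => ⟨hg.1, mem_chainStab.2 fun Q hQ => ?_⟩) (fun g hg => ⟨hg.1,
          mem_chainStab.2 fun Q hQ => mem_chainStab.1 hg.2 Q (Finset.mem_of_mem_erase hQ)⟩)
        by_cases h : Q = piv s
        · rw [h, ← hpiv_erase s]
          exact hnorm _ hc' hg
        · exact mem_chainStab.1 hg.2 Q (Finset.mem_erase.2 ⟨h, hQ⟩)
      rw [hZ, ← Finset.card_erase_add_one hI, pow_succ]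
      ring
    · rw [if_neg hI]
      have hZ : Subgroup.centralizer ({x} : Set G) ⊓ chainStab (insert (piv s) s) =
          Subgroup.centralizer ({x} : Set G) ⊓ chainStab s := by
        refine le_antisymm (fun g hg => ⟨hg.1, mem_chainStab.2 fun Q hQ =>
          mem_chainStab.1 hg.2 Q (Finset.mem_insert_of_mem hQ)⟩) (fun g hg => ⟨hg.1,
          mem_chainStab.2 fun Q hQ => ?_⟩)
        rcases Finset.mem_insert.1 hQ with rfl | hQ
        · exact hnorm _ hc hg
        · exact mem_chainStab.1 hg.2 Q hQ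
      rw [hZ, Finset.card_insert_of_notMem hI, pow_succ]
      ring
  · beta_reduce at heq
    split_ifs at heq with hI
    · have h' := Finset.notMem_erase (piv s) s
      rw [heq] at h'
      exact h' hI
    · have h' := Finset.mem_insert_self (piv s) s
      rw [heq] at h'
      exact hI h'
  · have hc := (Finset.mem_filter.1 hs).2
    split_ifs with hI
    · exact Finset.mem_filter.2 ⟨Finset.mem_univ _,
        fun Q hQ R hR => hc.1 Q (Finset.mem_of_mem_erase hQ) R (Finset.mem_of_mem_erase hR),
        fun Q hQ => hc.2.1 Q (Finset.mem_of_mem_erase hQ),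
        mem_chainStab.2 fun Q hQ => mem_chainStab.1 hc.2.2 Q (Finset.mem_of_mem_erase hQ)⟩
    · exact Finset.mem_filter.2 ⟨Finset.mem_univ _, hins s hc⟩
  · by_cases hI : piv s ∈ s
    · simp only [if_pos hI]
      rw [hpiv_erase, if_neg (Finset.notMem_erase _ _), Finset.insert_erase hI]
    · simp only [if_neg hI]
      rw [hpiv_insert, if_pos (Finset.mem_insert_self _ _), Finset.erase_insert hI]

/-- The alternating sum over nonempty normal fixed chains. -/
theorem sum_normal_eq [Fact p.Prime] (x : G) (hx : ∃ k : ℕ, orderOf x = p ^ k) (hx1 : x ≠ 1)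
    (W : Subgroup G → ℤ) [DecidablePred fun s : Finset (Subgroup G) =>
      s.Nonempty ∧ IsFixedChain p x s ∧ IsNormalChain s] :
    ∑ s ∈ Finset.univ.filter (fun s : Finset (Subgroup G) =>
        s.Nonempty ∧ IsFixedChain p x s ∧ IsNormalChain s),
      (-1 : ℤ) ^ (s.card - 1) * W (Subgroup.centralizer ({x} : Set G) ⊓ chainStab s) =
      W (Subgroup.centralizer ({x} : Set G)) := by
  classical
  have h := sum_fixed_eq_zero x hx hx1 W (p := p)
  rw [← Finset.sum_filter_add_sum_filter_not _ IsNormalChain, Finset.filter_filter,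
    Finset.filter_filter, sum_not_normal_eq_zero x W, add_zero] at h
  have he : (∅ : Finset (Subgroup G)) ∈ Finset.univ.filter
      (fun s : Finset (Subgroup G) => IsFixedChain p x s ∧ IsNormalChain s) :=
    Finset.mem_filter.2 ⟨Finset.mem_univ _, ⟨by simp, by simp, mem_chainStab.2 (by simp)⟩,
      by simp [IsNormalChain]⟩
  rw [← Finset.add_sum_erase _ _ he] at h
  have h0 : chainStab (∅ : Finset (Subgroup G)) = ⊤ := eq_top_iff.2 fun g _ => mem_chainStab.2 (by simp)
  simp only [Finset.card_empty, pow_zero, one_mul, h0, inf_top_eq] at h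
  have hset : (Finset.univ.filter
      (fun s : Finset (Subgroup G) => IsFixedChain p x s ∧ IsNormalChain s)).erase ∅ =
      Finset.univ.filter (fun s : Finset (Subgroup G) =>
        s.Nonempty ∧ IsFixedChain p x s ∧ IsNormalChain s) := by
    ext s
    simp [Finset.nonempty_iff_ne_empty]
  rw [hset] at h
  rw [eq_neg_of_add_eq_zero_left h, ← Finset.sum_neg_distrib]
  refine Finset.sum_congr rfl fun s hs => ?_
  have hpos : 0 < s.card := Finset.card_pos.2 (Finset.mem_filter.1 hs).2.1
  rw [show (-1 : ℤ) ^ s.card = (-1) ^ (s.card - 1) * (-1) by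
    rw [← pow_succ]; congr 1; omega]
  ring

end Cfsg.Lib.Blocks
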