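/-
Kernels and codegrees of irreducible characters.
-/
import Cfsg.Agent.Chars.Degree
import Cfsg.Agent.Chars.IrrTools
import Cfsg.Agent.Chars.Count
import Cfsg.Prelude.Def_Blocks

namespace Cfsg.Lib.Blocks

open Cfsg Cfsg.Lib.Chars

universe u
/-- The kernel of a character as a subgroup. -/
lemma exists_kernel_faithful {G : Type u} [Group G] [Finite G] (χ : Cfsg.IrrCharacter G) :
    ∃ (K : Subgroup G) (_ : K.Normal) (χ' : Cfsg.IrrCharacter (G ⧸ K)),
      (∀ g, g ∈ K ↔ (χ : G → ℂ) g = (χ : G → ℂ) 1) ∧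
      (∀ g : G, (χ' : G ⧸ K → ℂ) g = (χ : G → ℂ) g) ∧
      Nat.card {g : G // (χ : G → ℂ) g = (χ : G → ℂ) 1} = Nat.card K ∧
      Cfsg.charDegree (χ' : G ⧸ K → ℂ) = Cfsg.charDegree (χ : G → ℂ) := by
  obtain ⟨n, ρ, hρ, hc⟩ := χ.2
  have hmem : ∀ g, g ∈ ρ.ker ↔ (χ : G → ℂ) g = (χ : G → ℂ) 1 := fun g => by
    rw [← hc, ρ.char_one, eq_id_of_character_eq_finrank ρ g, MonoidHom.mem_ker]
    rfl
  obtain ⟨b, hb, hfac⟩ := exists_factor (QuotientGroup.mk' ρ.ker) (QuotientGroup.mk'_surjective _)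
    (isCharacter_of_irr χ.2) fun k hk => (hmem k).1 (by rwa [QuotientGroup.ker_mk'] at hk)
  have hirr : Cfsg.IsIrrCharacter (G ⧸ ρ.ker) b := by
    refine irr_of_comp_irr hb (QuotientGroup.mk' ρ.ker) ?_
    have := χ.2
    rw [hfac] at this
    exact this
  refine ⟨ρ.ker, inferInstance, ⟨b, hirr⟩, hmem, fun g => (congrFun hfac g).symm,
    Nat.card_congr (Equiv.subtypeEquivRight fun g => (hmem g).symm), ?_⟩
  show Cfsg.charDegree b = _
  simp only [Cfsg.charDegree, hfac, map_one]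

/-- Kernel and codegree of an irreducible character. -/
lemma exists_codegree {G : Type u} [Group G] [Finite G] (χ : Cfsg.IrrCharacter G) :
    ∃ (K : Subgroup G) (_ : K.Normal) (χ' : Cfsg.IrrCharacter (G ⧸ K)) (c : ℕ),
      (∀ g, g ∈ K ↔ (χ : G → ℂ) g = (χ : G → ℂ) 1) ∧
      (∀ g : G, (χ' : G ⧸ K → ℂ) g = (χ : G → ℂ) g) ∧
      K.index = deg (χ : G → ℂ) * c ∧
      deg (χ' : G ⧸ K → ℂ) = deg (χ : G → ℂ) ∧
      Nat.card G / (Nat.card {g : G // (χ : G → ℂ) g = (χ : G → ℂ) 1} *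
        Cfsg.charDegree (χ : G → ℂ)) = c := by
  obtain ⟨K, hK, χ', hmem, hχ', hcard, hd⟩ := exists_kernel_faithful χ
  obtain ⟨c, hc⟩ := deg_dvd_index_of_le_ker χ.2 K fun a ha => (hmem a).1 ha
  refine ⟨K, hK, χ', c, hmem, hχ', hc, hd, ?_⟩
  rw [hcard, ← K.card_mul_index, hc]
  show Nat.card K * (deg (χ : G → ℂ) * c) / (Nat.card K * deg (χ : G → ℂ)) = c
  rw [← mul_assoc, Nat.mul_div_cancel_left _ (Nat.mul_pos Nat.card_pos (deg_irr_pos χ))]

/-- An irreducible character with full kernel is principal. -/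
lemma eq_one_of_kernel_top {G : Type u} [Group G] [Finite G] (χ : Cfsg.IrrCharacter G)
    (h : ∀ g, (χ : G → ℂ) g = (χ : G → ℂ) 1) : (χ : G → ℂ) = fun _ => 1 := by
  have := Fintype.ofFinite G
  have hn := classInner_self_irr χ.2
  rw [classInner_def] at hn
  simp only [h, Finset.sum_const, Finset.card_univ, nsmul_eq_mul, irr_apply_one_eq_deg,
    map_natCast] at hn
  rw [Nat.card_eq_fintype_card, ← mul_assoc, inv_mul_cancel₀ (Nat.cast_ne_zero.2 Fintype.card_ne_zero),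
    one_mul] at hn
  have hd : deg (χ : G → ℂ) * deg (χ : G → ℂ) = 1 := by exact_mod_cast hn
  funext g
  rw [h, irr_apply_one_eq_deg, Nat.eq_one_of_mul_eq_one_right hd, Nat.cast_one]

end Cfsg.Lib.Blocks
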