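import Mathlib
import Cfsg.Agent.Blocks.Covering
import Cfsg.Agent.Blocks.Brauer
import Cfsg.Agent.Blocks.Feit3

/-!
# The correspondence of invariant characters for a `p`-group of operators

`G` has order prime to `p`, a `p`-group `A` acts on `G` through `φ` and `ι` identifies `C`
with the subgroup of fixed points.
-/

set_option autoImplicit false
set_option linter.unusedSectionVars false

namespace Cfsg.Lib.Glauberman

open Cfsg.Lib.Chars Cfsg.Lib.Blocks
open scoped ComplexConjugate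

universe u v w

variable {G : Type u} [Group G] [Fintype G] {A : Type v} [Group A] [Finite A] {C : Type w}
  [Group C] [Fintype C]

/-- Invariance of a function under a group of operators. -/
def Inv {β : Type*} (φ : A →* MulAut G) (f : G → β) : Prop := ∀ (a : A) (g : G), f (φ a g) = f g

/-- `ι` identifies its source with the fixed points. -/
structure IsFixed (φ : A →* MulAut G) (ι : C →* G) : Prop where
  inj : Function.Injective ι
  mem_iff : ∀ g : G, (∀ a : A, φ a g = g) ↔ ∃ c : C, ι c = g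

/-- The correspondence. -/
def Corr (p : ℕ) (ι : C →* G) (χ : IrrCharacter G) (β : IrrCharacter C) : Prop :=
  ∃ m : ℕ, classInner (fun c : C => (χ : G → ℂ) (ι c)) (β : C → ℂ) = (m : ℂ) ∧ ¬ p ∣ m

variable {p : ℕ} [Fact p.Prime] {φ : A →* MulAut G} {ι : C →* G}

/-- In characteristic `p` an invariant sum is a sum over the fixed points. -/
lemma sum_fixed (hA : IsPGroup p A) (h : IsFixed φ ι) {R : Type*} [AddCommMonoid R]
    (hR : ∀ r : R, p • r = 0) {f : G → R} (hf : Inv φ f) :
    ∑ g, f g = ∑ c, f (ι c) := by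
  classical
  letI : MulAction A G := MulAction.compHom G φ
  rw [sum_eq_sum_fixed hA hR f hf]
  refine Eq.symm (Finset.sum_bij (fun c _ => ι c) (fun c _ => ?_) (fun c _ c' _ hcc => h.inj hcc)
    (fun g hg => ?_) fun c _ => rfl)
  · rw [Finset.mem_filter]
    exact ⟨Finset.mem_univ _, fun a => (h.mem_iff (ι c)).2 ⟨c, rfl⟩ a⟩
  · obtain ⟨c, hc⟩ := (h.mem_iff g).1 fun a => (Finset.mem_filter.1 hg).2 a
    exact ⟨c, Finset.mem_univ _, hc⟩

lemma apply_iota (h : IsFixed φ ι) (a : A) (c : C) : φ a (ι c) = ι c := (h.mem_iff _).2 ⟨c, rfl⟩ a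

/-- Fixed points conjugate in the group are conjugate among the fixed points. -/
lemma isConj_of_isConj_iota (hA : IsPGroup p A) (hG : ¬ p ∣ Nat.card G) (h : IsFixed φ ι) {c c' : C}
    (hcc : IsConj (ι c) (ι c')) : IsConj c c' := by
  classical
  obtain ⟨g₀, hg₀⟩ := isConj_iff.1 hcc
  let α : Type u := {g : G // g * ι c * g⁻¹ = ι c'}
  have hmem : ∀ (a : A) (g : α), φ a g.1 * ι c * (φ a g.1)⁻¹ = ι c' := fun a g => by
    have := congrArg (φ a) g.2
    rwa [map_mul, map_mul, map_inv, apply_iota h, apply_iota h] at this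
  letI act : MulAction A α :=
    { smul := fun a g => ⟨φ a g.1, hmem a g⟩
      one_smul := fun g => Subtype.ext (by show φ 1 g.1 = g.1; rw [map_one]; rfl)
      mul_smul := fun a b g => Subtype.ext (by
        show φ (a * b) g.1 = φ a (φ b g.1); rw [map_mul]; rfl) }
  have hcard : Nat.card α = Nat.card (Subgroup.centralizer ({ι c} : Set G)) := by
    refine Nat.card_congr
      { toFun := fun g => ⟨g₀⁻¹ * g.1, ?_⟩
        invFun := fun z => ⟨g₀ * z.1, ?_⟩
        left_inv := fun g => Subtype.ext (mul_inv_cancel_left _ _)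
        right_inv := fun z => Subtype.ext (inv_mul_cancel_left _ _) }
    · rw [Subgroup.mem_centralizer_singleton_iff]
      have h1 : g.1 * ι c = ι c' * g.1 := mul_inv_eq_iff_eq_mul.1 g.2
      calc g₀⁻¹ * g.1 * ι c = g₀⁻¹ * (g.1 * ι c) := mul_assoc _ _ _
        _ = g₀⁻¹ * (ι c' * g.1) := by rw [h1]
        _ = g₀⁻¹ * (g₀ * ι c * g₀⁻¹ * g.1) := congrArg (fun t => g₀⁻¹ * (t * g.1)) hg₀.symm
        _ = ι c * (g₀⁻¹ * g.1) := by group
    · have h1 := Subgroup.mem_centralizer_singleton_iff.1 z.2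
      rw [mul_inv_rev, ← mul_assoc, mul_assoc g₀ z.1, h1, ← hg₀]
      group
  have hnd : ¬ p ∣ Nat.card α := fun hd =>
    hG ((hcard ▸ hd).trans (Subgroup.card_subgroup_dvd_card _))
  obtain ⟨g, hg⟩ := hA.nonempty_fixed_point_of_prime_not_dvd_card α hnd
  obtain ⟨x, hx⟩ := (h.mem_iff g.1).1 fun a => congrArg Subtype.val (hg a)
  exact isConj_iff.2 ⟨x, h.inj (by rw [map_mul, map_mul, map_inv, hx]; exact g.2)⟩

lemma card_fixed_not_dvd (hG : ¬ p ∣ Nat.card G) (h : IsFixed φ ι) : ¬ p ∣ Nat.card C := fun hd =>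
  hG (hd.trans (by
    rw [Nat.card_congr (MonoidHom.ofInjective h.inj).toEquiv]
    exact Subgroup.card_subgroup_dvd_card _))

lemma res_card_eq (hA : IsPGroup p A) (h : IsFixed φ ι) {M : Ideal AlgInt} (hM : IsPModular p M) :
    (Nat.card G : Res M) = (Nat.card C : Res M) := by
  haveI := charP_res hM
  have := sum_fixed hA h (fun r : Res M => by rw [nsmul_eq_mul, CharP.cast_eq_zero, zero_mul])
    (f := fun _ => (1 : Res M)) fun _ _ => rfl
  simpa [Nat.card_eq_fintype_card] using this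

section Lift

open Classical in
/-- The class function on `G` lifting the idempotent of `β`. -/
noncomputable def lift (ι : C →* G) (β : IrrCharacter C) : MonoidAlgebra ℂ G :=
  ofFn fun g => if h : ∃ c : C, IsConj (ι c) g then blockCoeff ({β} : Set (IrrCharacter C)) h.choose
    else 0

lemma fn_lift_iota (hA : IsPGroup p A) (hG : ¬ p ∣ Nat.card G) (h : IsFixed φ ι)
    (β : IrrCharacter C) (c : C) :
    fn (lift ι β) (ι c) = blockCoeff ({β} : Set (IrrCharacter C)) c := by
  classical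
  have hex : ∃ d : C, IsConj (ι d) (ι c) := ⟨c, IsConj.refl _⟩
  rw [lift, fn_ofFn, dif_pos hex]
  obtain ⟨x, hx⟩ := isConj_iff.1 (isConj_of_isConj_iota hA hG h hex.choose_spec)
  rw [← blockCoeff_conj _ hex.choose x, hx]

lemma fn_lift_congr (hA : IsPGroup p A) (hG : ¬ p ∣ Nat.card G) (h : IsFixed φ ι)
    (β : IrrCharacter C) {g g' : G}
    (hh : ∀ c : C, IsConj (ι c) g ↔ IsConj (ι c) g') :
    fn (lift ι β) g = fn (lift ι β) g' := by
  classical
  rw [lift, fn_ofFn]
  by_cases hg : ∃ c : C, IsConj (ι c) g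
  · have hg' : ∃ c : C, IsConj (ι c) g' := hg.imp fun c => (hh c).1
    rw [dif_pos hg, dif_pos hg']
    obtain ⟨x, hx⟩ := isConj_iff.1
      (isConj_of_isConj_iota hA hG h (((hh _).1 hg.choose_spec).trans hg'.choose_spec.symm))
    rw [← blockCoeff_conj _ hg.choose x, hx]
  · rw [dif_neg hg, dif_neg fun hg' => hg (hg'.imp fun c => (hh c).2)]

lemma isCentralFn_lift (hA : IsPGroup p A) (hG : ¬ p ∣ Nat.card G) (h : IsFixed φ ι)
    (β : IrrCharacter C) : IsCentralFn (lift ι β) := fun g x =>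
  fn_lift_congr hA hG h β fun c => by
    have hc : IsConj g (x * g * x⁻¹) := isConj_iff.2 ⟨x, rfl⟩
    exact ⟨fun h' => h'.trans hc.symm, fun h' => h'.trans hc⟩

lemma inv_lift (hA : IsPGroup p A) (hG : ¬ p ∣ Nat.card G) (h : IsFixed φ ι) (β : IrrCharacter C) :
    Inv φ (fn (lift ι β)) := fun a g =>
  fn_lift_congr hA hG h β fun c => by
    constructor
    · intro h'
      have := (φ a⁻¹).toMonoidHom.map_isConj h'
      rwa [MulEquiv.coe_toMonoidHom, apply_iota h, ← MulAut.mul_apply, ← map_mul, inv_mul_cancel,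
        map_one, MulAut.one_apply] at this
    · intro h'
      have := (φ a).toMonoidHom.map_isConj h'
      simpa [apply_iota h] using this

lemma integral_lift {M : Ideal AlgInt} (hM : IsPModular p M) (hC : ¬ p ∣ Nat.card C)
    (β : IrrCharacter C) : Integral M (lift ι β) := by
  classical
  intro g
  rw [lift, fn_ofFn]
  split_ifs with hg
  · have := integral_blockElem_pPrime hM hC ({β} : Set (IrrCharacter C)) hg.choose
    rwa [fn_blockElem] at this
  · exact zero_mem _

end Lift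

lemma blockElem_singleton_mul (β γ : IrrCharacter C) [DecidableEq (IrrCharacter C)] :
    blockElem ({β} : Set (IrrCharacter C)) * blockElem {γ} =
      if β = γ then blockElem ({β} : Set (IrrCharacter C)) else 0 := by
  classical
  refine eq_of_omega_eq ((isCentralFn_blockElem _).mul (isCentralFn_blockElem _)) ?_ fun η => ?_
  · split_ifs
    · exact isCentralFn_blockElem _
    · exact isCentralFn_zero
  · rw [omega_mul η (isCentralFn_blockElem _), omega_blockElem, omega_blockElem]
    by_cases h : β = γ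
    · subst h
      rw [if_pos rfl, omega_blockElem]
      by_cases h1 : η = β <;> simp [h1]
    · rw [if_neg h]
      have : omega (η : C → ℂ) (0 : MonoidAlgebra ℂ C) = 0 := by simp [omega, chiEval]
      rw [this]
      by_cases h1 : η = β
      · subst h1; simp [h]
      · simp [h1]

/-- The value at `χ` of the lift of `β`, modulo the maximal ideal. -/
lemma res_omega_lift (hA : IsPGroup p A) (hG : ¬ p ∣ Nat.card G) (h : IsFixed φ ι)
    {M : Ideal AlgInt} (hM : IsPModular p M) {χ : IrrCharacter G}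
    (hχ : Inv φ (χ : G → ℂ)) {m : ℕ} (β : IrrCharacter C)
    (hm : classInner (fun c : C => (χ : G → ℂ) (ι c)) (β : C → ℂ) = (m : ℂ)) :
    res M (omega (χ : G → ℂ) (lift ι β)) * (deg (χ : G → ℂ) : Res M) =
      (m : Res M) * (deg (β : C → ℂ) : Res M) := by
  classical
  haveI := charP_res hM
  have hC := card_fixed_not_dvd hG h
  have hmemχ : ∀ x, (χ : G → ℂ) x ∈ place M :=
    fun x => isIntegral_mem_place hM (IsCharacter.isIntegral (isCharacter_of_irr χ.2) x)
  have hlift := integral_lift (ι := ι) hM hC β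
  have homega : omega (χ : G → ℂ) (lift ι β) ∈ place M := by
    rw [omega, chiEval, Finset.sum_div]
    refine sum_mem fun g _ => ?_
    rw [mul_div_assoc]
    refine mul_mem (hlift g) ?_
    rw [irr_apply_one_eq_deg, div_eq_mul_inv]
    exact mul_mem (hmemχ g) ((isUnitAt_natCast hM fun hd =>
      hG (hd.trans (IsIrrCharacter.deg_dvd χ.2))).inv.mem_place)
  rw [← res_natCast (M := M) (deg (χ : G → ℂ)), ← res_mul homega (natCast_mem _ _),
    ← irr_apply_one_eq_deg, omega, div_mul_cancel₀ _ (IsIrrCharacter.apply_one_ne_zero χ.2), chiEval,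
    res_sum _ _ fun g _ => mul_mem (hlift g) (hmemχ g),
    sum_fixed hA h (fun r : Res M => by rw [nsmul_eq_mul, CharP.cast_eq_zero, zero_mul])
      (fun a g => by rw [inv_lift hA hG h β a g, hχ a g]),
    ← res_sum _ _ fun c _ => mul_mem (hlift _) (hmemχ _)]
  rw [show ∑ c, fn (lift ι β) (ι c) * (χ : G → ℂ) (ι c) = (β : C → ℂ) 1 * (m : ℂ) from ?_,
    irr_apply_one_eq_deg, res_mul (natCast_mem _ _) (natCast_mem _ _), res_natCast, res_natCast,
    mul_comm]
  rw [← hm, classInner_def, Finset.mul_sum, Finset.mul_sum]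
  refine Finset.sum_congr rfl fun c _ => ?_
  rw [fn_lift_iota hA hG h, blockCoeff_eq_sum, show Finset.univ.filter (· ∈ ({β} : Set _)) = {β} by
    ext; simp, Finset.sum_singleton]
  ring

/-- **Existence and uniqueness of the correspondent.** -/
theorem existsUnique_corr (hA : IsPGroup p A) (hG : ¬ p ∣ Nat.card G) (h : IsFixed φ ι)
    {χ : IrrCharacter G} (hχ : Inv φ (χ : G → ℂ)) : ∃! β : IrrCharacter C, Corr p ι χ β := by
  classical
  obtain ⟨M, hM⟩ := exists_isPModular (Fact.out : p.Prime)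
  haveI := charP_res hM
  have hC := card_fixed_not_dvd hG h
  obtain ⟨m, hm⟩ := IsCharacter.exists_decomp (IsCharacter.comp_hom (isCharacter_of_irr χ.2) ι)
  have hmβ : ∀ β : IrrCharacter C,
      classInner (fun c : C => (χ : G → ℂ) (ι c)) (β : C → ℂ) = (m β : ℂ) := fun β => by
    rw [hm, show (∑ ψ : IrrCharacter C, m ψ • (ψ : C → ℂ)) = ∑ ψ, (m ψ : ℂ) • (ψ : C → ℂ) by
      simp [Nat.cast_smul_eq_nsmul], classInner_irrSum]
  have hdeg : deg (χ : G → ℂ) = ∑ β : IrrCharacter C, m β * deg (β : C → ℂ) := by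
    have e := congrFun hm 1
    simp only [map_one, Finset.sum_apply, Pi.smul_apply, Pi.mul_apply, Pi.natCast_apply,
      nsmul_eq_mul, irr_apply_one_eq_deg] at e
    exact_mod_cast e
  have hχu : (deg (χ : G → ℂ) : Res M) ≠ 0 := fun h0 =>
    hG (((res_natCast_eq_zero_iff hM _).1 h0).trans (IsIrrCharacter.deg_dvd χ.2))
  set Φ : IrrCharacter C → Res M := fun β => res M (omega (χ : G → ℂ) (lift ι β)) with hΦ
  have hΦeq : ∀ β, Φ β * (deg (χ : G → ℂ) : Res M) = (m β : Res M) * (deg (β : C → ℂ) : Res M) :=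
    fun β => res_omega_lift hA hG h hM hχ β (hmβ β)
  have hsum : ∑ β, Φ β = 1 := by
    refine mul_right_cancel₀ hχu ?_
    rw [Finset.sum_mul, Finset.sum_congr rfl fun β _ => hΦeq β, one_mul, hdeg, Nat.cast_sum]
    exact Finset.sum_congr rfl fun β _ => (Nat.cast_mul _ _).symm
  have hmul : ∀ β γ, Φ β * Φ γ = if β = γ then Φ β else 0 := by
    intro β γ
    have hmemχ : ∀ x, (χ : G → ℂ) x ∈ place M :=
      fun x => isIntegral_mem_place hM (IsCharacter.isIntegral (isCharacter_of_irr χ.2) x)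
    have hl := fun δ => integral_lift (ι := ι) hM hC δ
    have hu : ∀ a : MonoidAlgebra ℂ G, Integral M a → omega (χ : G → ℂ) a ∈ place M := fun a ha => by
      rw [omega, chiEval, Finset.sum_div]
      refine sum_mem fun g _ => ?_
      rw [mul_div_assoc]
      refine mul_mem (ha g) ?_
      rw [irr_apply_one_eq_deg, div_eq_mul_inv]
      exact mul_mem (hmemχ g) ((isUnitAt_natCast hM fun hd =>
        hG (hd.trans (IsIrrCharacter.deg_dvd χ.2))).inv.mem_place)
    set P := lift ι β * lift ι γ with hP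
    have hPi : Integral M P := (hl β).mul (hl γ)
    have hPinv : Inv φ (fn P) := fun a g => by
      rw [hP, fn_mul, fn_mul]
      refine (Fintype.sum_equiv (φ a).toEquiv _ _ fun x => ?_).symm
      show _ = fn (lift ι β) (φ a x) * fn (lift ι γ) ((φ a x)⁻¹ * φ a g)
      rw [inv_lift hA hG h β a x, ← map_inv, ← map_mul, inv_lift hA hG h γ a]
    have hR : ∀ r : Res M, p • r = 0 := fun r => by
      rw [nsmul_eq_mul, CharP.cast_eq_zero, zero_mul]
    have hPc : ∀ c : C, res M (fn P (ι c)) =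
        res M (if β = γ then fn (lift ι β) (ι c) else 0) := by
      intro c
      rw [hP, fn_mul, res_sum _ _ fun x _ => mul_mem (hl β x) (hl γ _),
        sum_fixed hA h hR (fun a x => ?_), ← res_sum _ _ fun x _ => mul_mem (hl β _) (hl γ _)]
      · refine congrArg (res M) ?_
        have e := congrArg (fun z => fn z c) (blockElem_singleton_mul β γ)
        simp only [fn_mul, fn_blockElem] at e
        rw [Finset.sum_congr rfl fun x _ => by
          rw [← map_inv, ← map_mul, fn_lift_iota hA hG h, fn_lift_iota hA hG h], e]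
        split_ifs with hβγ
        · rw [fn_blockElem, fn_lift_iota hA hG h]
        · rw [fn_zero]
      · show res M _ = res M _
        rw [inv_lift hA hG h β a x, show (φ a x)⁻¹ * ι c = φ a (x⁻¹ * ι c) by
          rw [map_mul, map_inv, apply_iota h], inv_lift hA hG h γ a]
    have key : res M (omega (χ : G → ℂ) P) * (deg (χ : G → ℂ) : Res M) =
        res M (if β = γ then omega (χ : G → ℂ) (lift ι β) else 0) * (deg (χ : G → ℂ) : Res M) := by
      have hcalc : ∀ (a : MonoidAlgebra ℂ G), Integral M a → Inv φ (fn a) →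
          res M (omega (χ : G → ℂ) a) * (deg (χ : G → ℂ) : Res M) =
            ∑ c, res M (fn a (ι c)) * res M ((χ : G → ℂ) (ι c)) := fun a ha hinv => by
        rw [← res_natCast (M := M) (deg (χ : G → ℂ)), ← res_mul (hu a ha) (natCast_mem _ _),
          ← irr_apply_one_eq_deg, omega,
          div_mul_cancel₀ _ (IsIrrCharacter.apply_one_ne_zero χ.2), chiEval,
          res_sum _ _ fun g _ => mul_mem (ha g) (hmemχ g),
          sum_fixed hA h hR (fun a g => by rw [hinv a g, hχ a g])]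
        exact Finset.sum_congr rfl fun c _ => res_mul (ha _) (hmemχ _)
      rw [hcalc P hPi hPinv]
      split_ifs with hβγ
      · rw [hcalc _ (hl β) (inv_lift hA hG h β)]
        exact Finset.sum_congr rfl fun c _ => by rw [hPc c, if_pos hβγ]
      · rw [res_zero, zero_mul]
        exact Finset.sum_eq_zero fun c _ => by rw [hPc c, if_neg hβγ, res_zero, zero_mul]
    have key' := mul_right_cancel₀ hχu key
    rw [hP, omega_mul χ (isCentralFn_lift hA hG h β), res_mul (hu _ (hl β)) (hu _ (hl γ))] at key'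
    rw [hΦ]
    dsimp only
    rw [key']
    split_ifs
    · rfl
    · rw [res_zero]
  obtain ⟨β, -, hβ⟩ := Finset.exists_ne_zero_of_sum_ne_zero (hsum ▸ one_ne_zero : ∑ β, Φ β ≠ 0)
  have hiff : ∀ γ, Corr p ι χ γ ↔ Φ γ ≠ 0 := fun γ => by
    have hγu : (deg (γ : C → ℂ) : Res M) ≠ 0 := fun h0 =>
      hC (((res_natCast_eq_zero_iff hM _).1 h0).trans (IsIrrCharacter.deg_dvd γ.2))
    refine ⟨?_, fun hne => ⟨m γ, hmβ γ, fun hd => hne ?_⟩⟩
    · rintro ⟨n, hn, hnd⟩ h0
      rw [hmβ γ, Nat.cast_inj] at hn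
      have := hΦeq γ
      rw [h0, zero_mul] at this
      rcases mul_eq_zero.1 this.symm with h1 | h1
      · exact hnd (hn ▸ (res_natCast_eq_zero_iff hM _).1 h1)
      · exact hγu h1
    · have := hΦeq γ
      rw [(res_natCast_eq_zero_iff hM _).2 hd, zero_mul] at this
      exact (mul_eq_zero.1 this).resolve_right hχu
  refine ⟨β, (hiff β).2 hβ, fun γ hγ => by_contra fun hne => ?_⟩
  have := hmul β γ
  rw [if_neg (Ne.symm hne)] at this
  exact ((hiff γ).1 hγ) ((mul_eq_zero.1 this).resolve_left hβ)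

/-- The inner products of restrictions agree modulo `p`. -/
lemma sum_mult_mul (hA : IsPGroup p A) (hG : ¬ p ∣ Nat.card G) (h : IsFixed φ ι)
    {χ χ' : IrrCharacter G} (hχ : Inv φ (χ : G → ℂ)) (hχ' : Inv φ (χ' : G → ℂ))
    {m m' : IrrCharacter C → ℕ}
    (hm : (fun c : C => (χ : G → ℂ) (ι c)) = ∑ β : IrrCharacter C, (m β : ℂ) • (β : C → ℂ))
    (hm' : (fun c : C => (χ' : G → ℂ) (ι c)) = ∑ β : IrrCharacter C, (m' β : ℂ) • (β : C → ℂ))
    [DecidableEq (IrrCharacter G)] :
    (∑ β, (m β : ZMod p) * (m' β : ZMod p)) = if χ = χ' then 1 else 0 := by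
  classical
  obtain ⟨M, hM⟩ := exists_isPModular (Fact.out : p.Prime)
  haveI := charP_res hM
  have hR : ∀ r : Res M, p • r = 0 := fun r => by
    rw [nsmul_eq_mul, CharP.cast_eq_zero, zero_mul]
  have hmem : ∀ (ψ : IrrCharacter G) (x), (ψ : G → ℂ) x * conj ((χ' : G → ℂ) x) ∈ place M :=
    fun ψ x => mul_mem (isIntegral_mem_place hM (IsCharacter.isIntegral (isCharacter_of_irr ψ.2) x))
      (by
        rw [← IsCharacter.conj_inv (isCharacter_of_irr χ'.2)]
        exact isIntegral_mem_place hM (IsCharacter.isIntegral (isCharacter_of_irr χ'.2) _))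
  have e1 : (Nat.card C : ℂ) * ((∑ β, m β * m' β : ℕ) : ℂ) =
      ∑ c : C, (χ : G → ℂ) (ι c) * conj ((χ' : G → ℂ) (ι c)) := by
    have : classInner (fun c : C => (χ : G → ℂ) (ι c)) (fun c : C => (χ' : G → ℂ) (ι c)) =
        ((∑ β, m β * m' β : ℕ) : ℂ) := by
      rw [hm', classInner_sum_right, Nat.cast_sum]
      refine Finset.sum_congr rfl fun β _ => ?_
      rw [classInner_smul_right, hm, classInner_irrSum, Complex.conj_natCast, Nat.cast_mul,
        mul_comm]
    rw [← this, classInner_def, ← mul_assoc, mul_inv_cancel₀ (Nat.cast_ne_zero.2 Nat.card_pos.ne'),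
      one_mul]
  have e2 : ∑ g : G, (χ : G → ℂ) g * conj ((χ' : G → ℂ) g) =
      (Nat.card G : ℂ) * ((if χ = χ' then 1 else 0 : ℕ) : ℂ) := by
    have := classInner_irrCharacter χ χ'
    rw [classInner_def, inv_mul_eq_iff_eq_mul₀ (Nat.cast_ne_zero.2 Nat.card_pos.ne')] at this
    rw [this, Nat.cast_ite, Nat.cast_one, Nat.cast_zero]
  have e3 := congrArg (res M) e1
  rw [res_sum _ _ fun c _ => hmem χ _, ← sum_fixed hA h hR (f := fun g =>
      res M ((χ : G → ℂ) g * conj ((χ' : G → ℂ) g))) (fun a g => by show res M _ = res M _; rw [hχ a g, hχ' a g]),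
    ← res_sum _ _ fun g _ => hmem χ g, e2, res_mul (natCast_mem _ _) (natCast_mem _ _),
    res_mul (natCast_mem _ _) (natCast_mem _ _)] at e3
  simp only [res_natCast] at e3
  rw [res_card_eq hA h hM] at e3
  have hCu : (Nat.card C : Res M) ≠ 0 := fun h0 =>
    card_fixed_not_dvd hG h ((res_natCast_eq_zero_iff hM _).1 h0)
  have e4 := mul_left_cancel₀ hCu e3
  have e5 : ((∑ β, m β * m' β : ℕ) : ZMod p) = ((if χ = χ' then 1 else 0 : ℕ) : ZMod p) :=
    (ZMod.natCast_eq_natCast_iff _ _ _).2 ((CharP.natCast_eq_natCast (Res M) p).1 e4)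
  push_cast at e5
  exact e5

/-- The multiplicity of the correspondent is `±1` modulo `p`. -/
theorem corr_mult (hA : IsPGroup p A) (hG : ¬ p ∣ Nat.card G) (h : IsFixed φ ι)
    {χ : IrrCharacter G} (hχ : Inv φ (χ : G → ℂ)) {β : IrrCharacter C} {n : ℕ}
    (hn : classInner (fun c : C => (χ : G → ℂ) (ι c)) (β : C → ℂ) = (n : ℂ)) (hnd : ¬ p ∣ n) :
    (n : ℤ) ≡ 1 [ZMOD p] ∨ (n : ℤ) ≡ -1 [ZMOD p] := by
  classical
  obtain ⟨m, hm⟩ := IsCharacter.exists_decomp (IsCharacter.comp_hom (isCharacter_of_irr χ.2) ι)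
  have hm' : (fun c : C => (χ : G → ℂ) (ι c)) = ∑ γ : IrrCharacter C, (m γ : ℂ) • (γ : C → ℂ) := by
    rw [hm]; simp [Nat.cast_smul_eq_nsmul]
  have hval : ∀ γ : IrrCharacter C, classInner (fun c : C => (χ : G → ℂ) (ι c)) (γ : C → ℂ) = (m γ : ℂ) :=
    fun γ => by rw [hm', classInner_irrSum]
  have hnm : m β = n := by rw [hval β, Nat.cast_inj] at hn; exact hn
  have hsum := sum_mult_mul hA hG h hχ hχ hm' hm'
  rw [if_pos rfl, Finset.sum_eq_single β (fun γ _ hne => ?_)
    (fun hh => absurd (Finset.mem_univ _) hh), hnm, mul_self_eq_one_iff] at hsum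
  · rcases hsum with h1 | h1
    · exact Or.inl ((ZMod.intCast_eq_intCast_iff _ _ _).1 (by push_cast; exact h1))
    · exact Or.inr ((ZMod.intCast_eq_intCast_iff _ _ _).1 (by push_cast; exact h1))
  · have h0 : p ∣ m γ := by
      by_contra hd
      exact hne ((existsUnique_corr hA hG h hχ).unique ⟨m γ, hval γ, hd⟩ ⟨n, hn, hnd⟩)
    rw [(ZMod.natCast_eq_zero_iff _ _).2 h0, zero_mul]

/-- The correspondence is injective. -/
theorem corr_injective (hA : IsPGroup p A) (hG : ¬ p ∣ Nat.card G) (h : IsFixed φ ι)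
    {χ χ' : IrrCharacter G} (hχ : Inv φ (χ : G → ℂ)) (hχ' : Inv φ (χ' : G → ℂ))
    {β : IrrCharacter C} (hc : Corr p ι χ β) (hc' : Corr p ι χ' β) : χ = χ' := by
  classical
  obtain ⟨m, hm⟩ := IsCharacter.exists_decomp (IsCharacter.comp_hom (isCharacter_of_irr χ.2) ι)
  obtain ⟨m', hm'⟩ := IsCharacter.exists_decomp (IsCharacter.comp_hom (isCharacter_of_irr χ'.2) ι)
  have h1 : (fun c : C => (χ : G → ℂ) (ι c)) = ∑ γ : IrrCharacter C, (m γ : ℂ) • (γ : C → ℂ) := by
    rw [hm]; simp [Nat.cast_smul_eq_nsmul]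
  have h1' : (fun c : C => (χ' : G → ℂ) (ι c)) =
      ∑ γ : IrrCharacter C, (m' γ : ℂ) • (γ : C → ℂ) := by
    rw [hm']; simp [Nat.cast_smul_eq_nsmul]
  by_contra hne
  have hsum := sum_mult_mul hA hG h hχ hχ' h1 h1'
  rw [if_neg hne, Finset.sum_eq_single β (fun γ _ hγ => ?_)
    (fun hh => absurd (Finset.mem_univ _) hh)] at hsum
  · obtain ⟨n, hn, hnd⟩ := hc
    obtain ⟨n', hn', hnd'⟩ := hc'
    rw [h1, classInner_irrSum, Nat.cast_inj] at hn
    rw [h1', classInner_irrSum, Nat.cast_inj] at hn'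
    rw [hn, hn', mul_eq_zero, ZMod.natCast_eq_zero_iff, ZMod.natCast_eq_zero_iff] at hsum
    rcases hsum with h2 | h2
    · exact hnd h2
    · exact hnd' h2
  · have h0 : p ∣ m γ := by
      by_contra hd
      exact hγ ((existsUnique_corr hA hG h hχ).unique
        ⟨m γ, by rw [h1, classInner_irrSum], hd⟩ hc)
    rw [(ZMod.natCast_eq_zero_iff _ _).2 h0, zero_mul]

/-- Composition with an automorphism. -/
noncomputable def twist (e : MulAut G) (χ : IrrCharacter G) : IrrCharacter G :=
  ⟨fun g => (χ : G → ℂ) (e g), IsIrrCharacter.comp_surjective χ.2 e.toMonoidHom e.surjective⟩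

lemma twist_apply (e : MulAut G) (χ : IrrCharacter G) (g : G) :
    (twist e χ : G → ℂ) g = (χ : G → ℂ) (e g) := rfl

/-- The correspondence is surjective. -/
theorem corr_surjective (hA : IsPGroup p A) (hG : ¬ p ∣ Nat.card G) (h : IsFixed φ ι)
    (β : IrrCharacter C) : ∃ χ : IrrCharacter G, Inv φ (χ : G → ℂ) ∧ Corr p ι χ β := by
  classical
  choose m hm using fun χ : IrrCharacter G => classInner_char_nat
    (IsCharacter.comp_hom (isCharacter_of_irr χ.2) ι) (isCharacter_of_irr β.2)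
  letI act : MulAction A (IrrCharacter G) :=
    { smul := fun a χ => twist (φ a⁻¹) χ
      one_smul := fun χ => Subtype.ext (funext fun g => by
        show (χ : G → ℂ) (φ (1 : A)⁻¹ g) = _
        rw [inv_one, map_one]; rfl)
      mul_smul := fun a b χ => Subtype.ext (funext fun g => by
        show (χ : G → ℂ) (φ (a * b)⁻¹ g) = (χ : G → ℂ) (φ b⁻¹ (φ a⁻¹ g))
        rw [mul_inv_rev, map_mul]; rfl) }
  have hsmul : ∀ (a : A) (χ : IrrCharacter G) (g : G),
      ((a • χ : IrrCharacter G) : G → ℂ) g = (χ : G → ℂ) (φ a⁻¹ g) := fun _ _ _ => rfl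
  -- the total is the index times the degree
  have hreg : ∑ χ : IrrCharacter G, m χ * deg (χ : G → ℂ) * Nat.card C =
      Nat.card G * deg (β : C → ℂ) := by
    have key : ∀ c : C, ∑ χ : IrrCharacter G, (deg (χ : G → ℂ) : ℂ) * (χ : G → ℂ) (ι c) =
        if c = 1 then (Nat.card G : ℂ) else 0 := fun c => by
      have h2 := sum_deg_mul (ι c)
      rw [← h2.trans (if_congr (map_eq_one_iff ι h.inj) rfl rfl)]
      simp [irr_apply_one_eq_deg]
    have h3 : ∑ χ : IrrCharacter G, ((m χ : ℂ) * (deg (χ : G → ℂ) : ℂ)) * (Nat.card C : ℂ) =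
        (Nat.card G : ℂ) * (deg (β : C → ℂ) : ℂ) := by
      simp only [← hm, classInner_def]
      rw [Finset.sum_congr rfl fun (χ : IrrCharacter G) _ => show
        (Nat.card C : ℂ)⁻¹ * (∑ c, (χ : G → ℂ) (ι c) * conj ((β : C → ℂ) c)) *
          (deg (χ : G → ℂ) : ℂ) * (Nat.card C : ℂ) =
        ∑ c, ((deg (χ : G → ℂ) : ℂ) * (χ : G → ℂ) (ι c)) * conj ((β : C → ℂ) c) by
          rw [Finset.mul_sum, Finset.sum_mul, Finset.sum_mul]
          refine Finset.sum_congr rfl fun c _ => ?_
          have : (Nat.card C : ℂ) ≠ 0 := Nat.cast_ne_zero.2 Nat.card_pos.ne'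
          field_simp,
        Finset.sum_comm, Finset.sum_congr rfl fun c _ => by rw [← Finset.sum_mul, key c]]
      simp [irr_apply_one_eq_deg]
    exact_mod_cast h3
  have hinv : ∀ (a : A) (χ : IrrCharacter G),
      ((m (a • χ) * deg ((a • χ : IrrCharacter G) : G → ℂ) * Nat.card C : ℕ) : ZMod p) =
        ((m χ * deg (χ : G → ℂ) * Nat.card C : ℕ) : ZMod p) := fun a χ => by
    have hdeg : deg ((a • χ : IrrCharacter G) : G → ℂ) = deg (χ : G → ℂ) := by
      unfold deg; rw [hsmul, map_one]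
    have hmm : m (a • χ) = m χ := Nat.cast_injective (R := ℂ) (by
      rw [← hm, ← hm]
      congr 1
      funext c
      rw [hsmul, apply_iota h])
    rw [hdeg, hmm]
  have hsum := congrArg (fun n : ℕ => (n : ZMod p)) hreg
  rw [Nat.cast_sum, sum_eq_sum_fixed hA (fun r => by
    rw [nsmul_eq_mul, ZMod.natCast_self, zero_mul]) _ hinv] at hsum
  have hne : ((Nat.card G * deg (β : C → ℂ) : ℕ) : ZMod p) ≠ 0 := by
    rw [Ne, ZMod.natCast_eq_zero_iff, (Fact.out : p.Prime).dvd_mul, not_or]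
    exact ⟨hG, fun hd => card_fixed_not_dvd hG h (hd.trans (IsIrrCharacter.deg_dvd β.2))⟩
  obtain ⟨χ, hχ, hχne⟩ := Finset.exists_ne_zero_of_sum_ne_zero (hsum ▸ hne)
  refine ⟨χ, fun a g => ?_, m χ, hm χ, fun hd => hχne ?_⟩
  · have hfix := (Finset.mem_filter.1 hχ).2 a⁻¹
    have := congrFun (congrArg Subtype.val hfix) g
    rw [hsmul, inv_inv] at this
    exact this
  · rw [mul_assoc, Nat.cast_mul, (ZMod.natCast_eq_zero_iff _ _).2 hd, zero_mul]

end Cfsg.Lib.Glauberman
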