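import Mathlib
import Cfsg.Agent.Blocks.Glauberman
import Cfsg.Agent.Chars.Real

/-!
# Invariant characters and classes for solvable coprime operator groups
-/

set_option autoImplicit false
set_option linter.unusedSectionVars false

namespace Cfsg.Lib.Glauberman

open Cfsg.Lib.Chars Cfsg.Lib.Blocks
open scoped ComplexConjugate

universe u v w

section General

variable {G : Type u} [Group G] [Fintype G] {A : Type v} [Group A] [Finite A] {C : Type w}
  [Group C] [Fintype C] {p : ℕ} [Fact p.Prime] {φ : A →* MulAut G} {ι : C →* G}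

/-- Equivariance of the correspondence. -/
lemma corr_twist {χ : IrrCharacter G} {β : IrrCharacter C} (e : MulAut G) (e' : MulAut C)
    (he : ∀ c : C, e (ι c) = ι (e' c)) (h : Corr p ι χ β) :
    Corr p ι (twist e χ) (twist e' β) := by
  obtain ⟨m, hm, hd⟩ := h
  refine ⟨m, ?_, hd⟩
  rw [← hm, classInner_def, classInner_def]
  congr 1
  refine Fintype.sum_equiv e'.toEquiv _ _ fun c => ?_
  show (χ : G → ℂ) (e (ι c)) * conj ((β : C → ℂ) (e' c)) = _
  rw [he]
  rfl

/-- The correspondence commutes with complex conjugation. -/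
lemma corr_conjIrr {χ : IrrCharacter G} {β : IrrCharacter C} (h : Corr p ι χ β) :
    Corr p ι (conjIrr χ) (conjIrr β) := by
  obtain ⟨m, hm, hd⟩ := h
  refine ⟨m, ?_, hd⟩
  have := congrArg conj hm
  rw [classInner_def, map_mul, map_inv₀, map_natCast, map_natCast, map_sum] at this
  rw [classInner_def, ← this]
  congr 1
  exact Finset.sum_congr rfl fun c _ => by rw [map_mul]; rfl

lemma inv_conjIrr {χ : IrrCharacter G} (h : Inv φ (χ : G → ℂ)) : Inv φ (conjIrr χ : G → ℂ) :=
  fun a g => congrArg conj (h a g)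

/-- An invariant class contains a fixed point. -/
lemma exists_fixed_isConj (hA : IsPGroup p A) (hG : ¬ p ∣ Nat.card G) (h : IsFixed φ ι) {g : G}
    (hg : ∀ a : A, IsConj g (φ a g)) : ∃ c : C, IsConj g (ι c) := by
  classical
  let α : Type u := {x : G // IsConj g x}
  have hmem : ∀ (a : A) (x : α), IsConj g (φ a x.1) := fun a x =>
    (hg a).trans ((φ a).toMonoidHom.map_isConj x.2)
  letI act : MulAction A α :=
    { smul := fun a x => ⟨φ a x.1, hmem a x⟩
      one_smul := fun x => Subtype.ext (by show φ 1 x.1 = x.1; rw [map_one]; rfl)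
      mul_smul := fun a b x => Subtype.ext (by
        show φ (a * b) x.1 = φ a (φ b x.1); rw [map_mul]; rfl) }
  have hnd : ¬ p ∣ Nat.card α := fun hd => hG (hd.trans (by
    rw [show Nat.card α = (Subgroup.centralizer ({g} : Set G)).index from card_isConj g]
    exact Subgroup.index_dvd_card _))
  obtain ⟨x, hx⟩ := hA.nonempty_fixed_point_of_prime_not_dvd_card α hnd
  obtain ⟨c, hc⟩ := (h.mem_iff x.1).1 fun a => congrArg Subtype.val (hx a)
  exact ⟨c, hc ▸ x.2⟩

/-- A constituent multiplicity divides the degree. -/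
lemma exists_mult_dvd_deg (N : Subgroup G) [N.Normal] [Fintype N] (χ : IrrCharacter G)
    (θ : IrrCharacter N) {e : ℕ}
    (he : classInner (fun n : N => (χ : G → ℂ) n) (θ : N → ℂ) = (e : ℂ)) (h0 : e ≠ 0) :
    e ∣ deg (χ : G → ℂ) := by
  classical
  have hne : classInner (fun n : N => (χ : G → ℂ) n) (θ : N → ℂ) ≠ 0 := by
    rw [he]; exact_mod_cast h0
  have hcl := congrFun (clifford N χ.2 θ.2 hne) 1
  rw [he, Pi.smul_apply, Finset.sum_apply, smul_eq_mul] at hcl
  simp only [OneMemClass.coe_one, irr_apply_one_eq_deg] at hcl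
  have hnat : ∀ ψ ∈ conjOrbit N (θ : N → ℂ), ψ 1 = (deg ψ : ℂ) := fun ψ hψ => by
    obtain ⟨g, rfl⟩ := (mem_conjOrbit N).1 hψ
    exact IsCharacter.apply_one_eq_deg (isCharacter_of_irr (IsIrrCharacter.conjN θ.2 g))
  rw [Finset.sum_congr rfl hnat, ← Nat.cast_sum, ← Nat.cast_mul, Nat.cast_inj] at hcl
  exact Dvd.intro _ hcl.symm

end General

section Fixed

variable {G : Type u} [Group G] [Fintype G]

/-- The fixed points of a group of automorphisms. -/
def fixedSubgroup (T : Subgroup (MulAut G)) : Subgroup G where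
  carrier := {g | ∀ t ∈ T, t g = g}
  mul_mem' := fun {a b} ha hb t ht => by rw [map_mul, ha t ht, hb t ht]
  one_mem' := fun t _ => map_one t
  inv_mem' := fun {a} ha t ht => by rw [map_inv, ha t ht]

lemma mem_fixedSubgroup {T : Subgroup (MulAut G)} {g : G} :
    g ∈ fixedSubgroup T ↔ ∀ t ∈ T, t g = g := Iff.rfl

lemma isFixed_fixedSubgroup (T : Subgroup (MulAut G)) :
    IsFixed T.subtype (fixedSubgroup T).subtype :=
  ⟨Subtype.val_injective, fun g =>
    ⟨fun h => ⟨⟨g, fun t ht => h ⟨t, ht⟩⟩, rfl⟩, fun ⟨c, hc⟩ a => hc ▸ c.2 a.1 a.2⟩⟩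

instance finite_mulAut : Finite (MulAut G) :=
  Finite.of_injective (fun e : MulAut G => (e : G → G)) DFunLike.coe_injective

/-- A nontrivial solvable group of automorphisms contains a nontrivial normalised `p`-subgroup. -/
lemma exists_normal_pgroup (A : Subgroup (MulAut G)) (hs : Group.IsSolvable A) (hne : A ≠ ⊥) :
    ∃ (p : ℕ) (T : Subgroup (MulAut G)), p.Prime ∧ T ≤ A ∧ T ≠ ⊥ ∧ IsPGroup p T ∧
      ∀ a ∈ A, ∀ t ∈ T, a * t * a⁻¹ ∈ T := by
  classical
  haveI : Nontrivial A := (Subgroup.nontrivial_iff_ne_bot A).2 hne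
  obtain ⟨n, hn⟩ := hs.solvable
  -- the last nontrivial derived term
  obtain ⟨k, hk, hk1⟩ : ∃ k, derivedSeries A k ≠ ⊥ ∧ derivedSeries A (k + 1) = ⊥ := by
    induction n with
    | zero => exact absurd hn (by simp [derivedSeries_zero])
    | succ n ih =>
      by_cases h : derivedSeries A n = ⊥
      · exact ih h
      · exact ⟨n, h, hn⟩
  set E := derivedSeries A k with hE
  haveI : E.Normal := derivedSeries_normal A k
  have hcomm : ∀ x ∈ E, ∀ y ∈ E, x * y = y * x := fun x hx y hy => by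
    have := Subgroup.commutator_mem_commutator hx hy
    rw [← derivedSeries_succ, hk1, Subgroup.mem_bot, commutatorElement_eq_one_iff_mul_comm] at this
    exact this
  have hEne : Nat.card E ≠ 1 := fun h => hk (Subgroup.eq_bot_of_card_eq _ h)
  obtain ⟨q, hq, hqd⟩ := Nat.exists_prime_and_dvd hEne
  haveI := Fact.mk hq
  obtain ⟨z, hz⟩ := exists_prime_orderOf_dvd_card' q hqd
  let T : Subgroup (MulAut G) :=
    { carrier := {t | ∃ h : t ∈ A, (⟨t, h⟩ : A) ∈ E ∧ t ^ q = 1}
      one_mem' := ⟨A.one_mem, E.one_mem, one_pow q⟩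
      mul_mem' := fun {a b} ⟨ha, hae, hap⟩ ⟨hb, hbe, hbp⟩ => ⟨A.mul_mem ha hb, E.mul_mem hae hbe, by
        have hc : Commute a b := congrArg Subtype.val (hcomm _ hae _ hbe)
        rw [hc.mul_pow, hap, hbp, one_mul]⟩
      inv_mem' := fun {a} ⟨ha, hae, hap⟩ => ⟨A.inv_mem ha, E.inv_mem hae, by
        rw [inv_pow, hap, inv_one]⟩ }
  refine ⟨q, T, hq, fun t ⟨ht, _⟩ => ht, fun hbot => ?_, fun t => ⟨1, ?_⟩, fun a ha t ⟨ht, hte, htp⟩ => ?_⟩
  · have hmem : ((z : A) : MulAut G) ∈ T := ⟨(z : A).2, z.2, by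
      have := congrArg (fun x : E => ((x : A) : MulAut G)) (pow_orderOf_eq_one z)
      rw [hz] at this
      simpa using this⟩
    rw [hbot, Subgroup.mem_bot] at hmem
    have h1 : z = 1 := Subtype.ext (Subtype.ext hmem)
    rw [h1, orderOf_one] at hz
    exact hq.ne_one hz.symm
  · obtain ⟨ht, hte, htp⟩ := t.2
    exact Subtype.ext (by rw [pow_one]; exact htp)
  · refine ⟨A.mul_mem (A.mul_mem ha ht) (A.inv_mem ha),
      ‹E.Normal›.conj_mem _ hte ⟨a, ha⟩, ?_⟩
    rw [conj_pow, htp, mul_one, mul_inv_cancel]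

/-- The action of the normaliser on the fixed points. -/
noncomputable def restrictAut (A T : Subgroup (MulAut G)) (hn : ∀ a ∈ A, ∀ t ∈ T, a * t * a⁻¹ ∈ T) :
    A →* MulAut (fixedSubgroup T) :=
  have hmem : ∀ (a : A) (g : fixedSubgroup T), (a : MulAut G) (g : G) ∈ fixedSubgroup T :=
    fun a g t ht => by
      have h1 : (a⁻¹ : A).1 * t * ((a⁻¹ : A).1)⁻¹ ∈ T := hn _ (a⁻¹).2 t ht
      have h2 := g.2 _ h1
      rw [Subgroup.coe_inv, inv_inv, MulAut.mul_apply, MulAut.mul_apply] at h2
      have h3 := congrArg (a : MulAut G) h2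
      rwa [← MulAut.mul_apply, mul_inv_cancel, MulAut.one_apply] at h3
  { toFun := fun a =>
      { toFun := fun g => ⟨(a : MulAut G) g, hmem a g⟩
        invFun := fun g => ⟨(a : MulAut G)⁻¹ g, hmem a⁻¹ g⟩
        left_inv := fun g => Subtype.ext (by simp)
        right_inv := fun g => Subtype.ext (by simp)
        map_mul' := fun g g' => Subtype.ext (map_mul _ _ _) }
    map_one' := MulEquiv.ext fun g => Subtype.ext rfl
    map_mul' := fun a b => MulEquiv.ext fun g => Subtype.ext rfl }

lemma restrictAut_apply (A T : Subgroup (MulAut G)) (hn : ∀ a ∈ A, ∀ t ∈ T, a * t * a⁻¹ ∈ T)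
    (a : A) (g : fixedSubgroup T) :
    ((restrictAut A T hn a g : fixedSubgroup T) : G) = (a : MulAut G) g := rfl

lemma card_range_restrictAut_lt (A T : Subgroup (MulAut G))
    (hn : ∀ a ∈ A, ∀ t ∈ T, a * t * a⁻¹ ∈ T) (hTA : T ≤ A) (hT : T ≠ ⊥) :
    Nat.card (restrictAut A T hn).range < Nat.card A ∧
      Nat.card (restrictAut A T hn).range ∣ Nat.card A := by
  have hle : T.subgroupOf A ≤ (restrictAut A T hn).ker := fun t ht =>
    MonoidHom.mem_ker.2 (MulEquiv.ext fun g => Subtype.ext (g.2 _ ht))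
  have hker : (restrictAut A T hn).ker ≠ ⊥ := fun h => hT (by
    rw [h, le_bot_iff, Subgroup.subgroupOf_eq_bot, disjoint_iff, inf_of_le_left hTA] at hle
    exact hle)
  have hcard := (restrictAut A T hn).ker.card_mul_index
  rw [Subgroup.index_ker] at hcard
  refine ⟨?_, Dvd.intro_left _ hcard⟩
  have h2 : 2 ≤ Nat.card (restrictAut A T hn).ker := by
    have := Subgroup.one_lt_card_iff_ne_bot (restrictAut A T hn).ker |>.2 hker
    omega
  have hpos : 0 < Nat.card (restrictAut A T hn).range := Nat.card_pos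
  calc _ < 2 * Nat.card (restrictAut A T hn).range := by omega
    _ ≤ Nat.card (restrictAut A T hn).ker * Nat.card (restrictAut A T hn).range :=
      Nat.mul_le_mul_right _ h2
    _ = Nat.card A := hcard

/-- Invariant characters of a group of automorphisms. -/
def InvSub {β : Type*} (A : Subgroup (MulAut G)) (f : G → β) : Prop :=
  ∀ a ∈ A, ∀ g : G, f (a g) = f g

lemma twist_mul (e e' : MulAut G) (χ : IrrCharacter G) :
    twist e' (twist e χ) = twist (e * e') χ := Subtype.ext rfl

lemma inv_twist {A T : Subgroup (MulAut G)} (hn : ∀ a ∈ A, ∀ t ∈ T, a * t * a⁻¹ ∈ T)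
    {χ : IrrCharacter G} (hχ : Inv T.subtype (χ : G → ℂ)) (a : A) :
    Inv T.subtype (twist (a : MulAut G) χ : G → ℂ) := fun t g => by
  rw [twist_apply, twist_apply]
  have h := hχ ⟨_, hn a.1 a.2 t.1 t.2⟩ ((a : MulAut G) g)
  rw [Subgroup.coe_subtype] at h
  simp only [MulAut.mul_apply, MulAut.inv_apply_self] at h
  exact h

/-- One step of the induction: the invariant characters of `G` and of the fixed points of `T`. -/
lemma step_chars {A T : Subgroup (MulAut G)} (hn : ∀ a ∈ A, ∀ t ∈ T, a * t * a⁻¹ ∈ T) (hTA : T ≤ A)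
    {p : ℕ} [Fact p.Prime] (hT : IsPGroup p T) (hG : ¬ p ∣ Nat.card G) :
    Nat.card {χ : IrrCharacter G // InvSub A (χ : G → ℂ)} =
      Nat.card {β : IrrCharacter (fixedSubgroup T) //
        InvSub (restrictAut A T hn).range (β : fixedSubgroup T → ℂ)} := by
  classical
  letI := Fintype.ofFinite (fixedSubgroup T)
  have hfix := isFixed_fixedSubgroup T
  have hinvT : ∀ {χ : IrrCharacter G}, InvSub A (χ : G → ℂ) → Inv T.subtype (χ : G → ℂ) :=
    fun h t g => h t.1 (hTA t.2) g
  have hex := fun χ : {χ : IrrCharacter G // InvSub A (χ : G → ℂ)} =>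
    (existsUnique_corr hT hG hfix (hinvT χ.2)).exists
  choose f hf using hex
  have hinvf : ∀ χ, InvSub (restrictAut A T hn).range (f χ : fixedSubgroup T → ℂ) := by
    rintro χ _ ⟨a, rfl⟩ g
    have h1 := corr_twist (a : MulAut G) (restrictAut A T hn a) (fun c => rfl) (hf χ)
    have h2 : twist (a : MulAut G) χ.1 = χ.1 := Subtype.ext (funext fun x => χ.2 a.1 a.2 x)
    rw [h2] at h1
    exact congrFun (congrArg Subtype.val
      ((existsUnique_corr hT hG hfix (hinvT χ.2)).unique h1 (hf χ))) g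
  refine Nat.card_eq_of_bijective (fun χ => ⟨f χ, hinvf χ⟩) ⟨fun χ χ' h => ?_, fun β => ?_⟩
  · exact Subtype.ext (corr_injective hT hG hfix (hinvT χ.2) (hinvT χ'.2) (hf χ)
      (by rw [show f χ = f χ' from congrArg Subtype.val h]; exact hf χ'))
  · obtain ⟨χ, hχT, hχ⟩ := corr_surjective hT hG hfix β.1
    have hχA : InvSub A (χ : G → ℂ) := fun a ha g => by
      have h1 := corr_twist a (restrictAut A T hn ⟨a, ha⟩) (fun c => rfl) hχ
      have h2 : twist (restrictAut A T hn ⟨a, ha⟩) β.1 = β.1 :=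
        Subtype.ext (funext fun x => β.2 _ ⟨⟨a, ha⟩, rfl⟩ x)
      rw [h2] at h1
      exact congrFun (congrArg Subtype.val
        (corr_injective hT hG hfix (inv_twist hn hχT ⟨a, ha⟩) hχT h1 hχ)) g
    exact ⟨⟨χ, hχA⟩, Subtype.ext
      ((existsUnique_corr hT hG hfix hχT).unique (hf ⟨χ, hχA⟩) hχ)⟩

/-- Invariant classes. -/
def InvClass (A : Subgroup (MulAut G)) (K : ConjClasses G) : Prop :=
  ∀ a ∈ A, ∀ g : G, ConjClasses.mk g = K → ConjClasses.mk (a g) = K

/-- One step of the induction for classes. -/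
lemma step_classes {A T : Subgroup (MulAut G)} (hn : ∀ a ∈ A, ∀ t ∈ T, a * t * a⁻¹ ∈ T) (hTA : T ≤ A)
    {p : ℕ} [Fact p.Prime] (hT : IsPGroup p T) (hG : ¬ p ∣ Nat.card G) :
    Nat.card {K : ConjClasses G // InvClass A K} =
      Nat.card {L : ConjClasses (fixedSubgroup T) // InvClass (restrictAut A T hn).range L} := by
  classical
  letI := Fintype.ofFinite (fixedSubgroup T)
  have hfix := isFixed_fixedSubgroup T
  have hinj : ∀ {c c' : fixedSubgroup T}, IsConj (c : G) (c' : G) → IsConj c c' :=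
    fun h => isConj_of_isConj_iota hT hG hfix h
  refine (Nat.card_eq_of_bijective
    (fun L : {L : ConjClasses (fixedSubgroup T) // InvClass (restrictAut A T hn).range L} =>
      (⟨ConjClasses.map (fixedSubgroup T).subtype L.1, ?_⟩ : {K : ConjClasses G // InvClass A K}))
    ⟨?_, ?_⟩).symm
  · obtain ⟨c, hc⟩ := ConjClasses.exists_rep L.1
    intro a ha g hg
    rw [← hc] at hg ⊢
    have h1 : IsConj g ((c : fixedSubgroup T) : G) := ConjClasses.mk_eq_mk_iff_isConj.1 hg
    have h2 := L.2 _ ⟨⟨a, ha⟩, rfl⟩ c hc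
    rw [← hc, ConjClasses.mk_eq_mk_iff_isConj] at h2
    exact ConjClasses.mk_eq_mk_iff_isConj.2
      ((a.toMonoidHom.map_isConj h1).trans ((fixedSubgroup T).subtype.map_isConj h2))
  · rintro ⟨L, hL⟩ ⟨L', hL'⟩ h
    have h' : ConjClasses.map (fixedSubgroup T).subtype L =
        ConjClasses.map (fixedSubgroup T).subtype L' := congrArg Subtype.val h
    obtain ⟨c, rfl⟩ := ConjClasses.exists_rep L
    obtain ⟨c', rfl⟩ := ConjClasses.exists_rep L'
    exact Subtype.ext (ConjClasses.mk_eq_mk_iff_isConj.2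
      (hinj (ConjClasses.mk_eq_mk_iff_isConj.1 h')))
  · rintro ⟨K, hK⟩
    obtain ⟨g, rfl⟩ := ConjClasses.exists_rep K
    obtain ⟨c, hc⟩ := exists_fixed_isConj hT hG hfix
      fun t => (ConjClasses.mk_eq_mk_iff_isConj.1 (hK t.1 (hTA t.2) g rfl)).symm
    refine ⟨⟨ConjClasses.mk c, ?_⟩, Subtype.ext (ConjClasses.mk_eq_mk_iff_isConj.2 hc.symm)⟩
    rintro _ ⟨a, rfl⟩ d hd
    have h1 : IsConj (d : G) ((c : fixedSubgroup T) : G) :=
      (fixedSubgroup T).subtype.map_isConj (ConjClasses.mk_eq_mk_iff_isConj.1 hd)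
    refine ConjClasses.mk_eq_mk_iff_isConj.2 (hinj ?_)
    exact (ConjClasses.mk_eq_mk_iff_isConj.1 (hK a.1 a.2 (d : G)
      (ConjClasses.mk_eq_mk_iff_isConj.2 (h1.trans hc.symm)))).trans hc

lemma not_dvd_of_coprime {A T : Subgroup (MulAut G)} (hTA : T ≤ A) (hT : T ≠ ⊥) {p : ℕ}
    [Fact p.Prime] (hTp : IsPGroup p T) (hcop : (Nat.card G).Coprime (Nat.card A)) :
    ¬ p ∣ Nat.card G := fun hd => by
  obtain ⟨n, hn⟩ := hTp.exists_card_eq
  have h1 : p ∣ Nat.card T := by
    rw [hn]
    refine dvd_pow_self p fun h0 => hT (Subgroup.eq_bot_of_card_eq _ ?_)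
    rw [hn, h0, pow_zero]
  exact Nat.not_coprime_of_dvd_of_dvd (Fact.out : p.Prime).one_lt hd
    (h1.trans (Subgroup.card_dvd_of_le hTA)) hcop

end Fixed

/-- **Invariant characters are as many as invariant classes.** -/
theorem card_inv_chars_eq (n : ℕ) : ∀ (G : Type u) [Group G] [Fintype G] (A : Subgroup (MulAut G)),
    Nat.card A = n → Group.IsSolvable A → (Nat.card G).Coprime (Nat.card A) →
      Nat.card {χ : IrrCharacter G // InvSub A (χ : G → ℂ)} =
        Nat.card {K : ConjClasses G // InvClass A K} := by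
  induction n using Nat.strong_induction_on with
  | _ n ih =>
    intro G _ _ A hn hs hcop
    classical
    by_cases hA : A = ⊥
    · subst hA
      have h1 : ∀ χ : IrrCharacter G, InvSub ⊥ (χ : G → ℂ) := fun χ a ha g => by
        rw [Subgroup.mem_bot.1 ha]; rfl
      have h2 : ∀ K : ConjClasses G, InvClass ⊥ K := fun K a ha g hg => by
        rw [Subgroup.mem_bot.1 ha]; exact hg
      rw [Nat.card_congr (Equiv.subtypeUnivEquiv h1), Nat.card_congr (Equiv.subtypeUnivEquiv h2),
        card_irrCharacter]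
    obtain ⟨p, T, hp, hTA, hT, hTp, hnorm⟩ := exists_normal_pgroup A hs hA
    haveI := Fact.mk hp
    have hG := not_dvd_of_coprime hTA hT hTp hcop
    letI := Fintype.ofFinite (fixedSubgroup T)
    obtain ⟨hlt, hdvd⟩ := card_range_restrictAut_lt A T hnorm hTA hT
    rw [step_chars hnorm hTA hTp hG, step_classes hnorm hTA hTp hG]
    refine ih _ (hn ▸ hlt) (fixedSubgroup T) _ rfl
      (Group.isSolvable_of_surjective (restrictAut A T hnorm).rangeRestrict_surjective) ?_
    exact (hcop.coprime_dvd_left (Subgroup.card_subgroup_dvd_card _)).coprime_dvd_right hdvd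

/-- **Invariant characters lie over invariant characters.** -/
theorem exists_inv_over (n : ℕ) : ∀ (G : Type u) [Group G] [Fintype G] (A : Subgroup (MulAut G))
    (N : Subgroup G) [N.Normal] [Fintype N],
    Nat.card A = n → Group.IsSolvable A → (Nat.card G).Coprime (Nat.card A) →
    ∀ (hAN : ∀ a ∈ A, ∀ x ∈ N, a x ∈ N) (θ : IrrCharacter N),
      (∀ a, ∀ ha : a ∈ A, ∀ x : N, (θ : N → ℂ) ⟨a x, hAN a ha x x.2⟩ = (θ : N → ℂ) x) →
      ∃ χ : IrrCharacter G, classInner (fun x : N => (χ : G → ℂ) x) (θ : N → ℂ) ≠ 0 ∧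
        InvSub A (χ : G → ℂ) := by
  induction n using Nat.strong_induction_on with
  | _ n ih =>
    intro G _ _ A N _ _ hn hs hcop hAN θ hθ
    classical
    by_cases hA : A = ⊥
    · subst hA
      have hcf : ∀ χ : IrrCharacter G, classInner (indFun N (θ : N → ℂ)) (χ : G → ℂ) =
          classInner (θ : N → ℂ) (fun x : N => (χ : G → ℂ) x) := fun χ =>
        frobenius_reciprocity N _ (isClassFunction_isChar (isCharacter_of_irr χ.2))
      obtain ⟨m, hm⟩ := IsCharacter.exists_decomp (IsCharacter.indFun (G := G)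
        (isCharacter_of_irr θ.2))
      obtain ⟨χ, hχ⟩ : ∃ χ, m χ ≠ 0 := by
        by_contra hc
        push Not at hc
        have h1 := congrFun hm 1
        rw [indFun_one, Finset.sum_eq_zero (fun χ _ => by rw [hc χ, zero_smul]), Pi.zero_apply,
          irr_apply_one_eq_deg] at h1
        exact mul_ne_zero (Nat.cast_ne_zero.2 Subgroup.index_ne_zero_of_finite)
          (Nat.cast_ne_zero.2 (deg_irr_pos θ).ne') h1
      refine ⟨χ, fun h0 => hχ ?_, fun a ha g => by rw [Subgroup.mem_bot.1 ha]; rfl⟩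
      have h1 := hcf χ
      have h0' : classInner (θ : N → ℂ) (fun x : N => (χ : G → ℂ) x) = 0 := by
        rw [← classInner_conj_symm, h0, map_zero]
      rw [h0', hm, show (∑ ψ : IrrCharacter G, m ψ • (ψ : G → ℂ)) =
        ∑ ψ : IrrCharacter G, (m ψ : ℂ) • (ψ : G → ℂ) by simp [Nat.cast_smul_eq_nsmul],
        classInner_irrSum] at h1
      exact_mod_cast h1
    obtain ⟨p, T, hp, hTA, hT, hTp, hnorm⟩ := exists_normal_pgroup A hs hA
    haveI := Fact.mk hp
    have hG := not_dvd_of_coprime hTA hT hTp hcop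
    have hGN : ¬ p ∣ Nat.card N := fun h => hG (h.trans (Subgroup.card_subgroup_dvd_card N))
    set Cf := fixedSubgroup T with hCf
    letI := Fintype.ofFinite Cf
    set CN := N.subgroupOf Cf with hCN
    haveI : CN.Normal := Subgroup.Normal.subgroupOf ‹N.Normal› Cf
    letI := Fintype.ofFinite CN
    have hfix := isFixed_fixedSubgroup T
    -- the action on `N`
    let φN : T →* MulAut N :=
      { toFun := fun t =>
          { toFun := fun x => ⟨(t : MulAut G) x, hAN t (hTA t.2) x x.2⟩
            invFun := fun x => ⟨(t : MulAut G)⁻¹ x, hAN _ (A.inv_mem (hTA t.2)) x x.2⟩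
            left_inv := fun x => Subtype.ext (by simp)
            right_inv := fun x => Subtype.ext (by simp)
            map_mul' := fun x y => Subtype.ext (map_mul _ _ _) }
        map_one' := MulEquiv.ext fun x => Subtype.ext rfl
        map_mul' := fun s t => MulEquiv.ext fun x => Subtype.ext rfl }
    let ιN : CN →* N :=
      { toFun := fun c => ⟨((c : Cf) : G), c.2⟩
        map_one' := rfl
        map_mul' := fun a b => rfl }
    have hfixN : IsFixed φN ιN :=
      ⟨fun a b h => Subtype.ext (Subtype.ext (congrArg (fun x : N => (x : G)) h)),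
        fun x => ⟨fun h => ⟨⟨⟨(x : G), fun t ht => congrArg Subtype.val (h ⟨t, ht⟩)⟩, x.2⟩, rfl⟩,
          fun ⟨c, hc⟩ t => Subtype.ext (by subst hc; exact (c : Cf).2 t.1 t.2)⟩⟩
    have hθT : Inv φN (θ : N → ℂ) := fun t x => hθ t.1 (hTA t.2) x
    obtain ⟨θs, hθs, huniq⟩ := existsUnique_corr hTp hGN hfixN hθT
    have hCNA : ∀ b ∈ (restrictAut A T hnorm).range, ∀ x ∈ CN, b x ∈ CN := by
      rintro _ ⟨a, rfl⟩ x hx
      exact hAN a.1 a.2 _ hx
    have hθsinv : ∀ b, ∀ hb : b ∈ (restrictAut A T hnorm).range, ∀ x : CN,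
        (θs : CN → ℂ) ⟨b x, hCNA b hb x x.2⟩ = (θs : CN → ℂ) x := by
      rintro b ⟨a, rfl⟩ x
      let e : MulAut N :=
        { toFun := fun y => ⟨(a : MulAut G) y, hAN a.1 a.2 y y.2⟩
          invFun := fun y => ⟨(a : MulAut G)⁻¹ y, hAN _ (A.inv_mem a.2) y y.2⟩
          left_inv := fun y => Subtype.ext (by simp)
          right_inv := fun y => Subtype.ext (by simp)
          map_mul' := fun y z => Subtype.ext (map_mul _ _ _) }
      let e' : MulAut CN :=
        { toFun := fun y => ⟨restrictAut A T hnorm a y, hCNA _ ⟨a, rfl⟩ y y.2⟩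
          invFun := fun y => ⟨restrictAut A T hnorm a⁻¹ y, hCNA _ ⟨a⁻¹, rfl⟩ y y.2⟩
          left_inv := fun y => Subtype.ext (Subtype.ext (by simp [restrictAut_apply]))
          right_inv := fun y => Subtype.ext (Subtype.ext (by simp [restrictAut_apply]))
          map_mul' := fun y z => Subtype.ext (map_mul _ _ _) }
      have h1 := corr_twist e e' (fun c => rfl) hθs
      rw [show twist e θ = θ from Subtype.ext (funext fun y => hθ a.1 a.2 y)] at h1
      exact congrFun (congrArg Subtype.val (huniq _ h1)) x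
    obtain ⟨hlt, hdvd⟩ := card_range_restrictAut_lt A T hnorm hTA hT
    obtain ⟨β, hβθ, hβinv⟩ := ih _ (hn ▸ hlt) Cf (restrictAut A T hnorm).range CN rfl
      (Group.isSolvable_of_surjective (restrictAut A T hnorm).rangeRestrict_surjective)
      ((hcop.coprime_dvd_left (Subgroup.card_subgroup_dvd_card _)).coprime_dvd_right hdvd)
      hCNA θs hθsinv
    obtain ⟨χ, hχT, hχβ⟩ := corr_surjective hTp hG hfix β
    have hχA : InvSub A (χ : G → ℂ) := fun a ha g => by
      have h1 := corr_twist a (restrictAut A T hnorm ⟨a, ha⟩) (fun c => rfl) hχβ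
      rw [show twist (restrictAut A T hnorm ⟨a, ha⟩) β = β from
        Subtype.ext (funext fun x => hβinv _ ⟨⟨a, ha⟩, rfl⟩ x)] at h1
      exact congrFun (congrArg Subtype.val
        (corr_injective hTp hG hfix (inv_twist hnorm hχT ⟨a, ha⟩) hχT h1 hχβ)) g
    refine ⟨χ, fun h0 => ?_, hχA⟩
    -- decompose the restriction to `CN` in two ways
    choose mC hmC using fun γ : IrrCharacter Cf => classInner_char_nat
      (IsCharacter.comp_hom (isCharacter_of_irr χ.2) Cf.subtype) (isCharacter_of_irr γ.2)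
    choose kC hkC using fun γ : IrrCharacter Cf => classInner_char_nat
      (IsCharacter.restrict (isCharacter_of_irr γ.2) CN) (isCharacter_of_irr θs.2)
    choose mN hmN using fun η : IrrCharacter N => classInner_char_nat
      (IsCharacter.restrict (isCharacter_of_irr χ.2) N) (isCharacter_of_irr η.2)
    choose kN hkN using fun η : IrrCharacter N => classInner_char_nat
      (IsCharacter.comp_hom (isCharacter_of_irr η.2) ιN) (isCharacter_of_irr θs.2)
    have hexpand : ∀ {H K : Type u} [Group H] [Fintype H] [Group K] [Fintype K] (f : K →* H)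
        (F : H → ℂ) (hF : IsCharacter H F) (ψ : IrrCharacter K) (a b : IrrCharacter H → ℕ),
        (∀ γ : IrrCharacter H, classInner F (γ : H → ℂ) = (a γ : ℂ)) →
        (∀ γ : IrrCharacter H, classInner (fun x : K => (γ : H → ℂ) (f x)) (ψ : K → ℂ) = (b γ : ℂ)) →
        classInner (fun x : K => F (f x)) (ψ : K → ℂ) = ((∑ γ, a γ * b γ : ℕ) : ℂ) := by
      intro H K _ _ _ _ f F hF ψ a b ha hb
      obtain ⟨m, hm⟩ := IsCharacter.exists_decomp hF
      have hm' : F = ∑ γ : IrrCharacter H, (m γ : ℂ) • (γ : H → ℂ) := by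
        rw [hm]; simp [Nat.cast_smul_eq_nsmul]
      have hma : ∀ γ, (m γ : ℂ) = (a γ : ℂ) := fun γ => by
        rw [← ha γ, hm', classInner_irrSum]
      rw [show (fun x : K => F (f x)) = ∑ γ : IrrCharacter H, (m γ : ℂ) • fun x : K => (γ : H → ℂ) (f x)
        from funext fun x => by rw [hm']; simp [Finset.sum_apply], classInner_sum_left, Nat.cast_sum]
      exact Finset.sum_congr rfl fun γ _ => by rw [classInner_smul_left, hma γ, hb γ, Nat.cast_mul]
    have e1 := hexpand CN.subtype _ (IsCharacter.comp_hom (isCharacter_of_irr χ.2) Cf.subtype) θs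
      mC kC hmC hkC
    have e2 := hexpand ιN _ (IsCharacter.restrict (isCharacter_of_irr χ.2) N) θs mN kN hmN hkN
    have eq : ((∑ γ, mC γ * kC γ : ℕ) : ZMod p) = ((∑ η, mN η * kN η : ℕ) : ZMod p) := by
      have h : (∑ γ, mC γ * kC γ : ℕ) = ∑ η, mN η * kN η := Nat.cast_injective (R := ℂ) (e1.symm.trans e2)
      rw [h]
    have hl : ((∑ γ, mC γ * kC γ : ℕ) : ZMod p) = (mC β : ZMod p) * (kC β : ZMod p) := by
      rw [Nat.cast_sum, Finset.sum_eq_single β (fun γ _ hne => ?_)
        (fun h => absurd (Finset.mem_univ _) h), Nat.cast_mul]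
      have h0' : p ∣ mC γ := by
        by_contra hd
        exact hne ((existsUnique_corr hTp hG hfix hχT).unique ⟨mC γ, hmC γ, hd⟩ hχβ)
      rw [Nat.cast_mul, (ZMod.natCast_eq_zero_iff _ _).2 h0', zero_mul]
    have hlne : (mC β : ZMod p) * (kC β : ZMod p) ≠ 0 := by
      obtain ⟨k, hk, hkd⟩ := hχβ
      have hk' : mC β = k := Nat.cast_injective (R := ℂ) ((hmC β).symm.trans hk)
      refine mul_ne_zero (fun h => hkd (hk' ▸ (ZMod.natCast_eq_zero_iff _ _).1 h)) fun h => ?_
      have hk0 : kC β ≠ 0 := fun h' => hβθ (by rw [hkC β, h', Nat.cast_zero])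
      exact hG (((ZMod.natCast_eq_zero_iff _ _).1 h).trans ((exists_mult_dvd_deg CN β θs (hkC β) hk0).trans
        ((IsIrrCharacter.deg_dvd β.2).trans (Subgroup.card_subgroup_dvd_card Cf))))
    letI act : MulAction T (IrrCharacter N) :=
      { smul := fun t η => twist (φN t⁻¹) η
        one_smul := fun η => Subtype.ext (funext fun x => by
          show (η : N → ℂ) (φN (1 : T)⁻¹ x) = _
          rw [inv_one, map_one]; rfl)
        mul_smul := fun s t η => Subtype.ext (funext fun x => by
          show (η : N → ℂ) (φN (s * t)⁻¹ x) = (η : N → ℂ) (φN t⁻¹ (φN s⁻¹ x))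
          rw [mul_inv_rev, map_mul]; rfl) }
    have hsmul : ∀ (t : T) (η : IrrCharacter N) (x : N),
        ((t • η : IrrCharacter N) : N → ℂ) x = (η : N → ℂ) (φN t⁻¹ x) := fun _ _ _ => rfl
    have hr : ((∑ η, mN η * kN η : ℕ) : ZMod p) = 0 := by
      rw [Nat.cast_sum, sum_eq_sum_fixed hTp (fun r => by
        rw [nsmul_eq_mul, ZMod.natCast_self, zero_mul]) _ fun t η => ?_]
      · refine Finset.sum_eq_zero fun η hη => ?_
        by_cases hηθ : η = θ
        · subst hηθ
          have : mN η = 0 := Nat.cast_injective (R := ℂ) (by rw [← hmN η, h0, Nat.cast_zero])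
          rw [this, zero_mul, Nat.cast_zero]
        · have hηT : Inv φN (η : N → ℂ) := fun t x => by
            have := congrFun (congrArg Subtype.val ((Finset.mem_filter.1 hη).2 t⁻¹)) x
            rw [hsmul, inv_inv] at this
            exact this
          have h0' : p ∣ kN η := by
            by_contra hd
            exact hηθ (corr_injective hTp hGN hfixN hηT hθT ⟨kN η, hkN η, hd⟩ hθs)
          rw [Nat.cast_mul, (ZMod.natCast_eq_zero_iff _ _).2 h0', mul_zero]
      · have h1 : mN (t • η) = mN η := Nat.cast_injective (R := ℂ) (by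
          rw [← hmN, ← hmN, classInner_def, classInner_def]
          congr 1
          refine Fintype.sum_equiv (φN t⁻¹).toEquiv _ _ fun x => ?_
          rw [hsmul]
          show _ = (χ : G → ℂ) (((t⁻¹ : T) : MulAut G) x) * _
          rw [show (χ : G → ℂ) (((t⁻¹ : T) : MulAut G) x) = (χ : G → ℂ) x from hχT t⁻¹ x]
          rfl)
        have h2 : kN (t • η) = kN η := Nat.cast_injective (R := ℂ) (by
          rw [← hkN, ← hkN]
          congr 1
          funext c
          rw [hsmul, apply_iota hfixN])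
        rw [h1, h2]
    exact hlne (hl ▸ eq.trans hr)

end Cfsg.Lib.Glauberman
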