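import Mathlib
import Cfsg.Agent.Blocks.GlaubermanSolvable

/-!
# Operators given by conjugation inside an ambient group
-/

set_option autoImplicit false
set_option linter.unusedSectionVars false

namespace Cfsg.Lib.Glauberman

open Cfsg.Lib.Chars Cfsg.Lib.Blocks
open scoped ComplexConjugate

universe u

variable {Γ : Type u} [Group Γ]

/-- Conjugation of `G` by the elements of `S`. -/
def opHom (G S : Subgroup Γ) (hnorm : ∀ s ∈ S, ∀ g ∈ G, s * g * s⁻¹ ∈ G) : S →* MulAut G where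
  toFun s :=
    { toFun := fun g => ⟨(s : Γ) * g * (s : Γ)⁻¹, hnorm s s.2 g g.2⟩
      invFun := fun g => ⟨(s : Γ)⁻¹ * g * (s : Γ)⁻¹⁻¹, hnorm _ (S.inv_mem s.2) g g.2⟩
      left_inv := fun g => Subtype.ext (by simp [mul_assoc])
      right_inv := fun g => Subtype.ext (by simp [mul_assoc])
      map_mul' := fun g h => Subtype.ext (by simp [mul_assoc]) }
  map_one' := MulEquiv.ext fun g => Subtype.ext (by simp)
  map_mul' s t := MulEquiv.ext fun g => Subtype.ext (by simp [mul_assoc])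

lemma coe_opHom (G S : Subgroup Γ) (hnorm : ∀ s ∈ S, ∀ g ∈ G, s * g * s⁻¹ ∈ G) (s : S) (g : G) :
    ((opHom G S hnorm s g : G) : Γ) = (s : Γ) * g * (s : Γ)⁻¹ := rfl

variable {G S : Subgroup Γ} (hnorm : ∀ s ∈ S, ∀ g ∈ G, s * g * s⁻¹ ∈ G)

lemma inv_opHom_iff {β : Type*} (f : G → β) :
    Inv (opHom G S hnorm) f ↔
      ∀ s ∈ S, ∀ g g' : G, (g' : Γ) = s * g * s⁻¹ → f g' = f g := by
  refine ⟨fun h s hs g g' he => ?_, fun h a g => h a.1 a.2 g _ rfl⟩
  rw [← h ⟨s, hs⟩ g]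
  exact congrArg f (Subtype.ext he)

lemma invSub_range_iff {β : Type*} [Fintype G] (f : G → β) :
    InvSub (opHom G S hnorm).range f ↔
      ∀ s ∈ S, ∀ g g' : G, (g' : Γ) = s * g * s⁻¹ → f g' = f g := by
  rw [← inv_opHom_iff hnorm]
  exact ⟨fun h a g => h _ ⟨a, rfl⟩ g, fun h => by rintro _ ⟨a, rfl⟩ g; exact h a g⟩

lemma invClass_range_iff [Fintype G] (K : ConjClasses G) :
    InvClass (opHom G S hnorm).range K ↔
      ∀ s ∈ S, ∀ g g' : G, (g' : Γ) = s * g * s⁻¹ → ConjClasses.mk g = K →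
        ConjClasses.mk g' = K := by
  refine ⟨fun h s hs g g' he hg => ?_, ?_⟩
  · rw [← h _ ⟨⟨s, hs⟩, rfl⟩ g hg]
    exact congrArg ConjClasses.mk (Subtype.ext he)
  · rintro h _ ⟨s, rfl⟩ g hg
    exact h s.1 s.2 g _ rfl hg

lemma range_coprime [Finite Γ] (hcop : (Nat.card G).Coprime (Nat.card S)) :
    (Nat.card G).Coprime (Nat.card (opHom G S hnorm).range) :=
  hcop.coprime_dvd_right (Subgroup.card_range_dvd _)

lemma isFixed_opHom [Fintype G] {C : Subgroup Γ} (hC : C = G ⊓ Subgroup.centralizer (S : Set Γ))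
    (hCG : C ≤ G) : IsFixed (opHom G S hnorm) (Subgroup.inclusion hCG) := by
  refine ⟨Subgroup.inclusion_injective hCG, fun g => ⟨fun h => ?_, ?_⟩⟩
  · refine ⟨⟨(g : Γ), hC ▸ ⟨g.2, Subgroup.mem_centralizer_iff.2 fun s hs => ?_⟩⟩, Subtype.ext rfl⟩
    have := congrArg Subtype.val (h ⟨s, hs⟩)
    rw [coe_opHom] at this
    exact mul_inv_eq_iff_eq_mul.1 this
  · rintro ⟨c, rfl⟩ a
    have hc : (c : Γ) ∈ G ⊓ Subgroup.centralizer (S : Set Γ) := hC ▸ c.2
    refine Subtype.ext ?_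
    rw [coe_opHom]
    exact mul_inv_eq_iff_eq_mul.2 (Subgroup.mem_centralizer_iff.1 hc.2 _ a.2)

/-- Real invariant characters. -/
theorem card_real_inv_chars [Fintype G] {p : ℕ} [Fact p.Prime] [Finite S] (hS : IsPGroup p S)
    (hG : ¬ p ∣ Nat.card G) {C : Subgroup Γ} [Fintype C]
    (hC : C = G ⊓ Subgroup.centralizer (S : Set Γ)) (hCG : C ≤ G) :
    Nat.card {θ : IrrCharacter G // (∀ k : G, ((θ : G → ℂ) k).im = 0) ∧
        Inv (opHom G S hnorm) (θ : G → ℂ)} =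
      Nat.card {K : ConjClasses G // (∀ g : G, ConjClasses.mk g = K → IsConj g g⁻¹) ∧
        InvClass (opHom G S hnorm).range K} := by
  classical
  have hfix := isFixed_opHom hnorm hC hCG
  have e1 : Nat.card {θ : IrrCharacter G // (∀ k : G, ((θ : G → ℂ) k).im = 0) ∧
      Inv (opHom G S hnorm) (θ : G → ℂ)} =
      Nat.card {β : IrrCharacter C // ∀ c : C, ((β : C → ℂ) c).im = 0} := by
    have hex := fun θ : {θ : IrrCharacter G // (∀ k : G, ((θ : G → ℂ) k).im = 0) ∧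
        Inv (opHom G S hnorm) (θ : G → ℂ)} => (existsUnique_corr hS hG hfix θ.2.2).exists
    choose f hf using hex
    have hreal : ∀ θ, ∀ c : C, ((f θ : C → ℂ) c).im = 0 := fun θ => by
      refine (conjIrr_eq_self_iff (f θ)).1 ?_
      have h1 := corr_conjIrr (hf θ)
      rw [(conjIrr_eq_self_iff θ.1).2 θ.2.1] at h1
      exact (existsUnique_corr hS hG hfix θ.2.2).unique h1 (hf θ)
    refine Nat.card_eq_of_bijective (fun θ => ⟨f θ, hreal θ⟩) ⟨fun θ θ' h => ?_, fun β => ?_⟩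
    · exact Subtype.ext (corr_injective hS hG hfix θ.2.2 θ'.2.2 (hf θ)
        (by rw [show f θ = f θ' from congrArg Subtype.val h]; exact hf θ'))
    · obtain ⟨χ, hχ, hχβ⟩ := corr_surjective hS hG hfix β.1
      have hr : ∀ k : G, ((χ : G → ℂ) k).im = 0 := by
        refine (conjIrr_eq_self_iff χ).1 ?_
        have h1 := corr_conjIrr hχβ
        rw [(conjIrr_eq_self_iff β.1).2 β.2] at h1
        exact corr_injective hS hG hfix (inv_conjIrr hχ) hχ h1 hχβ
      exact ⟨⟨χ, hr, hχ⟩, Subtype.ext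
        ((existsUnique_corr hS hG hfix hχ).unique (hf ⟨χ, hr, hχ⟩) hχβ)⟩
  rw [e1, card_real_irr]
  refine Nat.card_eq_of_bijective
    (fun L : {L : ConjClasses C // ∀ c : C, ConjClasses.mk c = L → IsConj c c⁻¹} =>
      (⟨ConjClasses.map (Subgroup.inclusion hCG) L.1, ?_, ?_⟩ :
        {K : ConjClasses G // (∀ g : G, ConjClasses.mk g = K → IsConj g g⁻¹) ∧
          InvClass (opHom G S hnorm).range K})) ⟨?_, ?_⟩
  · obtain ⟨c, hc⟩ := ConjClasses.exists_rep L.1
    intro g hg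
    rw [← hc] at hg
    have h1 : IsConj g (Subgroup.inclusion hCG c) := ConjClasses.mk_eq_mk_iff_isConj.1 hg
    have h2 : IsConj (Subgroup.inclusion hCG c) (Subgroup.inclusion hCG c⁻¹) :=
      (Subgroup.inclusion hCG).map_isConj (L.2 c hc)
    rw [map_inv] at h2
    obtain ⟨x, hx⟩ := isConj_iff.1 h1
    have h3 : IsConj g⁻¹ (Subgroup.inclusion hCG c)⁻¹ := isConj_iff.2 ⟨x, by rw [← hx]; group⟩
    exact h1.trans (h2.trans h3.symm)
  · obtain ⟨c, hc⟩ := ConjClasses.exists_rep L.1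
    rintro _ ⟨a, rfl⟩ g hg
    rw [← hc] at hg ⊢
    have h1 : IsConj g (Subgroup.inclusion hCG c) := ConjClasses.mk_eq_mk_iff_isConj.1 hg
    have h2 := (opHom G S hnorm a).toMonoidHom.map_isConj h1
    rw [MulEquiv.coe_toMonoidHom, apply_iota hfix] at h2
    exact ConjClasses.mk_eq_mk_iff_isConj.2 h2
  · rintro ⟨L, hL⟩ ⟨L', hL'⟩ h
    have h' : ConjClasses.map (Subgroup.inclusion hCG) L = ConjClasses.map (Subgroup.inclusion hCG) L' :=
      congrArg Subtype.val h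
    obtain ⟨c, rfl⟩ := ConjClasses.exists_rep L
    obtain ⟨c', rfl⟩ := ConjClasses.exists_rep L'
    exact Subtype.ext (ConjClasses.mk_eq_mk_iff_isConj.2
      (isConj_of_isConj_iota hS hG hfix (ConjClasses.mk_eq_mk_iff_isConj.1 h')))
  · rintro ⟨K, hKr, hK⟩
    obtain ⟨g, rfl⟩ := ConjClasses.exists_rep K
    obtain ⟨c, hc⟩ := exists_fixed_isConj hS hG hfix
      fun a => (ConjClasses.mk_eq_mk_iff_isConj.1 (hK _ ⟨a, rfl⟩ g rfl)).symm
    refine ⟨⟨ConjClasses.mk c, fun d hd => isConj_of_isConj_iota hS hG hfix ?_⟩,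
      Subtype.ext (ConjClasses.mk_eq_mk_iff_isConj.2 hc.symm)⟩
    rw [map_inv]
    have h1 : IsConj (Subgroup.inclusion hCG d) (Subgroup.inclusion hCG c) :=
      (Subgroup.inclusion hCG).map_isConj (ConjClasses.mk_eq_mk_iff_isConj.1 hd)
    exact hKr _ (ConjClasses.mk_eq_mk_iff_isConj.2 (h1.trans hc.symm))

end Cfsg.Lib.Glauberman
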