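import Mathlib
import Cfsg.Agent.Blocks.CoveringDefect
import Cfsg.Agent.Components.Cores
import Cfsg.Agent.Components.CoprimeKer
import Cfsg.Agent.Coprime.Sylow

/-!
# The block over an invariant character of `O_{p'}` of a `p`-solvable group
-/

set_option autoImplicit false
set_option linter.unusedSectionVars false

namespace Cfsg.Lib.Blocks

open Cfsg.Lib.Chars
open scoped ComplexConjugate

universe u

/-- Hall–Higman: with trivial `p'`-core, the `p`-core contains its centraliser. -/
theorem centralizer_pCore_le_of_isPSolvable {G : Type u} [Group G] [Finite G] (p : ℕ)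
    [hp : Fact p.Prime] (hsolv : Cfsg.IsPSolvable p G) (hO : Cfsg.pPrimeCore p G = ⊥) :
    Subgroup.centralizer (Cfsg.pCore p G : Set G) ≤ Cfsg.pCore p G := by
  obtain ⟨n, H, h0, hlast, hmono, hnorm, hstep⟩ := hsolv
  haveI hNn : (Cfsg.pCore p G).Normal := Components.pCore_normal' p
  set N := Cfsg.pCore p G with hN
  set C := Subgroup.centralizer (N : Set G) with hC
  haveI : C.Normal := hC ▸ inferInstance
  have key : ∀ i : Fin (n + 1), H i ⊓ C ≤ N := by
    intro i
    induction i using Fin.induction with
    | zero => rw [h0, bot_inf_eq]; exact bot_le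
    | succ i ih =>
      haveI := hnorm i.succ
      haveI := hnorm i.castSucc
      set M' := H i.succ ⊓ C with hM'
      set Z := H i.castSucc ⊓ C with hZ
      haveI : M'.Normal := Subgroup.normal_inf_normal _ _
      have hZM : Z ≤ M' := inf_le_inf_right _ (hmono Fin.castSucc_lt_succ.le)
      have hrel : Z.relIndex M' ∣ (H i.castSucc).relIndex (H i.succ) := by
        rw [show Z = H i.castSucc ⊓ M' by
          rw [hM', hZ, ← inf_assoc, inf_eq_left.2 (hmono Fin.castSucc_lt_succ.le)],
          Subgroup.inf_relIndex_right]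
        exact ⟨_, ((Subgroup.relIndex_mul_relIndex (H i.castSucc) (M' ⊔ H i.castSucc) (H i.succ)
          le_sup_right (sup_le inf_le_left (hmono Fin.castSucc_lt_succ.le))).symm.trans
          (by rw [Subgroup.relIndex_sup_right]))⟩
      have hcard : Nat.card Z * Z.relIndex M' = Nat.card M' := by
        rw [← Subgroup.relIndex_bot_left, Subgroup.relIndex_mul_relIndex _ _ _ bot_le hZM,
          Subgroup.relIndex_bot_left]
      have hZp : IsPGroup p Z := (Components.isPGroup_pCore p).to_le ih
      obtain ⟨a, ha⟩ := IsPGroup.iff_card.1 hZp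
      rcases hstep i with ⟨m, hm⟩ | hcop
      · rw [hm] at hrel
        obtain ⟨j, -, hj⟩ := (Nat.dvd_prime_pow hp.out).1 hrel
        exact Components.le_pCore (IsPGroup.of_card (n := a + j) (by rw [← hcard, ha, hj, pow_add]))
      · have hZc : ∀ z ∈ Z, ∀ x ∈ M', z * x = x * z := fun z hz x hx =>
          Subgroup.mem_centralizer_iff.1 hx.2 z (ih hz)
        have hr : (Z.relIndex M').Coprime p := Nat.Coprime.coprime_dvd_left hrel hcop
        haveI : (Z.subgroupOf M').Normal := ⟨fun z hz g => by
          have : g * z * g⁻¹ = z := Subtype.ext (by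
            push_cast
            rw [← hZc (z : G) hz g g.2, mul_inv_cancel_right])
          rw [this]; exact hz⟩
        obtain ⟨X, hX⟩ := Subgroup.exists_right_complement'_of_coprime
          (N := Z.subgroupOf M') (by
            rw [Nat.card_congr (Subgroup.subgroupOfEquivOfLe hZM).toEquiv, ha]
            exact hr.symm.pow_left a)
        have hXcard : Nat.card X = Z.relIndex M' := hX.symm.index_eq_card.symm
        have hXn : X.Normal := by
          refine Subgroup.normalizer_eq_top_iff.1 (top_le_iff.1 ?_)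
          rw [← hX.sup_eq_top]
          refine sup_le ?_ Subgroup.le_normalizer
          intro z hz
          rw [Subgroup.mem_normalizer_iff]
          intro x
          rw [show z * x = x * z from Subtype.ext (hZc z hz x x.2), mul_inv_cancel_right]
        haveI : (X.map M'.subtype).Normal := by
          haveI := hXn
          haveI : X.Characteristic := Subgroup.characteristic_iff_map_eq.2 fun φ => by
            apply Subgroup.eq_of_le_of_card_ge
            · intro y hy
              obtain ⟨x, hx, rfl⟩ := hy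
              have hq : QuotientGroup.mk' X (φ x) = 1 := by
                rw [← orderOf_eq_one_iff]
                refine Nat.eq_one_of_dvd_coprimes
                  (a := Z.relIndex M') (b := Nat.card (M' ⧸ X)) ?_ ?_ (orderOf_dvd_natCard _)
                · rw [← Subgroup.index_eq_card, hX.index_eq_card,
                    Nat.card_congr (Subgroup.subgroupOfEquivOfLe hZM).toEquiv, ha]
                  exact hr.pow_right a
                · refine (orderOf_map_dvd _ _).trans ?_
                  rw [← hXcard]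
                  exact (orderOf_map_dvd φ.toMonoidHom x).trans (Subgroup.orderOf_dvd_natCard X hx)
              exact (QuotientGroup.eq_one_iff _).1 hq
            · rw [Subgroup.card_map_of_injective φ.injective]
          infer_instance
        have hle : X.map M'.subtype ≤ Cfsg.pPrimeCore p G := Components.le_pPrimeCore (by
          rw [Subgroup.card_map_of_injective M'.subtype_injective, hXcard]; exact hr)
        rw [hO, le_bot_iff, Subgroup.map_eq_bot_iff_of_injective _ M'.subtype_injective] at hle
        rw [hle, Subgroup.card_bot] at hXcard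
        rw [← Cfsg.Lib.Coprime.eq_of_le_of_card_eq hZM (by rw [← hcard, ← hXcard, mul_one])]
        exact ih
  simpa [hlast] using key (Fin.last n)

variable {G : Type u} [Group G] [Fintype G] {M : Ideal AlgInt} {p : ℕ} [Fact p.Prime]

/-- An invariant character of a normal `p'`-subgroup is not killed by the Brauer map at a
`p`-subgroup. -/
lemma br_bi_singleton_ne_zero (hM : IsPModular p M) (N : Subgroup G) [N.Normal] [Fintype N]
    (hN : ¬ p ∣ Nat.card N) (θ : IrrCharacter N) (hinv : ∀ g : G, cjIrr N g θ = θ)
    {Q : Subgroup G} (hQ : IsPGroup p Q) : br Q (bi M N {θ}) ≠ 0 := by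
  classical
  intro h0
  haveI := charP_res hM
  let φ : Q →* MulAut N := MulAut.conjNormal.comp Q.subtype
  letI act : MulAction Q N :=
    { smul := fun k n => φ k n
      one_smul := fun n => show φ 1 n = n by rw [map_one]; rfl
      mul_smul := fun a b n => show φ (a * b) n = φ a (φ b n) by rw [map_mul]; rfl }
  have hint : Integral M (blockElem ({θ} : Set (IrrCharacter N))) := integral_blockElem_pPrime hM hN _
  set F : N → Res M := fun n => res M (blockCoeff ({θ} : Set (IrrCharacter N)) n) *
    res M ((θ : N → ℂ) n / (θ : N → ℂ) 1) with hF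
  have hdeg : IsUnitAt M ((θ : N → ℂ) 1) := by
    rw [irr_apply_one_eq_deg]
    refine isUnitAt_natCast hM fun h => hN (h.trans ?_)
    have := deg_dvd_index_of_le_ker θ.2 ⊥ (by intro k hk; rw [(Subgroup.mem_bot).1 hk])
    simpa using this
  have hmem : ∀ n : N, (θ : N → ℂ) n / (θ : N → ℂ) 1 ∈ place M := fun n => by
    rw [div_eq_mul_inv]
    exact mul_mem (isIntegral_mem_place hM (IsCharacter.isIntegral (isCharacter_of_irr θ.2) n))
      hdeg.inv.mem_place
  have hconj : ∀ (g : G) (n : N), (θ : N → ℂ) (MulAut.conjNormal g n) = (θ : N → ℂ) n := fun g n =>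
    congrFun (congrArg Subtype.val (hinv g)) n
  have hsum : ∑ n : N, F n = 1 := by
    have h := omega_blockElem ({θ} : Set (IrrCharacter N)) θ
    rw [if_pos (Set.mem_singleton θ)] at h
    have h' := congrArg (res M) h
    rw [res_one] at h'
    rw [← h', omega, chiEval, Finset.sum_div, res_sum]
    · refine Finset.sum_congr rfl fun n _ => ?_
      rw [fn_blockElem, hF, mul_div_assoc]
      exact (res_mul (by rw [← fn_blockElem]; exact hint n) (hmem n)).symm
    · intro n _
      rw [mul_div_assoc]
      exact mul_mem (hint n) (hmem n)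
  have hFinv : ∀ (k : Q) (n : N), F (k • n) = F n := by
    intro k n
    show F (MulAut.conjNormal (k : G) n) = F n
    simp only [hF]
    rw [hconj, ← blockCoeff_image (MulAut.conjNormal (k : G) : N ≃* N)]
    congr 3
    rw [Set.image_singleton]
    exact congrArg _ (hinv (k : G))
  rw [sum_eq_sum_fixed hQ (fun r => by rw [nsmul_eq_mul, CharP.cast_eq_zero, zero_mul]) F
    hFinv, Finset.sum_eq_zero] at hsum
  · exact zero_ne_one hsum
  · intro n hn
    have hnC : (n : G) ∈ Subgroup.centralizer (Q : Set G) :=
      Subgroup.mem_centralizer_iff.2 fun y hy => by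
        have := congrArg Subtype.val ((Finset.mem_filter.1 hn).2 ⟨y, hy⟩)
        change y * (n : G) * y⁻¹ = (n : G) at this
        exact mul_inv_eq_iff_eq_mul.1 this
    have h := congrArg (fun a => fn a (n : G)) h0
    simp only [fn_zero] at h
    rw [br, fn_trunc_mem _ hnC, bi, fn_ofFn, subgroupBlockCoeff, dif_pos n.2] at h
    rw [hF]
    exact mul_eq_zero_of_left h _

/-- **One block over an invariant character, of full defect.** -/
theorem block_over_invariant' (hM : IsPModular p M) (N L Q : Subgroup G) [N.Normal] [L.Normal]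
    [Fintype N] (hN : ¬ p ∣ Nat.card N) (hNL : N ≤ L)
    {k : ℕ} (hLN : (N.subgroupOf L).index = p ^ k) (hQ : IsPGroup p Q) (hQL : Q ≤ L)
    (hC : ∀ g ∈ Subgroup.centralizer (Q : Set G), ¬ p ∣ orderOf g → g ∈ N) (θ : IrrCharacter N)
    (hinv : ∀ g : G, cjIrr N g θ = θ) :
    ∃ B : Set (IrrCharacter G), IsPBlock M B ∧
      (∀ χ : IrrCharacter G, χ ∈ B ↔ classInner (fun n : N => (χ : G → ℂ) n) (θ : N → ℂ) ≠ 0) ∧
      blockDefect p B = (Nat.card G).factorization p := by
  classical
  letI := Fintype.ofFinite L
  haveI := charP_res hM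
  have hint : Integral M (blockElem ({θ} : Set (IrrCharacter N))) := integral_blockElem_pPrime hM hN _
  have hb : IsPBlock M ({θ} : Set (IrrCharacter N)) := by
    refine ⟨θ, Set.eq_singleton_iff_unique_mem.2 ⟨mem_blockOf_self hM θ, fun ψ hψ => ?_⟩ |>.symm⟩
    exact blockOf_subset_of_integral hM hint (Set.mem_singleton θ) hψ
  have hinvS : ∀ g : G, cjIrr N g '' ({θ} : Set (IrrCharacter N)) = {θ} := fun g => by
    rw [Set.image_singleton, hinv]
  have hreg : ∀ g ∈ L, ¬ p ∣ orderOf g → g ∈ N := fun g hg hgp => by
    haveI : (N.subgroupOf L).Normal := Subgroup.normal_subgroupOf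
    exact mem_of_pRegular_of_index_eq_pow hM.1 (N.subgroupOf L) hLN (g := ⟨g, hg⟩)
      (by rwa [Subgroup.orderOf_mk])
  set c : Set (IrrCharacter N) := {θ} with hc
  have hic : InvOn (⊤ : Subgroup G) (bi M N c) := by
    rw [← red_bx, invOn_top_iff]
    exact (isCentralFn_bx hinvS).red
  obtain ⟨E, hE, hEc⟩ := exists_block_overgroup hM hNL hreg hb (hic.mono le_top)
  -- the block idempotents over `θ` do not vanish under the Brauer map at `Q`
  have hbr : ∀ B : Set (IrrCharacter G), IsPBlock M B →
      (∃ χ ∈ B, ∃ θ' ∈ c, classInner (fun n : N => (χ : G → ℂ) n) (θ' : N → ℂ) ≠ 0) →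
      br Q (red M (blockElem B)) ≠ 0 := by
    intro B hB hcov h0
    set eB := red M (blockElem B) with heB
    have hec : InvOn (⊤ : Subgroup G) eB := invOn_top_iff.2 (isCentralFn_blockElem B).red
    have hBB : eB * eB = eB := by
      rw [heB, ← red_mul (integral_blockElem hM hB) (integral_blockElem hM hB), blockElem_mul_self]
    have hcomm : bi M N c * eB = eB * bi M N c :=
      ((hec.mono le_top).comm (suppOn_bi c)).symm
    have h1 : br Q (bi M L E) ≠ 0 := by rw [hEc]; exact br_bi_singleton_ne_zero hM N hN θ hinv hQ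
    refine br_ne_zero_of_graded hM (T := ⊤) le_top (fun t _ n hn => Subgroup.Normal.conj_mem ‹L.Normal› n hn t)
      hE hQ hQL h1 (e := eB * bi M N c) (fun g hg => absurd (Subgroup.mem_top g) hg)
      ((hec.mul hic).mono le_top) ?_ ?_ (red_mul_bi_ne_zero hM hB hb hcov) ?_
    · rw [mul_assoc, ← mul_assoc (bi M N c), hcomm, mul_assoc, bi_mul_self hM hb, ← mul_assoc, hBB]
    · rw [hEc, mul_assoc, bi_mul_self hM hb]
    · rw [br_mul hQ (hec.mono le_top) (hic.mono le_top), h0, zero_mul]
  -- classes outside `N` have small central characters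
  have hout : ∀ χ : IrrCharacter G, classInner (fun n : N => (χ : G → ℂ) n) (θ : N → ℂ) ≠ 0 →
      ∀ g : G, g ∉ N → ¬ p ∣ orderOf g → Small M (centralChar (χ : G → ℂ) g) := by
    intro χ hχ g hgN hgp
    by_contra hns
    have hne := hbr _ (isPBlock_blockOf χ) ⟨χ, mem_blockOf_self hM χ, θ, Set.mem_singleton θ, hχ⟩
    have hx : ∃ x ∈ Subgroup.centralizer (Q : Set G), ¬ Small M (blockCoeff (blockOf M (χ : G → ℂ)) x) := by
      by_contra h
      push Not at h
      refine hne (fn_ext fun x => ?_)
      by_cases hx : x ∈ Subgroup.centralizer (Q : Set G)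
      · rw [br, fn_trunc_mem _ hx, fn_red, fn_zero,
          res_eq_zero_iff (integral_blockElem hM (isPBlock_blockOf χ) x), fn_blockElem]
        exact h x hx
      · rw [br, fn_trunc_not_mem _ hx, fn_zero]
    obtain ⟨x, hx, hxs⟩ := hx
    obtain ⟨t, ht, htC⟩ := exists_isConj_mem_centralizer hM (isPBlock_blockOf χ) hQ hx hxs
      (mem_blockOf_self hM χ) hns
    obtain ⟨a, ha⟩ := isConj_iff.1 ht
    have htp : ¬ p ∣ orderOf t := by
      rw [← ha, show a * g * a⁻¹ = MulAut.conj a g from rfl,
        (MulAut.conj a).orderOf_eq]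
      exact hgp
    refine hgN ?_
    have h2 := Subgroup.Normal.conj_mem ‹N.Normal› t (hC t htC htp) a⁻¹
    rw [← ha] at h2
    simpa [mul_assoc] using h2
  -- a block of full defect
  obtain ⟨B, hB, hcov, hdef⟩ := exists_covering_large hM hb hinvS
  have hθd : blockDefect p c = 0 := by
    rw [blockDefect, Nat.factorization_eq_zero_of_not_dvd hN, Nat.zero_sub]
  have hidx : N.index.factorization p = (Nat.card G).factorization p := by
    rw [← N.card_mul_index, Nat.factorization_mul Nat.card_pos.ne'
      Subgroup.index_ne_zero_of_finite, Finsupp.add_apply,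
      Nat.factorization_eq_zero_of_not_dvd hN, zero_add]
  rw [hθd, zero_add, hidx] at hdef
  refine ⟨B, hB, fun χ => ⟨fun hχ => ?_, fun hχ => ?_⟩, hdef⟩
  · obtain ⟨θ', hθ', h⟩ := exists_constituent_mem hM hB hb hcov hχ
    rw [Set.mem_singleton_iff] at hθ'
    exact hθ' ▸ h
  · letI : Fintype (ConjClasses G) := Fintype.ofFinite _
    obtain ⟨χ₀, hχ₀⟩ := IsPBlock.nonempty hM hB
    have hχ₀c : classInner (fun n : N => (χ₀ : G → ℂ) n) (θ : N → ℂ) ≠ 0 := by
      obtain ⟨θ', hθ', h⟩ := exists_constituent_mem hM hB hb hcov hχ₀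
      rw [Set.mem_singleton_iff] at hθ'
      exact hθ' ▸ h
    by_contra hn
    have h1 : res M (omega (χ : G → ℂ) (blockElem B)) = res M (omega (χ₀ : G → ℂ) (blockElem B)) := by
      rw [omega_eq_sum_classes _ (isClassFunction_irr χ) (isCentralFn_blockElem B),
        omega_eq_sum_classes _ (isClassFunction_irr χ₀) (isCentralFn_blockElem B),
        res_sum _ _ fun C _ => mul_mem (integral_blockElem hM hB _) (centralChar_mem_place hM χ _),
        res_sum _ _ fun C _ => mul_mem (integral_blockElem hM hB _) (centralChar_mem_place hM χ₀ _)]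
      refine Finset.sum_congr rfl fun C _ => ?_
      rw [res_mul (integral_blockElem hM hB _) (centralChar_mem_place hM χ _),
        res_mul (integral_blockElem hM hB _) (centralChar_mem_place hM χ₀ _)]
      by_cases hs : p ∣ orderOf (crep C)
      · rw [fn_blockElem, blockCoeff_eq_zero_of_singular hM hB hs, res_zero, zero_mul, zero_mul]
      by_cases hCN : crep C ∈ N
      · rw [(constituent_iff_centralChar N χ θ).1 hχ ⟨_, hCN⟩,
          ← (constituent_iff_centralChar N χ₀ θ).1 hχ₀c ⟨_, hCN⟩]
      · rw [(res_eq_zero_iff (centralChar_mem_place hM χ _)).2 (hout χ hχ _ hCN hs),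
          (res_eq_zero_iff (centralChar_mem_place hM χ₀ _)).2 (hout χ₀ hχ₀c _ hCN hs)]
    rw [omega_blockElem, omega_blockElem, if_pos hχ₀, if_neg hn, res_zero, res_one] at h1
    exact zero_ne_one h1

/-- One block over an invariant character, with the centraliser in the `p'`-`p`-part. -/
theorem block_over_invariant (hM : IsPModular p M) (N L Q : Subgroup G) [N.Normal] [L.Normal]
    [Fintype N] (hN : ¬ p ∣ Nat.card N) (hNL : N ≤ L)
    {k : ℕ} (hLN : (N.subgroupOf L).index = p ^ k) (hQ : IsPGroup p Q) (hQL : Q ≤ L)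
    (hC : Subgroup.centralizer (Q : Set G) ≤ L) (θ : IrrCharacter N)
    (hinv : ∀ g : G, cjIrr N g θ = θ) :
    ∃ B : Set (IrrCharacter G), IsPBlock M B ∧
      (∀ χ : IrrCharacter G, χ ∈ B ↔ classInner (fun n : N => (χ : G → ℂ) n) (θ : N → ℂ) ≠ 0) ∧
      blockDefect p B = (Nat.card G).factorization p :=
  block_over_invariant' hM N L Q hN hNL hLN hQ hQL (fun g hg hgp => by
    letI := Fintype.ofFinite L
    haveI : (N.subgroupOf L).Normal := Subgroup.normal_subgroupOf
    exact mem_of_pRegular_of_index_eq_pow hM.1 (N.subgroupOf L) hLN (g := ⟨g, hC hg⟩)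
      (by rwa [Subgroup.orderOf_mk])) θ hinv

/-- **Fong**: over an invariant character of `O_{p'}` of a `p`-solvable group. -/
theorem pSolvable_block_over (hM : IsPModular p M) (hsolv : Cfsg.IsPSolvable p G) (N : Subgroup G)
    [N.Normal] [Fintype N] (hNdef : N = Cfsg.pPrimeCore p G) (θ : IrrCharacter N)
    (hinv : ∀ g : G, cjIrr N g θ = θ)
    (hsolvQ : Cfsg.IsPSolvable p (G ⧸ N)) :
    ∃ B : Set (IrrCharacter G), IsPBlock M B ∧
      (∀ χ : IrrCharacter G, χ ∈ B ↔ classInner (fun n : N => (χ : G → ℂ) n) (θ : N → ℂ) ≠ 0) ∧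
      (∀ P : Sylow p G, IsDefectGroup p M B (P : Subgroup G)) ∧
      ∀ D : Subgroup G, IsDefectGroup p M B D → ∃ P : Sylow p G, D = (P : Subgroup G) := by
  classical
  set π := QuotientGroup.mk' N with hπdef
  have hπ : Function.Surjective π := QuotientGroup.mk'_surjective N
  have hNcop : (Nat.card N).Coprime p := by rw [hNdef]; exact Components.coprime_card_pPrimeCore p
  have hN : ¬ p ∣ Nat.card N := (Fact.out : p.Prime).coprime_iff_not_dvd.1 hNcop.symm
  have hO : Cfsg.pPrimeCore p (G ⧸ N) = ⊥ := by
    rw [← Components.map_pPrimeCore_of_coprime_ker hπ (by rw [hπdef, QuotientGroup.ker_mk']; exact hNcop),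
      ← hNdef, hπdef, Subgroup.map_eq_bot_iff, QuotientGroup.ker_mk']
  set O := Cfsg.pCore p (G ⧸ N) with hOdef
  haveI : O.Normal := Components.pCore_normal' p
  set L := O.comap π with hL
  haveI : L.Normal := Subgroup.Normal.comap inferInstance π
  have hNL : N ≤ L := fun n hn => by
    show π n ∈ O
    rw [show π n = 1 from (QuotientGroup.eq_one_iff n).2 hn]
    exact one_mem _
  obtain ⟨k, hk⟩ := IsPGroup.iff_card.1 (Components.isPGroup_pCore (G := G ⧸ N) p)
  have hLN : (N.subgroupOf L).index = p ^ k := by
    show N.relIndex L = p ^ k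
    have e : (⊥ : Subgroup (G ⧸ N)).comap π = N := by
      rw [MonoidHom.comap_bot, hπdef, QuotientGroup.ker_mk']
    rw [← hk, congrArg (fun H => H.relIndex L) e.symm, Subgroup.relIndex_comap, hL,
      Subgroup.map_comap_eq_self_of_surjective hπ, Subgroup.relIndex_bot_left]
  obtain ⟨S⟩ := (inferInstance : Nonempty (Sylow p L))
  set Q := (S : Subgroup L).map L.subtype with hQdef
  have hQ : IsPGroup p Q := S.2.map _
  have hQL : Q ≤ L := Subgroup.map_subtype_le _
  have hQO : Q.map π = O := by
    refine Subgroup.eq_of_le_of_card_ge ((Subgroup.map_mono hQL).trans (Subgroup.map_comap_le _ _)) ?_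
    have hQc : Nat.card Q = p ^ k := by
      rw [hQdef, Subgroup.card_map_of_injective L.subtype_injective, S.card_eq_multiplicity,
        ← Subgroup.card_mul_index (N.subgroupOf L), hLN,
        Nat.card_congr (Subgroup.subgroupOfEquivOfLe hNL).toEquiv,
        Nat.factorization_mul Nat.card_pos.ne' (pow_ne_zero _ (Fact.out : p.Prime).ne_zero),
        Finsupp.add_apply, Nat.factorization_eq_zero_of_not_dvd hN, zero_add,
        (Fact.out : p.Prime).factorization_pow, Finsupp.single_eq_same]
    have hinj : Function.Injective (π.comp Q.subtype) := by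
      rw [injective_iff_map_eq_one]
      intro x hx
      have hxN : (x : G) ∈ N := (QuotientGroup.eq_one_iff _).1 hx
      apply Subtype.ext
      exact Cfsg.Lib.Coprime.eq_one_of_coprime
        (by rw [hQc]; exact hNcop.pow_right k) hxN x.2
    rw [hk, show Q.map π = (π.comp Q.subtype).range by
      rw [MonoidHom.range_eq_map, ← Subgroup.map_map, ← MonoidHom.range_eq_map, Subgroup.range_subtype],
      ← Nat.card_congr (MonoidHom.ofInjective hinj).toEquiv, hQc]
  have hC : Subgroup.centralizer (Q : Set G) ≤ L := by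
    intro g hg
    refine centralizer_pCore_le_of_isPSolvable p hsolvQ hO ?_
    rw [← hOdef, ← hQO, Subgroup.mem_centralizer_iff]
    rintro _ ⟨y, hy, rfl⟩
    rw [← map_mul, ← map_mul, Subgroup.mem_centralizer_iff.1 hg y hy]
  obtain ⟨B, hB, hiff, hdef⟩ := block_over_invariant hM N L Q hN hNL hLN hQ hQL hC θ hinv
  obtain ⟨D₀, hD₀⟩ := exists_defectGroup hM hB
  have hcardD : ∀ D : Subgroup G, IsDefectGroup p M B D →
      Nat.card D = p ^ (Nat.card G).factorization p := fun D hD => by
    rw [IsDefectGroup.card hM hB hD, hdef]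
  refine ⟨B, hB, hiff, fun P => ?_, fun D hD => ⟨Sylow.ofCard D (hcardD D hD), rfl⟩⟩
  obtain ⟨g, hg⟩ := MulAction.exists_smul_eq G (Sylow.ofCard D₀ (hcardD D₀ hD₀)) P
  rw [← hg, Sylow.coe_subgroup_smul]
  exact IsDefectGroup.conj hM hB hD₀ g

end Cfsg.Lib.Blocks
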