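import Mathlib
import Cfsg.Agent.Blocks.FongFullDefect
import Cfsg.Agent.GaschutzYen.Basic
import Cfsg.Agent.Blocks.Quotient

/-!
# The principal block of a `p`-solvable group
-/

set_option autoImplicit false
set_option linter.unusedSectionVars false

namespace Cfsg.Lib.Blocks

open Cfsg.Lib.Chars

universe u

variable {G : Type u} [Group G] [Fintype G] {M : Ideal AlgInt} {p : ℕ} [Fact p.Prime]

/-- The principal block consists of the characters trivial on the `p'`-core. -/
theorem mem_principalBlock_iff_of_isPSolvable (hM : IsPModular p M)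
    (hsolv : Cfsg.IsPSolvable p G) (χ : IrrCharacter G) :
    χ ∈ Cfsg.principalBlock M G ↔
      ∀ n ∈ Cfsg.pPrimeCore p G, (χ : G → ℂ) n = (χ : G → ℂ) 1 := by
  classical
  haveI hHn : (Cfsg.pPrimeCore p G).Normal := Components.pPrimeCore_normal' p
  set H := Cfsg.pPrimeCore p G with hH
  letI := Fintype.ofFinite H
  obtain ⟨B, hB, hiff, -⟩ := pSolvable_block_over hM hsolv H hH (principal H)
    (fun g => Subtype.ext (by rw [cjIrr_val]; rfl))
    (Cfsg.Lib.GaschutzYen.isPSolvable_quotient H hsolv)
  have hp1 : classInner (fun n : H => ((principal G : IrrCharacter G) : G → ℂ) n)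
      ((principal H : IrrCharacter H) : H → ℂ) ≠ 0 := by
    rw [show (fun n : H => ((principal G : IrrCharacter G) : G → ℂ) n) =
      ((principal H : IrrCharacter H) : H → ℂ) from rfl, classInner_irr_self]
    exact one_ne_zero
  have hBp : B = Cfsg.principalBlock M G :=
    IsPBlock.eq_of_mem_inter hM hB (isPBlock_blockOf (principal G)) ((hiff _).2 hp1)
      (mem_blockOf_self hM (principal G))
  rw [← hBp, hiff]
  constructor
  · intro h n hn
    have h1 := (constituent_iff_centralChar H χ (principal H)).1 h ⟨n, hn⟩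
    rw [← (constituent_iff_centralChar H (principal G) (principal H)).1 hp1 ⟨n, hn⟩] at h1
    simp only [centralChar, show ∀ x, ((principal G : IrrCharacter G) : G → ℂ) x = 1 from
      fun _ => rfl, mul_div_assoc, div_one] at h1
    have h2 := mul_left_cancel₀ (Nat.cast_ne_zero.2 Subgroup.index_ne_zero_of_finite) h1
    exact (div_eq_one_iff_eq (IsIrrCharacter.apply_one_ne_zero χ.2)).1 h2
  · intro h
    rw [classInner_def]
    refine mul_ne_zero (inv_ne_zero (Nat.cast_ne_zero.2 Nat.card_pos.ne')) ?_
    rw [Finset.sum_congr rfl fun (n : H) _ => by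
      rw [h n n.2, show ((principal H : IrrCharacter H) : H → ℂ) n = 1 from rfl, map_one,
        mul_one], Finset.sum_const, nsmul_eq_mul]
    exact mul_ne_zero (Nat.cast_ne_zero.2 (Finset.card_ne_zero.2 ⟨1, Finset.mem_univ _⟩))
      (IsIrrCharacter.apply_one_ne_zero χ.2)

end Cfsg.Lib.Blocks
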