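import Mathlib
import Cfsg.Agent.Blocks.Third
import Cfsg.Agent.Blocks.BrauerSum
import Cfsg.Agent.Blocks.Principal
import Cfsg.Agent.Blocks.Defect2
import Cfsg.Agent.Blocks.PrincipalSolvable
import Cfsg.Agent.Blocks.Covering
import Cfsg.Agent.Blocks.Quotient
import Cfsg.Agent.Blocks.Orth2

/-!
# The block parts of an induced character at the identity
-/

set_option autoImplicit false
set_option linter.unusedSectionVars false
set_option linter.style.haveILetI false

namespace Cfsg.Lib.Blocks

open Cfsg.Lib.Chars
open scoped ComplexConjugate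

universe u

variable {G : Type u} [Group G] [Fintype G] {p : ℕ} [hp : Fact p.Prime] {M : Ideal AlgInt}

theorem blockPart_indFun_one (H : Subgroup G) [Fintype H] (B : Set (IrrCharacter G))
    (ξ : IrrCharacter H) :
    Cfsg.blockPart B (Cfsg.indFun H (ξ : H → ℂ)) 1 =
      ((H.index : ℂ) * (ξ : H → ℂ) 1) * omega (ξ : H → ℂ) (resElem H (blockElem B)) := by
  classical
  have hξ1 : (ξ : H → ℂ) 1 ≠ 0 := IsIrrCharacter.apply_one_ne_zero ξ.2
  have hG : (Nat.card G : ℂ) = (Nat.card H : ℂ) * (H.index : ℂ) := by
    exact_mod_cast (H.card_mul_index).symm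
  have hH0 : (Nat.card H : ℂ) ≠ 0 := Nat.cast_ne_zero.2 Nat.card_pos.ne'
  have hI0 : (H.index : ℂ) ≠ 0 := Nat.cast_ne_zero.2 H.index_ne_zero_of_finite
  rw [omega, chiEval, mul_assoc, mul_div_cancel₀ _ hξ1, Finset.mul_sum]
  simp only [fn_resElem, fn_blockElem, blockCoeff_eq_sum]
  rw [blockPart_eq_sum]
  simp only [Finset.mul_sum, Finset.sum_mul]
  rw [Finset.sum_comm]
  refine Finset.sum_congr rfl fun χ _ => ?_
  rw [frobenius_reciprocity H _ (isClassFunction_irr χ), classInner_def, Finset.mul_sum,
    Finset.sum_mul]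
  refine Finset.sum_congr rfl fun h _ => ?_
  rw [hG]
  field_simp

theorem exists_nat_blockPart (H : Subgroup G) [Fintype H] (B : Set (IrrCharacter G))
    (ξ : IrrCharacter H) :
    ∃ m : IrrCharacter G → ℕ,
      (∀ χ : IrrCharacter G, Cfsg.classInner (fun h : H => (χ : G → ℂ) h) (ξ : H → ℂ) = m χ) ∧
      ∀ [DecidablePred (· ∈ B)], Cfsg.blockPart B (Cfsg.indFun H (ξ : H → ℂ)) 1 =
        ((∑ χ ∈ Finset.univ.filter (· ∈ B), m χ * deg (χ : G → ℂ) : ℕ) : ℂ) := by
  classical
  choose m hm using fun χ : IrrCharacter G =>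
    IsCharacter.exists_mult (IsCharacter.restrict (isCharacter_of_irr χ.2) H) ξ.2
  refine ⟨m, hm, fun {_} => ?_⟩
  rw [blockPart_eq_sum]
  push_cast
  refine Finset.sum_congr rfl fun χ _ => ?_
  rw [frobenius_reciprocity H _ (isClassFunction_irr χ), ← classInner_conj_symm, hm,
    Complex.conj_natCast, irr_apply_one_eq_deg]

theorem deg_indFun (H : Subgroup G) [Fintype H] (ξ : IrrCharacter H) :
    Cfsg.charDegree (Cfsg.indFun H (ξ : H → ℂ)) = H.index * deg (ξ : H → ℂ) := by
  rw [charDegree, indFun_one, irr_apply_one_eq_deg, ← Nat.cast_mul, Complex.natCast_re,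
    Nat.floor_natCast]

theorem omega_resElem_mem_place (hM : IsPModular p M) (H : Subgroup G) [Fintype H]
    {B : Set (IrrCharacter G)} (hB : IsPBlock M B) (ξ : IrrCharacter H) :
    omega (ξ : H → ℂ) (resElem H (blockElem B)) ∈ place M :=
  omega_mem_place hM ξ ((isCentralFn_blockElem B).resElem H) ((integral_blockElem hM hB).resElem H)

/-- The `p`-part of a block part is that of the whole degree, or larger. -/
theorem factorization_blockPart (hM : IsPModular p M) (H : Subgroup G) [Fintype H]
    {B : Set (IrrCharacter G)} (hB : IsPBlock M B) (ξ : IrrCharacter H) {n : ℕ}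
    (hn : Cfsg.blockPart B (Cfsg.indFun H (ξ : H → ℂ)) 1 = (n : ℂ)) :
    (¬ Small M (omega (ξ : H → ℂ) (resElem H (blockElem B))) →
        n ≠ 0 ∧ n.factorization p = (H.index * deg (ξ : H → ℂ)).factorization p) ∧
      (Small M (omega (ξ : H → ℂ) (resElem H (blockElem B))) →
        n = 0 ∨ (H.index * deg (ξ : H → ℂ)).factorization p < n.factorization p) := by
  set w := omega (ξ : H → ℂ) (resElem H (blockElem B)) with hw
  have hwp : w ∈ place M := omega_resElem_mem_place hM H hB ξ
  set D := H.index * deg (ξ : H → ℂ) with hD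
  have hD0 : D ≠ 0 := by
    refine Nat.mul_ne_zero H.index_ne_zero_of_finite fun h0 => ?_
    refine IsIrrCharacter.apply_one_ne_zero ξ.2 ?_
    rw [irr_apply_one_eq_deg, h0, Nat.cast_zero]
  have heq : (n : ℂ) = (D : ℂ) * w := by
    rw [← hn, blockPart_indFun_one, hD, irr_apply_one_eq_deg, Nat.cast_mul]
  constructor
  · intro hs
    have hu : (place M).valuation w = 1 := isUnitAt_iff.2 ⟨hwp, hs⟩
    have hw0 : w ≠ 0 := fun h => hs (h ▸ small_zero)
    have hn0 : n ≠ 0 := fun h => by
      rw [h, Nat.cast_zero] at heq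
      exact mul_ne_zero (Nat.cast_ne_zero.2 hD0) hw0 heq.symm
    have hv : (place M).valuation (n : ℂ) = (place M).valuation (D : ℂ) := by
      rw [heq, map_mul, hu, mul_one]
    rw [valuation_natCast hM hn0, valuation_natCast hM hD0] at hv
    exact ⟨hn0, le_antisymm ((valuation_prime_pow_le_iff hM _ _).1 hv.ge)
      ((valuation_prime_pow_le_iff hM _ _).1 hv.le)⟩
  · intro hs
    by_cases hn0 : n = 0
    · exact .inl hn0
    refine .inr ?_
    have hlt : (place M).valuation w < 1 := small_iff.1 hs
    have hv : (place M).valuation (n : ℂ) < (place M).valuation (D : ℂ) := by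
      rw [heq, map_mul]
      exact mul_lt_of_lt_one_right (zero_lt_iff.2 ((Valuation.ne_zero_iff _).2
        (Nat.cast_ne_zero.2 hD0))) hlt
    rw [valuation_natCast hM hn0, valuation_natCast hM hD0] at hv
    by_contra hle
    exact absurd ((valuation_prime_pow_le_iff hM _ _).2 (not_lt.1 hle)) (not_le.2 hv)

/-- In the centraliser of a Sylow subgroup the `p'`-elements lie in the `p'`-core, and the group is
`p`-solvable. -/
theorem centralizer_sylow_core (P : Sylow p G) :
    Cfsg.IsPSolvable p (Subgroup.centralizer ((P : Subgroup G) : Set G)) ∧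
      ∀ x : Subgroup.centralizer ((P : Subgroup G) : Set G), ¬ p ∣ orderOf x →
        x ∈ Cfsg.pPrimeCore p (Subgroup.centralizer ((P : Subgroup G) : Set G)) := by
  classical
  set C := Subgroup.centralizer ((P : Subgroup G) : Set G) with hC
  obtain ⟨S⟩ := (inferInstance : Nonempty (Sylow p C))
  -- the `p`-elements of `C` lie in `P`
  have hSP : ∀ s : C, s ∈ (S : Subgroup C) → (s : G) ∈ (P : Subgroup G) := by
    intro s hs
    have hp2 : IsPGroup p ↥((S : Subgroup C).map C.subtype) := S.2.map _
    have hsup : IsPGroup p ↥((P : Subgroup G) ⊔ (S : Subgroup C).map C.subtype) := by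
      refine IsPGroup.to_sup_of_normal_left' P.2 hp2 (le_trans ?_ (Subgroup.centralizer_le_normalizer _))
      exact Subgroup.map_subtype_le _
    have := P.3 hsup le_sup_left
    exact this ▸ Subgroup.mem_sup_right (Subgroup.mem_map_of_mem _ hs)
  have hcen : (Subgroup.normalizer ((S : Subgroup C) : Set C)) ≤
      Subgroup.centralizer ((S : Subgroup C) : Set C) := fun x _ =>
    Subgroup.mem_centralizer_iff.2 fun s hs =>
      Subtype.ext (Subgroup.mem_centralizer_iff.1 x.2 _ (hSP s hs))
  set K := (MonoidHom.transferSylow S hcen).ker with hK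
  have hcompl : Subgroup.IsComplement' K (S : Subgroup C) :=
    MonoidHom.ker_transferSylow_isComplement' S hcen
  have hidx : K.index = Nat.card (S : Subgroup C) := hcompl.symm.index_eq_card
  have hKcard : Nat.card K = (S : Subgroup C).index := hcompl.index_eq_card.symm
  have hKp : ¬ p ∣ Nat.card K := hKcard ▸ S.not_dvd_index
  have hKO : K ≤ Cfsg.pPrimeCore p C :=
    Components.le_pPrimeCore (hn := MonoidHom.normal_ker _)
      ((hp.out.coprime_iff_not_dvd.2 hKp).symm)
  obtain ⟨a, ha⟩ := IsPGroup.iff_card.1 S.2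
  refine ⟨⟨2, ![⊥, K, ⊤], rfl, rfl, ?_, ?_, ?_⟩, fun x hx => hKO ?_⟩
  · intro i j hij
    fin_cases i <;> fin_cases j <;> simp_all
  · intro i
    fin_cases i
    · exact inferInstanceAs ((⊥ : Subgroup C).Normal)
    · exact MonoidHom.normal_ker _
    · exact inferInstanceAs ((⊤ : Subgroup C).Normal)
  · intro i
    fin_cases i
    · exact .inr (by simpa [Subgroup.relIndex_bot_left] using (hp.out.coprime_iff_not_dvd.2 hKp).symm)
    · exact .inl ⟨a, by simpa [Subgroup.relIndex_top_right, hidx] using ha⟩
  · rw [hK, MonoidHom.mem_ker]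
    obtain ⟨j, hj⟩ := IsPGroup.iff_orderOf.1 S.2 (MonoidHom.transferSylow S hcen x)
    have hd : orderOf (MonoidHom.transferSylow S hcen x) ∣ orderOf x := orderOf_map_dvd _ _
    rw [hj] at hd
    rcases j with _ | j
    · rwa [pow_zero, orderOf_eq_one_iff] at hj
    · exact absurd (dvd_trans (dvd_pow_self p j.succ_ne_zero) hd) hx

open scoped Classical in
/-- The principal block idempotent of the centraliser of a Sylow subgroup does not vanish on a
subgroup. -/
theorem sum_principal_centralizer (hM : IsPModular p M) (P : Sylow p G) (H : Subgroup G)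
    [Fintype (Subgroup.centralizer ((P : Subgroup G) : Set G))] :
    ∑ c : Subgroup.centralizer ((P : Subgroup G) : Set G),
      (if (c : G) ∈ H then res M (blockCoeff (principalBlock M
        (Subgroup.centralizer ((P : Subgroup G) : Set G))) c) else 0) ≠ 0 := by
  classical
  obtain ⟨hsolv, hcore⟩ := centralizer_sylow_core (p := p) P
  set C := Subgroup.centralizer ((P : Subgroup G) : Set G) with hC
  set b := principalBlock M C with hb
  have hB : IsPBlock M b := isPBlock_blockOf (principal C)
  have hconst : ∀ x : C, ¬ p ∣ orderOf x → blockCoeff b x = blockCoeff b 1 := by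
    intro x hx
    simp only [blockCoeff_eq_sum]
    refine congrArg _ (Finset.sum_congr rfl fun χ hχ => ?_)
    rw [(mem_principalBlock_iff_of_isPSolvable hM hsolv χ).1 (Finset.mem_filter.1 hχ).2 x
      (hcore x hx)]
  have hfun : ∀ x : C, res M (blockCoeff b x) =
      if ¬ p ∣ orderOf x then res M (blockCoeff b 1) else 0 := by
    intro x
    by_cases hx : p ∣ orderOf x
    · rw [if_neg (not_not.2 hx), blockCoeff_eq_zero_of_singular hM hB hx, res_zero]
    · rw [if_pos hx, hconst x hx]
  have hone : res M (omega ((principal C : IrrCharacter C) : C → ℂ) (blockElem b)) = 1 := by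
    rw [omega_blockElem, if_pos (show principal C ∈ b from mem_blockOf_self hM (principal C)), res_one]
  have hom : omega ((principal C : IrrCharacter C) : C → ℂ) (blockElem b) =
      ∑ x : C, blockCoeff b x := by
    simp [omega, chiEval, fn_blockElem, principal]
  rw [hom, res_sum _ _ fun x _ => blockCoeff_mem_place hM hB x] at hone
  have ha : res M (blockCoeff b 1) ≠ 0 := by
    intro h0
    rw [Finset.sum_eq_zero fun x _ => by rw [hfun, h0, ite_self]] at hone
    exact zero_ne_one hone
  rw [Finset.sum_congr rfl (g := fun x : C => if (x : G) ∈ H ∧ ¬ p ∣ orderOf x then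
      res M (blockCoeff b 1) else 0) fun x _ => by
        by_cases h : (x : G) ∈ H <;> by_cases h' : p ∣ orderOf x <;> simp [h, h', hfun x],
    ← Finset.sum_filter, Finset.sum_const, nsmul_eq_mul]
  refine mul_ne_zero ?_ ha
  rw [Ne, res_natCast_eq_zero_iff (M := M) hM]
  -- the `p'`-elements of `C ∩ H` form a subgroup of order prime to `p`
  set L := Cfsg.pPrimeCore p C ⊓ H.subgroupOf C with hL
  have hcop : (Nat.card L).Coprime p := Nat.Coprime.coprime_dvd_left
    (Subgroup.card_dvd_of_le inf_le_left) (Components.coprime_card_pPrimeCore p)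
  have heq : (Finset.univ.filter fun x : C => (x : G) ∈ H ∧ ¬ p ∣ orderOf x).card = Nat.card L := by
    rw [Nat.card_eq_fintype_card, ← Fintype.card_coe]
    refine Fintype.card_congr (Equiv.subtypeEquivRight fun x => ?_)
    simp only [Finset.mem_filter, Finset.mem_univ, true_and, hL, Subgroup.mem_inf,
      Subgroup.mem_subgroupOf]
    refine ⟨fun h => ⟨hcore x h.2, h.1⟩, fun h => ⟨h.2, fun hd => ?_⟩⟩
    exact hp.out.one_lt.ne' (Nat.eq_one_of_dvd_coprimes (Components.coprime_card_pPrimeCore p)
      (dvd_trans hd (Subgroup.orderOf_dvd_natCard _ h.1)) dvd_rfl)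
  have heq' : ∀ s : Finset C, s = Finset.univ.filter (fun x : C => (x : G) ∈ H ∧ ¬ p ∣ orderOf x) →
      s.card = Nat.card L := fun s h => h ▸ heq
  rw [heq' _ (by ext x; simp)]
  exact fun hd => hp.out.one_lt.ne' (Nat.eq_one_of_dvd_coprimes hcop hd dvd_rfl)

/-- Over a subgroup containing a Sylow subgroup the principal idempotent does not sum to zero. -/
theorem not_small_sum_principal (hM : IsPModular p M) (P : Sylow p G) (H : Subgroup G)
    [Fintype H] (hPH : (P : Subgroup G) ≤ H) :
    ¬ Small M (∑ h : H, blockCoeff (principalBlock M G) (h : G)) := by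
  classical
  set C := Subgroup.centralizer ((P : Subgroup G) : Set G) with hC
  letI := Fintype.ofFinite C
  set B₀ := principalBlock M G with hB₀
  have hB : IsPBlock M B₀ := isPBlock_blockOf (principal G)
  -- the idempotent on the centraliser
  have hred := red_resElem_blockElem hM P.2 (H := C) rfl hB
  have hfilter : (blocksFinset M C).filter (fun b => IsInducedBlock M C b B₀) =
      {principalBlock M C} := by
    ext b
    rw [Finset.mem_filter, Finset.mem_singleton]
    constructor
    · intro h
      exact (isInducedBlock_principal_iff hM C ⟨_, h.2⟩).1 h.2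
    · rintro rfl
      exact ⟨(mem_blocksFinset hM).2 (isPBlock_blockOf (principal C)),
        (isInducedBlock_principal_iff hM C
          (inducedBlockDefined_centralizer hM P.2 (isPBlock_blockOf (principal C)))).2 rfl⟩
  rw [hfilter, Finset.sum_singleton] at hred
  have hcoef : ∀ c : C, res M (blockCoeff B₀ (c : G)) =
      res M (blockCoeff (principalBlock M C) c) := fun c => by
    have := congrArg (fun z => fn z c) hred
    simpa only [fn_red, fn_resElem, fn_blockElem] using this
  intro hs
  rw [← res_eq_zero_iff (sum_mem fun h _ => blockCoeff_mem_place hM hB _),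
    res_sum _ _ fun h _ => blockCoeff_mem_place hM hB _] at hs
  -- reduce to the fixed points of `P`
  letI act : MulAction (P : Subgroup G) H := MulAction.compHom H
    ((MulAut.conj : H →* MulAut H).comp (Subgroup.inclusion hPH))
  have hsm : ∀ (k : (P : Subgroup G)) (a : H),
      ((k • a : H) : G) = (k : G) * (a : G) * (k : G)⁻¹ := fun k a => rfl
  haveI := charP_res hM
  have h1 := sum_eq_sum_fixed (p := p) (P := (P : Subgroup G)) (α := H) P.2
    (fun r : Res M => by rw [nsmul_eq_mul, (res_natCast_eq_zero_iff (M := M) hM p).2 dvd_rfl,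
      zero_mul])
    (fun h : H => res M (blockCoeff B₀ (h : G))) (fun k a => by
      show res M _ = _
      rw [hsm, blockCoeff_conj])
  rw [h1] at hs
  refine sum_principal_centralizer hM P H (Eq.trans ?_ hs)
  rw [← Finset.sum_filter]
  have hfix : ∀ a : H, a ∈ MulAction.fixedPoints (P : Subgroup G) H ↔ (a : G) ∈ C := by
    intro a
    rw [MulAction.mem_fixedPoints, hC, Subgroup.mem_centralizer_iff]
    constructor
    · intro h k hk
      have := congrArg Subtype.val (h ⟨k, hk⟩)
      rw [hsm] at this
      exact mul_inv_eq_iff_eq_mul.1 this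
    · intro h k
      refine Subtype.ext ?_
      rw [hsm, mul_inv_eq_iff_eq_mul]
      exact h k k.2
  refine Finset.sum_bij' (fun c hc => (⟨(c : G), (Finset.mem_filter.1 hc).2⟩ : H))
    (fun a ha => (⟨(a : G), (hfix a).1 (Finset.mem_filter.1 ha).2⟩ : C)) ?_ ?_
    (fun _ _ => Subtype.ext rfl) (fun _ _ => Subtype.ext rfl) (fun c hc => (hcoef c).symm)
  · intro c hc
    exact Finset.mem_filter.2 ⟨Finset.mem_univ _, (hfix _).2 c.2⟩
  · intro a ha
    exact Finset.mem_filter.2 ⟨Finset.mem_univ _, a.2⟩

end Cfsg.Lib.Blocks
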