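import Mathlib
import Cfsg.Agent.Blocks.ItoDegrees
import Cfsg.Agent.Chars.Extraspecial
import Cfsg.Agent.InvolutionCount.Basic
import Cfsg.Agent.SolvStruct.TwoGroupLinearRank
import Cfsg.Agent.PGroups.Basic
import Cfsg.Agent.S0095
import Cfsg.Agent.S0154

/-!
# Nilpotent groups with a single character of degree divisible by `p`
-/

set_option autoImplicit false
set_option linter.unusedSectionVars false
set_option linter.style.haveILetI false

namespace Cfsg.Lib.Blocks.OneDegree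

open Cfsg.Lib.Chars
open scoped commutatorElement

universe u

variable {G : Type u} [Group G] [Finite G] {p : ℕ} [hp : Fact p.Prime]

theorem exists_linear_ne_one {x : G} (hx : x ∉ commutator G) : ∃ f : G →* ℂˣ, f x ≠ 1 := by
  obtain ⟨φ, hφ⟩ := CommGroup.exists_apply_ne_one_of_hasEnoughRootsOfUnity (Abelianization G) ℂ
    (a := Abelianization.of x) (fun h => hx (Abelianization.ker_of G ▸ h))
  exact ⟨φ.comp Abelianization.of, hφ⟩

/-- The unique character of degree divisible by `p` absorbs every linear character. -/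
theorem linear_mul_eq (χ : Cfsg.IrrCharacter G) (hχ : p ∣ deg (χ : G → ℂ))
    (huniq : ∀ ψ : Cfsg.IrrCharacter G, p ∣ deg (ψ : G → ℂ) → ψ = χ) (f : G →* ℂˣ) (g : G) :
    (f g : ℂ) * (χ : G → ℂ) g = (χ : G → ℂ) g := by
  have hirr := IsIrrCharacter.mul_linear χ.2 f
  have h1 : p ∣ deg (fun g => (f g : ℂ) * (χ : G → ℂ) g) := by
    have : deg (fun g => (f g : ℂ) * (χ : G → ℂ) g) = deg (χ : G → ℂ) := by
      apply Nat.cast_injective (R := ℂ)
      rw [← IsCharacter.apply_one_eq_deg (isCharacter_of_irr hirr), ← irr_apply_one_eq_deg χ]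
      simp
    rwa [this]
  exact congrFun (congrArg Subtype.val (huniq ⟨_, hirr⟩ h1)) g

theorem exists_dvd_deg_of_not_all [Group.IsNilpotent G] (χ : Cfsg.IrrCharacter G)
    (hχ : p ∣ deg (χ : G → ℂ))
    (huniq : ∀ ψ : Cfsg.IrrCharacter G, p ∣ deg (ψ : G → ℂ) → ψ = χ)
    {q : ℕ} [hq : Fact q.Prime] (hqp : q ≠ p) (Q : Sylow q G) (z : G) (hz : z ∈ (Q : Subgroup G)) :
    (χ : G → ℂ) z = (χ : G → ℂ) 1 := by
  haveI hQn : (Q : Subgroup G).Normal := inferInstance
  obtain ⟨P⟩ := (inferInstance : Nonempty (Sylow p G))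
  set f := QuotientGroup.mk' (Q : Subgroup G) with hf
  have hs : Function.Surjective f := QuotientGroup.mk'_surjective _
  by_cases hex : ∀ ψ : Cfsg.IrrCharacter (G ⧸ (Q : Subgroup G)), ¬ p ∣ deg (ψ : (G ⧸ (Q : Subgroup G)) → ℂ)
  · exfalso
    obtain ⟨-, hc⟩ := (ito_iff (isPSolvable_of_solvable inferInstance) (P.mapSurjective hs)).2 hex
    have hdisj : (P : Subgroup G) ⊓ (Q : Subgroup G) = ⊥ :=
      (IsPGroup.disjoint_of_ne p q (Ne.symm hqp) _ _ P.isPGroup' Q.isPGroup').eq_bot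
    have hcomm : IsMulCommutative (P : Subgroup G) := ⟨⟨fun a b => by
      apply Subtype.ext
      have hab : f (a : G) * f b = f b * f a := congrArg Subtype.val
        (hc.is_comm.comm ⟨f a, Subgroup.mem_map_of_mem f a.2⟩ ⟨f b, Subgroup.mem_map_of_mem f b.2⟩)
      have hmem : (a : G) * b * (a : G)⁻¹ * (b : G)⁻¹ ∈ (P : Subgroup G) ⊓ (Q : Subgroup G) :=
        ⟨Subgroup.mul_mem _ (Subgroup.mul_mem _ (Subgroup.mul_mem _ a.2 b.2) (Subgroup.inv_mem _ a.2))
          (Subgroup.inv_mem _ b.2),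
          by
            show _ ∈ (Q : Subgroup G)
            rw [← QuotientGroup.eq_one_iff]
            show f _ = 1
            rw [map_mul, map_mul, map_mul, map_inv, map_inv, hab]
            group⟩
      rw [hdisj, Subgroup.mem_bot, mul_inv_eq_one, mul_inv_eq_iff_eq_mul] at hmem
      exact hmem⟩⟩
    exact (ito_iff (isPSolvable_of_solvable inferInstance) P).1 ⟨inferInstance, hcomm⟩ χ hχ
  · push Not at hex
    obtain ⟨ψ, hψ⟩ := hex
    have hirr := IsIrrCharacter.comp_surjective ψ.2 f hs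
    have hd : p ∣ deg ((ψ : (G ⧸ (Q : Subgroup G)) → ℂ) ∘ f) := by
      simpa [deg] using hψ
    have he := congrArg Subtype.val (huniq ⟨_, hirr⟩ hd)
    simp only at he
    rw [← he]
    show (ψ : (G ⧸ (Q : Subgroup G)) → ℂ) (f z) = (ψ : (G ⧸ (Q : Subgroup G)) → ℂ) (f 1)
    rw [map_one, show f z = 1 from (QuotientGroup.eq_one_iff z).2 hz]

theorem isPGroup_of_unique [Group.IsNilpotent G] (χ : Cfsg.IrrCharacter G) (hχ : p ∣ deg (χ : G → ℂ))
    (huniq : ∀ ψ : Cfsg.IrrCharacter G, p ∣ deg (ψ : G → ℂ) → ψ = χ) : IsPGroup p G := by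
  obtain ⟨P⟩ := (inferInstance : Nonempty (Sylow p G))
  haveI : (P : Subgroup G).Normal := inferInstance
  by_cases htop : (P : Subgroup G) = ⊤
  · have h := P.isPGroup'
    rw [htop] at h
    exact h.of_equiv Subgroup.topEquiv
  exfalso
  haveI : Nontrivial (G ⧸ (P : Subgroup G)) := QuotientGroup.nontrivial_iff.2 htop
  obtain ⟨y, hy⟩ : ∃ y : G ⧸ (P : Subgroup G), y ∉ commutator (G ⧸ (P : Subgroup G)) := by
    by_contra h
    push Not at h
    exact (Group.IsSolvable.commutator_lt_top_of_nontrivial (G ⧸ (P : Subgroup G))).ne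
      (Subgroup.eq_top_iff' _ |>.2 h)
  obtain ⟨f, hf⟩ := exists_linear_ne_one hy
  obtain ⟨x, rfl⟩ := QuotientGroup.mk'_surjective (P : Subgroup G) y
  set F := f.comp (QuotientGroup.mk' (P : Subgroup G)) with hF
  refine hf (show F x = 1 from ?_)
  have hker : F.ker = ⊤ := by
    rw [← Subgroup.index_eq_one]
    by_contra hne
    obtain ⟨q, hq, hqd⟩ := Nat.exists_prime_and_dvd hne
    haveI := Fact.mk hq
    obtain ⟨Q⟩ := (inferInstance : Nonempty (Sylow q G))
    have hle : (Q : Subgroup G) ≤ F.ker := by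
      intro z hz
      rw [MonoidHom.mem_ker]
      by_cases hqp : q = p
      · subst hqp
        have : (Q : Subgroup G) = (P : Subgroup G) := by
          haveI := Sylow.unique_of_normal P inferInstance
          rw [Subsingleton.elim Q P]
        rw [this] at hz
        rw [hF, MonoidHom.comp_apply, QuotientGroup.mk'_apply, (QuotientGroup.eq_one_iff z).2 hz,
          map_one]
      · have h1 := exists_dvd_deg_of_not_all χ hχ huniq hqp Q z hz
        have h2 := linear_mul_eq χ hχ huniq F z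
        rw [h1, mul_eq_right₀ (IsIrrCharacter.apply_one_ne_zero χ.2)] at h2
        exact Units.ext h2
    exact Q.not_dvd_index (dvd_trans hqd (Subgroup.index_dvd_of_le hle))
  rw [← MonoidHom.mem_ker, hker]
  exact Subgroup.mem_top x

theorem deg_one_iff (ψ : Cfsg.IrrCharacter G) : (ψ : G → ℂ) 1 = 1 ↔ deg (ψ : G → ℂ) = 1 := by
  rw [irr_apply_one_eq_deg]
  exact Nat.cast_eq_one

theorem card_split (hG : IsPGroup p G)
    [DecidablePred fun ψ : Cfsg.IrrCharacter G => p ∣ deg (ψ : G → ℂ)] :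
    Nat.card G = (commutator G).index +
      ∑ ψ ∈ Finset.univ.filter (fun ψ : Cfsg.IrrCharacter G => p ∣ deg (ψ : G → ℂ)),
        deg (ψ : G → ℂ) ^ 2 := by
  classical
  obtain ⟨n, hn⟩ := IsPGroup.iff_card.1 hG
  have hlin : ∀ ψ : Cfsg.IrrCharacter G, ¬ p ∣ deg (ψ : G → ℂ) ↔ (ψ : G → ℂ) 1 = 1 := by
    intro ψ
    rw [deg_one_iff]
    constructor
    · intro h
      obtain ⟨i, -, hi⟩ := (Nat.dvd_prime_pow hp.out).1 (hn ▸ InvolutionCount.deg_dvd_card ψ)
      rcases Nat.eq_zero_or_pos i with rfl | hi0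
      · simpa using hi
      · exact absurd (hi ▸ dvd_pow_self p hi0.ne') h
    · intro h; rw [h]; exact hp.out.not_dvd_one
  have h0 := sum_deg_sq_nat (G := G)
  rw [← Cfsg.Agent.S0154.result (G := G), Nat.card_eq_fintype_card (α := {χ : Cfsg.IrrCharacter G //
    (χ : G → ℂ) 1 = 1}), Fintype.card_subtype, ← h0]
  rw [← Finset.sum_filter_add_sum_filter_not Finset.univ
    (fun ψ : Cfsg.IrrCharacter G => p ∣ deg (ψ : G → ℂ)), add_comm]
  congr 1
  rw [Finset.card_eq_sum_ones]
  refine Finset.sum_congr (by ext ψ; simp [hlin]) fun ψ hψ => ?_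
  simp only [Finset.mem_filter, Finset.mem_univ, true_and] at hψ
  first
    | rw [(deg_one_iff ψ).1 hψ, one_pow]
    | rw [(deg_one_iff ψ).1 ((hlin ψ).1 hψ), one_pow]

/-- The arithmetic of a single non-linear degree. -/
theorem arith {n m k : ℕ} (hk : 0 < k) (h : p ^ n = p ^ m + p ^ (2 * k)) :
    p = 2 ∧ m = 2 * k ∧ n = m + 1 := by
  have h2 := hp.out.two_le
  have hmn : m < n := (Nat.pow_lt_pow_iff_right h2).1 (by
    rw [h]; exact Nat.lt_add_of_pos_right (pow_pos hp.out.pos _))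
  have hkn : 2 * k < n := (Nat.pow_lt_pow_iff_right h2).1 (by
    rw [h]; exact Nat.lt_add_of_pos_left (pow_pos hp.out.pos _))
  have hm : m = 2 * k := by
    rcases lt_trichotomy m (2 * k) with hlt | heq | hgt
    · exfalso
      have : p ^ (m + 1) ∣ p ^ m := by
        have h3 : p ^ (m + 1) ∣ p ^ n := pow_dvd_pow p hmn
        rw [h] at h3
        exact (Nat.dvd_add_left (pow_dvd_pow p hlt)).1 h3
      exact absurd ((Nat.pow_dvd_pow_iff_le_right h2).1 this) (by omega)
    · exact heq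
    · exfalso
      have : p ^ (2 * k + 1) ∣ p ^ (2 * k) := by
        have h3 : p ^ (2 * k + 1) ∣ p ^ n := pow_dvd_pow p hkn
        rw [h] at h3
        exact (Nat.dvd_add_right (pow_dvd_pow p hgt)).1 h3
      exact absurd ((Nat.pow_dvd_pow_iff_le_right h2).1 this) (by omega)
  subst hm
  obtain ⟨d, rfl⟩ := Nat.exists_eq_add_of_lt hkn
  rw [show 2 * k + d + 1 = 2 * k + (d + 1) by ring, pow_add, ← two_mul] at h
  have h4 : p ^ (d + 1) = 2 := Nat.eq_of_mul_eq_mul_left (pow_pos hp.out.pos (2 * k)) (h.trans (Nat.mul_comm _ _))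
  have hp2 : p = 2 := (Nat.prime_dvd_prime_iff_eq hp.out Nat.prime_two).1
    (h4 ▸ dvd_pow_self p d.succ_ne_zero)
  subst hp2
  have : d + 1 = 1 := Nat.pow_right_injective le_rfl (show 2 ^ (d + 1) = 2 ^ 1 by rw [h4, pow_one])
  exact ⟨rfl, rfl, by omega⟩

theorem extraspecial_of_unique [Group.IsNilpotent G] (χ : Cfsg.IrrCharacter G)
    (hχ : p ∣ deg (χ : G → ℂ))
    (huniq : ∀ ψ : Cfsg.IrrCharacter G, p ∣ deg (ψ : G → ℂ) → ψ = χ) :
    p = 2 ∧ Cfsg.IsExtraspecial 2 G := by
  classical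
  have hG : IsPGroup p G := isPGroup_of_unique χ hχ huniq
  obtain ⟨n, hn⟩ := IsPGroup.iff_card.1 hG
  obtain ⟨m, -, hm⟩ := (Nat.dvd_prime_pow hp.out).1 (hn ▸ Subgroup.index_dvd_card (commutator G))
  obtain ⟨k, -, hk⟩ := (Nat.dvd_prime_pow hp.out).1 (hn ▸ InvolutionCount.deg_dvd_card χ)
  have hk0 : 0 < k := by
    by_contra h
    rw [Nat.eq_zero_of_not_pos h, pow_zero] at hk
    exact hp.out.not_dvd_one (hk ▸ hχ)
  have hsum := card_split (p := p) hG
  have hfil : Finset.univ.filter (fun ψ : Cfsg.IrrCharacter G => p ∣ deg (ψ : G → ℂ)) = {χ} := by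
    ext ψ
    simp only [Finset.mem_filter, Finset.mem_univ, true_and, Finset.mem_singleton]
    exact ⟨huniq ψ, fun h => h ▸ hχ⟩
  rw [hfil, Finset.sum_singleton, hn, hm, hk, ← pow_mul, mul_comm k] at hsum
  obtain ⟨hp2, hmk, hnm⟩ := arith hk0 hsum
  subst hp2
  have hc2 : Nat.card (commutator G) = 2 := by
    have h := (commutator G).index_mul_card
    rw [hn, hm, hnm, pow_succ] at h
    exact Nat.eq_of_mul_eq_mul_left (pow_pos (by norm_num) _) h
  have hZle : Subgroup.center G ≤ commutator G := by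
    intro z hz
    by_contra hzc
    obtain ⟨f, hf⟩ := exists_linear_ne_one hzc
    have hz0 : (χ : G → ℂ) z ≠ 0 := by
      intro h0
      have h := center_mul_of_irr χ.2 hz z⁻¹
      rw [mul_inv_cancel, h0, zero_mul, mul_eq_zero, or_self] at h
      exact IsIrrCharacter.apply_one_ne_zero χ.2 h
    have h2 := linear_mul_eq χ hχ huniq f z
    exact hf (Units.ext ((mul_eq_right₀ hz0).1 h2))
  have hleZ : commutator G ≤ Subgroup.center G := by
    intro c hc
    rw [Subgroup.mem_center_iff]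
    intro g
    obtain ⟨z, w, hzw, huniv⟩ := Nat.card_eq_two_iff.1 hc2
    by_cases hc1 : c = 1
    · rw [hc1, mul_one, one_mul]
    have hgc : g * c * g⁻¹ ∈ commutator G := Subgroup.Normal.conj_mem inferInstance c hc g
    have hne : g * c * g⁻¹ ≠ 1 := fun h => hc1 (conj_eq_one_iff.1 h)
    have hall : ∀ a b : commutator G, (a : G) ≠ 1 → (b : G) ≠ 1 → a = b := by
      intro a b ha hb
      have hu : ∀ a : commutator G, a = z ∨ a = w := fun a => by
        have := huniv.symm ▸ Set.mem_univ a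
        simpa using this
      rcases hu a with rfl | rfl <;> rcases hu b with rfl | rfl <;> rcases hu 1 with h1 | h1 <;>
        first
          | rfl
          | exact absurd (congrArg Subtype.val h1.symm) (by assumption)
    have := congrArg Subtype.val (hall ⟨_, hgc⟩ ⟨c, hc⟩ hne hc1)
    exact mul_inv_eq_iff_eq_mul.1 this
  have hcZ : commutator G = Subgroup.center G := le_antisymm hleZ hZle
  refine ⟨rfl, ⟨hG, le_antisymm ?_ (hcZ ▸ PGroups.commutator_le_frattini hG), hcZ⟩, hcZ ▸ hc2⟩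
  haveI : (Subgroup.center G).Normal := inferInstance
  refine SolvStruct.TwoRank.frattini_le_of_sq _ fun g => ?_
  rw [Subgroup.mem_center_iff]
  intro x
  have hcm : ⁅x, g⁆ ∈ Subgroup.center G := hleZ
    (Subgroup.commutator_mem_commutator (Subgroup.mem_top x) (Subgroup.mem_top g))
  have hsq : ⁅x, g⁆ * ⁅x, g⁆ = 1 := by
    have h := pow_card_eq_one' (G := commutator G) (x := ⟨⁅x, g⁆, Subgroup.commutator_mem_commutator
      (Subgroup.mem_top x) (Subgroup.mem_top g)⟩)
    rw [hc2, pow_two] at h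
    exact congrArg Subtype.val h
  have hxg : x * g * x⁻¹ = ⁅x, g⁆ * g := by rw [commutatorElement_def]; group
  have hcg : g * ⁅x, g⁆ = ⁅x, g⁆ * g := Subgroup.mem_center_iff.1 hcm g
  have h5 : x * (g * g) * x⁻¹ = g * g := by
    calc x * (g * g) * x⁻¹ = (x * g * x⁻¹) * (x * g * x⁻¹) := by group
      _ = (⁅x, g⁆ * g) * (⁅x, g⁆ * g) := by rw [hxg]
      _ = ⁅x, g⁆ * (g * ⁅x, g⁆) * g := by group
      _ = (⁅x, g⁆ * ⁅x, g⁆) * (g * g) := by rw [hcg]; group
      _ = g * g := by rw [hsq, one_mul]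
  exact mul_inv_eq_iff_eq_mul.1 h5

theorem card_eq_one_of_extraspecial (hE : Cfsg.IsExtraspecial 2 G) :
    Nat.card {χ : Cfsg.IrrCharacter G // 2 ∣ deg (χ : G → ℂ)} = 1 := by
  classical
  obtain ⟨n, hn0, hn⟩ := Cfsg.Agent.S0095.result hE
  have hsum := card_split (p := 2) hE.1.1
  have hdeg : ∀ ψ : Cfsg.IrrCharacter G, 2 ∣ deg (ψ : G → ℂ) → deg (ψ : G → ℂ) = 2 ^ n := by
    intro ψ hψ
    rcases extraspecial_dichotomy hE hn ψ.2 with h | ⟨h, -⟩
    · rw [(deg_one_iff ψ).1 h] at hψ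
      exact absurd hψ Nat.prime_two.not_dvd_one
    · apply Nat.cast_injective (R := ℂ)
      rw [← irr_apply_one_eq_deg ψ, h]
      push_cast; rfl
  rw [Finset.sum_congr rfl (g := fun _ => 2 ^ (2 * n)) (fun ψ hψ => by
    rw [hdeg ψ (by simpa using hψ), ← pow_mul, mul_comm]), Finset.sum_const, smul_eq_mul] at hsum
  have hidx : (commutator G).index * 2 = Nat.card G := by
    rw [← (commutator G).index_mul_card, hE.1.2.2, hE.2]
  have hidx' : (commutator G).index = 2 ^ (2 * n) := by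
    rw [hn, pow_succ] at hidx
    exact Nat.eq_of_mul_eq_mul_right (by norm_num) hidx
  rw [hidx', hn, pow_succ, mul_two, Nat.add_left_cancel_iff] at hsum
  rw [Nat.card_eq_fintype_card, Fintype.card_subtype]
  exact (mul_eq_right₀ (pow_pos (by norm_num) _).ne').1 hsum.symm

theorem iff_extraspecial [Group.IsNilpotent G] :
    Nat.card {χ : Cfsg.IrrCharacter G // p ∣ deg (χ : G → ℂ)} = 1 ↔
      (p = 2 ∧ Cfsg.IsExtraspecial 2 G) := by
  constructor
  · intro h
    obtain ⟨hs, ⟨⟨χ, hχ⟩⟩⟩ := Nat.card_eq_one_iff_unique.1 h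
    exact extraspecial_of_unique χ hχ fun ψ hψ =>
      congrArg Subtype.val (hs.elim ⟨ψ, hψ⟩ ⟨χ, hχ⟩)
  · rintro ⟨rfl, hE⟩
    exact card_eq_one_of_extraspecial hE

end Cfsg.Lib.Blocks.OneDegree
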