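import Mathlib
import Cfsg.Agent.Blocks.Feit
import Cfsg.Agent.Blocks.Third
import Cfsg.Agent.Blocks.Covering
import Cfsg.Agent.Blocks.Quotient
import Cfsg.Agent.Chars.Galois

/-!
# Columns of the principal block
-/

set_option autoImplicit false
set_option linter.unusedSectionVars false
set_option linter.style.haveILetI false

namespace Cfsg.Lib.Blocks

open Cfsg.Lib.Chars
open scoped ComplexConjugate

universe u

variable {G : Type u} [Group G] [Fintype G] {p : ℕ} [hp : Fact p.Prime] {M : Ideal AlgInt}

/-- The principal block is given by the sums over the `p`-regular elements. -/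
theorem mem_principal_iff_sum (hM : IsPModular p M) (χ : IrrCharacter G)
    [DecidablePred fun g : G => p ∣ orderOf g] :
    χ ∈ Cfsg.principalBlock M G ↔
      ∑ g : G, (if p ∣ orderOf g then 0 else (χ : G → ℂ) g) ≠ 0 := by
  classical
  have hB : IsPBlock M (Cfsg.principalBlock M G) := isPBlock_blockOf (principal G)
  have h1 : principal G ∈ Cfsg.principalBlock M G := mem_blockOf_self hM (principal G)
  have key : ∑ g : G, (if p ∣ orderOf g then 0 else (χ : G → ℂ) g) ≠ 0 ↔
      regInt p χ (principal G) ≠ 0 := by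
    rw [not_iff_not, ← Int.cast_eq_zero (α := ℂ), regInt_spec hM.1, classInner_def, mul_eq_zero,
      mul_eq_zero, inv_eq_zero]
    have hs : ∑ g : G, (if p ∣ orderOf g then 0 else (χ : G → ℂ) g) =
        ∑ g : G, pRegularPart p (χ : G → ℂ) g *
          conj (((principal G : IrrCharacter G) : G → ℂ) g) :=
      Finset.sum_congr rfl fun g _ => by
        rw [pRegularPart_apply, show ((principal G : IrrCharacter G) : G → ℂ) g = 1 from rfl,
          map_one, mul_one]
    rw [hs]
    simp [Nat.card_pos.ne', hM.1.ne_zero]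
  rw [key]
  constructor
  · intro hχ
    rw [regInt_symm hM.1]
    exact (regInt_height_zero hM hB h1 (blockHeight_one _) hχ).1
  · intro hne
    by_contra hχ
    exact hne ((regInt_symm hM.1 _ _).trans (regInt_eq_zero hM hB h1 hχ))

theorem map_auto_mem_principal (hM : IsPModular p M) (σ : ℂ ≃+* ℂ) {χ : IrrCharacter G}
    (hχ : χ ∈ Cfsg.principalBlock M G) :
    (⟨fun g => σ ((χ : G → ℂ) g), IsIrrCharacter.map_auto χ.2 σ⟩ : IrrCharacter G) ∈
      Cfsg.principalBlock M G := by
  classical
  rw [mem_principal_iff_sum hM] at hχ ⊢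
  intro h
  refine hχ (σ.injective ?_)
  rw [map_zero, map_sum]
  refine Eq.trans ?_ h
  exact Finset.sum_congr rfl fun g _ => by rw [apply_ite σ, map_zero]

open scoped Classical in
/-- The column of the principal block has integral norm. -/
theorem exists_nat_column (hM : IsPModular p M) (x : G) :
    ∃ n : ℕ, 0 < n ∧ ∑ χ ∈ Finset.univ.filter (fun χ : IrrCharacter G => χ ∈ Cfsg.principalBlock M G),
      Complex.normSq ((χ : G → ℂ) x) = n := by
  set S := Finset.univ.filter (fun χ : IrrCharacter G => χ ∈ Cfsg.principalBlock M G) with hS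
  set z : ℂ := ∑ χ ∈ S, (χ : G → ℂ) x * (χ : G → ℂ) x⁻¹ with hz
  set r : ℝ := ∑ χ ∈ S, Complex.normSq ((χ : G → ℂ) x) with hr
  have hzr : z = (r : ℂ) := by
    rw [hz, hr, Complex.ofReal_sum]
    exact Finset.sum_congr rfl fun χ _ => by
      rw [IsCharacter.conj_inv (isCharacter_of_irr χ.2), Complex.mul_conj]
  haveI : NeZero (Nat.card G) := ⟨Nat.card_pos.ne'⟩
  have hmem : z ∈ cycField (Nat.card G) := sum_mem fun χ _ =>
    mul_mem (IsCharacter.mem_cycField (isCharacter_of_irr χ.2) (orderOf_dvd_natCard _))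
      (IsCharacter.mem_cycField (isCharacter_of_irr χ.2) (orderOf_dvd_natCard _))
  obtain ⟨q, hq⟩ := rat_of_galConj_fixed hmem fun σ k _ _ => by
    rw [hz, map_sum]
    let e : IrrCharacter G → IrrCharacter G := fun χ =>
      ⟨fun g => σ ((χ : G → ℂ) g), IsIrrCharacter.map_auto χ.2 σ⟩
    have he : Function.Injective e := fun a b h =>
      Subtype.ext (funext fun g => σ.injective (congrFun (congrArg Subtype.val h) g))
    have himg : S.image e = S := Finset.eq_of_subset_of_card_le
      (fun ψ hψ => by
        obtain ⟨χ, hχ, rfl⟩ := Finset.mem_image.1 hψ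
        exact Finset.mem_filter.2 ⟨Finset.mem_univ _,
          map_auto_mem_principal hM σ (Finset.mem_filter.1 hχ).2⟩)
      (Finset.card_image_of_injective _ he).ge
    conv_rhs => rw [← himg]
    rw [Finset.sum_image fun a _ b _ h => he h]
    exact Finset.sum_congr rfl fun χ _ => by rw [map_mul]
  have hint : IsIntegral ℤ z := IsIntegral.sum _ fun χ _ =>
    (IsCharacter.isIntegral (isCharacter_of_irr χ.2) _).mul
      (IsCharacter.isIntegral (isCharacter_of_irr χ.2) _)
  obtain ⟨m, hm⟩ := int_of_isIntegral_rat (q := q) (hq ▸ hint)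
  have hrm : r = (m : ℝ) := by
    have h1 : (r : ℂ) = (m : ℂ) := by rw [← hzr, hq, hm]; norm_cast
    exact_mod_cast h1
  have h1 : (1 : ℝ) ≤ r := by
    have hp1 : principal G ∈ S :=
      Finset.mem_filter.2 ⟨Finset.mem_univ _, mem_blockOf_self hM (principal G)⟩
    have h2 := Finset.single_le_sum (f := fun χ : IrrCharacter G => Complex.normSq ((χ : G → ℂ) x))
      (s := S) (fun χ _ => Complex.normSq_nonneg _) hp1
    rw [hr]
    refine le_trans ?_ h2
    rw [show ((principal G : IrrCharacter G) : G → ℂ) x = 1 from rfl, map_one]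
  rw [hrm] at h1
  have hm1 : (1 : ℤ) ≤ m := by exact_mod_cast h1
  refine ⟨m.toNat, by omega, ?_⟩
  rw [hrm]
  exact_mod_cast (Int.toNat_of_nonneg (by omega)).symm

/-- The principal block consists of the inflations of that of the quotient by a normal
`p'`-subgroup. -/
theorem image_inflate_principal (hM : IsPModular p M) (N : Subgroup G) [N.Normal]
    (hN : ¬ p ∣ Nat.card N) :
    inflate N '' Cfsg.principalBlock M (G ⧸ N) = Cfsg.principalBlock M G := by
  classical
  letI := Fintype.ofFinite (G ⧸ N)
  have hsurj : Function.Surjective (QuotientGroup.mk' N) := QuotientGroup.mk'_surjective N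
  have hone : inflate N (principal (G ⧸ N)) = principal G := Subtype.ext rfl
  refine Set.Subset.antisymm ?_ fun ψ hψ => ?_
  · rintro _ ⟨φ, hφ, rfl⟩
    refine (sameBlock_iff_res hM (principal G) (inflate N φ)).2 fun g => ?_
    obtain ⟨k, hk⟩ : (Subgroup.centralizer ({(g : G ⧸ N)} : Set (G ⧸ N))).index ∣
        (Subgroup.centralizer ({g} : Set G)).index := by
      refine dvd_trans (Subgroup.index_dvd_of_le ?_) (Subgroup.index_map_dvd _ hsurj)
      rintro _ ⟨z, hz, rfl⟩
      rw [SetLike.mem_coe, Subgroup.mem_centralizer_singleton_iff] at hz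
      rw [Subgroup.mem_centralizer_singleton_iff]
      show (z : G ⧸ N) * (g : G ⧸ N) = (g : G ⧸ N) * (z : G ⧸ N)
      rw [← QuotientGroup.mk_mul, hz, QuotientGroup.mk_mul]
    have hcc : ∀ φ' : IrrCharacter (G ⧸ N), centralChar (inflate N φ' : G → ℂ) g =
        (k : ℂ) * centralChar (φ' : G ⧸ N → ℂ) (g : G ⧸ N) := fun φ' => by
      simp only [centralChar, inflate_val, hk, Nat.cast_mul, QuotientGroup.mk_one]
      ring
    have h1 := (sameBlock_iff_res hM (principal (G ⧸ N)) φ).1 hφ (g : G ⧸ N)
    rw [← hone, hcc, hcc, res_mul (natCast_mem_place _) (centralChar_mem_place hM _ _),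
      res_mul (natCast_mem_place _) (centralChar_mem_place hM _ _), h1]
  · obtain ⟨ψ', hψ', hsame⟩ := exists_inflated_of_sameBlock hM N hN (principal (G ⧸ N)) ψ
      ((IsPBlock.sameBlock hM (isPBlock_blockOf (principal G)) (mem_blockOf_self hM _) hψ :
        SameBlock M ((principal G : IrrCharacter G) : G → ℂ) (ψ : G → ℂ)))
    exact ⟨ψ', hsame, Subtype.ext hψ'.symm⟩

end Cfsg.Lib.Blocks
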