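import Mathlib
import Cfsg.Agent.Blocks.InducedPart
import Cfsg.Agent.Blocks.PrincipalColumn
import Cfsg.Agent.Chars.Gallagher
import Cfsg.Agent.S4583
import Cfsg.Agent.Blocks.OneDegree
import Cfsg.Agent.Components.Misc.FrattiniQuotient
import Cfsg.Agent.Splitting.Basic
import Cfsg.Agent.OddLocal.SmallStructure
import Cfsg.Agent.Blocks.Brauer

/-!
# A single degree of height zero in the principal block
-/

set_option autoImplicit false
set_option linter.unusedSectionVars false
set_option linter.style.haveILetI false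

namespace Cfsg.Lib.Blocks.SingleDegree

open Cfsg.Lib.Chars Cfsg.Lib.Blocks
open scoped ComplexConjugate

universe u

variable {p : ℕ} [hp : Fact p.Prime] {M : Ideal AlgInt}

theorem blockHeight_zero_iff {G : Type u} [Group G] [Finite G] (hM : IsPModular p M)
    (χ : IrrCharacter G) :
    Cfsg.blockHeight p (Cfsg.principalBlock M G) (χ : G → ℂ) = 0 ↔
      ¬ p ∣ Cfsg.charDegree (χ : G → ℂ) := by
  haveI := Fintype.ofFinite G
  have hinf : sInf ((fun ψ : IrrCharacter G => (Cfsg.charDegree (ψ : G → ℂ)).factorization p) ''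
      Cfsg.principalBlock M G) = 0 := by
    refine Nat.sInf_eq_zero.2 (Or.inl ⟨principal G, mem_blockOf_self hM (principal G), ?_⟩)
    simp [Cfsg.charDegree, principal]
  have hd : Cfsg.charDegree (χ : G → ℂ) ≠ 0 := by
    rw [charDegree_eq_deg]; exact (deg_irr_pos χ).ne'
  rw [Cfsg.blockHeight, hinf, Nat.sub_zero]
  constructor
  · intro h hdvd
    exact absurd (hp.out.factorization_pos_of_dvd hd hdvd) (by omega)
  · exact Nat.factorization_eq_zero_of_not_dvd

/-- An extension by a `p`-group of a `p'`-group is `p`-solvable. -/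
theorem isPSolvable_of_normal {G : Type u} [Group G] [Finite G] (N : Subgroup G) [hN : N.Normal]
    (hNc : (Nat.card N).Coprime p) (hidx : ∃ k, N.index = p ^ k) : Cfsg.IsPSolvable p G := by
  obtain ⟨k, hk⟩ := hidx
  refine ⟨2, ![⊥, N, ⊤], rfl, rfl, ?_, ?_, ?_⟩
  · intro i j hij
    fin_cases i <;> fin_cases j <;> simp_all
  · intro i
    fin_cases i
    · exact inferInstanceAs ((⊥ : Subgroup G).Normal)
    · exact hN
    · exact inferInstanceAs ((⊤ : Subgroup G).Normal)
  · intro i
    fin_cases i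
    · exact .inr (by simpa [Subgroup.relIndex_bot_left] using hNc)
    · exact .inl ⟨k, by simpa [Subgroup.relIndex_top_right] using hk⟩

/-- In a group generated by `p'`-elements linear characters have order prime to `p`. -/
theorem not_dvd_detOrder {X : Type u} [Group X] [Finite X]
    (hgen : Subgroup.closure {x : X | (orderOf x).Coprime p} = ⊤) {θ : X → ℂ}
    (hθ : Cfsg.IsIrrCharacter X θ) : ¬ p ∣ Cfsg.detOrder θ := by
  haveI := Fintype.ofFinite X
  obtain ⟨f, hf⟩ := detChar_is_hom (isCharacter_of_irr hθ)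
  have ho : Cfsg.detOrder θ = orderOf f := by rw [Cfsg.detOrder, hf]; exact orderOf_linear f
  rw [ho]
  intro hd
  have hpos : 0 < orderOf f := orderOf_pos_iff.mpr (isOfFinOrder_iff_pow_eq_one.mpr
    ⟨Nat.card X, Nat.card_pos, by
      ext x; rw [MonoidHom.pow_apply, ← map_pow, pow_card_eq_one', map_one, MonoidHom.one_apply]⟩)
  have hker : (f ^ (orderOf f / p)).ker = ⊤ := by
    rw [← top_le_iff, ← hgen, Subgroup.closure_le]
    intro x hx
    rw [SetLike.mem_coe, MonoidHom.mem_ker, ← orderOf_eq_one_iff]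
    refine Nat.eq_one_of_dvd_coprimes hx (orderOf_map_dvd _ _) (orderOf_dvd_of_pow_eq_one ?_)
    rw [← MonoidHom.pow_apply, ← pow_mul, Nat.div_mul_cancel hd, pow_orderOf_eq_one,
      MonoidHom.one_apply]
  have h1 : f ^ (orderOf f / p) = 1 := by
    ext x
    have : x ∈ (f ^ (orderOf f / p)).ker := hker ▸ Subgroup.mem_top x
    rw [MonoidHom.mem_ker] at this
    rw [this, MonoidHom.one_apply]
  have h2 := Nat.le_of_dvd (Nat.div_pos (Nat.le_of_dvd hpos hd) hp.out.pos)
    (orderOf_dvd_of_pow_eq_one (G := X →* ℂˣ) (x := f) (n := orderOf f / p)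
      (MonoidHom.ext fun x => DFunLike.congr_fun h1 x))
  exact absurd (Nat.div_lt_self hpos hp.out.one_lt) (not_lt.2 h2)

open scoped Classical in
/-- The sum of the squares of the degrees in the principal block is divisible by `p` when the
order is. -/
theorem dvd_sum_deg_sq {X : Type u} [Group X] [Fintype X] (hM : IsPModular p M)
    (hX : p ∣ Nat.card X) :
    p ∣ ∑ χ ∈ Finset.univ.filter (fun χ : IrrCharacter X => χ ∈ Cfsg.principalBlock M X),
      deg (χ : X → ℂ) ^ 2 := by
  have hB : IsPBlock M (Cfsg.principalBlock M X) := isPBlock_blockOf (principal X)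
  set S := Finset.univ.filter (fun χ : IrrCharacter X => χ ∈ Cfsg.principalBlock M X) with hS
  have h1 : ((∑ χ ∈ S, deg (χ : X → ℂ) ^ 2 : ℕ) : ℂ) =
      (Nat.card X : ℂ) * blockCoeff (Cfsg.principalBlock M X) 1 := by
    rw [blockCoeff_eq_sum, mul_inv_cancel_left₀ (Nat.cast_ne_zero.2 Nat.card_pos.ne')]
    push_cast
    refine Finset.sum_congr rfl fun χ _ => ?_
    rw [irr_apply_one_eq_deg, Complex.conj_natCast]
    ring
  rw [← small_natCast_iff hM, h1]
  exact (small_natCast hM hX).mul_mem (blockCoeff_mem_place hM hB 1)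

/-- A subgroup generated by `p'`-elements, of order divisible by `p`, has a nontrivial character
in the principal block, of degree prime to `p`, extending to a join with a Sylow subgroup. -/
theorem exists_extendible {G : Type u} [Group G] [Finite G] (hM : IsPModular p M)
    (N : Subgroup G) [N.Normal] (hgen : Subgroup.closure {x : N | (orderOf x).Coprime p} = ⊤)
    (hpN : p ∣ Nat.card N) (P : Sylow p G) :
    ∃ θ : IrrCharacter N, θ ∈ Cfsg.principalBlock M N ∧ θ ≠ principal N ∧
      ¬ p ∣ Cfsg.charDegree (θ : N → ℂ) ∧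
      ∃ η : IrrCharacter ↥(N ⊔ (P : Subgroup G)), ∀ n : N,
        (η : ↥(N ⊔ (P : Subgroup G)) → ℂ) (Subgroup.inclusion le_sup_left n) = (θ : N → ℂ) n := by
  classical
  haveI := Fintype.ofFinite G
  haveI := Fintype.ofFinite N
  set S := Finset.univ.filter (fun χ : IrrCharacter N => χ ∈ Cfsg.principalBlock M N) with hS
  -- the action of `P`
  letI act : MulAction (P : Subgroup G) (IrrCharacter N) :=
    { smul := fun k θ => cjIrr N ((k : G)⁻¹) θ
      one_smul := fun θ => by
        show cjIrr N (((1 : (P : Subgroup G)) : G)⁻¹) θ = θ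
        rw [OneMemClass.coe_one, inv_one, cjIrr_one]
      mul_smul := fun a b θ => by
        show cjIrr N (((a * b : (P : Subgroup G)) : G)⁻¹) θ = cjIrr N ((a : G)⁻¹) (cjIrr N ((b : G)⁻¹) θ)
        rw [Subgroup.coe_mul, mul_inv_rev, cjIrr_mul] }
  have hsmul : ∀ (k : (P : Subgroup G)) (θ : IrrCharacter N), k • θ = cjIrr N ((k : G)⁻¹) θ :=
    fun _ _ => rfl
  have hdegcj : ∀ (g : G) (θ : IrrCharacter N),
      deg (cjIrr N g θ : N → ℂ) = deg (θ : N → ℂ) := fun g θ => by
    apply Nat.cast_injective (R := ℂ)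
    rw [← irr_apply_one_eq_deg, ← irr_apply_one_eq_deg]
    show (irrEquiv (MulAut.conjNormal g) θ : N → ℂ) 1 = _
    rw [irrEquiv_apply, map_one]
  have hblk : ∀ (g : G) (θ : IrrCharacter N), θ ∈ Cfsg.principalBlock M N →
      cjIrr N g θ ∈ Cfsg.principalBlock M N := by
    intro g θ hθ
    have h1 := (sameBlock_irrEquiv (M := M) (MulAut.conjNormal g : N ≃* N) (principal N) θ).2 hθ
    exact h1
  have hfix := sum_eq_sum_fixed (p := p) (P := (P : Subgroup G)) (α := IrrCharacter N) P.2
    (fun r : ZMod p => by rw [nsmul_eq_mul, ZMod.natCast_self, zero_mul])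
    (fun θ => if θ ∈ Cfsg.principalBlock M N then (deg (θ : N → ℂ) : ZMod p) ^ 2 else 0)
    (fun k θ => by
      simp only [hsmul, hdegcj]
      refine if_congr ⟨fun h => ?_, hblk _ θ⟩ rfl rfl
      have := hblk (k : G) _ h
      rwa [← cjIrr_mul, inv_mul_cancel, cjIrr_one] at this)
  have hzero : ∑ θ : IrrCharacter N,
      (if θ ∈ Cfsg.principalBlock M N then (deg (θ : N → ℂ) : ZMod p) ^ 2 else 0) = 0 := by
    rw [← Finset.sum_filter, ← hS]
    have := (ZMod.natCast_eq_zero_iff _ p).2 (dvd_sum_deg_sq hM hpN)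
    push_cast at this
    rw [← hS] at this
    exact this
  rw [hzero] at hfix
  set T := Finset.univ.filter (· ∈ MulAction.fixedPoints (P : Subgroup G) (IrrCharacter N)) with hT
  have h1T : principal N ∈ T := Finset.mem_filter.2 ⟨Finset.mem_univ _, fun k => Subtype.ext (by
    rw [hsmul, cjIrr_val]; rfl)⟩
  obtain ⟨θ, hθT, hθne⟩ : ∃ θ ∈ T.erase (principal N),
      (if θ ∈ Cfsg.principalBlock M N then (deg (θ : N → ℂ) : ZMod p) ^ 2 else 0) ≠ 0 := by
    by_contra hno
    push Not at hno
    rw [← Finset.add_sum_erase _ _ h1T, Finset.sum_eq_zero hno, add_zero,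
      if_pos (show principal N ∈ Cfsg.principalBlock M N from mem_blockOf_self hM (principal N))]
      at hfix
    have hd1 : deg ((principal N : IrrCharacter N) : N → ℂ) = 1 := by
      apply Nat.cast_injective (R := ℂ)
      rw [← irr_apply_one_eq_deg]; exact Nat.cast_one.symm
    rw [hd1, Nat.cast_one, one_pow] at hfix
    exact one_ne_zero hfix.symm
  obtain ⟨hne, hθfix⟩ := Finset.mem_erase.1 hθT
  have hθfix' := (Finset.mem_filter.1 hθfix).2
  have hθB : θ ∈ Cfsg.principalBlock M N := by
    by_contra h; rw [if_neg h] at hθne; exact hθne rfl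
  rw [if_pos hθB] at hθne
  have hθd : ¬ p ∣ deg (θ : N → ℂ) := fun h => hθne (by
    rw [(ZMod.natCast_eq_zero_iff _ p).2 h]; ring)
  refine ⟨θ, hθB, hne, hθd, ?_⟩
  -- extension to `U`
  set U := N ⊔ (P : Subgroup G) with hU
  haveI := Fintype.ofFinite U
  haveI : (N.subgroupOf U).Normal := Subgroup.normal_subgroupOf
  haveI := Fintype.ofFinite (N.subgroupOf U)
  set e := Subgroup.subgroupOfEquivOfLe (le_sup_left : N ≤ U) with he
  set θ' := irrEquiv e θ with hθ'
  have hgen' : Subgroup.closure {x : N.subgroupOf U | (orderOf x).Coprime p} = ⊤ := by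
    have h1 := congrArg (Subgroup.map e.symm.toMonoidHom) hgen
    rw [MonoidHom.map_closure, Subgroup.map_top_of_surjective e.symm.toMonoidHom e.symm.surjective]
      at h1
    rw [← h1]
    congr 1
    ext x
    simp only [Set.mem_image, Set.mem_setOf_eq, MulEquiv.coe_toMonoidHom]
    constructor
    · exact fun hx => ⟨e x, by rwa [MulEquiv.orderOf_eq], e.symm_apply_apply x⟩
    · rintro ⟨y, hy, rfl⟩
      rwa [MulEquiv.orderOf_eq]
  have hidx : ∃ k, (N.subgroupOf U).index = p ^ k := by
    obtain ⟨m, hm⟩ := IsPGroup.iff_card.1 P.2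
    have h := Coprime.card_sup_mul_card_inf (G := G) (N := N) (H := (P : Subgroup G))
      Subgroup.le_normalizer_of_normal
    have hd : (N.subgroupOf U).index ∣ p ^ m := by
      have h2 : Nat.card N * N.relIndex U = Nat.card U := by
        rw [← Subgroup.relIndex_bot_left, Subgroup.relIndex_mul_relIndex _ _ _ bot_le
          (le_sup_left : N ≤ U), Subgroup.relIndex_bot_left]
      rw [← h2, mul_assoc] at h
      rw [← hm]
      exact ⟨_, (Nat.eq_of_mul_eq_mul_left Nat.card_pos h).symm⟩
    obtain ⟨j, -, hj⟩ := (Nat.dvd_prime_pow hp.out).1 hd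
    exact ⟨j, hj⟩
  have hinv : ∀ g : U, conjN (N.subgroupOf U) g (θ' : N.subgroupOf U → ℂ) = θ' := by
    intro g
    obtain ⟨a, ha, b, hb, hab⟩ := Subgroup.mem_sup_of_normal_left.1 g.2
    have hg : conjN N (g : G) (θ : N → ℂ) = θ := by
      rw [← hab, conjN_mul, conjN_of_mem (isClassFunction_irr θ) ⟨a, ha⟩]
      have := congrArg Subtype.val (hθfix' ⟨b⁻¹, (P : Subgroup G).inv_mem hb⟩)
      rw [hsmul, cjIrr_val] at this
      simpa using this
    funext n
    have := congrFun hg (e n)
    simp only [conjN] at this ⊢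
    rw [hθ', irrEquiv_apply, irrEquiv_apply, ← this]
    exact congrArg _ (Subtype.ext rfl)
  obtain ⟨k, hk⟩ := hidx
  have hd' : deg (θ' : N.subgroupOf U → ℂ) = deg (θ : N → ℂ) := by
    apply Nat.cast_injective (R := ℂ)
    rw [← irr_apply_one_eq_deg, ← irr_apply_one_eq_deg, hθ', irrEquiv_apply, map_one]
  obtain ⟨η, ⟨hη, hηN, -⟩, -⟩ := exists_canonical_extension (N.subgroupOf U) θ'.2 hinv
    (irr_apply_one_eq_deg θ') (by
      rw [hk, hd']
      exact Nat.Coprime.pow_left k (hp.out.coprime_iff_not_dvd.2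
        (hp.out.not_dvd_mul (not_dvd_detOrder hgen' θ'.2) hθd)))
  refine ⟨⟨η, hη⟩, fun n => ?_⟩
  have := hηN (e.symm n)
  rw [hθ', irrEquiv_apply, MulEquiv.apply_symm_apply] at this
  rw [← this]
  exact congrArg η (Subtype.ext rfl)

/-- A single degree of height zero forces a normal `p`-complement. -/
theorem hasNormalPComplement {G : Type u} [Group G] [Finite G] (hM : IsPModular p M) (d : ℕ)
    (hd : ∀ χ : IrrCharacter G, χ ∈ Cfsg.principalBlock M G →
      Cfsg.blockHeight p (Cfsg.principalBlock M G) (χ : G → ℂ) = 0 →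
      Cfsg.charDegree (χ : G → ℂ) = d) : Cfsg.HasNormalPComplement p G := by
  classical
  haveI := Fintype.ofFinite G
  have h1d : d = 1 := by
    rw [← hd (principal G) (mem_blockOf_self hM (principal G))
      ((blockHeight_zero_iff hM _).2 (by simp [Cfsg.charDegree, principal, hp.out.ne_one]))]
    simp [Cfsg.charDegree, principal]
  subst h1d
  obtain ⟨P⟩ := (inferInstance : Nonempty (Sylow p G))
  -- the constituents on a normal subgroup inside `G'` are trivial
  have key : ∀ (L : Subgroup G) [L.Normal] (θ : IrrCharacter L), θ ∈ Cfsg.principalBlock M L →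
      ¬ p ∣ Cfsg.charDegree (θ : L → ℂ) →
      (∃ η : IrrCharacter ↥(L ⊔ (P : Subgroup G)), ∀ n : L,
        (η : ↥(L ⊔ (P : Subgroup G)) → ℂ) (Subgroup.inclusion le_sup_left n) = (θ : L → ℂ) n) →
      ∀ n : L, (n : G) ∈ commutator G → (θ : L → ℂ) n = 1 := by
    intro L _ θ hθ hdeg hext n hn
    obtain ⟨χ, hχ, hχd, hc⟩ := Cfsg.Agent.S4583.result L p M hM P θ hθ hdeg hext
    have hχ1 : (χ : G → ℂ) 1 = 1 := by
      rw [irr_apply_one_eq_deg, ← charDegree_eq_deg,
        hd χ hχ ((blockHeight_zero_iff hM χ).2 hχd), Nat.cast_one]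
    obtain ⟨f, hf⟩ := exists_hom_of_deg_one (isCharacter_of_irr χ.2) hχ1
    letI := Fintype.ofFinite L
    set lam : IrrCharacter L :=
      ⟨fun m : L => (f m : ℂ), isIrrCharacter_linear (f.comp L.subtype)⟩ with hlam
    have heq : lam = θ := by
      by_contra hne
      refine hc ?_
      rw [show (fun m : L => (χ : G → ℂ) m) = (lam : L → ℂ) by rw [hf]]
      rw [classInner_irrCharacter, if_neg hne]
    rw [← heq]
    show (f (n : G) : ℂ) = 1
    rw [show f (n : G) = 1 from Abelianization.commutator_subset_ker f hn, Units.val_one]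
  -- the residual of the derived subgroup
  set N := Subgroup.closure {g : G | g ∈ commutator G ∧ (orderOf g).Coprime p} with hN
  haveI hNn : N.Normal := by
    refine ⟨fun x hx g => ?_⟩
    have hle : N ≤ N.comap (MulAut.conj g).toMonoidHom := by
      refine (Subgroup.closure_le _).2 fun y hy => Subgroup.subset_closure ⟨?_, ?_⟩
      · exact Subgroup.Normal.conj_mem inferInstance y hy.1 g
      · show (orderOf (MulAut.conj g y)).Coprime p
        rw [MulEquiv.orderOf_eq]; exact hy.2
    exact hle hx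
  have hNG : N ≤ commutator G := (Subgroup.closure_le _).2 fun y hy => hy.1
  have hgen : Subgroup.closure {x : N | (orderOf x).Coprime p} = ⊤ := by
    apply Subgroup.map_injective N.subtype_injective
    rw [MonoidHom.map_closure, ← MonoidHom.range_eq_map, N.range_subtype]
    refine le_antisymm ((Subgroup.closure_le _).2 fun y hy => ?_) ?_
    · obtain ⟨z, -, rfl⟩ := hy; exact z.2
    · refine (Subgroup.closure_le _).2 fun y hy => Subgroup.subset_closure ?_
      exact ⟨⟨y, Subgroup.subset_closure hy⟩, by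
        show (orderOf (⟨y, _⟩ : N)).Coprime p
        rw [Subgroup.orderOf_mk]; exact hy.2, rfl⟩
  have hNp : (Nat.card N).Coprime p := by
    rw [Nat.coprime_comm, hp.out.coprime_iff_not_dvd]
    intro hpN
    obtain ⟨θ, hθ, hne, hdeg, hext⟩ := exists_extendible hM N hgen hpN P
    exact hne (Subtype.ext (funext fun n => (key N θ hθ hdeg hext n (hNG n.2)).trans rfl))
  -- `W = G' P`
  set W := commutator G ⊔ (P : Subgroup G) with hW
  haveI hWn : W.Normal := Subgroup.Normal.of_commutator_le G le_sup_left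
  have hNW : N ≤ W := hNG.trans le_sup_left
  have hWp : ∀ w ∈ W, ∃ j : ℕ, w ^ p ^ j ∈ N := by
    intro w hw
    set π := QuotientGroup.mk' N
    have hGp : IsPGroup p ↥((commutator G).map π) := by
      rintro ⟨x, hx⟩
      obtain ⟨y, hy, rfl⟩ := Subgroup.mem_map.1 hx
      refine ⟨(orderOf y).factorization p, Subtype.ext ?_⟩
      rw [SubgroupClass.coe_pow, OneMemClass.coe_one, ← map_pow]
      refine (QuotientGroup.eq_one_iff _).2 (Subgroup.subset_closure ⟨pow_mem hy _, ?_⟩)
      rw [orderOf_pow_of_dvd (pow_ne_zero _ hp.out.ne_zero) (Nat.ordProj_dvd _ _)]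
      exact (Nat.coprime_ordCompl hp.out (orderOf_pos y).ne').symm
    have hsup : IsPGroup p ↥((commutator G).map π ⊔ (P : Subgroup G).map π) := by
      haveI : ((commutator G).map π).Normal :=
        Subgroup.Normal.map inferInstance π (QuotientGroup.mk'_surjective N)
      exact hGp.to_sup_of_normal_left (P.2.map π)
    have hmem : π w ∈ (commutator G).map π ⊔ (P : Subgroup G).map π := by
      rw [← Subgroup.map_sup]; exact Subgroup.mem_map_of_mem π hw
    obtain ⟨j, hj⟩ := hsup ⟨π w, hmem⟩
    refine ⟨j, (QuotientGroup.eq_one_iff _).1 ?_⟩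
    have := congrArg Subtype.val hj
    rw [SubgroupClass.coe_pow, OneMemClass.coe_one, ← map_pow] at this
    exact this
  haveI : (N.subgroupOf W).Normal := Subgroup.normal_subgroupOf
  have hWq : IsPGroup p (↥W ⧸ N.subgroupOf W) := by
    intro x
    obtain ⟨w, rfl⟩ := QuotientGroup.mk'_surjective _ x
    obtain ⟨j, hj⟩ := hWp w w.2
    refine ⟨j, ?_⟩
    rw [← map_pow]
    refine (QuotientGroup.eq_one_iff _).2 ?_
    rw [Subgroup.mem_subgroupOf, SubgroupClass.coe_pow]
    exact hj
  have hNWcard : (Nat.card (N.subgroupOf W)).Coprime p := by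
    rwa [Nat.card_congr (Subgroup.subgroupOfEquivOfLe hNW).toEquiv]
  obtain ⟨k, hk⟩ := IsPGroup.iff_card.1 hWq
  have hidxW : ∃ k, (N.subgroupOf W).index = p ^ k := ⟨k, by rw [Subgroup.index_eq_card, hk]⟩
  -- linear characters of `W / N` are trivial on `G'`
  have hcomm : commutator G ≤ N ⊔ (commutator W).map W.subtype := by
    intro x hx
    by_contra hxn
    have hxW : x ∈ W := Subgroup.mem_sup_left hx
    set π := QuotientGroup.mk' (N.subgroupOf W) with hπ
    have hxc : π ⟨x, hxW⟩ ∉ commutator (↥W ⧸ N.subgroupOf W) := by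
      intro h
      rw [commutator_def, ← Subgroup.map_top_of_surjective π (QuotientGroup.mk'_surjective _),
        ← Subgroup.map_commutator, ← commutator_def, ← Subgroup.mem_comap, Subgroup.comap_map_eq,
        hπ, QuotientGroup.ker_mk'] at h
      refine hxn ?_
      have h2 := Subgroup.mem_map_of_mem W.subtype h
      rw [Subgroup.map_sup, Subgroup.map_subgroupOf_eq_of_le hNW, sup_comm] at h2
      exact h2
    obtain ⟨g, hg⟩ := OneDegree.exists_linear_ne_one hxc
    set lam : IrrCharacter W :=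
      ⟨fun w : W => ((g.comp π) w : ℂ), isIrrCharacter_linear (g.comp π)⟩ with hlam
    letI := Fintype.ofFinite W
    have hlamN : ∀ w ∈ N.subgroupOf W, (lam : W → ℂ) w = 1 := by
      intro w hw
      show ((g.comp π) w : ℂ) = 1
      rw [MonoidHom.comp_apply, hπ, QuotientGroup.mk'_apply, (QuotientGroup.eq_one_iff _).2 hw,
        map_one, Units.val_one]
    have hlam1 : (lam : W → ℂ) 1 = 1 := hlamN 1 (one_mem _)
    have hlamB : lam ∈ Cfsg.principalBlock M W := by
      refine (mem_principalBlock_iff_of_isPSolvable hM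
        (isPSolvable_of_normal (N.subgroupOf W) hNWcard hidxW) lam).2 fun w hw => ?_
      rw [hlam1]
      refine hlamN w ?_
      rw [← QuotientGroup.eq_one_iff, ← orderOf_eq_one_iff]
      obtain ⟨j, hj⟩ := hWq (w : ↥W ⧸ N.subgroupOf W)
      refine Nat.eq_one_of_dvd_coprimes ((Components.coprime_card_pPrimeCore
        (G := W) p).pow_right j) ?_ (orderOf_dvd_of_pow_eq_one hj)
      exact dvd_trans (orderOf_map_dvd (QuotientGroup.mk' (N.subgroupOf W)) w)
        (Subgroup.orderOf_dvd_natCard _ hw)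
    have heq : W ⊔ (P : Subgroup G) = W := sup_eq_left.2 le_sup_right
    have h := key W lam hlamB (by
      rw [Cfsg.charDegree, hlam1, Complex.one_re, Nat.floor_one]
      exact hp.out.not_dvd_one)
      ⟨⟨_, IsIrrCharacter.comp_mulEquiv lam.2 (MulEquiv.subgroupCongr heq)⟩,
        fun n => congrArg (lam : W → ℂ) (Subtype.ext rfl)⟩ ⟨x, hxW⟩ hx
    exact hg (Units.ext h)
  -- `G / N` is nilpotent
  set π := QuotientGroup.mk' N with hπ
  have hs : Function.Surjective π := QuotientGroup.mk'_surjective N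
  haveI hWbn : (W.map π).Normal := hWn.map π hs
  have hWb : IsPGroup p ↥(W.map π) := by
    rintro ⟨x, hx⟩
    obtain ⟨w, hw, rfl⟩ := Subgroup.mem_map.1 hx
    obtain ⟨j, hj⟩ := hWp w hw
    refine ⟨j, Subtype.ext ?_⟩
    rw [SubgroupClass.coe_pow, OneMemClass.coe_one, ← map_pow]
    exact (QuotientGroup.eq_one_iff _).2 hj
  have hfr : commutator (G ⧸ N) ≤ frattini (G ⧸ N) := by
    refine le_trans ?_ (le_trans (Subgroup.map_mono (PGroups.commutator_le_frattini hWb))
      (Misc.FrattiniQuotient.frattini_normal_le (W.map π)))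
    rw [commutator_def, ← Subgroup.map_top_of_surjective π hs, ← Subgroup.map_commutator,
      ← commutator_def]
    refine le_trans (Subgroup.map_mono hcomm) ?_
    rw [Subgroup.map_sup, show N.map π = ⊥ by rw [Subgroup.map_eq_bot_iff, hπ, QuotientGroup.ker_mk'],
      bot_sup_eq, commutator_def, commutator_def, Subgroup.map_commutator, Subgroup.map_commutator,
      Subgroup.map_commutator]
    refine Subgroup.commutator_mono ?_ ?_ <;>
      rw [← MonoidHom.range_eq_map, Subgroup.range_subtype, ← MonoidHom.range_eq_map,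
        Subgroup.range_subtype]
  haveI : Group.IsNilpotent (G ⧸ N) := by
    refine ((Group.isNilpotent_of_finite_tfae (G := G ⧸ N)).out 0 2).2 fun H hH => ?_
    exact Subgroup.Normal.of_commutator_le _ (hfr.trans (frattini_le_coatom hH))
  obtain ⟨Pb, Kb, hKb, hcompl⟩ := Splitting.hasNormalPComplement_of_nilpotent (G := G ⧸ N) p
  haveI := hKb
  obtain ⟨hKc, a, ha⟩ := Transfer.complement_props hcompl
  haveI : (Kb.comap π).Normal := hKb.comap π
  refine OddP.hasNormalPComplement_of_quotient (Kb.comap π) ?_ ?_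
  · have h1 : Nat.card (Kb.comap π) = Nat.card N * Nat.card Kb := by
      have h2 := (Kb.comap π).card_mul_index
      rw [Subgroup.index_comap_of_surjective _ hs, ← N.card_mul_index, Subgroup.index_eq_card N,
        ← Kb.card_mul_index, ← mul_assoc] at h2
      exact Nat.eq_of_mul_eq_mul_right (Nat.pos_of_ne_zero Kb.index_ne_zero_of_finite) h2
    rw [h1]
    exact Nat.Coprime.mul_left hNp hKc
  · exact IsPGroup.of_card (n := a)
      (by rw [← Subgroup.index_eq_card, Subgroup.index_comap_of_surjective _ hs, ha])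

/-- A normal `p`-complement leaves only linear characters of height zero in the principal block. -/
theorem exists_single_degree {G : Type u} [Group G] [Finite G] (hM : IsPModular p M)
    (h : Cfsg.HasNormalPComplement p G) :
    ∀ χ : IrrCharacter G, χ ∈ Cfsg.principalBlock M G →
      Cfsg.blockHeight p (Cfsg.principalBlock M G) (χ : G → ℂ) = 0 →
      Cfsg.charDegree (χ : G → ℂ) = 1 := by
  classical
  haveI := Fintype.ofFinite G
  obtain ⟨P, K, hK, hc⟩ := h
  haveI := hK
  haveI := Fintype.ofFinite (G ⧸ K)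
  obtain ⟨hKc, k, hk⟩ := Transfer.complement_props hc
  intro χ hχ h0
  rw [← image_inflate_principal hM K (hp.out.coprime_iff_not_dvd.1 hKc.symm)] at hχ
  obtain ⟨φ, -, rfl⟩ := hχ
  have hd := (blockHeight_zero_iff hM _).1 h0
  have hdeg : Cfsg.charDegree (inflate K φ : G → ℂ) = deg (φ : G ⧸ K → ℂ) := rfl
  rw [hdeg] at hd ⊢
  have hdvd : deg (φ : G ⧸ K → ℂ) ∣ p ^ k := by
    rw [← hk, Subgroup.index_eq_card]; exact IsIrrCharacter.deg_dvd φ.2
  obtain ⟨j, -, hj⟩ := (Nat.dvd_prime_pow hp.out).1 hdvd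
  rcases j with _ | j
  · rw [hj, pow_zero]
  · exact absurd (hj ▸ dvd_pow_self p j.succ_ne_zero) hd

end Cfsg.Lib.Blocks.SingleDegree
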