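import Mathlib
import Cfsg.Agent.Blocks.FongFullDefect
import Cfsg.Agent.GaschutzYen.Basic
import Cfsg.Agent.Coprime.SolvableBasics

/-!
# When a Sylow p-subgroup normalises a Sylow q-subgroup
-/

set_option autoImplicit false
set_option linter.unusedSectionVars false
set_option linter.style.haveILetI false

namespace Cfsg.Lib.Blocks.SylowNorm

open Subgroup
open scoped Pointwise

universe u

variable {G : Type u} [Group G] [Finite G] {p q : ℕ}

/-- A subgroup of index prime to `p` contains a Sylow `p`-subgroup. -/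
theorem exists_sylow_le [hp : Fact p.Prime] (H : Subgroup G) (h : ¬ p ∣ H.index) :
    ∃ P : Sylow p G, (P : Subgroup G) ≤ H := by
  obtain ⟨T⟩ := (inferInstance : Nonempty (Sylow p ↥H))
  have hc : Nat.card ↥((T : Subgroup ↥H).map H.subtype) = p ^ (Nat.card G).factorization p := by
    rw [Subgroup.card_map_of_injective H.subtype_injective, Sylow.card_eq_multiplicity,
      ← H.card_mul_index, Nat.factorization_mul Nat.card_pos.ne' H.index_ne_zero_of_finite,
      Finsupp.add_apply, Nat.factorization_eq_zero_of_not_dvd h, add_zero]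
  exact ⟨Sylow.ofCard _ hc, by simpa using Subgroup.map_subtype_le (T : Subgroup ↥H)⟩

/-- `|H ⊔ N : H| = |N : H ⊓ N|` for normal `N`. -/
theorem relIndex_sup_normal (H N : Subgroup G) [N.Normal] :
    H.relIndex (H ⊔ N) = H.relIndex N := by
  have h1 := Coprime.card_sup_mul_card_inf (G := G) (N := N) (H := H) Subgroup.le_normalizer_of_normal
  have h2 : Nat.card H * H.relIndex (H ⊔ N) = Nat.card ↥(H ⊔ N) := by
    rw [← relIndex_bot_left, relIndex_mul_relIndex _ _ _ bot_le le_sup_left, relIndex_bot_left]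
  have h3 : Nat.card ↥(H ⊓ N) * H.relIndex N = Nat.card N := by
    rw [← relIndex_bot_left (H := H ⊓ N), ← inf_relIndex_right H N,
      relIndex_mul_relIndex _ _ _ bot_le inf_le_right, relIndex_bot_left]
  rw [sup_comm, inf_comm] at h1
  rw [← h2, ← h3] at h1
  have hHN : 0 < Nat.card ↥(H ⊓ N) := Nat.card_pos
  have hH : 0 < Nat.card H := Nat.card_pos
  refine mul_left_cancel₀ (a := Nat.card H * Nat.card ↥(H ⊓ N)) (by positivity) ?_
  linarith

/-- Frattini: the normaliser of a Sylow subgroup maps onto the normaliser of its image. -/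
theorem map_normalizer_sylow [hq : Fact q.Prime] (N : Subgroup G) [N.Normal] (Q : Sylow q G) :
    (normalizer ((Q : Subgroup G) : Set G)).map (QuotientGroup.mk' N) =
      normalizer (((Q : Subgroup G).map (QuotientGroup.mk' N) : Subgroup (G ⧸ N)) : Set (G ⧸ N)) := by
  refine le_antisymm (le_normalizer_map _) fun x hx => ?_
  obtain ⟨g, rfl⟩ := QuotientGroup.mk'_surjective N x
  set X := ((Q : Subgroup G).map (QuotientGroup.mk' N)).comap (QuotientGroup.mk' N) with hX
  have hQX : (Q : Subgroup G) ≤ X := le_comap_map _ _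
  have hgX : ((g • Q : Sylow q G) : Subgroup G) ≤ X := by
    rintro _ ⟨y, hy, rfl⟩
    rw [hX, mem_comap]
    simp only [MulDistribMulAction.toMonoidEnd_apply, MulDistribMulAction.toMonoidHom_apply,
      MulAut.smul_def, MulAut.conj_apply, map_mul, map_inv]
    exact (mem_normalizer_iff.1 hx _).1 (mem_map_of_mem _ hy)
  obtain ⟨y, hy⟩ := MulAction.exists_smul_eq ↥X (Q.subtype hQX) ((g • Q).subtype hgX)
  rw [Sylow.smul_subtype hQX y] at hy
  have h := Sylow.subtype_injective hy
  have h' : ((y : G)⁻¹ * g) • Q = Q := by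
    rw [mul_smul, ← h]
    exact inv_smul_smul (y : G) Q
  have hn := Sylow.smul_eq_iff_mem_normalizer.1 h'
  obtain ⟨z, hz, hzy⟩ := mem_map.1 (mem_comap.1 (y.2 : (y : G) ∈ X))
  have hzn : z ∈ normalizer ((Q : Subgroup G) : Set G) := Subgroup.le_normalizer hz
  refine mem_map.2 ⟨z * ((y : G)⁻¹ * g), mul_mem hzn hn, ?_⟩
  rw [map_mul, map_mul, map_inv, hzy, mul_inv_cancel_left]

/-- The number of Sylow subgroups is multiplicative along a normal subgroup. -/
theorem index_normalizer_sylow [hq : Fact q.Prime] (N : Subgroup G) [N.Normal] (Q : Sylow q G) :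
    (normalizer ((Q : Subgroup G) : Set G)).index =
      (normalizer (((Q : Subgroup G).map (QuotientGroup.mk' N) : Subgroup (G ⧸ N)) : Set (G ⧸ N))).index *
        (normalizer ((Q : Subgroup G) : Set G)).relIndex N := by
  rw [← map_normalizer_sylow, Subgroup.index_map, QuotientGroup.ker_mk',
    MonoidHom.range_eq_top.2 (QuotientGroup.mk'_surjective N), Subgroup.index_top, mul_one,
    ← relIndex_sup_normal, mul_comm, relIndex_mul_index le_sup_left]

/-- A non-trivial `p`-solvable group has a non-trivial normal `p`- or `p'`-subgroup. -/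
theorem exists_normal_p_or_prime [hp : Fact p.Prime] [Nontrivial G]
    (h : Cfsg.IsPSolvable p G) :
    ∃ N : Subgroup G, N.Normal ∧ N ≠ ⊥ ∧ (IsPGroup p N ∨ (Nat.card N).Coprime p) := by
  obtain ⟨n, H, h0, hl, hmono, hn, hstep⟩ := h
  have key : ∀ i, H i = ⊥ ∨ ∃ N : Subgroup G, N.Normal ∧ N ≠ ⊥ ∧
      (IsPGroup p N ∨ (Nat.card N).Coprime p) := by
    intro i
    induction i using Fin.induction with
    | zero => exact .inl h0
    | succ i ih =>
      rcases ih with ih | ih
      · by_cases hb : H i.succ = ⊥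
        · exact .inl hb
        · refine .inr ⟨H i.succ, hn _, hb, ?_⟩
          have hs := hstep i
          rw [ih, relIndex_bot_left] at hs
          rcases hs with ⟨m, hm⟩ | hm
          · exact .inl (IsPGroup.of_card hm)
          · exact .inr hm
      · exact .inr ih
  rcases key (Fin.last n) with h | h
  · exact absurd (h.symm.trans hl) bot_ne_top
  · exact h

/-- If every element of a `q`-subgroup `Q` centralises some Sylow `p`-subgroup of a normal
subgroup `N` of order prime to `q`, then the normaliser of `Q` has index prime to `p` in `N`. -/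
theorem not_dvd_relIndex_normalizer [hp : Fact p.Prime] [hq : Fact q.Prime] (N : Subgroup G)
    [N.Normal] (Q : Subgroup G) (hQ : IsPGroup q Q) (hN : ¬ q ∣ Nat.card N)
    (h : ∀ y ∈ Q, ¬ p ∣ (centralizer ({y} : Set G)).index) :
    ¬ p ∣ (normalizer (Q : Set G)).relIndex N := by
  have hcop : ∀ A : Subgroup G, A ≤ Q → (Nat.card A).Coprime (Nat.card N) := by
    intro A hA
    obtain ⟨k, hk⟩ := IsPGroup.iff_card.1 (hQ.to_le hA)
    rw [hk]
    exact ((hq.out.coprime_iff_not_dvd).2 hN).pow_left _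
  have hsol : ∀ A : Subgroup G, A ≤ Q → Group.IsSolvable A := fun A hA => by
    haveI := (hQ.to_le hA).isNilpotent
    infer_instance
  obtain ⟨P0, hP0⟩ := Coprime.exists_invariant_sylow (K := N) Subgroup.le_normalizer_of_normal
    (hcop Q le_rfl) (.inl (hsol Q le_rfl)) p
  suffices hsub : (P0 : Subgroup N).map N.subtype ≤ normalizer (Q : Set G) by
    have h1 : (normalizer (Q : Set G)).relIndex N ∣
        ((P0 : Subgroup N).map N.subtype).relIndex N := relIndex_dvd_of_le_left N hsub
    simp only [relIndex, subgroupOf, comap_map_eq_self_of_injective N.subtype_injective] at h1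
    intro hd
    exact P0.not_dvd_index (dvd_trans hd h1)
  refine le_trans (fun x hx => Subgroup.mem_centralizer_iff.2 fun y hy => ?_)
    (centralizer_le_normalizer (Q : Set G))
  have hA : zpowers y ≤ Q := zpowers_le.2 hy
  -- `y` centralises a Sylow `p`-subgroup of `N`
  have hidx : ¬ p ∣ ((centralizer ({y} : Set G)).subgroupOf N).index := by
    refine fun hd => h y hy (dvd_trans ?_ (relIndex_dvd_index_of_le
      (le_sup_left : centralizer ({y} : Set G) ≤ centralizer ({y} : Set G) ⊔ N)))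
    rw [relIndex_sup_normal]
    exact hd
  obtain ⟨P1, hP1⟩ := exists_sylow_le (p := p) _ hidx
  have hc1 : ∀ z : N, z ∈ (P1 : Subgroup N) → y * (z : G) = (z : G) * y := fun z hz =>
    Subgroup.mem_centralizer_iff.1 (mem_subgroupOf.1 (hP1 hz)) y rfl
  have hyn : zpowers y ≤ normalizer (((P1 : Subgroup N).map N.subtype : Subgroup G) : Set G) := by
    refine le_trans ?_ (centralizer_le_normalizer _)
    rw [zpowers_le, mem_centralizer_iff]
    rintro _ ⟨z, hz, rfl⟩
    exact (hc1 z hz).symm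
  obtain ⟨c, hc, hcP⟩ := Coprime.invariant_sylow_conj (K := N) Subgroup.le_normalizer_of_normal
    (hcop _ hA) (.inl (hsol _ hA)) p P1 P0 hyn (le_trans hA hP0)
  obtain ⟨w, hw, rfl⟩ := hx
  rw [← hcP] at hw
  obtain ⟨z, hz, rfl⟩ := hw
  have hcy : y * (c : G) = (c : G) * y :=
    Subgroup.mem_centralizer_iff.1 hc y (mem_zpowers y)
  have hcy' : Commute y (c : G) := hcy
  have hzy : Commute y (z : G) := hc1 z hz
  simpa using ((hcy'.mul_right hzy).mul_right hcy'.inv_right).eq

/-- If all centralisers of `q`-elements have index prime to `p`, then so has the normaliser of a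
Sylow `q`-subgroup, provided the group is `p`- or `q`-solvable. -/
theorem not_dvd_index_normalizer [hp : Fact p.Prime] [hq : Fact q.Prime] :
    ∀ (n : ℕ) (G : Type u) [Group G] [Finite G], Nat.card G = n →
      (Cfsg.IsPSolvable p G ∨ Cfsg.IsPSolvable q G) →
      (∀ y : G, (∃ k : ℕ, orderOf y = q ^ k) → ¬ p ∣ (centralizer ({y} : Set G)).index) →
      ∀ Q : Sylow q G, ¬ p ∣ (normalizer ((Q : Subgroup G) : Set G)).index := by
  intro n
  induction n using Nat.strong_induction_on with
  | _ n ih => ?_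
  intro G _ _ hn hsolv h Q
  by_cases hG : Subsingleton G
  · intro hd
    have := Nat.le_of_dvd (Nat.pos_of_ne_zero (normalizer _).index_ne_zero_of_finite) hd
    have h1 : (normalizer ((Q : Subgroup G) : Set G)).index ≤ Nat.card G :=
      Nat.le_of_dvd Nat.card_pos (index_dvd_card _)
    rw [Nat.card_unique] at h1
    exact absurd hp.out.two_le (by omega)
  haveI : Nontrivial G := not_subsingleton_iff_nontrivial.1 hG
  obtain ⟨N, hN, hN1, hNc⟩ : ∃ N : Subgroup G, N.Normal ∧ N ≠ ⊥ ∧
      (IsPGroup q N ∨ ¬ q ∣ Nat.card N ∨ ¬ p ∣ Nat.card N) := by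
    rcases hsolv with hs | hs
    · obtain ⟨N, a, b, c | c⟩ := exists_normal_p_or_prime hs
      · refine ⟨N, a, b, ?_⟩
        by_cases hpq : p = q
        · subst hpq; exact .inl c
        · refine .inr (.inl fun hd => hpq ?_)
          obtain ⟨k, hk⟩ := IsPGroup.iff_card.1 c
          rw [hk] at hd
          exact ((Nat.prime_dvd_prime_iff_eq hq.out hp.out).1 (hq.out.dvd_of_dvd_pow hd)).symm
      · exact ⟨N, a, b, .inr (.inr fun hd => hp.out.one_lt.ne'
          (Nat.eq_one_of_dvd_coprimes c hd dvd_rfl))⟩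
    · obtain ⟨N, a, b, c | c⟩ := exists_normal_p_or_prime hs
      · exact ⟨N, a, b, .inl c⟩
      · exact ⟨N, a, b, .inr (.inl fun hd => hq.out.one_lt.ne'
          (Nat.eq_one_of_dvd_coprimes c hd dvd_rfl))⟩
  haveI := hN
  have hlt : Nat.card (G ⧸ N) < n := by
    rw [← hn, ← N.index_mul_card, ← Subgroup.index_eq_card]
    exact lt_mul_of_one_lt_right (Nat.pos_of_ne_zero N.index_ne_zero_of_finite)
      ((Subgroup.one_lt_card_iff_ne_bot _).2 hN1)
  have hq' : ∀ y : G ⧸ N, (∃ k : ℕ, orderOf y = q ^ k) →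
      ¬ p ∣ (centralizer ({y} : Set (G ⧸ N))).index := by
    rintro y ⟨k, hk⟩
    have hy : IsPGroup q (zpowers y) := IsPGroup.of_card ((Nat.card_zpowers y).trans hk)
    obtain ⟨R, hR⟩ := hy.exists_le_sylow
    obtain ⟨S, rfl⟩ := Sylow.mapSurjective_surjective (QuotientGroup.mk'_surjective N) q R
    obtain ⟨x, hx, rfl⟩ := mem_map.1 (hR (mem_zpowers y))
    obtain ⟨j, hj⟩ := IsPGroup.iff_orderOf.1 S.isPGroup' ⟨x, hx⟩
    refine fun hd => h x ⟨j, by rw [← hj, Subgroup.orderOf_mk]⟩ (dvd_trans hd ?_)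
    refine dvd_trans (index_dvd_of_le ?_) (Subgroup.index_map_dvd _ (QuotientGroup.mk'_surjective N))
    rintro _ ⟨z, hz, rfl⟩
    rw [SetLike.mem_coe, mem_centralizer_singleton_iff] at hz
    rw [mem_centralizer_singleton_iff, ← map_mul, hz, map_mul]
  have hind := ih _ hlt (G ⧸ N) rfl
    (hsolv.imp (GaschutzYen.isPSolvable_quotient N) (GaschutzYen.isPSolvable_quotient N)) hq'
    (Q.mapSurjective (QuotientGroup.mk'_surjective N))
  rw [index_normalizer_sylow N Q]
  refine hp.out.not_dvd_mul (by simpa using hind) ?_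
  rcases hNc with hc | hc | hc
  · have hle : N ≤ normalizer ((Q : Subgroup G) : Set G) := by
      refine le_trans ?_ Subgroup.le_normalizer
      obtain ⟨R, hR⟩ := hc.exists_le_sylow
      obtain ⟨g, rfl⟩ := MulAction.exists_smul_eq G R Q
      intro x hx
      refine ⟨g⁻¹ * x * g, hR (by simpa using hN.conj_mem x hx g⁻¹), ?_⟩
      simp [MulAut.smul_def, mul_assoc]
    rw [relIndex_eq_one.2 hle]
    exact hp.out.not_dvd_one
  · refine not_dvd_relIndex_normalizer N _ Q.isPGroup' hc fun y hy => h y ?_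
    obtain ⟨j, hj⟩ := IsPGroup.iff_orderOf.1 Q.isPGroup' ⟨y, hy⟩
    exact ⟨j, by rw [← hj, Subgroup.orderOf_mk]⟩
  · exact fun hd => hc (dvd_trans hd (relIndex_dvd_card _ _))

/-- For a `p`-solvable group, a Sylow `p`-subgroup normalises a Sylow `q`-subgroup only if
`q` does not divide the order of `G/O_{p'}(G)`. -/
theorem not_dvd_index_pPrimeCore [hp : Fact p.Prime] [hq : Fact q.Prime] (hpq : p ≠ q)
    (hsolv : Cfsg.IsPSolvable p G) (P : Sylow p G) (Q : Sylow q G)
    (hPQ : (P : Subgroup G) ≤ normalizer ((Q : Subgroup G) : Set G)) :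
    ¬ q ∣ (Cfsg.pPrimeCore p G).index := by
  haveI : (Cfsg.pPrimeCore p G).Normal := Cfsg.Lib.Components.pPrimeCore_normal' p
  set K := Cfsg.pPrimeCore p G with hK
  have hbot : Cfsg.pPrimeCore p (G ⧸ K) = ⊥ := Cfsg.Lib.Coprime.pPrimeCore_quotient_eq_bot
  have hC := centralizer_pCore_le_of_isPSolvable p (GaschutzYen.isPSolvable_quotient K hsolv) hbot
  set Pb := P.mapSurjective (QuotientGroup.mk'_surjective K) with hPb
  set Qb := Q.mapSurjective (QuotientGroup.mk'_surjective K) with hQb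
  haveI : (Cfsg.pCore p (G ⧸ K)).Normal := Components.pCore_normal' p
  have hRp : IsPGroup p (Cfsg.pCore p (G ⧸ K)) := Components.isPGroup_pCore p
  have hRP : Cfsg.pCore p (G ⧸ K) ≤ (Pb : Subgroup (G ⧸ K)) := by
    obtain ⟨R, hR⟩ := hRp.exists_le_sylow
    obtain ⟨g, hg⟩ := MulAction.exists_smul_eq (G ⧸ K) R Pb
    intro x hx
    rw [← hg]
    exact ⟨g⁻¹ * x * g, hR (by simpa using Subgroup.Normal.conj_mem inferInstance x hx g⁻¹),
      by simp [MulAut.smul_def, mul_assoc]⟩
  have hPn : (Pb : Subgroup (G ⧸ K)) ≤ normalizer ((Qb : Subgroup (G ⧸ K)) : Set (G ⧸ K)) := by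
    rw [hPb, hQb, Sylow.coe_mapSurjective, Sylow.coe_mapSurjective]
    exact le_trans (map_mono hPQ) (le_normalizer_map _)
  have hQle : (Qb : Subgroup (G ⧸ K)) ≤ Cfsg.pCore p (G ⧸ K) := by
    refine le_trans (fun x hx => mem_centralizer_iff.2 fun r hr => ?_) hC
    have hinf : Cfsg.pCore p (G ⧸ K) ⊓ (Qb : Subgroup (G ⧸ K)) = ⊥ :=
      (IsPGroup.disjoint_of_ne p q hpq _ _ hRp Qb.isPGroup').eq_bot
    have h1 : r * x * r⁻¹ * x⁻¹ ∈ Cfsg.pCore p (G ⧸ K) ⊓ (Qb : Subgroup (G ⧸ K)) := by
      refine ⟨?_, Subgroup.mul_mem _ ((mem_normalizer_iff.1 (hPn (hRP hr)) x).1 hx) (Subgroup.inv_mem _ hx)⟩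
      have e : r * x * r⁻¹ * x⁻¹ = r * (x * r⁻¹ * x⁻¹) := by group
      rw [e]
      exact Subgroup.mul_mem _ hr (Subgroup.Normal.conj_mem inferInstance _ (Subgroup.inv_mem _ hr) x)
    rw [hinf, mem_bot, mul_inv_eq_one, mul_inv_eq_iff_eq_mul] at h1
    exact h1
  have hQ1 : (Qb : Subgroup (G ⧸ K)) = ⊥ := by
    rw [← le_bot_iff, ← (IsPGroup.disjoint_of_ne p q hpq _ _ hRp Qb.isPGroup').eq_bot]
    exact le_inf hQle le_rfl
  intro hd
  rw [Subgroup.index_eq_card] at hd
  have := Qb.card_eq_multiplicity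
  rw [hQ1, card_bot] at this
  exact absurd this (Nat.one_lt_pow (Nat.Prime.factorization_pos_of_dvd hq.out Nat.card_pos.ne' hd).ne'
    hq.out.one_lt).ne

end Cfsg.Lib.Blocks.SylowNorm
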