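import Mathlib
import Cfsg.Agent.Blocks.PrincipalSolvable
import Cfsg.Agent.Coprime.SchurZassenhaus
import Cfsg.Agent.PGroups.Basic
import Cfsg.Agent.Chars.Values
import Cfsg.Agent.Thompson.PComplement

/-!
# The intersection of the kernels of the characters of `p'`-degree
-/

set_option autoImplicit false
set_option linter.unusedSectionVars false

namespace Cfsg.Lib.KernelFrattini

open Cfsg.Lib.Chars Cfsg.Lib.Blocks
open scoped ComplexConjugate

universe u v

variable {p : ℕ} [hp : Fact p.Prime]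

/-- A subgroup killed by all characters of `p'`-degree meets a Sylow subgroup in its commutators. -/
theorem inf_sylow_le_commutator {Y : Type u} [Group Y] [Fintype Y] (M : Subgroup Y)
    (hM : ∀ χ : Cfsg.IrrCharacter Y, ¬ p ∣ deg (χ : Y → ℂ) →
      ∀ m ∈ M, (χ : Y → ℂ) m = (χ : Y → ℂ) 1) (P : Sylow p Y) :
    M ⊓ (P : Subgroup Y) ≤ ⁅(P : Subgroup Y), (P : Subgroup Y)⁆ := by
  classical
  intro x hx
  letI := Fintype.ofFinite (P : Subgroup Y)
  rw [← Subgroup.map_subtype_commutator]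
  refine ⟨⟨x, hx.2⟩, ?_, rfl⟩
  by_contra hxc
  have hne : Abelianization.of (⟨x, hx.2⟩ : (P : Subgroup Y)) ≠ 1 := fun h =>
    hxc ((Abelianization.ker_of (P : Subgroup Y)).le h)
  obtain ⟨φ, hφ⟩ := CommGroup.exists_apply_ne_one_of_hasEnoughRootsOfUnity
    (Abelianization (P : Subgroup Y)) ℂ hne
  set lam := φ.comp Abelianization.of with hlamdef
  have hlam := isIrrCharacter_linear lam
  obtain ⟨a, ha⟩ := IsCharacter.exists_decomp (IsCharacter.indFun (G := Y) (isCharacter_of_irr hlam))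
  have hsum : (P : Subgroup Y).index = ∑ χ : Cfsg.IrrCharacter Y, a χ * deg (χ : Y → ℂ) := by
    apply Nat.cast_injective (R := ℂ)
    have h := congrFun ha 1
    rw [indFun_one] at h
    simp only [map_one, Units.val_one, mul_one] at h
    rw [h]
    simp [Finset.sum_apply, irr_apply_one_eq_deg]
  obtain ⟨χ, hχa, hχd⟩ : ∃ χ : Cfsg.IrrCharacter Y, a χ ≠ 0 ∧ ¬ p ∣ deg (χ : Y → ℂ) := by
    by_contra hcon
    push Not at hcon
    refine P.not_dvd_index ?_
    rw [hsum]
    refine Finset.dvd_sum fun χ _ => ?_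
    by_cases h0 : a χ = 0
    · rw [h0, zero_mul]; exact dvd_zero p
    · exact (hcon χ h0).mul_left _
  have hc : Cfsg.classInner (fun y : (P : Subgroup Y) => (χ : Y → ℂ) y) (fun y => (lam y : ℂ)) ≠ 0 := by
    rw [← frobenius_reciprocity' (P : Subgroup Y) _ (isClassFunction_irr χ), ← classInner_conj_symm, ha]
    simp only [← Nat.cast_smul_eq_nsmul ℂ]
    rw [classInner_irrSum (fun ψ => (a ψ : ℂ)) χ, Complex.conj_natCast]
    exact_mod_cast hχa
  obtain ⟨n, ρ, hρ, hρχ⟩ := χ.2
  have hρx : ρ x = 1 := (eq_id_of_character_eq_finrank ρ x).mp (by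
    rw [hρχ, hM χ hχd x hx.1, ← hρχ, ρ.char_one])
  have hshift : ∀ y : Y, (χ : Y → ℂ) (x * y) = (χ : Y → ℂ) y := fun y => by
    rw [← hρχ, Representation.character, Representation.character, map_mul, hρx, one_mul]
  set z : (P : Subgroup Y) := ⟨x, hx.2⟩ with hz
  have key : Cfsg.classInner (fun y : (P : Subgroup Y) => (χ : Y → ℂ) y) (fun y => (lam y : ℂ)) =
      conj ((lam z : ℂ)) *
        Cfsg.classInner (fun y : (P : Subgroup Y) => (χ : Y → ℂ) y) (fun y => (lam y : ℂ)) := by
    have e : ∑ y : (P : Subgroup Y), (χ : Y → ℂ) y * conj (lam y : ℂ) =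
        conj (lam z : ℂ) * ∑ y : (P : Subgroup Y), (χ : Y → ℂ) y * conj (lam y : ℂ) := by
      rw [Finset.mul_sum]
      refine (Fintype.sum_equiv (Equiv.mulLeft z) _ _ fun y => ?_).symm
      simp only [Equiv.coe_mulLeft, Subgroup.coe_mul, map_mul, Units.val_mul]
      rw [show (χ : Y → ℂ) ((z : Y) * (y : Y)) = (χ : Y → ℂ) y from hshift _]
      ring
    rw [classInner_def]
    conv_lhs => rw [e]
    ring
  have h1 : conj (lam z : ℂ) = 1 := by
    by_contra hne1
    refine hc ((mul_eq_zero.1 (show (1 - conj (lam z : ℂ)) *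
      Cfsg.classInner (fun y : (P : Subgroup Y) => (χ : Y → ℂ) y) (fun y => (lam y : ℂ)) = 0 by
        rw [sub_mul, one_mul, sub_eq_zero]; exact key)).resolve_left fun h => hne1 (sub_eq_zero.1 h).symm)
  refine hφ (Units.ext ?_)
  show (lam z : ℂ) = 1
  have := congrArg (starRingEnd ℂ) h1
  rwa [Complex.conj_conj, map_one] at this

/-- A `p`-kernel inside the Frattini subgroup of a Sylow subgroup creates no `p'`-core. -/
theorem pPrimeCore_eq_bot_of_le_frattini {Y : Type u} [Group Y] [Finite Y] {X : Type v} [Group X]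
    (f : Y →* X) (hf : Function.Surjective f) (hO : Cfsg.pPrimeCore p Y = ⊥)
    (hA : IsPGroup p f.ker) (P : Sylow p Y)
    (hAF : f.ker ≤ (frattini (P : Subgroup Y)).map (P : Subgroup Y).subtype) :
    Cfsg.pPrimeCore p X = ⊥ := by
  classical
  haveI : Finite X := Finite.of_surjective f hf
  haveI := Cfsg.Lib.Components.pPrimeCore_normal' (G := X) p
  set R := Cfsg.pPrimeCore p X with hR
  set A := f.ker with hAdef
  set Mt := R.comap f with hMt
  haveI : Mt.Normal := Subgroup.Normal.comap inferInstance f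
  have hAM : A ≤ Mt := fun a ha => by
    show f a ∈ R
    rw [MonoidHom.mem_ker.1 ha]; exact one_mem _
  have hrel : A.relIndex Mt = Nat.card R := by
    rw [hAdef, ← MonoidHom.comap_bot f, Subgroup.relIndex_comap, hMt,
      Subgroup.map_comap_eq_self_of_surjective hf, Subgroup.relIndex_bot_left]
  obtain ⟨k, hk⟩ := IsPGroup.iff_card.1 hA
  have hcop : (Nat.card A).Coprime (A.relIndex Mt) := by
    rw [hrel, hk]
    exact (Cfsg.Lib.Components.coprime_card_pPrimeCore p).symm.pow_left k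
  have hnorm : ∀ H : Subgroup Y, H ≤ Subgroup.normalizer (A : Set Y) := fun H =>
    (Subgroup.normalizer_eq_top (H := A)) ▸ le_top
  obtain ⟨B, hB, hsup, hBc⟩ := Cfsg.Lib.Coprime.exists_complement_in hAM (hnorm Mt) hcop
  have hsol : Group.IsSolvable A := by
    haveI := hA.isNilpotent
    infer_instance
  have hconj : ∀ g : Y, ∃ a ∈ A, ∀ b : Y, b ∈ B ↔ (g⁻¹ * a) * b * (g⁻¹ * a)⁻¹ ∈ B := by
    intro g
    obtain ⟨a, ha, hae⟩ := Cfsg.Lib.Coprime.exists_conj_eq_of_coprime (N := A) (H := B)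
      (K := B.map (MulAut.conj g).toMonoidHom) (hnorm B) (hBc ▸ hcop) (Or.inl hsol)
      (by
        rintro _ ⟨b, hb, rfl⟩
        rw [hsup]
        exact Subgroup.Normal.conj_mem ‹Mt.Normal› b (hB hb) g)
      (Subgroup.card_map_of_injective (MulAut.conj g).injective)
    refine ⟨a, ha, fun b => ?_⟩
    have h1 : (a * b * a⁻¹ ∈ B.map (MulAut.conj g).toMonoidHom) ↔ b ∈ B := by
      rw [hae, Cfsg.Lib.Coprime.mem_conjMap]
      simp [mul_assoc]
    rw [← h1, Subgroup.mem_map_equiv]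
    simp [mul_assoc]
  -- the Sylow subgroup normalises `B`
  have hPN : (P : Subgroup Y) ≤ Subgroup.normalizer (B : Set Y) := by
    set T := (Subgroup.normalizer (B : Set Y)).subgroupOf (P : Subgroup Y) with hT
    have htop : T = ⊤ := by
      refine frattini_nongenerating (eq_top_iff.2 fun x _ => ?_)
      obtain ⟨a, ha, hab⟩ := hconj (x : Y)
      obtain ⟨a', ha', haa⟩ := hAF ha
      have hmem : x⁻¹ * a' ∈ T := by
        rw [hT, Subgroup.mem_subgroupOf, Subgroup.mem_normalizer_iff]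
        intro b
        rw [Subgroup.coe_mul, Subgroup.coe_inv]
        rw [show ((a' : (P : Subgroup Y)) : Y) = a from haa]
        exact hab b
      rw [show x = a' * (x⁻¹ * a')⁻¹ by group]
      exact Subgroup.mul_mem _ (Subgroup.mem_sup_right ha') (Subgroup.mem_sup_left (T.inv_mem hmem))
    exact Subgroup.subgroupOf_eq_top.1 htop
  have hAP : A ≤ (P : Subgroup Y) := hAF.trans (Subgroup.map_subtype_le _)
  have hcomm : ∀ a ∈ A, ∀ b ∈ B, a * b * a⁻¹ = b := by
    intro a ha b hb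
    have h1 : a * b * a⁻¹ ∈ B := (Subgroup.mem_normalizer_iff.1 (hPN (hAP ha)) b).1 hb
    have h2 : a * b * a⁻¹ * b⁻¹ ∈ A := by
      rw [show a * b * a⁻¹ * b⁻¹ = a * (b * a⁻¹ * b⁻¹) by group]
      exact A.mul_mem ha ((MonoidHom.normal_ker f).conj_mem _ (A.inv_mem ha) b)
    exact mul_inv_eq_one.1 (Cfsg.Lib.Coprime.eq_one_of_coprime (hBc ▸ hcop) h2
      (B.mul_mem h1 (B.inv_mem hb)))
  haveI : B.Normal := ⟨fun b hb g => by
    obtain ⟨a, ha, hab⟩ := hconj g⁻¹
    rw [inv_inv] at hab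
    have h := (hab b).1 hb
    rwa [show g * a * b * (g * a)⁻¹ = g * (a * b * a⁻¹) * g⁻¹ by group, hcomm a ha b hb] at h⟩
  have hBbot : B = ⊥ := by
    rw [← le_bot_iff, ← hO]
    refine Cfsg.Lib.Components.le_pPrimeCore ?_
    rw [hBc, hrel]
    exact Cfsg.Lib.Components.coprime_card_pPrimeCore p
  rw [hBbot, Subgroup.card_bot, hrel] at hBc
  exact Subgroup.eq_bot_of_card_eq _ hBc.symm

/-- In a `p`-solvable group with trivial `p'`-core a normal subgroup meeting a Sylow subgroup
inside its Frattini subgroup is a `p`-group inside it. -/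
theorem le_frattini_of_inf_le {Y : Type u} [Group Y] [Finite Y] (hsol : Cfsg.IsPSolvable p Y)
    (hO : Cfsg.pPrimeCore p Y = ⊥) (M : Subgroup Y) [M.Normal] (P : Sylow p Y)
    (hM : M ⊓ (P : Subgroup Y) ≤ (frattini (P : Subgroup Y)).map (P : Subgroup Y).subtype) :
    IsPGroup p M ∧ M ≤ (frattini (P : Subgroup Y)).map (P : Subgroup Y).subtype := by
  classical
  haveI := Cfsg.Lib.Components.pCore_normal' (G := Y) p
  set A := M ⊓ Cfsg.pCore p Y with hAdef
  haveI : A.Normal := Subgroup.normal_inf_normal _ _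
  have hAp : IsPGroup p A := (Cfsg.Lib.Components.isPGroup_pCore p).to_le inf_le_right
  have hAP : A ≤ (P : Subgroup Y) :=
    inf_le_right.trans (Cfsg.Lib.Thompson.le_sylow_of_normal (Cfsg.Lib.Components.isPGroup_pCore p) P)
  have hAF : A ≤ (frattini (P : Subgroup Y)).map (P : Subgroup Y).subtype :=
    fun a ha => hM ⟨ha.1, hAP ha⟩
  set π := QuotientGroup.mk' A with hπ
  have hπs : Function.Surjective π := QuotientGroup.mk'_surjective A
  have hker : π.ker = A := QuotientGroup.ker_mk' A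
  have hOq : Cfsg.pPrimeCore p (Y ⧸ A) = ⊥ :=
    pPrimeCore_eq_bot_of_le_frattini π hπs hO (by rw [hker]; exact hAp) P (by rw [hker]; exact hAF)
  haveI := Cfsg.Lib.Components.pCore_normal' (G := Y ⧸ A) p
  set O := Cfsg.pCore p (Y ⧸ A) with hOdef
  have hOp : IsPGroup p (O.comap π) := by
    refine IsPGroup.comap_of_ker_isPGroup (Cfsg.Lib.Components.isPGroup_pCore p) π ?_
    rw [hker]; exact hAp
  haveI : (O.comap π).Normal := Subgroup.Normal.comap inferInstance π
  have hdis : M.map π ⊓ O = ⊥ := by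
    rw [eq_bot_iff]
    rintro _ ⟨⟨m, hm, rfl⟩, hmO⟩
    rw [Subgroup.mem_bot, ← MonoidHom.mem_ker, hker]
    exact ⟨hm, Cfsg.Lib.Components.le_pCore hOp hmO⟩
  haveI : (M.map π).Normal := Subgroup.Normal.map inferInstance π hπs
  have hle : M.map π ≤ O := by
    refine le_trans (fun x hx => ?_) (centralizer_pCore_le_of_isPSolvable p
      (Cfsg.Lib.GaschutzYen.isPSolvable_quotient A hsol) hOq)
    rw [Subgroup.mem_centralizer_iff]
    intro y hy
    exact Subgroup.commute_of_normal_of_disjoint _ _ inferInstance inferInstance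
      (disjoint_iff.2 (by rw [inf_comm]; exact hdis)) y x hy hx
  rw [inf_eq_left.2 hle] at hdis
  have hMA : M ≤ A := by
    rw [← hker]
    exact fun m hm => MonoidHom.mem_ker.2 (Subgroup.mem_bot.1 (hdis ▸ Subgroup.mem_map_of_mem π hm))
  exact ⟨hAp.to_le hMA, hMA.trans hAF⟩

/-- Two normal subgroups: the `p'`-core and one killed by the principal block's `p'`-degrees. -/
theorem sup_core_facts {G : Type u} [Group G] [Fintype G] (hsol : Cfsg.IsPSolvable p G)
    (hdvd : p ∣ Nat.card G) (H : Subgroup G) [H.Normal]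
    (hH : ∀ χ : Cfsg.IrrCharacter G, (∀ n ∈ Cfsg.pPrimeCore p G, (χ : G → ℂ) n = (χ : G → ℂ) 1) →
      ¬ p ∣ deg (χ : G → ℂ) → ∀ h ∈ H, (χ : G → ℂ) h = (χ : G → ℂ) 1)
    (K : Subgroup G) [K.Normal] (hK : K = Cfsg.pPrimeCore p G ⊔ H) :
    Cfsg.pPrimeCore p (G ⧸ K) = ⊥ ∧ K ≠ ⊤ := by
  classical
  haveI := Cfsg.Lib.Components.pPrimeCore_normal' (G := G) p
  set Hp := Cfsg.pPrimeCore p G with hHp
  letI := Fintype.ofFinite (G ⧸ Hp)
  set π := QuotientGroup.mk' Hp with hπ
  have hπs : Function.Surjective π := QuotientGroup.mk'_surjective Hp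
  have hsolY := Cfsg.Lib.GaschutzYen.isPSolvable_quotient Hp hsol
  have hc : (Nat.card Hp).Coprime p := Cfsg.Lib.Components.coprime_card_pPrimeCore p
  have hOY : Cfsg.pPrimeCore p (G ⧸ Hp) = ⊥ := by
    rw [← Cfsg.Lib.Components.map_pPrimeCore_of_coprime_ker hπs
      (by rw [hπ, QuotientGroup.ker_mk']; exact hc), ← hHp, hπ, Subgroup.map_eq_bot_iff,
      QuotientGroup.ker_mk']
  let P₀ : Sylow p G := default
  set P := P₀.mapSurjective hπs with hP
  haveI : (H.map π).Normal := Subgroup.Normal.map inferInstance π hπs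
  have hcl : H.map π ⊓ (P : Subgroup (G ⧸ Hp)) ≤ ⁅(P : Subgroup (G ⧸ Hp)), (P : Subgroup (G ⧸ Hp))⁆ := by
    refine inf_sylow_le_commutator (H.map π) (fun χ hχ m hm => ?_) P
    obtain ⟨h, hh, rfl⟩ := hm
    have := hH (inflate Hp χ) (fun n hn => by
      rw [inflate_val, inflate_val, (QuotientGroup.eq_one_iff n).2 hn, QuotientGroup.mk_one]) (by
      intro hd; exact hχ hd) h hh
    rw [inflate_val, inflate_val, QuotientGroup.mk_one] at this
    exact this
  have hfr : ⁅(P : Subgroup (G ⧸ Hp)), (P : Subgroup (G ⧸ Hp))⁆ ≤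
      (frattini (P : Subgroup (G ⧸ Hp))).map (P : Subgroup (G ⧸ Hp)).subtype := by
    rw [← Subgroup.map_subtype_commutator]
    exact Subgroup.map_mono (Cfsg.Lib.PGroups.commutator_le_frattini P.2)
  obtain ⟨hMp, hMF⟩ := le_frattini_of_inf_le hsolY hOY (H.map π) P (hcl.trans hfr)
  let f : G ⧸ Hp →* G ⧸ K :=
    QuotientGroup.map Hp K (MonoidHom.id G) (by rw [hK, Subgroup.comap_id]; exact le_sup_left)
  have hf : Function.Surjective f := fun y => by
    obtain ⟨x, rfl⟩ := QuotientGroup.mk_surjective y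
    exact ⟨x, rfl⟩
  have hkerf : f.ker = H.map π := by
    ext y
    obtain ⟨x, rfl⟩ := QuotientGroup.mk_surjective y
    rw [MonoidHom.mem_ker, show f (x : G ⧸ Hp) = (x : G ⧸ K) from rfl, QuotientGroup.eq_one_iff]
    constructor
    · intro hx
      rw [hK, Subgroup.mem_sup_of_normal_left] at hx
      obtain ⟨a, ha, b, hb, rfl⟩ := hx
      refine ⟨b, hb, ?_⟩
      rw [hπ, QuotientGroup.mk'_apply, QuotientGroup.mk_mul, (QuotientGroup.eq_one_iff a).2 ha, one_mul]
    · rintro ⟨b, hb, hbx⟩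
      rw [hπ, QuotientGroup.mk'_apply, QuotientGroup.eq] at hbx
      have : x = b * (b⁻¹ * x) := by group
      rw [this, hK]
      exact Subgroup.mul_mem _ (Subgroup.mem_sup_right hb) (Subgroup.mem_sup_left hbx)
  refine ⟨pPrimeCore_eq_bot_of_le_frattini f hf hOY (by rw [hkerf]; exact hMp) P (by rw [hkerf]; exact hMF), fun htop => ?_⟩
  have hMtop : H.map π = ⊤ := by
    have h1 := congrArg (Subgroup.map π) htop
    rw [hK, Subgroup.map_sup, Subgroup.map_top_of_surjective π hπs,
      show Hp.map π = ⊥ by rw [Subgroup.map_eq_bot_iff, hπ, QuotientGroup.ker_mk'], bot_sup_eq] at h1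
    exact h1
  rw [hMtop, top_inf_eq] at hcl
  haveI := P.2.isNilpotent
  by_cases hne : (P : Subgroup (G ⧸ Hp)) = ⊥
  · have h1 : Nat.card (P : Subgroup (G ⧸ Hp)) = 1 := by rw [hne, Subgroup.card_bot]
    rw [P.card_eq_multiplicity] at h1
    have h2 : p ∣ Nat.card (G ⧸ Hp) := by
      rw [Subgroup.card_eq_card_quotient_mul_card_subgroup Hp] at hdvd
      exact (hp.out.dvd_mul.1 hdvd).resolve_right (hp.out.coprime_iff_not_dvd.1 hc.symm)
    have h3 := hp.out.factorization_pos_of_dvd Nat.card_pos.ne' h2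
    rcases Nat.pow_eq_one.1 h1 with h4 | h4
    · exact hp.out.ne_one h4
    · omega
  · haveI : Nontrivial (P : Subgroup (G ⧸ Hp)) := (Subgroup.nontrivial_iff_ne_bot _).2 hne
    refine (ne_of_lt (Group.IsSolvable.commutator_lt_top_of_nontrivial (P : Subgroup (G ⧸ Hp)))) ?_
    apply Subgroup.map_injective (P : Subgroup (G ⧸ Hp)).subtype_injective
    rw [Subgroup.map_subtype_commutator, ← MonoidHom.range_eq_map, Subgroup.range_subtype]
    exact le_antisymm (Subgroup.commutator_le_self _) hcl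

end Cfsg.Lib.KernelFrattini
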