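import Mathlib
import Cfsg.Agent.Blocks.FongFullDefect
import Cfsg.Agent.Blocks.GlaubermanApi
import Cfsg.Agent.Blocks.BrauerPairs2

/-!
# Blocks of principal type over an invariant character of the `p'`-core
-/

set_option autoImplicit false
set_option linter.unusedSectionVars false

namespace Cfsg.Lib.Glauberman

open Cfsg.Lib.Chars Cfsg.Lib.Blocks
open scoped ComplexConjugate

universe u v w

variable {G : Type u} [Group G] [Fintype G] {A : Type v} [Group A] [Finite A] {C : Type w}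
  [Group C] [Fintype C] {p : ℕ} [Fact p.Prime] {φ : A →* MulAut G} {ι : C →* G}

/-- The restriction of an element of the group algebra to the fixed points. -/
noncomputable def pull (ι : C →* G) (a : MonoidAlgebra ℂ G) : MonoidAlgebra ℂ C :=
  ofFn fun c => fn a (ι c)

lemma fn_pull (ι : C →* G) (a : MonoidAlgebra ℂ G) (c : C) : fn (pull ι a) c = fn a (ι c) := by
  rw [pull, fn_ofFn]

/-- The Brauer image of an invariant primitive idempotent is primitive. -/
theorem eq_of_omega_pull_eq_one (hA : IsPGroup p A) (hG : ¬ p ∣ Nat.card G) (h : IsFixed φ ι)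
    {M : Ideal AlgInt} (hM : IsPModular p M) {χ : IrrCharacter G}
    (hχ : ∀ (a : A) (g : G), blockCoeff ({χ} : Set (IrrCharacter G)) (φ a g) =
      blockCoeff ({χ} : Set (IrrCharacter G)) g)
    {β₁ β₂ : IrrCharacter C}
    (h₁ : res M (omega (β₁ : C → ℂ) (pull ι (blockElem ({χ} : Set (IrrCharacter G))))) = 1)
    (h₂ : res M (omega (β₂ : C → ℂ) (pull ι (blockElem ({χ} : Set (IrrCharacter G))))) = 1) :
    β₁ = β₂ := by
  classical
  by_contra hne
  haveI := charP_res hM
  have hC := card_fixed_not_dvd hG h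
  set e := blockElem ({χ} : Set (IrrCharacter G)) with he
  set a := lift ι β₁ with ha
  set t := omega (χ : G → ℂ) a with ht
  have hei : Integral M e := integral_blockElem_pPrime hM hG _
  have hai : Integral M a := integral_lift hM hC β₁
  have hac : IsCentralFn a := isCentralFn_lift hA hG h β₁
  have hmul : e * a = t • e := by
    refine eq_of_omega_eq ((isCentralFn_blockElem _).mul hac) ((isCentralFn_blockElem _).smul _)
      fun η => ?_
    rw [omega_mul η (isCentralFn_blockElem _), omega_smul, omega_blockElem]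
    by_cases hη : η = χ
    · subst hη; rw [if_pos (Set.mem_singleton _), one_mul, mul_one]
    · rw [if_neg (show η ∉ ({χ} : Set (IrrCharacter G)) from hη), zero_mul, mul_zero]
  have hti : t ∈ place M := omega_mem_place hM χ hac hai
  have hR : ∀ r : Res M, p • r = 0 := fun r => by
    rw [nsmul_eq_mul, CharP.cast_eq_zero, zero_mul]
  have hpa : pull ι a = blockElem ({β₁} : Set (IrrCharacter C)) := fn_ext fun c => by
    rw [fn_pull, fn_blockElem, ha, fn_lift_iota hA hG h]
  have hpi : ∀ b : MonoidAlgebra ℂ G, Integral M b → Integral M (pull ι b) := fun b hb c => by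
    rw [fn_pull]; exact hb _
  have hpc : ∀ b : MonoidAlgebra ℂ G, IsCentralFn b → IsCentralFn (pull ι b) := fun b hb c d => by
    rw [fn_pull, fn_pull, map_mul, map_mul, map_inv]; exact hb _ _
  have hred : red M (pull ι e * blockElem ({β₁} : Set (IrrCharacter C))) = red M (t • pull ι e) := by
    refine fn_ext fun c => ?_
    rw [fn_red, fn_red, ← hpa]
    have e1 : fn (t • pull ι e) c = fn (t • e) (ι c) := by
      simp [fn_pull]
    rw [e1, ← hmul, fn_mul, fn_mul]
    simp only [fn_pull]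
    rw [res_sum _ _ fun x _ => mul_mem (hei _) (hai _),
      res_sum _ _ fun x _ => mul_mem (hei _) (hai _),
      sum_fixed hA h hR (fun (b : A) (x : G) => ?_)]
    · exact Finset.sum_congr rfl fun c' _ => by rw [map_mul, map_inv]
    · show res M _ = res M _
      rw [fn_blockElem, fn_blockElem, hχ b x,
        show (φ b x)⁻¹ * ι c = φ b (x⁻¹ * ι c) by rw [map_mul, map_inv, apply_iota h],
        inv_lift hA hG h β₁ b]
  have hb1i : Integral M (blockElem ({β₁} : Set (IrrCharacter C))) :=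
    integral_blockElem_pPrime hM hC _
  have key : ∀ β : IrrCharacter C,
      res M (omega (β : C → ℂ) (pull ι e)) = 1 → res M t = if β = β₁ then 1 else 0 := by
    intro β hβ
    have := res_omega_eq_of_red_eq hM β ((hpc e (isCentralFn_blockElem _)).mul (isCentralFn_blockElem _))
      ((hpi e hei).mul hb1i) ((hpc e (isCentralFn_blockElem _)).smul _)
      ((hpi e hei).smul hti) hred
    rw [omega_mul β (hpc e (isCentralFn_blockElem _)), omega_smul, omega_blockElem,
      res_mul (omega_mem_place hM β (hpc e (isCentralFn_blockElem _)) (hpi e hei))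
        (by split_ifs <;> first | exact one_mem _ | exact zero_mem _),
      res_mul hti (omega_mem_place hM β (hpc e (isCentralFn_blockElem _)) (hpi e hei)),
      hβ, one_mul, mul_one] at this
    rw [← this]
    by_cases hb : β = β₁
    · rw [if_pos hb, if_pos (show β ∈ ({β₁} : Set _) from hb), res_one]
    · rw [if_neg hb, if_neg (show β ∉ ({β₁} : Set _) from hb), res_zero]
  have k1 := key β₁ h₁
  have k2 := key β₂ h₂
  rw [if_pos rfl] at k1
  rw [if_neg (Ne.symm hne), k1] at k2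
  exact one_ne_zero k2

end Cfsg.Lib.Glauberman

namespace Cfsg.Lib.Blocks

open Cfsg.Lib.Chars

universe u

variable {G : Type u} [Group G] [Fintype G] {M : Ideal AlgInt} {p : ℕ} [Fact p.Prime]

/-- The fixed points of a `p`-subgroup on the `p`-part of `O_{p',p}` detect the `p'`-core. -/
theorem mem_core_of_centralizes_fixed (K L Q : Subgroup G) [K.Normal] [L.Normal] (hKL : K ≤ L)
    (hK : ¬ p ∣ Nat.card K) {k : ℕ} (hLK : K.relIndex L = p ^ k) (hQL : Q ≤ L)
    (hQp : IsPGroup p Q) (hQS : ¬ p ∣ Q.relIndex L)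
    (hCQ : Subgroup.centralizer (Q : Set G) ≤ L) (R : Subgroup G) (hR : IsPGroup p R) :
    ∃ Q₁ : Subgroup G, IsPGroup p Q₁ ∧ Q₁ ≤ L ⊓ Subgroup.centralizer (R : Set G) ∧
      ∀ g ∈ Subgroup.centralizer (R : Set G), g ∈ Subgroup.centralizer (Q₁ : Set G) →
        ¬ p ∣ orderOf g → g ∈ K := by
  classical
  have hp : p.Prime := Fact.out
  obtain ⟨S, hS⟩ := hR.exists_le_sylow
  set Q' := (S : Subgroup G) ⊓ L with hQ'
  have hQ'p : IsPGroup p Q' := S.2.to_le inf_le_left
  have hQ'L : Q' ≤ L := inf_le_right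
  have hQ'S : ¬ p ∣ Q'.relIndex L := by
    have e : (S : Subgroup G).relIndex L = (S : Subgroup G).relIndex ((S : Subgroup G) ⊔ L) := by
      have h1 := Subgroup.relIndex_mul_relIndex ⊥ (S : Subgroup G) ((S : Subgroup G) ⊔ L) bot_le
        le_sup_left
      have h2 := Subgroup.relIndex_mul_relIndex ⊥ L ((S : Subgroup G) ⊔ L) bot_le le_sup_right
      have h3 := Subgroup.relIndex_mul_relIndex ⊥ ((S : Subgroup G) ⊓ L) (S : Subgroup G) bot_le
        inf_le_left
      have h4 := Subgroup.relIndex_mul_relIndex ⊥ ((S : Subgroup G) ⊓ L) L bot_le inf_le_right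
      rw [Subgroup.inf_relIndex_left] at h3
      rw [Subgroup.inf_relIndex_right] at h4
      rw [Subgroup.relIndex_sup_right] at h2
      rw [← h3, ← h2, ← h4] at h1
      have hd : (⊥ : Subgroup G).relIndex ((S : Subgroup G) ⊓ L) * L.relIndex (S : Subgroup G) ≠ 0 :=
        mul_ne_zero Subgroup.index_ne_zero_of_finite Subgroup.index_ne_zero_of_finite
      refine mul_left_cancel₀ hd ?_
      rw [h1]
      ring
    rw [hQ', Subgroup.inf_relIndex_right, e]
    exact fun hd => S.not_dvd_index (hd.trans (Subgroup.relIndex_dvd_index_of_le le_sup_left))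
  have hKcop : (Nat.card K).Coprime p := (hp.coprime_iff_not_dvd.2 hK).symm
  have hinf : ∀ x ∈ Q', x ∈ K → x = 1 := fun x hx hxK => by
    obtain ⟨m, hm⟩ := IsPGroup.iff_card.1 hQ'p
    exact Cfsg.Lib.Coprime.eq_one_of_coprime (by rw [hm]; exact hKcop.pow_right m) hxK hx
  -- the centraliser of `Q'` lies in `L`
  have hCQ' : Subgroup.centralizer (Q' : Set G) ≤ L := by
    have hc : ∀ (Q₀ : Subgroup G) (h₀ : Q₀ ≤ L), IsPGroup p Q₀ → ¬ p ∣ Q₀.relIndex L →
        ∃ T : Sylow p L, (T : Subgroup L) = Q₀.subgroupOf L := fun Q₀ h₀ h1 h2 => by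
      refine ⟨(IsPGroup.to_le h1 le_rfl).comap_subtype.toSylow h2, rfl⟩
    obtain ⟨T, hT⟩ := hc Q hQL hQp hQS
    obtain ⟨T', hT'⟩ := hc Q' hQ'L hQ'p hQ'S
    obtain ⟨l, hl⟩ := MulAction.exists_smul_eq L T T'
    intro g hg
    have hmem : (l : G)⁻¹ * g * l ∈ L := hCQ (Subgroup.mem_centralizer_iff.2 fun y hy => by
      have : (l : G) * y * (l : G)⁻¹ ∈ Q' := by
        have h1 : l * ⟨y, hQL hy⟩ * l⁻¹ ∈ (T' : Subgroup L) := by
          rw [← hl, Sylow.coe_subgroup_smul]
          exact ⟨⟨y, hQL hy⟩, by rw [hT]; exact hy, rfl⟩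
        rw [hT'] at h1
        exact h1
      have e := Subgroup.mem_centralizer_iff.1 hg _ this
      calc y * ((l : G)⁻¹ * g * l) = (l : G)⁻¹ * (((l : G) * y * (l : G)⁻¹) * g) * l := by group
        _ = (l : G)⁻¹ * (g * ((l : G) * y * (l : G)⁻¹)) * l := by rw [e]
        _ = (l : G)⁻¹ * g * l * y := by group)
    have := Subgroup.Normal.conj_mem ‹L.Normal› _ hmem l
    simpa [mul_assoc] using this
  refine ⟨Q' ⊓ Subgroup.centralizer (R : Set G), hQ'p.to_le inf_le_left,
    inf_le_inf_right _ hQ'L, fun g hgR hg1 hgp => ?_⟩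
  set π := QuotientGroup.mk' K with hπdef
  have hker : ∀ x : G, π x = 1 ↔ x ∈ K := fun x => QuotientGroup.eq_one_iff x
  set U := Q'.map π with hU
  -- `U` is the image of `L`
  have hUL : L.map π = U := by
    refine le_antisymm ?_ (Subgroup.map_mono hQ'L)
    have hle : L ≤ Q' ⊔ K := by
      have hd1 : (Q' ⊔ K).relIndex L ∣ Q'.relIndex L :=
        Subgroup.relIndex_dvd_of_le_left L le_sup_left
      have hd2 : (Q' ⊔ K).relIndex L ∣ p ^ k := hLK ▸ Subgroup.relIndex_dvd_of_le_left L le_sup_right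
      refine Subgroup.relIndex_eq_one.1 (Nat.eq_one_of_dvd_coprimes
        ((hp.coprime_iff_not_dvd.2 hQ'S).symm.pow_right k) hd1 hd2)
    refine (Subgroup.map_mono hle).trans ?_
    rw [Subgroup.map_sup, show K.map π = ⊥ by
      rw [Subgroup.map_eq_bot_iff, QuotientGroup.ker_mk'], sup_bot_eq]
  haveI : U.Normal := hUL ▸ Subgroup.Normal.map inferInstance π (QuotientGroup.mk'_surjective K)
  have hgc : (orderOf (π g)).Coprime p :=
    ((hp.coprime_iff_not_dvd.2 hgp).symm).coprime_dvd_left (orderOf_map_dvd π g)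
  have hcomm : Subgroup.zpowers (π g) ≤ Subgroup.centralizer (U : Set (G ⧸ K)) := by
    refine Cfsg.Lib.Coprime.pq_lemma (P := R.map π) (hR.map π)
      (by rwa [Nat.card_zpowers]) (hQ'p.map π) ?_ ?_ ?_ ?_
    · rintro _ ⟨r, hr, rfl⟩
      rw [Subgroup.mem_centralizer_iff]
      rintro y hy
      obtain ⟨i, rfl⟩ := Subgroup.mem_zpowers_iff.1 hy
      exact (Commute.zpow_left (Commute.map (show Commute g r from
        (Subgroup.mem_centralizer_iff.1 hgR r hr).symm) π) i).eq
    · exact fun _ _ => (Subgroup.normalizer_eq_top (H := U)) ▸ Subgroup.mem_top _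
    · exact fun _ _ => (Subgroup.normalizer_eq_top (H := U)) ▸ Subgroup.mem_top _
    · rintro _ ⟨⟨u, hu, rfl⟩, huR⟩
      rw [Subgroup.mem_centralizer_iff]
      have hu1 : u ∈ Subgroup.centralizer (R : Set G) := Subgroup.mem_centralizer_iff.2 fun r hr => by
        have h1 : r * u * r⁻¹ ∈ Q' :=
          ⟨(S : Subgroup G).mul_mem ((S : Subgroup G).mul_mem (hS hr) hu.1) ((S : Subgroup G).inv_mem (hS hr)),
            Subgroup.Normal.conj_mem ‹L.Normal› u hu.2 r⟩
        have h2 : r * u * r⁻¹ * u⁻¹ ∈ K := by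
          rw [← hker, map_mul, map_mul, map_mul, map_inv, map_inv,
            Subgroup.mem_centralizer_iff.1 huR (π r) (Subgroup.mem_map_of_mem π hr),
            mul_inv_cancel_right, mul_inv_cancel]
        have h3 := hinf _ (Q'.mul_mem h1 (Q'.inv_mem hu)) h2
        exact mul_inv_eq_iff_eq_mul.1 (mul_inv_eq_one.1 h3)
      intro y hy
      obtain ⟨i, rfl⟩ := Subgroup.mem_zpowers_iff.1 hy
      exact (Commute.zpow_left (Commute.map (show Commute g u from
        (Subgroup.mem_centralizer_iff.1 hg1 u ⟨hu, hu1⟩).symm) π) i).eq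
  have hgU : π g ∈ Subgroup.centralizer (U : Set (G ⧸ K)) := hcomm (Subgroup.mem_zpowers _)
  -- hence `g` lies in `L`
  have hgL : g ∈ L := by
    have hconj : ∀ u ∈ Q', g * u * g⁻¹ ∈ L := fun u hu => Subgroup.Normal.conj_mem ‹L.Normal› u (hQ'L hu) g
    let T : Sylow p L := (IsPGroup.to_le hQ'p le_rfl).comap_subtype.toSylow hQ'S
    obtain ⟨l, hl⟩ := MulAction.exists_smul_eq L T
      ((MulAut.conjNormal g : MulAut L) • T : Sylow p L)
    have hlmem : (l : G) ∈ Q' ⊔ K := by
      have : π (l : G) ∈ U := hUL ▸ Subgroup.mem_map_of_mem π l.2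
      obtain ⟨q, hq, hql⟩ := this
      have hk1 : q⁻¹ * (l : G) ∈ K := (hker _).1 (by rw [map_mul, map_inv, hql, inv_mul_cancel])
      rw [show (l : G) = q * (q⁻¹ * (l : G)) by group]
      exact Subgroup.mul_mem_sup hq hk1
    rw [sup_comm, Subgroup.mem_sup_of_normal_left] at hlmem
    obtain ⟨c, hc, q, hq, hlq⟩ := hlmem
    have hy : c⁻¹ * g ∈ Subgroup.centralizer (Q' : Set G) := by
      refine Subgroup.mem_centralizer_iff.2 fun u hu => ?_
      have hm : (⟨g * u * g⁻¹, hconj u hu⟩ : L) ∈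
          (((MulAut.conjNormal g : MulAut L) • T : Sylow p L) : Subgroup L) :=
        ⟨⟨u, hQ'L hu⟩, hu, Subtype.ext rfl⟩
      rw [← hl, Sylow.coe_subgroup_smul] at hm
      obtain ⟨w, hw, hwe⟩ := hm
      have hwe' : (l : G) * w * (l : G)⁻¹ = g * u * g⁻¹ := congrArg Subtype.val hwe
      have hv : c⁻¹ * g * u * (c⁻¹ * g)⁻¹ ∈ Q' := by
        rw [show c⁻¹ * g * u * (c⁻¹ * g)⁻¹ = c⁻¹ * (g * u * g⁻¹) * c by group, ← hwe', ← hlq,
          show c⁻¹ * (c * q * w * (c * q)⁻¹) * c = q * w * q⁻¹ by group]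
        exact Q'.mul_mem (Q'.mul_mem hq hw) (Q'.inv_mem hq)
      have hK2 : c⁻¹ * g * u * (c⁻¹ * g)⁻¹ * u⁻¹ ∈ K := by
        rw [← hker]
        simp only [map_mul, map_inv, (hker c).2 hc, inv_one, one_mul, mul_one]
        rw [← Subgroup.mem_centralizer_iff.1 hgU (π u) (Subgroup.mem_map_of_mem π hu),
          mul_inv_cancel_right, mul_inv_cancel]
      exact (mul_inv_eq_iff_eq_mul.1 (mul_inv_eq_one.1 (hinf _ (Q'.mul_mem hv (Q'.inv_mem hu)) hK2))).symm
    have := L.mul_mem (hKL hc) (hCQ' hy)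
    rwa [mul_inv_cancel_left] at this
  letI := Fintype.ofFinite L
  haveI : (K.subgroupOf L).Normal := Subgroup.normal_subgroupOf
  exact mem_of_pRegular_of_index_eq_pow hp (K.subgroupOf L) hLK (g := ⟨g, hgL⟩)
    (by rwa [Subgroup.orderOf_mk])

/-- **Principal type.** -/
theorem unique_inducing_over_invariant (hM : IsPModular p M) (K L Q : Subgroup G) [K.Normal]
    [L.Normal] [Fintype K] (hKL : K ≤ L) (hK : ¬ p ∣ Nat.card K) {k : ℕ}
    (hLK : K.relIndex L = p ^ k) (hQL : Q ≤ L) (hQp : IsPGroup p Q) (hQS : ¬ p ∣ Q.relIndex L)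
    (hCQ : Subgroup.centralizer (Q : Set G) ≤ L) (θ : IrrCharacter K)
    (hinv : ∀ g : G, cjIrr K g θ = θ) {B : Set (IrrCharacter G)} (hB : IsPBlock M B)
    (hBθ : ∀ χ ∈ B, classInner (fun n : K => (χ : G → ℂ) n) (θ : K → ℂ) ≠ 0)
    (hBS : ∀ S : Sylow p G, IsDefectGroup p M B (S : Subgroup G))
    (R : Subgroup G) (hR : IsPGroup p R) :
    ∃! f : Set (IrrCharacter (Subgroup.centralizer (R : Set G))),
      IsInducedBlock M (Subgroup.centralizer (R : Set G)) f B := by
  classical
  set C := Subgroup.centralizer (R : Set G) with hCdef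
  letI := Fintype.ofFinite C
  haveI := charP_res hM
  -- existence
  obtain ⟨S, hS⟩ := hR.exists_le_sylow
  obtain ⟨eS, hmax⟩ := exists_pair_of_defect hM hB (hBS S)
  obtain ⟨f₀, hf₀, -⟩ := existsUnique_subpairLE hM hmax.1.1 hS
  have hf₀B := isBrauerPairOf_of_le hM hmax hf₀
  refine ⟨f₀, ((isBrauerPairOf_iff hM B R f₀).1 hf₀B).2, fun f hf => ?_⟩
  -- the local situation
  obtain ⟨Q₁, hQ₁p, hQ₁, hQ₁C⟩ :=
    mem_core_of_centralizes_fixed K L Q hKL hK hLK hQL hQp hQS hCQ R hR
  set N := K.subgroupOf C with hNdef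
  haveI : N.Normal := Subgroup.normal_subgroupOf
  letI := Fintype.ofFinite N
  haveI : (L.subgroupOf C).Normal := Subgroup.normal_subgroupOf
  have hNcard : ¬ p ∣ Nat.card N := fun hd => hK (hd.trans ?_)
  swap
  · exact Subgroup.card_dvd_of_injective
      (({ toFun := fun n => ⟨((n : C) : G), n.2⟩, map_one' := rfl, map_mul' := fun _ _ => rfl }) :
        N →* K) (fun a b h => Subtype.ext (Subtype.ext (congrArg Subtype.val h :)))
  obtain ⟨j, hj⟩ : ∃ j, (N.subgroupOf (L.subgroupOf C)).index = p ^ j := by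
    have h : N.relIndex (L.subgroupOf C) ∣ p ^ k := by
      rw [hNdef, Subgroup.subgroupOf, Subgroup.subgroupOf, Subgroup.relIndex_comap,
        Subgroup.map_comap_eq, Subgroup.range_subtype, ← hLK]
      exact ⟨_, ((Subgroup.relIndex_mul_relIndex K ((C ⊓ L) ⊔ K) L le_sup_right
        (sup_le inf_le_right hKL)).symm.trans (by rw [Subgroup.relIndex_sup_right]))⟩
    obtain ⟨j, -, hj⟩ := (Nat.dvd_prime_pow hM.1).1 h
    exact ⟨j, hj⟩
  let ι : N →* K :=
    { toFun := fun n => ⟨((n : C) : G), n.2⟩, map_one' := rfl, map_mul' := fun _ _ => rfl }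
  have hnorm : ∀ r ∈ R, ∀ g ∈ K, r * g * r⁻¹ ∈ K := fun r _ g hg =>
    Subgroup.Normal.conj_mem ‹K.Normal› g hg r
  have hfix : Glauberman.IsFixed (Glauberman.opHom K R hnorm) ι := by
    refine ⟨fun a b h => Subtype.ext (Subtype.ext (congrArg Subtype.val h :)),
      fun g => ⟨fun hg => ?_, ?_⟩⟩
    · refine ⟨⟨⟨(g : G), Subgroup.mem_centralizer_iff.2 fun r hr => ?_⟩, g.2⟩, Subtype.ext rfl⟩
      have := congrArg Subtype.val (hg ⟨r, hr⟩)
      rw [Glauberman.coe_opHom] at this
      exact mul_inv_eq_iff_eq_mul.1 this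
    · rintro ⟨n, rfl⟩ a
      refine Subtype.ext ?_
      rw [Glauberman.coe_opHom]
      exact mul_inv_eq_iff_eq_mul.2 (Subgroup.mem_centralizer_iff.1 (n : C).2 _ a.2)
  have hcoef : ∀ (a : R) (g : K), blockCoeff ({θ} : Set (IrrCharacter K))
      (Glauberman.opHom K R hnorm a g) = blockCoeff ({θ} : Set (IrrCharacter K)) g := fun a g => by
    rw [show Glauberman.opHom K R hnorm a g = MulAut.conjNormal (a : G) g from Subtype.ext rfl,
      ← blockCoeff_image (MulAut.conjNormal (a : G) : K ≃* K), Set.image_singleton,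
      show irrEquiv (MulAut.conjNormal (a : G) : K ≃* K) θ = θ from hinv a]
  have hinvS : ∀ g : G, cjIrr K g '' ({θ} : Set (IrrCharacter K)) = {θ} := fun g => by
    rw [Set.image_singleton, hinv]
  set x := bx K ({θ} : Set (IrrCharacter K)) with hx
  have hxc : IsCentralFn x := isCentralFn_bx hinvS
  have hxi : Integral M x := integral_bx_of (integral_blockElem_pPrime hM hK _)
  have hxx : x * x = x := by
    rw [hx, bx_eq_extElem, extElem_mul, blockElem_mul_self]
  have hBx : blockElem B * x = blockElem B := by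
    refine eq_of_omega_eq ((isCentralFn_blockElem B).mul hxc) (isCentralFn_blockElem B) fun χ => ?_
    rw [omega_mul χ (isCentralFn_blockElem B), omega_blockElem]
    by_cases hχ : χ ∈ B
    · rw [if_pos hχ, hx, omega_bx_of_constituent hinvS χ θ (hBθ χ hχ), if_pos (Set.mem_singleton θ),
        one_mul]
    · rw [if_neg hχ, zero_mul]
  have hinvx : InvOn R (red M x) := (invOn_top_iff.2 hxc.red).mono le_top
  have hinvB : InvOn R (red M (blockElem B)) :=
    (invOn_top_iff.2 (isCentralFn_blockElem B).red).mono le_top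
  have hrest : resElem N (resElem C x) = Glauberman.pull ι (blockElem ({θ} : Set (IrrCharacter K))) :=
    fn_ext fun n => by
      rw [fn_resElem, fn_resElem, Glauberman.fn_pull, hx, bx_eq_extElem,
        fn_extElem_mem K _ (show ((n : C) : G) ∈ K from n.2)]
      rfl
  have hzc : IsCentralFn (resElem C x) := hxc.resElem _
  have hzs : SuppOn N (resElem C x) := fun c hc => by
    rw [fn_resElem]; exact suppOn_bx K _ _ hc
  -- every constituent of an inducing block is the distinguished character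
  have hkey : ∀ f : Set (IrrCharacter C), IsInducedBlock M C f B → ∀ ξ ∈ f, ∀ β : IrrCharacter N,
      classInner (fun n : N => (ξ : C → ℂ) n) (β : N → ℂ) ≠ 0 →
      res M (omega (β : N → ℂ) (Glauberman.pull ι (blockElem ({θ} : Set (IrrCharacter K))))) = 1 := by
    intro f hf ξ hξ β hβ
    have hp := (isBrauerPairOf_iff hM B R f).2 ⟨hR, hf⟩
    have hbf := ((isBrauerPairOf_iff_br hM B R f).1 hp).2.2
    rw [← hrest, ← omega_eq_of_constituent N hzc hzs ξ β hβ,
      res_omega_resElem_eq_one_iff hM hxi ((invOn_top_iff.2 hxc).mono le_top)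
        (by rw [← br_mul hR hinvx hinvx, ← red_mul hxi hxi, hxx]) hf.1 hξ]
    conv_lhs => rw [← hbf, ← mul_assoc, ← br_mul hR hinvx hinvB,
      ← red_mul hxi (integral_blockElem hM hB),
      (invOn_top_iff.2 hxc).comm (fun g hg => absurd (Subgroup.mem_top g) hg), hBx]
    exact hbf
  obtain ⟨ξ₀, hξ₀⟩ := IsPBlock.nonempty hM hf₀B.1.2
  obtain ⟨β₀, hβ₀⟩ := exists_irr_constituent N ξ₀
  have hf₀i := ((isBrauerPairOf_iff hM B R f₀).1 hf₀B).2
  have huniq : ∀ f : Set (IrrCharacter C), IsInducedBlock M C f B → ∀ ξ ∈ f, ∀ β : IrrCharacter N,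
      classInner (fun n : N => (ξ : C → ℂ) n) (β : N → ℂ) ≠ 0 → β = β₀ := fun f hf ξ hξ β hβ =>
    Glauberman.eq_of_omega_pull_eq_one (φ := Glauberman.opHom K R hnorm) hR hK hfix hM hcoef
      (hkey f hf ξ hξ β hβ) (hkey f₀ hf₀i ξ₀ hξ₀ β₀ hβ₀)
  have hβinv : ∀ c : C, cjIrr N c β₀ = β₀ := fun c =>
    huniq f₀ hf₀i ξ₀ hξ₀ _ (constituent_cjIrr hβ₀ c)
  obtain ⟨B', hB', hiff, -⟩ := block_over_invariant' (G := C) hM N (L.subgroupOf C)
    (Q₁.subgroupOf C) hNcard (Subgroup.comap_mono hKL) hj hQ₁p.comap_subtype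
    (Subgroup.comap_mono (hQ₁.trans inf_le_left)) (fun g hg hgp => by
      refine hQ₁C (g : G) g.2 (Subgroup.mem_centralizer_iff.2 fun y hy => ?_)
        (by rwa [Subgroup.orderOf_coe])
      exact congrArg Subtype.val (Subgroup.mem_centralizer_iff.1 hg ⟨y, (hQ₁ hy).2⟩ hy))
    β₀ hβinv
  obtain ⟨ξ, hξ⟩ := IsPBlock.nonempty hM hf.1
  obtain ⟨β, hβ⟩ := exists_irr_constituent N ξ
  have hξB : ξ ∈ B' := (hiff ξ).2 (huniq f hf ξ hξ β hβ ▸ hβ)
  have hξ₀B : ξ₀ ∈ B' := (hiff ξ₀).2 hβ₀
  rw [IsPBlock.eq_of_mem_inter hM hf.1 hB' hξ hξB, IsPBlock.eq_of_mem_inter hM hf₀i.1 hB' hξ₀ hξ₀B]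

end Cfsg.Lib.Blocks
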