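import Cfsg.Agent.Blocks.FirstMain
import Cfsg.Agent.Blocks.LocalDefect
import Cfsg.Agent.Blocks.BrauerPairs2
import Cfsg.Agent.Blocks.Normal
import Cfsg.Agent.Blocks.Pairs
import Cfsg.Agent.Blocks.Orth2
import Cfsg.Agent.Blocks.Principal

/-!
# Groups whose elements of order `p` have constrained centralisers

Such a group has only the principal block of positive defect.
-/

set_option autoImplicit false
set_option linter.unusedSectionVars false

namespace Cfsg.Lib.Blocks

open Cfsg.Lib.Chars

universe u

variable {G : Type u} [Group G] [Fintype G] {M : Ideal AlgInt} {p : ℕ}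

/-- A group with a normal `p`-subgroup containing its centraliser has one block. -/
theorem mem_principalBlock_of_normal_constrained [Fact p.Prime] (hM : IsPModular p M)
    {Q : Subgroup G} [Q.Normal] (hQ : IsPGroup p Q) (hC : Subgroup.centralizer (Q : Set G) ≤ Q)
    (χ : IrrCharacter G) : χ ∈ principalBlock M G := by
  classical
  set B : Set (IrrCharacter G) := principalBlock M G with hBdef
  have hB : IsPBlock M B := ⟨principal G, rfl⟩
  have hsupp : ∀ g : G, g ≠ 1 → blockCoeff B g = 0 := by
    intro g hg
    by_cases hgC : g ∈ Subgroup.centralizer (Q : Set G)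
    · refine blockCoeff_eq_zero_of_singular hM hB ?_
      obtain ⟨k, hk⟩ := hQ ⟨g, hC hgC⟩
      have hdvd : orderOf g ∣ p ^ k := orderOf_dvd_of_pow_eq_one (congrArg Subtype.val hk)
      obtain ⟨j, -, hj⟩ := (Nat.dvd_prime_pow hM.1).1 hdvd
      rcases j with _ | j
      · exact absurd (orderOf_eq_one_iff.1 (by rw [hj, pow_zero])) hg
      · rw [hj]; exact dvd_pow_self p (Nat.succ_ne_zero j)
    · exact blockCoeff_eq_zero_of_not_mem_centralizer hM hQ hB hgC
  have he : blockElem B = blockCoeff B 1 • (1 : MonoidAlgebra ℂ G) := fn_ext fun g => by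
    by_cases hg : g = 1
    · subst hg; rw [fn_blockElem]; simp [fn_one]
    · rw [fn_blockElem, hsupp g hg]; simp [fn_one, Ne.symm hg]
  have hω : ∀ ψ : IrrCharacter G, omega (ψ : G → ℂ) (blockElem B) = blockCoeff B 1 := by
    intro ψ
    rw [he, omega_smul, omega_one ψ, mul_one]
  have h1 := hω (principal G)
  have h2 := hω χ
  have hpB : principal G ∈ B := mem_blockOf_self hM (principal G)
  rw [omega_blockElem, if_pos hpB] at h1
  by_contra hχ
  rw [omega_blockElem, if_neg hχ, ← h1] at h2
  exact zero_ne_one h2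

/-- A block induced from a constrained centraliser is principal. -/
theorem eq_principalBlock_of_constrained [Fact p.Prime] (hM : IsPModular p M) (H : Subgroup G)
    [Fintype H] {f : Set (IrrCharacter H)} {B : Set (IrrCharacter G)}
    (hind : IsInducedBlock M H f B) {z : G} (hH : H = Subgroup.centralizer ({z} : Set G))
    (hz : ∃ Q : Subgroup G, Q ≤ Subgroup.centralizer ({z} : Set G) ∧ IsPGroup p Q ∧
      Subgroup.centralizer ({z} : Set G) ≤ Subgroup.normalizer (Q : Set G) ∧
      ∀ x ∈ Subgroup.centralizer ({z} : Set G), x ∈ Subgroup.centralizer (Q : Set G) → x ∈ Q) :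
    B = principalBlock M G := by
  classical
  obtain ⟨Q, hQH, hQp, hQN, hQC⟩ := hz
  rw [← hH] at hQH hQN hQC
  haveI : (Q.subgroupOf H).Normal := (Subgroup.normal_subgroupOf_iff_le_normalizer hQH).2 hQN
  have hC' : Subgroup.centralizer ((Q.subgroupOf H : Subgroup H) : Set H) ≤ Q.subgroupOf H := by
    intro x hx
    refine hQC x x.2 fun q hq => ?_
    exact congrArg Subtype.val (hx ⟨q, hQH hq⟩ (Subgroup.mem_subgroupOf.2 hq))
  have hQp' : IsPGroup p (Q.subgroupOf H) := hQp.comap_of_injective H.subtype H.subtype_injective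
  have hfb : IsPBlock M f := hind.1
  obtain ⟨ξ, hξ⟩ := IsPBlock.nonempty hM hfb
  have hfp : f = principalBlock M H :=
    IsPBlock.eq_of_mem_inter hM hfb ⟨principal H, rfl⟩ hξ
      (mem_principalBlock_of_normal_constrained hM (Q := Q.subgroupOf H) hQp' hC' ξ)
  exact IsInducedBlock.unique hM hind ((isInducedBlock_principal_iff hM H ⟨B, hind⟩).2 hfp)

/-- **Only the principal block has positive defect.** -/
theorem mem_principalBlock_of_constrained [Fact p.Prime] (hM : IsPModular p M)
    (hz : ∀ z : G, orderOf z = p → ∃ Q : Subgroup G,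
      Q ≤ Subgroup.centralizer ({z} : Set G) ∧ IsPGroup p Q ∧
      Subgroup.centralizer ({z} : Set G) ≤ Subgroup.normalizer (Q : Set G) ∧
      ∀ x ∈ Subgroup.centralizer ({z} : Set G), x ∈ Subgroup.centralizer (Q : Set G) → x ∈ Q)
    (hd : ∀ χ : IrrCharacter G,
      (charDegree (χ : G → ℂ)).factorization p < (Nat.card G).factorization p)
    (χ : IrrCharacter G) : χ ∈ principalBlock M G := by
  classical
  set B := blockOf M (χ : G → ℂ) with hBdef
  have hB : IsPBlock M B := isPBlock_blockOf χ
  suffices h : B = principalBlock M G from h ▸ mem_blockOf_self hM χ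
  obtain ⟨D, hD⟩ := exists_defectGroup hM hB
  have hDp := IsDefectGroup.isPGroup hD
  have hD1 : D ≠ ⊥ := by
    intro h0
    obtain ⟨g, hg, S, hS⟩ := id hD
    obtain ⟨hge, -⟩ := degree_bounds hM hB hg
    have hle := hge χ (mem_blockOf_self hM χ)
    have hcard := IsDefectGroup.card hM hB hD
    rw [h0, Subgroup.card_bot, blockDefect_eq hM hB hg] at hcard
    have h0' : (Nat.card (Subgroup.centralizer ({g} : Set G))).factorization p = 0 := by
      by_contra hne
      exact (Nat.one_lt_pow hne hM.1.one_lt).ne hcard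
    have hsplit := congrArg (fun n => n.factorization p)
      (Subgroup.card_mul_index (Subgroup.centralizer ({g} : Set G)))
    rw [Nat.factorization_mul Nat.card_pos.ne' Subgroup.index_ne_zero_of_finite, Finsupp.add_apply,
      h0', zero_add] at hsplit
    have := hd χ
    rw [← hsplit] at this
    exact absurd hle (not_le_of_gt (by simpa [charDegree_eq_deg] using this))
  obtain ⟨k, hk⟩ := hDp.exists_card_eq
  have hpD : p ∣ Nat.card D := by
    rcases k with _ | k
    · exact absurd (Subgroup.card_eq_one.1 (by rw [hk, pow_zero])) hD1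
    · rw [hk]; exact dvd_pow_self p (Nat.succ_ne_zero k)
  obtain ⟨z, hzo⟩ := exists_prime_orderOf_dvd_card' p hpD
  have hzo' : orderOf (z : G) = p := by rw [Subgroup.orderOf_coe]; exact hzo
  obtain ⟨e, he⟩ := exists_pair_of_defect hM hB hD
  have hzD : Subgroup.zpowers (z : G) ≤ D := Subgroup.zpowers_le.2 z.2
  obtain ⟨f, hf, -⟩ := existsUnique_subpairLE hM he.1.1 hzD
  have hfB := (isBrauerPairOf_congr hM hf B).1 he.1
  letI := Fintype.ofFinite (Subgroup.centralizer ((Subgroup.zpowers (z : G) : Subgroup G) : Set G))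
  obtain ⟨-, hind⟩ := (isBrauerPairOf_iff hM B _ f).1 hfB
  refine eq_principalBlock_of_constrained hM _ hind ?_ (hz (z : G) hzo')
  rw [Subgroup.zpowers_eq_closure, Subgroup.centralizer_closure]

end Cfsg.Lib.Blocks
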