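import Mathlib
import Cfsg.Agent.Blocks.ContributionRows

/-!
# Counting characters of a two block by averaged contributions
-/

set_option autoImplicit false
set_option linter.unusedSectionVars false

namespace Cfsg.Lib.Blocks

open Cfsg.Lib.Chars
open scoped ComplexConjugate

universe u

variable {G : Type u} [Group G] [Fintype G] {M : Ideal AlgInt}
  {x : G} {H : Subgroup G} [Fintype H]

/-- Averaged rows and diagonal of the contribution matrix of a subsection for the prime two. -/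
theorem exists_average_data (hM : IsPModular 2 M) (hx : ∃ k : ℕ, orderOf x = 2 ^ k)
    (hH : H = Subgroup.centralizer (Subgroup.zpowers x : Set G))
    {b : Set (IrrCharacter H)} {B : Set (IrrCharacter G)} [DecidablePred (· ∈ B)]
    (hind : IsInducedBlock M H b B) :
    ∃ (A : IrrCharacter G → ℤ) (Q : IrrCharacter G → IrrCharacter G → ℝ),
      (∀ χ, ∑ ψ ∈ Finset.univ.filter (· ∈ B), Q χ ψ = (2 : ℝ) ^ blockDefect 2 b * (A χ : ℝ)) ∧
      (∀ χ ψ, 0 ≤ Q χ ψ ∧ Q χ ψ = Q ψ χ) ∧ (∀ χ, 0 ≤ A χ ∧ (A χ : ℝ) ^ 2 ≤ Q χ χ) ∧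
      (∑ χ ∈ Finset.univ.filter (· ∈ B), A χ = (2 : ℤ) ^ blockDefect 2 b * (blockRank 2 b : ℤ)) ∧
      (∀ χ ∈ B, ∀ ψ ∈ B, blockHeight 2 B ((χ : IrrCharacter G) : G → ℂ) = 0 →
        blockHeight 2 B ((ψ : IrrCharacter G) : G → ℂ) = 0 → 1 ≤ Q χ ψ ∧ Odd (A χ)) ∧
      (blockDefect 2 b = blockDefect 2 B → ∀ χ ∈ B,
        (blockHeight 2 B ((χ : IrrCharacter G) : G → ℂ) ≠ 0 →
          (2 : ℤ) ^ (blockHeight 2 B (χ : G → ℂ) + 1) ∣ A χ) ∧
        ∀ ψ ∈ B, blockHeight 2 B ((ψ : IrrCharacter G) : G → ℂ) = 0 →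
          (4 : ℝ) ^ blockHeight 2 B (χ : G → ℂ) ≤ Q χ ψ) := by
  classical
  obtain ⟨k, hk⟩ := hx
  haveI : NeZero (2 ^ k) := ⟨pow_ne_zero _ two_ne_zero⟩
  have hxk : ∃ k : ℕ, orderOf x = 2 ^ k := ⟨k, hk⟩
  have hb : IsPBlock M b := hind.1
  set T := Finset.univ.filter (fun θ : IrrCharacter H => θ ∈ b) ×ˢ
    Finset.univ.filter (fun θ : IrrCharacter H => θ ∈ b) with hT
  set C : IrrCharacter G → IrrCharacter G → IrrCharacter H × IrrCharacter H → ℤ := fun χ ψ i =>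
    regRed 2 b i.1 i.2 * ((resMult H χ i.1 : ℤ) * (resMult H ψ i.2 : ℤ)) with hC
  set z : IrrCharacter H × IrrCharacter H → ℂ := fun i =>
    centralValue x i.1 * conj (centralValue x i.2) with hz
  have hz1 : ∀ i, z i ^ 2 ^ k = 1 := fun i => by
    rw [hz, mul_pow, ← map_pow, centralValue_pow hH (by rw [← hk, pow_orderOf_eq_one]),
      centralValue_pow hH (by rw [← hk, pow_orderOf_eq_one]), map_one, mul_one]
  set U := (ZMod (2 ^ k))ˣ
  set val : U → ℕ := fun j => (j : ZMod (2 ^ k)).val with hval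
  have hxj : ∀ j : U, (∃ i, orderOf (x ^ val j) = 2 ^ i) ∧
      H = Subgroup.centralizer (Subgroup.zpowers (x ^ val j) : Set G) := fun j => by
    have hco : (orderOf x).Coprime (val j) := by
      rw [hk]; exact (ZMod.val_coe_unit_coprime j).symm
    have hord : orderOf (x ^ val j) = orderOf x := by rw [Nat.Coprime.orderOf_pow hco]
    refine ⟨⟨k, hord.trans hk⟩, ?_⟩
    rw [hH]
    congr 2
    exact (Subgroup.eq_of_le_of_card_ge (Subgroup.zpowers_le.2 (Subgroup.pow_mem _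
      (Subgroup.mem_zpowers x) _)) (by rw [Nat.card_zpowers, Nat.card_zpowers, hord])).symm
  set a : IrrCharacter G → IrrCharacter G → U → ℂ := fun χ ψ j =>
    contribution 2 (x ^ val j) b χ ψ with ha
  have hrep : ∀ χ ψ j, a χ ψ j = ∑ i ∈ T, (C χ ψ i : ℂ) * z i ^ val j := fun χ ψ j =>
    contribution_pow_eq hH b χ ψ (val j)
  have hrep1 : ∀ χ ψ, contribution 2 x b χ ψ = ∑ i ∈ T, (C χ ψ i : ℂ) * z i := fun χ ψ => by
    have h := contribution_pow_eq (p := 2) hH b χ ψ 1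
    simp only [pow_one] at h
    exact h
  have hres1 : ∀ i, res M (z i) = 1 ∧ z i ∈ place M := fun i => by
    have hm := isIntegral_mem_place hM (isIntegral_of_pow_eq_one (NeZero.pos _) (hz1 i))
    exact ⟨by rw [← res_one (M := M), res_eq_iff hm (one_mem _)];
              exact small_sub_one_of_ppow hM (hz1 i), hm⟩
  have hresC : ∀ χ ψ, res M (contribution 2 x b χ ψ) = ((∑ i ∈ T, C χ ψ i : ℤ) : Res M) := fun χ ψ => by
    rw [hrep1, res_sum _ _ fun i _ => mul_mem (intCast_mem _ _) (hres1 i).2, Int.cast_sum]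
    exact Finset.sum_congr rfl fun i _ => by
      rw [res_mul (intCast_mem _ _) (hres1 i).2, (hres1 i).1, res_intCast, mul_one]
  haveI := charP_res hM
  have havg : ∀ χ, ∃ t : ℤ, ∑ j, a χ χ j = (Fintype.card U : ℂ) * (t : ℂ) ∧
      (2 : ℤ) ∣ (∑ i ∈ T, C χ χ i) - t := fun χ => by
    simp only [hrep]
    exact exists_avg_of_real T _ z hz1 (by rw [← hrep1, conj_contribution hM.1])
  choose A hA hApar using havg
  have hU0 : (0 : ℝ) < Fintype.card U := Nat.cast_pos.2 Fintype.card_pos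
  have hUne : (Fintype.card U : ℂ) ≠ 0 := Nat.cast_ne_zero.2 Fintype.card_ne_zero
  set Q : IrrCharacter G → IrrCharacter G → ℝ := fun χ ψ =>
    (∑ j, ‖a χ ψ j‖ ^ 2) / Fintype.card U with hQ
  choose r hr0 hr using fun χ j => contribution_self_eq (x := x ^ val j) hM hb χ
  have hAr : ∀ χ, ∑ j, r χ j = (Fintype.card U : ℝ) * (A χ : ℝ) := fun χ => by
    apply Complex.ofReal_injective
    push_cast
    rw [← hA]
    exact Finset.sum_congr rfl fun j _ => (hr χ j).symm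
  refine ⟨A, Q, fun χ => ?_, fun χ ψ => ⟨by positivity, ?_⟩, fun χ => ⟨?_, ?_⟩, ?_, ?_, ?_⟩
  · apply Complex.ofReal_injective
    simp only [hQ]
    push_cast
    rw [← Finset.sum_div, div_eq_iff hUne, Finset.sum_comm, mul_assoc, mul_comm (A χ : ℂ), ← hA χ,
      Finset.mul_sum]
    refine Finset.sum_congr rfl fun j _ => ?_
    have h := sum_contribution_mul_conj hM (hxj j).1 (hxj j).2 hind χ
    simp only [Nat.cast_ofNat] at h
    simp only [ha]
    rw [← h]
    exact Finset.sum_congr rfl fun ψ _ => by rw [Complex.mul_conj']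
  · simp only [hQ, ha]
    congr 1
    exact Finset.sum_congr rfl fun j _ => by rw [← conj_contribution hM.1 b ψ χ, Complex.norm_conj]
  · have h0 : 0 ≤ ∑ j, r χ j := Finset.sum_nonneg fun j _ => hr0 χ j
    rw [hAr] at h0
    exact_mod_cast (nonneg_of_mul_nonneg_right h0 hU0)
  · rw [hQ, le_div_iff₀ hU0]
    have h := sq_sum_le_card_mul_sum_sq (s := Finset.univ) (f := fun j => r χ j)
    rw [hAr, Finset.card_univ] at h
    refine le_of_mul_le_mul_left ?_ hU0
    calc (Fintype.card U : ℝ) * ((A χ : ℝ) ^ 2 * Fintype.card U)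
        = ((Fintype.card U : ℝ) * (A χ : ℝ)) ^ 2 := by ring
      _ ≤ (Fintype.card U : ℝ) * ∑ j, r χ j ^ 2 := h
      _ = _ := by
          congr 1
          exact Finset.sum_congr rfl fun j _ => by
            simp only [ha]; rw [hr, Complex.norm_real, Real.norm_eq_abs, sq_abs]
  · apply Int.cast_injective (α := ℂ)
    refine mul_left_cancel₀ hUne ?_
    push_cast
    rw [Finset.mul_sum, Finset.sum_congr rfl fun χ _ => (hA χ).symm, Finset.sum_comm]
    simp only [ha]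
    rw [Finset.sum_congr rfl fun j _ => sum_contribution_self hM (hxj j).1 (hxj j).2 hind,
      Finset.sum_const, Finset.card_univ, nsmul_eq_mul]
    push_cast
    rfl
  · -- two characters of height zero
    intro χ hχ ψ hψ hχ0 hψ0
    obtain ⟨θ₀, hθ₀, hθ0⟩ := exists_height_zero hM hb
    have hne : ∀ (j : U) (χ ψ : IrrCharacter G), χ ∈ B → ψ ∈ B →
        blockHeight 2 B (χ : G → ℂ) = 0 → blockHeight 2 B (ψ : G → ℂ) = 0 →
        res M (contribution 2 (x ^ val j) b χ ψ) ≠ 0 := fun j χ ψ hχ hψ h1 h2 h => by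
      have hm := (res_contribution_mul (hxj j).2 (hxj j).1 hM hb hθ₀ χ ψ).2
      rw [h, zero_mul] at hm
      exact mul_ne_zero (cast_sum_regRed_ne_zero hM H hind hχ h1 hθ₀ hθ0 (resMult_spec χ))
        (cast_sum_regRed_ne_zero hM H hind hψ h2 hθ₀ hθ0 (resMult_spec ψ)) hm.symm
    refine ⟨?_, ?_⟩
    · have hnz : ∀ j : U, ∑ i ∈ T, (C χ ψ i : ℂ) * z i ^ val j ≠ 0 := fun j h => by
        refine hne j χ ψ hχ hψ hχ0 hψ0 ?_
        rw [contribution_pow_eq hH, show _ = (0 : ℂ) from h, res_zero]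
      rw [hQ, le_div_iff₀ hU0, one_mul]
      simp only [hrep]
      exact card_units_le_sum_norm_sq_roots T _ z hz1 hnz
    · have h1 : res M (contribution 2 x b χ χ) ≠ 0 := fun h => by
        have hm := (res_contribution_mul hH hxk hM hb hθ₀ χ χ).2
        rw [h, zero_mul] at hm
        have hN := cast_sum_regRed_ne_zero hM H hind hχ hχ0 hθ₀ hθ0 (resMult_spec χ)
        exact mul_ne_zero hN hN hm.symm
      rw [hresC, ne_eq, CharP.intCast_eq_zero_iff (Res M) 2] at h1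
      rw [← Int.not_even_iff_odd, even_iff_two_dvd]
      intro h
      exact h1 (by have := dvd_add (hApar χ) h; simpa using this)
  · -- a major subsection
    intro hdef χ hχ
    set h := blockHeight 2 B (χ : G → ℂ) with hh
    have hN : (2 ^ h : ℕ) ≠ 0 := pow_ne_zero _ two_ne_zero
    have hdiv : ∀ ψ : IrrCharacter G, ∃ (m : ℕ) (D : ℕ → ℤ),
        contribution 2 x b χ ψ / ((2 ^ h : ℕ) : ℂ) =
          ∑ i ∈ Finset.range m, (D i : ℂ) * zetaC (2 ^ k) ^ i ∧
        ∀ j : U, a χ ψ j = ((2 ^ h : ℕ) : ℂ) *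
          ∑ i ∈ Finset.range m, (D i : ℂ) * (zetaC (2 ^ k) ^ i) ^ val j := fun ψ => by
      have hi := (isIntegral_contribution_div hH hxk hM hind hdef hχ ψ).1
      rw [hrep1] at hi ⊢
      simp only [hrep]
      exact exists_div_rep Nat.prime_two T _ z hz1 hN hi
    have hζ : ∀ i : ℕ, (zetaC (2 ^ k) ^ i) ^ 2 ^ k = 1 := fun i => by
      rw [← pow_mul, mul_comm, pow_mul, (isPrimitiveRoot_zetaC (2 ^ k)).pow_eq_one, one_pow]
    refine ⟨fun hpos => ?_, fun ψ hψ hψ0 => ?_⟩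
    · obtain ⟨m, D, hD1, hD⟩ := hdiv χ
      obtain ⟨t, ht, htpar⟩ := exists_avg_of_real (k := k) (Finset.range m) D
        (fun i => zetaC (2 ^ k) ^ i) hζ
        (by rw [← hD1, map_div₀, map_natCast, conj_contribution hM.1])
      have hAt : A χ = ((2 ^ h : ℕ) : ℤ) * t := by
        apply Int.cast_injective (α := ℂ)
        refine mul_left_cancel₀ hUne ?_
        rw [← hA, Finset.sum_congr rfl fun j _ => hD j, ← Finset.mul_sum, ht]
        push_cast
        ring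
      have h0 := res_contribution_self_div hH hxk hM hind hdef hχ hpos
      rw [← hh, hD1, res_sum _ _ fun i _ => mul_mem (intCast_mem _ _)
        (isIntegral_mem_place hM (isIntegral_of_pow_eq_one (NeZero.pos _) (hζ i)))] at h0
      have hD0 : ((∑ i ∈ Finset.range m, D i : ℤ) : Res M) = 0 := by
        rw [← h0, Int.cast_sum]
        refine Finset.sum_congr rfl fun i _ => ?_
        have hm := isIntegral_mem_place hM (isIntegral_of_pow_eq_one (NeZero.pos _) (hζ i))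
        have h1 : res M (zetaC (2 ^ k) ^ i) = 1 := by
          rw [← res_one (M := M), res_eq_iff hm (one_mem _)]
          exact small_sub_one_of_ppow hM (hζ i)
        rw [res_mul (intCast_mem _ _) hm, h1, res_intCast, mul_one]
      rw [CharP.intCast_eq_zero_iff (Res M) 2] at hD0
      rw [hAt, pow_succ]
      push_cast
      refine mul_dvd_mul_left _ ?_
      have := dvd_sub hD0 htpar
      simpa using this
    · obtain ⟨m, D, -, hD⟩ := hdiv ψ
      have hnz : ∀ j : U, ∑ i ∈ Finset.range m, (D i : ℂ) * (zetaC (2 ^ k) ^ i) ^ val j ≠ 0 :=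
        fun j h' => (contribution_height (hxj j).2 (hxj j).1 hM hind hdef hχ hψ hψ0).1
          ((hD j).trans (by rw [h', mul_zero]))
      rw [hQ, le_div_iff₀ hU0]
      have h4 : ∀ j : U, ‖a χ ψ j‖ ^ 2 =
          (4 : ℝ) ^ h * ‖∑ i ∈ Finset.range m, (D i : ℂ) * (zetaC (2 ^ k) ^ i) ^ val j‖ ^ 2 :=
        fun j => by
        rw [hD, norm_mul, mul_pow, Complex.norm_natCast]
        congr 1
        push_cast
        rw [← pow_mul, mul_comm, pow_mul]
        norm_num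
      rw [Finset.sum_congr rfl fun j _ => h4 j, ← Finset.mul_sum]
      exact mul_le_mul_of_nonneg_left
        (card_units_le_sum_norm_sq_roots _ _ _ hζ hnz) (by positivity)

/-- The counting argument for a matrix with the properties of averaged contributions. -/
theorem height_count_le {ι : Type*} (S : Finset ι) (h : ι → ℕ) (A : ι → ℤ) (Q : ι → ι → ℝ) (N : ℤ)
    (hrow : ∀ χ ∈ S, ∑ ψ ∈ S, Q χ ψ = (N : ℝ) * (A χ : ℝ)) (_hdiag : ∀ χ ∈ S, (A χ : ℝ) ^ 2 ≤ Q χ χ)
    (h0 : ∀ χ ∈ S, h χ = 0 → Odd (A χ) ∧ 0 ≤ A χ ∧ ∀ ψ ∈ S, (4 : ℝ) ^ h ψ ≤ Q χ ψ)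
    (hpos : ∀ χ ∈ S, h χ ≠ 0 → (2 : ℤ) ^ (h χ + 1) ≤ A χ) (hex : ∃ χ ∈ S, h χ = 0)
    (htr : ∑ χ ∈ S, A χ ≤ 3 * N) :
    3 * ((S.filter fun χ => h χ = 0).card : ℤ) +
      2 * ∑ χ ∈ S.filter (fun χ => h χ ≠ 0), (2 : ℤ) ^ h χ ≤ 3 * N := by
  classical
  by_cases hone : ∃ χ ∈ S, h χ = 0 ∧ A χ ≤ 1
  · obtain ⟨χ, hχ, hχ0, hA⟩ := hone
    obtain ⟨hodd, hnn, hQ⟩ := h0 χ hχ hχ0
    have hA1 : A χ = 1 := by obtain ⟨t, ht⟩ := hodd; omega
    have hle : ∑ ψ ∈ S, ((4 : ℝ) ^ h ψ) ≤ (N : ℝ) := by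
      refine (Finset.sum_le_sum fun ψ hψ => hQ ψ hψ).trans (le_of_eq ?_)
      rw [hrow χ hχ, hA1]
      simp
    have hle' : ∑ ψ ∈ S, (4 : ℤ) ^ h ψ ≤ N := by exact_mod_cast hle
    rw [← Finset.sum_filter_add_sum_filter_not S (fun χ => h χ = 0)] at hle'
    have e1 : ∑ ψ ∈ S.filter (fun χ => h χ = 0), (4 : ℤ) ^ h ψ =
        ((S.filter fun χ => h χ = 0).card : ℤ) := by
      rw [Finset.sum_congr rfl fun ψ hψ => by rw [(Finset.mem_filter.1 hψ).2, pow_zero],
        Finset.sum_const, nsmul_one]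
    have e2 : ∑ ψ ∈ S.filter (fun χ => h χ ≠ 0), (2 : ℤ) ^ h ψ ≤
        ∑ ψ ∈ S.filter (fun χ => h χ ≠ 0), (4 : ℤ) ^ h ψ :=
      Finset.sum_le_sum fun ψ _ => pow_le_pow_left₀ (by norm_num) (by norm_num) _
    rw [e1] at hle'
    have : 0 ≤ ∑ ψ ∈ S.filter (fun χ => h χ ≠ 0), (4 : ℤ) ^ h ψ :=
      Finset.sum_nonneg fun ψ _ => by positivity
    linarith
  · push Not at hone
    refine le_trans ?_ htr
    rw [← Finset.sum_filter_add_sum_filter_not S (fun χ => h χ = 0) A, Finset.mul_sum,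
      mul_comm (3 : ℤ), ← nsmul_eq_mul, ← Finset.sum_const]
    refine add_le_add (Finset.sum_le_sum fun χ hχ => ?_) (Finset.sum_le_sum fun χ hχ => ?_)
    · obtain ⟨hm, hz⟩ := Finset.mem_filter.1 hχ
      have h1 := hone χ hm hz
      obtain ⟨t, ht⟩ := (h0 χ hm hz).1
      omega
    · obtain ⟨hm, hz⟩ := Finset.mem_filter.1 hχ
      rw [← pow_succ']
      exact hpos χ hm hz

/-- **Major subsections with `l ≤ 3` or `k - l ≤ 3`.** -/
theorem three_mul_count_le (hM : IsPModular 2 M) (hx : ∃ k : ℕ, orderOf x = 2 ^ k)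
    (hH : H = Subgroup.centralizer (Subgroup.zpowers x : Set G))
    {b : Set (IrrCharacter H)} {B : Set (IrrCharacter G)} [DecidablePred (· ∈ B)]
    (hind : IsInducedBlock M H b B) (hdef : blockDefect 2 b = blockDefect 2 B)
    (hl : blockRank 2 b ≤ 3 ∨ Nat.card B ≤ blockRank 2 b + 3) :
    3 * ((Finset.univ.filter fun χ : IrrCharacter G => χ ∈ B ∧
        blockHeight 2 B (χ : G → ℂ) = 0).card : ℤ) +
      2 * ∑ χ ∈ Finset.univ.filter (fun χ : IrrCharacter G => χ ∈ B ∧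
        blockHeight 2 B (χ : G → ℂ) ≠ 0), (2 : ℤ) ^ blockHeight 2 B (χ : G → ℂ) ≤
      3 * 2 ^ blockDefect 2 B := by
  classical
  obtain ⟨A, Q, hrow, hQ, hA, htr, h00, hmaj₀⟩ := exists_average_data hM hx hH hind
  rw [hdef] at hrow htr
  set d := blockDefect 2 B with hd
  set S := Finset.univ.filter (fun χ : IrrCharacter G => χ ∈ B) with hS
  have hmem : ∀ χ, χ ∈ S ↔ χ ∈ B := fun χ => by simp [hS]
  obtain ⟨φ, hφ, hφ0⟩ := exists_height_zero hM hind.2.1
  have hmaj := hmaj₀ hdef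
  have hrow' : ∀ χ, ∑ ψ ∈ S, Q χ ψ = (((2 : ℤ) ^ d : ℤ) : ℝ) * (A χ : ℝ) := fun χ => by
    rw [hrow χ]; push_cast; rfl
  have hQ0 : ∀ χ ∈ S, blockHeight 2 B ((χ : IrrCharacter G) : G → ℂ) = 0 → ∀ ψ ∈ S,
      (4 : ℝ) ^ blockHeight 2 B ((ψ : IrrCharacter G) : G → ℂ) ≤ Q χ ψ := fun χ hχ hz ψ hψ => by
    rw [(hQ χ ψ).2]; exact (hmaj ψ ((hmem ψ).1 hψ)).2 χ ((hmem χ).1 hχ) hz
  have hne : ∀ χ ∈ S, 0 < A χ := fun χ hχ => by
    refine lt_of_le_of_ne (hA χ).1 fun h => ?_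
    have h1 := (hmaj χ ((hmem χ).1 hχ)).2 φ hφ hφ0
    have h2 := Finset.single_le_sum (f := Q χ) (fun ψ _ => (hQ χ ψ).1) ((hmem φ).2 hφ)
    rw [hrow', ← h] at h2
    have : (0 : ℝ) < (4 : ℝ) ^ blockHeight 2 B (χ : G → ℂ) := by positivity
    simp at h2
    linarith
  have hdvd2 : ∀ χ ∈ S, blockHeight 2 B ((χ : IrrCharacter G) : G → ℂ) ≠ 0 →
      (2 : ℤ) ^ (blockHeight 2 B (χ : G → ℂ) + 1) ≤ A χ := fun χ hχ hz =>
    Int.le_of_dvd (hne χ hχ) ((hmaj χ ((hmem χ).1 hχ)).1 hz)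
  have hfilt : ∀ P : IrrCharacter G → Prop, [DecidablePred P] →
      S.filter P = Finset.univ.filter (fun χ : IrrCharacter G => χ ∈ B ∧ P χ) := fun P _ => by
    rw [hS, Finset.filter_filter]
  have hodd : ∀ χ ∈ S, blockHeight 2 B ((χ : IrrCharacter G) : G → ℂ) = 0 → Odd (A χ) :=
    fun χ hχ hz => (h00 χ ((hmem χ).1 hχ) χ ((hmem χ).1 hχ) hz hz).2
  rw [← hfilt, ← hfilt]
  rcases hl with hl | hl
  · refine height_count_le S _ A Q _ (fun χ _ => hrow' χ) (fun χ _ => (hA χ).2)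
      (fun χ hχ hz => ⟨hodd χ hχ hz, (hA χ).1, hQ0 χ hχ hz⟩) hdvd2 ⟨φ, (hmem φ).2 hφ, hφ0⟩ ?_
    rw [htr, mul_comm]
    exact mul_le_mul_of_nonneg_right (by exact_mod_cast hl) (by positivity)
  rcases Nat.eq_zero_or_pos d with hd0 | hd0
  · -- defect zero
    rw [hd0, pow_zero, mul_one]
    have hall : ∀ χ ∈ S, blockHeight 2 B ((χ : IrrCharacter G) : G → ℂ) = 0 ∧ χ = φ := by
      have hA1 : A φ = 1 := by
        have h1 := (hA φ).2.trans (Finset.single_le_sum (f := Q φ) (fun ψ _ => (hQ φ ψ).1)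
          ((hmem φ).2 hφ))
        rw [hrow', hd0, pow_zero, Int.cast_one, one_mul] at h1
        have hp := hne φ ((hmem φ).2 hφ)
        have h2 : (A φ) ^ 2 ≤ A φ := by exact_mod_cast h1
        nlinarith
      intro χ hχ
      have heq : χ = φ := by
        by_contra hne'
        have h2 := Finset.add_le_sum (f := Q φ) (fun ψ _ => (hQ φ ψ).1) hχ ((hmem φ).2 hφ) hne'
        rw [hrow', hd0, pow_zero, Int.cast_one, one_mul, hA1, Int.cast_one] at h2
        have h3 := hQ0 φ ((hmem φ).2 hφ) hφ0 χ hχ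
        have h4 := hQ0 φ ((hmem φ).2 hφ) hφ0 φ ((hmem φ).2 hφ)
        have := one_le_pow₀ (M₀ := ℝ) (show (1:ℝ) ≤ 4 by norm_num)
          (n := blockHeight 2 B (χ : G → ℂ))
        have := one_le_pow₀ (M₀ := ℝ) (show (1:ℝ) ≤ 4 by norm_num)
          (n := blockHeight 2 B (φ : G → ℂ))
        linarith
      exact ⟨heq ▸ hφ0, heq⟩
    have hsub : S ⊆ {φ} := fun χ hχ => Finset.mem_singleton.2 (hall χ hχ).2
    have hc : (S.filter fun χ : IrrCharacter G => blockHeight 2 B (χ : G → ℂ) = 0).card ≤ 1 :=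
      (Finset.card_le_card ((Finset.filter_subset _ _).trans hsub)).trans (Finset.card_singleton φ).le
    rw [Finset.filter_false_of_mem (s := S)
      (p := fun χ : IrrCharacter G => blockHeight 2 B (χ : G → ℂ) ≠ 0)
      (fun χ hχ => not_not.2 (hall χ hχ).1)]
    simp only [Finset.sum_empty, mul_zero, add_zero]
    omega
  -- the orthogonal complement
  set N : ℤ := 2 ^ d with hN
  set A' : IrrCharacter G → ℤ := fun χ => N - A χ with hA'
  set Q' : IrrCharacter G → IrrCharacter G → ℝ := fun χ ψ =>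
    Q χ ψ + if ψ = χ then (N : ℝ) ^ 2 - 2 * (N : ℝ) * (A χ : ℝ) else 0 with hQ'
  have hNeven : Even N := (Int.even_pow.2 ⟨even_two, by omega⟩)
  have hdiag' : ∀ χ, (A' χ : ℝ) ^ 2 ≤ Q' χ χ := fun χ => by
    simp only [hA', hQ', if_true]
    push_cast
    nlinarith [(hA χ).2]
  have hlt : ∀ χ ∈ S, A χ < N := fun χ hχ => by
    have h1 := (hA χ).2.trans (Finset.single_le_sum (f := Q χ) (fun ψ _ => (hQ χ ψ).1) hχ)
    rw [hrow'] at h1
    have hp := hne χ hχ
    have h2 : A χ ^ 2 ≤ N * A χ := by exact_mod_cast h1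
    have hle : A χ ≤ N := by rw [sq] at h2; exact le_of_mul_le_mul_right h2 hp
    refine lt_of_le_of_ne hle fun heq => ?_
    by_cases hz : blockHeight 2 B ((χ : IrrCharacter G) : G → ℂ) = 0
    · exact Int.not_odd_iff_even.2 hNeven (heq ▸ hodd χ hχ hz)
    · have hne' : χ ≠ φ := fun h => hz (h ▸ hφ0)
      have h3 := Finset.add_le_sum (f := Q χ) (fun ψ _ => (hQ χ ψ).1) hχ ((hmem φ).2 hφ) hne'
      have h4 := (hmaj χ ((hmem χ).1 hχ)).2 φ hφ hφ0
      have h5 := (hA χ).2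
      have : (0 : ℝ) < (4 : ℝ) ^ blockHeight 2 B (χ : G → ℂ) := by positivity
      rw [hrow', heq] at h3
      rw [heq] at h5
      nlinarith
  refine height_count_le S _ A' Q' N (fun χ hχ => ?_) (fun χ _ => hdiag' χ) (fun χ hχ hz => ?_)
    (fun χ hχ hz => ?_) ⟨φ, (hmem φ).2 hφ, hφ0⟩ ?_
  · simp only [hQ', hA', Finset.sum_add_distrib, Finset.sum_ite_eq', if_pos hχ, hrow']
    push_cast
    ring
  · refine ⟨Even.sub_odd hNeven (hodd χ hχ hz), by have := hlt χ hχ; simp only [hA']; omega,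
      fun ψ hψ => ?_⟩
    by_cases hψχ : ψ = χ
    · subst hψχ
      rw [hz, pow_zero]
      refine le_trans ?_ (hdiag' ψ)
      have h1 : 1 ≤ A' ψ := by have := hlt ψ hψ; simp only [hA']; omega
      have h2 : (1 : ℝ) ≤ (A' ψ : ℝ) := by exact_mod_cast h1
      nlinarith
    · simp only [hQ', if_neg hψχ, add_zero]
      exact hQ0 χ hχ hz ψ hψ
  · have h1 := (hmaj χ ((hmem χ).1 hχ)).1 hz
    have h2 : (2 : ℤ) ^ (blockHeight 2 B (χ : G → ℂ) + 1) ∣ N := by
      refine pow_dvd_pow 2 ?_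
      have h3 := (hdvd2 χ hχ hz).trans_lt (hlt χ hχ)
      exact ((pow_lt_pow_iff_right₀ (one_lt_two (α := ℤ))).1 h3).le
    exact Int.le_of_dvd (by have := hlt χ hχ; simp only [hA']; omega) (dvd_sub h2 h1)
  · simp only [hA', Finset.sum_sub_distrib, Finset.sum_const, htr, nsmul_eq_mul]
    have hc : (S.card : ℤ) ≤ (blockRank 2 b : ℤ) + 3 := by
      rw [Nat.card_eq_fintype_card,
        show Fintype.card B = S.card from Fintype.card_subtype _] at hl
      exact_mod_cast hl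
    have hNpos : 0 ≤ N := by positivity
    nlinarith [mul_le_mul_of_nonneg_right hc hNpos]

end Cfsg.Lib.Blocks
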