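import Mathlib
import Cfsg.Agent.Blocks.GlaubermanApi
import Cfsg.Agent.Blocks.ItoDegrees
import Cfsg.Agent.Chars.Gallagher
import Cfsg.Agent.Coprime.Action
import Cfsg.Prelude.Def_Blocks

/-!
# Characters of degree prime to the order of a coprime solvable supplement
-/

set_option autoImplicit false
set_option linter.unusedSectionVars false

namespace Cfsg.Lib.CoprimeDegreeCount

open Cfsg.Lib.Chars Cfsg.Lib.Coprime Subgroup
open scoped ComplexConjugate

universe u

variable {G : Type u} [Group G] [Fintype G] (K H : Subgroup G) [K.Normal]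

/-- Restriction identifies the linear characters trivial on `K` with those of `H`. -/
lemma card_linear (hKH : K ⊔ H = ⊤) (hinf : K ⊓ H = ⊥) :
    Nat.card {f : G →* ℂˣ // ∀ k ∈ K, f k = 1} = Nat.card (H →* ℂˣ) := by
  have hbij : Function.Bijective ((QuotientGroup.mk' K).comp H.subtype) := by
    refine ⟨(MonoidHom.ker_eq_bot_iff _).1 ((eq_bot_iff_forall _).2 fun x hx => ?_), fun y => ?_⟩
    · have h1 : (x : G) ∈ K ⊓ H := ⟨(QuotientGroup.eq_one_iff _).1 hx, x.2⟩
      rw [hinf, mem_bot] at h1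
      exact Subtype.ext h1
    · obtain ⟨g, rfl⟩ := QuotientGroup.mk_surjective y
      obtain ⟨k, hk, h, hh, rfl⟩ := mem_sup_of_normal_left.1
        (show g ∈ K ⊔ H by rw [hKH]; exact mem_top g)
      refine ⟨⟨h, hh⟩, ?_⟩
      show (h : G ⧸ K) = ((k * h : G) : G ⧸ K)
      rw [QuotientGroup.mk_mul, (QuotientGroup.eq_one_iff k).2 hk, one_mul]
  let e := MulEquiv.ofBijective _ hbij
  refine Nat.card_eq_of_bijective (fun f => f.1.comp H.subtype) ⟨fun f f' he => ?_, fun r => ?_⟩
  · refine Subtype.ext (MonoidHom.ext fun g => ?_)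
    obtain ⟨k, hk, h, hh, rfl⟩ := mem_sup_of_normal_left.1
      (show g ∈ K ⊔ H by rw [hKH]; exact mem_top g)
    rw [map_mul, map_mul, f.2 k hk, f'.2 k hk]
    exact congrArg (fun t => 1 * t) (DFunLike.congr_fun he ⟨h, hh⟩)
  · refine ⟨⟨r.comp (e.symm.toMonoidHom.comp (QuotientGroup.mk' K)), fun k hk => ?_⟩, ?_⟩
    · show r (e.symm (k : G ⧸ K)) = 1
      rw [(QuotientGroup.eq_one_iff k).2 hk, map_one, map_one]
    · exact MonoidHom.ext fun h => congrArg r (e.symm_apply_apply h)

/-- Counting characters of degree prime to the order of the supplement. -/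
theorem card_coprime_degree [Fintype K] (hKH : K ⊔ H = ⊤)
    (hcop : (Nat.card K).Coprime (Nat.card H)) :
    Nat.card {χ : Cfsg.IrrCharacter G // (Cfsg.charDegree (χ : G → ℂ)).Coprime (Nat.card H)} =
      Nat.card {θ : Cfsg.IrrCharacter K // ∀ g : G, conjN K g (θ : K → ℂ) = θ} *
        Nat.card (H →* ℂˣ) := by
  classical
  have hinf : K ⊓ H = ⊥ := Cfsg.Lib.Coprime.inf_eq_bot_of_coprime hcop
  rw [← card_linear K H hKH hinf, ← Nat.card_prod]
  symm
  have hidx : K.index = Nat.card H := by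
    rw [← relIndex_top_right, ← hKH, sup_comm, relIndex_sup_right, ← inf_relIndex_right, hinf,
      relIndex_bot_left]
  have hdeg : ∀ χ : G → ℂ, Cfsg.charDegree χ = deg χ := fun χ => rfl
  have hdetK : ∀ θ : Cfsg.IrrCharacter K, Cfsg.detOrder (θ : K → ℂ) ∣ Nat.card K := fun θ => by
    obtain ⟨f, hf⟩ := detChar_is_hom (isCharacter_of_irr θ.2)
    rw [Cfsg.detOrder, hf]
    refine orderOf_dvd_of_pow_eq_one (funext fun g => ?_)
    rw [Pi.pow_apply, ← Units.val_pow_eq_pow_val, ← map_pow, pow_card_eq_one', map_one]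
    rfl
  have hex : ∀ θ : {θ : Cfsg.IrrCharacter K // ∀ g : G, conjN K g (θ : K → ℂ) = θ},
      ∃ χ : Cfsg.IrrCharacter G, ∀ k : K, (χ : G → ℂ) k = (θ.1 : K → ℂ) k := by
    intro θ
    obtain ⟨χ, ⟨hχ, hres, -⟩, -⟩ := exists_canonical_extension K θ.1.2 θ.2
      (irr_apply_one_eq_deg θ.1) (by
        rw [hidx]
        exact Nat.Coprime.mul_right (hcop.symm.coprime_dvd_right (hdetK θ.1))
          (hcop.symm.coprime_dvd_right (IsIrrCharacter.deg_dvd θ.1.2)))
    exact ⟨⟨χ, hχ⟩, hres⟩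
  choose ext hext using hex
  have hresK : ∀ θ, (fun k : K => (ext θ : G → ℂ) k) = (θ.1 : K → ℂ) := fun θ => funext (hext θ)
  have hres : ∀ (θ) (f : {f : G →* ℂˣ // ∀ k ∈ K, f k = 1}) (k : K),
      (f.1 (k : G) : ℂ) * (ext θ : G → ℂ) k = (θ.1 : K → ℂ) k := fun θ f k => by
    rw [f.2 k k.2, Units.val_one, one_mul, hext]
  refine Nat.card_eq_of_bijective (fun q => (⟨⟨fun g => (q.2.1 g : ℂ) * (ext q.1 : G → ℂ) g,
    IsIrrCharacter.mul_linear (ext q.1).2 _⟩, ?_⟩ :
      {χ : Cfsg.IrrCharacter G // (Cfsg.charDegree (χ : G → ℂ)).Coprime (Nat.card H)})) ⟨?_, ?_⟩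
  · have h1 : deg (fun g => (q.2.1 g : ℂ) * (ext q.1 : G → ℂ) g) = deg (q.1.1 : K → ℂ) := by
      simp only [deg]
      have := hres q.1 q.2 1
      simp only [OneMemClass.coe_one] at this
      rw [this]
    rw [hdeg, h1]
    exact hcop.coprime_dvd_left (IsIrrCharacter.deg_dvd q.1.1.2)
  · rintro ⟨θ, f⟩ ⟨θ', f'⟩ he
    have he' : (fun g => (f.1 g : ℂ) * (ext θ : G → ℂ) g) = fun g => (f'.1 g : ℂ) * (ext θ' : G → ℂ) g :=
      congrArg (fun x => ((x.1 : Cfsg.IrrCharacter G) : G → ℂ)) he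
    obtain rfl : θ = θ' := Subtype.ext (Subtype.ext (funext fun k => by
      rw [← hres θ f k, ← hres θ' f' k]
      exact congrFun he' k))
    refine Prod.ext rfl (Subtype.ext (MonoidHom.ext fun g => Units.ext ?_))
    exact congrFun ((gallagher_trivial K (ext θ).2 (by rw [hresK θ]; exact θ.1.2)
      (isIrrCharacter_linear f.1) (isIrrCharacter_linear f'.1)
      (fun k => by rw [f.2 k k.2, map_one]) (fun k => by rw [f'.2 k k.2, map_one])).2 he') g
  · rintro ⟨χ, hχ⟩
    obtain ⟨θ, hθ, hc⟩ := exists_constituent K (isCharacter_of_irr χ.2) (IsIrrCharacter.apply_one_ne_zero χ.2)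
    obtain ⟨e, he⟩ := Blocks.deg_eq_mult_orbit K χ.2 hθ hc
    have h2 : (conjOrbit K θ).card ∣ Nat.card H := by
      have h3 := card_conjOrbit K θ
      have hle : K ≤ inertia K θ := le_inertia (isClassFunction_isChar (isCharacter_of_irr hθ))
      have h4 : (conjOrbit K θ).card = (inertia K θ).index := by
        rw [← card_mul_index (inertia K θ), mul_comm (Nat.card _)] at h3
        exact mul_right_cancel₀ Nat.card_pos.ne' h3
      rw [h4, ← hidx, ← relIndex_mul_index hle]
      exact dvd_mul_left _ _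
    have horb : (conjOrbit K θ).card = 1 := by
      refine Nat.eq_one_of_dvd_coprimes hχ ?_ h2
      rw [hdeg, he]
      exact (Dvd.intro _ rfl : _ ∣ (conjOrbit K θ).card * deg θ).trans (dvd_mul_left _ _)
    obtain ⟨ψ, hψ⟩ := Finset.card_eq_one.1 horb
    have hinv : ∀ g : G, conjN K g θ = θ := fun g => by
      have h5 : ∀ x : G, conjN K x θ = ψ := fun x => by
        have : conjN K x θ ∈ conjOrbit K θ := (mem_conjOrbit K).2 ⟨x, rfl⟩
        rwa [hψ, Finset.mem_singleton] at this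
      have h6 := h5 1
      rw [conjN_one] at h6
      rw [h5 g, h6]
    let θs : {θ : Cfsg.IrrCharacter K // ∀ g : G, conjN K g (θ : K → ℂ) = θ} := ⟨⟨θ, hθ⟩, hinv⟩
    obtain ⟨m, -, hm⟩ := restrict_eq_mult_of_invariant K χ.2 hθ hinv hc
    obtain ⟨b, hb, hbχ, hbK⟩ := exists_factor_extension K (ext θs).2
      (by rw [hresK θs]; exact hθ) χ.2 (e := m) (fun k => by rw [hext]; exact congrFun hm k)
    have hd : deg b ∣ Nat.card H := hidx ▸ deg_dvd_index_of_le_ker hb K fun a ha => hbK ⟨a, ha⟩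
    have hd' : deg (χ : G → ℂ) = deg b * deg (ext θs : G → ℂ) := by
      apply Nat.cast_injective (R := ℂ)
      rw [Nat.cast_mul, ← irr_apply_one_eq_deg χ, ← irr_apply_one_eq_deg (ext θs),
        ← irr_apply_one_eq_deg ⟨b, hb⟩, hbχ]
      rfl
    have hb1 : b 1 = 1 := by
      have h7 : deg b = 1 := Nat.eq_one_of_dvd_coprimes hχ (by rw [hdeg, hd']; exact dvd_mul_right _ _) hd
      rw [IsCharacter.apply_one_eq_deg (isCharacter_of_irr hb), h7, Nat.cast_one]
    obtain ⟨f, rfl⟩ := exists_hom_of_deg_one (isCharacter_of_irr hb) hb1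
    refine ⟨(θs, ⟨f, fun k hk => Units.ext ?_⟩), Subtype.ext (Subtype.ext hbχ.symm)⟩
    have := hbK ⟨k, hk⟩
    simp only [map_one, Units.val_one] at this
    exact this

variable {H}

/-- Invariant characters correspond in number to the classes of the centraliser. -/
theorem card_inv [Fintype K] (hKH : K ⊔ H = ⊤) (hcop : (Nat.card K).Coprime (Nat.card H))
    (hsol : Group.IsSolvable H) :
    Nat.card {θ : Cfsg.IrrCharacter K // ∀ g : G, conjN K g (θ : K → ℂ) = θ} =
      Nat.card (ConjClasses ↥(K ⊓ centralizer (H : Set G))) := by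
  classical
  have hnorm : ∀ s ∈ H, ∀ g ∈ K, s * g * s⁻¹ ∈ K := fun s _ g hg => ‹K.Normal›.conj_mem g hg s
  let φ := Glauberman.opHom K H hnorm
  have hiff : ∀ θ : Cfsg.IrrCharacter K, (∀ g : G, conjN K g (θ : K → ℂ) = θ) ↔
      Glauberman.InvSub φ.range (θ : K → ℂ) := by
    intro θ
    rw [Glauberman.invSub_range_iff hnorm]
    refine ⟨fun h s _ g g' hg => ?_, fun h g => ?_⟩
    · rw [← congrFun (h s) g]
      exact congrArg (θ : K → ℂ) (Subtype.ext hg)
    · have hle : K ⊔ H ≤ inertia K (θ : K → ℂ) := sup_le (le_inertia (isClassFunction_irr θ))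
        fun s hs => mem_inertia.2 (funext fun n => h s hs n _ rfl)
      exact mem_inertia.1 (hle (by rw [hKH]; exact mem_top g))
  haveI := hsol
  rw [Nat.card_congr (Equiv.subtypeEquivRight hiff), Glauberman.card_inv_chars_eq _ K φ.range rfl
    (Group.isSolvable_of_surjective φ.rangeRestrict_surjective)
    (Glauberman.range_coprime hnorm hcop)]
  symm
  set C := K ⊓ centralizer (H : Set G) with hC
  have hCK : C ≤ K := inf_le_left
  refine Nat.card_eq_of_bijective (fun L : ConjClasses C =>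
    (⟨ConjClasses.map (Subgroup.inclusion hCK) L, ?_⟩ :
      {T : ConjClasses K // Glauberman.InvClass φ.range T})) ⟨?_, ?_⟩
  · obtain ⟨c, rfl⟩ := ConjClasses.exists_rep L
    rintro _ ⟨a, rfl⟩ g hg
    have h1 := (φ a).toMonoidHom.map_isConj (ConjClasses.mk_eq_mk_iff_isConj.1 hg)
    refine ConjClasses.mk_eq_mk_iff_isConj.2 ?_
    have h2 : φ a (Subgroup.inclusion hCK c) = Subgroup.inclusion hCK c := Subtype.ext (by
      rw [Glauberman.coe_opHom]
      exact mul_inv_eq_iff_eq_mul.2 (mem_centralizer_iff.1 c.2.2 _ a.2))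
    rwa [MulEquiv.coe_toMonoidHom, h2] at h1
  · intro L L' hLL
    obtain ⟨c, rfl⟩ := ConjClasses.exists_rep L
    obtain ⟨c', rfl⟩ := ConjClasses.exists_rep L'
    obtain ⟨x, hx⟩ := isConj_iff.1 (ConjClasses.mk_eq_mk_iff_isConj.1 (congrArg Subtype.val hLL))
    have hx' : (x : G) * c * (x : G)⁻¹ = c' := congrArg Subtype.val hx
    let D := K ⊓ centralizer ({(c : G)} : Set G)
    have hHD : H ≤ normalizer (D : Set G) := by
      refine le_normalizer_inf le_normalizer_of_normal (le_trans ?_ le_normalizer)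
      intro h hh
      exact mem_centralizer_singleton_iff.2 (mem_centralizer_iff.1 c.2.2 h hh)
    have hfix : ∀ a ∈ H, (x : G)⁻¹ * a * x * a⁻¹ ∈ D := by
      intro a ha
      refine ⟨?_, mem_centralizer_singleton_iff.2 ?_⟩
      · rw [show (x : G)⁻¹ * a * x * a⁻¹ = (x : G)⁻¹ * (a * x * a⁻¹) by group]
        exact K.mul_mem (K.inv_mem x.2) (hnorm a ha _ x.2)
      · have hc1 : a * (c : G) * a⁻¹ = c := mul_inv_eq_iff_eq_mul.2 (mem_centralizer_iff.1 c.2.2 a ha)
        have hc2 : a⁻¹ * (c : G) * a = c := by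
          rw [mul_assoc, ← mem_centralizer_iff.1 c.2.2 a ha, inv_mul_cancel_left]
        have hc3 : a * (c' : G) * a⁻¹ = c' := mul_inv_eq_iff_eq_mul.2 (mem_centralizer_iff.1 c'.2.2 a ha)
        calc (x : G)⁻¹ * a * x * a⁻¹ * c
            = (x : G)⁻¹ * a * ((x : G) * (a⁻¹ * c * a) * (x : G)⁻¹) * x * a⁻¹ := by group
          _ = (x : G)⁻¹ * (a * (c' : G) * a⁻¹) * (a * x * a⁻¹) := by rw [hc2, hx']; group
          _ = (c : G) * ((x : G)⁻¹ * a * x * a⁻¹) := by rw [hc3, ← hx']; group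
    obtain ⟨d, hd, hxd⟩ := exists_fixed_in_coset hHD
      (coprime_of_le inf_le_left hcop.symm) (Or.inl hsol) hfix
    refine ConjClasses.mk_eq_mk_iff_isConj.2 (isConj_iff.2
      ⟨⟨(x : G) * d, K.mul_mem x.2 hd.1, hxd⟩, Subtype.ext ?_⟩)
    show (x : G) * d * c * ((x : G) * d)⁻¹ = c'
    rw [← hx', show (x : G) * d * c * ((x : G) * d)⁻¹ = x * (d * c * d⁻¹) * (x : G)⁻¹ by group,
      mem_centralizer_singleton_iff.1 hd.2]
    group
  · rintro ⟨T, hT⟩
    obtain ⟨g, rfl⟩ := ConjClasses.exists_rep T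
    let S := centralizer ({(g : G)} : Set G)
    haveI : (K.subgroupOf S).Normal := Subgroup.Normal.subgroupOf inferInstance S
    have hSK : S ⊔ K = ⊤ := top_le_iff.1 fun y _ => by
      obtain ⟨k, hk, h, hh, rfl⟩ := mem_sup_of_normal_left.1
        (show y ∈ K ⊔ H by rw [hKH]; exact mem_top y)
      obtain ⟨x, hx⟩ := isConj_iff.1 (ConjClasses.mk_eq_mk_iff_isConj.1
        (hT _ ⟨⟨h, hh⟩, rfl⟩ g rfl))
      have hx' : (x : G) * (h * g * h⁻¹) * (x : G)⁻¹ = g := congrArg Subtype.val hx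
      have hxh : (x : G) * h ∈ S := mem_centralizer_singleton_iff.2 (by
        calc (x : G) * h * g = (x : G) * (h * g * h⁻¹) * (x : G)⁻¹ * ((x : G) * h) := by group
          _ = g * ((x : G) * h) := by rw [hx'])
      rw [show k * h = (k * (x : G)⁻¹) * ((x : G) * h) by group]
      exact mul_mem (mem_sup_right (K.mul_mem hk (K.inv_mem x.2))) (mem_sup_left hxh)
    have hidx : K.index = Nat.card H := by
      rw [← relIndex_top_right, ← hKH, sup_comm, relIndex_sup_right, ← inf_relIndex_right,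
        Cfsg.Lib.Coprime.inf_eq_bot_of_coprime hcop, relIndex_bot_left]
    have hi : (K.subgroupOf S).index = Nat.card H := by
      show K.relIndex S = _
      rw [← hidx, ← relIndex_top_right, ← hSK, relIndex_sup_right]
    have hcard : Nat.card (K.subgroupOf S) ∣ Nat.card K := by
      rw [← inf_subgroupOf_right]
      exact (dvd_of_eq (Nat.card_congr (subgroupOfEquivOfLe inf_le_right).toEquiv)).trans
        (card_dvd_of_le inf_le_left)
    obtain ⟨L', hL'⟩ := exists_left_complement'_of_coprime (N := K.subgroupOf S)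
      (by rw [hi]; exact hcop.coprime_dvd_left hcard)
    let L := L'.map S.subtype
    have hLcard : Nat.card L = Nat.card H := by
      rw [← hi, hL'.index_eq_card]
      exact (Nat.card_congr (L'.equivMapOfInjective S.subtype (subtype_injective S)).toEquiv).symm
    obtain ⟨k, hk, hle⟩ := exists_conj_le_of_coprime (N := K) (H := H) (L := L)
      le_normalizer_of_normal hcop
      (Or.inr (by
        haveI : Group.IsSolvable (⊤ : Subgroup (G ⧸ K)) := by
          haveI := hsol
          refine Group.isSolvable_of_surjective (f :=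
            ((QuotientGroup.mk' K).comp H.subtype).codRestrict (⊤ : Subgroup (G ⧸ K)) fun _ => mem_top _) ?_
          rintro ⟨y, -⟩
          obtain ⟨y', rfl⟩ := QuotientGroup.mk_surjective y
          obtain ⟨k, hk, h, hh, rfl⟩ := mem_sup_of_normal_left.1
            (show y' ∈ K ⊔ H by rw [hKH]; exact mem_top y')
          refine ⟨⟨h, hh⟩, Subtype.ext ?_⟩
          show (h : G ⧸ K) = ((k * h : G) : G ⧸ K)
          rw [QuotientGroup.mk_mul, (QuotientGroup.eq_one_iff k).2 hk, one_mul]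
        refine Group.isSolvable_of_isSolvable_injective
          (f := ((QuotientGroup.mk' K).comp L.subtype).codRestrict (⊤ : Subgroup (G ⧸ K)) fun _ => mem_top _)
          ((MonoidHom.ker_eq_bot_iff _).1 ((eq_bot_iff_forall _).2 fun x hx => Subtype.ext ?_))
        exact eq_one_of_coprime (N := K) (H := L) (by rw [hLcard]; exact hcop)
          ((QuotientGroup.eq_one_iff _).1 (congrArg Subtype.val hx)) x.2))
      (by rw [hKH]; exact le_top) (by rw [hLcard]; exact hcop)
    have heq := Cfsg.Lib.Coprime.eq_of_le_of_card_eq hle (by rw [card_conjMap, hLcard])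
    refine ⟨ConjClasses.mk ⟨k⁻¹ * g * k, ⟨K.mul_mem (K.mul_mem (K.inv_mem hk) g.2) hk,
      mem_centralizer_iff.2 fun h hh => ?_⟩⟩, Subtype.ext ?_⟩
    · have h1 : k * h * k⁻¹ ∈ L := by
        rw [heq, mem_conjMap]
        simpa [mul_assoc] using hh
      obtain ⟨l, -, hl⟩ := h1
      have h2 : k * h * k⁻¹ * g = g * (k * h * k⁻¹) := by
        rw [← hl]; exact mem_centralizer_singleton_iff.1 l.2
      calc h * (k⁻¹ * g * k) = k⁻¹ * (k * h * k⁻¹ * g) * k := by group
        _ = k⁻¹ * g * k * h := by rw [h2]; group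
    · exact ConjClasses.mk_eq_mk_iff_isConj.2 (isConj_iff.2 ⟨⟨k, hk⟩, Subtype.ext (by
        show k * (k⁻¹ * g * k) * k⁻¹ = g
        group)⟩)

end Cfsg.Lib.CoprimeDegreeCount
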