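import Mathlib
import Cfsg.Prelude.Def_Blocks
import Cfsg.Agent.Blocks.Embed
import Cfsg.Agent.Blocks.Idem
import Cfsg.Agent.Blocks.Sub
import Cfsg.Agent.Blocks.Roots
import Cfsg.Agent.Chars.ExtCriteria

/-!
# The coset-graded centralizer of a normal subgroup in the group algebra

If `ψ` restricts irreducibly to `θ` in the principal block of `N`, and every coset of `N` has an
element whose `N`-class has size prime to `p`, then after a linear twist trivial on `N` the central
character of `ψ` agrees modulo `M` with the augmentation on all `N`-invariant elements.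
-/

set_option autoImplicit false
set_option linter.unusedSectionVars false

namespace Cfsg.Lib.Blocks

open Cfsg Cfsg.Lib.Chars

universe u v

variable {G : Type u} [Group G] [Fintype G] {M : Ideal AlgInt} {p : ℕ}

/-- `y` commutes with the elements of `N`. -/
def NInv (N : Subgroup G) (y : MonoidAlgebra ℂ G) : Prop :=
  ∀ m ∈ N, ∀ g : G, fn y (m * g * m⁻¹) = fn y g

/-- The coefficients are natural numbers. -/
def NatCoeff (y : MonoidAlgebra ℂ G) : Prop := ∃ b : G → ℕ, ∀ g, fn y g = (b g : ℂ)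

/-- `y` is supported in the coset `gN`. -/
def SuppCoset (N : Subgroup G) (g : G) (y : MonoidAlgebra ℂ G) : Prop :=
  ∀ x : G, fn y x ≠ 0 → g⁻¹ * x ∈ N

/-- The augmentation. -/
noncomputable def aug (y : MonoidAlgebra ℂ G) : ℂ := ∑ g, fn y g

/-- The sum of an `N`-class. -/
noncomputable def ncls (N : Subgroup G) (g : G) : MonoidAlgebra ℂ G := by
  classical
  exact ofFn fun x => if ∃ m ∈ N, m * g * m⁻¹ = x then 1 else 0

lemma fn_ncls (N : Subgroup G) (g x : G) [Decidable (∃ m ∈ N, m * g * m⁻¹ = x)] :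
    fn (ncls N g) x = if ∃ m ∈ N, m * g * m⁻¹ = x then 1 else 0 := by
  simp only [ncls, fn_ofFn]
  congr

lemma nInv_ncls (N : Subgroup G) (g : G) : NInv N (ncls N g) := by
  classical
  intro m hm x
  rw [fn_ncls, fn_ncls]
  congr 1
  apply propext
  constructor
  · rintro ⟨k, hk, e⟩
    exact ⟨m⁻¹ * k, N.mul_mem (N.inv_mem hm) hk, by
      calc m⁻¹ * k * g * (m⁻¹ * k)⁻¹ = m⁻¹ * (k * g * k⁻¹) * m := by group
        _ = x := by rw [e]; group⟩
  · rintro ⟨k, hk, rfl⟩
    exact ⟨m * k, N.mul_mem hm hk, by group⟩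

lemma natCoeff_ncls (N : Subgroup G) (g : G) : NatCoeff (ncls N g) := by
  classical
  refine ⟨fun x => if ∃ m ∈ N, m * g * m⁻¹ = x then 1 else 0, fun x => ?_⟩
  rw [fn_ncls]
  split_ifs with h <;> simp [h]

lemma suppCoset_ncls (N : Subgroup G) [hN : N.Normal] (g : G) : SuppCoset N g (ncls N g) := by
  classical
  intro x hx
  rw [fn_ncls] at hx
  split_ifs at hx with h
  · obtain ⟨m, hm, rfl⟩ := h
    rw [show g⁻¹ * (m * g * m⁻¹) = g⁻¹ * m * g⁻¹⁻¹ * m⁻¹ by group]
    exact N.mul_mem (hN.conj_mem m hm g⁻¹) (N.inv_mem hm)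
  · exact absurd rfl hx

lemma aug_ncls (N : Subgroup G) (g : G) :
    aug (ncls N g) = (Nat.card {x : G // ∃ m ∈ N, m * g * m⁻¹ = x} : ℂ) := by
  classical
  simp only [aug, fn_ncls, Finset.sum_boole, Nat.card_eq_fintype_card, Fintype.card_subtype]

lemma aug_mul (a b : MonoidAlgebra ℂ G) : aug (a * b) = aug a * aug b := by
  have h : ∀ y : MonoidAlgebra ℂ G, aug y = chiEval (fun _ => (1 : ℂ)) y := fun y => by
    simp [aug, chiEval]
  let triv : Representation ℂ G ℂ := 1
  have hc : triv.character = fun _ => (1 : ℂ) := funext fun g => by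
    simp [triv, Representation.character]
  rw [h, h, h, ← hc, ← trace_asAlgebraHom, ← trace_asAlgebraHom, ← trace_asAlgebraHom, map_mul]
  have e : ∀ f : Module.End ℂ ℂ, f = LinearMap.trace ℂ ℂ f • (1 : Module.End ℂ ℂ) := fun f => by
    have hf : f = f 1 • (1 : Module.End ℂ ℂ) := LinearMap.ext_ring (by simp)
    conv_rhs => rw [hf, map_smul, Module.End.one_eq_id, LinearMap.trace_id]
    simpa [Module.End.one_eq_id] using hf
  conv_lhs => rw [e (triv.asAlgebraHom a), smul_mul_assoc, one_mul, map_smul, smul_eq_mul]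

lemma aug_one : aug (1 : MonoidAlgebra ℂ G) = 1 := by
  classical
  simp [aug, fn_one]

lemma NInv.mul {N : Subgroup G} {a b : MonoidAlgebra ℂ G} (ha : NInv N a) (hb : NInv N b) :
    NInv N (a * b) := by
  intro m hm g
  rw [fn_mul, fn_mul]
  refine Fintype.sum_equiv (MulAut.conj m⁻¹).toEquiv _ _ fun x => ?_
  simp only [MulEquiv.toEquiv_eq_coe, MulEquiv.coe_toEquiv, MulAut.conj_apply, inv_inv]
  rw [show x = m * (m⁻¹ * x * m) * m⁻¹ by group, ha m hm]
  rw [show (m * (m⁻¹ * x * m) * m⁻¹)⁻¹ * (m * g * m⁻¹)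
    = m * ((m⁻¹ * x * m)⁻¹ * g) * m⁻¹ by group, hb m hm]
  rw [show m⁻¹ * (m * (m⁻¹ * x * m) * m⁻¹) * m = m⁻¹ * x * m by group]

lemma NatCoeff.mul {a b : MonoidAlgebra ℂ G} (ha : NatCoeff a) (hb : NatCoeff b) :
    NatCoeff (a * b) := by
  obtain ⟨f, hf⟩ := ha
  obtain ⟨g, hg⟩ := hb
  exact ⟨fun x => ∑ y, f y * g (y⁻¹ * x), fun x => by simp [fn_mul, hf, hg]⟩

lemma SuppCoset.mul {N : Subgroup G} [hN : N.Normal] {g h : G} {a b : MonoidAlgebra ℂ G}
    (ha : SuppCoset N g a) (hb : SuppCoset N h b) : SuppCoset N (g * h) (a * b) := by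
  intro x hx
  rw [fn_mul] at hx
  obtain ⟨y, -, hy⟩ := Finset.exists_ne_zero_of_sum_ne_zero hx
  have h1 := ha y (left_ne_zero_of_mul hy)
  have h2 := hb _ (right_ne_zero_of_mul hy)
  rw [show (g * h)⁻¹ * x = h⁻¹ * (g⁻¹ * y) * h⁻¹⁻¹ * (h⁻¹ * (y⁻¹ * x)) by group]
  exact N.mul_mem (hN.conj_mem _ h1 h⁻¹) h2

lemma NatCoeff.integral {y : MonoidAlgebra ℂ G} (hy : NatCoeff y) : Integral M y := by
  obtain ⟨b, hb⟩ := hy
  intro g
  rw [hb]
  exact natCast_mem_place _

lemma natCoeff_single (g : G) : NatCoeff (MonoidAlgebra.single g (1 : ℂ)) := by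
  classical
  exact ⟨fun x => if g = x then 1 else 0, fun x => by rw [fn_single]; split_ifs with h <;> simp [h]⟩

lemma natCoeff_one : NatCoeff (1 : MonoidAlgebra ℂ G) := natCoeff_single 1

lemma nInv_one (N : Subgroup G) : NInv N (1 : MonoidAlgebra ℂ G) := fun m _ g =>
  (isCentralFn_one) g m

lemma NatCoeff.aug_mem {y : MonoidAlgebra ℂ G} (hy : NatCoeff y) : aug y ∈ place M := by
  obtain ⟨b, hb⟩ := hy
  exact sum_mem fun g _ => by rw [hb]; exact natCast_mem_place _

lemma NInv.single_comm {N : Subgroup G} {y : MonoidAlgebra ℂ G} (hy : NInv N y) {m : G}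
    (hm : m ∈ N) : MonoidAlgebra.single m 1 * y = y * MonoidAlgebra.single m 1 := fn_ext fun g => by
  rw [fn_single_mul, fn_mul_single, one_mul, mul_one]
  calc fn y (m⁻¹ * g) = fn y (m * (m⁻¹ * g) * m⁻¹) := (hy m hm _).symm
    _ = fn y (g * m⁻¹) := by rw [mul_inv_cancel_left]

/-- An invariant element acts by its central character when the restriction is irreducible. -/
lemma exists_scalar_asAlgebraHom (N : Subgroup G) {V : Type v} [AddCommGroup V] [Module ℂ V]
    [FiniteDimensional ℂ V] (R : Representation ℂ G V) (ρ : Representation ℂ N V) [ρ.IsIrreducible]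
    (hR : ∀ n : N, R (n : G) = ρ n) {y : MonoidAlgebra ℂ G} (hy : NInv N y) :
    R.asAlgebraHom y = omega R.character y • (1 : Module.End ℂ V) := by
  obtain ⟨c, hc⟩ := schur_scalar ρ (R.asAlgebraHom y) fun n v => by
    have := congrArg (fun z => R.asAlgebraHom z v) (hy.single_comm n.2)
    simp only [map_mul, Module.End.mul_apply, Representation.asAlgebraHom_single_one, hR] at this
    exact this.symm
  have hd : (Module.finrank ℂ V : ℂ) ≠ 0 := by exact_mod_cast (finrank_pos_of_irreducible ρ).ne'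
  have h1 : chiEval R.character y = c * Module.finrank ℂ V := by
    rw [← trace_asAlgebraHom, hc, map_smul, LinearMap.trace_id, smul_eq_mul]
  rw [omega, h1, Representation.char_one, mul_div_assoc, div_self hd, mul_one, hc]
  rfl

lemma isIntegral_scalar_asAlgebraHom {V : Type v} [AddCommGroup V] [Module ℂ V]
    [FiniteDimensional ℂ V] [Nontrivial V] (R : Representation ℂ G V) {y : MonoidAlgebra ℂ G}
    (hy : NatCoeff y) {c : ℂ} (hc : R.asAlgebraHom y = c • (1 : Module.End ℂ V)) :
    IsIntegral ℤ c := by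
  classical
  obtain ⟨b, hb⟩ := hy
  have hz : IsIntegral ℤ (∑ g, MonoidAlgebra.single g ((b g : ℤ))) :=
    Algebra.IsIntegral.isIntegral _
  have hmap := hz.map (MonoidAlgebra.lift ℤ (Module.End ℂ V) G R)
  have heq : MonoidAlgebra.lift ℤ (Module.End ℂ V) G R (∑ g, MonoidAlgebra.single g ((b g : ℤ))) =
      algebraMap ℂ (Module.End ℂ V) c := by
    rw [Algebra.algebraMap_eq_smul_one, ← hc, map_sum]
    conv_rhs => rw [eq_sum_single y, map_sum]
    refine Finset.sum_congr rfl fun g _ => ?_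
    rw [MonoidAlgebra.lift_single, Representation.asAlgebraHom_single, hb]
    ext v
    simp [Nat.cast_smul_eq_nsmul]
  rw [heq] at hmap
  exact (isIntegral_algebraMap_iff (FaithfulSMul.algebraMap_injective ℂ (Module.End ℂ V))).mp hmap

section Core

variable {N : Subgroup G} [N.Normal] [Fintype N] {ψ : IrrCharacter G} {θ : IrrCharacter N}

lemma omega_nInv_mul (hres : ∀ n : N, (ψ : G → ℂ) n = (θ : N → ℂ) n) {a b : MonoidAlgebra ℂ G}
    (ha : NInv N a) (hb : NInv N b) :
    omega (ψ : G → ℂ) (a * b) = omega (ψ : G → ℂ) a * omega (ψ : G → ℂ) b := by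
  obtain ⟨m, ρ, hirr, hρ⟩ := θ.2
  obtain ⟨R, hR, hRψ⟩ := exists_rep_extending N ρ N.subtype (isCharacter_of_irr ψ.2)
    fun n => by rw [hρ]; exact hres n
  have := nontrivial_of_irreducible ρ
  have e : ∀ y, NInv N y → R.asAlgebraHom y = omega (ψ : G → ℂ) y • (1 : Module.End ℂ _) :=
    fun y hy => by rw [← hRψ]; exact exists_scalar_asAlgebraHom N R ρ hR hy
  have h := e _ (ha.mul hb)
  rw [map_mul, e a ha, e b hb, smul_mul_smul_comm, one_mul] at h
  exact (smul_left_injective ℂ (one_ne_zero : (1 : Module.End ℂ (Fin m → ℂ)) ≠ 0) h).symm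

lemma omega_nInv_mem_place (hM : IsPModular p M)
    (hres : ∀ n : N, (ψ : G → ℂ) n = (θ : N → ℂ) n) {y : MonoidAlgebra ℂ G} (hy : NInv N y)
    (hy' : NatCoeff y) : omega (ψ : G → ℂ) y ∈ place M := by
  obtain ⟨m, ρ, hirr, hρ⟩ := θ.2
  obtain ⟨R, hR, hRψ⟩ := exists_rep_extending N ρ N.subtype (isCharacter_of_irr ψ.2)
    fun n => by rw [hρ]; exact hres n
  have := nontrivial_of_irreducible ρ
  rw [← hRψ]
  exact isIntegral_mem_place hM
    (isIntegral_scalar_asAlgebraHom R hy' (exists_scalar_asAlgebraHom N R ρ hR hy))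

lemma chiEval_of_suppCoset_one (χ : G → ℂ) {y : MonoidAlgebra ℂ G} (hs : SuppCoset N 1 y) :
    chiEval χ y = chiEval (fun n : N => χ n) (resElem N y) := by
  classical
  simp only [chiEval, fn_resElem]
  rw [← Finset.sum_subtype (Finset.univ.filter fun g : G => g ∈ N) (fun g => by simp)
    (fun g => fn y g * χ g)]
  symm
  refine Finset.sum_subset (Finset.subset_univ _) fun g _ hg => ?_
  by_contra h
  exact hg (Finset.mem_filter.2 ⟨Finset.mem_univ _, by
    simpa using hs g (left_ne_zero_of_mul h)⟩)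

lemma isCentralFn_resElem_of_nInv {y : MonoidAlgebra ℂ G} (hy : NInv N y) :
    IsCentralFn (resElem N y) := fun g h => by
  simp only [fn_resElem, Subgroup.coe_mul, Subgroup.coe_inv]
  exact hy _ h.2 _

/-- The principal character as an irreducible character. -/
noncomputable def principalChar (G : Type u) [Group G] [Finite G] : IrrCharacter G :=
  ⟨fun _ => 1, isIrrCharacter_one⟩

lemma res_omega_of_suppOne (hM : IsPModular p M) (hres : ∀ n : N, (ψ : G → ℂ) n = (θ : N → ℂ) n)
    (hθ : θ ∈ principalBlock M N) {y : MonoidAlgebra ℂ G} (hy : NInv N y) (hy' : NatCoeff y)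
    (hs : SuppCoset N 1 y) : res M (omega (ψ : G → ℂ) y) = res M (aug y) := by
  have h1 : omega (ψ : G → ℂ) y = omega (θ : N → ℂ) (resElem N y) := by
    rw [omega, omega, chiEval_of_suppCoset_one _ hs, show (ψ : G → ℂ) 1 = (θ : N → ℂ) 1 from hres 1,
      show (fun n : N => (ψ : G → ℂ) n) = (θ : N → ℂ) from funext hres]
  have h2 : aug y = omega (principalChar N : N → ℂ) (resElem N y) := by
    have h := chiEval_of_suppCoset_one (fun _ : G => (1 : ℂ)) hs
    show aug y = chiEval (fun _ : N => (1 : ℂ)) (resElem N y) / 1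
    rw [← h]
    simp [aug, chiEval]
  rw [h1, h2]
  have hsame : SameBlock M (principalChar N : N → ℂ) (θ : N → ℂ) := hθ
  exact (res_omega_eq_of_sameBlock hM hsame (isCentralFn_resElem_of_nInv hy)
    ((hy'.integral).resElem N)).symm

/-- Every coset contains an element with `N`-class of size prime to `p`. -/
def GoodCosets (p : ℕ) (N : Subgroup G) : Prop :=
  ∀ g : G, ∃ n ∈ N, ¬ p ∣ Nat.card {x : G // ∃ m ∈ N, m * (g * n) * m⁻¹ = x}

lemma GoodCosets.exists_elem (hM : IsPModular p M) (hg : GoodCosets p N) (g : G) :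
    ∃ y : MonoidAlgebra ℂ G, NInv N y ∧ NatCoeff y ∧ SuppCoset N g y ∧ res M (aug y) ≠ 0 := by
  obtain ⟨n, hn, hp⟩ := hg g
  refine ⟨ncls N (g * n), nInv_ncls N _, natCoeff_ncls N _, fun x hx => ?_, ?_⟩
  · have := suppCoset_ncls N (g * n) x hx
    rw [show g⁻¹ * x = n * ((g * n)⁻¹ * x) by group]
    exact N.mul_mem hn this
  · rw [aug_ncls, res_natCast, Ne, res_natCast_eq_zero_iff hM]
    exact hp

theorem exists_residue_hom (hM : IsPModular p M) (hres : ∀ n : N, (ψ : G → ℂ) n = (θ : N → ℂ) n)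
    (hθ : θ ∈ principalBlock M N) (hgood : GoodCosets p N) :
    ∃ κ : G →* Res M, (∀ n ∈ N, κ n = 1) ∧ ∀ (g : G) (y : MonoidAlgebra ℂ G), NInv N y →
      NatCoeff y → SuppCoset N g y → res M (omega (ψ : G → ℂ) y) = κ g * res M (aug y) := by
  choose y hy hy' hys hy0 using hgood.exists_elem hM
  set w : MonoidAlgebra ℂ G → Res M := fun a => res M (omega (ψ : G → ℂ) a) with hw
  set e : MonoidAlgebra ℂ G → Res M := fun a => res M (aug a) with he
  have hmulw : ∀ a b, NInv N a → NatCoeff a → NInv N b → NatCoeff b → w (a * b) = w a * w b :=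
    fun a b ha ha' hb hb' => by
      simp only [hw]
      rw [omega_nInv_mul hres ha hb,
        res_mul (omega_nInv_mem_place hM hres ha ha') (omega_nInv_mem_place hM hres hb hb')]
  have hmule : ∀ a b, NatCoeff a → NatCoeff b → e (a * b) = e a * e b := fun a b ha hb => by
    simp only [he]
    rw [aug_mul, res_mul ha.aug_mem hb.aug_mem]
  have hpair : ∀ g a, NInv N a → NatCoeff a → SuppCoset N g a →
      w a * w (y g⁻¹) = e a * e (y g⁻¹) := fun g a ha ha' has => by
    rw [← hmulw _ _ ha ha' (hy _) (hy' _), ← hmule _ _ ha' (hy' _)]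
    refine res_omega_of_suppOne hM hres hθ (ha.mul (hy _)) (ha'.mul (hy' _)) ?_
    have := has.mul (hys g⁻¹)
    rwa [mul_inv_cancel] at this
  set k : G → Res M := fun g => e (y g⁻¹) / w (y g⁻¹) with hk
  have hwne : ∀ g, w (y g⁻¹) ≠ 0 := fun g h0 => by
    have := hpair g (y g) (hy g) (hy' g) (hys g)
    rw [h0, mul_zero] at this
    exact mul_ne_zero (hy0 g) (hy0 g⁻¹) this.symm
  have hmain : ∀ g a, NInv N a → NatCoeff a → SuppCoset N g a → w a = k g * e a :=
    fun g a ha ha' has => by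
      rw [hk, div_mul_eq_mul_div, eq_div_iff (hwne g), hpair g a ha ha' has, mul_comm]
  have hkN : ∀ n ∈ N, k n = 1 := fun n hn => by
    have h := hmain n 1 (nInv_one N) natCoeff_one fun x hx => by
      classical
      rw [fn_one] at hx
      split_ifs at hx with hx1
      · subst hx1; simpa using N.inv_mem hn
      · exact absurd rfl hx
    simp only [hw, he, omega_one, aug_one, ← Nat.cast_one (R := ℂ), res_natCast] at h
    simpa using h.symm
  refine ⟨⟨⟨k, hkN 1 N.one_mem⟩, fun g h => ?_⟩, hkN, hmain⟩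
  have h1 := hmain (g * h) (y g * y h) ((hy g).mul (hy h)) ((hy' g).mul (hy' h))
    ((hys g).mul (hys h))
  rw [hmulw _ _ (hy g) (hy' g) (hy h) (hy' h), hmule _ _ (hy' g) (hy' h),
    hmain g _ (hy g) (hy' g) (hys g), hmain h _ (hy h) (hy' h) (hys h)] at h1
  have h2 : e (y g) * e (y h) ≠ 0 := mul_ne_zero (hy0 g) (hy0 h)
  refine mul_right_cancel₀ h2 ?_
  linear_combination -h1

end Core

/-- Homomorphisms to the residue field lift to roots of unity of order prime to `p`. -/
theorem exists_lift_residue_hom (hM : IsPModular p M) (κ : G →* Res M) :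
    ∃ r : G →* ℂˣ, ∀ g, res M (r g : ℂ) = κ g ∧ (r g : ℂ) ∈ place M ∧
      ∀ n : G, κ n = 1 → r n = 1 := by
  classical
  have hp := hM.1
  have : Fact p.Prime := ⟨hp⟩
  have := charP_res hM
  set m := ordCompl[p] (Nat.card G) with hm
  have hpm : ¬ p ∣ m := Nat.not_dvd_ordCompl hp Nat.card_pos.ne'
  have hm0 : m ≠ 0 := fun h => hpm (h ▸ dvd_zero p)
  have : NeZero m := ⟨hm0⟩
  have hmem : ∀ z : rootsOfUnity m ℂ, ((z : ℂˣ) : ℂ) ∈ place M := fun z =>
    (isUnitAt_of_pow_eq_one hM hm0 ((mem_rootsOfUnity' m _).1 z.2)).mem_place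
  let L : rootsOfUnity m ℂ →* Res M :=
    { toFun := fun z => res M ((z : ℂˣ) : ℂ)
      map_one' := by
        rw [OneMemClass.coe_one, Units.val_one, ← Nat.cast_one, res_natCast, Nat.cast_one]
      map_mul' := fun a b => by
        rw [Subgroup.coe_mul, Units.val_mul, res_mul (hmem a) (hmem b)] }
  have hinj : Function.Injective L := by
    rw [injective_iff_map_eq_one]
    intro z hz
    refine Subtype.ext (Units.ext (eq_one_of_small_sub_one hM hpm
      ((mem_rootsOfUnity' m _).1 z.2) ?_))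
    rw [← res_eq_iff (hmem z) (one_mem _)]
    rw [show res M ((z : ℂˣ) : ℂ) = 1 from hz, ← Nat.cast_one (R := ℂ), res_natCast, Nat.cast_one]
  have hkm : ∀ g, κ g ^ m = 1 := fun g => by
    have h1 : κ g ^ Nat.card G = 1 := by rw [← map_pow, pow_card_eq_one', map_one]
    rw [← Nat.ordProj_mul_ordCompl_eq_self (Nat.card G) p, mul_comm, pow_mul] at h1
    rw [← sub_eq_zero]
    refine eq_zero_of_pow_eq_zero (n := p ^ (Nat.card G).factorization p) ?_
    rw [sub_pow_char_pow, one_pow, h1, sub_self]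
  have hsurj : ∀ g, ∃ z, L z = κ g := fun g => by
    classical
    have : Fintype (rootsOfUnity m ℂ) := Fintype.ofFinite _
    by_contra hno
    rw [not_exists] at hno
    have hsub : insert (κ g) (Finset.univ.image L) ⊆ Polynomial.nthRootsFinset m (1 : Res M) := by
      intro x hx
      rw [Polynomial.mem_nthRootsFinset (Nat.pos_of_ne_zero hm0)]
      rcases Finset.mem_insert.1 hx with rfl | hx
      · exact hkm g
      · obtain ⟨z, -, rfl⟩ := Finset.mem_image.1 hx
        rw [← map_pow, show z ^ m = 1 from Subtype.ext ((mem_rootsOfUnity m _).1 z.2), map_one]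
    have h1 := Finset.card_le_card hsub
    rw [Finset.card_insert_of_notMem (by simpa using hno),
      Finset.card_image_of_injective _ hinj, Finset.card_univ,
      ← Nat.card_eq_fintype_card, Complex.card_rootsOfUnity] at h1
    have h2 : (Polynomial.nthRootsFinset m (1 : Res M)).card ≤ m := by
      rw [Polynomial.nthRootsFinset_def]
      exact (Multiset.toFinset_card_le _).trans (Polynomial.card_nthRoots m 1)
    omega
  choose z hz using hsurj
  refine ⟨⟨⟨fun g => (z g : ℂˣ), ?_⟩, fun a b => ?_⟩, fun g => ⟨hz g, hmem _, fun n hn => ?_⟩⟩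
  · rw [show z 1 = 1 from hinj (by rw [hz, map_one, map_one])]; rfl
  · show ((z (a * b) : ℂˣ)) = (z a : ℂˣ) * (z b : ℂˣ)
    rw [show z (a * b) = z a * z b from hinj (by rw [map_mul L, hz, hz, hz, map_mul])]; rfl
  · show ((z n : ℂˣ)) = 1
    rw [show z n = 1 from hinj (by rw [hz, hn, map_one])]; rfl

section Apply

variable {N : Subgroup G} [N.Normal] [Fintype N] {θ : IrrCharacter N}

/-- `χ` agrees modulo `M` with the augmentation on invariant elements. -/
def AugLike (M : Ideal AlgInt) (N : Subgroup G) (χ : G → ℂ) : Prop :=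
  ∀ y : MonoidAlgebra ℂ G, NInv N y → NatCoeff y → res M (omega χ y) = res M (aug y)

theorem exists_augLike_twist (hM : IsPModular p M) {ψ : IrrCharacter G}
    (hres : ∀ n : N, (ψ : G → ℂ) n = (θ : N → ℂ) n)
    (hθ : θ ∈ principalBlock M N) (hgood : GoodCosets p N) :
    ∃ χ : IrrCharacter G, ∃ r : G →* ℂˣ, (∀ n ∈ N, r n = 1) ∧
      (∀ g, (χ : G → ℂ) g = (r g : ℂ) * (ψ : G → ℂ) g) ∧
      (∀ n : N, (χ : G → ℂ) n = (θ : N → ℂ) n) ∧ AugLike M N (χ : G → ℂ) := by
  classical
  obtain ⟨κ, hκN, hκ⟩ := exists_residue_hom hM hres hθ hgood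
  obtain ⟨r, hr⟩ := exists_lift_residue_hom hM κ
  have hrN : ∀ n ∈ N, r n = 1 := fun n hn => (hr 1).2.2 n (hκN n hn)
  let χ : IrrCharacter G := ⟨(fun g => ((r⁻¹ : G →* ℂˣ) g : ℂ)) * (ψ : G → ℂ),
    IsIrrCharacter.mul_linear ψ.2 (r⁻¹)⟩
  have hχ : ∀ g, (χ : G → ℂ) g = ((r g)⁻¹ : ℂˣ) * (ψ : G → ℂ) g := fun g => rfl
  have hχN : ∀ n : N, (χ : G → ℂ) n = (θ : N → ℂ) n := fun n => by
    rw [hχ, hrN _ n.2, inv_one, Units.val_one, one_mul, hres]
  refine ⟨χ, r⁻¹, fun n hn => by simp [hrN n hn], hχ, hχN, fun y hy hy' => ?_⟩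
  let part : G ⧸ N → MonoidAlgebra ℂ G := fun c =>
    ofFn fun x => if (x : G ⧸ N) = c then fn y x else 0
  have hpN : ∀ c, NInv N (part c) := fun c m hm x => by
    simp only [part, fn_ofFn]
    rw [hy m hm x]
    congr 2
    rw [QuotientGroup.mk_mul, QuotientGroup.mk_mul, QuotientGroup.mk_inv,
      (QuotientGroup.eq_one_iff m).2 hm, inv_one, one_mul, mul_one]
  have hpI : ∀ c, NatCoeff (part c) := fun c => by
    obtain ⟨b, hb⟩ := hy'
    refine ⟨fun x => if (x : G ⧸ N) = c then b x else 0, fun x => ?_⟩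
    simp only [part, fn_ofFn]
    split_ifs <;> simp [hb]
  have hsum : y = ∑ c, part c := fn_ext fun x => by
    rw [fn_sum]
    simp only [part, fn_ofFn, Finset.sum_ite_eq, Finset.mem_univ, if_true]
  have hps : ∀ c : G ⧸ N, SuppCoset N c.out (part c) := fun c x hx => by
    simp only [part, fn_ofFn] at hx
    split_ifs at hx with h
    · rw [← QuotientGroup.eq, QuotientGroup.out_eq', h]
    · exact absurd rfl hx
  have hrconst : ∀ g x : G, g⁻¹ * x ∈ N → r x = r g := fun g x h => by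
    rw [show x = g * (g⁻¹ * x) by group, map_mul, hrN _ h, mul_one]
  have hκr : ∀ c, res M (omega (χ : G → ℂ) (part c)) = res M (aug (part c)) := fun c => by
    set g := c.out
    have h1 : omega (χ : G → ℂ) (part c) =
        ((r g)⁻¹ : ℂˣ) * omega (ψ : G → ℂ) (part c) := by
      have h0 : (χ : G → ℂ) 1 = (ψ : G → ℂ) 1 := by simp [hχ]
      rw [omega, omega, h0, ← mul_div_assoc]
      congr 1
      rw [chiEval, chiEval, Finset.mul_sum]
      refine Finset.sum_congr rfl fun x _ => ?_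
      by_cases h : fn (part c) x = 0
      · rw [h, zero_mul, zero_mul, mul_zero]
      · rw [hχ, hrconst g x (hps c x h)]; ring
    have hu : ((r g : ℂˣ) : ℂ) ∈ place M := (hr g).2.1
    have hu' : (((r g)⁻¹ : ℂˣ) : ℂ) ∈ place M := by
      rw [← map_inv]; exact (hr g⁻¹).2.1
    have hw := omega_nInv_mem_place hM hres (hpN c) (hpI c)
    rw [h1, res_mul hu' hw, hκ g _ (hpN c) (hpI c) (hps c), ← (hr g).1, ← mul_assoc,
      ← res_mul hu' hu, Units.inv_mul, ← Nat.cast_one (R := ℂ), res_natCast, Nat.cast_one, one_mul]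
  rw [hsum, omega_sum, res_sum _ _ fun c _ => omega_nInv_mem_place hM hχN (hpN c) (hpI c),
    Finset.sum_congr rfl fun c _ => hκr c,
    ← res_sum _ _ fun c _ => (hpI c).aug_mem]
  congr 1
  simp only [aug, fn_sum]
  exact Finset.sum_comm

theorem AugLike.restrict (hM : IsPModular p M) {χ : IrrCharacter G}
    (h : AugLike M N (χ : G → ℂ)) {J : Subgroup G} [Fintype J] (hJ : N ≤ J)
    (ξ : IrrCharacter J) (hξ : ∀ y : J, (ξ : J → ℂ) y = (χ : G → ℂ) y) :
    ξ ∈ principalBlock M J := by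
  classical
  show SameBlock M (principalChar J : J → ℂ) (ξ : J → ℂ)
  rw [sameBlock_iff_res hM]
  intro j
  rw [← omega_cls_irr, ← omega_cls_irr]
  set a := emb J (cls ℂ j) with ha
  have hval : ∀ x : J, fn a (x : G) = if IsConj j x then 1 else 0 := fun x => by
    rw [ha, fn_emb_coe, fn_cls]
  have h1 : NInv N a := fun m hm x => by
    by_cases hx : x ∈ J
    · have hm' : m ∈ J := hJ hm
      have hcen := isCentralFn_cls (R := ℂ) j ⟨x, hx⟩ ⟨m, hm'⟩
      rw [ha, fn_emb_mem J _ hx, fn_emb_mem J _ (J.mul_mem (J.mul_mem hm' hx) (J.inv_mem hm'))]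
      exact hcen
    · have hm' : m ∈ J := hJ hm
      rw [ha, fn_emb_not_mem J _ hx, fn_emb_not_mem J _ fun h' => hx ?_]
      have := J.mul_mem (J.mul_mem (J.inv_mem hm') h') hm'
      rwa [show m⁻¹ * (m * x * m⁻¹) * m = x by group] at this
  have h2 : NatCoeff a := by
    refine ⟨fun x => if hx : x ∈ J then (if IsConj j ⟨x, hx⟩ then 1 else 0) else 0, fun x => ?_⟩
    by_cases hx : x ∈ J
    · simp only [dif_pos hx]
      refine (hval ⟨x, hx⟩).trans ?_
      simp [Nat.cast_ite]
    · simp only [dif_neg hx]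
      rw [ha, fn_emb_not_mem J _ hx, Nat.cast_zero]
  have hsum : ∀ f : G → ℂ, chiEval f a = chiEval (fun x : J => f x) (cls ℂ j) := fun f => by
    simp only [chiEval]
    symm
    rw [← Finset.sum_subset (Finset.subset_univ ((Finset.univ : Finset J).map
      ⟨Subtype.val, Subtype.val_injective⟩)) fun g _ hg => ?_]
    · rw [Finset.sum_map]
      exact Finset.sum_congr rfl fun x _ => by simp [ha, fn_emb_coe]
    · rw [ha, fn_emb_not_mem J _ (fun hx => hg (by simp [hx])), zero_mul]
  have h3 := h a h1 h2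
  have e1 : omega (ξ : J → ℂ) (cls ℂ j) = omega (χ : G → ℂ) a := by
    rw [omega, omega, hsum, hξ 1, OneMemClass.coe_one,
      show (ξ : J → ℂ) = fun x : J => (χ : G → ℂ) x from funext hξ]
  have e2 : omega (principalChar J : J → ℂ) (cls ℂ j) = aug a := by
    have h := hsum fun _ => 1
    rw [show aug a = chiEval (fun _ : G => (1 : ℂ)) a by simp [aug, chiEval], h, omega]
    simp [principalChar]
  rw [e1, e2, h3]

theorem AugLike.mem_principalBlock (hM : IsPModular p M) {χ : IrrCharacter G}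
    (h : AugLike M N (χ : G → ℂ)) : χ ∈ principalBlock M G := by
  classical
  show SameBlock M (principalChar G : G → ℂ) (χ : G → ℂ)
  rw [sameBlock_iff_res hM]
  intro j
  rw [← omega_cls_irr, ← omega_cls_irr, h (cls ℂ j) (fun m _ x => isCentralFn_cls j x m)
    ⟨fun x => if IsConj j x then 1 else 0, fun x => by rw [fn_cls]; simp [Nat.cast_ite]⟩]
  simp [omega, chiEval, aug, principalChar]

end Apply

end Cfsg.Lib.Blocks
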