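import Mathlib
import Cfsg.Agent.Blocks.CosetCentral
import Cfsg.Agent.Blocks.Covering
import Cfsg.Agent.Blocks.Transport

/-!
# Invariance and extendibility in the principal block of a normal subgroup
-/

set_option autoImplicit false
set_option linter.unusedSectionVars false

namespace Cfsg.Lib.Blocks

open Cfsg Cfsg.Lib.Chars

universe u

variable {G : Type u} [Group G] [Fintype G] {M : Ideal AlgInt} {p : ℕ}

theorem goodCosets_of_supplement [Fact p.Prime] (N : Subgroup G) [N.Normal] (Q : Subgroup G)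
    (hQ : Q ≤ N) (hidx : ¬ p ∣ (Q.subgroupOf N).index)
    (hsup : N ⊔ Subgroup.centralizer (Q : Set G) = ⊤) : GoodCosets p N := by
  classical
  intro g
  have hg : g ∈ ((Subgroup.centralizer (Q : Set G) ⊔ N : Subgroup G) : Set G) := by
    rw [sup_comm, hsup]; exact Subgroup.mem_top g
  rw [Subgroup.mul_normal] at hg
  obtain ⟨c, hc, n, hn, rfl⟩ := hg
  refine ⟨n⁻¹, N.inv_mem hn, fun h => hidx ?_⟩
  rw [mul_inv_cancel_right] at h
  let f : MulAction N G := MulAction.compHom G (ConjAct.toConjAct.toMonoidHom.comp N.subtype)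
  have horb : MulAction.orbit N c = {x : G | ∃ m ∈ N, m * c * m⁻¹ = x} := by
    ext x
    constructor
    · rintro ⟨m, rfl⟩
      exact ⟨m, m.2, (ConjAct.toConjAct_smul _ _).symm⟩
    · rintro ⟨m, hm, rfl⟩
      exact ⟨⟨m, hm⟩, ConjAct.toConjAct_smul _ _⟩
  have hle : Q.subgroupOf N ≤ MulAction.stabilizer N c := by
    intro m hm
    show ConjAct.toConjAct (m : G) • c = c
    have h0 : (m : G) * c = c * (m : G) := Subgroup.mem_centralizer_iff.1 hc _ hm
    rw [ConjAct.toConjAct_smul, h0, mul_inv_cancel_right]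
  refine dvd_trans ?_ (Subgroup.index_dvd_of_le hle)
  rw [MulAction.index_stabilizer]
  rw [horb, Set.ncard]
  rw [Set.encard, ENat.card_eq_coe_natCard, ENat.toNat_coe]
  exact h

variable {N : Subgroup G} [N.Normal] [Fintype N] {θ : IrrCharacter N}

theorem conjN_eq_self_of_goodCosets (hM : IsPModular p M) (hθ : θ ∈ principalBlock M N)
    (hgood : GoodCosets p N) (g : G) : conjN N g (θ : N → ℂ) = θ := by
  classical
  obtain ⟨y, hy, hy', hys, hy0⟩ := hgood.exists_elem hM g
  obtain ⟨z, hz, hz', hzs, hz0⟩ := hgood.exists_elem hM g⁻¹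
  have hzy : SuppCoset N 1 (z * y) := by simpa using hzs.mul hys
  obtain ⟨d, ρ, hirr, hρ⟩ := θ.2
  set w1 := resElem N (z * MonoidAlgebra.single g (1 : ℂ)) with hw1
  set u := resElem N (MonoidAlgebra.single g⁻¹ (1 : ℂ) * y) with hu
  have hsu : ∀ x : G, fn (MonoidAlgebra.single g⁻¹ (1 : ℂ) * y) x ≠ 0 → x ∈ N := fun x hx => by
    rw [fn_single_mul, one_mul, inv_inv] at hx
    simpa using hys _ hx
  have hprod : resElem N (z * y) = w1 * u := by
    refine fn_ext fun n => ?_
    rw [fn_resElem, fn_mul', fn_mul']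
    have hfull : z * y = (z * MonoidAlgebra.single g (1 : ℂ)) * (MonoidAlgebra.single g⁻¹ 1 * y) := by
      rw [mul_assoc, ← mul_assoc (MonoidAlgebra.single g (1 : ℂ)), MonoidAlgebra.single_mul_single,
        mul_inv_cancel, mul_one, ← MonoidAlgebra.one_def, one_mul]
    have h2 : fn (z * y) (n : G) = ∑ x : G, fn (z * MonoidAlgebra.single g (1 : ℂ)) ((n : G) * x⁻¹)
        * fn (MonoidAlgebra.single g⁻¹ 1 * y) x := by
      rw [hfull, fn_mul']
    rw [← fn_mul', h2]
    symm
    refine Finset.sum_bij_ne_zero (fun m _ _ => (m : G)) (fun _ _ _ => Finset.mem_univ _)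
      (fun a _ _ b _ _ h => Subtype.ext h) (fun x _ hx => ?_) (fun m _ _ => ?_)
    · refine ⟨⟨x, hsu x (right_ne_zero_of_mul hx)⟩, Finset.mem_univ _, ?_, rfl⟩
      rw [hw1, hu, fn_resElem, fn_resElem]
      exact hx
    · rw [hw1, hu, fn_resElem, fn_resElem]
      rfl
  have hcomm : ∀ (m : N) (m' : N), (m' : G) = g⁻¹ * m * g →
      u * MonoidAlgebra.single m (1 : ℂ) = MonoidAlgebra.single m' 1 * u := by
    intro m m' hm'
    refine fn_ext fun x => ?_
    rw [fn_mul_single, fn_single_mul, mul_one, one_mul, hu, fn_resElem, fn_resElem,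
      fn_single_mul, fn_single_mul, one_mul, one_mul]
    simp only [Subgroup.coe_mul, Subgroup.coe_inv, hm']
    rw [← hy (m : G)⁻¹ (N.inv_mem m.2) (g⁻¹⁻¹ * ((x : G) * (m : G)⁻¹))]
    congr 1
    group
  have hcz := isCentralFn_resElem_of_nInv (N := N) (hz.mul hy)
  obtain ⟨c, hc⟩ := schur_scalar ρ (ρ.asAlgebraHom (resElem N (z * y))) fun n v => by
    have := congrArg (fun a => ρ.asAlgebraHom a v) (hcz.single_comm n)
    simp only [map_mul, Module.End.mul_apply, Representation.asAlgebraHom_single_one] at this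
    exact this.symm
  have hd : (Module.finrank ℂ (Fin d → ℂ) : ℂ) ≠ 0 := by
    exact_mod_cast (finrank_pos_of_irreducible ρ).ne'
  have hω : omega (θ : N → ℂ) (resElem N (z * y)) = c := by
    rw [omega, ← hρ, ← trace_asAlgebraHom, hc, map_smul, LinearMap.trace_id, smul_eq_mul,
      Representation.char_one, mul_div_assoc, div_self hd, mul_one]
  have hc0 : c ≠ 0 := by
    intro h0
    have hsame : SameBlock M (principalChar N : N → ℂ) (θ : N → ℂ) := hθ
    have h := res_omega_eq_of_sameBlock hM hsame hcz ((hz'.mul hy').integral.resElem N)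
    rw [hω, h0] at h
    have haug : omega (principalChar N : N → ℂ) (resElem N (z * y)) = aug (z * y) := by
      have h' := chiEval_of_suppCoset_one (N := N) (fun _ : G => (1 : ℂ)) hzy
      show chiEval (fun _ : N => (1 : ℂ)) (resElem N (z * y)) / 1 = _
      rw [← h']
      simp [aug, chiEval]
    rw [haug, aug_mul, res_mul hz'.aug_mem hy'.aug_mem, ← Nat.cast_zero (R := ℂ), res_natCast,
      Nat.cast_zero] at h
    exact mul_ne_zero hz0 hy0 h
  set B := ρ.asAlgebraHom u with hB
  have hBinj : Function.Injective B := by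
    intro v v' h
    have h' := congrArg (ρ.asAlgebraHom w1) h
    rw [hB, ← Module.End.mul_apply, ← Module.End.mul_apply, ← map_mul, ← hprod, hc] at h'
    exact smul_right_injective _ hc0 (by simpa using h')
  let e : (Fin d → ℂ) ≃ₗ[ℂ] (Fin d → ℂ) :=
    LinearEquiv.ofBijective B ⟨hBinj, LinearMap.injective_iff_surjective.1 hBinj⟩
  -- the intertwiner identifies the traces
  have key : ∀ (m m' : N), (m' : G) = g⁻¹ * m * g →
      (θ : N → ℂ) m = (θ : N → ℂ) m' := fun m m' hm' => by
    have h := congrArg ρ.asAlgebraHom (hcomm m m' hm')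
    rw [map_mul, map_mul, Representation.asAlgebraHom_single_one,
      Representation.asAlgebraHom_single_one] at h
    have hconj : ρ m' = e.conj (ρ m) := by
      refine LinearMap.ext fun v => ?_
      obtain ⟨w, rfl⟩ := e.surjective v
      rw [LinearEquiv.conj_apply_apply, LinearEquiv.symm_apply_apply]
      exact (LinearMap.congr_fun h w).symm
    rw [← hρ, Representation.character, Representation.character, hconj, LinearMap.trace_conj']
  funext n
  have hn' : g⁻¹ * (n : G) * g ∈ N := by
    simpa using ‹N.Normal›.conj_mem (n : G) n.2 g⁻¹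
  have hn : g * (n : G) * g⁻¹ ∈ N := ‹N.Normal›.conj_mem (n : G) n.2 g
  rw [conjN_eq_comp]
  refine key (MulAut.conjNormal g n) n ?_
  rw [MulAut.conjNormal_apply]
  group

/-- A power of `p` is a splitting exponent. -/
theorem exists_ppow_hasSplit (hM : IsPModular p M) (hθ : θ ∈ principalBlock M N)
    (hgood : GoodCosets p N) {d : ℕ} (ρ : Representation ℂ N (Fin d → ℂ)) [hirr : ρ.IsIrreducible]
    (hρ : ρ.character = (θ : N → ℂ)) : ∃ k : ℕ, HasSplit N ρ ((p ^ k : ℕ) : ℤ) := by
  classical
  have hinv := conjN_eq_self_of_goodCosets hM hθ hgood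
  have hinvρ : ∀ g : G, conjN N g ρ.character = ρ.character := fun g => by rw [hρ]; exact hinv g
  let E := twGroup N ρ
  have := Fintype.ofFinite E
  let I : Subgroup E := (twIncl N ρ).range
  have : I.Normal := ⟨by
    rintro _ ⟨n, rfl⟩ e
    exact ⟨_, (twIncl_conj N ρ e n).symm⟩⟩
  have := Fintype.ofFinite I
  have hinclinj : Function.Injective (twIncl N ρ) := fun a b h =>
    Subtype.ext (by rw [← twProj_twIncl N ρ a, h, twProj_twIncl])
  let φ : I ≃* N := (MonoidHom.ofInjective hinclinj).symm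
  have hφ : ∀ x : I, twIncl N ρ (φ x) = (x : E) := fun x => by
    rw [← MonoidHom.ofInjective_apply (hf := hinclinj), MulEquiv.apply_symm_apply]
  let θ' : IrrCharacter I := irrEquiv φ θ
  have hθ' : θ' ∈ principalBlock M I := by
    have h : SameBlock M (principalChar N : N → ℂ) (θ : N → ℂ) := hθ
    exact (sameBlock_irrEquiv φ (principalChar N) θ).2 h
  let R : Representation ℂ E (Fin d → ℂ) := twNat N ρ
  let R0 : Representation ℂ I (Fin d → ℂ) := ρ.comp φ.toMonoidHom
  have : R0.IsIrreducible := by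
    let e : Subrepresentation R0 ≃o Subrepresentation ρ :=
      { toFun := fun S => ⟨S.toSubmodule, fun n v hv => by
          have := S.apply_mem_toSubmodule (φ.symm n) hv
          simpa [R0] using this⟩
        invFun := fun S => ⟨S.toSubmodule, fun n v hv => S.apply_mem_toSubmodule _ hv⟩
        left_inv := fun S => rfl
        right_inv := fun S => rfl
        map_rel_iff' := Iff.rfl }
    exact (OrderIso.isSimpleOrder_iff e).mpr hirr
  have hR0 : ∀ x : I, R (x : E) = R0 x := fun x => by
    show twNat N ρ (x : E) = ρ (φ x)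
    rw [← hφ x, twNat_twIncl]
  obtain ⟨hψirr, hψres⟩ := exists_irr_ext_of_rep I R0 R hR0
  let ψ : IrrCharacter E := ⟨R.character, hψirr⟩
  have hres' : ∀ x : I, (ψ : E → ℂ) x = (θ' : I → ℂ) x := fun x => by
    rw [irrEquiv_apply, ← hρ]
    exact hψres x
  have hgood' : GoodCosets p I := by
    intro e
    obtain ⟨n, hn, hcard⟩ := hgood (twProj N ρ e)
    refine ⟨twIncl N ρ ⟨n, hn⟩, ⟨_, rfl⟩, fun hdiv => hcard ?_⟩
    have hbij : {x : E // ∃ m ∈ I, m * (e * twIncl N ρ ⟨n, hn⟩) * m⁻¹ = x} ≃
        {x : G // ∃ m ∈ N, m * (twProj N ρ e * n) * m⁻¹ = x} := by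
      refine Equiv.ofBijective (fun x => ⟨twProj N ρ x.1, ?_⟩) ⟨?_, ?_⟩
      · obtain ⟨m, ⟨k, rfl⟩, hx⟩ := x.2
        refine ⟨k, k.2, ?_⟩
        rw [← hx]
        simp [twProj_twIncl]
      · rintro ⟨x, hx⟩ ⟨x', hx'⟩ h
        apply Subtype.ext
        obtain ⟨m, ⟨k, rfl⟩, rfl⟩ := hx
        obtain ⟨m', ⟨k', rfl⟩, rfl⟩ := hx'
        simp only [Subtype.mk.injEq, map_mul, map_inv, twProj_twIncl] at h
        have hmove : ∀ k : N, twIncl N ρ k * (e * twIncl N ρ ⟨n, hn⟩) * (twIncl N ρ k)⁻¹ =
            twIncl N ρ (k * ⟨twProj N ρ e * n * (k : G)⁻¹ * (twProj N ρ e)⁻¹, by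
              have := ‹N.Normal›.conj_mem _ (N.mul_mem hn (N.inv_mem k.2)) (twProj N ρ e)
              simpa [mul_assoc] using this⟩) * e := fun k => by
          rw [map_mul, ← map_inv]
          have hc := twIncl_conj N ρ e (⟨n, hn⟩ * k⁻¹)
          rw [map_mul] at hc
          simp only [Subgroup.coe_mul, Subgroup.coe_inv] at hc
          simp only [mul_assoc] at hc ⊢
          rw [← hc]
          group
        show twIncl N ρ k * (e * twIncl N ρ ⟨n, hn⟩) * (twIncl N ρ k)⁻¹ =
          twIncl N ρ k' * (e * twIncl N ρ ⟨n, hn⟩) * (twIncl N ρ k')⁻¹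
        rw [hmove, hmove]
        congr 2
        apply Subtype.ext
        simp only [Subgroup.coe_mul]
        simp only [← mul_assoc] at h ⊢
        rw [h]
      · rintro ⟨x, m, hm, rfl⟩
        exact ⟨⟨_, twIncl N ρ ⟨m, hm⟩, ⟨_, rfl⟩, rfl⟩, Subtype.ext (by simp [twProj_twIncl])⟩
    rwa [← Nat.card_congr hbij]
  obtain ⟨χ, r, hrI, hχr, hχres, hlike⟩ := exists_augLike_twist hM hres' hθ' hgood'
  have hrincl : ∀ n : N, r (twIncl N ρ n) = 1 := fun n => hrI _ ⟨n, rfl⟩
  set P := p ^ (Nat.card E).factorization p with hP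
  have hker : ∀ z : (twProj N ρ).ker, ((r z * twScalar N ρ z : ℂˣ) : ℂ) ^ P = 1 := by
    intro z
    have hz : twProj N ρ (z : E) = 1 := z.2
    have hzc : ∀ m ∈ I, m * (z : E) * m⁻¹ = z := by
      rintro _ ⟨n, rfl⟩
      have h := twIncl_conj N ρ (z : E) n
      simp only [hz, one_mul, inv_one, mul_one] at h
      rw [Subtype.coe_eta, mul_inv_eq_iff_eq_mul] at h
      rw [mul_inv_eq_iff_eq_mul]
      exact h.symm
    have h1 : NInv I (MonoidAlgebra.single (z : E) (1 : ℂ)) := fun m hm g => by
      classical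
      rw [fn_single, fn_single]
      congr 1
      apply propext
      constructor
      · intro h
        rw [← hzc m hm] at h
        simpa using h
      · rintro rfl
        exact (hzc m hm).symm
    have h2 := hlike _ h1 (natCoeff_single (z : E))
    have h3 : omega (χ : E → ℂ) (MonoidAlgebra.single (z : E) (1 : ℂ)) =
        ((r z * twScalar N ρ z : ℂˣ) : ℂ) := by
      classical
      have hval : (χ : E → ℂ) z = ((r z * twScalar N ρ z : ℂˣ) : ℂ) * (θ' : I → ℂ) 1 := by
        rw [hχr, ← hres' 1]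
        show _ * LinearMap.trace ℂ _ (twNat N ρ z) = _ * LinearMap.trace ℂ _ (twNat N ρ _)
        rw [twScalar_spec N ρ z, map_smul, OneMemClass.coe_one, MonoidHom.map_one (twNat N ρ),
          smul_eq_mul, Units.val_mul, mul_assoc]
      rw [omega, chiEval_single, one_mul, hval, ← hχres 1, OneMemClass.coe_one,
        mul_div_assoc, div_self (IsIrrCharacter.apply_one_ne_zero χ.2), mul_one]
    have h4 : aug (MonoidAlgebra.single (z : E) (1 : ℂ)) = 1 := by
      classical
      simp [aug, fn_single]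
    rw [h3, h4] at h2
    set a : ℂ := ((r z * twScalar N ρ z : ℂˣ) : ℂ) with ha
    have hcardE : a ^ Nat.card E = 1 := by
      have e1 : (r (z : E)) ^ Nat.card E = 1 := by rw [← map_pow, pow_card_eq_one', map_one]
      have e2 : (twScalar N ρ z) ^ Nat.card E = 1 := by
        rw [← map_pow, show z ^ Nat.card E = 1 from Subtype.ext (by
          rw [SubgroupClass.coe_pow, pow_card_eq_one', OneMemClass.coe_one]), map_one]
      rw [ha, ← Units.val_pow_eq_pow_val, mul_pow, e1, e2, one_mul, Units.val_one]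
    have hm0 : Nat.card E ≠ 0 := Nat.card_pos.ne'
    have hpl := (isUnitAt_of_pow_eq_one hM hm0 hcardE).mem_place
    refine eq_one_of_small_sub_one hM (Nat.not_dvd_ordCompl hM.1 hm0) (z := a ^ P) ?_ ?_
    · rw [← pow_mul, hP, Nat.ordProj_mul_ordCompl_eq_self, hcardE]
    · rw [← res_eq_iff (pow_mem hpl _) (one_mem _)]
      have hpow : ∀ k : ℕ, res M (a ^ k) = res M (1 : ℂ) := by
        intro k
        induction k with
        | zero => rw [pow_zero]
        | succ k ih =>
          rw [pow_succ, res_mul (pow_mem hpl _) hpl, ih, h2, ← res_mul (one_mem _) (one_mem _),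
            one_mul]
      exact hpow P
  have hsplitP : HasSplit N ρ (P : ℤ) := by
    refine ⟨(r ^ P)⁻¹, fun n => by simp [hrincl n], fun z => ?_⟩
    have h := hker z
    rw [← Units.val_pow_eq_pow_val, Units.val_eq_one, mul_pow] at h
    rw [MonoidHom.inv_apply, MonoidHom.pow_apply, zpow_natCast]
    exact inv_eq_of_mul_eq_one_right h
  exact ⟨_, hsplitP⟩

/-- Coprime-index extendibility of invariant characters in the principal block. -/
theorem exists_extension_of_goodCosets (hM : IsPModular p M) (hθ : θ ∈ principalBlock M N)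
    (hgood : GoodCosets p N) (hidx : ¬ p ∣ N.index) :
    ∃ ψ : IrrCharacter G, ∀ n : N, (ψ : G → ℂ) n = (θ : N → ℂ) n := by
  classical
  have hinv := conjN_eq_self_of_goodCosets hM hθ hgood
  obtain ⟨d, ρ, hirr, hρ⟩ := θ.2
  have hinvρ : ∀ g : G, conjN N g ρ.character = ρ.character := fun g => by rw [hρ]; exact hinv g
  obtain ⟨k, hsplitP⟩ := exists_ppow_hasSplit hM hθ hgood ρ hρ
  set P := p ^ k with hP
  have hcop : Nat.gcd N.index P = 1 :=
    (Nat.Coprime.pow_right _ ((hM.1.coprime_iff_not_dvd.2 hidx).symm))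
  have hsplit : HasSplit N ρ 1 := by
    have h := (splitExponents N ρ).add_mem
      ((splitExponents N ρ).zsmul_mem (hasSplit_index N ρ hinvρ) (Nat.gcdA N.index P))
      ((splitExponents N ρ).zsmul_mem hsplitP (Nat.gcdB N.index P))
    have hb := Nat.gcd_eq_gcd_ab N.index P
    rw [hcop] at hb
    rw [smul_eq_mul, smul_eq_mul, mul_comm _ (N.index : ℤ), mul_comm _ (P : ℤ), ← hb,
      Nat.cast_one] at h
    exact h
  obtain ⟨S, hS⟩ := exists_extension_of_hasSplit N ρ hinvρ hsplit
  obtain ⟨hη, hηN⟩ := exists_irr_ext_of_rep N ρ S hS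
  exact ⟨⟨S.character, hη⟩, fun n => by rw [← hρ]; exact hηN n⟩

/-- A character agreeing with the augmentation restricts irreducibly into the principal blocks. -/
theorem AugLike.exists_restrict (hM : IsPModular p M) {χ : IrrCharacter G}
    (h : AugLike M N (χ : G → ℂ)) (hres : ∀ n : N, (χ : G → ℂ) n = (θ : N → ℂ) n)
    {J : Subgroup G} (hJ : N ≤ J) :
    ∃ ξ : IrrCharacter J, ξ ∈ principalBlock M J ∧ ∀ y : J, (ξ : J → ℂ) y = (χ : G → ℂ) y := by
  classical
  obtain ⟨d, ρ, hirr, hρ⟩ := θ.2
  obtain ⟨R, hR, hRχ⟩ := exists_rep_extending N ρ N.subtype (isCharacter_of_irr χ.2)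
    fun n => by rw [hρ]; exact hres n
  let RJ : Representation ℂ J (Fin d → ℂ) := R.comp J.subtype
  have : RJ.IsIrreducible := by
    have := nontrivial_of_irreducible ρ
    have : Nontrivial (Subrepresentation RJ) := by
      refine ⟨⊥, ⊤, fun h' => ?_⟩
      exact bot_ne_top (α := Submodule ℂ (Fin d → ℂ)) (congrArg Subrepresentation.toSubmodule h')
    refine ⟨fun S => ?_⟩
    let S' : Subrepresentation ρ := ⟨S.toSubmodule, fun n v hv => by
      have := S.apply_mem_toSubmodule ⟨(n : G), hJ n.2⟩ hv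
      rwa [← hR n]⟩
    rcases IsSimpleOrder.eq_bot_or_eq_top S' with h' | h'
    · refine Or.inl (Subrepresentation.toSubmodule_injective ?_)
      have h2 := congrArg Subrepresentation.toSubmodule h'
      exact h2
    · refine Or.inr (Subrepresentation.toSubmodule_injective ?_)
      have h2 := congrArg Subrepresentation.toSubmodule h'
      exact h2
  have hc : ∀ y : J, RJ.character y = (χ : G → ℂ) y := fun y => by
    rw [← hRχ]; rfl
  have : Fintype J := Fintype.ofFinite J
  exact ⟨⟨RJ.character, isIrrCharacter_character RJ⟩, h.restrict hM hJ _ hc, hc⟩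

end Cfsg.Lib.Blocks
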