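import Mathlib
import Cfsg.Agent.Blocks.CosetExtension
import Cfsg.Agent.Blocks.RegularCongr
import Cfsg.Agent.Chars.Gallagher
import Cfsg.Agent.Chars.FixedField

/-!
# Principal block extensions with determinantal order prime to `p`, and rationality
-/

set_option autoImplicit false
set_option linter.unusedSectionVars false

namespace Cfsg.Lib.Blocks

open Cfsg Cfsg.Lib.Chars

universe u

variable {H : Type u} [Group H] [Fintype H] {M : Ideal AlgInt} {p : ℕ}

/-- Field automorphisms commute with determinants. -/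
theorem detChar_map_auto {χ : H → ℂ} (hχ : IsCharacter H χ) (σ : ℂ ≃+* ℂ) :
    detChar (fun g => σ (χ g)) = fun g => σ (detChar χ g) := by
  obtain ⟨n, ρ, rfl⟩ := hχ
  let T : H →* Matrix (Fin n) (Fin n) ℂ :=
    (σ.toRingHom.mapMatrix.toMonoidHom).comp
      ((LinearMap.toMatrixAlgEquiv' (R := ℂ) (n := Fin n)).toAlgHom.toMonoidHom.comp ρ)
  let ρ' : Representation ℂ H (Fin n → ℂ) :=
    ((Matrix.toLinAlgEquiv' (R := ℂ) (n := Fin n)).toAlgHom.toMonoidHom).comp T
  have h2 : ∀ g, LinearMap.toMatrix' (ρ' g) = (LinearMap.toMatrix' (ρ g)).map σ := fun g => by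
    show LinearMap.toMatrix' (Matrix.toLinAlgEquiv' ((LinearMap.toMatrix' (ρ g)).map σ)) = _
    exact LinearMap.toMatrix'_toLin' _
  have h1 : (fun g => σ (ρ.character g)) = ρ'.character := funext fun g => by
    have ht : ∀ S : (Fin n → ℂ) →ₗ[ℂ] (Fin n → ℂ),
        LinearMap.trace ℂ _ S = (LinearMap.toMatrix' S).trace := fun S => by
      rw [LinearMap.trace_eq_matrix_trace ℂ (Pi.basisFun ℂ (Fin n))]
      rw [LinearMap.toMatrix_eq_toMatrix']
    show σ (LinearMap.trace ℂ _ (ρ g)) = LinearMap.trace ℂ _ (ρ' g)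
    rw [ht, ht, h2]
    simp [Matrix.trace, map_sum]
  rw [h1]
  funext g
  rw [detChar_character ρ' g, detChar_character ρ g, ← LinearMap.det_toMatrix',
    ← LinearMap.det_toMatrix', h2]
  exact (σ.toRingHom.map_det _).symm

theorem detOrder_map_auto' {χ : H → ℂ} (hχ : IsCharacter H χ) (σ : ℂ ≃+* ℂ) :
    detOrder (fun g => σ (χ g)) = detOrder χ := by
  rw [detOrder, detOrder, detChar_map_auto hχ σ]
  exact orderOf_injective (σ.toRingHom.toMonoidHom.compLeft H)
    (fun a b hab => funext fun g => σ.injective (congrFun hab g)) _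

theorem detOrder_comp_mulEquiv {χ : H → ℂ} (hχ : IsCharacter H χ) (e : H ≃* H) :
    detOrder (fun g => χ (e g)) = detOrder χ := by
  obtain ⟨n, ρ, rfl⟩ := hχ
  have h : detChar (fun g => ρ.character (e g)) = fun g => detChar ρ.character (e g) := funext fun g => by
    let ρ' : Representation ℂ H (Fin n → ℂ) := ρ.comp e.toMonoidHom
    show detChar ρ'.character g = _
    rw [detChar_character ρ' g, detChar_character ρ (e g)]
    rfl
  rw [detOrder, detOrder, h]
  exact orderOf_injective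
    ({ toFun := fun f g => f (e g), map_one' := rfl, map_mul' := fun _ _ => rfl } : (H → ℂ) →* (H → ℂ))
    (fun a b hab => funext fun g => by simpa using congrFun hab (e.symm g)) _

/-- A character congruent to a given one has congruent central character when the degree is prime
to `p`. -/
theorem res_omega_eq_of_res_values (hM : IsPModular p M) {χ χ' : IrrCharacter H} {d : ℕ}
    (hd : ¬ p ∣ d) (h1 : (χ : H → ℂ) 1 = d) (h1' : (χ' : H → ℂ) 1 = d)
    (h : ∀ g, res M ((χ : H → ℂ) g) = res M ((χ' : H → ℂ) g)) {y : MonoidAlgebra ℂ H}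
    (hy : NatCoeff y) : res M (omega (χ : H → ℂ) y) = res M (omega (χ' : H → ℂ) y) := by
  have hu := (isUnitAt_natCast hM hd).inv.mem_place
  have hval : ∀ (φ : IrrCharacter H) (g : H), (φ : H → ℂ) g ∈ place M := fun φ g => by
    obtain ⟨n, ρ, hρi, hρ⟩ := φ.2
    rw [← hρ]
    exact isIntegral_mem_place hM (isIntegral_character ρ g)
  have hc : ∀ g, fn y g ∈ place M := hy.integral
  have hmul : ∀ φ : IrrCharacter H, ∀ g, fn y g * (φ : H → ℂ) g ∈ place M := fun φ g =>
    mul_mem (hc g) (hval φ g)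
  rw [omega, omega, h1, h1', div_eq_mul_inv, div_eq_mul_inv, chiEval, chiEval,
    res_mul (sum_mem fun g _ => hmul χ g) hu, res_mul (sum_mem fun g _ => hmul χ' g) hu,
    res_sum _ _ fun g _ => hmul χ g, res_sum _ _ fun g _ => hmul χ' g]
  congr 1
  exact Finset.sum_congr rfl fun g _ => by rw [res_mul (hc g) (hval χ g), res_mul (hc g) (hval χ' g), h g]

variable {N : Subgroup H} [N.Normal] [Fintype N] {θ : IrrCharacter N}

theorem exists_augLike_det [Fact p.Prime] (hM : IsPModular p M) (hθ : θ ∈ principalBlock M N)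
    (hgood : GoodCosets p N) {d : ℕ} (hd : (θ : N → ℂ) 1 = d) (hpd : ¬ p ∣ d)
    (ho : ¬ p ∣ detOrder (θ : N → ℂ)) :
    ∃ χ : IrrCharacter H, (∀ n : N, (χ : H → ℂ) n = (θ : N → ℂ) n) ∧ AugLike M N (χ : H → ℂ) ∧
      ¬ p ∣ detOrder (χ : H → ℂ) := by
  classical
  have hp : p.Prime := Fact.out
  obtain ⟨δN, hδN⟩ := detChar_is_hom (isCharacter_of_irr θ.2)
  have hoN : detOrder (θ : N → ℂ) = orderOf δN := by
    rw [detOrder, hδN]; exact orderOf_linear δN
  have hinv := conjN_eq_self_of_goodCosets hM hθ hgood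
  obtain ⟨ψ, hψ⟩ : ∃ ψ : IrrCharacter H, ∀ n : N, (ψ : H → ℂ) n = (θ : N → ℂ) n := by
    obtain ⟨m, ρ, hirr, hρ⟩ := θ.2
    have hinvρ : ∀ g : H, conjN N g ρ.character = ρ.character := fun g => by rw [hρ]; exact hinv g
    obtain ⟨k, hk⟩ := exists_ppow_hasSplit hM hθ hgood ρ hρ
    have hm : m = d := by
      have h := hd
      rw [← hρ, ρ.char_one, Module.finrank_fin_fun] at h
      exact_mod_cast h
    have hdet : ∀ n : N, LinearMap.det (ρ n) ^ orderOf δN = 1 := fun n => by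
      rw [← detChar_character ρ n, hρ, hδN, ← Units.val_pow_eq_pow_val, ← MonoidHom.pow_apply,
        pow_orderOf_eq_one, MonoidHom.one_apply, Units.val_one]
    have hD := hasSplit_detPow N ρ (orderOf δN) hdet
    rw [Module.finrank_fin_fun] at hD
    subst hm
    have hcop : Nat.gcd (p ^ k) (m * orderOf δN) = 1 := Nat.Coprime.pow_left k
      (Nat.Coprime.mul_right (hp.coprime_iff_not_dvd.2 hpd) (hp.coprime_iff_not_dvd.2 (hoN ▸ ho)))
    have hsplit : HasSplit N ρ 1 := by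
      have h := (splitExponents N ρ).add_mem
        ((splitExponents N ρ).zsmul_mem hk (Nat.gcdA (p ^ k) (m * orderOf δN)))
        ((splitExponents N ρ).zsmul_mem hD (Nat.gcdB (p ^ k) (m * orderOf δN)))
      have hb := Nat.gcd_eq_gcd_ab (p ^ k) (m * orderOf δN)
      rw [hcop] at hb
      rw [smul_eq_mul, smul_eq_mul, mul_comm _ ((p ^ k : ℕ) : ℤ),
        mul_comm _ ((m * orderOf δN : ℕ) : ℤ), ← hb, Nat.cast_one] at h
      exact h
    obtain ⟨S, hS⟩ := exists_extension_of_hasSplit N ρ hinvρ hsplit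
    obtain ⟨hη, hηN⟩ := exists_irr_ext_of_rep N ρ S hS
    exact ⟨⟨S.character, hη⟩, fun n => by rw [← hρ]; exact hηN n⟩
  obtain ⟨χ₀, -, -, -, hres, hlike⟩ := exists_augLike_twist hM hψ hθ hgood
  have hχ1 : (χ₀ : H → ℂ) 1 = d := by rw [← hd]; exact hres 1
  obtain ⟨δ, hδ⟩ := detChar_is_hom (isCharacter_of_irr χ₀.2)
  have hop : orderOf δ ≠ 0 :=
    (orderOf_pos_iff.mpr (isOfFinOrder_iff_pow_eq_one.mpr ⟨Nat.card H, Nat.card_pos, by
      ext g; rw [MonoidHom.pow_apply, ← map_pow, pow_card_eq_one', map_one, MonoidHom.one_apply]⟩)).ne'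
  obtain ⟨a, o', ho', hao⟩ := Nat.exists_eq_pow_mul_and_not_dvd hop p hp.ne_one
  obtain ⟨x, hx⟩ : ∃ x : ℕ, p ^ a ∣ o' * x * d + 1 := by
    have hcop : Nat.Coprime (o' * d) (p ^ a) := Nat.Coprime.pow_right a
      (Nat.Coprime.mul_left ((hp.coprime_iff_not_dvd.2 ho').symm) ((hp.coprime_iff_not_dvd.2 hpd).symm))
    rcases Nat.eq_zero_or_pos a with rfl | ha
    · exact ⟨0, by simp⟩
    obtain ⟨t, -, ht⟩ := Nat.exists_mul_mod_eq_one_of_coprime hcop
      (Nat.one_lt_pow ha.ne' hp.one_lt)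
    refine ⟨t * (p ^ a - 1), ?_⟩
    have hpos : 1 ≤ p ^ a := Nat.one_le_pow _ _ hp.pos
    have h1 : (o' * d * t : ℕ) ≡ 1 [MOD p ^ a] := by
      rw [Nat.ModEq, ht, Nat.one_mod_eq_one.2 (Nat.one_lt_pow ha.ne' hp.one_lt).ne']
    have h2 : o' * (t * (p ^ a - 1)) * d + 1 ≡ 1 * (p ^ a - 1) + 1 [MOD p ^ a] := by
      rw [show o' * (t * (p ^ a - 1)) * d = o' * d * t * (p ^ a - 1) by ring]
      exact Nat.ModEq.add_right 1 (Nat.ModEq.mul_right _ h1)
    rw [one_mul, Nat.sub_add_cancel hpos] at h2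
    exact (Nat.modEq_zero_iff_dvd).1 (h2.trans (Nat.modEq_zero_iff_dvd.2 dvd_rfl))
  set ν : H →* ℂˣ := δ ^ (o' * x) with hν
  have hδg : ∀ g, δ g ^ orderOf δ = 1 := fun g => by
    rw [← MonoidHom.pow_apply, pow_orderOf_eq_one, MonoidHom.one_apply]
  have hνp : ν ^ p ^ a = 1 := by
    ext1 g
    rw [MonoidHom.pow_apply, hν, MonoidHom.pow_apply, MonoidHom.one_apply, ← pow_mul,
      show o' * x * p ^ a = (p ^ a * o') * x by ring, ← hao, pow_mul, hδg, one_pow]
  have hδN' : ∀ n : N, δ n = δN n := fun n => by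
    apply Units.ext
    have h := detChar_restrict N (isCharacter_of_irr χ₀.2) hres n
    rw [hδ, hδN] at h
    exact h
  have hνN : ∀ n : N, ν n = 1 := fun n => by
    have h1 : ν n ^ p ^ a = 1 := by rw [← MonoidHom.pow_apply, hνp, MonoidHom.one_apply]
    have h2 : ν n ^ orderOf δN = 1 := by
      rw [hν, MonoidHom.pow_apply, hδN', ← pow_mul, mul_comm, pow_mul, ← MonoidHom.pow_apply δN,
        pow_orderOf_eq_one, MonoidHom.one_apply, one_pow]
    have h3 := (pow_gcd_eq_one (m := p ^ a) (n := orderOf δN)).mpr ⟨h1, h2⟩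
    rwa [(Nat.Coprime.pow_left a (hp.coprime_iff_not_dvd.2 (hoN ▸ ho))).gcd_eq_one, pow_one] at h3
  let χ : IrrCharacter H := ⟨(fun g => (ν g : ℂ)) * (χ₀ : H → ℂ), IsIrrCharacter.mul_linear χ₀.2 ν⟩
  have hχ : ∀ g, (χ : H → ℂ) g = (ν g : ℂ) * (χ₀ : H → ℂ) g := fun g => rfl
  refine ⟨χ, fun n => by rw [hχ, hνN, Units.val_one, one_mul, hres], fun y hy hy' => ?_, ?_⟩
  · rw [← hlike y hy hy']
    refine res_omega_eq_of_res_values hM hpd (by rw [hχ, map_one, Units.val_one, one_mul, hχ1]) hχ1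
      (fun g => ?_) hy'
    have hw : (ν g : ℂ) ^ p ^ a = 1 := by
      rw [← Units.val_pow_eq_pow_val, ← MonoidHom.pow_apply, hνp, MonoidHom.one_apply, Units.val_one]
    have hwm := (isUnitAt_of_pow_eq_one hM (pow_pos hp.pos a).ne' hw).mem_place
    obtain ⟨n, R, hRi, hR⟩ := χ₀.2
    have hv : (χ₀ : H → ℂ) g ∈ place M := by
      rw [← hR]; exact isIntegral_mem_place hM (isIntegral_character R g)
    rw [hχ, res_mul hwm hv, (res_eq_iff hwm (one_mem _)).2 (small_sub_one_of_ppow hM hw),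
      ← res_mul (one_mem _) hv, one_mul]
  · have h := detChar_linear_mul ν (isCharacter_of_irr χ₀.2) hχ1
    have hdet : detChar (χ : H → ℂ) = fun g => ((δ ^ (o' * x * d + 1) : H →* ℂˣ) g : ℂ) := by
      show detChar ((fun g => (ν g : ℂ)) * (χ₀ : H → ℂ)) = _
      rw [h, hδ]
      funext g
      rw [Pi.mul_apply, Pi.pow_apply, hν, ← Units.val_pow_eq_pow_val, ← Units.val_mul,
        MonoidHom.pow_apply, MonoidHom.pow_apply, ← pow_mul, pow_succ]
    rw [detOrder, hdet, orderOf_linear]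
    intro hdvd
    apply ho'
    refine hdvd.trans (orderOf_dvd_of_pow_eq_one ?_)
    obtain ⟨c, hc⟩ := hx
    ext1 g
    rw [MonoidHom.pow_apply, MonoidHom.pow_apply, MonoidHom.one_apply, hc, ← pow_mul,
      show p ^ a * c * o' = (p ^ a * o') * c by ring, ← hao, pow_mul, hδg, one_pow]

theorem eq_of_augLike_det [Fact p.Prime] (hM : IsPModular p M) (hgood : GoodCosets p N) {d : ℕ}
    (hd : (θ : N → ℂ) 1 = d) (hpd : ¬ p ∣ d) {χ χ' : IrrCharacter H}
    (h : ∀ n : N, (χ : H → ℂ) n = (θ : N → ℂ) n) (h' : ∀ n : N, (χ' : H → ℂ) n = (θ : N → ℂ) n)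
    (hl : AugLike M N (χ : H → ℂ)) (hl' : AugLike M N (χ' : H → ℂ))
    (ho : ¬ p ∣ detOrder (χ : H → ℂ)) (ho' : ¬ p ∣ detOrder (χ' : H → ℂ)) : χ' = χ := by
  classical
  have hp : p.Prime := Fact.out
  obtain ⟨f, hfN, hf⟩ := exists_linear_of_extensions N θ.2 χ.2 χ'.2 h h'
  have hconst : ∀ g x : H, g⁻¹ * x ∈ N → f x = f g := fun g x hx => by
    rw [show x = g * (g⁻¹ * x) by group, map_mul, hfN ⟨_, hx⟩, mul_one]
  have hm0 : Nat.card H ≠ 0 := Nat.card_pos.ne'
  have hfp : ∀ g, f g ^ (p ^ (Nat.card H).factorization p) = 1 := fun g => by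
    have hcard : (f g : ℂ) ^ Nat.card H = 1 := by
      rw [← Units.val_pow_eq_pow_val, ← map_pow, pow_card_eq_one', map_one, Units.val_one]
    have hpl := (isUnitAt_of_pow_eq_one hM hm0 hcard).mem_place
    obtain ⟨y, hy, hy', hys, hy0⟩ := hgood.exists_elem hM g
    have e1 : omega (χ' : H → ℂ) y = (f g : ℂ) * omega (χ : H → ℂ) y := by
      have h0 : (χ' : H → ℂ) 1 = (χ : H → ℂ) 1 := by
        rw [show (χ' : H → ℂ) 1 = (θ : N → ℂ) 1 from h' 1, show (χ : H → ℂ) 1 = (θ : N → ℂ) 1 from h 1]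
      rw [omega, omega, h0, ← mul_div_assoc, chiEval, chiEval, Finset.mul_sum]
      congr 1
      refine Finset.sum_congr rfl fun x _ => ?_
      by_cases hx : fn y x = 0
      · rw [hx, zero_mul, zero_mul, mul_zero]
      · rw [congrFun hf x, Pi.mul_apply, hconst g x (hys x hx)]; ring
    have e2 := congrArg (res M) e1
    rw [res_mul hpl (omega_nInv_mem_place hM h hy hy'), hl y hy hy', hl' y hy hy'] at e2
    have e3 : res M (f g : ℂ) = res M (1 : ℂ) := by
      rw [← Nat.cast_one (R := ℂ), res_natCast, Nat.cast_one]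
      exact mul_right_cancel₀ hy0 (by rw [one_mul]; exact e2.symm)
    apply Units.ext
    rw [Units.val_pow_eq_pow_val, Units.val_one]
    refine eq_one_of_small_sub_one hM (Nat.not_dvd_ordCompl hp hm0) ?_ ?_
    · rw [← pow_mul, Nat.ordProj_mul_ordCompl_eq_self, hcard]
    · rw [← res_eq_iff (pow_mem hpl _) (one_mem _)]
      generalize (Nat.card H).factorization p = v
      generalize p ^ v = w
      induction w with
      | zero => rw [pow_zero]
      | succ k ih => rw [pow_succ, res_mul (pow_mem hpl _) hpl, ih, e3, ← res_mul (one_mem _) (one_mem _),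
          one_mul]
  obtain ⟨δ, hδ⟩ := detChar_is_hom (isCharacter_of_irr χ.2)
  obtain ⟨δ', hδ'⟩ := detChar_is_hom (isCharacter_of_irr χ'.2)
  rw [detOrder, hδ, orderOf_linear] at ho
  rw [detOrder, hδ', orderOf_linear] at ho'
  have hdd := detChar_linear_mul f (isCharacter_of_irr χ.2)
    (show (χ : H → ℂ) 1 = (d : ℂ) by rw [← hd]; exact h 1)
  rw [← hf, hδ, hδ'] at hdd
  apply Subtype.ext
  rw [hf]
  funext g
  have hfd : f g ^ d * δ g = δ' g := by
    apply Units.ext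
    simpa using (congrFun hdd g).symm
  have h1 : f g ^ (d * (orderOf δ * orderOf δ')) = 1 := by
    rw [pow_mul, ← eq_mul_inv_iff_mul_eq.2 hfd |>.symm, mul_pow, inv_pow,
      pow_mul (δ g), mul_comm (orderOf δ), pow_mul (δ' g), ← MonoidHom.pow_apply δ',
      pow_orderOf_eq_one, MonoidHom.one_apply, one_pow, one_mul, inv_eq_one, ← pow_mul,
      mul_comm, pow_mul]
    rw [← pow_mul, mul_comm, pow_mul, ← MonoidHom.pow_apply δ (orderOf δ), pow_orderOf_eq_one,
      MonoidHom.one_apply, one_pow]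
  have h3 := (pow_gcd_eq_one (m := p ^ (Nat.card H).factorization p)
    (n := d * (orderOf δ * orderOf δ'))).mpr ⟨hfp g, h1⟩
  rw [(Nat.Coprime.pow_left _ (Nat.Coprime.mul_right (hp.coprime_iff_not_dvd.2 hpd)
    (Nat.Coprime.mul_right (hp.coprime_iff_not_dvd.2 ho) (hp.coprime_iff_not_dvd.2 ho')))).gcd_eq_one,
    pow_one] at h3
  rw [Pi.mul_apply, h3, Units.val_one, one_mul]

theorem AugLike.comp_mulEquiv {χ : IrrCharacter H} (h : AugLike M N (χ : H → ℂ)) (e : H ≃* H)
    (he : ∀ x, e x ∈ N ↔ x ∈ N) : AugLike M N (fun g => (χ : H → ℂ) (e g)) := by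
  intro y hy hy'
  set y' : MonoidAlgebra ℂ H := ofFn fun x => fn y (e.symm x) with hy2
  have h1 : NInv N y' := fun m hm g => by
    simp only [hy2, fn_ofFn, map_mul, map_inv]
    exact hy _ (by rw [← he]; simpa using hm) _
  have h2 : NatCoeff y' := by
    obtain ⟨b, hb⟩ := hy'
    exact ⟨fun x => b (e.symm x), fun x => by simp only [hy2, fn_ofFn, hb]⟩
  have e1 : omega (fun g => (χ : H → ℂ) (e g)) y = omega (χ : H → ℂ) y' := by
    simp only [omega, chiEval, map_one, hy2, fn_ofFn]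
    congr 1
    exact Fintype.sum_equiv e.toEquiv _ _ fun g => by simp
  have e2 : aug y = aug y' := by
    simp only [aug, hy2, fn_ofFn]
    exact Fintype.sum_equiv e.toEquiv _ _ fun g => by simp
  rw [e1, e2]
  exact h y' h1 h2

/-- `χ(g)` and `χ(g^k)` are congruent when `k` is one on roots of order prime to `p`. -/
theorem res_character_pow (hM : IsPModular p M) (χ : IrrCharacter H) {n a k : ℕ}
    (hn : Nat.card H ∣ p ^ a * n) (hk : k ≡ 1 [MOD n]) (hk0 : k ≠ 0) (g : H) :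
    res M ((χ : H → ℂ) (g ^ k)) = res M ((χ : H → ℂ) g) := by
  obtain ⟨ι, _, c, z, hz, hdec⟩ := IsCharacter.exists_cyclic_decomp (isCharacter_of_irr χ.2) g
  have hg1 := hdec 1
  rw [pow_one] at hg1
  rw [hdec k, hg1]
  have hzc : ∀ i, z i ^ Nat.card H = 1 := fun i => by
    obtain ⟨q, hq⟩ := orderOf_dvd_natCard g
    rw [hq, pow_mul, hz, one_pow]
  have hm0 : Nat.card H ≠ 0 := Nat.card_pos.ne'
  have hzp : ∀ i, z i ∈ place M := fun i => (isUnitAt_of_pow_eq_one hM hm0 (hzc i)).mem_place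
  have hcz : ∀ i j, (c i : ℂ) * z i ^ j ∈ place M := fun i j =>
    mul_mem (natCast_mem_place _) (pow_mem (hzp i) _)
  rw [res_sum _ _ fun i _ => hcz i k, res_sum _ _ fun i _ => hcz i 1]
  refine Finset.sum_congr rfl fun i _ => ?_
  rw [res_mul (natCast_mem_place _) (pow_mem (hzp i) _), res_mul (natCast_mem_place _) (pow_mem (hzp i) _)]
  congr 1
  obtain ⟨j, hj⟩ := Nat.exists_eq_add_one_of_ne_zero hk0
  subst hj
  have hnj : n ∣ j := by
    have := (Nat.modEq_iff_dvd' (show 1 ≤ j + 1 by omega)).1 hk.symm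
    simpa using this
  have hw : (z i ^ j) ^ p ^ a = 1 := by
    obtain ⟨q, hq⟩ := hnj
    obtain ⟨r, hr⟩ := hn
    rw [← pow_mul, hq, show n * q * p ^ a = (p ^ a * n) * q by ring, hr, pow_mul, pow_mul,
      hzc, one_pow, one_pow]
  rw [pow_succ, res_mul (pow_mem (hzp i) _) (hzp i), pow_one,
    (res_eq_iff (pow_mem (hzp i) _) (one_mem _)).2 (small_sub_one_of_ppow hM hw),
    ← res_mul (one_mem _) (hzp i), one_mul]

theorem AugLike.map_auto [Fact p.Prime] (hM : IsPModular p M) {χ : IrrCharacter H}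
    (h : AugLike M N (χ : H → ℂ)) {d : ℕ} (hd : (χ : H → ℂ) 1 = d) (hpd : ¬ p ∣ d)
    (σ : ℂ ≃+* ℂ) {m n a k : ℕ} (hm : Nat.card H ∣ m) (hσ : IsGalConj σ m k)
    (hn : Nat.card H ∣ p ^ a * n) (hk : k ≡ 1 [MOD n]) (hk0 : k ≠ 0) :
    AugLike M N (fun g => σ ((χ : H → ℂ) g)) := by
  intro y hy hy'
  rw [← h y hy hy']
  refine res_omega_eq_of_res_values hM hpd (χ := ⟨_, IsIrrCharacter.map_auto χ.2 σ⟩)
    (by show σ ((χ : H → ℂ) 1) = d; rw [hd, map_natCast]) hd (fun g => ?_) hy'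
  show res M (σ ((χ : H → ℂ) g)) = _
  rw [IsGalConj.apply_character hσ (isCharacter_of_irr χ.2) ((orderOf_dvd_natCard g).trans hm)]
  exact res_character_pow hM χ hn hk hk0 g

end Cfsg.Lib.Blocks
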