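import Mathlib
import Cfsg.Agent.Blocks.RationalExtension
import Cfsg.Agent.Chars.Constituent
import Cfsg.Agent.Chars.IrrTools

/-!
# A rational character over an invariant character of a normal subgroup of order prime to `p`
-/

set_option autoImplicit false
set_option linter.unusedSectionVars false

namespace Cfsg.Lib.Blocks

open Cfsg Cfsg.Lib.Chars

universe u

variable {H : Type u} [Group H] [Fintype H]

theorem IsCharacter.sum_finset {ι : Type*} (s : Finset ι) (f : ι → H → ℂ) (h : ∀ i ∈ s, Cfsg.IsCharacter H (f i)) :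
    Cfsg.IsCharacter H (∑ i ∈ s, f i) := Cfsg.Lib.Chars.IsCharacter.sum s f h

/-- A component of a sum of characters with full value is full. -/
theorem apply_eq_of_sum {ι : Type*} [DecidableEq ι] (s : Finset ι) (f : ι → H → ℂ) (h : ∀ i ∈ s, Cfsg.IsCharacter H (f i))
    (g : H) (hg : ∑ i ∈ s, f i g = ∑ i ∈ s, f i 1) : ∀ i ∈ s, f i g = f i 1 := by
  intro i hi
  refine IsCharacter.eq_apply_one_of_re_eq (h i hi) (le_antisymm (IsCharacter.re_le (h i hi) g) ?_)
  have h1 := congrArg Complex.re hg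
  rw [Complex.re_sum, Complex.re_sum, ← Finset.add_sum_erase _ _ hi, ← Finset.add_sum_erase _ _ hi] at h1
  have h2 : ∑ x ∈ s.erase i, (f x g).re ≤ ∑ x ∈ s.erase i, (f x 1).re :=
    Finset.sum_le_sum fun x hx => IsCharacter.re_le (h x (Finset.mem_of_mem_erase hx)) g
  linarith

/-- The canonical extensions, induced and summed over the orbits. -/
theorem exists_rational_over {p : ℕ} [hp : Fact p.Prime] (K : Subgroup H) [K.Normal] [Fintype K]
    (hK : ¬ p ∣ Nat.card K) {k : ℕ} (hidx : K.index = p ^ k) {X : K → ℂ} (hX : Cfsg.IsCharacter K X)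
    (hinv : ∀ g : H, conjN K g X = X) :
    ∃ Ψ : H → ℂ, Cfsg.IsCharacter H Ψ ∧ deg Ψ ≤ deg X ∧
      (∃ r : ℕ, 0 < r ∧ ¬ p ∣ r ∧
        ∀ g : H, Ψ g ∈ IntermediateField.adjoin ℚ ({Complex.exp (2 * Real.pi * Complex.I / r)} : Set ℂ)) ∧
      ∀ g : K, Ψ g = Ψ 1 → X g = X 1 := by
  classical
  obtain ⟨m, hm⟩ := IsCharacter.exists_decomp hX
  have hinner : ∀ θ : Cfsg.IrrCharacter K, Cfsg.classInner X (θ : K → ℂ) = m θ := fun θ => by
    rw [hm]
    simp only [← Nat.cast_smul_eq_nsmul ℂ]
    exact classInner_irrSum (fun ψ => (m ψ : ℂ)) θ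
  have hconj : ∀ (g : H) (θ : Cfsg.IrrCharacter K),
      m ⟨conjN K g (θ : K → ℂ), IsIrrCharacter.conjN θ.2 g⟩ = m θ := fun g θ => by
    apply Nat.cast_injective (R := ℂ)
    rw [← hinner, ← hinner]
    show Cfsg.classInner X (conjN K g (θ : K → ℂ)) = _
    conv_lhs => rw [← hinv g]
    exact classInner_conjN g X θ
  set S : Finset (Cfsg.IrrCharacter K) := Finset.univ.filter fun θ => m θ ≠ 0 with hS
  set O : Finset (Finset (K → ℂ)) := S.image fun θ : Cfsg.IrrCharacter K => conjOrbit K (θ : K → ℂ) with hO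
  have hrep : ∀ o : O, ∃ θ : Cfsg.IrrCharacter K, θ ∈ S ∧ conjOrbit K (θ : K → ℂ) = o := fun o => by
    obtain ⟨θ, hθ, h⟩ := Finset.mem_image.1 o.2
    exact ⟨θ, hθ, h⟩
  choose rep hrepS hrepo using hrep
  -- the extensions
  have hext : ∀ θ : Cfsg.IrrCharacter K, ∃ η : H → ℂ, Cfsg.IsCharacter H η ∧
      deg η = (conjOrbit K (θ : K → ℂ)).card * deg (θ : K → ℂ) ∧
      Cfsg.classInner (fun x : K => η x) (θ : K → ℂ) ≠ 0 ∧
      ∀ (σ : ℂ ≃+* ℂ), (∀ y ∈ cycField (Nat.card K), σ y = y) → ∀ g, σ (η g) = η g := by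
    intro θ
    set T := inertia K (θ : K → ℂ) with hT
    have hKT : K ≤ T := le_inertia (isClassFunction_irr θ)
    haveI : Fintype T := Fintype.ofFinite T
    haveI : Fintype (K.subgroupOf T) := Fintype.ofFinite _
    let e := Subgroup.subgroupOfEquivOfLe hKT
    set θ' : K.subgroupOf T → ℂ := fun x => (θ : K → ℂ) (e x) with hθ'
    have hθ'i : Cfsg.IsIrrCharacter (K.subgroupOf T) θ' := IsIrrCharacter.comp_mulEquiv θ.2 e
    have hθ'inv : ∀ g : T, conjN (K.subgroupOf T) g θ' = θ' := fun g => by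
      funext x
      exact congrFun (mem_inertia.1 g.2) (e x)
    have hcard : Nat.card (K.subgroupOf T) = Nat.card K := Nat.card_congr e.toEquiv
    have hdeg : θ' 1 = (deg (θ : K → ℂ) : ℂ) := by
      show (θ : K → ℂ) (e 1) = _
      rw [map_one, irr_apply_one_eq_deg]
    have hdet : Cfsg.detOrder θ' ∣ Nat.card K := by
      obtain ⟨f, hf⟩ := detChar_is_hom (isCharacter_of_irr hθ'i)
      rw [Cfsg.detOrder, hf, orderOf_linear, ← hcard]
      refine orderOf_dvd_of_pow_eq_one (MonoidHom.ext fun x => ?_)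
      rw [MonoidHom.pow_apply, ← map_pow, pow_card_eq_one', map_one, MonoidHom.one_apply]
    have hidxT : ∃ j, (K.subgroupOf T).index = p ^ j := by
      obtain ⟨j, -, hj⟩ := (Nat.dvd_prime_pow hp.out).1 (hidx ▸ (Subgroup.relIndex_dvd_index_of_normal K T))
      exact ⟨j, hj⟩
    obtain ⟨j, hj⟩ := hidxT
    have hcop : Nat.Coprime (K.subgroupOf T).index (Cfsg.detOrder θ' * deg (θ : K → ℂ)) := by
      rw [hj]
      refine Nat.Coprime.pow_left _ (hp.out.coprime_iff_not_dvd.2 fun h => hK ?_)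
      rcases hp.out.dvd_mul.1 h with h | h
      · exact h.trans hdet
      · exact h.trans (IsIrrCharacter.deg_dvd θ.2)
    obtain ⟨ψ, ⟨hψ, hψr, hψo⟩, huniq⟩ := exists_canonical_extension (K.subgroupOf T) hθ'i hθ'inv hdeg hcop
    refine ⟨Cfsg.indFun T ψ, IsCharacter.indFun (isCharacter_of_irr hψ), ?_, ?_, ?_⟩
    · apply Nat.cast_injective (R := ℂ)
      rw [← IsCharacter.apply_one_eq_deg (IsCharacter.indFun (isCharacter_of_irr hψ)), indFun_one, Nat.cast_mul]
      have h1 : ψ 1 = (deg (θ : K → ℂ) : ℂ) := (hψr 1).trans hdeg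
      have h2 := card_conjOrbit K (θ : K → ℂ)
      rw [← hT, ← T.index_mul_card] at h2
      rw [h1, Nat.eq_of_mul_eq_mul_right Nat.card_pos h2]
    · refine classInner_pullback_ne_zero (Subgroup.inclusion hKT)
        (IsCharacter.restrict (IsCharacter.indFun (isCharacter_of_irr hψ)) T) hψ ?_ θ.2 ?_
      · rw [← frobenius_reciprocity' T ψ (isClassFunction_indFun T ψ), classInner_self]
        intro h
        have h0 : Cfsg.classInner (Cfsg.indFun T ψ) (Cfsg.indFun T ψ) = 0 := by
          rw [classInner_self]; exact h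
        rw [classInner_self_eq_zero] at h0
        have := congrFun h0 1
        rw [indFun_one, Pi.zero_apply, mul_eq_zero, Nat.cast_eq_zero] at this
        exact this.elim T.index_ne_zero_of_finite (IsIrrCharacter.apply_one_ne_zero hψ)
      · have : (fun x : K => ψ (Subgroup.inclusion hKT x)) = (θ : K → ℂ) := funext fun x =>
          hψr ⟨⟨x, hKT x.2⟩, Subgroup.mem_subgroupOf.2 x.2⟩
        rw [this, classInner_irr_self]
        exact one_ne_zero
    · intro σ hσ g
      have hfix : (fun t => σ (ψ t)) = ψ := by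
        refine huniq _ (IsIrrCharacter.map_auto hψ σ) (fun n => ?_) ?_
        · show σ (ψ n) = θ' n
          rw [hψr n]
          haveI : NeZero (Nat.card K) := ⟨Nat.card_pos.ne'⟩
          exact hσ _ (IsCharacter.mem_cycField (isCharacter_of_irr θ.2) (orderOf_dvd_natCard (e n)))
        · rw [detOrder_map_auto' (isCharacter_of_irr hψ) σ, hψo]
          exact Nat.Coprime.coprime_dvd_right (dvd_mul_right _ _) hcop
      rw [indFun_apply, map_mul, map_inv₀, map_natCast, map_sum]
      congr 1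
      refine Finset.sum_congr rfl fun x _ => ?_
      by_cases hx : x⁻¹ * g * x ∈ T
      · rw [extendByZero_mem _ hx]; exact congrFun hfix _
      · rw [extendByZero_not_mem _ hx, map_zero]
  choose η hηc hηd hηi hησ using hext
  refine ⟨∑ o : O, η (rep o), IsCharacter.sum_finset _ _ fun o _ => hηc _, ?_, ?_, ?_⟩
  · have h1 : deg (∑ o : O, η (rep o)) = ∑ o : O, deg (η (rep o)) := by
      apply Nat.cast_injective (R := ℂ)
      rw [← IsCharacter.apply_one_eq_deg (IsCharacter.sum_finset _ _ fun o _ => hηc _), Finset.sum_apply,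
        Nat.cast_sum]
      exact Finset.sum_congr rfl fun o _ => IsCharacter.apply_one_eq_deg (hηc _)
    have h2 : deg X = ∑ θ : Cfsg.IrrCharacter K, m θ * deg (θ : K → ℂ) := by
      apply Nat.cast_injective (R := ℂ)
      rw [← IsCharacter.apply_one_eq_deg hX, congrFun hm 1]
      push_cast
      simp [Finset.sum_apply, irr_apply_one_eq_deg]
    have h3 : ∀ o : O, deg (η (rep o)) ≤
        ∑ θ ∈ S.filter (fun θ : Cfsg.IrrCharacter K => conjOrbit K (θ : K → ℂ) = o), deg (θ : K → ℂ) := by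
      intro o
      rw [hηd]
      have hsub : (conjOrbit K (rep o : K → ℂ)).card ≤
          (S.filter (fun θ : Cfsg.IrrCharacter K => conjOrbit K (θ : K → ℂ) = o)).card := by
        refine (Finset.card_le_card ?_).trans (Finset.card_image_le (f := fun θ : Cfsg.IrrCharacter K => (θ : K → ℂ)))
        intro φ hφ
        obtain ⟨g, rfl⟩ := (mem_conjOrbit K).1 hφ
        refine Finset.mem_image.2 ⟨⟨_, IsIrrCharacter.conjN (rep o).2 g⟩, ?_, rfl⟩
        have hs := hrepS o
        simp only [hS, Finset.mem_filter, Finset.mem_univ, true_and] at hs ⊢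
        refine ⟨by rw [hconj]; exact hs, (?_ : conjOrbit K (conjN K g (rep o : K → ℂ)) = _)⟩
        rw [← hrepo o]
        ext ψ
        simp only [mem_conjOrbit]
        constructor
        · rintro ⟨g', rfl⟩
          exact ⟨g * g', conjN_mul K g g' _⟩
        · rintro ⟨g', rfl⟩
          exact ⟨g⁻¹ * g', by rw [← conjN_mul, mul_inv_cancel_left]⟩
      refine le_trans (Nat.mul_le_mul_right _ hsub) ?_
      rw [← smul_eq_mul]
      refine Finset.card_nsmul_le_sum _ _ _ fun θ hθ => le_of_eq ?_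
      obtain ⟨-, ho⟩ := Finset.mem_filter.1 hθ
      have hmem : (θ : K → ℂ) ∈ conjOrbit K (rep o : K → ℂ) := by
        rw [hrepo, ← ho]
        exact (mem_conjOrbit K).2 ⟨1, conjN_one K _⟩
      obtain ⟨g, hg⟩ := (mem_conjOrbit K).1 hmem
      apply Nat.cast_injective (R := ℂ)
      rw [← irr_apply_one_eq_deg θ, ← irr_apply_one_eq_deg (rep o), ← hg]
      simp [conjN]; rfl
    rw [h1, h2]
    refine (Finset.sum_le_sum fun o _ => h3 o).trans ?_
    rw [Finset.univ_eq_attach, Finset.sum_attach O (fun o => ∑ θ ∈ S.filter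
      (fun θ : Cfsg.IrrCharacter K => conjOrbit K (θ : K → ℂ) = o), deg (θ : K → ℂ)),
      Finset.sum_fiberwise_of_maps_to (fun θ hθ => Finset.mem_image_of_mem _ hθ)]
    refine (Finset.sum_le_sum fun θ hθ => ?_).trans
      (Finset.sum_le_sum_of_subset (Finset.subset_univ S) : ∑ θ ∈ S, m θ * deg (θ : K → ℂ) ≤ _)
    simp only [hS, Finset.mem_filter] at hθ
    exact Nat.le_mul_of_pos_left _ (Nat.pos_of_ne_zero hθ.2)
  · refine ⟨Nat.card K, Nat.card_pos, hK, fun g => ?_⟩
    haveI : NeZero (Nat.card H) := ⟨Nat.card_pos.ne'⟩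
    haveI : NeZero (Nat.card K) := ⟨Nat.card_pos.ne'⟩
    have hsub : ({Complex.exp (2 * Real.pi * Complex.I / (Nat.card K : ℕ))} : Set ℂ) ⊆ cycField (Nat.card H) := by
      rintro s rfl
      refine mem_cycField_of_pow_eq_one _ ?_
      obtain ⟨c, hc⟩ := K.card_subgroup_dvd_card
      rw [hc, pow_mul, (Complex.isPrimitiveRoot_exp _ Nat.card_pos.ne').pow_eq_one, one_pow]
    refine mem_adjoin_of_fixed (fun s hs => hsub hs)
      (IsCharacter.mem_cycField (IsCharacter.sum_finset _ _ fun o _ => hηc _) (orderOf_dvd_natCard g))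
      fun σ _ _ _ hfix => ?_
    rw [Finset.sum_apply, map_sum]
    exact Finset.sum_congr rfl fun o _ => hησ _ σ (fixed_adjoin hfix) g
  · intro x hx
    rw [Finset.sum_apply, Finset.sum_apply] at hx
    have hfull := apply_eq_of_sum _ _ (fun o _ => hηc (rep o)) (x : H) hx
    have hθx : ∀ θ : Cfsg.IrrCharacter K, θ ∈ S → (θ : K → ℂ) x = (θ : K → ℂ) 1 := by
      intro θ hθ
      set o : O := ⟨conjOrbit K (θ : K → ℂ), Finset.mem_image_of_mem _ hθ⟩
      have hmem : (θ : K → ℂ) ∈ conjOrbit K (rep o : K → ℂ) := by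
        rw [hrepo]
        exact (mem_conjOrbit K).2 ⟨1, conjN_one K _⟩
      obtain ⟨g, hg⟩ := (mem_conjOrbit K).1 hmem
      set y : K := ⟨g * x * g⁻¹, Subgroup.Normal.conj_mem inferInstance _ x.2 g⟩ with hy
      have hy1 : η (rep o) (y : H) = η (rep o) 1 := by
        show η (rep o) (g * (x : H) * g⁻¹) = _
        rw [isClassFunction_isChar (hηc _) (x : H) g, hfull o (Finset.mem_univ _)]
      have hres : Cfsg.IsCharacter K (fun z : K => η (rep o) z) := IsCharacter.restrict (hηc _) K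
      obtain ⟨c, hc⟩ := IsCharacter.exists_decomp hres
      have h1 := congrFun hc y
      have h2 := congrFun hc 1
      simp only [OneMemClass.coe_one, Finset.sum_apply] at h1 h2
      have hall := apply_eq_of_sum _ _ (fun φ _ => Cfsg.Lib.Chars.IsCharacter.nsmul (isCharacter_of_irr φ.2) (c φ)) y
        (h1.symm.trans (hy1.trans h2)) (rep o) (Finset.mem_univ _)
      have hc0 : c (rep o) ≠ 0 := fun h0 => hηi (rep o) (by
        rw [hc]
        simp only [← Nat.cast_smul_eq_nsmul ℂ]
        rw [classInner_irrSum (fun ψ => (c ψ : ℂ)) (rep o), h0, Nat.cast_zero])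
      simp only [Pi.smul_apply, nsmul_eq_mul] at hall
      have h3 := mul_left_cancel₀ (Nat.cast_ne_zero.2 hc0) hall
      rw [← hg]
      show (rep o : K → ℂ) y = (rep o : K → ℂ) _
      rw [h3]
      first | rfl | (refine congrArg _ (Subtype.ext ?_); simp)
    rw [hm]
    simp only [Finset.sum_apply, Pi.smul_apply]
    refine Finset.sum_congr rfl fun θ _ => ?_
    by_cases h0 : m θ = 0
    · rw [h0, zero_smul, zero_smul]
    · rw [hθx θ (by simp [hS, h0])]

end Cfsg.Lib.Blocks
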