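import Mathlib
import Cfsg.Agent.Blocks.PRationalOver
import Cfsg.Agent.S4488
import Cfsg.Agent.Coprime.SchurZassenhaus
import Cfsg.Agent.Coprime.Sylow
import Cfsg.Agent.Components.Cores
import Cfsg.Agent.HallHigman.Drop
import Cfsg.Agent.FFModule.Model
import Cfsg.Agent.PLocal.Constrained
import Cfsg.Agent.Chars.DegreeTools

/-!
# Linear groups of small degree over `p`-solvable groups
-/

set_option autoImplicit false
set_option linter.unusedSectionVars false

namespace Cfsg.Lib.Blocks

open Cfsg Cfsg.Lib.Chars Cfsg.Lib.Coprime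

universe u

variable {G : Type u} [Group G] [Fintype G]

/-- The complement of `O_p` in the preimage of the `p'`-core. -/
theorem exists_acting_pair {p : ℕ} [hp : Fact p.Prime] (hsolv : Cfsg.IsPSolvable p G) :
    ∃ (K P : Subgroup G), ¬ p ∣ Nat.card K ∧ IsPGroup p P ∧ P ≤ Subgroup.normalizer (K : Set G) ∧
      (Cfsg.pCore p G).index.factorization p =
        ((P ⊓ Subgroup.centralizer (K : Set G)).relIndex P).factorization p := by
  classical
  set O := Cfsg.pCore p G with hO
  haveI hOn : O.Normal := Cfsg.Lib.Components.pCore_normal' p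
  have hOp : IsPGroup p O := Cfsg.Lib.Components.isPGroup_pCore p
  set π := QuotientGroup.mk' O with hπ
  have hπs : Function.Surjective π := QuotientGroup.mk'_surjective O
  set Kb := Cfsg.pPrimeCore p (G ⧸ O) with hKb
  haveI : Kb.Normal := Cfsg.Lib.Components.pPrimeCore_normal' p
  have hKbc : Subgroup.centralizer (Kb : Set (G ⧸ O)) ≤ Kb :=
    Cfsg.Lib.FF.centralizer_pPrimeCore_le p (Cfsg.Lib.Constraint.isPSolvable_of_surjective hπs hsolv)
      Cfsg.Lib.HallHigman.pCore_quotient_pCore
  have hKbp : ¬ p ∣ Nat.card Kb :=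
    hp.out.coprime_iff_not_dvd.1 (Cfsg.Lib.Components.coprime_card_pPrimeCore (G := G ⧸ O) p).symm
  set L := Kb.comap π with hL
  haveI : L.Normal := inferInstance
  have hOL : O ≤ L := fun x hx => by
    rw [hL, Subgroup.mem_comap, hπ, QuotientGroup.mk'_apply, (QuotientGroup.eq_one_iff x).2 hx]
    exact Kb.one_mem
  have hrel : O.relIndex L = Nat.card Kb := by
    have h := Subgroup.relIndex_comap (H := (⊥ : Subgroup (G ⧸ O))) π L
    rw [MonoidHom.comap_bot, hπ, QuotientGroup.ker_mk', Subgroup.relIndex_bot_left] at h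
    rw [h, hL, Subgroup.map_comap_eq_self_of_surjective hπs]
  obtain ⟨i, hi⟩ := IsPGroup.iff_card.1 hOp
  have hcop : (Nat.card O).Coprime (O.relIndex L) := by
    rw [hi, hrel]
    exact Nat.Coprime.pow_left i (hp.out.coprime_iff_not_dvd.2 hKbp)
  have hn : L ≤ Subgroup.normalizer (O : Set G) := by rw [Subgroup.normalizer_eq_top]; exact le_top
  obtain ⟨K, hKL, hOK, hKcard⟩ := exists_complement_in hOL hn hcop
  have hKp : ¬ p ∣ Nat.card K := by rw [hKcard, hrel]; exact hKbp
  set N := Subgroup.normalizer (K : Set G) with hN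
  have hOKdis : ∀ x ∈ O, x ∈ K → x = 1 := fun x h1 h2 => by
    have hd1 := O.orderOf_dvd_natCard h1
    have hd2 := K.orderOf_dvd_natCard h2
    rw [hKcard] at hd2
    exact orderOf_eq_one_iff.1 (Nat.eq_one_of_dvd_coprimes hcop hd1 hd2)
  -- Frattini
  have hsup : ∀ g : G, ∃ x ∈ O, x⁻¹ * g ∈ N := by
    intro g
    have hle : conjMap g K ≤ O ⊔ K := by
      rw [hOK]
      intro x hx
      rw [mem_conjMap] at hx
      have := Subgroup.Normal.conj_mem (inferInstance : L.Normal) _ (hKL hx) g
      simpa [mul_assoc] using this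
    obtain ⟨x, hx, hxe⟩ := exists_conj_eq_of_coprime (by rw [Subgroup.normalizer_eq_top]; exact le_top)
      (hKcard.symm ▸ hcop) (Or.inl (by
        haveI := hOp.isNilpotent
        infer_instance)) hle (card_conjMap g K)
    refine ⟨x, hx, ?_⟩
    rw [hN, ← conjMap_eq_self_iff, ← conjMap_mul, hxe, conjMap_inv_conjMap]
  -- a Sylow subgroup of the normalizer
  obtain ⟨PN⟩ := (inferInstance : Nonempty (Sylow p N))
  set P : Subgroup G := (PN : Subgroup N).map N.subtype with hP
  have hPN : P ≤ N := Subgroup.map_subtype_le _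
  have hPp : IsPGroup p P := PN.isPGroup'.map _
  refine ⟨K, P, hKp, hPp, hPN, ?_⟩
  have hC : P ⊓ Subgroup.centralizer (K : Set G) = O ⊓ N := by
    apply le_antisymm
    · intro y hy
      obtain ⟨hyP, hyC⟩ := hy
      refine ⟨?_, hPN hyP⟩
      have hyb : π y ∈ Subgroup.centralizer (Kb : Set (G ⧸ O)) := by
        rw [Subgroup.mem_centralizer_iff]
        intro z hz
        obtain ⟨x, rfl⟩ := hπs z
        have hx : x ∈ O ⊔ K := by rw [hOK]; exact hz
        obtain ⟨o, ho, k, hk, rfl⟩ := Subgroup.mem_sup_of_normal_left.1 hx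
        have h1 : π o = 1 := (QuotientGroup.eq_one_iff o).2 ho
        rw [map_mul, h1, one_mul, ← map_mul, ← map_mul, Subgroup.mem_centralizer_iff.1 hyC k hk]
      have h2 : π y ∈ Kb := hKbc hyb
      obtain ⟨j, hj⟩ := hPp ⟨y, hyP⟩
      have h3 : π y = 1 := by
        refine orderOf_eq_one_iff.1 (Nat.eq_one_of_dvd_coprimes
          (Nat.Coprime.pow_left j (hp.out.coprime_iff_not_dvd.2 hKbp))
          (orderOf_dvd_of_pow_eq_one (n := p ^ j) ?_) (Kb.orderOf_dvd_natCard h2))
        rw [← map_pow, show y ^ p ^ j = 1 from congrArg Subtype.val hj, map_one]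
      exact (QuotientGroup.eq_one_iff y).1 h3
    · intro y hy
      obtain ⟨hyO, hyN⟩ := hy
      refine ⟨?_, ?_⟩
      · have hle : (O.subgroupOf N).Normal := inferInstance
        have hp' : IsPGroup p (O.subgroupOf N) := hOp.comap_subtype
        have hle2 : O.subgroupOf N ≤ (PN : Subgroup N) :=
          le_sup_left.trans (PN.3 (hp'.to_sup_of_normal_left PN.isPGroup') le_sup_right).le
        exact ⟨⟨y, hyN⟩, hle2 (Subgroup.mem_subgroupOf.2 hyO), rfl⟩
      · show y ∈ Subgroup.centralizer (K : Set G)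
        rw [Subgroup.mem_centralizer_iff]
        intro k hk
        have h1 : y * k * y⁻¹ ∈ K := (Subgroup.mem_normalizer_iff.1 hyN k).1 hk
        have h2 : y * k * y⁻¹ * k⁻¹ ∈ O := by
          have := O.mul_mem hyO (hOn.conj_mem _ (O.inv_mem hyO) k)
          simpa [mul_assoc] using this
        have h3 := hOKdis _ h2 (K.mul_mem h1 (K.inv_mem hk))
        calc k * y = (y * k * y⁻¹ * k⁻¹)⁻¹ * (y * k) := by group
          _ = y * k := by rw [h3, inv_one, one_mul]
  rw [hC]
  -- the orders
  have hidx : O.index = O.relIndex N := by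
    rw [← Subgroup.relIndex_top_right]
    have htop : O ⊔ N = ⊤ := by
      rw [eq_top_iff]
      intro g _
      obtain ⟨x, hx, hxg⟩ := hsup g
      have e : g = x * (x⁻¹ * g) := by group
      rw [e]
      exact mul_mem (Subgroup.mem_sup_left hx) (Subgroup.mem_sup_right hxg)
    rw [← htop, sup_comm, Subgroup.relIndex_sup_right]
  have hON : O ⊓ N ≤ P := hC ▸ inf_le_left
  have hPidx : ¬ p ∣ P.relIndex N := by
    have e : P.relIndex N = (PN : Subgroup N).index := by
      rw [hP, Subgroup.relIndex, Subgroup.subgroupOf, Subgroup.comap_map_eq_self_of_injective N.subtype_injective]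
    rw [e]; exact PN.not_dvd_index
  have hne1 : (O ⊓ N).relIndex P ≠ 0 := Subgroup.index_ne_zero_of_finite
  have hne2 : P.relIndex N ≠ 0 := Subgroup.index_ne_zero_of_finite
  rw [hidx, ← Subgroup.inf_relIndex_right O N, ← Subgroup.relIndex_mul_relIndex _ _ _ hON hPN,
    Nat.factorization_mul hne1 hne2, Finsupp.add_apply,
    Nat.factorization_eq_zero_of_not_dvd hPidx, add_zero]

/-- **The exponent of `P / O_p` in a `p`-solvable linear group.** -/
theorem index_pCore_bound {p : ℕ} [hp : Fact p.Prime] (hsolv : Cfsg.IsPSolvable p G) {χ : G → ℂ}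
    (hχ : Cfsg.IsCharacter G χ) (hf : ∀ g, χ g = χ 1 → g = 1) :
    (Cfsg.pCore p G).index.factorization p ≤ ∑ i ∈ Finset.range (deg χ + 1), deg χ / ((p - 1) * p ^ i) := by
  classical
  obtain ⟨K, P, hK, hP, hPN, hidx⟩ := exists_acting_pair (G := G) hsolv
  rw [hidx]
  set H := K ⊔ P with hH
  haveI : Fintype H := Fintype.ofFinite H
  set K' := K.subgroupOf H with hK'
  haveI hK'n : K'.Normal :=
    (Subgroup.normal_subgroupOf_iff_le_normalizer le_sup_left).2 (sup_le Subgroup.le_normalizer hPN)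
  haveI : Fintype K' := Fintype.ofFinite K'
  have hKc : Nat.card K' = Nat.card K := Nat.card_congr (Subgroup.subgroupOfEquivOfLe le_sup_left).toEquiv
  obtain ⟨a, ha⟩ := IsPGroup.iff_card.1 hP
  obtain ⟨k, hk⟩ : ∃ k, K'.index = p ^ k := by
    have hd : K'.index ∣ Nat.card P := by
      have h1 := K'.card_mul_index
      have h2 : Nat.card H = Nat.card K * Nat.card P := card_sup_coprime hPN
        (ha ▸ (Nat.Coprime.pow_left a (hp.out.coprime_iff_not_dvd.2 hK)).symm)
      rw [h2, hKc] at h1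
      exact dvd_of_eq (Nat.eq_of_mul_eq_mul_left Nat.card_pos h1)
    rw [ha] at hd
    obtain ⟨k, -, hk⟩ := (Nat.dvd_prime_pow hp.out).1 hd
    exact ⟨k, hk⟩
  let X : K' → ℂ := fun x => χ ((x : H) : G)
  have hX : Cfsg.IsCharacter K' X := IsCharacter.comp_hom hχ (H.subtype.comp K'.subtype)
  have hXinv : ∀ g : H, conjN K' g X = X := fun g => funext fun x => by
    show χ ((g : G) * ((x : H) : G) * (g : G)⁻¹) = χ ((x : H) : G)
    exact isClassFunction_isChar hχ _ _
  obtain ⟨Ψ, hΨ, hΨd, hrat, hker⟩ := exists_rational_over (p := p) K' (hKc ▸ hK) hk hX hXinv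
  have hXd : deg X = deg χ := by
    apply Nat.cast_injective (R := ℂ)
    rw [← IsCharacter.apply_one_eq_deg hX, ← IsCharacter.apply_one_eq_deg hχ]
    simp [X]
  set P' := P.subgroupOf H with hP'
  set U : Subgroup P' := (kerSubgroup Ψ hΨ).subgroupOf P' with hU
  haveI hUn : U.Normal := by
    haveI := kerSubgroup_normal hΨ
    exact inferInstance
  letI : Fintype (P' ⧸ U) := Fintype.ofFinite _
  obtain ⟨Ψ', hΨ', hΨeq⟩ := exists_factor (QuotientGroup.mk' U) (QuotientGroup.mk'_surjective U)
    (IsCharacter.restrict hΨ P') (fun x hx => by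
      rw [QuotientGroup.ker_mk'] at hx
      exact (mem_kerSubgroup hΨ _).1 (Subgroup.mem_subgroupOf.1 hx))
  have hfaith' : ∀ c, Ψ' c = Ψ' 1 → c = 1 := by
    intro c hc
    obtain ⟨x, rfl⟩ := QuotientGroup.mk'_surjective U c
    rw [QuotientGroup.mk'_apply, QuotientGroup.eq_one_iff, hU, Subgroup.mem_subgroupOf, mem_kerSubgroup]
    have h1 := congrFun hΨeq x
    have h2 := congrFun hΨeq 1
    simp only [map_one, OneMemClass.coe_one] at h1 h2
    rw [h1, h2]; exact hc
  have hrat' : ∃ r : ℕ, 0 < r ∧ ¬ p ∣ r ∧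
      ∀ c, Ψ' c ∈ IntermediateField.adjoin ℚ ({Complex.exp (2 * Real.pi * Complex.I / r)} : Set ℂ) := by
    obtain ⟨r, hr, hrp, hr'⟩ := hrat
    refine ⟨r, hr, hrp, fun c => ?_⟩
    obtain ⟨x, rfl⟩ := QuotientGroup.mk'_surjective U c
    rw [← congrFun hΨeq x]; exact hr' _
  have hd' : deg Ψ' = deg Ψ := by
    apply Nat.cast_injective (R := ℂ)
    rw [← IsCharacter.apply_one_eq_deg hΨ', ← IsCharacter.apply_one_eq_deg hΨ, ← map_one (QuotientGroup.mk' U),
      ← congrFun hΨeq 1]
    simp
  have hle := Cfsg.Agent.S4488.result p hp.out Ψ' hΨ' hfaith' hrat' (deg Ψ) (by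
    rw [Cfsg.charDegree, IsCharacter.apply_one_eq_deg hΨ', Complex.natCast_re, Nat.floor_natCast, hd'])
  refine le_trans ?_ (hle.trans ?_)
  · -- the kernel centralizes
    have hUC : ∀ x : P', x ∈ U → ((x : H) : G) ∈ P ⊓ Subgroup.centralizer (K : Set G) := by
      intro x hx
      refine ⟨Subgroup.mem_subgroupOf.1 x.2, Subgroup.mem_centralizer_iff.2 fun y hy => ?_⟩
      haveI := kerSubgroup_normal hΨ
      have hxk : (x : H) ∈ kerSubgroup Ψ hΨ := Subgroup.mem_subgroupOf.1 hx
      set y' : H := ⟨y, Subgroup.mem_sup_left hy⟩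
      set c : H := (x : H) * y' * (x : H)⁻¹ * y'⁻¹ with hc
      have hc1 : c ∈ kerSubgroup Ψ hΨ := by
        have := (kerSubgroup Ψ hΨ).mul_mem hxk
          (Subgroup.Normal.conj_mem inferInstance _ ((kerSubgroup Ψ hΨ).inv_mem hxk) y')
        simpa [hc, mul_assoc] using this
      have hc2 : c ∈ K' :=
        K'.mul_mem (hK'n.conj_mem _ (Subgroup.mem_subgroupOf.2 hy) _) (K'.inv_mem (Subgroup.mem_subgroupOf.2 hy))
      have h1 := hker ⟨c, hc2⟩ ((mem_kerSubgroup hΨ c).1 hc1)
      have h2 : (c : G) = 1 := hf _ (by simpa [X] using h1)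
      simp only [hc, Subgroup.coe_mul, Subgroup.coe_inv, y'] at h2
      calc y * ((x : H) : G) = (((x : H) : G) * y * ((x : H) : G)⁻¹ * y⁻¹)⁻¹ * (((x : H) : G) * y) := by group
        _ = ((x : H) : G) * y := by rw [h2, inv_one, one_mul]
    refine (Nat.factorization_le_iff_dvd Subgroup.index_ne_zero_of_finite Nat.card_pos.ne').2 ?_ p
    let e : P' →* G := H.subtype.comp P'.subtype
    have he : Function.Injective e := H.subtype_injective.comp P'.subtype_injective
    have hUle : U.map e ≤ P ⊓ Subgroup.centralizer (K : Set G) := by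
      rintro _ ⟨x, hx, rfl⟩
      exact hUC x hx
    have htop : (⊤ : Subgroup P').map e = P := by
      rw [← MonoidHom.range_eq_map, MonoidHom.range_comp, Subgroup.range_subtype, hP',
        Subgroup.map_subgroupOf_eq_of_le le_sup_right]
    refine dvd_trans (Subgroup.relIndex_dvd_of_le_left P hUle) ?_
    have h1 : (U.map e).relIndex P = U.relIndex ⊤ := by
      conv_lhs => rw [← htop]
      exact Subgroup.relIndex_map_map_of_injective U ⊤ he
    rw [h1, Subgroup.relIndex_top_right]
    exact dvd_rfl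
  · have hΨd' : deg Ψ ≤ deg χ := hXd ▸ hΨd
    exact (Finset.sum_le_sum fun i _ => Nat.div_le_div_right hΨd').trans
      (Finset.sum_le_sum_of_subset (Finset.range_subset_range.2 (by omega)))

theorem sum_schur_small {p n : ℕ} (hp : p.Prime) (hn : n + 1 ≤ p) :
    ∑ i ∈ Finset.range (n + 1), n / ((p - 1) * p ^ i) = if n + 1 = p then 1 else 0 := by
  have h2 := hp.two_le
  rw [Finset.sum_range_succ']
  have hzero : ∀ i ∈ Finset.range n, n / ((p - 1) * p ^ (i + 1)) = 0 := fun i _ => by
    apply Nat.div_eq_of_lt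
    have h3 : 1 * p ≤ (p - 1) * p ^ (i + 1) :=
      Nat.mul_le_mul (by omega) (Nat.le_self_pow (Nat.succ_ne_zero i) p)
    omega
  rw [Finset.sum_eq_zero hzero, zero_add, pow_zero, mul_one]
  split
  · next h => rw [show p - 1 = n by omega, Nat.div_self (by omega)]
  · next h => exact Nat.div_eq_of_lt (by omega)

/-- Small degree: normal Sylow subgroup. -/
theorem normal_of_small {p : ℕ} [hp : Fact p.Prime] (hsolv : Cfsg.IsPSolvable p G) {χ : G → ℂ}
    (hχ : Cfsg.IsCharacter G χ) (hf : ∀ g, χ g = χ 1 → g = 1) (hn : deg χ + 1 < p) (P : Sylow p G) :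
    (P : Subgroup G).Normal := by
  have h := index_pCore_bound hsolv hχ hf
  rw [sum_schur_small hp.out hn.le, if_neg (ne_of_lt hn)] at h
  have hO := Cfsg.Lib.Components.pCore_normal' (G := G) p
  have hidx : ¬ p ∣ (Cfsg.pCore p G).index := fun hd => by
    have := hp.out.factorization_pos_of_dvd Subgroup.index_ne_zero_of_finite hd
    omega
  let Q : Sylow p G := IsPGroup.toSylow (Cfsg.Lib.Components.isPGroup_pCore p) hidx
  haveI : (Q : Subgroup G).Normal := hO
  haveI := Sylow.unique_of_normal Q inferInstance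
  rw [Subsingleton.elim P Q]
  infer_instance

end Cfsg.Lib.Blocks
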