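import Mathlib
import Cfsg.Agent.Blocks.PSolvableLinear

/-!
# Non-normal Sylow subgroup in degree `p - 1`
-/

set_option autoImplicit false
set_option linter.unusedSectionVars false

namespace Cfsg.Lib.Blocks

open Cfsg Cfsg.Lib.Chars Cfsg.Lib.Coprime

universe u

theorem isPSolvable_two_step {G : Type u} [Group G] [Finite G] {p a : ℕ} (Q : Subgroup G) [Q.Normal]
    (hQ : (Nat.card Q).Coprime p) (hidx : Q.index = p ^ a) : Cfsg.IsPSolvable p G := by
  refine ⟨2, ![⊥, Q, ⊤], rfl, rfl, ?_, ?_, ?_⟩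
  · refine Fin.monotone_iff_le_succ.2 fun i => ?_
    fin_cases i <;> simp
  · intro i
    fin_cases i
    · show (⊥ : Subgroup G).Normal
      infer_instance
    · show Q.Normal
      infer_instance
    · show (⊤ : Subgroup G).Normal
      infer_instance
  · intro i
    fin_cases i
    · exact Or.inr (by simpa [Subgroup.relIndex_bot_left] using hQ)
    · exact Or.inl ⟨a, by simpa [Subgroup.relIndex_top_right] using hidx⟩

variable {G : Type u} [Group G] [Fintype G]

/-- Irreducibility. -/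
theorem irr_of_degree_pred {p : ℕ} [hp : Fact p.Prime] (hsolv : Cfsg.IsPSolvable p G) {χ : G → ℂ}
    (hχ : Cfsg.IsCharacter G χ) (hf : ∀ g, χ g = χ 1 → g = 1) (hn : deg χ + 1 ≤ p) (P : Sylow p G)
    (hP : ¬ (P : Subgroup G).Normal) : deg χ + 1 = p ∧ Cfsg.IsIrrCharacter G χ := by
  classical
  have heq : deg χ + 1 = p := by
    by_contra h
    exact hP (normal_of_small hsolv hχ hf (lt_of_le_of_ne hn h) P)
  refine ⟨heq, ?_⟩
  by_contra hirr
  obtain ⟨m, hm, hinner, hsum⟩ := exists_degree_decomp hχ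
  -- all constituents are smaller
  have hsmall : ∀ φ : Cfsg.IrrCharacter G, m φ ≠ 0 → deg (φ : G → ℂ) + 1 < p := by
    intro φ hφ
    obtain ⟨h1, h2⟩ := constituent_le hχ φ.2 (by rw [hinner]; exact_mod_cast hφ)
    rcases lt_or_eq_of_le h1 with h | h
    · omega
    · exact absurd (h2 h.ge ▸ φ.2) hirr
  -- the image of the Sylow subgroup is normal in each constituent
  have hnorm : ∀ φ : Cfsg.IrrCharacter G, m φ ≠ 0 →
      ((P : Subgroup G) ⊔ kerSubgroup (φ : G → ℂ) (isCharacter_of_irr φ.2)).Normal := by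
    intro φ hφ
    set K := kerSubgroup (φ : G → ℂ) (isCharacter_of_irr φ.2) with hK
    haveI : K.Normal := kerSubgroup_normal _
    letI : Fintype (G ⧸ K) := Fintype.ofFinite _
    set π := QuotientGroup.mk' K
    have hπs : Function.Surjective π := QuotientGroup.mk'_surjective K
    obtain ⟨φ', hφ', hφeq⟩ := exists_factor π hπs (isCharacter_of_irr φ.2) (fun k hk => by
      rw [QuotientGroup.ker_mk'] at hk; exact (mem_kerSubgroup _ k).1 hk)
    have hd : deg φ' = deg (φ : G → ℂ) := by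
      apply Nat.cast_injective (R := ℂ)
      rw [← IsCharacter.apply_one_eq_deg hφ', ← irr_apply_one_eq_deg φ, congrFun hφeq 1, map_one]
    have hf' : ∀ c, φ' c = φ' 1 → c = 1 := by
      intro c hc
      obtain ⟨x, rfl⟩ := hπs c
      refine (QuotientGroup.eq_one_iff x).2 ((mem_kerSubgroup _ x).2 ?_)
      rw [congrFun hφeq x, congrFun hφeq 1, hc, map_one]
    have hN := normal_of_small (p := p) (Cfsg.Lib.Constraint.isPSolvable_of_surjective hπs hsolv) hφ' hf'
      (hd ▸ hsmall φ hφ) (P.mapSurjective hπs)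
    haveI := hN
    have he : ((P.mapSurjective hπs : Sylow p (G ⧸ K)) : Subgroup (G ⧸ K)).comap π = (P : Subgroup G) ⊔ K := by
      rw [Sylow.coe_mapSurjective, Subgroup.comap_map_eq, QuotientGroup.ker_mk']
    rw [← he]
    infer_instance
  set R : Subgroup G := ⨅ (φ : Cfsg.IrrCharacter G) (_ : m φ ≠ 0),
    ((P : Subgroup G) ⊔ kerSubgroup (φ : G → ℂ) (isCharacter_of_irr φ.2)) with hR
  have hRn : R.Normal := Subgroup.normal_iInf_normal fun φ => Subgroup.normal_iInf_normal fun h => hnorm φ h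
  have hPR : (P : Subgroup G) ≤ R := le_iInf₂ fun φ _ => le_sup_left
  have hRp : IsPGroup p R := by
    intro x
    obtain ⟨j, hj⟩ := IsPGroup.iff_card.1 P.isPGroup'
    refine ⟨j, Subtype.ext ?_⟩
    rw [Subgroup.coe_pow, Subgroup.coe_one]
    refine hf _ ?_
    rw [congrFun hm ((x : G) ^ p ^ j), congrFun hm 1]
    refine Finset.sum_congr rfl fun φ _ => ?_
    by_cases hφ : m φ = 0
    · simp [hφ]
    congr 1
    refine (mem_kerSubgroup (isCharacter_of_irr φ.2) _).1 ?_
    have hx : (x : G) ∈ (P : Subgroup G) ⊔ kerSubgroup (φ : G → ℂ) (isCharacter_of_irr φ.2) :=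
      (Subgroup.mem_iInf.1 (Subgroup.mem_iInf.1 x.2 φ)) hφ
    haveI : (kerSubgroup (φ : G → ℂ) (isCharacter_of_irr φ.2)).Normal := kerSubgroup_normal _
    obtain ⟨y, hy, k, hk, he⟩ := Subgroup.mem_sup_of_normal_right.1 hx
    rw [← QuotientGroup.eq_one_iff, QuotientGroup.mk_pow, ← he, QuotientGroup.mk_mul,
      (QuotientGroup.eq_one_iff k).2 hk, mul_one, ← QuotientGroup.mk_pow]
    have : y ^ p ^ j = 1 := by
      have h1 := congrArg Subtype.val (pow_card_eq_one' (x := (⟨y, hy⟩ : (P : Subgroup G))))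
      rwa [hj] at h1
    rw [this, QuotientGroup.mk_one]
  exact hP (P.3 hRp hPR ▸ hRn)

/-- The degree is a power of two. -/
theorem two_power_degree {p : ℕ} [hp : Fact p.Prime] (hsolv : Cfsg.IsPSolvable p G) {χ : G → ℂ}
    (hχ : Cfsg.IsCharacter G χ) (hf : ∀ g, χ g = χ 1 → g = 1) (hn : deg χ + 1 ≤ p) (P : Sylow p G)
    (hP : ¬ (P : Subgroup G).Normal) : ∃ k : ℕ, deg χ = 2 ^ k := by
  classical
  obtain ⟨heq, -⟩ := irr_of_degree_pred hsolv hχ hf hn P hP
  rcases hp.out.eq_two_or_odd' with h2 | hodd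
  · exact ⟨0, by rw [pow_zero]; omega⟩
  obtain ⟨K, P₀, hK, hP₀, hPN, hidx⟩ := exists_acting_pair (G := G) hsolv
  -- some element acts nontrivially
  have hnt : ¬ P₀ ≤ Subgroup.centralizer (K : Set G) := by
    intro hle
    refine hP ?_
    have hidx' : ¬ p ∣ (Cfsg.pCore p G).index := fun hd => by
      have h1 := hp.out.factorization_pos_of_dvd Subgroup.index_ne_zero_of_finite hd
      rw [hidx, inf_eq_left.2 hle, Subgroup.relIndex_self, Nat.factorization_one, Finsupp.zero_apply] at h1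
      exact lt_irrefl 0 h1
    haveI := Cfsg.Lib.Components.pCore_normal' (G := G) p
    let Q : Sylow p G := IsPGroup.toSylow (Cfsg.Lib.Components.isPGroup_pCore p) hidx'
    haveI : (Q : Subgroup G).Normal := Cfsg.Lib.Components.pCore_normal' p
    haveI := Sylow.unique_of_normal Q inferInstance
    rw [Subsingleton.elim P Q]
    infer_instance
  obtain ⟨y, hy, hyK⟩ := SetLike.not_le_iff_exists.1 hnt
  set A := Subgroup.zpowers y with hA
  have hAP : A ≤ P₀ := Subgroup.zpowers_le.2 hy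
  have hAK : A ≤ Subgroup.normalizer (K : Set G) := hAP.trans hPN
  obtain ⟨a, ha⟩ := IsPGroup.iff_card.1 (hP₀.to_le hAP)
  have hcop : (Nat.card A).Coprime (Nat.card K) := by
    rw [ha]
    exact Nat.Coprime.pow_left a (hp.out.coprime_iff_not_dvd.2 hK)
  -- an invariant Sylow subgroup which is not centralized
  obtain ⟨q, Q, hq, ⟨j, hQc⟩, hQK, hQA, hQn⟩ : ∃ (q : ℕ) (Q : Subgroup G), q.Prime ∧ (∃ j, Nat.card Q = q ^ j) ∧
      Q ≤ K ∧ A ≤ Subgroup.normalizer (Q : Set G) ∧ ¬ Q ≤ Subgroup.centralizer (A : Set G) := by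
    by_contra hno
    push Not at hno
    have hle : ∀ q : ℕ, q.Prime → q ^ (Nat.card K).factorization q ∣
        Nat.card ↥(K ⊓ Subgroup.centralizer (A : Set G)) := by
      intro q hq
      haveI := Fact.mk hq
      obtain ⟨S, hS⟩ := exists_invariant_sylow hAK hcop (Or.inl (by
        haveI := (hP₀.to_le hAP).isNilpotent
        infer_instance)) q
      set Q := (S : Subgroup K).map K.subtype with hQ
      have hc : Nat.card Q = q ^ (Nat.card K).factorization q := by
        rw [hQ, Subgroup.card_map_of_injective K.subtype_injective, S.card_eq_multiplicity]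
      have h1 := hno q Q hq ⟨_, hc⟩ (Subgroup.map_subtype_le _) hS
      rw [← hc]
      exact Subgroup.card_dvd_of_le (le_inf (Subgroup.map_subtype_le _) h1)
    have hKC : K ≤ Subgroup.centralizer (A : Set G) := by
      refine inf_eq_left.1 (Subgroup.eq_of_le_of_card_ge inf_le_left ?_)
      refine Nat.le_of_dvd Nat.card_pos ?_
      rw [← Nat.factorization_le_iff_dvd Nat.card_pos.ne' Nat.card_pos.ne']
      intro q
      by_cases hq : q.Prime
      · exact (hq.pow_dvd_iff_le_factorization Nat.card_pos.ne').1 (hle q hq)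
      · simp [hq]
    exact hyK (Subgroup.mem_centralizer_iff.2 fun k hk =>
      (Subgroup.mem_centralizer_iff.1 (hKC hk) y (Subgroup.mem_zpowers y)).symm)
  set H := Q ⊔ A with hH
  letI : Fintype H := Fintype.ofFinite H
  set Q' := Q.subgroupOf H with hQ'
  haveI hQ'n : Q'.Normal :=
    (Subgroup.normal_subgroupOf_iff_le_normalizer le_sup_left).2 (sup_le Subgroup.le_normalizer hQA)
  letI : Fintype Q' := Fintype.ofFinite Q'
  have hQpc : (Nat.card Q).Coprime p :=
    ((hp.out.coprime_iff_not_dvd.2 hK).symm).coprime_dvd_left (Subgroup.card_dvd_of_le hQK)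
  have hQ'c : Nat.card Q' = Nat.card Q := Nat.card_congr (Subgroup.subgroupOfEquivOfLe le_sup_left).toEquiv
  have hHc : Nat.card H = Nat.card Q * Nat.card A := card_sup_coprime hQA (by
    rw [ha]; exact Nat.Coprime.pow_right a hQpc)
  have hidx' : Q'.index = p ^ a := by
    have h1 := Q'.card_mul_index
    rw [hHc, hQ'c, ha] at h1
    exact Nat.eq_of_mul_eq_mul_left Nat.card_pos h1
  have hsolvH : Cfsg.IsPSolvable p H := isPSolvable_two_step Q' (hQ'c ▸ hQpc) hidx'
  set A' := A.subgroupOf H with hA'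
  have hA'c : Nat.card A' = p ^ a := by
    rw [Nat.card_congr (Subgroup.subgroupOfEquivOfLe le_sup_right).toEquiv, ha]
  have hA'idx : ¬ p ∣ A'.index := by
    intro hd
    have h1 := A'.card_mul_index
    rw [hA'c, hHc, ha, mul_comm (Nat.card Q)] at h1
    rw [Nat.eq_of_mul_eq_mul_left (pow_pos hp.out.pos a) h1] at hd
    exact hp.out.not_dvd_one ((hQpc.symm : Nat.gcd p (Nat.card Q) = 1) ▸ Nat.dvd_gcd dvd_rfl hd)
  let S : Sylow p H := IsPGroup.toSylow (IsPGroup.of_card hA'c) hA'idx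
  have hS : ¬ (S : Subgroup H).Normal := by
    intro hSn
    apply hQn
    intro x hx
    rw [Subgroup.mem_centralizer_iff]
    intro z hz
    have hz' : z ∈ A := hz
    have h1 : z * x * z⁻¹ * x⁻¹ ∈ Q := Q.mul_mem ((Subgroup.mem_normalizer_iff.1 (hQA hz') x).1 hx) (Q.inv_mem hx)
    have h2 : z * x * z⁻¹ * x⁻¹ ∈ A := by
      set x' : H := ⟨x, Subgroup.mem_sup_left hx⟩
      set z' : H := ⟨z, Subgroup.mem_sup_right hz'⟩
      have h3 : x' * z'⁻¹ * x'⁻¹ ∈ A' := hSn.conj_mem z'⁻¹ (A'.inv_mem (Subgroup.mem_subgroupOf.2 hz')) x'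
      have h4 := A.mul_mem hz' (Subgroup.mem_subgroupOf.1 h3)
      simpa [x', z', mul_assoc] using h4
    have h5 : z * x * z⁻¹ * x⁻¹ = 1 := orderOf_eq_one_iff.1
      (Nat.eq_one_of_dvd_coprimes (hQpc.pow_right a) (Q.orderOf_dvd_natCard h1) (ha ▸ A.orderOf_dvd_natCard h2))
    calc z * x = (z * x * z⁻¹ * x⁻¹) * (x * z) := by group
      _ = x * z := by rw [h5, one_mul]
  let ψ : H → ℂ := fun h => χ h
  have hψ : Cfsg.IsCharacter H ψ := IsCharacter.restrict hχ H
  have hψd : deg ψ = deg χ := by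
    apply Nat.cast_injective (R := ℂ)
    rw [← IsCharacter.apply_one_eq_deg hψ, ← IsCharacter.apply_one_eq_deg hχ]
    rfl
  obtain ⟨-, hirr⟩ := irr_of_degree_pred hsolvH hψ (fun h hh => Subtype.ext (hf _ hh)) (hψd ▸ hn) S hS
  obtain ⟨θ, hθ, hθc⟩ := exists_constituent Q' hψ (IsIrrCharacter.apply_one_ne_zero hirr)
  obtain ⟨t, ht, htd⟩ := deg_over Q' hirr hθ hθc
  have ht1 : t = 1 := by
    obtain ⟨i, -, rfl⟩ := (Nat.dvd_prime_pow hp.out).1 (hidx' ▸ htd)
    rcases Nat.eq_zero_or_pos i with h0 | h0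
    · rw [h0, pow_zero]
    · exfalso
      have h1 : p ∣ deg ψ := ht ▸ dvd_mul_of_dvd_left (dvd_pow_self p h0.ne') _
      have h2 := Nat.le_of_dvd (by have := hp.out.two_le; omega) h1
      omega
  rw [ht1, one_mul] at ht
  obtain ⟨i, -, hi⟩ := (Nat.dvd_prime_pow hq).1 (hQc ▸ hQ'c ▸ IsIrrCharacter.deg_dvd hθ)
  rw [hψd, hi] at ht
  by_cases hi0 : i = 0
  · exact ⟨0, by rw [ht, hi0, pow_zero, pow_zero]⟩
  · refine ⟨i, ?_⟩
    have hqeven : Even q := by
      have h1 : Even (deg χ) := by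
        obtain ⟨u, hu⟩ := hodd
        exact ⟨u, by omega⟩
      rw [ht] at h1
      exact (Nat.even_pow.1 h1).1
    rw [ht, (hq.even_iff).1 hqeven]

end Cfsg.Lib.Blocks
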