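import Mathlib
import Cfsg.Agent.Blocks.FongFullDefect
import Cfsg.Agent.GaschutzYen.Basic
import Cfsg.Agent.SolvStruct.CoprimeOrbits
import Cfsg.Agent.Chars.AbelianInertia
import Cfsg.Agent.Chars.DegreeTools
import Cfsg.Agent.Coprime.Fitting

/-!
# Heights in blocks of `p`-solvable groups

The height of a character in a block of a `p`-solvable group is at most the exponent of the index
of the centre of a defect group.
-/

set_option autoImplicit false
set_option linter.unusedSectionVars false
set_option linter.style.haveILetI false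

namespace Cfsg.Lib.Blocks

open Cfsg Cfsg.Lib.Chars
open scoped ComplexConjugate commutatorElement

universe u

/-- Over a stable character of the `p'`-core the `p`-part of the degree is bounded by the index of
the centre of a Sylow subgroup. -/
theorem deg_factorization_le_of_invariant {G : Type u} [Group G] [Fintype G] {p : ℕ} [Fact p.Prime]
    (hsolv : Cfsg.IsPSolvable p G) (N : Subgroup G) [N.Normal] [Fintype N] (hN : N = Cfsg.pPrimeCore p G)
    {θ : N → ℂ} (hθ : IsIrrCharacter N θ) (hinv : ∀ g : G, conjN N g θ = θ) {χ : G → ℂ}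
    (hχ : IsIrrCharacter G χ) (hc : classInner (fun n : N => χ n) θ ≠ 0) (P : Sylow p G) :
    (deg χ).factorization p ≤ ((Subgroup.center (P : Subgroup G)).index).factorization p := by
  classical
  set π := QuotientGroup.mk' N with hπdef
  have hπ : Function.Surjective π := QuotientGroup.mk'_surjective N
  have hNcop : (Nat.card N).Coprime p := by rw [hN]; exact Components.coprime_card_pPrimeCore p
  have hO : Cfsg.pPrimeCore p (G ⧸ N) = ⊥ := by
    rw [← Components.map_pPrimeCore_of_coprime_ker hπ (by rw [hπdef, QuotientGroup.ker_mk']; exact hNcop),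
      ← hN, hπdef, Subgroup.map_eq_bot_iff, QuotientGroup.ker_mk']
  have hsolvQ : Cfsg.IsPSolvable p (G ⧸ N) := Cfsg.Lib.GaschutzYen.isPSolvable_quotient N hsolv
  set O := Cfsg.pCore p (G ⧸ N) with hOdef
  haveI : O.Normal := Components.pCore_normal' p
  have hCO := centralizer_pCore_le_of_isPSolvable p hsolvQ hO
  set W := (Subgroup.center O).map O.subtype with hW
  haveI : W.Normal := ConjAct.normal_of_characteristic_of_normal
  set L := W.comap π with hL
  haveI : L.Normal := Subgroup.Normal.comap inferInstance π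
  letI : Fintype L := Fintype.ofFinite L
  -- the centre of the Sylow subgroup lies in `L`
  set Z := (Subgroup.center (P : Subgroup G)).map (P : Subgroup G).subtype with hZ
  have hOP : O ≤ (P : Subgroup G).map π := by
    have := Cfsg.Lib.Coprime.pCore_le_sylow (G := G ⧸ N) p (P.mapSurjective hπ)
    rwa [Sylow.coe_mapSurjective] at this
  have hZL : Z ≤ L := by
    rintro _ ⟨z, hz, rfl⟩
    have hzC : π (z : G) ∈ Subgroup.centralizer (O : Set (G ⧸ N)) := by
      rw [Subgroup.mem_centralizer_iff]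
      intro y hy
      obtain ⟨w, hw, rfl⟩ := hOP hy
      rw [← map_mul, ← map_mul]
      exact congrArg π (congrArg Subtype.val (Subgroup.mem_center_iff.1 hz ⟨w, hw⟩))
    have hzO : π (z : G) ∈ O := hCO hzC
    refine ⟨⟨_, hzO⟩, Subgroup.mem_center_iff.2 fun y => Subtype.ext ?_, rfl⟩
    exact Subgroup.mem_centralizer_iff.1 hzC y y.2
  have hNL : N ≤ L := fun n hn => by
    show π n ∈ W
    rw [show π n = 1 from (QuotientGroup.eq_one_iff n).2 hn]
    exact one_mem _
  -- the quotient `L/N` is an abelian `p`-group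
  have hab : ∀ x y : L, x * y * x⁻¹ * y⁻¹ ∈ N.subgroupOf L := by
    intro x y
    rw [Subgroup.mem_subgroupOf, ← QuotientGroup.eq_one_iff]
    obtain ⟨a, ha, hax⟩ := x.2
    obtain ⟨b, hb, hby⟩ := y.2
    show π ((x : G) * y * (x : G)⁻¹ * (y : G)⁻¹) = 1
    rw [map_mul, map_mul, map_mul, map_inv, map_inv, ← hax, ← hby]
    have h := congrArg O.subtype (Subgroup.mem_center_iff.1 hb a)
    rw [map_mul, map_mul] at h
    rw [h, mul_inv_cancel_right, mul_inv_cancel]
  obtain ⟨k, hk⟩ := IsPGroup.iff_card.1 ((Components.isPGroup_pCore (G := G ⧸ N) p).to_le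
    (Subgroup.map_subtype_le (H := O) (Subgroup.center O)))
  have hLN : (N.subgroupOf L).index = p ^ k := by
    show N.relIndex L = p ^ k
    have e : (⊥ : Subgroup (G ⧸ N)).comap π = N := by
      rw [MonoidHom.comap_bot, hπdef, QuotientGroup.ker_mk']
    rw [← hk, congrArg (fun H => H.relIndex L) e.symm, Subgroup.relIndex_comap, hL,
      Subgroup.map_comap_eq_self_of_surjective hπ, Subgroup.relIndex_bot_left]
  -- every character of `L` over `θ` has degree `θ(1)`
  set N' := N.subgroupOf L with hN'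
  letI : Fintype N' := Fintype.ofFinite _
  let eN := Subgroup.subgroupOfEquivOfLe hNL
  have hθ' : IsIrrCharacter N' (fun x => θ (eN x)) := IsIrrCharacter.comp_mulEquiv hθ eN
  have hinv' : ∀ a : L, conjN N' a (fun x => θ (eN x)) = fun x => θ (eN x) := fun a => by
    funext x
    exact congrFun (hinv (a : G)) (eN x)
  obtain ⟨η, hη, hηres⟩ := exists_extension_of_coprime_index N' hθ' hinv' (by
    rw [hLN, Nat.card_congr eN.toEquiv]; exact hNcop.pow_right k)
  obtain ⟨ψ, hψ, hχψ, hψθ⟩ := exists_constituent_over L hNL (isCharacter_of_irr hχ) hc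
  obtain ⟨e, he, hres⟩ := restrict_of_le_inertia N hθ L hNL (fun g _ => mem_inertia.2 (hinv g)) hψ hψθ
  have hψ1 : ψ 1 = η 1 := deg_eq_of_abelian_quotient N' hab hθ' hη hψ one_ne_zero he.ne'
    (by rw [Nat.cast_one, one_smul]; exact funext hηres)
    (funext fun x => congrFun hres (eN x))
  have hψdeg : deg ψ = deg θ := by
    have h1 := IsCharacter.apply_one_eq_deg (isCharacter_of_irr hψ)
    rw [hψ1, ← OneMemClass.coe_one N', hηres, map_one, IsCharacter.apply_one_eq_deg (isCharacter_of_irr hθ)] at h1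
    exact_mod_cast h1.symm
  obtain ⟨m, hm, hmL⟩ := deg_over L hχ hψ hχψ
  have hθp : (deg θ).factorization p = 0 :=
    Nat.factorization_eq_zero_of_not_dvd fun hd => (Fact.out : p.Prime).coprime_iff_not_dvd.1 hNcop.symm
      (hd.trans (IsIrrCharacter.deg_dvd hθ))
  have hm0 : m ≠ 0 := fun h0 => IsIrrCharacter.apply_one_ne_zero hχ (by
    rw [IsCharacter.apply_one_eq_deg (isCharacter_of_irr hχ), hm, h0, zero_mul, Nat.cast_zero])
  have hdθ : deg θ ≠ 0 := fun h0 => IsIrrCharacter.apply_one_ne_zero hθ (by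
    rw [IsCharacter.apply_one_eq_deg (isCharacter_of_irr hθ), h0, Nat.cast_zero])
  rw [hm, hψdeg, Nat.factorization_mul hm0 hdθ, Finsupp.add_apply, hθp, add_zero]
  refine le_trans ((Nat.factorization_le_iff_dvd hm0 L.index_ne_zero_of_finite).2 hmL p) ?_
  refine le_trans ((Nat.factorization_le_iff_dvd L.index_ne_zero_of_finite Z.index_ne_zero_of_finite).2
    (Subgroup.index_dvd_of_le hZL) p) ?_
  rw [hZ, Subgroup.index_map_subtype, Nat.factorization_mul Subgroup.index_ne_zero_of_finite
    Subgroup.index_ne_zero_of_finite, Finsupp.add_apply,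
    Nat.factorization_eq_zero_of_not_dvd P.not_dvd_index, add_zero]

variable {M : Ideal AlgInt} {p : ℕ}

/-- Heights are bounded by the index of the centre of a defect group. -/
theorem height_le_center_index [Fact p.Prime] (hM : IsPModular p M) :
    ∀ (n : ℕ) (G : Type u) [Group G] [Fintype G], Nat.card G = n → Cfsg.IsPSolvable p G →
      ∀ B : Set (IrrCharacter G), IsPBlock M B → ∀ P : Subgroup G, IsDefectGroup p M B P →
        ∀ χ ∈ B, blockHeight p B ((χ : IrrCharacter G) : G → ℂ) ≤ ((Subgroup.center P).index).factorization p := by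
  intro n
  induction n using Nat.strong_induction_on with
  | _ n ih =>
  intro G _ _ hn hsolv B hB P hP χ hχ
  classical
  haveI : (Cfsg.pPrimeCore p G).Normal := Components.pPrimeCore_normal' p
  set N := Cfsg.pPrimeCore p G with hN
  letI : Fintype N := Fintype.ofFinite N
  have hNp : ¬ p ∣ Nat.card N :=
    (Fact.out : p.Prime).coprime_iff_not_dvd.1 (Components.coprime_card_pPrimeCore p).symm
  obtain ⟨θ, hθ⟩ := exists_irr_constituent N χ
  have hint : Integral M (blockElem ({θ} : Set (IrrCharacter N))) := integral_blockElem_pPrime hM hNp _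
  have hb : IsPBlock M ({θ} : Set (IrrCharacter N)) := by
    refine ⟨θ, Set.eq_singleton_iff_unique_mem.2 ⟨mem_blockOf_self hM θ, fun ψ hψ => ?_⟩ |>.symm⟩
    exact blockOf_subset_of_integral hM hint (Set.mem_singleton θ) hψ
  set T := inertia N (θ : N → ℂ) with hTd
  have hT : ∀ g, g ∈ T ↔ cjIrr N g '' ({θ} : Set (IrrCharacter N)) = {θ} := fun g => by
    rw [hTd, mem_inertia, Set.image_singleton, Set.singleton_eq_singleton_iff, Subtype.ext_iff, cjIrr_val]
  by_cases hTtop : T = ⊤
  · have hinv : ∀ g : G, conjN N g (θ : N → ℂ) = θ := fun g => mem_inertia.1 (hTtop ▸ Subgroup.mem_top g : g ∈ T)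
    obtain ⟨B₀, hB₀, hiff, -, hsyl⟩ := pSolvable_block_over hM hsolv N hN θ
      (fun g => Subtype.ext (by rw [cjIrr_val]; exact hinv g))
      (Cfsg.Lib.GaschutzYen.isPSolvable_quotient N hsolv)
    obtain rfl : B = B₀ := IsPBlock.eq_of_mem_inter hM hB hB₀ hχ ((hiff χ).2 hθ)
    obtain ⟨S, rfl⟩ := hsyl P hP
    calc blockHeight p B ((χ : IrrCharacter G) : G → ℂ)
        ≤ (charDegree ((χ : IrrCharacter G) : G → ℂ)).factorization p := Nat.sub_le _ _
      _ = (deg (χ : G → ℂ)).factorization p := rfl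
      _ ≤ _ := deg_factorization_le_of_invariant hsolv N hN θ.2 hinv χ.2 hθ S
  · letI : Fintype T := Fintype.ofFinite T
    have hNT : N ≤ T := le_inertia (isClassFunction_irr θ)
    obtain ⟨B', hB', hcov, hind⟩ := reynolds_surjective hM hb hT hNT hB ⟨χ, hχ, θ, rfl, hθ⟩
    obtain ⟨B₀, hind₀, -, hirr, hmem⟩ := reynolds hM hb hT hNT hB' hcov
    obtain ⟨ψ₀, hψ₀⟩ := IsPBlock.nonempty hM hB'
    have hBeq : B = B₀ := by
      rw [eq_blockOf_of_induced hM hind hψ₀ ⟨_, hirr ψ₀ hψ₀⟩ rfl,
        eq_blockOf_of_induced hM hind₀ hψ₀ ⟨_, hirr ψ₀ hψ₀⟩ rfl]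
    obtain ⟨ψ, hψ, hχψ⟩ := (hmem χ).1 (hBeq ▸ hχ)
    obtain ⟨hdef, hht⟩ := reynolds_defect hM hb hT hNT hB' hcov hind
    obtain ⟨χ', -, hχ', hh⟩ := hht ψ hψ
    obtain rfl : χ' = χ := Subtype.ext (hχ'.trans hχψ.symm)
    rw [hh]
    obtain ⟨D, hD⟩ := exists_defectGroup hM hB'
    obtain ⟨x, hx⟩ := IsDefectGroup.exists_eq_conj hM hB (hdef D hD) hP
    have hlt : Nat.card T < n := by
      rw [← hn]
      exact lt_of_le_of_ne (Nat.le_of_dvd Nat.card_pos T.card_subgroup_dvd_card)
        fun h => hTtop (Subgroup.eq_top_of_card_eq _ h)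
    refine (ih _ hlt T rfl (Cfsg.Lib.SolvStruct.CoprimeOrbits.isPSolvable_subgroup hsolv Fact.out T) B' hB' D hD ψ hψ).trans
      (le_of_eq ?_)
    have e : D ≃* P := (D.equivMapOfInjective T.subtype T.subtype_injective).trans
      ((Subgroup.equivMapOfInjective _ (MulAut.conj x).toMonoidHom (MulEquiv.injective _)).trans
        (MulEquiv.subgroupCongr hx.symm))
    have e1 := (Subgroup.center D).card_mul_index
    rw [Nat.card_congr (Subgroup.centerCongr e).toEquiv, Nat.card_congr e.toEquiv,
      ← (Subgroup.center P).card_mul_index] at e1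
    rw [Nat.eq_of_mul_eq_mul_left Nat.card_pos e1]

end Cfsg.Lib.Blocks
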