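import Mathlib
import Cfsg.Agent.Blocks.Covering
import Cfsg.Agent.Blocks.Embed

/-!
# A covering block lies over every character of the covered block

For a central idempotent `e` of the group algebra over a field and a normal subgroup `N`, the
coordinates of the ideal generated by `e` span a two-sided ideal of the group algebra of `N` with
a central unit, complementary to the annihilator of `e`.  Hence the annihilator of a covering
block idempotent meets a covered block trivially.
-/

set_option autoImplicit false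
set_option linter.unusedSectionVars false

namespace Cfsg.Lib.Blocks

open Cfsg.Lib.Chars
open scoped ComplexConjugate

universe u

section Abstract

variable {G : Type u} [Group G] [Fintype G] {F : Type*} [Field F] (N : Subgroup G) [N.Normal]
  [Fintype N]

/-- Extension by zero as a ring homomorphism. -/
noncomputable def embRing : MonoidAlgebra F N →+* MonoidAlgebra F G where
  toFun := emb N
  map_zero' := emb_zero N
  map_add' a b := fn_ext fun g => by
    by_cases hg : g ∈ N
    · simp [fn_emb_mem N _ hg]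
    · simp [fn_emb_not_mem N _ hg]
  map_one' := by
    classical
    refine fn_ext fun g => ?_
    by_cases hg : g ∈ N
    · rw [fn_emb_mem N _ hg, fn_one, fn_one]
      exact if_congr ⟨fun h => congrArg Subtype.val h, fun h => Subtype.ext h⟩ rfl rfl
    · rw [fn_emb_not_mem N _ hg, fn_one, if_neg fun (h : (1 : G) = g) => hg (h ▸ N.one_mem)]
  map_mul' := emb_mul N

lemma embRing_apply (a : MonoidAlgebra F N) : embRing N a = emb N a := rfl

/-- Right coset coordinate. -/
noncomputable def coord (r : G) (s : MonoidAlgebra F G) : MonoidAlgebra F N :=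
  ofFn fun n : N => fn s ((n : G) * r)

lemma fn_coord (r : G) (s : MonoidAlgebra F G) (n : N) : fn (coord N r s) n = fn s ((n : G) * r) := by
  simp [coord]

lemma coord_emb_mul (r : G) (a : MonoidAlgebra F N) (s : MonoidAlgebra F G) :
    coord N r (emb N a * s) = a * coord N r s := by
  classical
  refine fn_ext fun n => ?_
  rw [fn_coord, fn_mul, fn_mul,
    ← Finset.sum_filter_add_sum_filter_not Finset.univ (fun t : G => t ∈ N),
    Finset.sum_eq_zero (s := Finset.univ.filter fun t : G => ¬ t ∈ N)
      (fun t ht => by rw [fn_emb_not_mem N a (Finset.mem_filter.1 ht).2, zero_mul]), add_zero,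
    Finset.sum_subtype (p := (· ∈ N)) (Finset.univ.filter (· ∈ N)) (fun g => by simp)]
  refine Finset.sum_congr rfl fun t _ => ?_
  rw [fn_emb_coe, fn_coord, Subgroup.coe_mul, Subgroup.coe_inv, mul_assoc]

lemma coord_zero (r : G) : coord N r (0 : MonoidAlgebra F G) = 0 :=
  fn_ext fun n => by rw [fn_coord, fn_zero, fn_zero]

lemma eq_sum_coord [Fintype (G ⧸ N)] (s : MonoidAlgebra F G) :
    s = ∑ q : G ⧸ N, emb N (coord N q.out s) * MonoidAlgebra.single q.out 1 := by
  classical
  refine fn_ext fun g => ?_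
  rw [fn_sum, Finset.sum_eq_single (QuotientGroup.mk g : G ⧸ N)]
  · have hg : g * ((QuotientGroup.mk g : G ⧸ N)).out⁻¹ ∈ N := by
      rw [← QuotientGroup.eq_one_iff, QuotientGroup.mk_mul, QuotientGroup.mk_inv,
        QuotientGroup.out_eq', mul_inv_cancel]
    rw [fn_mul_single, fn_emb_mem N _ hg, fn_coord, mul_one, inv_mul_cancel_right]
  · intro q _ hq
    rw [fn_mul_single, fn_emb_not_mem N, zero_mul]
    intro hg
    apply hq
    rw [← QuotientGroup.eq_one_iff, QuotientGroup.mk_mul, QuotientGroup.mk_inv,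
      QuotientGroup.out_eq', mul_inv_eq_one] at hg
    exact hg.symm
  · exact fun h => absurd (Finset.mem_univ _) h

/-- Conjugation on the group algebra of a normal subgroup. -/
noncomputable def conjRing (r : G) : MonoidAlgebra F N ≃+* MonoidAlgebra F N :=
  MonoidAlgebra.mapDomainRingEquiv F (MulAut.conjNormal r : MulAut N)

lemma fn_conjRing (r : G) (a : MonoidAlgebra F N) (n : N) :
    fn (conjRing N r a) n = fn a ((MulAut.conjNormal r : MulAut N).symm n) := by
  simp [conjRing, fn]

lemma single_mul_emb (r : G) (a : MonoidAlgebra F N) :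
    MonoidAlgebra.single r 1 * emb N a = emb N (conjRing N r a) * MonoidAlgebra.single r 1 := by
  classical
  refine fn_ext fun g => ?_
  rw [fn_single_mul, fn_mul_single, one_mul, mul_one]
  by_cases hg : r⁻¹ * g ∈ N
  · have hg' : g * r⁻¹ ∈ N := Subgroup.Normal.mem_comm inferInstance hg
    rw [fn_emb_mem N _ hg, fn_emb_mem N _ hg', fn_conjRing]
    refine congrArg _ (Subtype.ext ?_)
    simp only [MulAut.conjNormal_symm_apply]
    group
  · have hg' : g * r⁻¹ ∉ N := fun h => hg (Subgroup.Normal.mem_comm inferInstance h)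
    rw [fn_emb_not_mem N _ hg, fn_emb_not_mem N _ hg']

variable (e : MonoidAlgebra F G)

/-- The ideal spanned by the coordinates of the multiples of `e`. -/
noncomputable def coordIdeal : Ideal (MonoidAlgebra F N) :=
  Ideal.span {x | ∃ (r : G) (s : MonoidAlgebra F G) (a : MonoidAlgebra F N), x = coord N r (e * s) * a}

lemma coord_mem_coordIdeal (r : G) (s : MonoidAlgebra F G) :
    coord N r (e * s) ∈ coordIdeal N e :=
  Ideal.subset_span ⟨r, s, 1, (mul_one _).symm⟩

lemma coordIdeal_mul_mem {t : MonoidAlgebra F N} (ht : t ∈ coordIdeal N e)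
    (a : MonoidAlgebra F N) : t * a ∈ coordIdeal N e := by
  induction ht using Submodule.span_induction with
  | mem x hx =>
    obtain ⟨r, s, b, rfl⟩ := hx
    exact Ideal.subset_span ⟨r, s, b * a, mul_assoc _ _ _⟩
  | zero => rw [zero_mul]; exact zero_mem _
  | add x y _ _ hx hy => rw [add_mul]; exact add_mem hx hy
  | smul c x _ hx => rw [smul_eq_mul, mul_assoc]; exact Ideal.mul_mem_left _ c hx

lemma kill_mul_coordIdeal {k : MonoidAlgebra F N} (hk : ∀ a, emb N (k * a) * e = 0)
    {t : MonoidAlgebra F N} (ht : t ∈ coordIdeal N e) : k * t = 0 := by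
  have key : ∀ a, k * a * t = 0 := by
    induction ht using Submodule.span_induction with
    | mem x hx =>
      obtain ⟨r, s, b, rfl⟩ := hx
      intro a
      rw [← mul_assoc, ← coord_emb_mul, ← mul_assoc, hk, zero_mul, coord_zero, zero_mul]
    | zero => intro a; rw [mul_zero]
    | add x y _ _ hx hy => intro a; rw [mul_add, hx, hy, add_zero]
    | smul c x _ hx => intro a; rw [smul_eq_mul, ← mul_assoc, mul_assoc k a c, hx]
  simpa using key 1

/-- A two-sided ideal of a semisimple ring has a left unit. -/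
theorem exists_left_unit_of_twoSided {A : Type*} [Ring A] [IsSemisimpleRing A] (T : Ideal A)
    [T.IsTwoSided] : ∃ f ∈ T, ∀ t ∈ T, f * t = t := by
  obtain ⟨f, hf, hT⟩ := IsSemisimpleRing.ideal_eq_span_idempotent T
  have hfT : f ∈ T := hT ▸ Ideal.subset_span rfl
  have hright : ∀ t ∈ T, t * f = t := fun t ht => by
    rw [hT, Ideal.mem_span_singleton'] at ht
    obtain ⟨c, rfl⟩ := ht
    rw [mul_assoc, hf.eq]
  refine ⟨f, hfT, fun t ht => ?_⟩
  set x := t - f * t with hx
  have hxT : x ∈ T := sub_mem ht (Ideal.mul_mem_left _ f ht)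
  have hkill : ∀ u ∈ T, u * x = 0 := fun u hu => by
    rw [hx, mul_sub, ← mul_assoc, hright u hu, sub_self]
  obtain ⟨g, hg, hspan⟩ := IsSemisimpleRing.ideal_eq_span_idempotent (Ideal.span ({x} : Set A))
  obtain ⟨c, hc⟩ := Ideal.mem_span_singleton'.1
    (show g ∈ Ideal.span ({x} : Set A) from hspan ▸ Ideal.subset_span rfl)
  have hgT : g ∈ T := hc ▸ Ideal.mul_mem_left _ c hxT
  have hg0 : g = 0 := by
    rw [← hg.eq]
    nth_rewrite 2 [← hc]
    rw [← mul_assoc]
    exact hkill _ (Ideal.mul_mem_right c _ hgT)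
  have hx0 : x = 0 := by
    have : x ∈ Ideal.span ({g} : Set A) := hspan ▸ Ideal.subset_span rfl
    rw [hg0, Ideal.span_singleton_eq_bot.2 rfl] at this
    exact this
  rw [hx, sub_eq_zero] at hx0
  exact hx0.symm

lemma conjRing_mem_jacobson_pow (r : G) : ∀ (i : ℕ) {x : MonoidAlgebra F N},
    x ∈ Ring.jacobson (MonoidAlgebra F N) ^ i →
      conjRing N r x ∈ Ring.jacobson (MonoidAlgebra F N) ^ i
  | 0, x, _ => by rw [Submodule.pow_zero, Ideal.one_eq_top]; exact Submodule.mem_top
  | i + 1, x, hx => by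
    rw [Ideal.IsTwoSided.pow_succ] at hx ⊢
    induction hx using Submodule.mul_induction_on' with
    | mem_mul_mem a ha b hb =>
      rw [map_mul]
      haveI : RingHomSurjective (conjRing N r : MonoidAlgebra F N ≃+* _).toRingHom :=
        ⟨(conjRing N r).surjective⟩
      exact Ideal.mul_mem_mul (Ring.le_comap_jacobson (conjRing N r).toRingHom ha)
        (conjRing_mem_jacobson_pow r i hb)
    | add a _ b _ iha ihb => rw [map_add]; exact add_mem iha ihb

/-- The unit of the coordinate ideal. -/
theorem exists_coordIdeal_unit_aux (he : ∀ x, e * x = x * e) (hee : e * e = e) :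
    ∃ τ ∈ coordIdeal N e, emb N τ * e = e := by
  classical
  letI := Fintype.ofFinite (G ⧸ N)
  haveI : IsArtinianRing (MonoidAlgebra F N) := IsArtinianRing.of_finite F (MonoidAlgebra F N)
  set J := Ring.jacobson (MonoidAlgebra F N) with hJ
  haveI : (coordIdeal N e).IsTwoSided := ⟨fun b ha => coordIdeal_mul_mem N e ha b⟩
  set q := Ideal.Quotient.mk J with hq
  haveI : ((coordIdeal N e).map q).IsTwoSided := ⟨fun {a} b ha => by
    obtain ⟨a', ha', rfl⟩ := (Ideal.mem_map_iff_of_surjective q Ideal.Quotient.mk_surjective).1 ha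
    obtain ⟨b', rfl⟩ := Ideal.Quotient.mk_surjective b
    rw [← map_mul]
    exact Ideal.mem_map_of_mem q (coordIdeal_mul_mem N e ha' b')⟩
  obtain ⟨f, hfT, hf⟩ := exists_left_unit_of_twoSided ((coordIdeal N e).map q)
  obtain ⟨t₀, ht₀, rfl⟩ := (Ideal.mem_map_iff_of_surjective q Ideal.Quotient.mk_surjective).1 hfT
  set d : MonoidAlgebra F N := t₀ - 1 with hd
  have hdT : ∀ t ∈ coordIdeal N e, d * t ∈ J := fun t ht => by
    rw [← Ideal.Quotient.eq_zero_iff_mem, map_mul, map_sub, map_one, sub_mul, one_mul, sub_eq_zero]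
    exact hf _ (Ideal.mem_map_of_mem q ht)
  set L : ℕ → AddSubgroup (MonoidAlgebra F G) := fun i => AddSubgroup.closure
    {x | ∃ j ∈ J ^ i, ∃ s, x = emb N j * (e * s)} with hL
  have hstep : ∀ i, ∀ x ∈ L i, emb N d * x ∈ L (i + 1) := by
    intro i x hx
    induction hx using AddSubgroup.closure_induction with
    | zero => rw [mul_zero]; exact zero_mem _
    | add a b _ _ iha ihb => rw [mul_add]; exact add_mem iha ihb
    | neg a _ iha => rw [mul_neg]; exact neg_mem iha
    | mem x hx =>
      obtain ⟨j, hj, s, rfl⟩ := hx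
      rw [eq_sum_coord N s, Finset.mul_sum, Finset.mul_sum, Finset.mul_sum]
      refine sum_mem fun c _ => ?_
      obtain ⟨j', hj', hjj⟩ : ∃ j' ∈ J ^ i, emb N j * (e * (emb N (coord N c.out s) *
          MonoidAlgebra.single c.out 1)) = e * MonoidAlgebra.single c.out 1 * emb N j' := by
        refine ⟨conjRing N c.out⁻¹ (j * coord N c.out s),
          conjRing_mem_jacobson_pow N c.out⁻¹ i (Ideal.mul_mem_right _ _ hj), ?_⟩
        have h2 := congrArg (fun z => MonoidAlgebra.single c.out (1 : F) * z *
          MonoidAlgebra.single c.out 1)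
          (single_mul_emb N c.out⁻¹ (j * coord N c.out s))
        simp only [← mul_assoc, MonoidAlgebra.single_mul_single, mul_inv_cancel, one_mul] at h2
        simp only [mul_assoc, MonoidAlgebra.single_mul_single, inv_mul_cancel, one_mul,
          ← MonoidAlgebra.one_def, mul_one] at h2
        rw [← mul_assoc, ← he, mul_assoc e (emb N j), ← mul_assoc (emb N j), ← emb_mul, h2,
          ← mul_assoc]
      rw [hjj]
      have h3 : e * MonoidAlgebra.single c.out 1 = ∑ c' : G ⧸ N,
          emb N (coord N c'.out (e * MonoidAlgebra.single c.out 1)) *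
            (e * MonoidAlgebra.single c'.out 1) := by
        have h4 := congrArg (fun z => e * z) (eq_sum_coord N (e * MonoidAlgebra.single c.out (1 : F)))
        simp only [Finset.mul_sum, ← mul_assoc, hee] at h4
        conv_lhs => rw [h4]
        refine Finset.sum_congr rfl fun c' _ => ?_
        rw [← mul_assoc, he]
      rw [h3, Finset.sum_mul, Finset.mul_sum]
      refine sum_mem fun c' _ => ?_
      refine AddSubgroup.subset_closure ⟨d * coord N c'.out (e * MonoidAlgebra.single c.out 1) *
        conjRing N c'.out j', ?_, MonoidAlgebra.single c'.out 1, ?_⟩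
      · rw [Ideal.IsTwoSided.pow_succ]
        exact Ideal.mul_mem_mul (hdT _ (coord_mem_coordIdeal N e _ _))
          (conjRing_mem_jacobson_pow N c'.out i hj')
      · rw [emb_mul, emb_mul]
        simp only [mul_assoc]
        congr 2
        rw [single_mul_emb, ← mul_assoc, he, mul_assoc]
  obtain ⟨k, hk⟩ : IsNilpotent J := IsSemiprimaryRing.isNilpotent
  have hiter : ∀ i, emb N (d ^ i) * e ∈ L i := fun i => by
    induction i with
    | zero =>
      refine AddSubgroup.subset_closure ⟨1, ?_, 1, by rw [pow_zero, mul_one]⟩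
      rw [Submodule.pow_zero, Ideal.one_eq_top]; exact Submodule.mem_top
    | succ i ih =>
      rw [pow_succ', emb_mul, mul_assoc]
      exact hstep i _ ih
  have hzero : emb N (d ^ k) * e = 0 := by
    have h1 := hiter k
    have h2 : L k = ⊥ := by
      rw [hL, AddSubgroup.closure_eq_bot_iff]
      rintro x ⟨j, hj, s, rfl⟩
      rw [hk] at hj
      rw [(Submodule.mem_bot _).1 hj, emb_zero, zero_mul]
      rfl
    rw [h2] at h1
    exact h1
  have hpow : ∀ i, ∃ τ ∈ coordIdeal N e, (-d) ^ i = 1 - τ := fun i => by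
    induction i with
    | zero => exact ⟨0, zero_mem _, by rw [pow_zero, sub_zero]⟩
    | succ i ih =>
      obtain ⟨τ, hτ, h⟩ := ih
      refine ⟨τ + t₀ - τ * t₀, sub_mem (add_mem hτ ht₀) (Ideal.mul_mem_left _ _ ht₀), ?_⟩
      rw [pow_succ, h, hd]
      noncomm_ring
  obtain ⟨τ, hτ, h⟩ := hpow k
  refine ⟨τ, hτ, ?_⟩
  have h5 : embRing N ((-d) ^ k) * e = 0 := by
    rw [neg_pow, map_mul, mul_assoc, embRing_apply N (d ^ k), hzero, mul_zero]
  rw [h, map_sub, map_one, sub_mul, one_mul, embRing_apply, sub_eq_zero] at h5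
  exact h5.symm

/-- A central idempotent of the group algebra of `N` cuts out exactly what `e` sees. -/
theorem exists_coordIdeal_unit (he : ∀ x, e * x = x * e) (hee : e * e = e) :
    ∃ τ : MonoidAlgebra F N, (∀ a, τ * a = a * τ) ∧ τ * τ = τ ∧ emb N τ * e = e ∧
      ∀ a, emb N a * e = 0 → a * τ = 0 := by
  classical
  obtain ⟨τ, hτ, hτe⟩ := exists_coordIdeal_unit_aux N e he hee
  have hR : ∀ {a : MonoidAlgebra F N}, emb N a * e = 0 → ∀ b, emb N (a * b) * e = 0 :=
    fun {a} ha b => by rw [emb_mul, mul_assoc, ← he, ← mul_assoc, ha, zero_mul]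
  have hkill : ∀ {a : MonoidAlgebra F N}, emb N a * e = 0 → ∀ t ∈ coordIdeal N e, a * t = 0 :=
    fun {a} ha t ht => kill_mul_coordIdeal N e (hR ha) ht
  have hk : emb N (1 - τ) * e = 0 := by
    rw [← embRing_apply, map_sub, map_one, sub_mul, one_mul, embRing_apply, hτe, sub_self]
  have hττ : τ * τ = τ := by
    have := hkill hk τ hτ
    rwa [sub_mul, one_mul, sub_eq_zero, eq_comm] at this
  have h1 : ∀ a, (1 - τ) * a * τ = 0 := fun a =>
    hkill (hR hk a) τ hτ
  have h2 : ∀ a, τ * a * (1 - τ) = 0 := by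
    intro a
    refine fn_ext fun n => ?_
    rw [fn_zero]
    have hswap : ∀ u v : MonoidAlgebra F N, fn (u * v) 1 = fn (v * u) 1 := fun u v => by
      rw [fn_mul, fn_mul]
      refine Fintype.sum_equiv (Equiv.inv N) _ _ fun t => ?_
      simp [mul_comm]
    have h3 : fn (τ * a * (1 - τ) * MonoidAlgebra.single n⁻¹ 1) 1 = 0 := by
      rw [mul_assoc, mul_assoc, hswap]
      have h4 : a * ((1 - τ) * MonoidAlgebra.single n⁻¹ 1) * τ = 0 := by
        rw [mul_assoc, h1, mul_zero]
      rw [h4, fn_zero]
    rw [fn_mul_single, inv_inv, one_mul, mul_one] at h3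
    exact h3
  refine ⟨τ, fun a => ?_, hττ, hτe, fun a ha => hkill ha τ hτ⟩
  have e1 := h1 a
  have e2 := h2 a
  simp only [sub_mul, one_mul, sub_eq_zero] at e1
  simp only [mul_sub, mul_one, sub_eq_zero] at e2
  rw [e2, e1]

end Abstract

variable {G : Type u} [Group G] [Fintype G] {M : Ideal AlgInt} {p : ℕ}

/-- A block idempotent of `G` does not annihilate the idempotent of a covered block, even modulo
`M`. -/
lemma bi_mul_red_ne_zero (hM : IsPModular p M) {N : Subgroup G} [N.Normal] [Fintype N]
    {B : Set (IrrCharacter G)} (hB : IsPBlock M B) {b : Set (IrrCharacter N)} (hb : IsPBlock M b)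
    (hcov : ∃ χ ∈ B, ∃ θ ∈ b, classInner (fun n : N => (χ : G → ℂ) n) (θ : N → ℂ) ≠ 0) :
    bi M N b * red M (blockElem B) ≠ 0 := by
  classical
  intro h0
  obtain ⟨χ, hχ, θ, hθ, hc⟩ := hcov
  have hcomm := (isCentralFn_blockElem B).comm (bx N b)
  have ha0 : bx N b * blockElem B = 0 := by
    refine eq_of_red_eq_of_idem ?_ (by rw [mul_zero]) (by rw [mul_zero, zero_mul])
      ((integral_bx hM hb).mul (integral_blockElem hM hB)) integral_zero ?_
    · rw [mul_assoc, ← mul_assoc (blockElem B), hcomm, mul_assoc (bx N b), blockElem_mul_self,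
        ← mul_assoc, bx_mul_self]
    · rw [red_mul (integral_bx hM hb) (integral_blockElem hM hB), red_bx, h0, red_zero]
  have h1 := chiEval_central_mul χ (isCentralFn_blockElem B) (bx N b)
  rw [hcomm, ha0, omega_blockElem, if_pos hχ, one_mul] at h1
  obtain ⟨m, hm⟩ := IsCharacter.exists_decomp (IsCharacter.restrict (isCharacter_of_irr χ.2) N)
  have h2 : chiEval (χ : G → ℂ) (bx N b) =
      ∑ ψ : IrrCharacter N, (m ψ : ℂ) * (if ψ ∈ b then (ψ : N → ℂ) 1 else 0) := by
    have e1 : chiEval (χ : G → ℂ) (bx N b) =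
        chiEval (fun n : N => (χ : G → ℂ) n) (blockElem b) := by
      rw [chiEval, chiEval, ← Finset.sum_filter_add_sum_filter_not Finset.univ (· ∈ N),
        Finset.sum_eq_zero (s := Finset.univ.filter fun t : G => ¬ t ∈ N)
          (fun t ht => by rw [suppOn_bx N b t (Finset.mem_filter.1 ht).2, zero_mul]), add_zero,
        Finset.sum_subtype (p := (· ∈ N)) (Finset.univ.filter (· ∈ N)) (fun g => by simp)]
      refine Finset.sum_congr rfl fun n _ => ?_
      rw [← resElem_bx N b, fn_resElem]
    have e2 : ∀ ψ : IrrCharacter N,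
        chiEval (ψ : N → ℂ) (blockElem b) = if ψ ∈ b then (ψ : N → ℂ) 1 else 0 := fun ψ => by
      have e3 := omega_blockElem b ψ
      rw [omega, div_eq_iff (IsIrrCharacter.apply_one_ne_zero ψ.2)] at e3
      rw [e3, ite_mul, one_mul, zero_mul]
    rw [e1, hm, ← Finset.sum_congr rfl fun ψ _ => congrArg (fun z => (m ψ : ℂ) * z) (e2 ψ)]
    simp only [chiEval, Finset.sum_apply, Finset.mul_sum, Pi.smul_apply, nsmul_eq_mul]
    rw [Finset.sum_comm]
    exact Finset.sum_congr rfl fun ψ _ => Finset.sum_congr rfl fun n _ => by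
      simp only [Pi.mul_apply, Pi.natCast_apply]; ring
  rw [h2, chiEval] at h1
  have h3 : ∑ ψ : IrrCharacter N, (m ψ * if ψ ∈ b then deg (ψ : N → ℂ) else 0 : ℕ) = 0 := by
    apply Nat.cast_injective (R := ℂ)
    rw [Nat.cast_zero, Nat.cast_sum]
    refine Eq.trans (Finset.sum_congr rfl fun ψ _ => ?_) (h1.symm.trans (by simp))
    rw [Nat.cast_mul, Nat.cast_ite, Nat.cast_zero, ← irr_apply_one_eq_deg]
  have h4 := (Finset.sum_eq_zero_iff.1 h3) θ (Finset.mem_univ _)
  rw [if_pos hθ, mul_eq_zero] at h4
  apply hc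
  rw [hm]
  simp only [← Nat.cast_smul_eq_nsmul ℂ]
  rw [classInner_irrSum (fun ψ => (m ψ : ℂ)) θ, Nat.cast_eq_zero]
  exact h4.resolve_right (deg_irr_pos θ).ne'

/-- **Every character of a covered block lies under the covering block.** -/
theorem exists_over_of_covers (hM : IsPModular p M) {N : Subgroup G} [N.Normal] [Fintype N]
    {B : Set (IrrCharacter G)} (hB : IsPBlock M B) {b : Set (IrrCharacter N)} (hb : IsPBlock M b)
    (hcov : ∃ χ ∈ B, ∃ θ ∈ b, classInner (fun n : N => (χ : G → ℂ) n) (θ : N → ℂ) ≠ 0)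
    {θ : IrrCharacter N} (hθ : θ ∈ b) :
    ∃ χ ∈ B, classInner (fun n : N => (χ : G → ℂ) n) (θ : N → ℂ) ≠ 0 := by
  classical
  by_contra hno
  push Not at hno
  -- the idempotent of `θ` is orthogonal to `B`
  have hz : bx N (orb N {θ}) * blockElem B = 0 :=
    eq_zero_of_omega_eq_zero ((isCentralFn_bx_orb {θ}).mul (isCentralFn_blockElem B)) fun χ => by
      rw [omega_mul χ (isCentralFn_bx_orb {θ}), omega_blockElem]
      by_cases hχ : χ ∈ B
      · obtain ⟨ψ, hψ⟩ := exists_irr_constituent N χ
        rw [omega_bx_of_constituent (image_cjIrr_orb N {θ}) χ ψ hψ, if_neg, zero_mul]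
        rintro ⟨g, θ', hθ', rfl⟩
        rw [Set.mem_singleton_iff] at hθ'
        subst hθ'
        have h := constituent_cjIrr hψ g⁻¹
        rw [← cjIrr_mul, mul_inv_cancel, cjIrr_one] at h
        exact h (hno χ hχ)
      · rw [if_neg hχ, mul_zero]
  have hθz : bx N {θ} * bx N (orb N {θ}) = bx N {θ} := by
    rw [bx_eq_extElem, bx_eq_extElem, extElem_mul]
    congr 1
    refine eq_of_omega_eq ((isCentralFn_blockElem _).mul (isCentralFn_blockElem _))
      (isCentralFn_blockElem _) fun ψ => ?_
    rw [omega_mul ψ (isCentralFn_blockElem _), omega_blockElem, omega_blockElem]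
    by_cases h : ψ ∈ ({θ} : Set (IrrCharacter N))
    · rw [if_pos h, one_mul, if_pos (subset_orb N {θ} h)]
    · rw [if_neg h, zero_mul]
  have hfB : bx N {θ} * blockElem B = 0 := by rw [← hθz, mul_assoc, hz, mul_zero]
  -- a primitive integral multiple
  set a₀ := blockElem ({θ} : Set (IrrCharacter N)) with ha₀
  obtain ⟨g₀, -, hg₀⟩ := Finset.exists_max_image Finset.univ
    (fun n => (place M).valuation (fn a₀ n)) ⟨1, Finset.mem_univ _⟩
  have hne : fn a₀ g₀ ≠ 0 := by
    intro h
    have hall : a₀ = 0 := fn_ext fun n => by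
      have := hg₀ n (Finset.mem_univ _)
      rw [h, map_zero, le_zero_iff, map_eq_zero] at this
      rw [this, fn_zero]
    have := omega_blockElem ({θ} : Set (IrrCharacter N)) θ
    rw [← ha₀, hall, omega_zero, if_pos (Set.mem_singleton θ)] at this
    exact zero_ne_one this
  set a := (fn a₀ g₀)⁻¹ • a₀ with ha
  have hai : Integral M a := fun n => by
    rw [ha, fn_smul, ← ValuationSubring.valuation_le_one_iff, map_mul, map_inv₀]
    exact inv_mul_le_one_of_le₀ (hg₀ n (Finset.mem_univ _)) zero_le'
  have hag : fn a g₀ = 1 := by rw [ha, fn_smul, inv_mul_cancel₀ hne]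
  have haB : emb N (red M a) * red M (blockElem B) = 0 := by
    rw [emb_red, rx, ← red_mul hai.extElem (integral_blockElem hM hB),
      show extElem N a = (fn a₀ g₀)⁻¹ • bx N {θ} from ?_, smul_mul_assoc, hfB, smul_zero, red_zero]
    refine fn_ext fun g => ?_
    rw [fn_smul, bx_eq_extElem]
    by_cases hg : g ∈ N
    · rw [fn_extElem_mem N _ hg, fn_extElem_mem N _ hg, ha, fn_smul]
    · rw [fn_extElem_not_mem N _ hg, fn_extElem_not_mem N _ hg, mul_zero]
  have hab : a * blockElem b = a := by
    rw [ha, smul_mul_assoc]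
    congr 1
    refine eq_of_omega_eq ((isCentralFn_blockElem _).mul (isCentralFn_blockElem _))
      (isCentralFn_blockElem _) fun ψ => ?_
    rw [omega_mul ψ (isCentralFn_blockElem _), omega_blockElem, omega_blockElem]
    by_cases h : ψ ∈ ({θ} : Set (IrrCharacter N))
    · rw [if_pos h, one_mul, if_pos ((Set.mem_singleton_iff.1 h).symm ▸ hθ)]
    · rw [if_neg h, zero_mul]
  have hec : ∀ x, red M (blockElem B) * x = x * red M (blockElem B) := fun x =>
    (isCentralFn_blockElem B).red.comm x
  obtain ⟨τ, hτc, hττ, hτe, hτkill⟩ := exists_coordIdeal_unit N (red M (blockElem B)) hec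
    (by rw [← red_mul (integral_blockElem hM hB) (integral_blockElem hM hB), blockElem_mul_self])
  have hτb : emb N τ * bi M N b = bi M N b := by
    refine (mul_bi_eq_or hM (suppOn_emb N τ) (fun h hh g => ?_)
      (by rw [← emb_mul, hττ]) hb).resolve_right fun h0 => bi_mul_red_ne_zero hM hB hb hcov ?_
    · by_cases hg : g ∈ N
      · rw [fn_emb_mem N _ hg, fn_emb_mem N _ (N.mul_mem (N.mul_mem hh hg) (N.inv_mem hh))]
        have := congrArg (fun z => fn z ((⟨h, hh⟩ : N) * ⟨g, hg⟩))
          (hτc (MonoidAlgebra.single (⟨h, hh⟩ : N) 1))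
        simp only [fn_single_mul, fn_mul_single, one_mul, mul_one, inv_mul_cancel_left] at this
        exact this
      · rw [fn_emb_not_mem N _ hg, fn_emb_not_mem N _ fun h' => hg ?_]
        have := N.mul_mem (N.mul_mem (N.inv_mem hh) h') hh
        rwa [show h⁻¹ * (h * g * h⁻¹) * h = g by group] at this
    · have hbτ : emb N τ * bi M N b = bi M N b * emb N τ := by
        rw [← emb_red_blockElem, ← emb_mul, ← emb_mul, hτc]
      rw [← hτe, ← mul_assoc, ← hbτ, h0, zero_mul]
  have h1 : emb N (red M a) = 0 := by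
    calc emb N (red M a) = emb N (red M a) * bi M N b := by
          rw [← emb_red_blockElem, ← emb_mul, ← red_mul hai (integral_blockElem hM hb), hab]
      _ = emb N (red M a) * (emb N τ * bi M N b) := by rw [hτb]
      _ = 0 := by rw [← mul_assoc, ← emb_mul, hτkill _ haB, emb_zero, zero_mul]
  have h2 := congrArg (fun z => fn z (g₀ : G)) h1
  simp only [fn_emb_coe, fn_red, hag, res_one, fn_zero] at h2
  exact one_ne_zero h2

end Cfsg.Lib.Blocks
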