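import Mathlib
import Cfsg.Agent.Blocks.Feit2
import Cfsg.Agent.Blocks.Columns
import Cfsg.Agent.Blocks.InducedDefect
import Cfsg.Agent.Blocks.Maximal
import Cfsg.Agent.Blocks.FirstMain

/-!
# Two-blocks of defect one
-/

set_option autoImplicit false
set_option linter.unusedSectionVars false

namespace Cfsg.Lib.Blocks

open Cfsg.Lib.Chars
open scoped ComplexConjugate

universe u

local notation "C⟨" P "⟩" => Subgroup.centralizer (SetLike.coe P)

variable {G : Type u} [Group G] [Fintype G] {M : Ideal AlgInt}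

/-- Two coprime positive numbers whose squares add up to a power of two are equal. -/
lemma eq_of_sq_add_sq_dvd {a : ℕ} {A U V : ℕ} (hU : 0 < U) (hV : 0 < V)
    (h : A * (U ^ 2 + V ^ 2) = 2 ^ a * U ^ 2) : U = V := by
  obtain ⟨g, u, v, hg, hcop, rfl, rfl⟩ := Nat.exists_coprime' (Nat.gcd_pos_of_pos_left V hU)
  have hu : 0 < u := by rcases Nat.eq_zero_or_pos u with h0 | h0 <;> simp_all
  have hv : 0 < v := by rcases Nat.eq_zero_or_pos v with h0 | h0 <;> simp_all
  have h1 : A * (u ^ 2 + v ^ 2) = 2 ^ a * u ^ 2 := by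
    refine mul_right_cancel₀ (pow_ne_zero 2 hg.ne') ?_
    linear_combination h
  have h2 : Nat.Coprime (u ^ 2 + v ^ 2) (u ^ 2) :=
    Nat.coprime_self_add_left.2 ((hcop.symm.pow_left 2).pow_right 2)
  have h3 : u ^ 2 + v ^ 2 ∣ 2 ^ a := h2.dvd_of_dvd_mul_right (Dvd.intro_left A h1)
  obtain ⟨j, -, hj⟩ := (Nat.dvd_prime_pow Nat.prime_two).1 h3
  rcases j with _ | _ | j
  · simp at hj; nlinarith
  · simp at hj
    have : u = 1 := by nlinarith
    have : v = 1 := by nlinarith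
    subst_vars; rfl
  · exfalso
    have h4 : (4 : ℕ) ∣ u ^ 2 + v ^ 2 := by rw [hj, pow_succ, pow_succ]; exact Dvd.intro_left (2 ^ j) (by ring)
    have hmod : (u ^ 2 + v ^ 2) % 4 = 0 := Nat.mod_eq_zero_of_dvd h4
    rw [Nat.add_mod, Nat.pow_mod u, Nat.pow_mod v] at hmod
    have hu4 := Nat.mod_lt u (show 4 > 0 by norm_num)
    have hv4 := Nat.mod_lt v (show 4 > 0 by norm_num)
    have hodd : ¬ (2 ∣ u ∧ 2 ∣ v) := fun ⟨x, y⟩ => Nat.not_coprime_of_dvd_of_dvd one_lt_two x y hcop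
    interval_cases hx : u % 4 <;> interval_cases hy : v % 4 <;>
      first | (simp at hmod; done) | (exact hodd ⟨by omega, by omega⟩)

/-- **A 2-block of defect one.** -/
theorem defect_one_two (hM : IsPModular 2 M) {B : Set (IrrCharacter G)} (hB : IsPBlock M B)
    (hd : blockDefect 2 B = 1) :
    ∃ χ ψ : IrrCharacter G, χ ≠ ψ ∧ (∀ φ, φ ∈ B ↔ φ = χ ∨ φ = ψ) ∧
      (∀ g : G, ¬ 2 ∣ orderOf g → (χ : G → ℂ) g = (ψ : G → ℂ) g) ∧
      ∀ g : G, 2 ∣ orderOf g → (χ : G → ℂ) g + (ψ : G → ℂ) g = 0 := by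
  classical
  haveI := Fact.mk hM.1
  obtain ⟨χ, hχ, h0⟩ := exists_height_zero hM hB
  obtain ⟨D, hD⟩ := exists_defectGroup hM hB
  obtain ⟨g₀, hg₀, S, hDS⟩ := id hD
  have hDc : Nat.card D = 2 := by rw [IsDefectGroup.card hM hB hD, hd, pow_one]
  obtain ⟨z, hz1⟩ : ∃ z : D, z ≠ 1 := by
    haveI : Nontrivial D := Finite.one_lt_card_iff_nontrivial.1 (by omega)
    exact exists_ne 1
  have hzp := exists_orderOf_eq_of_mem hM.1 (IsDefectGroup.isPGroup hD) z.2
  have hzg : Commute (z : G) g₀ :=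
    Subgroup.mem_centralizer_singleton_iff.1
      (Subgroup.map_subtype_le _ ((SetLike.ext_iff.1 hDS (z : G)).1 z.2))
  set s₀ : G := (z : G) * g₀
  have hunit := isUnitAt_apply_mul_defectClass hM hB hg₀ hχ h0 hzg hzp
  have hreg₀ := not_dvd_orderOf_of_not_small hM hB ((isDefectClass_iff hM hB g₀).1 hg₀).1
  have hs₀ : 2 ∣ orderOf s₀ := by
    by_contra h
    have h1 : IsPPart 2 s₀ 1 := (isPPart_one_iff hM.1).2 h
    exact hz1 (Subtype.ext (IsPPart.eq hM.1 (isPPart_mul hzg hzp hreg₀) h1))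
  have hχs : (χ : G → ℂ) s₀ ≠ 0 := fun h => hunit.not_small (by rw [h]; exact small_zero)
  -- the coefficients
  set r : ℂ := classInner (pRegularPart 2 (χ : G → ℂ)) (χ : G → ℂ) with hr
  have h2a : ((2 : ℕ) : ℂ) ^ (Nat.card G).factorization 2 ≠ 0 := pow_ne_zero _ (by norm_num)
  have hr0 : r ≠ 0 := fun h => by
    have h1 := regInt_self_pos hM.1 χ
    have h2 := regInt_spec hM.1 χ χ
    rw [← hr, h, mul_zero, Int.cast_eq_zero] at h2
    omega
  have hcard : Nat.card B ≤ 2 := by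
    have h := four_mul_card_le hM hB
    rw [hd] at h
    omega
  have hid : ∀ g, pRegularPart 2 (χ : G → ℂ) g = r * (χ : G → ℂ) g +
      ∑ φ ∈ (Finset.univ.filter (· ∈ B)).erase χ,
        classInner (pRegularPart 2 (χ : G → ℂ)) (φ : G → ℂ) * (φ : G → ℂ) g := fun g => by
    conv_lhs => rw [← blockPart_pRegularPart hM hB hχ, blockPart_eq_sum,
      ← Finset.add_sum_erase _ _ (show χ ∈ Finset.univ.filter (· ∈ B) by simp [hχ])]
  obtain ⟨ψ, hψ⟩ : ∃ ψ, ψ ∈ (Finset.univ.filter (· ∈ B)).erase χ := by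
    by_contra hc
    push Not at hc
    have h := hid s₀
    rw [Finset.eq_empty_of_forall_notMem hc, Finset.sum_empty, add_zero, pRegularPart_apply,
      if_pos hs₀] at h
    exact mul_ne_zero hr0 hχs h.symm
  have herase : (Finset.univ.filter (· ∈ B)).erase χ = {ψ} := by
    refine (Finset.eq_singleton_iff_unique_mem).2 ⟨hψ, fun φ hφ => ?_⟩
    have h1 : ((Finset.univ.filter (· ∈ B)).erase χ).card ≤ 1 := by
      rw [Finset.card_erase_of_mem (by simp [hχ]), ← natCard_eq_filter]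
      omega
    exact Finset.card_le_one.1 h1 φ hφ ψ hψ
  have hψB : ψ ∈ B := (Finset.mem_filter.1 (Finset.mem_of_mem_erase hψ)).2
  have hne : χ ≠ ψ := (Finset.ne_of_mem_erase hψ).symm
  set s : ℂ := classInner (pRegularPart 2 (χ : G → ℂ)) (ψ : G → ℂ) with hs
  have hid' : ∀ g, pRegularPart 2 (χ : G → ℂ) g = r * (χ : G → ℂ) g + s * (ψ : G → ℂ) g :=
    fun g => by rw [hid g, herase, Finset.sum_singleton]
  have hs0 : s ≠ 0 := fun h => by
    have h1 := hid' s₀
    rw [pRegularPart_apply, if_pos hs₀, h, zero_mul, add_zero] at h1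
    exact mul_ne_zero hr0 hχs h1.symm
  set c : ℂ := (1 - r) / s with hc
  have hreg : ∀ g, ¬ 2 ∣ orderOf g → (ψ : G → ℂ) g = c * (χ : G → ℂ) g := fun g hg => by
    have h1 := hid' g
    rw [pRegularPart_apply, if_neg hg] at h1
    rw [hc, div_mul_eq_mul_div, eq_div_iff hs0]
    linear_combination -h1
  have hd1 : ¬ 2 ∣ orderOf (1 : G) := by rw [orderOf_one]; norm_num
  have hU : (deg (χ : G → ℂ) : ℂ) ≠ 0 := Nat.cast_ne_zero.2 (deg_irr_pos χ).ne'
  have hcval : c = (deg (ψ : G → ℂ) : ℂ) / (deg (χ : G → ℂ) : ℂ) := by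
    rw [eq_div_iff hU, ← irr_apply_one_eq_deg, ← irr_apply_one_eq_deg, hreg 1 hd1]
  have hsr : s = c * r := by
    rw [hs, hr, classInner_def, classInner_def, mul_left_comm c, Finset.mul_sum _ _ c]
    congr 1
    refine Finset.sum_congr rfl fun g _ => ?_
    rw [pRegularPart_apply]
    split_ifs with hg
    · simp
    · rw [hreg g hg, map_mul, hcval, map_div₀, Complex.conj_natCast, Complex.conj_natCast]
      ring
  have hUV : deg (χ : G → ℂ) = deg (ψ : G → ℂ) := by
    set U := deg (χ : G → ℂ)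
    set V := deg (ψ : G → ℂ)
    have hA := regInt_self_pos hM.1 χ
    refine eq_of_sq_add_sq_dvd (a := (Nat.card G).factorization 2)
      (A := (regInt 2 χ χ).natAbs) (deg_irr_pos χ) (deg_irr_pos ψ) ?_
    have hA' : (((regInt 2 χ χ).natAbs : ℕ) : ℂ) = (regInt 2 χ χ : ℂ) := by
      rw [← Int.cast_natCast, Int.natAbs_of_nonneg hA.le]
    have h1 : s * c = 1 - r := by rw [hc]; field_simp
    have h3 : r * ((U : ℂ) ^ 2 + (V : ℂ) ^ 2) = (U : ℂ) ^ 2 := by
      rw [hsr, hcval] at h1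
      field_simp at h1
      linear_combination h1
    apply Nat.cast_injective (R := ℂ)
    push_cast
    rw [hA', regInt_spec hM.1, ← hr, mul_assoc, h3, Nat.cast_two]
  have hc1 : c = 1 := by rw [hcval, hUV, div_self]; rwa [← hUV]
  have hr2 : r = s := by rw [hsr, hc1, one_mul]
  refine ⟨χ, ψ, hne, fun φ => ⟨fun hφ => ?_, ?_⟩, fun g hg => by rw [hreg g hg, hc1, one_mul],
    fun g hg => ?_⟩
  · by_cases h : φ = χ
    · exact Or.inl h
    · refine Or.inr ?_
      have : φ ∈ (Finset.univ.filter (· ∈ B)).erase χ := by simp [h, hφ]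
      rw [herase, Finset.mem_singleton] at this
      exact this
  · rintro (rfl | rfl)
    · exact hχ
    · exact hψB
  · have h1 := hid' g
    rw [pRegularPart_apply, if_pos hg, ← hr2, ← mul_add] at h1
    exact (mul_eq_zero.1 h1.symm).resolve_left hr0

lemma blockDefect_eq_one_of_card (hM : IsPModular 2 M) {B : Set (IrrCharacter G)}
    (hB : IsPBlock M B) {x : G} (hx : orderOf x = 2)
    (hD : IsDefectGroup 2 M B (Subgroup.zpowers x)) : blockDefect 2 B = 1 := by
  have h := IsDefectGroup.card hM hB hD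
  rw [Nat.card_zpowers, hx] at h
  exact Nat.pow_right_injective le_rfl (show 2 ^ blockDefect 2 B = 2 ^ 1 by rw [← h, pow_one])

lemma br_bi_centralizer (Q : Subgroup G) (b : Set (IrrCharacter C⟨Q⟩)) :
    br Q (bi M C⟨Q⟩ b) = bi M C⟨Q⟩ b := fn_ext fun g => by
  by_cases hg : g ∈ C⟨Q⟩
  · rw [br, fn_trunc_mem _ hg]
  · rw [suppOn_br Q _ g hg, suppOn_bi b g hg]

/-- Only one block of the centraliser of the defect group of order two induces the block. -/
theorem eq_of_isInducedBlock_centralizer (hM : IsPModular 2 M) {x : G} (hx : orderOf x = 2)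
    {B : Set (IrrCharacter G)} (hD : IsDefectGroup 2 M B (Subgroup.zpowers x))
    {H : Subgroup G} [Fintype H] (hH : H = Subgroup.centralizer (Subgroup.zpowers x : Set G))
    {b b' : Set (IrrCharacter H)} (hb : IsInducedBlock M H b B)
    (hb' : IsInducedBlock M H b' B) : b = b' := by
  classical
  haveI := Fact.mk hM.1
  subst hH
  have hQ : IsPGroup 2 (Subgroup.zpowers x) := IsDefectGroup.isPGroup hD
  have hQH : Subgroup.zpowers x ≤ C⟨Subgroup.zpowers x⟩ := fun y hy => by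
    rw [Subgroup.mem_centralizer_iff]
    intro z hz
    obtain ⟨i, rfl⟩ := Subgroup.mem_zpowers_iff.1 hy
    obtain ⟨j, rfl⟩ := Subgroup.mem_zpowers_iff.1 hz
    exact ((Commute.refl x).zpow_zpow j i).eq
  have hp : ∀ c : Set (IrrCharacter C⟨Subgroup.zpowers x⟩),
      IsInducedBlock M C⟨Subgroup.zpowers x⟩ c B → IsBrauerPairOf 2 M B (Subgroup.zpowers x) c :=
    fun c hc => pair_of_isInducedBlock hM hQH le_rfl hc.1 ⟨hQ, hc.1⟩
      (by rw [br_bi_centralizer, bi_mul_self hM hc.1]) hc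
  obtain ⟨y, hy, hcj⟩ := exists_normalizer_cj hM
    (isMaximal_of_isDefectGroup hM (hp b hb) hD) (hp b' hb')
  have hyx : y * x * y⁻¹ = x := by
    have h1 : y * x * y⁻¹ ∈ Subgroup.zpowers x :=
      (Subgroup.mem_normalizer_iff.1 hy x).1 (Subgroup.mem_zpowers x)
    obtain ⟨i, hi⟩ := Subgroup.mem_zpowers_iff.1 h1
    have ho : orderOf (y * x * y⁻¹) = 2 := by
      have h0 : orderOf (y * x * y⁻¹) = orderOf x :=
        orderOf_injective (MulAut.conj y).toMonoidHom (MulAut.conj y).injective x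
      rw [h0, hx]
    rcases Int.even_or_odd i with ⟨j, rfl⟩ | ⟨j, rfl⟩
    · rw [← hi, ← two_mul, zpow_mul, zpow_two, ← pow_two, ← hx, pow_orderOf_eq_one, one_zpow,
        orderOf_one] at ho
      omega
    · rw [← hi, zpow_add, zpow_mul, zpow_two, ← pow_two, ← hx, pow_orderOf_eq_one, one_zpow,
        one_mul, zpow_one]
  have hyC : y ∈ C⟨Subgroup.zpowers x⟩ := by
    rw [centralizer_zpowers, Subgroup.mem_centralizer_singleton_iff]
    exact mul_inv_eq_iff_eq_mul.1 hyx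
  refine bi_injective hM hb.1 hb'.1 ?_
  rw [← hcj]
  refine fn_ext fun g => ?_
  rw [fn_cj]
  have := invOn_bi (M := M) b y⁻¹ (inv_mem hyC) g
  simpa using this.symm

/-- **The values of a 2-block of defect one.** -/
theorem defect_one_two_values (hM : IsPModular 2 M) {x : G} (hx : orderOf x = 2)
    {B : Set (IrrCharacter G)} (hB : IsPBlock M B)
    (hBD : IsDefectGroup 2 M B (Subgroup.zpowers x)) {H : Subgroup G} [Fintype H]
    (hH : H = Subgroup.centralizer (Subgroup.zpowers x : Set G)) {b : Set (IrrCharacter H)}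
    (hb : IsInducedBlock M H b B) {θ : IrrCharacter H} (hθ : θ ∈ b) :
    ∃ χ₁ ∈ B, ∃ χ₂ ∈ B, χ₁ ≠ χ₂ ∧ ∃ ε₁ ε₂ : ℤ, (ε₁ = 1 ∨ ε₁ = -1) ∧ (ε₂ = 1 ∨ ε₂ = -1) ∧
      ε₁ * ε₂ = -1 ∧ ∀ y : H, ¬ 2 ∣ orderOf y →
        ((χ₁ : IrrCharacter G) : G → ℂ) (x * y) = (ε₁ : ℂ) * (θ : H → ℂ) y ∧
        ((χ₂ : IrrCharacter G) : G → ℂ) (x * y) = (ε₂ : ℂ) * (θ : H → ℂ) y := by
  classical
  haveI := Fact.mk hM.1
  have hd := blockDefect_eq_one_of_card hM hB hx hBD
  obtain ⟨χ, ψ, hne, hmem, hreg, hsing⟩ := defect_one_two hM hB hd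
  have hbd : blockDefect 2 b = 1 := by
    obtain ⟨D, hD⟩ := exists_defectGroup hM hb.1
    obtain ⟨E, hE, hle⟩ := exists_defectGroup_ge_of_induced hM H hb hD
    have h1 := Subgroup.card_le_of_le hle
    rw [Subgroup.card_subtype, IsDefectGroup.card hM hb.1 hD, IsDefectGroup.card hM hB hE, hd] at h1
    have h2 : blockDefect 2 b ≠ 0 := fun h => by
      rw [induced_defect_zero_iff hM hb] at h; omega
    have h3 := (Nat.pow_le_pow_iff_right one_lt_two).1 h1
    omega
  obtain ⟨η, η', -, hηmem, hηreg, -⟩ := defect_one_two hM hb.1 hbd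
  have hx' : ∃ k : ℕ, orderOf x = 2 ^ k := ⟨1, by rw [hx, pow_one]⟩
  have hfilter : (blocksFinset M H).filter (fun c => IsInducedBlock M H c B) = {b} := by
    ext c
    rw [Finset.mem_filter, Finset.mem_singleton, mem_blocksFinset hM]
    exact ⟨fun h => (eq_of_isInducedBlock_centralizer hM hx hBD hH hb h.2).symm,
      fun h => h ▸ ⟨hb.1, hb⟩⟩
  have hθreg : ∀ φ ∈ b, ∀ y : H, ¬ 2 ∣ orderOf y →
      ((φ : IrrCharacter H) : H → ℂ) y = (θ : H → ℂ) y := by
    intro φ hφ y hy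
    rcases (hηmem φ).1 hφ with rfl | rfl <;> rcases (hηmem θ).1 hθ with rfl | rfl
    · rfl
    · exact hηreg y hy
    · exact (hηreg y hy).symm
    · rfl
  have hpart : ∀ φ : IrrCharacter G, φ ∈ B → ∃ ω : ℂ, ∀ y : H, ¬ 2 ∣ orderOf y →
      (φ : G → ℂ) (x * (y : G)) = ω * (θ : H → ℂ) y := by
    intro φ hφ
    refine ⟨∑ η ∈ Finset.univ.filter (· ∈ b),
      classInner (fun c : H => (φ : G → ℂ) (x * (c : G))) (η : H → ℂ), fun y hy => ?_⟩
    rw [apply_mul_eq_sum_blockPart hM hx' hH hB hφ hy, hfilter, Finset.sum_singleton,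
      blockPart_eq_sum, Finset.sum_mul]
    exact Finset.sum_congr rfl fun η hη => by rw [hθreg η (Finset.mem_filter.1 hη).2 y hy]
  have hsing' : ∀ y : H, ¬ 2 ∣ orderOf y → 2 ∣ orderOf (x * (y : G)) := by
    intro y hy
    by_contra h
    have h1 := isPPart_mul (commute_of_mem_centralizer hH y.2) hx'
      (show ¬ 2 ∣ orderOf (y : G) by rwa [Subgroup.orderOf_coe])
    have h2 := IsPPart.eq hM.1 h1 ((isPPart_one_iff hM.1).2 h)
    rw [h2, orderOf_one] at hx
    omega
  obtain ⟨ω, hω⟩ := hpart χ ((hmem χ).2 (Or.inl rfl))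
  have hψval : ∀ y : H, ¬ 2 ∣ orderOf y → (ψ : G → ℂ) (x * (y : G)) = -ω * (θ : H → ℂ) y :=
    fun y hy => by
      have := hsing _ (hsing' y hy)
      rw [hω y hy] at this
      linear_combination this
  have hone : ¬ 2 ∣ orderOf (1 : H) := by rw [orderOf_one]; norm_num
  have hnorm : (colKer B (x * ((1 : H) : G)) (x * ((1 : H) : G))) =
      (colKer b (1 : H) (1 : H)) := by
    rw [colKer_section hM hx' hH hB hone hone, hfilter, Finset.sum_singleton]
  have hBset : Finset.univ.filter (· ∈ B) = {χ, ψ} := by ext φ; simp [hmem φ]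
  have hbset : (Finset.univ.filter (· ∈ b)).card = 2 := by
    obtain ⟨η₁, η₂, hne', hm, -⟩ := defect_one_two hM hb.1 hbd
    rw [show Finset.univ.filter (· ∈ b) = {η₁, η₂} by ext φ; simp [hm φ], Finset.card_pair hne']
  rw [colKer_eq, colKer_eq, hBset, Finset.sum_pair hne, hω 1 hone, hψval 1 hone,
    Finset.sum_congr rfl fun η hη => by rw [hθreg η (Finset.mem_filter.1 hη).2 1 hone],
    Finset.sum_const, hbset, irr_apply_one_eq_deg, map_mul, map_mul, map_neg, Complex.conj_natCast,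
    nsmul_eq_mul] at hnorm
  have hwc : conj ω = ω := by
    have h1 := hω 1 hone
    rw [OneMemClass.coe_one, mul_one, irr_apply_one_eq_deg] at h1
    have hxinv : x⁻¹ = x := by
      rw [inv_eq_iff_mul_eq_one, ← pow_two, ← hx]
      exact pow_orderOf_eq_one x
    have h2 : conj ((χ : G → ℂ) x) = (χ : G → ℂ) x := by
      rw [← IsCharacter.conj_inv (isCharacter_of_irr χ.2), hxinv]
    rw [h1, map_mul, Complex.conj_natCast] at h2
    exact mul_right_cancel₀ (Nat.cast_ne_zero.2 (deg_irr_pos θ).ne') h2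
  rw [hwc] at hnorm
  have hsq : ω * ω = 1 := by
    refine mul_right_cancel₀ (mul_ne_zero (two_ne_zero' ℂ)
      (pow_ne_zero 2 (Nat.cast_ne_zero.2 (deg_irr_pos θ).ne' : (deg (θ : H → ℂ) : ℂ) ≠ 0))) ?_
    push_cast at hnorm
    linear_combination hnorm
  rcases mul_self_eq_one_iff.1 hsq with h | h
  · exact ⟨χ, (hmem χ).2 (Or.inl rfl), ψ, (hmem ψ).2 (Or.inr rfl), hne, 1, -1, Or.inl rfl,
      Or.inr rfl, by norm_num, fun y hy => ⟨by rw [hω y hy, h]; simp,
        by rw [hψval y hy, h]; simp⟩⟩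
  · exact ⟨χ, (hmem χ).2 (Or.inl rfl), ψ, (hmem ψ).2 (Or.inr rfl), hne, -1, 1, Or.inr rfl,
      Or.inl rfl, by norm_num, fun y hy => ⟨by rw [hω y hy, h]; simp,
        by rw [hψval y hy, h]; simp⟩⟩

end Cfsg.Lib.Blocks
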