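import Mathlib
import Cfsg.Agent.Blocks.Feit
import Cfsg.Agent.Blocks.Orth2
import Cfsg.Agent.Blocks.Defect2

/-!
# Blocks of regular rank one
-/

set_option autoImplicit false
set_option linter.unusedSectionVars false
set_option linter.style.haveILetI false

namespace Cfsg.Lib.Blocks

open Cfsg.Lib.Chars
open scoped ComplexConjugate

universe u

variable {G : Type u} [Group G] [Fintype G] {p : ℕ} [hp : Fact p.Prime] {M : Ideal AlgInt}

/-- Bézout over a finite family. -/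
theorem exists_bezout_sum {ι : Type*} [DecidableEq ι] (f : ι → ℕ) (S : Finset ι) :
    ∃ n : ι → ℤ, ∑ i ∈ S, n i * (f i : ℤ) = (S.gcd f : ℕ) := by
  induction S using Finset.induction with
  | empty => exact ⟨0, by simp⟩
  | insert a T ha ih =>
    obtain ⟨n, hn⟩ := ih
    refine ⟨Function.update (fun i => Nat.gcdB (f a) (T.gcd f) * n i) a (Nat.gcdA (f a) (T.gcd f)), ?_⟩
    rw [Finset.sum_insert ha, Finset.gcd_insert, Function.update_self,
      Finset.sum_congr rfl (g := fun i => Nat.gcdB (f a) (T.gcd f) * (n i * (f i : ℤ))) fun i hi => by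
        rw [Function.update_of_ne (fun h : i = a => ha (h ▸ hi))]; ring,
      ← Finset.mul_sum, hn, show (GCDMonoid.gcd (f a) (T.gcd f) : ℕ) = Nat.gcd (f a) (T.gcd f) from rfl,
      Nat.gcd_eq_gcd_ab]
    ring

/-- A block of regular rank one: the regular parts are multiples of one function. -/
theorem exists_of_blockRank_one (hM : IsPModular p M) {B : Set (IrrCharacter G)}
    (hB : IsPBlock M B) (hl : blockRank p B = 1) :
    ∃ φ : G → ℂ, ∃ d : IrrCharacter G → ℕ,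
      (∃ n : IrrCharacter G → ℤ, ∀ x : G, IsPRegular p x →
        φ x = ∑ᶠ ψ ∈ B, (n ψ : ℂ) * (ψ : G → ℂ) x) ∧
      (∀ χ ∈ B, ∀ x : G, IsPRegular p x → (χ : G → ℂ) x = (d χ : ℂ) * φ x) ∧
      ∑ᶠ χ ∈ B, d χ ^ 2 = p ^ blockDefect p B := by
  classical
  set S := Finset.univ.filter (· ∈ B) with hS
  have hmS : ∀ χ, χ ∈ S ↔ χ ∈ B := fun χ => by simp [hS]
  obtain ⟨χ₀, hχ₀, h00⟩ := exists_height_zero hM hB
  -- proportionality
  have hd0 : (deg (χ₀ : G → ℂ) : ℂ) ≠ 0 := Nat.cast_ne_zero.2 (deg_irr_pos χ₀).ne'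
  have hprop : ∀ χ ∈ B, ∀ x : G,
      (deg (χ₀ : G → ℂ) : ℂ) * pRegularPart p (χ : G → ℂ) x =
        (deg (χ : G → ℂ) : ℂ) * pRegularPart p (χ₀ : G → ℂ) x := by
    intro χ hχ x
    set V := Submodule.span ℂ ((fun χ : IrrCharacter G => pRegularPart p (χ : G → ℂ)) '' B)
    have hmem : ∀ ψ ∈ B, pRegularPart p (ψ : G → ℂ) ∈ V := fun ψ hψ =>
      Submodule.subset_span ⟨ψ, hψ, rfl⟩
    have hone : ∀ ψ : IrrCharacter G, pRegularPart p (ψ : G → ℂ) 1 = (deg (ψ : G → ℂ) : ℂ) := fun ψ => by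
      rw [pRegularPart_apply, if_neg (by rw [orderOf_one]; exact hp.out.not_dvd_one),
        irr_apply_one_eq_deg]
    have hne : (⟨_, hmem χ₀ hχ₀⟩ : V) ≠ 0 := fun h => hd0 (by
      rw [← hone, show pRegularPart p (χ₀ : G → ℂ) = 0 from congrArg Subtype.val h]; rfl)
    obtain ⟨c, hc⟩ := exists_smul_eq_of_finrank_eq_one (show Module.finrank ℂ V = 1 from hl) hne
      ⟨_, hmem χ hχ⟩
    have hc' : c • pRegularPart p (χ₀ : G → ℂ) = pRegularPart p (χ : G → ℂ) :=
      congrArg Subtype.val hc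
    rw [← hone χ, ← hc', Pi.smul_apply, Pi.smul_apply, smul_eq_mul, smul_eq_mul, hone]
    ring
  obtain ⟨n, hn⟩ := exists_bezout_sum (fun χ : IrrCharacter G => deg (χ : G → ℂ)) S
  set g := S.gcd (fun χ : IrrCharacter G => deg (χ : G → ℂ)) with hg
  set d := fun χ : IrrCharacter G => deg (χ : G → ℂ) / g with hd
  have hgd : ∀ χ ∈ B, g ∣ deg (χ : G → ℂ) := fun χ hχ => Finset.gcd_dvd ((hmS χ).2 hχ)
  have hg0 : g ≠ 0 := fun h => (deg_irr_pos χ₀).ne' (by simpa [h] using hgd χ₀ hχ₀)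
  have hdg : ∀ χ ∈ B, d χ * g = deg (χ : G → ℂ) := fun χ hχ => Nat.div_mul_cancel (hgd χ hχ)
  have hd00 : (d χ₀ : ℂ) ≠ 0 := Nat.cast_ne_zero.2 fun h =>
    (deg_irr_pos χ₀).ne' (by rw [← hdg χ₀ hχ₀, h, zero_mul])
  have hsum : ∑ χ ∈ S, (n χ : ℂ) * (d χ : ℂ) = 1 := by
    have h : ((∑ χ ∈ S, n χ * (deg (χ : G → ℂ) : ℤ) : ℤ) : ℂ) = ((g : ℕ) : ℂ) := by
      rw [hn]; norm_cast
    push_cast at h
    refine mul_right_cancel₀ (Nat.cast_ne_zero.2 hg0 : (g : ℂ) ≠ 0) ?_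
    rw [Finset.sum_mul, one_mul]
    refine Eq.trans (Finset.sum_congr rfl fun χ hχ => ?_) h
    rw [← hdg χ ((hmS χ).1 hχ)]
    push_cast; ring
  set φ : G → ℂ := fun x => ∑ χ ∈ S, (n χ : ℂ) * (χ : G → ℂ) x with hφ
  have hreg : ∀ χ ∈ B, ∀ x : G, pRegularPart p (χ : G → ℂ) x =
      (d χ : ℂ) * pRegularPart p φ x := by
    intro χ hχ x
    have hφx : pRegularPart p φ x =
        ∑ ψ ∈ S, (n ψ : ℂ) * pRegularPart p (ψ : G → ℂ) x := by
      simp only [pRegularPart_apply, hφ]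
      split_ifs <;> simp
    refine mul_left_cancel₀ hd0 ?_
    rw [hprop χ hχ, hφx]
    calc (deg (χ : G → ℂ) : ℂ) * pRegularPart p (χ₀ : G → ℂ) x
        = ((d χ : ℂ) * ∑ ψ ∈ S, (n ψ : ℂ) * (deg (ψ : G → ℂ) : ℂ)) *
            pRegularPart p (χ₀ : G → ℂ) x := by
          rw [← hdg χ hχ, Finset.sum_congr rfl (g := fun ψ => (n ψ : ℂ) * (d ψ : ℂ) * (g : ℂ))
            fun ψ hψ => by rw [← hdg ψ ((hmS ψ).1 hψ)]; push_cast; ring, ← Finset.sum_mul, hsum]
          push_cast; ring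
      _ = _ := by
          simp only [Finset.mul_sum, Finset.sum_mul]
          refine Finset.sum_congr rfl fun ψ hψ => ?_
          linear_combination (-(d χ : ℂ) * (n ψ : ℂ)) * hprop ψ ((hmS ψ).1 hψ) x
  -- the inner products
  set κ := classInner (pRegularPart p φ) (χ₀ : G → ℂ) / (d χ₀ : ℂ) with hκ
  have hin : ∀ χ ∈ B, ∀ ψ : IrrCharacter G, classInner (pRegularPart p (χ : G → ℂ)) (ψ : G → ℂ) =
      (d χ : ℂ) * classInner (pRegularPart p φ) (ψ : G → ℂ) := fun χ hχ ψ => by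
    rw [show pRegularPart p (χ : G → ℂ) = (d χ : ℂ) • pRegularPart p φ from funext (hreg χ hχ),
      classInner_smul_left]
  have hpow : ((p : ℂ) ^ (Nat.card G).factorization p) ≠ 0 :=
    pow_ne_zero _ (Nat.cast_ne_zero.2 hp.out.ne_zero)
  have hsym : ∀ χ ∈ B, classInner (pRegularPart p φ) (χ : G → ℂ) = (d χ : ℂ) * κ := by
    intro χ hχ
    have h := congrArg (fun z : ℤ => (z : ℂ)) (regInt_symm hp.out χ₀ χ)
    simp only [regInt_spec hp.out, hin χ hχ, hin χ₀ hχ₀] at h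
    have h' := mul_left_cancel₀ hpow h
    rw [hκ, mul_div_assoc', eq_div_iff hd00, ← h']
    ring
  set N := ∑ χ ∈ S, d χ ^ 2 with hN
  have hN0 : N ≠ 0 := fun h => hd00 (Nat.cast_eq_zero.2 (pow_eq_zero_iff two_ne_zero |>.1
    ((Finset.sum_eq_zero_iff.1 h) χ₀ ((hmS χ₀).2 hχ₀))))
  have hNκ : (N : ℂ) * κ = 1 := by
    have h := sum_classInner_eq_blockRank hM hB
    rw [hl, Nat.cast_one] at h
    rw [hN, Nat.cast_sum, Finset.sum_mul, ← h]
    refine Finset.sum_congr rfl fun χ hχ => ?_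
    rw [hin χ ((hmS χ).1 hχ), hsym χ ((hmS χ).1 hχ)]
    push_cast; ring
  have hint : ∀ χ ∈ B, ∀ ψ ∈ B, (N : ℤ) * regInt p χ ψ =
      ((p ^ (Nat.card G).factorization p * (d χ * d ψ) : ℕ) : ℤ) := by
    intro χ hχ ψ hψ
    apply Int.cast_injective (α := ℂ)
    push_cast
    rw [regInt_spec hp.out, hin χ hχ, hsym ψ hψ]
    linear_combination ((p : ℂ) ^ (Nat.card G).factorization p * (d χ : ℂ) * (d ψ : ℂ)) * hNκ
  -- the square sum is a power of `p`
  have hdvd : (N : ℤ) ∣ ((p : ℤ) ^ (Nat.card G).factorization p) := by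
    have h1 : ∑ χ ∈ S, n χ * (d χ : ℤ) = 1 := by exact_mod_cast hsum
    have h2 : (p : ℤ) ^ (Nat.card G).factorization p =
        ∑ χ ∈ S, ∑ ψ ∈ S, n χ * n ψ * ((N : ℤ) * regInt p χ ψ) := by
      calc (p : ℤ) ^ (Nat.card G).factorization p
          = (p : ℤ) ^ (Nat.card G).factorization p *
              ((∑ χ ∈ S, n χ * (d χ : ℤ)) * ∑ ψ ∈ S, n ψ * (d ψ : ℤ)) := by rw [h1]; ring
        _ = _ := by
          rw [Finset.sum_mul_sum, Finset.mul_sum]
          refine Finset.sum_congr rfl fun χ hχ => ?_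
          rw [Finset.mul_sum]
          refine Finset.sum_congr rfl fun ψ hψ => ?_
          rw [hint χ ((hmS χ).1 hχ) ψ ((hmS ψ).1 hψ)]
          push_cast; ring
    rw [h2]
    exact Finset.dvd_sum fun χ _ => Finset.dvd_sum fun ψ _ =>
      dvd_mul_of_dvd_right (dvd_mul_right _ _) _
  rw [← Nat.cast_pow, Int.natCast_dvd_natCast] at hdvd
  obtain ⟨j, -, hj⟩ := (Nat.dvd_prime_pow hp.out).1 hdvd
  -- the exponent
  obtain ⟨gc, hgc⟩ := exists_defectClass hM hB
  have hd₀p : (d χ₀).factorization p = 0 := by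
    have hmin := (degree_bounds hM hB hgc).1
    have hh := blockHeight_eq hM hB hgc (χ₀ : G → ℂ)
    rw [h00] at hh
    have hge : p ^ (deg (χ₀ : G → ℂ)).factorization p ∣ g := by
      refine Finset.dvd_gcd fun ψ hψ => ?_
      refine (hp.out.pow_dvd_iff_le_factorization (deg_irr_pos ψ).ne').2 ?_
      have := hmin ψ ((hmS ψ).1 hψ)
      have := hmin χ₀ hχ₀
      omega
    have h1 := congrArg (fun m : ℕ => m.factorization p) (hdg χ₀ hχ₀)
    simp only [Nat.factorization_mul (fun h => hd00 (Nat.cast_eq_zero.2 h)) hg0,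
      Finsupp.add_apply] at h1
    have h2 := (hp.out.pow_dvd_iff_le_factorization hg0).1 hge
    omega
  have hne := regInt_height_zero hM hB hχ₀ h00 hχ₀
  have hkey := congrArg (fun z : ℤ => z.natAbs.factorization p) (hint χ₀ hχ₀ χ₀ hχ₀)
  have hdn : d χ₀ ≠ 0 := fun h => hd00 (Nat.cast_eq_zero.2 h)
  simp only [Int.natAbs_mul, Int.natAbs_natCast, Nat.factorization_mul hN0 (Int.natAbs_ne_zero.2 hne.1),
    Nat.factorization_mul (pow_ne_zero _ hp.out.ne_zero) (Nat.mul_ne_zero hdn hdn),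
    Nat.factorization_mul hdn hdn, Finsupp.add_apply, hne.2, hd₀p, hp.out.factorization_pow,
    Finsupp.single_eq_same] at hkey
  have hjN : N.factorization p = j := by
    rw [hj, hp.out.factorization_pow, Finsupp.single_eq_same]
  have hminv : sInf ((fun χ : IrrCharacter G => (charDegree (χ : G → ℂ)).factorization p) '' B) =
      (deg (χ₀ : G → ℂ)).factorization p := by
    have hh := blockHeight_eq hM hB hgc (χ₀ : G → ℂ)
    rw [h00] at hh
    have := (degree_bounds hM hB hgc).1 χ₀ hχ₀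
    rw [sInf_deg_eq hM hB hgc]
    omega
  refine ⟨φ, d, ⟨n, fun x _ => ?_⟩, fun χ hχ x hx => ?_, ?_⟩
  · exact (finsum_mem_eq_sum_of_inter_support_eq _ (by simp [hS])).symm
  · have h := hreg χ hχ x
    rw [pRegularPart_apply, pRegularPart_apply, if_neg hx, if_neg hx] at h
    exact h
  · rw [finsum_mem_eq_sum_of_inter_support_eq _ (t := S) (by simp [hS]), ← hN, hj, blockDefect, hminv]
    congr 1
    omega

end Cfsg.Lib.Blocks
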