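import Mathlib

/-!
# Fourier coefficients on a coset of the squares

`A` is a finite abelian group with a fixed point free automorphism `σ` of order three and with
exactly four characters of exponent two. An integer function `c` on the characters invariant
under `σ` gives the values `Φ y = ∑ c λ * conj (λ y)`; their restriction to a coset `a * A²` has
integer coefficients `G`, constant in parity on the orbits of `σ`.
-/

set_option autoImplicit false
set_option linter.unusedSectionVars false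
set_option linter.style.haveILetI false

namespace Cfsg.Lib.Blocks.Homocyclic

open scoped ComplexConjugate

attribute [local instance high] MonoidHom.instCommGroup

local instance (priority := high) charMul {A : Type*} [CommGroup A] : Mul (A →* ℂˣ) :=
  (MonoidHom.instCommGroup : CommGroup (A →* ℂˣ)).toMul

local instance (priority := high) charInv {A : Type*} [CommGroup A] : Inv (A →* ℂˣ) :=
  (MonoidHom.instCommGroup : CommGroup (A →* ℂˣ)).toInv

local instance (priority := high) charOne {A : Type*} [CommGroup A] : One (A →* ℂˣ) :=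
  (MonoidHom.instCommGroup : CommGroup (A →* ℂˣ)).toMonoid.toMulOneClass.toOne

local instance (priority := high) charComm {A : Type*} [CommGroup A] : CommMonoid (A →* ℂˣ) :=
  (MonoidHom.instCommGroup : CommGroup (A →* ℂˣ)).toCommMonoid

local instance (priority := high) charDiv {A : Type*} [CommGroup A] :
    DivisionCommMonoid (A →* ℂˣ) :=
  (MonoidHom.instCommGroup : CommGroup (A →* ℂˣ)).toDivisionCommMonoid

lemma mul_app {A : Type*} [CommGroup A] (l k : A →* ℂˣ) (y : A) : (l * k) y = l y * k y := rfl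

lemma inv_app {A : Type*} [CommGroup A] (l : A →* ℂˣ) (y : A) : l⁻¹ y = (l y)⁻¹ := rfl

lemma one_app {A : Type*} [CommGroup A] (y : A) : (1 : A →* ℂˣ) y = 1 := rfl

variable {A : Type*} [CommGroup A] [Fintype A]

lemma conj_val (l : A →* ℂˣ) (y : A) : conj ((l y : ℂˣ) : ℂ) = ((l⁻¹ y : ℂˣ) : ℂ) := by
  rw [inv_app, Units.val_inv_eq_inv_val, Complex.inv_eq_conj]
  exact Complex.norm_eq_one_of_pow_eq_one (n := orderOf y)
    (by rw [← Units.val_pow_eq_pow_val, ← map_pow, pow_orderOf_eq_one, map_one, Units.val_one])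
    (orderOf_pos y).ne'

variable [Fintype (A →* ℂˣ)] [DecidableEq (A →* ℂˣ)]

lemma sum_chars [DecidableEq A] (y : A) : ∑ l : A →* ℂˣ, ((l y : ℂˣ) : ℂ) = if y = 1 then (Fintype.card A : ℂ) else 0 := by
  split_ifs with h
  · subst h
    simp only [map_one, Units.val_one, Finset.sum_const, Finset.card_univ, nsmul_one]
    rw [← Nat.card_eq_fintype_card, ← Nat.card_eq_fintype_card,
      CommGroup.card_monoidHom_of_hasEnoughRootsOfUnity]
  · obtain ⟨l₀, hl⟩ := CommGroup.exists_apply_ne_one_of_hasEnoughRootsOfUnity A ℂ h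
    have h1 : ((l₀ y : ℂˣ) : ℂ) * ∑ l : A →* ℂˣ, ((l y : ℂˣ) : ℂ) = ∑ l : A →* ℂˣ, ((l y : ℂˣ) : ℂ) := by
      rw [Finset.mul_sum]
      exact Fintype.sum_equiv (Equiv.mulLeft l₀) _ _ fun l => by simp [mul_app]
    have h2 : (((l₀ y : ℂˣ) : ℂ) - 1) * ∑ l : A →* ℂˣ, ((l y : ℂˣ) : ℂ) = 0 := by
      rw [sub_mul, h1, one_mul, sub_self]
    exact (mul_eq_zero.1 h2).resolve_left (sub_ne_zero.2 fun e => hl (Units.val_eq_one.1 e))

lemma sum_elems (l : A →* ℂˣ) : ∑ y : A, ((l y : ℂˣ) : ℂ) = if l = 1 then (Fintype.card A : ℂ) else 0 := by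
  split_ifs with h
  · subst h; simp [one_app]
  · obtain ⟨y₀, hy⟩ := DFunLike.ne_iff.1 h
    have h1 : ((l y₀ : ℂˣ) : ℂ) * ∑ y : A, ((l y : ℂˣ) : ℂ) = ∑ y : A, ((l y : ℂˣ) : ℂ) := by
      rw [Finset.mul_sum]
      exact Fintype.sum_equiv (Equiv.mulLeft y₀) _ _ fun y => by simp
    have h2 : (((l y₀ : ℂˣ) : ℂ) - 1) * ∑ y : A, ((l y : ℂˣ) : ℂ) = 0 := by
      rw [sub_mul, h1, one_mul, sub_self]
    exact (mul_eq_zero.1 h2).resolve_left
      (sub_ne_zero.2 fun e => hy (by simpa using Units.val_eq_one.1 e))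

/-- The value with coefficients `c`. -/
noncomputable def Φ (c : (A →* ℂˣ) → ℤ) (y : A) : ℂ :=
  ∑ l : A →* ℂˣ, (c l : ℂ) * conj ((l y : ℂˣ) : ℂ)

/-- The characters of exponent two. -/
def two (A : Type*) [CommGroup A] [Fintype A] [Fintype (A →* ℂˣ)] [DecidableEq (A →* ℂˣ)] :
    Finset (A →* ℂˣ) := Finset.univ.filter fun l => l * l = 1

lemma mem_two {l : A →* ℂˣ} : l ∈ two A ↔ l * l = 1 := by simp [two]

lemma one_mem_two : (1 : A →* ℂˣ) ∈ two A := mem_two.2 (one_mul _)

lemma mul_mem_two {l k : A →* ℂˣ} (hl : l ∈ two A) (hk : k ∈ two A) : l * k ∈ two A := by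
  rw [mem_two] at *
  rw [mul_mul_mul_comm, hl, hk, one_mul]

/-- The sign of a character at `a`. -/
noncomputable def sgn (a : A) (l : A →* ℂˣ) : ℤ := if l a = 1 then 1 else -1

lemma cast_sgn {a : A} {l : A →* ℂˣ} (hl : l ∈ two A) : (sgn a l : ℂ) = ((l a : ℂˣ) : ℂ) := by
  have h : ((l a : ℂˣ) : ℂ) * ((l a : ℂˣ) : ℂ) = 1 := by
    rw [← Units.val_mul, ← mul_app, mem_two.1 hl, one_app, Units.val_one]
  unfold sgn
  split_ifs with h1
  · simp [h1]
  · rcases mul_self_eq_one_iff.1 h with e | e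
    · exact absurd (Units.val_eq_one.1 e) h1
    · simp [e]

lemma sgn_one (a : A) : sgn a 1 = 1 := by simp [sgn, one_app]

lemma sgn_mul {a : A} {l k : A →* ℂˣ} (hl : l ∈ two A) (hk : k ∈ two A) :
    sgn a (l * k) = sgn a l * sgn a k := by
  apply Int.cast_injective (α := ℂ)
  push_cast
  rw [cast_sgn hl, cast_sgn hk, cast_sgn (mul_mem_two hl hk), mul_app, Units.val_mul]

lemma sgn_sq (a : A) (l : A →* ℂˣ) : sgn a l * sgn a l = 1 := by
  unfold sgn; split_ifs <;> norm_num

/-- The coefficient of a class on the coset of `a`. -/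
noncomputable def G (a : A) (c : (A →* ℂˣ) → ℤ) (l : A →* ℂˣ) : ℤ :=
  ∑ k ∈ two A, c (l * k) * sgn a k

lemma G_mul (a : A) (c : (A →* ℂˣ) → ℤ) (l : A →* ℂˣ) {k : A →* ℂˣ} (hk : k ∈ two A) :
    G a c (l * k) = sgn a k * G a c l := by
  unfold G
  rw [Finset.mul_sum]
  refine Finset.sum_nbij' (k * ·) (k * ·) (fun x hx => mul_mem_two hk hx)
    (fun x hx => mul_mem_two hk hx) (fun x _ => ?_) (fun x _ => ?_) fun x hx => ?_
  · rw [← mul_assoc, mem_two.1 hk, one_mul]
  · rw [← mul_assoc, mem_two.1 hk, one_mul]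
  · rw [mul_assoc, sgn_mul hk hx]
    linear_combination (-(c (l * (k * x)) * sgn a x)) * sgn_sq a k

lemma sq_mem_two {l k : A →* ℂˣ} (h : l * l = k * k) : l⁻¹ * k ∈ two A := by
  rw [mem_two, mul_mul_mul_comm, ← h, ← mul_inv, inv_mul_cancel]

lemma val_sq (l k : A →* ℂˣ) (a w : A) :
    ((l (a * (w * w)) : ℂˣ) : ℂ) * conj ((k (a * (w * w)) : ℂˣ) : ℂ) =
      (((l * k⁻¹) a : ℂˣ) : ℂ) * ((((l * k⁻¹) * (l * k⁻¹)) w : ℂˣ) : ℂ) := by
  rw [conj_val, ← Units.val_mul, ← Units.val_mul, ← mul_app, map_mul, map_mul,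
    mul_app (l * k⁻¹) (l * k⁻¹)]

/-- The mean of the values over a coset of the squares. -/
theorem sum_coset (a : A) (c : (A →* ℂˣ) → ℤ) :
    ∑ w : A, Φ c (a * (w * w)) = (Fintype.card A : ℂ) * (G a c 1 : ℂ) := by
  unfold Φ G
  rw [Finset.sum_comm]
  push_cast
  rw [Finset.mul_sum, ← Finset.sum_subset (Finset.subset_univ (two A)) fun l _ hl => ?_]
  · refine Finset.sum_congr rfl fun l hl => ?_
    have hc : ∀ w : A, conj ((l (a * (w * w)) : ℂˣ) : ℂ) = ((l a : ℂˣ) : ℂ) := fun w => by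
      have hw : l (a * (w * w)) = l a := by
        rw [map_mul, map_mul l w w, ← mul_app l l w, mem_two.1 hl, one_app,
          mul_one]
      rw [hw, ← cast_sgn hl, map_intCast]
    rw [Finset.sum_congr rfl fun w _ => by rw [hc w], Finset.sum_const, Finset.card_univ, one_mul,
      cast_sgn hl, nsmul_eq_mul]
  · have h : ∀ w : A, conj ((l (a * (w * w)) : ℂˣ) : ℂ) =
        ((l⁻¹ a : ℂˣ) : ℂ) * (((l⁻¹ * l⁻¹) w : ℂˣ) : ℂ) := fun w => by
      rw [conj_val, map_mul, map_mul, Units.val_mul]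
      rfl
    have hne : ¬ l⁻¹ * l⁻¹ = 1 := fun e => hl (mem_two.2 (by
      rwa [← mul_inv, inv_eq_one] at e))
    rw [Finset.sum_congr rfl fun w _ => by rw [h w], ← Finset.mul_sum, ← Finset.mul_sum,
      sum_elems, if_neg hne, mul_zero, mul_zero]

/-- Parseval on a coset of the squares. -/
theorem sum_norm_coset (a : A) (c : (A →* ℂˣ) → ℤ) :
    ((two A).card : ℂ) * ∑ w : A, Φ c (a * (w * w)) * conj (Φ c (a * (w * w))) =
      (Fintype.card A : ℂ) * ((∑ l, G a c l * G a c l : ℤ) : ℂ) := by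
  have hG : ((two A).card : ℤ) * ∑ l, c l * G a c l = ∑ l, G a c l * G a c l := by
    have h : ∀ k ∈ two A, ∑ l, c (l * k) * sgn a k * G a c l = ∑ l, c l * G a c l := by
      intro k hk
      refine Fintype.sum_equiv (Equiv.mulRight k) _ _ fun l => ?_
      simp only [Equiv.coe_mulRight]
      rw [G_mul a c l hk]
      ring
    conv_rhs => arg 2; ext l; arg 1; unfold G
    simp only [Finset.sum_mul]
    rw [Finset.sum_comm, Finset.sum_congr rfl h, Finset.sum_const, nsmul_eq_mul]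
  rw [← hG]
  push_cast
  rw [mul_left_comm (Fintype.card A : ℂ)]
  congr 1
  unfold Φ G
  simp only [map_sum, map_mul (starRingEnd ℂ), map_intCast, Complex.conj_conj, Finset.sum_mul_sum]
  rw [Finset.sum_comm]
  simp only [Int.cast_mul, Int.cast_sum]
  rw [Finset.mul_sum]
  refine Finset.sum_congr rfl fun l _ => ?_
  rw [Finset.sum_comm, Finset.mul_sum, Finset.mul_sum]
  have hv : ∀ k : A →* ℂˣ, ∑ w : A, (c l : ℂ) * conj ((l (a * (w * w)) : ℂˣ) : ℂ) *
      ((c k : ℂ) * ((k (a * (w * w)) : ℂˣ) : ℂ)) = (c l : ℂ) * (c k : ℂ) *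
        (((k * l⁻¹) a : ℂˣ) : ℂ) * if (k * l⁻¹) * (k * l⁻¹) = 1 then (Fintype.card A : ℂ) else 0 := by
    intro k
    rw [← sum_elems, Finset.mul_sum]
    refine Finset.sum_congr rfl fun w _ => ?_
    linear_combination ((c l : ℂ) * (c k : ℂ)) * val_sq k l a w
  rw [Finset.sum_congr rfl fun k _ => hv k]
  symm
  refine Finset.sum_of_injOn (l * ·) (fun x _ y _ h => mul_left_cancel h)
    (fun _ _ => Finset.mem_coe.2 (Finset.mem_univ _)) (fun k _ hk => ?_) fun k hk => ?_
  · rw [if_neg fun e => hk ⟨k * l⁻¹, Finset.mem_coe.2 (mem_two.2 e), by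
      show l * (k * l⁻¹) = k
      rw [mul_comm, inv_mul_cancel_right]⟩, mul_zero]
  · rw [show l * k * l⁻¹ = k by rw [mul_comm l, mul_inv_cancel_right], if_pos (mem_two.1 hk),
      cast_sgn hk]
    ring

/-- A fixed point free automorphism of order three, with four characters of exponent two. -/
structure Free (σ : A ≃* A) : Prop where
  cube : ∀ y, σ (σ (σ y)) = y
  free : ∀ y, σ y = y → y = 1
  card : (two A).card = 4

variable {σ : A ≃* A}

/-- The transpose of `σ`. -/
noncomputable def tr (σ : A ≃* A) (l : A →* ℂˣ) : A →* ℂˣ := l.comp σ.toMonoidHom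

lemma tr_apply (l : A →* ℂˣ) (y : A) : tr σ l y = l (σ y) := rfl

lemma tr_mul (l k : A →* ℂˣ) : tr σ (l * k) = tr σ l * tr σ k := rfl

lemma tr_one : tr σ (1 : A →* ℂˣ) = 1 := rfl

lemma Free.tr_cube (h : Free σ) (l : A →* ℂˣ) : tr σ (tr σ (tr σ l)) = l :=
  MonoidHom.ext fun y => by simp only [tr_apply, h.cube]

lemma Free.tr_fixed (h : Free σ) {l : A →* ℂˣ} (hl : tr σ l = l) : l = 1 := by
  let D : A →* A := σ.toMonoidHom / MonoidHom.id A
  have hD : Function.Injective D := by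
    rw [injective_iff_map_eq_one]
    exact fun y hy => h.free y (div_eq_one.1 hy)
  refine MonoidHom.ext fun y => ?_
  obtain ⟨z, rfl⟩ := Finite.injective_iff_surjective.1 hD y
  show l (σ z / z) = 1
  rw [map_div, ← tr_apply, hl, div_self']

lemma Free.tr_two (h : Free σ) {l : A →* ℂˣ} : tr σ l ∈ two A ↔ l ∈ two A := by
  simp only [mem_two, ← tr_mul]
  refine ⟨fun e => ?_, fun e => by rw [e, tr_one]⟩
  have := congrArg (fun k => tr σ (tr σ k)) e
  simpa only [h.tr_cube, tr_one] using this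

lemma Free.two_eq (h : Free σ) {k : A →* ℂˣ} (hk : k ∈ two A) (hk1 : k ≠ 1) :
    k ≠ tr σ k ∧ k ≠ tr σ (tr σ k) ∧ tr σ k ≠ tr σ (tr σ k) ∧
      two A = {1, k, tr σ k, tr σ (tr σ k)} := by
  have hne1 : ∀ {l : A →* ℂˣ}, l ≠ 1 → tr σ l ≠ 1 := fun {l} hl e => hl (by
    have := congrArg (fun k => tr σ (tr σ k)) e
    simpa only [h.tr_cube, tr_one] using this)
  have e1 : k ≠ tr σ k := fun e => hk1 (h.tr_fixed e.symm)
  have e3 : tr σ k ≠ tr σ (tr σ k) := fun e => hne1 hk1 (h.tr_fixed e.symm)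
  have e2 : k ≠ tr σ (tr σ k) := fun e => e1 (by
    have := congrArg (tr σ) e
    rw [h.tr_cube] at this
    exact this.symm)
  refine ⟨e1, e2, e3, (Finset.eq_of_subset_of_card_le ?_ ?_).symm⟩
  · intro x hx
    simp only [Finset.mem_insert, Finset.mem_singleton] at hx
    rcases hx with rfl | rfl | rfl | rfl
    exacts [one_mem_two, hk, h.tr_two.2 hk, h.tr_two.2 (h.tr_two.2 hk)]
  · rw [h.card, Finset.card_insert_of_notMem (by
      simp [Ne.symm hk1, (hne1 hk1).symm, (hne1 (hne1 hk1)).symm]),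
      Finset.card_insert_of_notMem (by simp [e1, e2]),
      Finset.card_insert_of_notMem (by simp [e3]), Finset.card_singleton]

lemma Free.exists_ne_one (h : Free σ) : ∃ k ∈ two A, k ≠ (1 : A →* ℂˣ) := by
  obtain ⟨k, hk, hk1⟩ := Finset.exists_mem_ne (by rw [h.card]; norm_num : 1 < (two A).card) 1
  exact ⟨k, hk, hk1⟩

/-- An element outside the squares. -/
lemma Free.exists_base (h : Free σ) : ∃ a : A, ∑ k ∈ two A, sgn a k = 0 := by
  obtain ⟨k, hk, hk1⟩ := h.exists_ne_one
  obtain ⟨a, ha⟩ := DFunLike.ne_iff.1 hk1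
  refine ⟨a, ?_⟩
  have hs : sgn a k = -1 := if_neg (by simpa using ha)
  have : ∑ x ∈ two A, sgn a x = -∑ x ∈ two A, sgn a x := by
    refine (Finset.sum_nbij' (s := two A) (t := two A) (f := fun x => sgn a (k * x)) (g := sgn a)
      (k * ·) (k * ·) (fun x hx => mul_mem_two hk hx)
      (fun x hx => mul_mem_two hk hx) (fun x _ => by rw [← mul_assoc, mem_two.1 hk, one_mul])
      (fun x _ => by rw [← mul_assoc, mem_two.1 hk, one_mul]) fun x _ => rfl).symm.trans ?_
    rw [← Finset.sum_neg_distrib]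
    refine Finset.sum_congr rfl fun x hx => ?_
    rw [sgn_mul hk hx, hs]
    ring
  omega

variable {c : (A →* ℂˣ) → ℤ}

lemma Free.G_one (h : Free σ) {a : A} (ha : ∑ k ∈ two A, sgn a k = 0)
    (hc : ∀ l, c (tr σ l) = c l) :
    3 * G a c 1 = 4 * c 1 - ∑ k ∈ two A, c k ∧ (2 : ℤ) ∣ (∑ k ∈ two A, c k - G a c 1) := by
  obtain ⟨k, hk, hk1⟩ := h.exists_ne_one
  obtain ⟨e1, e2, e3, hset⟩ := h.two_eq hk hk1
  have hne : ∀ {x : A →* ℂˣ}, x ∈ two A → x ≠ 1 → c x = c k := fun {x} hx hx1 => by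
    rw [hset] at hx
    simp only [Finset.mem_insert, Finset.mem_singleton] at hx
    rcases hx with rfl | rfl | rfl | rfl
    exacts [absurd rfl hx1, rfl, hc _, by rw [hc, hc]]
  have hrest : ∀ x ∈ (two A).erase 1, c x = c k := fun x hx =>
    hne (Finset.mem_of_mem_erase hx) (Finset.ne_of_mem_erase hx)
  have hcard : ((two A).erase (1 : A →* ℂˣ)).card = 3 := by
    rw [Finset.card_erase_of_mem one_mem_two, h.card]
  rw [← Finset.add_sum_erase _ _ one_mem_two, sgn_one] at ha
  have hG : G a c 1 = c 1 - c k := by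
    unfold G
    simp only [one_mul]
    rw [← Finset.add_sum_erase _ _ one_mem_two, sgn_one,
      Finset.sum_congr rfl fun x hx => by rw [hrest x hx], ← Finset.mul_sum,
      show ∑ x ∈ (two A).erase 1, sgn a x = -1 by omega]
    ring
  rw [← Finset.add_sum_erase _ _ one_mem_two, Finset.sum_congr rfl hrest, Finset.sum_const, hcard,
    nsmul_eq_mul, hG]
  exact ⟨by push_cast; ring, ⟨2 * c k, by push_cast; ring⟩⟩

lemma Free.G_parity (h : Free σ) (a : A) (hc : ∀ l, c (tr σ l) = c l) (l : A →* ℂˣ) :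
    (2 : ℤ) ∣ G a c (tr σ l) ↔ (2 : ℤ) ∣ G a c l := by
  have hmod : ∀ l, (2 : ℤ) ∣ G a c l - ∑ k ∈ two A, c (l * k) := fun l => by
    unfold G
    rw [← Finset.sum_sub_distrib]
    exact Finset.dvd_sum fun k _ => by
      unfold sgn; split_ifs
      · simp
      · exact ⟨-c (l * k), by ring⟩
  have hsum : ∑ k ∈ two A, c (tr σ l * k) = ∑ k ∈ two A, c (l * k) := by
    refine (Finset.sum_nbij (tr σ) (fun x hx => h.tr_two.2 hx) (fun x _ y _ e => ?_) (fun y hy => ?_)
      fun x _ => by rw [← tr_mul, hc]).symm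
    · have := congrArg (fun k => tr σ (tr σ k)) e
      simpa only [h.tr_cube] using this
    · exact ⟨tr σ (tr σ y), h.tr_two.2 (h.tr_two.2 hy), h.tr_cube y⟩
  have h1 := hmod (tr σ l)
  have h2 := hmod l
  rw [hsum] at h1
  constructor <;> intro h3 <;> omega

/-- Either only the trivial class occurs, or there is an excess of twelve. -/
theorem Free.norm_cases (h : Free σ) (a : A) (hc : ∀ l, c (tr σ l) = c l) :
    (∑ l, G a c l * G a c l = 4 * (G a c 1 * G a c 1)) ∨
      4 * (G a c 1 * G a c 1) + 12 ≤ ∑ l, G a c l * G a c l := by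
  have hcls : ∀ l : A →* ℂˣ, ∑ x ∈ (two A).image (l * ·), G a c x * G a c x =
      4 * (G a c l * G a c l) := fun l => by
    rw [Finset.sum_image fun x _ y _ e => mul_left_cancel e,
      Finset.sum_congr rfl (g := fun _ => G a c l * G a c l) fun x hx => by
        rw [G_mul a c l hx]
        linear_combination (G a c l * G a c l) * sgn_sq a x, Finset.sum_const, h.card,
      nsmul_eq_mul]
    norm_num
  have hone : (two A).image ((1 : A →* ℂˣ) * ·) = two A := by simp
  have h1 := hcls 1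
  rw [hone] at h1
  by_cases hall : ∀ l, l ∉ two A → G a c l = 0
  · left
    rw [← h1]
    exact (Finset.sum_subset (Finset.subset_univ _) fun l _ hl => by rw [hall l hl, mul_zero]).symm
  push Not at hall
  obtain ⟨l, hl, hGl⟩ := hall
  right
  have hdis : ∀ x y : A →* ℂˣ, x * x ≠ y * y →
      Disjoint ((two A).image (x * ·)) ((two A).image (y * ·)) := by
    intro x y hxy
    rw [Finset.disjoint_left]
    rintro z hz hz'
    obtain ⟨u, hu, rfl⟩ := Finset.mem_image.1 hz
    obtain ⟨v, hv, e⟩ := Finset.mem_image.1 hz'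
    refine hxy ?_
    have := congrArg (fun z => z * z) e
    simp only [mul_mul_mul_comm _ u, mul_mul_mul_comm _ v, mem_two.1 hu, mem_two.1 hv, mul_one] at this
    exact this.symm
  set l₁ := tr σ l with hl₁
  set l₂ := tr σ l₁ with hl₂
  have hll : l * l ≠ 1 := fun e => hl (mem_two.2 e)
  have n1 : tr σ (l * l) ≠ l * l := fun e => hll (h.tr_fixed e)
  have n0 : ∀ {z : A →* ℂˣ}, z ∉ two A → tr σ z ∉ two A := fun hz => fun e => hz (h.tr_two.1 e)
  have hsub : ∀ x, x ∉ two A → Disjoint (two A) ((two A).image (x * ·)) := fun x hx => by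
    have := hdis 1 x (by rw [one_mul]; exact fun e => hx (mem_two.2 e.symm))
    rwa [hone] at this
  by_cases hpar : (2 : ℤ) ∣ G a c l
  · have h4 : 4 ≤ G a c l * G a c l := by
      obtain ⟨t, ht⟩ := hpar
      have : t ≠ 0 := fun e => hGl (by rw [ht, e, mul_zero])
      rw [ht]
      nlinarith [Int.one_le_abs this, sq_abs t]
    have hle := Finset.sum_le_sum_of_subset_of_nonneg (f := fun x => G a c x * G a c x)
      (Finset.subset_univ (two A ∪ (two A).image (l * ·))) fun x _ _ => mul_self_nonneg _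
    rw [Finset.sum_union (hsub l hl), h1, hcls] at hle
    omega
  · have hp1 : ¬ (2 : ℤ) ∣ G a c l₁ := fun e => hpar ((h.G_parity a hc l).1 e)
    have hp2 : ¬ (2 : ℤ) ∣ G a c l₂ := fun e => hp1 ((h.G_parity a hc l₁).1 e)
    have hpos : ∀ {z : ℤ}, ¬ (2 : ℤ) ∣ z → 1 ≤ z * z := fun {z} hz => by
      have : z ≠ 0 := fun e => hz (e ▸ dvd_zero _)
      nlinarith [Int.one_le_abs this, sq_abs z]
    have d1 : l * l ≠ l₁ * l₁ := fun e => n1 (by rw [tr_mul]; exact e.symm)
    have d3 : l₁ * l₁ ≠ l₂ * l₂ := fun e => by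
      rw [hl₂, ← tr_mul] at e
      refine d1 ?_
      have := congrArg (fun k => tr σ (tr σ k)) e
      simp only [h.tr_cube] at this
      rw [hl₁] at this ⊢
      simp only [← tr_mul, h.tr_cube] at this
      rw [← tr_mul]
      exact this
    have d2 : l * l ≠ l₂ * l₂ := fun e => by
      refine d1 ?_
      have := congrArg (tr σ) e
      rw [hl₂, hl₁, ← tr_mul, ← tr_mul, h.tr_cube] at this
      rw [hl₁, ← tr_mul]
      exact this.symm
    have hle := Finset.sum_le_sum_of_subset_of_nonneg (f := fun x => G a c x * G a c x)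
      (Finset.subset_univ (((two A ∪ (two A).image (l * ·)) ∪ (two A).image (l₁ * ·)) ∪
        (two A).image (l₂ * ·))) fun x _ _ => mul_self_nonneg _
    rw [Finset.sum_union (by
        simp only [Finset.disjoint_union_left]
        exact ⟨⟨hsub l₂ (n0 (n0 hl)), hdis _ _ d2⟩, hdis _ _ d3⟩),
      Finset.sum_union (by
        simp only [Finset.disjoint_union_left]
        exact ⟨hsub l₁ (n0 hl), hdis _ _ d1⟩),
      Finset.sum_union (hsub l hl), h1, hcls, hcls, hcls] at hle
    have := hpos hpar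
    have := hpos hp1
    have := hpos hp2
    omega

/-- For symmetric coefficients all of them sum to the parity of the trivial class. -/
theorem Free.total_parity (h : Free σ) {a : A} (ha : ∑ k ∈ two A, sgn a k = 0)
    (hc : ∀ l, c (tr σ l) = c l) (hs : ∀ l, c l⁻¹ = c l) :
    (2 : ℤ) ∣ (∑ l, c l - G a c 1) := by
  have h0 : ((∑ l ∈ Finset.univ.filter (· ∉ two A), c l : ℤ) : ZMod 2) = 0 := by
    push_cast
    refine Finset.sum_involution (fun l _ => l⁻¹) (fun l _ => ?_) (fun l hl _ e => ?_) (fun l hl => ?_)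
      fun l _ => inv_inv l
    · rw [hs]; exact CharTwo.add_self_eq_zero _
    · exact (Finset.mem_filter.1 hl).2 (mem_two.2 (inv_eq_iff_mul_eq_one.1 e))
    · refine Finset.mem_filter.2 ⟨Finset.mem_univ _, fun e => (Finset.mem_filter.1 hl).2 ?_⟩
      rw [mem_two, ← mul_inv, inv_eq_one] at e
      exact mem_two.2 e
  have h0' := (ZMod.intCast_zmod_eq_zero_iff_dvd _ 2).1 h0
  push_cast at h0'
  have h1 := (h.G_one ha hc).2
  have hsplit := Finset.sum_filter_add_sum_filter_not Finset.univ (· ∈ two A) c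
  rw [Finset.filter_univ_mem] at hsplit
  omega

/-- The value on the squares of the sum of the characters of exponent two. -/
lemma sum_two (y : A) : ∑ k ∈ two A, ((k y : ℂˣ) : ℂ) = 0 ∨
    ∑ k ∈ two A, ((k y : ℂˣ) : ℂ) = ((two A).card : ℂ) := by
  by_cases hy : ∀ k ∈ two A, k y = 1
  · right
    rw [Finset.sum_congr rfl fun k hk => by rw [hy k hk, Units.val_one], Finset.sum_const, nsmul_one]
  left
  push Not at hy
  obtain ⟨k, hk, hky⟩ := hy
  have h1 : ((k y : ℂˣ) : ℂ) * ∑ x ∈ two A, ((x y : ℂˣ) : ℂ) = ∑ x ∈ two A, ((x y : ℂˣ) : ℂ) := by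
    rw [Finset.mul_sum]
    refine Finset.sum_nbij' (k * ·) (k * ·) (fun x hx => mul_mem_two hk hx)
      (fun x hx => mul_mem_two hk hx) (fun x _ => by rw [← mul_assoc, mem_two.1 hk, one_mul])
      (fun x _ => by rw [← mul_assoc, mem_two.1 hk, one_mul]) fun x _ => by simp
  have h2 : (((k y : ℂˣ) : ℂ) - 1) * ∑ x ∈ two A, ((x y : ℂˣ) : ℂ) = 0 := by
    rw [sub_mul, h1, one_mul, sub_self]
  exact (mul_eq_zero.1 h2).resolve_left (sub_ne_zero.2 fun e => hky (Units.val_eq_one.1 e))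

/-- The weighted mean outside the squares. -/
theorem Free.sum_outside (h : Free σ) {a : A} (ha : ∑ k ∈ two A, sgn a k = 0)
    (hc : ∀ l, c (tr σ l) = c l) :
    ∑ y : A, ((4 : ℂ) - ∑ k ∈ two A, ((k y : ℂˣ) : ℂ)) * Φ c y =
      3 * (Fintype.card A : ℂ) * (G a c 1 : ℂ) := by
  have hin : ∀ k : A →* ℂˣ, ∑ y : A, ((k y : ℂˣ) : ℂ) * Φ c y = (Fintype.card A : ℂ) * (c k : ℂ) := by
    intro k
    unfold Φ
    simp only [Finset.mul_sum]
    rw [Finset.sum_comm, Finset.sum_eq_single k (fun l _ hl => ?_) (by simp)]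
    · rw [Finset.sum_congr rfl (g := fun _ => (c k : ℂ)) fun y _ => ?_, Finset.sum_const,
        Finset.card_univ, nsmul_eq_mul]
      rw [conj_val, mul_left_comm, ← Units.val_mul, ← mul_app, mul_inv_cancel,
        one_app, Units.val_one, mul_one]
    · rw [Finset.sum_congr rfl (g := fun y : A => (c l : ℂ) * (((k * l⁻¹) y : ℂˣ) : ℂ)) fun y _ => by
        rw [conj_val, mul_app, Units.val_mul]; ring,
        ← Finset.mul_sum, sum_elems, if_neg fun e => hl (mul_inv_eq_one.1 e).symm, mul_zero]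
  simp only [sub_mul, Finset.sum_sub_distrib, Finset.sum_mul]
  rw [Finset.sum_comm, Finset.sum_congr rfl fun k _ => hin k, ← Finset.mul_sum, ← Finset.mul_sum]
  have h1 := hin 1
  simp only [one_app, Units.val_one, one_mul] at h1
  rw [h1]
  have h3 := congrArg (fun z : ℤ => (z : ℂ)) (h.G_one ha hc).1
  push_cast at h3
  linear_combination (-(Fintype.card A : ℂ)) * h3

end Cfsg.Lib.Blocks.Homocyclic
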