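import Mathlib
import Cfsg.Agent.Blocks.AbelianMatrices
import Cfsg.Agent.Blocks.ContributionRows
import Cfsg.Agent.Blocks.RankOneBlock

/-!
# Contributions along the subsections below an abelian maximal pair
-/

set_option autoImplicit false
set_option linter.unusedSectionVars false
set_option linter.style.haveILetI false

namespace Cfsg.Lib.Blocks.AbelianStar

open Cfsg.Lib.Chars Cfsg.Lib.Blocks Cfsg.Lib.Blocks.Star
open scoped _root_.Classical ComplexConjugate

universe u

local notation "C⟨" P "⟩" => Subgroup.centralizer (SetLike.coe P)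

variable {G : Type u} [Group G] [Fintype G] {M : Ideal AlgInt} {p : ℕ} [Fact p.Prime]
  {B : Set (IrrCharacter G)} {P T : Subgroup G} {c : Set (IrrCharacter C⟨P⟩)}
  {fQ : ∀ Q : Subgroup G, Set (IrrCharacter C⟨Q⟩)}

/-- The blocks chosen at the elements from blocks chosen at the subgroups. -/
def fam (fQ : ∀ Q : Subgroup G, Set (IrrCharacter C⟨Q⟩)) (y : G) :
    Set (IrrCharacter C⟨Subgroup.zpowers y⟩) := fQ (Subgroup.zpowers y)

/-- The contribution at an element. -/
noncomputable def FF (p : ℕ) (fQ : ∀ Q : Subgroup G, Set (IrrCharacter C⟨Q⟩)) (y : G)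
    (η χ : IrrCharacter G) : ℂ :=
  contribution p y (fam fQ y) η χ

/-- Choice of the blocks below a maximal pair. -/
theorem exists_setting (hM : IsPModular p M) (hD : IsDefectGroup p M B P)
    (hc : IsBrauerPairOf p M B P c) (hab : ∀ a ∈ P, ∀ b ∈ P, a * b = b * a)
    (hT : IsPairStab P c T) :
    ∃ fQ : ∀ Q : Subgroup G, Set (IrrCharacter C⟨Q⟩), Setting p M B P T c (fam fQ) := by
  let fQ : ∀ Q : Subgroup G, Set (IrrCharacter C⟨Q⟩) := fun Q =>
    if h : Q ≤ P then (existsUnique_subpairLE hM hc.1 h).choose else ∅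
  refine ⟨fQ, ⟨hM, hD, hc, hab, hT, fun y hy => ?_⟩⟩
  have hle := Subgroup.zpowers_le.2 hy
  obtain ⟨f, hf⟩ := exists_below hM hc.1 hab hy
  have h1 : SubpairLE p M (Subgroup.zpowers y) f P c :=
    Relation.ReflTransGen.single (hf.normalSubpair hM hc.1 hab hy)
  have h2 : fQ (Subgroup.zpowers y) = f := by
    simp only [fQ, dif_pos hle]
    exact ((existsUnique_subpairLE hM hc.1 hle).choose_spec.2 f h1).symm
  show IsBelow M P c y (fQ (Subgroup.zpowers y))
  rwa [h2]

variable (s : Setting p M B P T c (fam fQ))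
include s

lemma Setting.section_data {y : G} (hy : y ∈ P) :
    IsInducedBlock M C⟨Subgroup.zpowers y⟩ (fam fQ y) B ∧
      blockDefect p (fam fQ y) = blockDefect p B := by
  obtain ⟨h1, -, h3⟩ := major_section s.modular s.defect s.pair hy (fun a ha => s.comm a ha y hy)
    (s.below y hy)
  exact ⟨h1, h3⟩

theorem Setting.FF_eq_kk {y : G} (hy : y ∈ P) (η χ : IrrCharacter G) :
    FF p fQ y η χ = (p : ℂ) ^ blockDefect p B * kk p (fam fQ) y η χ := by
  rw [FF, contribution_eq_sum_regular s.modular (s.below y hy).1, (s.section_data hy).2, kk,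
    mul_assoc]
  rfl

theorem Setting.kk_conj {t y : G} (ht : t ∈ T) (hy : y ∈ P) (η χ : IrrCharacter G) :
    kk p (fam fQ) (t * y * t⁻¹) η χ = kk p (fam fQ) y η χ := by
  have hy' : t * y * t⁻¹ ∈ P := (Subgroup.mem_normalizer_iff.1 ((s.stab t).1 ht).1 y).1 hy
  have h := IsBelow.unique s.modular s.pair.1 s.comm hy' (s.below _ hy')
    ((s.below y hy).conj s.modular s.pair.1 s.stab ht)
  have hcard : Nat.card C⟨Subgroup.zpowers (t * y * t⁻¹)⟩ = Nat.card C⟨Subgroup.zpowers y⟩ :=
    (Nat.card_congr (conjSubEquiv (isConjSub_zpowers t y)).toEquiv)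
  have e : secMap (fam fQ) (t, y) = ⟨t * y * t⁻¹, fam fQ (t * y * t⁻¹)⟩ := by
    rw [h]; rfl
  rw [kk, kk, hcard, ← secDot_secMap η χ (fam fQ) t y, e]

theorem Setting.FF_conj {t y : G} (ht : t ∈ T) (hy : y ∈ P) (η χ : IrrCharacter G) :
    FF p fQ (t * y * t⁻¹) η χ = FF p fQ y η χ := by
  have hy' : t * y * t⁻¹ ∈ P := (Subgroup.mem_normalizer_iff.1 ((s.stab t).1 ht).1 y).1 hy
  rw [s.FF_eq_kk hy', s.FF_eq_kk hy, s.kk_conj ht hy]

theorem Setting.FF_self {y : G} (hy : y ∈ P) (η : IrrCharacter G) :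
    ∃ r : ℝ, 0 ≤ r ∧ FF p fQ y η η = (r : ℂ) :=
  contribution_self_eq s.modular (s.below y hy).1 η

theorem Setting.FF_ne_zero {y : G} (hy : y ∈ P) {η : IrrCharacter G} (hη : η ∈ B) :
    FF p fQ y η η ≠ 0 := by
  obtain ⟨φ, hφ, hφ0⟩ := exists_height_zero s.modular s.pair.2.1
  obtain ⟨hind, hdef⟩ := s.section_data hy
  intro h0
  refine (contribution_height rfl (isPElem_of_mem s.pair.1.1 hy) s.modular hind hdef hη hφ hφ0).1 ?_
  rw [FF, contribution_eq_sum_regular s.modular hind.1, mul_eq_zero] at h0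
  rw [contribution_eq_sum_regular s.modular hind.1, mul_eq_zero]
  refine h0.imp_right fun h => ?_
  simp only [Complex.mul_conj'] at h
  norm_cast at h
  rw [Finset.sum_eq_zero_iff_of_nonneg fun w _ => sq_nonneg _] at h
  refine Finset.sum_eq_zero fun w hw => ?_
  exact mul_eq_zero.2 (Or.inl (norm_eq_zero.1 (sq_eq_zero_iff.1 (h w hw))))

theorem Setting.FF_rank_one {y : G} (hy : y ∈ P) (hl : blockRank p (fam fQ y) = 1)
    (η χ : IrrCharacter G) :
    FF p fQ y η χ * conj (FF p fQ y η χ) = FF p fQ y η η * FF p fQ y χ χ := by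
  have hb := (s.below y hy).1
  obtain ⟨φ, d, -, hval, -⟩ := exists_of_blockRank_one s.modular hb hl
  let a : IrrCharacter G → ℂ := fun χ => ∑ θ ∈ Finset.univ.filter (· ∈ fam fQ y),
    classInner (fun c : C⟨Subgroup.zpowers y⟩ => (χ : G → ℂ) (y * (c : G))) (θ : _ → ℂ) * (d θ : ℂ)
  have hpart : ∀ (χ : IrrCharacter G) (w : C⟨Subgroup.zpowers y⟩), ¬ p ∣ orderOf w →
      blockPart (fam fQ y) (fun c : C⟨Subgroup.zpowers y⟩ => (χ : G → ℂ) (y * (c : G))) w =
        a χ * φ w := fun χ w hw => by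
    rw [blockPart_eq_sum, Finset.sum_mul]
    refine Finset.sum_congr rfl fun θ hθ => ?_
    rw [hval θ (Finset.mem_filter.1 hθ).2 w hw]
    ring
  let κ : ℂ := (p : ℂ) ^ blockDefect p (fam fQ y) * (Nat.card C⟨Subgroup.zpowers y⟩ : ℂ)⁻¹ *
    ∑ w ∈ Finset.univ.filter (fun v : C⟨Subgroup.zpowers y⟩ => ¬ p ∣ orderOf v), φ w * conj (φ w)
  have hF : ∀ η χ : IrrCharacter G, FF p fQ y η χ = κ * (a η * conj (a χ)) := by
    intro η χ
    rw [FF, contribution_eq_sum_regular s.modular hb,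
      Finset.sum_congr rfl fun w hw => by
        rw [hpart η w (Finset.mem_filter.1 hw).2, hpart χ w (Finset.mem_filter.1 hw).2, map_mul],
      mul_assoc, mul_assoc, mul_assoc, Finset.sum_mul]
    refine congrArg _ (congrArg _ (Finset.sum_congr rfl fun w _ => ?_))
    ring
  have hκ : conj κ = κ := by
    simp only [κ, map_mul, map_pow, map_natCast, map_inv₀, map_sum, Complex.conj_conj]
    congr 1
    exact Finset.sum_congr rfl fun w _ => mul_comm _ _
  clear_value κ
  rw [hF, hF, hF, map_mul, map_mul, Complex.conj_conj, hκ]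
  ring

theorem Setting.sum_FF {y : G} (hy : y ∈ P) :
    ∑ χ ∈ Finset.univ.filter (· ∈ B), FF p fQ y χ χ =
      (p : ℂ) ^ blockDefect p B * (blockRank p (fam fQ y) : ℂ) := by
  obtain ⟨hind, hdef⟩ := s.section_data hy
  rw [← hdef]
  exact sum_contribution_self s.modular (isPElem_of_mem s.pair.1.1 hy) rfl hind

theorem Setting.FF_galois {y : G} (hy : y ∈ P) {n : ℕ} [NeZero n] (hn : y ^ n = 1)
    (η χ : IrrCharacter G) :
    FF p fQ y η χ ∈ cycField n ∧ IsIntegral ℤ (FF p fQ y η χ) ∧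
      ∀ (σ : ℂ ≃+* ℂ) (j : ℕ), j.Coprime n → IsGalConj σ n j →
        σ (FF p fQ y η χ) = FF p fQ (y ^ j) η χ := by
  have hz : ∀ i : IrrCharacter C⟨Subgroup.zpowers y⟩ × IrrCharacter C⟨Subgroup.zpowers y⟩,
      (centralValue y i.1 * conj (centralValue y i.2)) ^ n = 1 := fun i => by
    rw [mul_pow, ← map_pow, centralValue_pow rfl hn, centralValue_pow rfl hn, map_one, mul_one]
  have hrep : FF p fQ y η χ = _ := (congrArg (fun g => contribution p g (fam fQ y) η χ)
    (pow_one y).symm).trans (contribution_pow_eq rfl (fam fQ y) η χ 1)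
  refine ⟨?_, isIntegral_contribution rfl (isPElem_of_mem s.pair.1.1 hy) s.modular _ η χ,
    fun σ j hj hσ => ?_⟩
  · rw [hrep]
    exact sum_mem fun i _ => mul_mem (intCast_mem _ _)
      (pow_mem (mem_cycField_of_pow_eq_one n (hz i)) _)
  · have hzp : Subgroup.zpowers (y ^ j) = Subgroup.zpowers y := by
      have hord : orderOf (y ^ j) = orderOf y :=
        Nat.Coprime.orderOf_pow ((hj.coprime_dvd_right (orderOf_dvd_of_pow_eq_one hn)).symm)
      exact Subgroup.eq_of_le_of_card_ge (Subgroup.zpowers_le.2 (Subgroup.pow_mem _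
        (Subgroup.mem_zpowers _) _)) (by rw [Nat.card_zpowers, Nat.card_zpowers, hord])
    have key : ∀ Q Q' : Subgroup G, Q = Q' → contribution p (y ^ j) (fQ Q) η χ =
        contribution p (y ^ j) (fQ Q') η χ := by
      rintro _ _ rfl; rfl
    rw [show FF p fQ (y ^ j) η χ = contribution p (y ^ j) (fam fQ y) η χ from key _ _ hzp,
      contribution_pow_eq rfl, hrep, map_sum]
    refine Finset.sum_congr rfl fun i _ => ?_
    rw [pow_one, map_mul, map_intCast, hσ _ (hz i)]

end Cfsg.Lib.Blocks.AbelianStar
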