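import Mathlib
import Cfsg.Agent.Blocks.CoveringDefect
import Cfsg.Agent.Blocks.Feit2
import Cfsg.Agent.Blocks.Orth2
import Cfsg.Agent.Blocks.Third
import Cfsg.Agent.Chars.Real
import Cfsg.Agent.Chars.Galois
import Cfsg.Agent.Chars.Gallagher

/-!
# Two-blocks of full defect which are stable under inversion on regular elements
-/

set_option autoImplicit false
set_option linter.unusedSectionVars false

namespace Cfsg.Lib.Blocks

open Cfsg.Lib.Chars
open scoped ComplexConjugate

universe u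

variable {G : Type u} [Group G] [Fintype G] {M : Ideal AlgInt}

lemma centralizer_singleton_inv (g : G) :
    Subgroup.centralizer ({g⁻¹} : Set G) = Subgroup.centralizer ({g} : Set G) := by
  ext y
  simp only [Subgroup.mem_centralizer_singleton_iff]
  exact Commute.inv_right_iff (a := y) (b := g)

lemma centralizer_singleton_pow {k : ℕ} (hk : Nat.Coprime k (Nat.card G)) (g : G) :
    Subgroup.centralizer ({g ^ k} : Set G) = Subgroup.centralizer ({g} : Set G) := by
  ext y
  simp only [Subgroup.mem_centralizer_singleton_iff]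
  refine ⟨fun h => ?_, fun h => (Commute.pow_right (a := y) (b := g) h k).eq⟩
  obtain ⟨m, hm⟩ := exists_pow_eq_self_of_coprime
    (hk.coprime_dvd_right (orderOf_dvd_natCard g))
  have := Commute.pow_right (a := y) (b := g ^ k) h m
  rwa [hm] at this

/-- In characteristic two a class function vanishing off the regular elements and symmetric on
the elements centralising a Sylow subgroup sums to its value at `1`. -/
lemma sum_eq_apply_one (hM : IsPModular 2 M) (P : Sylow 2 G) (f : G → Res M)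
    (hf : ∀ g h : G, f (h * g * h⁻¹) = f g) (h0 : ∀ g : G, 2 ∣ orderOf g → f g = 0)
    (hinv : ∀ g ∈ Subgroup.centralizer ((P : Subgroup G) : Set G), f g⁻¹ = f g) :
    ∑ g, f g = f 1 := by
  classical
  haveI := Fact.mk hM.1
  haveI := charP_res hM
  letI act : MulAction (P : Subgroup G) G :=
    { smul := fun s x => (s : G) * x * (s : G)⁻¹
      one_smul := fun x => by
        show ((1 : (P : Subgroup G)) : G) * x * ((1 : (P : Subgroup G)) : G)⁻¹ = x
        simp
      mul_smul := fun a b x => by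
        show ((a * b : (P : Subgroup G)) : G) * x * ((a * b : (P : Subgroup G)) : G)⁻¹ =
          (a : G) * ((b : G) * x * (b : G)⁻¹) * (a : G)⁻¹
        simp [mul_assoc] }
  rw [sum_eq_sum_fixed P.2 (fun r => by rw [nsmul_eq_mul, CharP.cast_eq_zero, zero_mul]) f
    (fun s x => hf x (s : G))]
  have hmem : ∀ x : G, x ∈ MulAction.fixedPoints (P : Subgroup G) G ↔
      x ∈ Subgroup.centralizer ((P : Subgroup G) : Set G) := fun x => by
    rw [MulAction.mem_fixedPoints, Subgroup.mem_centralizer_iff]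
    refine ⟨fun h s hs => ?_, fun h s => ?_⟩
    · have := h ⟨s, hs⟩
      change s * x * s⁻¹ = x at this
      exact mul_inv_eq_iff_eq_mul.1 this
    · show (s : G) * x * (s : G)⁻¹ = x
      rw [h _ s.2, mul_inv_cancel_right]
  rw [← Finset.add_sum_erase _ _ (show (1 : G) ∈ Finset.univ.filter
    (· ∈ MulAction.fixedPoints (P : Subgroup G) G) by simp [hmem]),
    show ∑ x ∈ (Finset.univ.filter (· ∈ MulAction.fixedPoints (P : Subgroup G) G)).erase 1, f x = 0
      from ?_, add_zero]
  refine Finset.sum_involution (fun x _ => x⁻¹) (fun x hx => ?_) (fun x hx hne hxx => ?_)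
    (fun x hx => ?_) (fun x _ => inv_inv x)
  · simp only [Finset.mem_erase, Finset.mem_filter, Finset.mem_univ, true_and, hmem] at hx
    rw [hinv x hx.2, ← two_mul, CharTwo.two_eq_zero, zero_mul]
  · simp only [Finset.mem_erase] at hx
    refine hne (h0 x ?_)
    have h2 : x ^ 2 = 1 := by rw [pow_two]; nth_rewrite 1 [← hxx]; exact inv_mul_cancel x
    rw [orderOf_eq_prime h2 hx.1]
  · simp only [Finset.mem_erase, Finset.mem_filter, Finset.mem_univ, true_and, hmem] at hx ⊢
    exact ⟨fun h => hx.1 (inv_eq_one.1 h), inv_mem hx.2⟩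

/-- **A 2-block of full defect stable under inversion of regular elements is principal.** -/
theorem eq_principal_of_inv_stable (hM : IsPModular 2 M) {B : Set (IrrCharacter G)}
    (hB : IsPBlock M B)
    (ha : ∀ x : G, ¬ 2 ∣ orderOf x → blockCoeff B x⁻¹ = blockCoeff B x)
    {χ : IrrCharacter G} (hχ : χ ∈ B) (hodd : Odd (deg (χ : G → ℂ))) {ψ : IrrCharacter G}
    (hψ : ψ ∈ B) (hψ1 : (ψ : G → ℂ) 1 = (χ : G → ℂ) 1)
    (hval : ∀ x : G, ¬ 2 ∣ orderOf x → (ψ : G → ℂ) x = (χ : G → ℂ) x⁻¹) :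
    B = principalBlock M G := by
  classical
  haveI := Fact.mk hM.1
  haveI := charP_res hM
  by_contra hne
  let P : Sylow 2 G := default
  have hmemχ : ∀ x, (χ : G → ℂ) x ∈ place M :=
    fun x => isIntegral_mem_place hM (IsCharacter.isIntegral (isCharacter_of_irr χ.2) x)
  have hmemψ : ∀ x, (ψ : G → ℂ) x ∈ place M :=
    fun x => isIntegral_mem_place hM (IsCharacter.isIntegral (isCharacter_of_irr ψ.2) x)
  have ha' : ∀ x : G, blockCoeff B x ∈ place M := fun x => blockCoeff_mem_place hM hB x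
  have hsing : ∀ x : G, 2 ∣ orderOf x → blockCoeff B x = 0 := fun x hx =>
    blockCoeff_eq_zero_of_singular hM hB hx
  -- the trivial character
  have h1 : ∑ x, res M (blockCoeff B x) = res M (blockCoeff B 1) := by
    refine sum_eq_apply_one hM P _ (fun g h => by rw [blockCoeff_conj])
      (fun g hg => by rw [hsing g hg, res_zero]) fun g _ => ?_
    by_cases hg : 2 ∣ orderOf g
    · rw [hsing g hg, hsing g⁻¹ (by rwa [orderOf_inv])]
    · rw [ha g hg]
  have h1' : ∑ x, blockCoeff B x = 0 := by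
    have h := omega_blockElem B (principal G)
    rw [if_neg (fun hmem => hne ((IsPBlock.eq_blockOf hM hB hmem).trans rfl))] at h
    simpa [omega, chiEval, fn_blockElem, principal] using h
  have ha0 : res M (blockCoeff B 1) = 0 := by
    rw [← h1, ← res_sum _ _ fun x _ => ha' x, h1', res_zero]
  -- the character of odd degree
  have hd : res M ((χ : G → ℂ) 1) = 1 := by
    rw [irr_apply_one_eq_deg, res_natCast]
    obtain ⟨m, hm⟩ := hodd
    rw [hm, Nat.cast_add, Nat.cast_mul, Nat.cast_one, Nat.cast_two, CharTwo.two_eq_zero, zero_mul,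
      zero_add]
  have hsym : ∀ g ∈ Subgroup.centralizer ((P : Subgroup G) : Set G), ¬ 2 ∣ orderOf g →
      res M ((χ : G → ℂ) g⁻¹) = res M ((χ : G → ℂ) g) := fun g hgP hg => by
    have hn : ¬ 2 ∣ (Subgroup.centralizer ({g} : Set G)).index := fun h2 => P.not_dvd_index <|
      h2.trans (Subgroup.index_dvd_of_le fun s hs =>
        Subgroup.mem_centralizer_singleton_iff.2 (Subgroup.mem_centralizer_iff.1 hgP s hs))
    have hi : res M ((Subgroup.centralizer ({g} : Set G)).index : ℂ) = 1 := by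
      rw [res_natCast]
      obtain ⟨m, hm⟩ := Nat.odd_iff.2 (Nat.two_dvd_ne_zero.1 hn)
      rw [hm, Nat.cast_add, Nat.cast_mul, Nat.cast_one, Nat.cast_two, CharTwo.two_eq_zero,
        zero_mul, zero_add]
    have key : ∀ φ : IrrCharacter G, (φ : G → ℂ) 1 = (χ : G → ℂ) 1 →
        res M ((φ : G → ℂ) g) = res M (centralChar (φ : G → ℂ) g) := fun φ hφ => by
      have hm := isIntegral_mem_place hM (IsCharacter.isIntegral (isCharacter_of_irr φ.2) g)
      have e : centralChar (φ : G → ℂ) g * (φ : G → ℂ) 1 =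
          ((Subgroup.centralizer ({g} : Set G)).index : ℂ) * (φ : G → ℂ) g :=
        div_mul_cancel₀ _ (IsIrrCharacter.apply_one_ne_zero φ.2)
      have e2 := congrArg (res M) e
      rw [res_mul (centralChar_mem_place hM φ g) (hφ ▸ hmemχ 1), res_mul (natCast_mem _ _) hm,
        hi, one_mul, hφ, hd, mul_one] at e2
      exact e2.symm
    rw [← hval g hg, key ψ hψ1, key χ rfl]
    exact IsPBlock.res_centralChar_eq hM hB hψ hχ g
  have h2 : ∑ x, res M (blockCoeff B x * (χ : G → ℂ) x) =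
      res M (blockCoeff B 1 * (χ : G → ℂ) 1) := by
    refine sum_eq_apply_one hM P _ (fun g h => by rw [blockCoeff_conj, isClassFunction_irr χ g h])
      (fun g hg => by rw [hsing g hg, zero_mul, res_zero]) fun g hgP => ?_
    by_cases hg : 2 ∣ orderOf g
    · rw [hsing g hg, hsing g⁻¹ (by rwa [orderOf_inv]), zero_mul, zero_mul]
    · rw [res_mul (ha' _) (hmemχ _), res_mul (ha' _) (hmemχ _), hsym g hgP hg, ha g hg]
  have h2' : ∑ x, blockCoeff B x * (χ : G → ℂ) x = (χ : G → ℂ) 1 := by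
    have h := omega_blockElem B χ
    rw [if_pos hχ] at h
    rw [omega, chiEval, div_eq_one_iff_eq (IsIrrCharacter.apply_one_ne_zero χ.2)] at h
    simpa [fn_blockElem] using h
  rw [← res_sum _ _ fun x _ => mul_mem (ha' x) (hmemχ x), h2', res_mul (ha' 1) (hmemχ 1), hd,
    ha0, zero_mul] at h2
  exact one_ne_zero h2

/-- A power map of exponent prime to the order permuting a set of characters fixes its
idempotent. -/
lemma blockCoeff_pow {k : ℕ} (hk : Nat.Coprime k (Nat.card G)) {B : Set (IrrCharacter G)}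
    (hstab : ∀ χ ∈ B, ∃ ψ ∈ B, ∀ g : G, ((ψ : IrrCharacter G) : G → ℂ) g =
      ((χ : IrrCharacter G) : G → ℂ) (g ^ k)) (x : G) :
    blockCoeff B (x ^ k) = blockCoeff B x := by
  classical
  choose! f hfB hf using hstab
  rw [blockCoeff_eq_sum, blockCoeff_eq_sum]
  congr 1
  have hinj : Set.InjOn f B := fun χ hχ χ' hχ' h => Subtype.ext (funext fun g => by
    obtain ⟨g', rfl⟩ : ∃ g', g' ^ k = g := by
      obtain ⟨m, hm⟩ := exists_pow_eq_self_of_coprime
        (hk.coprime_dvd_right (orderOf_dvd_natCard g))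
      exact ⟨g ^ m, by rw [← pow_mul, mul_comm, pow_mul, hm]⟩
    rw [← hf χ hχ g', h, hf χ' hχ' g'])
  refine Finset.sum_bij (fun χ _ => f χ) (fun χ hχ => by
      simpa using hfB χ (Finset.mem_filter.1 hχ).2)
    (fun χ hχ χ' hχ' h => hinj (Finset.mem_filter.1 hχ).2 (Finset.mem_filter.1 hχ').2 h)
    (fun ψ hψ => ?_) (fun χ hχ => by
      have h := (Finset.mem_filter.1 hχ).2
      rw [hf χ h x, hf χ h 1, one_pow])
  obtain ⟨χ, hχ, rfl⟩ := Finset.surj_on_of_inj_on_of_card_le
    (s := Finset.univ.filter (· ∈ B)) (t := Finset.univ.filter (· ∈ B)) (fun χ _ => f χ)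
    (fun χ hχ => by simpa using hfB χ (Finset.mem_filter.1 hχ).2)
    (fun χ χ' hχ hχ' h => hinj (Finset.mem_filter.1 hχ).2 (Finset.mem_filter.1 hχ').2 h)
    le_rfl ψ hψ
  exact ⟨χ, hχ, rfl⟩

lemma exists_odd_of_full_defect (hM : IsPModular 2 M) {B : Set (IrrCharacter G)}
    (hB : IsPBlock M B) (hdef : blockDefect 2 B = (Nat.card G).factorization 2) :
    ∃ χ ∈ B, Odd (deg ((χ : IrrCharacter G) : G → ℂ)) := by
  haveI := Fact.mk hM.1
  obtain ⟨χ, hχ, -⟩ := exists_height_zero hM hB
  obtain ⟨g, hg⟩ := exists_defectClass hM hB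
  obtain ⟨χ, hχ, h⟩ := (degree_bounds hM hB hg).2
  refine ⟨χ, hχ, Nat.odd_iff.2 (Nat.two_dvd_ne_zero.1 fun h2 => ?_)⟩
  have h1 := (hM.1.dvd_iff_one_le_factorization (deg_irr_pos χ).ne').1 h2
  have hle := (degree_bounds hM hB hg).1
  have hs : sInf ((fun χ : IrrCharacter G => (charDegree (χ : G → ℂ)).factorization 2) '' B) =
      (deg (χ : G → ℂ)).factorization 2 := by
    refine le_antisymm (Nat.sInf_le ⟨χ, hχ, rfl⟩) (le_csInf ⟨_, χ, hχ, rfl⟩ ?_)
    rintro _ ⟨φ, hφ, rfl⟩
    exact h.le.trans (hle φ hφ)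
  rw [blockDefect, hs] at hdef
  have : (deg (χ : G → ℂ)).factorization 2 ≤ (Nat.card G).factorization 2 := by
    rw [h]
    exact (Nat.factorization_le_iff_dvd Subgroup.index_ne_zero_of_finite Nat.card_pos.ne').2
      (Subgroup.index_dvd_card _) 2
  omega

/-- Galois-stable blocks of full defect. -/
theorem eq_principal_of_galois_stable (hM : IsPModular 2 M) {k : ℕ}
    (hk : Nat.Coprime k (Nat.card G)) (hk₂ : ∀ g : G, Odd (orderOf g) → g ^ k = g⁻¹)
    {B : Set (IrrCharacter G)} (hB : IsPBlock M B)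
    (hdef : blockDefect 2 B = (Nat.card G).factorization 2)
    (hstab : ∀ χ ∈ B, ∃ ψ ∈ B, ∀ g : G, ((ψ : IrrCharacter G) : G → ℂ) g =
      ((χ : IrrCharacter G) : G → ℂ) (g ^ k)) :
    B = principalBlock M G := by
  have hk₂' : ∀ g : G, ¬ 2 ∣ orderOf g → g ^ k = g⁻¹ :=
    fun g hg => hk₂ g (Nat.odd_iff.2 (Nat.two_dvd_ne_zero.1 hg))
  obtain ⟨χ, hχ, hodd⟩ := exists_odd_of_full_defect hM hB hdef
  obtain ⟨ψ, hψ, hv⟩ := hstab χ hχ
  refine eq_principal_of_inv_stable hM hB (fun x hx => ?_) hχ hodd hψ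
    (by rw [hv, one_pow]) fun x hx => by rw [hv, hk₂' x hx]
  rw [← hk₂' x hx, blockCoeff_pow hk hstab]

lemma coprime_card_sub_one : Nat.Coprime (Nat.card G - 1) (Nat.card G) := by
  have h : 1 ≤ Nat.card G := Nat.card_pos
  have := Nat.coprime_self_sub_left h
  rw [this]
  exact Nat.coprime_one_left _

lemma pow_card_sub_one (g : G) : g ^ (Nat.card G - 1) = g⁻¹ := by
  refine eq_inv_of_mul_eq_one_left ?_
  rw [← pow_succ, Nat.sub_add_cancel (show 1 ≤ Nat.card G from Nat.card_pos), pow_card_eq_one']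

lemma blockCoeff_inv_of_conj_stable {B : Set (IrrCharacter G)}
    (hstab : ∀ χ ∈ B, conjIrr χ ∈ B) (x : G) : blockCoeff B x⁻¹ = blockCoeff B x := by
  rw [← pow_card_sub_one x, blockCoeff_pow coprime_card_sub_one fun χ hχ =>
    ⟨_, hstab χ hχ, fun g => by
      rw [pow_card_sub_one, IsCharacter.conj_inv (isCharacter_of_irr χ.2)]; rfl⟩]

lemma conjIrr_apply (χ : IrrCharacter G) (g : G) :
    (conjIrr χ : G → ℂ) g = (χ : G → ℂ) g⁻¹ :=
  (IsCharacter.conj_inv (isCharacter_of_irr χ.2) g).symm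

lemma centralChar_conjIrr (χ : IrrCharacter G) (g : G) :
    centralChar (conjIrr χ : G → ℂ) g = centralChar (χ : G → ℂ) g⁻¹ := by
  rw [centralChar, centralChar, conjIrr_apply, conjIrr_apply, inv_one, centralizer_singleton_inv]

lemma sameBlock_conjIrr {M : Ideal AlgInt} {χ ψ : IrrCharacter G}
    (h : SameBlock M (χ : G → ℂ) ψ) : SameBlock M (conjIrr χ : G → ℂ) (conjIrr ψ) := fun g => by
  rw [centralChar_conjIrr, centralChar_conjIrr]
  exact h g⁻¹

/-- A 2-block of full defect which is closed under complex conjugation is principal. -/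
theorem eq_principal_of_conj_stable (hM : IsPModular 2 M) {B : Set (IrrCharacter G)}
    (hB : IsPBlock M B) (hstab : ∀ χ ∈ B, conjIrr χ ∈ B) {χ : IrrCharacter G} (hχ : χ ∈ B)
    (hodd : Odd (deg (χ : G → ℂ))) : B = principalBlock M G :=
  eq_principal_of_inv_stable hM hB (fun x _ => blockCoeff_inv_of_conj_stable hstab x) hχ hodd
    (hstab χ hχ) (by rw [conjIrr_apply, inv_one]) fun x _ => conjIrr_apply χ x

/-- A character of odd degree whose conjugate is in its own block is in the principal block. -/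
theorem mem_principal_of_conj_mem (hM : IsPModular 2 M) {χ : IrrCharacter G}
    (hodd : Odd (deg (χ : G → ℂ))) (hconj : SameBlock M (χ : G → ℂ) (conjIrr χ)) :
    χ ∈ principalBlock M G := by
  rw [← eq_principal_of_conj_stable hM (isPBlock_blockOf χ) (fun φ hφ => ?_)
    (mem_blockOf_self hM χ) hodd]
  · exact mem_blockOf_self hM χ
  · have h := blockOf_eq_of_mem hM (χ := χ) (ψ := conjIrr χ) hconj
    rw [← h]
    exact sameBlock_conjIrr hφ

theorem mem_principal_of_real (hM : IsPModular 2 M) {χ : IrrCharacter G}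
    (hreal : ∀ g : G, ((χ : G → ℂ) g).im = 0) (hodd : Odd (deg (χ : G → ℂ))) :
    χ ∈ principalBlock M G :=
  mem_principal_of_conj_mem hM hodd (by
    rw [(conjIrr_eq_self_iff χ).2 hreal]
    exact mem_blockOf_self hM χ)

/-- The number of real characters of odd degree. -/
theorem card_real_odd_le (hM : IsPModular 2 M) :
    Nat.card {χ : IrrCharacter G // (∀ g : G, ((χ : G → ℂ) g).im = 0) ∧
      Odd (charDegree (χ : G → ℂ))} ≤ 2 ^ (2 * (Nat.card G).factorization 2) := by
  have hle : Nat.card {χ : IrrCharacter G // (∀ g : G, ((χ : G → ℂ) g).im = 0) ∧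
      Odd (charDegree (χ : G → ℂ))} ≤ Nat.card (principalBlock M G) :=
    Nat.card_le_card_of_injective
      (fun x => ⟨x.1, mem_principal_of_real hM x.2.1 x.2.2⟩)
      fun x y h => by
        simp only [Subtype.mk.injEq] at h
        exact Subtype.ext h
  have h4 := four_mul_card_le hM (B := principalBlock M G) (isPBlock_blockOf (principal G))
  have hd : blockDefect 2 (principalBlock M G) ≤ (Nat.card G).factorization 2 := Nat.sub_le _ _
  have hpow : 2 ^ (2 * blockDefect 2 (principalBlock M G)) ≤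
      2 ^ (2 * (Nat.card G).factorization 2) := Nat.pow_le_pow_right (by norm_num) (by omega)
  have hpos : 1 ≤ 2 ^ (2 * (Nat.card G).factorization 2) := Nat.one_le_two_pow
  omega

/-- Characters agreeing on regular elements lie in one block. -/
theorem sameBlock_of_eq_on_regular {p : ℕ} (hM : IsPModular p M) {χ ψ : IrrCharacter G}
    (h : ∀ x : G, ¬ p ∣ orderOf x → (χ : G → ℂ) x = (ψ : G → ℂ) x) :
    SameBlock M (χ : G → ℂ) ψ := by
  classical
  have h1 := omega_blockElem (blockOf M (χ : G → ℂ)) χ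
  have h2 := omega_blockElem (blockOf M (χ : G → ℂ)) ψ
  rw [if_pos (mem_blockOf_self hM χ)] at h1
  have e : omega (ψ : G → ℂ) (blockElem (blockOf M (χ : G → ℂ))) =
      omega (χ : G → ℂ) (blockElem (blockOf M (χ : G → ℂ))) := by
    simp only [omega, chiEval]
    rw [h 1 (by rw [orderOf_one]; exact hM.1.not_dvd_one)]
    congr 1
    refine Finset.sum_congr rfl fun x _ => ?_
    rw [fn_blockElem]
    by_cases hx : p ∣ orderOf x
    · rw [blockCoeff_eq_zero_of_singular hM (isPBlock_blockOf χ) hx, zero_mul, zero_mul]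
    · rw [h x hx]
  rw [e, h1] at h2
  by_contra hc
  rw [if_neg (fun h' : ψ ∈ blockOf M (χ : G → ℂ) => hc h')] at h2
  exact one_ne_zero h2

/-- **A real character of odd degree with an extension has one in the principal block.** -/
theorem exists_extension_principal (hM : IsPModular 2 M) (N : Subgroup G) [N.Normal] [Fintype N]
    {θ : IrrCharacter N} (hreal : ∀ n : N, ((θ : N → ℂ) n).im = 0)
    (hodd : Odd (deg (θ : N → ℂ))) {η : IrrCharacter G}
    (hη : ∀ n : N, (η : G → ℂ) n = (θ : N → ℂ) n) :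
    ∃ η' : IrrCharacter G, (∀ n : N, (η' : G → ℂ) n = (θ : N → ℂ) n) ∧
      η' ∈ principalBlock M G := by
  have hc : ∀ n : N, (conjIrr η : G → ℂ) n = (θ : N → ℂ) n := fun n => by
    show conj ((η : G → ℂ) n) = _
    rw [hη]; exact Complex.conj_eq_iff_im.2 (hreal n)
  obtain ⟨f, hf1, hf⟩ := exists_linear_of_extensions N θ.2 η.2 (conjIrr η).2 hη hc
  obtain ⟨e, o, hoodd, ho⟩ := Nat.exists_eq_two_pow_mul_odd (isOfFinOrder_of_finite f).orderOf_pos.ne'
  obtain ⟨m, hm⟩ := hoodd
  have hmem : Cfsg.IsIrrCharacter G ((fun g => (((f ^ (m + 1)) g : ℂˣ) : ℂ)) * (η : G → ℂ)) := by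
    have := IsIrrCharacter.mul_linear η.2 (f ^ (m + 1))
    convert this using 1
    funext g
    simp [mul_comm]
  let η' : IrrCharacter G := ⟨_, hmem⟩
  have hres : ∀ n : N, (η' : G → ℂ) n = (θ : N → ℂ) n := fun n => by
    show (((f ^ (m + 1)) (n : G) : ℂˣ) : ℂ) * (η : G → ℂ) n = _
    simp [hf1 n, hη]
  have hdeg : deg (η' : G → ℂ) = deg (θ : N → ℂ) := by
    have h1 : (η' : G → ℂ) 1 = (θ : N → ℂ) 1 := hres 1
    rw [irr_apply_one_eq_deg, irr_apply_one_eq_deg] at h1
    exact_mod_cast h1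
  refine ⟨η', hres, mem_principal_of_conj_mem hM (hdeg ▸ hodd)
    (sameBlock_of_eq_on_regular hM fun x hx => ?_)⟩
  have hu : f x ^ o = 1 := by
    have h1 : (f x ^ o) ^ 2 ^ e = 1 := by
      rw [← pow_mul, mul_comm, ← ho, ← MonoidHom.pow_apply, pow_orderOf_eq_one, MonoidHom.one_apply]
    have h2 : (f x ^ o) ^ orderOf x = 1 := by
      rw [← pow_mul, mul_comm, pow_mul, ← map_pow, pow_orderOf_eq_one, map_one, one_pow]
    have h3 := pow_gcd_eq_one.2 ⟨h1, h2⟩
    rwa [Nat.Coprime.gcd_eq_one ((Nat.prime_two.coprime_iff_not_dvd.2 hx).pow_left e), pow_one]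
      at h3
  have hη0 : conj ((η : G → ℂ) x) = (f x : ℂ) * (η : G → ℂ) x := congrFun hf x
  have hr : conj ((f x : ℂ)) * (f x : ℂ) = 1 := by
    rw [← Complex.normSq_eq_conj_mul_self, Complex.normSq_eq_norm_sq,
      Complex.norm_eq_one_of_pow_eq_one (n := o) (by rw [← Units.val_pow_eq_pow_val, hu,
        Units.val_one]) (by omega)]
    norm_num
  show (((f ^ (m + 1)) x : ℂˣ) : ℂ) * (η : G → ℂ) x =
    conj ((((f ^ (m + 1)) x : ℂˣ) : ℂ) * (η : G → ℂ) x)
  have hv : ((f x : ℂ)) ^ (2 * m + 1) = 1 := by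
    rw [← hm, ← Units.val_pow_eq_pow_val, hu, Units.val_one]
  rw [MonoidHom.pow_apply, Units.val_pow_eq_pow_val, map_mul, map_pow, hη0]
  have hcm : (conj (f x : ℂ)) ^ (m + 1) * ((f x : ℂ)) ^ (m + 1) = 1 := by
    rw [← mul_pow, hr, one_pow]
  have h2 : ((f x : ℂ)) ^ (m + 1) * (f x : ℂ) ^ (m + 1) = (f x : ℂ) := by
    rw [← pow_add, show m + 1 + (m + 1) = 2 * m + 1 + 1 by ring, pow_succ, hv, one_mul]
  linear_combination ((f x : ℂ) ^ (m + 1) * (η : G → ℂ) x) * (-1 : ℂ) * hcm +
    (conj (f x : ℂ)) ^ (m + 1) * (η : G → ℂ) x * h2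

end Cfsg.Lib.Blocks
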