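import Mathlib
import Cfsg.Agent.Blocks.RealTwo
import Cfsg.Agent.Blocks.Columns

/-!
# Galois-fixed characters and principal 2-blocks
-/

set_option autoImplicit false
set_option linter.unusedSectionVars false

namespace Cfsg.Lib.Blocks

open Cfsg.Lib.Chars
open scoped ComplexConjugate

universe u

variable {G : Type u} [Group G] [Fintype G] {M : Ideal AlgInt}

/-- A power map of exponent prime to the order sends irreducible characters to irreducible
characters. -/
theorem exists_powChar {k : ℕ} (hk : Nat.Coprime k (Nat.card G)) (χ : IrrCharacter G) :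
    ∃ ψ : IrrCharacter G, ∀ g : G, (ψ : G → ℂ) g = (χ : G → ℂ) (g ^ k) := by
  haveI : NeZero (Nat.card G) := ⟨Nat.card_pos.ne'⟩
  obtain ⟨σ, hσ⟩ := exists_galConj_auto (m := Nat.card G) hk
  exact ⟨⟨_, IsIrrCharacter.map_auto χ.2 σ⟩, fun g =>
    IsGalConj.apply_character hσ (isCharacter_of_irr χ.2) (orderOf_dvd_natCard g)⟩

lemma centralChar_powChar {k : ℕ} (hk : Nat.Coprime k (Nat.card G)) {χ ψ : IrrCharacter G}
    (h : ∀ g : G, (ψ : G → ℂ) g = (χ : G → ℂ) (g ^ k)) (g : G) :
    centralChar (ψ : G → ℂ) g = centralChar (χ : G → ℂ) (g ^ k) := by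
  rw [centralChar, centralChar, h, h, one_pow, centralizer_singleton_pow hk]

/-- The block of a fixed character is stable. -/
theorem powChar_stable (hM : IsPModular 2 M) {k : ℕ} (hk : Nat.Coprime k (Nat.card G))
    {χ : IrrCharacter G} (hχ : ∀ g : G, (χ : G → ℂ) (g ^ k) = (χ : G → ℂ) g) :
    ∀ φ ∈ blockOf M (χ : G → ℂ), ∃ ψ ∈ blockOf M (χ : G → ℂ),
      ∀ g : G, ((ψ : IrrCharacter G) : G → ℂ) g = ((φ : IrrCharacter G) : G → ℂ) (g ^ k) := by
  intro φ hφ
  obtain ⟨ψ, hψ⟩ := exists_powChar hk φ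
  refine ⟨ψ, (sameBlock_iff_res hM χ ψ).2 fun g => ?_, hψ⟩
  rw [centralChar_powChar hk hψ, ← (sameBlock_iff_res hM χ φ).1 hφ (g ^ k),
    ← centralChar_powChar hk (χ := χ) (ψ := χ) (fun g => (hχ g).symm)]

/-- Galois-fixed characters over a normal subgroup of odd index. -/
theorem mem_principal_iff_of_fixed (hM : IsPModular 2 M) (N : Subgroup G) [N.Normal] [Fintype N]
    (hidx : Odd N.index) {k : ℕ} (hk : Nat.Coprime k (Nat.card G))
    (hk₂ : ∀ g : G, Odd (orderOf g) → g ^ k = g⁻¹) {θ : IrrCharacter N} {χ : IrrCharacter G}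
    (hχ : ∀ g : G, (χ : G → ℂ) (g ^ k) = (χ : G → ℂ) g)
    (hover : classInner (fun n : N => (χ : G → ℂ) n) (θ : N → ℂ) ≠ 0) :
    χ ∈ principalBlock M G ↔ θ ∈ principalBlock M N := by
  haveI := Fact.mk hM.1
  constructor
  · intro hB
    have h1 : classInner (fun n : N => (principal G : G → ℂ) n) (principal N : N → ℂ) ≠ 0 := by
      rw [show (fun n : N => (principal G : G → ℂ) n) = (principal N : N → ℂ) from rfl,
        classInner_self_irr (principal N).2]
      exact one_ne_zero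
    obtain ⟨g, θ', hθ', rfl⟩ := constituent_mem_orb hM
      (isPBlock_blockOf (M := M) (principal G)) (isPBlock_blockOf (principal N))
      (mem_blockOf_self hM _) hB (mem_blockOf_self hM _) h1 hover
    have hfix : cjIrr N g (principal N) = principal N := Subtype.ext (by rw [cjIrr_val]; rfl)
    have himg : cjIrr N g '' blockOf M (principal N : N → ℂ) = blockOf M (principal N : N → ℂ) :=
      IsPBlock.eq_of_mem_inter hM (IsPBlock.image_irrEquiv _ (isPBlock_blockOf _))
        (isPBlock_blockOf _) ⟨_, mem_blockOf_self hM _, hfix⟩ (mem_blockOf_self hM _)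
    exact himg.subset ⟨θ', hθ', rfl⟩
  · intro hθ
    have hB : IsPBlock M (blockOf M (χ : G → ℂ)) := isPBlock_blockOf χ
    obtain ⟨P, hP⟩ := exists_defectGroup hM hB
    obtain ⟨D, hD⟩ := exists_defectGroup hM (isPBlock_blockOf (M := M) (principal N))
    obtain ⟨x, hx⟩ := covered_defect_le hM hB hP (isPBlock_blockOf (principal N))
      ⟨χ, mem_blockOf_self hM χ, θ, hθ, hover⟩ hD
    have hcard := Subgroup.card_le_of_le hx
    rw [card_map_conj, card_map_subtype', IsDefectGroup.card hM hB hP,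
      sylow_of_principal hM (χ₀ := principal N) rfl hD, Nat.pow_le_pow_iff_right one_lt_two]
      at hcard
    have heq : (Nat.card G).factorization 2 = (Nat.card N).factorization 2 := by
      rw [← N.card_mul_index, Nat.factorization_mul Nat.card_pos.ne'
        Subgroup.index_ne_zero_of_finite, Finsupp.add_apply,
        Nat.factorization_eq_zero_of_not_dvd (Nat.two_dvd_ne_zero.2 (Nat.odd_iff.1 hidx)), add_zero]
    have hd : blockDefect 2 (blockOf M (χ : G → ℂ)) = (Nat.card G).factorization 2 :=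
      le_antisymm (Nat.sub_le _ _) (heq ▸ hcard)
    rw [← eq_principal_of_galois_stable hM hk hk₂ hB hd (powChar_stable hM hk hχ)]
    exact mem_blockOf_self hM χ

lemma two_pow_dvd_three_pow (j : ℕ) : (2 : ℤ) ^ j ∣ 3 ^ 2 ^ j - 1 := by
  induction j with
  | zero => simp
  | succ j ih =>
    have h : (3 : ℤ) ^ 2 ^ (j + 1) - 1 = (3 ^ 2 ^ j - 1) * (3 ^ 2 ^ j + 1) := by
      rw [pow_succ, pow_mul]; ring
    rw [h, pow_succ]
    exact mul_dvd_mul ih ((Odd.pow (by decide : Odd (3 : ℤ))).add_one.two_dvd)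

lemma pow_iterate_eq_self {k : ℕ} (hk₁ : ∀ g : G, (∃ j : ℕ, orderOf g = 2 ^ j) → g ^ k = g ^ 3)
    (hk₂ : ∀ g : G, Odd (orderOf g) → g ^ k = g) (g : G) :
    g ^ k ^ 2 ^ (Nat.card G).factorization 2 = g := by
  obtain ⟨e, o, ho, he⟩ := Nat.exists_eq_two_pow_mul_odd (orderOf_pos g).ne'
  set K := k ^ 2 ^ (Nat.card G).factorization 2 with hK
  have key : ∀ (h : G) (c : ℕ), h ^ k = h ^ c → ∀ j, h ^ k ^ j = h ^ c ^ j := by
    intro h c hc j
    induction j with
    | zero => simp
    | succ j ih => rw [pow_succ, pow_succ', pow_mul, ih, ← pow_mul, mul_comm, pow_mul, hc,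
        ← pow_mul]
  have hq : e ≤ (Nat.card G).factorization 2 :=
    (Nat.prime_two.pow_dvd_iff_le_factorization Nat.card_pos.ne').1
      ((Dvd.intro o he.symm).trans (orderOf_dvd_natCard g))
  have h1 : (g ^ o) ^ K = g ^ o := by
    have hord : orderOf (g ^ o) = 2 ^ e := by
      rw [orderOf_pow_of_dvd (Nat.ne_of_odd_add (n := 0) (by simpa using ho))
        (Dvd.intro_left _ he.symm), he, Nat.mul_div_cancel _ ho.pos]
    rw [hK, key _ 3 (hk₁ _ ⟨e, hord⟩)]
    conv_rhs => rw [← pow_one (g ^ o)]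
    rw [pow_eq_pow_iff_modEq, hord, Nat.modEq_iff_dvd]
    push_cast
    rw [dvd_sub_comm]
    exact (pow_dvd_pow _ hq).trans (two_pow_dvd_three_pow _)
  have h2 : (g ^ 2 ^ e) ^ K = g ^ 2 ^ e := by
    have hord : Odd (orderOf (g ^ 2 ^ e)) := by
      rw [orderOf_pow_of_dvd (pow_ne_zero _ two_ne_zero) (Dvd.intro o he.symm), he,
        Nat.mul_div_cancel_left _ (Nat.two_pow_pos e)]
      exact ho
    rw [hK, key _ 1 (by rw [pow_one]; exact hk₂ _ hord), one_pow, pow_one]
  have hh : ∀ i : ℕ, (g ^ i) ^ K = g ^ i → (g ^ K * g⁻¹) ^ i = 1 := fun i hi => by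
    rw [(((Commute.refl g).pow_left K).inv_right).mul_pow, ← pow_mul, mul_comm, pow_mul, hi,
      inv_pow, mul_inv_cancel]
  have := pow_gcd_eq_one.2 ⟨hh _ h2, hh _ h1⟩
  rw [Nat.Coprime.gcd_eq_one ((Nat.coprime_two_left.2 ho).pow_left e), pow_one] at this
  exact mul_inv_eq_one.1 this

/-- The number of fixed odd degree characters in the principal block is even. -/
theorem even_card_fixed (hM : IsPModular 2 M) (hev : Even (Nat.card G)) {k : ℕ}
    (hk₁ : ∀ g : G, (∃ j : ℕ, orderOf g = 2 ^ j) → g ^ k = g ^ 3)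
    (hk₂ : ∀ g : G, Odd (orderOf g) → g ^ k = g) :
    Even (Nat.card {χ : IrrCharacter G // χ ∈ principalBlock M G ∧
      Odd (charDegree (χ : G → ℂ)) ∧ ∀ g : G, (χ : G → ℂ) (g ^ k) = (χ : G → ℂ) g}) := by
  classical
  haveI := Fact.mk hM.1
  haveI := charP_res hM
  set a := (Nat.card G).factorization 2 with ha
  have hpow := pow_iterate_eq_self hk₁ hk₂
  have hk : Nat.Coprime k (Nat.card G) := by
    refine Nat.coprime_of_dvd fun q hq hqk hqG => ?_
    haveI := Fact.mk hq
    obtain ⟨g, hg⟩ := exists_prime_orderOf_dvd_card' q hqG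
    have h := hpow g
    rw [orderOf_dvd_iff_pow_eq_one.1 (hg ▸ dvd_pow hqk (pow_ne_zero _ two_ne_zero))] at h
    rw [← h, orderOf_one] at hg
    exact hq.ne_one hg.symm
  set B := principalBlock M G with hB
  have hBb : IsPBlock M B := isPBlock_blockOf (principal G)
  let S := {χ : IrrCharacter G // χ ∈ B ∧ Odd (charDegree (χ : G → ℂ))}
  have hmap : ∀ χ : S, ∃ ψ : S, ∀ g : G, (ψ.1 : G → ℂ) g = (χ.1 : G → ℂ) (g ^ k) := fun χ => by
    obtain ⟨ψ, hψB, hψ⟩ := powChar_stable hM hk (χ := principal G) (fun _ => rfl) χ.1 χ.2.1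
    refine ⟨⟨ψ, hψB, ?_⟩, hψ⟩
    have := χ.2.2
    rw [charDegree] at this ⊢
    rwa [hψ, one_pow]
  choose f hf using hmap
  have hiter : ∀ (j : ℕ) (χ : S) (g : G),
      ((f^[j] χ).1 : G → ℂ) g = (χ.1 : G → ℂ) (g ^ k ^ j) := by
    intro j
    induction j with
    | zero => simp
    | succ j ih =>
      intro χ g
      rw [Function.iterate_succ_apply', hf, ih, ← pow_mul, ← pow_succ']
  let F : Function.End S := f
  have hfpow : F ^ 2 ^ a = 1 := by
    refine funext fun χ => ?_
    rw [show (F ^ 2 ^ a) χ = f^[2 ^ a] χ from congrFun (hom_coe_pow (fun g : Function.End S => g) rfl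
      (fun g h => rfl) F (2 ^ a)) χ]
    refine Subtype.ext (Subtype.ext (funext fun g => ?_))
    rw [hiter, hpow]
    rfl
  have hmod := Equiv.Perm.card_fixedPoints_modEq (p := 2) (n := a) hfpow
  -- the total number is even
  have heven : Even (Fintype.card S) := by
    have h := blockCoeff_eq_sum (G := G) B 1
    have hsum : ((∑ χ ∈ Finset.univ.filter (· ∈ B), deg (χ : G → ℂ) ^ 2 : ℕ) : ℂ) =
        (Nat.card G : ℂ) * blockCoeff B 1 := by
      rw [h, ← mul_assoc, mul_inv_cancel₀ (Nat.cast_ne_zero.2 Nat.card_pos.ne'), one_mul,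
        Nat.cast_sum]
      refine Finset.sum_congr rfl fun χ _ => ?_
      rw [irr_apply_one_eq_deg, Complex.conj_natCast, pow_two, Nat.cast_mul]
    have hd : 2 ∣ ∑ χ ∈ Finset.univ.filter (· ∈ B), deg (χ : G → ℂ) ^ 2 := by
      rw [← res_natCast_eq_zero_iff hM, ← res_natCast, hsum, res_mul (natCast_mem _ _)
        (blockCoeff_mem_place hM hBb 1), res_natCast,
        (res_natCast_eq_zero_iff hM _).2 (even_iff_two_dvd.1 hev), zero_mul]
    rw [even_iff_two_dvd, ← ZMod.natCast_eq_zero_iff_even.trans even_iff_two_dvd]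
    rw [← even_iff_two_dvd, ← ZMod.natCast_eq_zero_iff_even, Nat.cast_sum] at hd
    rw [← hd, Fintype.card_subtype, ← Finset.filter_filter, Finset.card_filter, Nat.cast_sum]
    refine Finset.sum_congr rfl fun χ _ => ?_
    rw [charDegree_eq_deg, Nat.cast_pow]
    split_ifs with hodd
    · rw [ZMod.natCast_eq_one_iff_odd.2 hodd, Nat.cast_one, one_pow]
    · rw [ZMod.natCast_eq_zero_iff_even.2 (Nat.not_odd_iff_even.1 hodd), Nat.cast_zero,
        zero_pow two_ne_zero]
  let e : {χ : IrrCharacter G // χ ∈ B ∧ Odd (charDegree (χ : G → ℂ)) ∧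
      ∀ g : G, (χ : G → ℂ) (g ^ k) = (χ : G → ℂ) g} ≃ Function.fixedPoints F :=
    { toFun := fun χ => ⟨⟨χ.1, χ.2.1, χ.2.2.1⟩, Subtype.ext (Subtype.ext (funext fun g => by
        rw [hf]; exact χ.2.2.2 g))⟩
      invFun := fun x => ⟨x.1.1, x.1.2.1, x.1.2.2, fun g => by
        rw [← hf x.1 g, show f x.1 = x.1 from x.2]⟩
      left_inv := fun _ => rfl
      right_inv := fun _ => rfl }
  rw [Nat.card_congr e, Nat.card_eq_fintype_card, Nat.even_iff, ← hmod]
  exact Nat.even_iff.1 heven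

end Cfsg.Lib.Blocks
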