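import Mathlib
import Cfsg.Agent.Blocks.AbelianSubsections
import Cfsg.Agent.Blocks.InertialCyclic
import Cfsg.Agent.Blocks.TrivialInertia
import Cfsg.Agent.Blocks.AbelianLocal

/-!
# The inertial quotient of a homocyclic defect group of rank two
-/

set_option autoImplicit false
set_option linter.unusedSectionVars false
set_option linter.style.haveILetI false

namespace Cfsg.Lib.Blocks.Homocyclic

open Cfsg Cfsg.Lib.Chars Cfsg.Lib.Blocks

universe u

local notation "C⟨" P "⟩" => Subgroup.centralizer (SetLike.coe P)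

lemma card_double_eq_zero (h : ℕ) (hh : 0 < h) :
    Nat.card {x : ZMod (2 * h) // x + x = 0} = 2 := by
  classical
  haveI : NeZero (2 * h) := ⟨by omega⟩
  have hne : (0 : ZMod (2 * h)) ≠ (h : ZMod (2 * h)) := fun e => by
    have := congrArg ZMod.val e
    rw [ZMod.val_zero, ZMod.val_natCast, Nat.mod_eq_of_lt (by omega)] at this
    omega
  have hset : {x : ZMod (2 * h) | x + x = 0} = {0, (h : ZMod (2 * h))} := by
    ext x
    simp only [Set.mem_setOf_eq, Set.mem_insert_iff, Set.mem_singleton_iff]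
    constructor
    · intro hx
      have h1 := congrArg ZMod.val hx
      rw [ZMod.val_add, ZMod.val_zero] at h1
      have hlt := x.val_lt
      obtain ⟨k, hk⟩ := Nat.dvd_of_mod_eq_zero h1
      have hk2 : k < 2 := by
        by_contra hk2
        have : 2 * h * 2 ≤ 2 * h * k := Nat.mul_le_mul_left _ (by omega)
        omega
      interval_cases k
      · left
        exact (ZMod.val_eq_zero x).1 (by omega)
      · right
        rw [← ZMod.natCast_zmod_val x]
        congr 1
        omega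
    · rintro (rfl | rfl)
      · simp
      · rw [← Nat.cast_add, ← two_mul]
        exact ZMod.natCast_self _
  rw [show Nat.card {x : ZMod (2 * h) // x + x = 0} =
    Set.ncard {x : ZMod (2 * h) | x + x = 0} from Nat.card_coe_set_eq _, hset, Set.ncard_pair hne]

lemma card_invol_prod {A : Type*} [Group A] {m : ℕ} (hm : 1 ≤ m)
    (e : A ≃* Multiplicative (ZMod (2 ^ m) × ZMod (2 ^ m))) :
    Nat.card {u : A // u * u = 1} = 4 := by
  obtain ⟨j, rfl⟩ := Nat.exists_eq_add_of_le hm
  have h2 : (2 : ℕ) ^ (1 + j) = 2 * 2 ^ j := by rw [pow_add, pow_one]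
  have key : Nat.card {x : ZMod (2 ^ (1 + j)) // x + x = 0} = 2 := by
    rw [h2]; exact card_double_eq_zero _ (Nat.two_pow_pos j)
  rw [Nat.card_congr (Equiv.subtypeEquiv (q := fun x : ZMod (2 ^ (1 + j)) × ZMod (2 ^ (1 + j)) =>
      x.1 + x.1 = 0 ∧ x.2 + x.2 = 0) (e.toEquiv.trans Multiplicative.toAdd) fun u => ?_),
    Nat.card_congr (Equiv.subtypeProdEquivProd (p := fun x : ZMod (2 ^ (1 + j)) => x + x = 0)
      (q := fun x : ZMod (2 ^ (1 + j)) => x + x = 0)), Nat.card_prod, key]
  simp only [Equiv.trans_apply, MulEquiv.toEquiv_eq_coe, MulEquiv.coe_toEquiv]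
  rw [← e.injective.eq_iff, map_mul, map_one, ← Multiplicative.toAdd.injective.eq_iff, toAdd_mul,
    toAdd_one, Prod.ext_iff]
  simp

variable {G : Type u} [Group G] [Fintype G] {M : Ideal AlgInt} {B : Set (IrrCharacter G)}
  {P T : Subgroup G} {c : Set (IrrCharacter C⟨P⟩)}

variable (hM : IsPModular 2 M) (hD : IsDefectGroup 2 M B P) (hc : IsBrauerPairOf 2 M B P c)
  (hT : IsPairStab P c T) (hab : ∀ a ∈ P, ∀ b ∈ P, a * b = b * a)
  (hV : Nat.card {u : P // u * u = 1} = 4)
include hM hD hc hT hab hV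

theorem inertial : (∀ y ∈ P, y ≠ 1 → ∀ t ∈ T, t * y * t⁻¹ = y → t ∈ C⟨P⟩) ∧
    (C⟨P⟩.relIndex T = 1 ∨ C⟨P⟩.relIndex T = 3) := by
  classical
  haveI := Fact.mk hM.1
  letI := Fintype.ofFinite C⟨P⟩
  have hPC : P ≤ C⟨P⟩ := fun x hx => Subgroup.mem_centralizer_iff.2 fun y hy => hab y hy x hx
  have hodd : ¬ 2 ∣ C⟨P⟩.relIndex T := not_dvd_inertial_index hM hD hPC
    ((isBrauerPairOf_iff hM B P c).1 hc).2 hT
  haveI : (C⟨P⟩.subgroupOf T).Normal := ⟨fun z hz t =>
    (Subgroup.mem_normalizer_iff.1 (centralizer_le_normalizer_centralizer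
      ((hT _).1 t.2).1 le_rfl) (z : G)).1 hz⟩
  set e := C⟨P⟩.relIndex T with he
  have hpow : ∀ t ∈ T, t ^ e ∈ C⟨P⟩ := fun t ht => by
    have h : (⟨t, ht⟩ : T) ^ e ∈ C⟨P⟩.subgroupOf T := by
      rw [he, Subgroup.relIndex]
      exact Subgroup.pow_index_mem _ _
    exact h
  have hconjC : ∀ t ∈ C⟨P⟩, ∀ z ∈ P, t * z * t⁻¹ = z := fun t ht z hz => by
    rw [← Subgroup.mem_centralizer_iff.1 ht z hz, mul_inv_cancel_right]
  have hsq1 : ∀ a b : G, a * a = 1 → b * b = 1 → a * b = b * a → a * b * (a * b) = 1 := by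
    intro a b ha hb hab'
    calc a * b * (a * b) = a * b * (b * a) := by rw [hab']
      _ = a * (b * b) * a := by group
      _ = 1 := by rw [hb, mul_one, ha]
  -- fixing one involution fixes all
  have hom : ∀ z ∈ P, z ≠ 1 → z * z = 1 → ∀ t ∈ T, t * z * t⁻¹ = z →
      ∀ w ∈ P, w * w = 1 → t * w * t⁻¹ = w := by
    intro z hz hz1 hzz t ht htz w hw hww
    by_cases hw1 : w = 1
    · rw [hw1, mul_one, mul_inv_cancel]
    by_cases hwz : w = z
    · rw [hwz]; exact htz
    have hN := Subgroup.mem_normalizer_iff.1 ((hT t).1 ht).1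
    have hall : ∀ u ∈ P, u * u = 1 → u = 1 ∨ u = z ∨ u = w ∨ u = z * w := by
      intro u hu huu
      by_contra hne
      push Not at hne
      obtain ⟨h1, h2, h3, h4⟩ := hne
      have hzw1 : z * w ≠ 1 := fun h => hwz (mul_left_cancel (a := z) (by rw [hzz, h]))
      have hzwz : z * w ≠ z := fun h => hw1 (mul_eq_left.1 h)
      have hzww : z * w ≠ w := fun h => hz1 (mul_eq_right.1 h)
      let S : Finset {v : P // v * v = 1} := {⟨1, one_mul _⟩, ⟨⟨z, hz⟩, Subtype.ext hzz⟩,
        ⟨⟨w, hw⟩, Subtype.ext hww⟩,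
        ⟨⟨z * w, P.mul_mem hz hw⟩, Subtype.ext (hsq1 z w hzz hww (hab z hz w hw))⟩,
        ⟨⟨u, hu⟩, Subtype.ext huu⟩}
      have hS : S.card = 5 := by
        simp only [S]
        rw [Finset.card_insert_of_notMem (by
            simp [Subtype.ext_iff, Ne.symm hz1, Ne.symm hw1, Ne.symm hzw1, Ne.symm h1]),
          Finset.card_insert_of_notMem (by
            simp [Subtype.ext_iff, Ne.symm hwz, Ne.symm hzwz, Ne.symm h2, hw1]),
          Finset.card_insert_of_notMem (by simp [Subtype.ext_iff, Ne.symm hzww, Ne.symm h3, hz1]),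
          Finset.card_insert_of_notMem (by simp [Subtype.ext_iff, Ne.symm h4]),
          Finset.card_singleton]
      have := Finset.card_le_univ S
      rw [hS, ← Nat.card_eq_fintype_card, hV] at this
      omega
    have hiw : t * w * t⁻¹ * (t * w * t⁻¹) = 1 := by
      rw [show t * w * t⁻¹ * (t * w * t⁻¹) = t * (w * w) * t⁻¹ by group, hww]; group
    rcases hall _ ((hN w).1 hw) hiw with h | h | h | h
    · exact absurd (conj_eq_one_iff.1 h) hw1
    · exact absurd (mul_left_cancel (mul_right_cancel (h.trans htz.symm))) hwz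
    · exact h
    · exfalso
      have key : ∀ j : ℕ, t ^ j * w * (t ^ j)⁻¹ = z ^ j * w := by
        intro j
        induction j with
        | zero => simp
        | succ j ih =>
          have hzj : t * z ^ j * t⁻¹ = z ^ j := by
            rw [← conj_pow, htz]
          calc t ^ (j + 1) * w * (t ^ (j + 1))⁻¹ = t * (t ^ j * w * (t ^ j)⁻¹) * t⁻¹ := by
                rw [pow_succ']; group
            _ = (t * z ^ j * t⁻¹) * (t * w * t⁻¹) := by rw [ih]; group
            _ = z ^ (j + 1) * w := by rw [hzj, h, pow_succ]; group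
      have h' := key e
      rw [hconjC _ (hpow t ht) w hw] at h'
      obtain ⟨j, hj⟩ := Nat.not_even_iff_odd.1 fun h => hodd (even_iff_two_dvd.1 h)
      rw [hj, pow_succ, pow_mul, pow_two, hzz, one_pow, one_mul] at h'
      exact hz1 (mul_eq_right.1 h'.symm)
  have hfree : ∀ y ∈ P, y ≠ 1 → ∀ t ∈ T, t * y * t⁻¹ = y → t ∈ C⟨P⟩ := by
    intro y hy hy1 t ht hty
    obtain ⟨k, hk⟩ := IsPGroup.iff_orderOf.1 (IsDefectGroup.isPGroup hD) ⟨y, hy⟩
    rw [← Subgroup.orderOf_coe] at hk
    obtain ⟨k, rfl⟩ : ∃ j, k = j + 1 := by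
      refine Nat.exists_eq_succ_of_ne_zero fun h => hy1 ?_
      rw [h, pow_zero] at hk
      exact orderOf_eq_one_iff.1 hk
    have hz1 : y ^ 2 ^ k ≠ 1 := fun h => by
      have := Nat.le_of_dvd (Nat.two_pow_pos k) (orderOf_dvd_of_pow_eq_one h)
      rw [hk, pow_succ] at this
      have := Nat.two_pow_pos k
      omega
    have hzz : y ^ 2 ^ k * y ^ 2 ^ k = 1 := by
      rw [← pow_add, ← two_mul, ← pow_succ', ← hk, pow_orderOf_eq_one]
    have hfix := hom _ (P.pow_mem hy _) hz1 hzz t ht (by rw [← conj_pow, hty])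
    refine Subgroup.mem_centralizer_iff.2 fun w hw => ?_
    suffices ∀ i : ℕ, ∀ w ∈ P, w ^ 2 ^ i = 1 → t * w * t⁻¹ = w by
      obtain ⟨i, hi⟩ := IsPGroup.iff_orderOf.1 (IsDefectGroup.isPGroup hD) ⟨w, hw⟩
      rw [← Subgroup.orderOf_coe] at hi
      exact (mul_inv_eq_iff_eq_mul.1 (this i w hw (by rw [← hi, pow_orderOf_eq_one]))).symm
    intro i
    induction i with
    | zero =>
      intro w _ hw'
      rw [pow_zero, pow_one] at hw'
      rw [hw', mul_one, mul_inv_cancel]
    | succ i ih =>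
      intro w hw hw'
      have h2 : t * (w * w) * t⁻¹ = w * w :=
        ih _ (P.mul_mem hw hw) (by rw [← pow_two, ← pow_mul, ← pow_succ', hw'])
      have hN := Subgroup.mem_normalizer_iff.1 ((hT t).1 ht).1
      set μ := t * w * t⁻¹ * w⁻¹ with hμ
      have hμP : μ ∈ P := P.mul_mem ((hN w).1 hw) (P.inv_mem hw)
      have htw : t * w * t⁻¹ = μ * w := by rw [hμ]; group
      have hμ2 : μ * μ = 1 := by
        have e1 : t * (w * w) * t⁻¹ = μ * μ * (w * w) := by
          calc t * (w * w) * t⁻¹ = t * w * t⁻¹ * (t * w * t⁻¹) := by group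
            _ = μ * (w * μ) * w := by rw [htw]; group
            _ = μ * μ * (w * w) := by rw [hab w hw μ hμP]; group
        exact mul_eq_right.1 (e1.symm.trans h2)
      have hμf := hfix μ hμP hμ2
      have key : ∀ j : ℕ, t ^ j * w * (t ^ j)⁻¹ = μ ^ j * w := by
        intro j
        induction j with
        | zero => simp
        | succ j ih =>
          have hμj : t * μ ^ j * t⁻¹ = μ ^ j := by
            rw [← conj_pow, hμf]
          calc t ^ (j + 1) * w * (t ^ (j + 1))⁻¹ = t * (t ^ j * w * (t ^ j)⁻¹) * t⁻¹ := by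
                rw [pow_succ']; group
            _ = (t * μ ^ j * t⁻¹) * (t * w * t⁻¹) := by rw [ih]; group
            _ = μ ^ (j + 1) * w := by rw [hμj, htw, pow_succ]; group
      have h' := key e
      rw [hconjC _ (hpow t ht) w hw] at h'
      obtain ⟨j, hj⟩ := Nat.not_even_iff_odd.1 fun h => hodd (even_iff_two_dvd.1 h)
      rw [hj, pow_succ, pow_mul, pow_two, hμ2, one_pow, one_mul] at h'
      rw [htw, mul_eq_right.1 h'.symm, one_mul]
  refine ⟨hfree, ?_⟩
  obtain ⟨⟨y, hyy⟩, hy⟩ : ∃ u : {u : P // u * u = 1}, u ≠ ⟨1, one_mul _⟩ := by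
    haveI : Nontrivial {u : P // u * u = 1} := Finite.one_lt_card_iff_nontrivial.1 (by omega)
    exact exists_ne _
  have hy1 : (y : G) ≠ 1 := fun h => hy (Subtype.ext (Subtype.ext h))
  have hle : e ≤ 3 := by
    rw [he, ← card_orbit_stab y.2 (hfree y y.2 hy1)]
    refine (Nat.card_le_card_of_injective (β := {u : {u : P // u * u = 1} // u ≠ ⟨1, one_mul _⟩})
      (fun o => ⟨⟨⟨o.1, ?_⟩, Subtype.ext ?_⟩, ?_⟩) ?_).trans ?_
    · obtain ⟨t, ht, he'⟩ := o.2
      rw [← he']
      exact (Subgroup.mem_normalizer_iff.1 ((hT t).1 ht).1 y).1 y.2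
    · obtain ⟨t, ht, he'⟩ := o.2
      show o.1 * o.1 = 1
      rw [← he', show t * y * t⁻¹ * (t * y * t⁻¹) = t * ((y : G) * y) * t⁻¹ by group,
        show (y : G) * y = 1 from congrArg Subtype.val hyy]
      group
    · obtain ⟨t, ht, he'⟩ := o.2
      intro h
      have h' : (o.1 : G) = 1 := congrArg (fun v : {u : P // u * u = 1} => ((v : P) : G)) h
      rw [← he', conj_eq_one_iff] at h'
      exact hy1 h'
    · intro o o' h
      exact Subtype.ext (congrArg
        (fun v : {u : {u : P // u * u = 1} // u ≠ ⟨1, one_mul _⟩} => ((v.1 : P) : G)) h)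
    · rw [Nat.card_eq_fintype_card, Fintype.card_subtype_compl, ← Nat.card_eq_fintype_card, hV,
        Fintype.card_subtype_eq]
  have hpos : e ≠ 0 := Subgroup.index_ne_zero_of_finite
  omega

end Cfsg.Lib.Blocks.Homocyclic
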