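import Mathlib
import Cfsg.Agent.Blocks.HomocyclicRows
import Cfsg.Agent.Blocks.HomocyclicFourier
import Cfsg.Agent.Blocks.HomocyclicLocal
import Cfsg.Agent.Blocks.Star.NilpotentBlock
import Cfsg.Agent.Blocks.Feit2

/-!
# 2-blocks with a homocyclic defect group of rank two
-/

set_option autoImplicit false
set_option linter.unusedSectionVars false
set_option linter.style.haveILetI false

namespace Cfsg.Lib.Blocks.Homocyclic

open Cfsg Cfsg.Lib.Chars Cfsg.Lib.Blocks Cfsg.Lib.Blocks.Star Cfsg.Lib.Blocks.AbelianStar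
open scoped ComplexConjugate

universe u

local notation "C⟨" P "⟩" => Subgroup.centralizer (SetLike.coe P)

/-- The arithmetic mean of a Galois stable family of positive algebraic integers is at least one,
with equality only if all are one. -/
theorem mean_bound {ι : Type*} [Fintype ι] (n : ℕ) [NeZero n] (m : ι → ℂ) (r : ι → ℝ)
    (hr : ∀ i, m i = (r i : ℂ)) (hpos : ∀ i, 0 < r i) (hint : ∀ i, IsIntegral ℤ (m i))
    (hmem : ∀ i, m i ∈ cycField n)
    (hgal : ∀ (σ : ℂ ≃+* ℂ) (j : ℕ), j.Coprime n → IsGalConj σ n j →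
      ∃ e : ι → ι, Function.Bijective e ∧ ∀ i, σ (m i) = m (e i)) :
    (Fintype.card ι : ℝ) ≤ ∑ i, r i ∧
      ((∑ i, r i = Fintype.card ι) → ∀ i, r i = 1) := by
  obtain ⟨q, hq⟩ := rat_of_galConj_fixed (prod_mem fun i _ => hmem i :
      ∏ i, m i ∈ cycField n) fun σ j hj hσ => by
    obtain ⟨e, he, hem⟩ := hgal σ j hj hσ
    rw [map_prod]
    exact Fintype.prod_bijective e he _ _ hem
  obtain ⟨w, hw⟩ := int_of_isIntegral_rat (q := q) (hq ▸ IsIntegral.prod _ fun i _ => hint i)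
  have hwr : ∏ i, r i = (w : ℝ) := by
    apply Complex.ofReal_injective
    push_cast
    simp only [← hr]
    rw [hq, hw, Rat.cast_intCast]
  have hw1 : (1 : ℝ) ≤ ∏ i, r i := by
    have h := Finset.prod_pos (s := Finset.univ) fun i _ => hpos i
    rw [hwr] at h ⊢
    have : (0 : ℤ) < w := by exact_mod_cast h
    exact_mod_cast this
  have hlog : 0 ≤ ∑ i, Real.log (r i) := by
    rw [← Real.log_prod fun i _ => (hpos i).ne']
    exact Real.log_nonneg hw1
  have hsum : ∑ i, (r i - 1 - Real.log (r i)) = ∑ i, r i - Fintype.card ι - ∑ i, Real.log (r i) := by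
    rw [Finset.sum_sub_distrib, Finset.sum_sub_distrib, Finset.sum_const, Finset.card_univ, nsmul_one]
  have hnn : ∀ i ∈ (Finset.univ : Finset ι), 0 ≤ r i - 1 - Real.log (r i) := fun i _ => by
    linarith [Real.log_le_sub_one_of_pos (hpos i)]
  refine ⟨?_, fun heq i => ?_⟩
  · linarith [Finset.sum_nonneg hnn]
  · have h0 := Finset.sum_nonneg hnn
    have hz : ∑ i, (r i - 1 - Real.log (r i)) = 0 := by linarith
    have h1 := (Finset.sum_eq_zero_iff_of_nonneg hnn).1 hz i (Finset.mem_univ i)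
    by_contra hne
    linarith [Real.log_lt_sub_one_of_pos (hpos i) hne]

/-- In characteristic two the roots of unity of two-power order have residue one. -/
lemma res_root {G : Type*} [Group G] {M : Ideal AlgInt} (hM : IsPModular 2 M) {z : ℂ} {k : ℕ}
    (hz : z ^ 2 ^ k = 1) : z ∈ place M ∧ res M z = 1 := by
  haveI := charP_res hM
  haveI := Fact.mk hM.1
  have hint : ∀ z : ℂ, (∃ k : ℕ, z ^ 2 ^ k = 1) → z ∈ place M := fun z ⟨k, hz⟩ =>
    isIntegral_mem_place hM (IsIntegral.of_pow (n := 2 ^ k) (Nat.two_pow_pos k)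
      (hz ▸ isIntegral_one))
  refine ⟨hint z ⟨k, hz⟩, ?_⟩
  induction k generalizing z with
  | zero =>
    rw [pow_zero, pow_one] at hz
    rw [hz]
    simpa using res_natCast (M := M) 1
  | succ k ih =>
    have hz2 : (z * z) ^ 2 ^ k = 1 := by rw [← hz, ← pow_two, ← pow_mul, ← pow_succ']
    have h := ih hz2
    rw [res_mul (hint z ⟨_, hz⟩) (hint z ⟨_, hz⟩)] at h
    rcases mul_self_eq_one_iff.1 h with e | e
    · exact e
    · rw [e, CharTwo.neg_eq]

universe v

variable {G : Type u} [Group G] [Fintype G] {M : Ideal AlgInt} {B : Set (IrrCharacter G)}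
  {P T : Subgroup G} {c : Set (IrrCharacter C⟨P⟩)}

/-- The block count from the sections. -/
theorem section_count (hM : IsPModular 2 M) (hD : IsDefectGroup 2 M B P)
    (hc : IsBrauerPairOf 2 M B P c) (hT : IsPairStab P c T)
    (hab : ∀ a ∈ P, ∀ b ∈ P, a * b = b * a)
    (hfree : ∀ y ∈ P, y ≠ 1 → ∀ t ∈ T, t * y * t⁻¹ = y → t ∈ C⟨P⟩) :
    (C⟨P⟩.relIndex T : ℤ) * ((Nat.card B : ℤ) - (blockRank 2 B : ℤ)) =
        (Nat.card P : ℤ) - 1 ∧
      ∀ (y : G) (f : Set (IrrCharacter C⟨Subgroup.zpowers y⟩)), y ∈ P → y ≠ 1 →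
        IsBelow M P c y f → blockRank 2 f = 1 := by
  classical
  haveI := Fact.mk hM.1
  have h1 : ∀ (y : G) (f : Set (IrrCharacter C⟨Subgroup.zpowers y⟩)), y ∈ P → y ≠ 1 →
      IsBelow M P c y f → blockRank 2 f = 1 := fun y f hy hy1 hf =>
    blockRank_local_eq_one hM hD hc hab hT (Subgroup.zpowers_le.2 hy)
      (hf.normalSubpair hM hc.1 hab hy) fun t ht htc => hfree y hy hy1 t ht (by
        rw [centralizer_zpowers, Subgroup.mem_centralizer_singleton_iff] at htc
        rw [htc, mul_inv_cancel_right])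
  refine ⟨?_, h1⟩
  have h := subsection_count hM hD hc hab hT hfree (fun _ => 1) h1
  rw [h, Finset.sum_const, nsmul_eq_mul, show (Finset.univ.filter fun y : G => y ∈ P ∧ y ≠ 1) =
      (Finset.univ.filter (· ∈ P)).erase 1 by ext y; simp [and_comm],
    Finset.card_erase_of_mem (by simp [P.one_mem]), ← Fintype.card_subtype,
    ← Nat.card_eq_fintype_card, Nat.cast_sub Nat.card_pos]
  simp

/-- The automorphism induced on the defect group by an element of the stabilizer. -/
noncomputable def actEquiv (hT : IsPairStab P c T) {t : G} (ht : t ∈ T) : P ≃* P where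
  toFun y := ⟨t * y * t⁻¹, (Subgroup.mem_normalizer_iff.1 ((hT t).1 ht).1 y).1 y.2⟩
  invFun y := ⟨t⁻¹ * y * t, by
    have h := (Subgroup.mem_normalizer_iff.1 ((hT t).1 ht).1 (t⁻¹ * (y : G) * t)).2
    refine h ?_
    rw [show t * (t⁻¹ * (y : G) * t) * t⁻¹ = y by group]
    exact y.2⟩
  left_inv y := Subtype.ext (by show t⁻¹ * (t * (y : G) * t⁻¹) * t = y; group)
  right_inv y := Subtype.ext (by show t * (t⁻¹ * (y : G) * t) * t⁻¹ = y; group)
  map_mul' y z := Subtype.ext (by
    show t * ((y : G) * z) * t⁻¹ = t * y * t⁻¹ * (t * z * t⁻¹)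
    group)

/-- The stabilizer is generated by any element outside the centralizer, when the index is three. -/
lemma stab_cosets (hM : IsPModular 2 M) (hc : IsBrauerPairOf 2 M B P c) (hT : IsPairStab P c T)
    (he : C⟨P⟩.relIndex T = 3) :
    ∃ t₀ ∈ T, t₀ ∉ C⟨P⟩ ∧ t₀ ^ 3 ∈ C⟨P⟩ ∧
      ∀ t ∈ T, ∃ i : ℕ, ∃ z ∈ C⟨P⟩, t = t₀ ^ i * z := by
  classical
  haveI : (C⟨P⟩.subgroupOf T).Normal := ⟨fun z hz t =>
    (Subgroup.mem_normalizer_iff.1 (centralizer_le_normalizer_centralizer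
      ((hT _).1 t.2).1 le_rfl) (z : G)).1 hz⟩
  have hcard : Nat.card (T ⧸ C⟨P⟩.subgroupOf T) = 3 := by
    rw [← Subgroup.index_eq_card]; exact he
  haveI : Nontrivial (T ⧸ C⟨P⟩.subgroupOf T) := Finite.one_lt_card_iff_nontrivial.1 (by omega)
  obtain ⟨q, hq⟩ := exists_ne (1 : T ⧸ C⟨P⟩.subgroupOf T)
  obtain ⟨t₀, rfl⟩ := QuotientGroup.mk'_surjective _ q
  haveI := Fact.mk (show Nat.Prime 3 by norm_num)
  have hgen : ∀ x : T ⧸ C⟨P⟩.subgroupOf T,
      x ∈ Subgroup.zpowers (QuotientGroup.mk' (C⟨P⟩.subgroupOf T) t₀) := fun x =>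
    mem_zpowers_of_prime_card hcard hq
  refine ⟨t₀, t₀.2, fun h => hq ((QuotientGroup.eq_one_iff _).2 h), ?_, fun t ht => ?_⟩
  · have h : t₀ ^ 3 ∈ C⟨P⟩.subgroupOf T := by
      rw [← QuotientGroup.eq_one_iff, QuotientGroup.mk_pow, ← hcard]
      exact pow_card_eq_one'
    exact h
  · obtain ⟨i, hi⟩ := mem_powers_iff_mem_zpowers.2 (hgen (QuotientGroup.mk' _ ⟨t, ht⟩))
    refine ⟨i, ((t₀ : G) ^ i)⁻¹ * t, ?_, by rw [mul_inv_cancel_left]⟩
    simp only [← map_pow] at hi
    have h := (QuotientGroup.eq).1 hi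
    exact h

open scoped _root_.Classical in
/-- **A 2-block with homocyclic defect group of rank two and inertial index three.** -/
theorem index_three (hM : IsPModular 2 M) (hD : IsDefectGroup 2 M B P)
    (hc : IsBrauerPairOf 2 M B P c) (hT : IsPairStab P c T)
    (hab : ∀ a ∈ P, ∀ b ∈ P, a * b = b * a) (hV : Nat.card {u : P // u * u = 1} = 4)
    (hfree : ∀ y ∈ P, y ≠ 1 → ∀ t ∈ T, t * y * t⁻¹ = y → t ∈ C⟨P⟩)
    (he : C⟨P⟩.relIndex T = 3) :
    blockRank 2 B = 3 ∧ 3 * Nat.card B = Nat.card P + 8 := by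
  haveI := Fact.mk hM.1
  haveI := charP_res hM
  obtain ⟨fQ, s⟩ := exists_setting hM hD hc hab hT
  obtain ⟨hcnt, hrank⟩ := section_count hM hD hc hT hab hfree
  have hrk : ∀ y : P, y ≠ 1 → blockRank 2 (fam fQ y) = 1 := fun y hy =>
    hrank y _ y.2 (fun h => hy (Subtype.ext h)) (s.below y y.2)
  set n := Nat.card P with hn
  have hnd : n = 2 ^ blockDefect 2 B := IsDefectGroup.card hM hc.2.1 hD
  have hn0 : (n : ℂ) ≠ 0 := Nat.cast_ne_zero.2 Nat.card_pos.ne'
  letI : CommGroup P :=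
    { (inferInstance : Group P) with mul_comm := fun a b => Subtype.ext (hab a a.2 b b.2) }
  letI : Fintype (P →* ℂˣ) := Fintype.ofFinite _
  obtain ⟨t₀, ht₀, ht₀C, ht₀3, hcos⟩ := stab_cosets hM hc hT he
  set σ := actEquiv hT ht₀ with hσ
  have hσv : ∀ y : P, ((σ y : P) : G) = t₀ * y * t₀⁻¹ := fun y => rfl
  have hC : ∀ z ∈ C⟨P⟩, ∀ y ∈ P, z * y * z⁻¹ = y := fun z hz y hy => by
    rw [← Subgroup.mem_centralizer_iff.1 hz y hy, mul_inv_cancel_right]
  have hF : Free σ := by
    refine ⟨fun y => Subtype.ext ?_, fun y hy => ?_, ?_⟩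
    · rw [hσv, hσv, hσv]
      conv_rhs => rw [← hC _ ht₀3 y y.2]
      rw [pow_succ, pow_succ, pow_one]
      group
    · by_contra hy1
      exact ht₀C (hfree y y.2 (fun h => hy1 (Subtype.ext h)) t₀ ht₀ (congrArg Subtype.val hy))
    · rw [← hV]
      obtain ⟨Ψ⟩ := CommGroup.monoidHom_mulEquiv_of_hasEnoughRootsOfUnity P ℂ
      rw [two, ← Fintype.card_subtype, ← Nat.card_eq_fintype_card]
      refine Nat.card_congr (Equiv.subtypeEquiv Ψ.toEquiv fun l => ?_)
      show l * l = 1 ↔ Ψ l * Ψ l = 1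
      rw [← map_mul, MulEquiv.map_eq_one_iff]
  obtain ⟨a, ha⟩ := hF.exists_base
  have hcardP : Fintype.card P = n := by rw [hn, Nat.card_eq_fintype_card]
  -- invariant functions on `P`
  have hgood : ∀ f : P → ℂ, IsGeneralizedCharacter P f → (∀ y, f (σ y) = f y) →
      Good P T (extendByZero P f) := by
    intro f hf hinv
    refine ⟨by
      convert hf using 1
      exact funext fun y => extendByZero_mem f y.2, fun t ht y hy => ?_⟩
    obtain ⟨i, z, hz, rfl⟩ := hcos t ht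
    rw [show t₀ ^ i * z * y * (t₀ ^ i * z)⁻¹ = t₀ ^ i * (z * y * z⁻¹) * (t₀ ^ i)⁻¹ by group,
      hC z hz y hy]
    induction i with
    | zero => simp
    | succ i ih =>
      have hmem : t₀ ^ i * y * (t₀ ^ i)⁻¹ ∈ P :=
        (Subgroup.mem_normalizer_iff.1 ((hT _).1 (pow_mem ht₀ i)).1 y).1 hy
      have hstep : t₀ ^ (i + 1) * y * (t₀ ^ (i + 1))⁻¹ = ((σ ⟨_, hmem⟩ : P) : G) := by
        rw [hσv, pow_succ']; group
      rw [hstep, extendByZero_mem f (σ _).2, hinv, ← extendByZero_mem f hmem,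
        ih (mul_mem (pow_mem ht₀ i) ((hT.self_le hM hc.1.2).2 hz))]
  have hval : ∀ (f : P → ℂ) (y : P), extendByZero P f (y : G) = f y := fun f y =>
    extendByZero_mem f y.2
  let g : (P →* ℂˣ) → G → ℂ := fun l => extendByZero P fun y =>
    ((l y : ℂˣ) : ℂ) + ((l (σ y) : ℂˣ) : ℂ) + ((l (σ (σ y)) : ℂˣ) : ℂ)
  have hg : ∀ l, Good P T (g l) := fun l => by
    refine hgood _ ?_ fun y => by rw [hF.cube]; ring
    exact IsGeneralizedCharacter.add (IsGeneralizedCharacter.add
      (IsCharacter.isGeneralized (isCharacter_linear l))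
      (IsCharacter.isGeneralized (isCharacter_linear (tr σ l))))
      (IsCharacter.isGeneralized (isCharacter_linear (tr σ (tr σ l))))
  let cc : IrrCharacter G → IrrCharacter G → (P →* ℂˣ) → ℤ := fun η χ l =>
    if h : η ∈ B ∧ χ ∈ B then (s.exists_int (hg l) h.1 h.2).choose else 0
  have hcc : ∀ {η χ}, η ∈ B → χ ∈ B → ∀ l, (cc η χ l : ℂ) = mat 2 P T (fam fQ) (g l) η χ := by
    intro η χ hη hχ l
    simp only [cc, dif_pos (And.intro hη hχ)]
    exact (s.exists_int (hg l) hη hχ).choose_spec.symm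
  have hccσ : ∀ {η χ}, η ∈ B → χ ∈ B → ∀ l, cc η χ (tr σ l) = cc η χ l := by
    intro η χ hη hχ l
    apply Int.cast_injective (α := ℂ)
    rw [hcc hη hχ, hcc hη hχ]
    refine mat_congr (fun y => ?_) η χ
    simp only [g, hval, tr_apply, hF.cube]
    ring
  have hccs : ∀ {η}, η ∈ B → ∀ l, cc η η l⁻¹ = cc η η l := by
    intro η hη l
    apply Int.cast_injective (α := ℂ)
    rw [hcc hη hη, ← map_intCast (starRingEnd ℂ) (cc η η l), hcc hη hη, conj_mat]
    refine mat_congr (fun y => ?_) η η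
    simp only [g, hval, map_add, conj_val]
  -- the weights
  have hwt : ∀ y : P, y ≠ 1 → AbelianStar.wt T (y : G) = 1 / 3 := by
    intro y hy
    obtain ⟨-, hCT⟩ := hT.self_le hM hc.1.2
    have heq : T ⊓ C⟨Subgroup.zpowers (y : G)⟩ = C⟨P⟩ := by
      refine le_antisymm (fun t ht => ?_) (le_inf hCT (centralizer_le_zpowers y.2))
      obtain ⟨ht1, ht2⟩ := Subgroup.mem_inf.1 ht
      refine hfree y y.2 (fun h => hy (Subtype.ext h)) t ht1 ?_
      rw [centralizer_zpowers, Subgroup.mem_centralizer_singleton_iff] at ht2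
      rw [ht2, mul_inv_cancel_right]
    have hcard : Nat.card T = 3 * Nat.card C⟨P⟩ := by
      rw [← he, Subgroup.relIndex, ← Nat.card_congr (Subgroup.subgroupOfEquivOfLe hCT).toEquiv,
        Subgroup.index_mul_card]
    rw [AbelianStar.wt, heq, hcard, Nat.cast_mul]
    have : (Nat.card C⟨P⟩ : ℂ) ≠ 0 := Nat.cast_ne_zero.2 Nat.card_pos.ne'
    field_simp
    norm_num
  have hkk : ∀ (y : P) (η χ : IrrCharacter G),
      FF 2 fQ (y : G) η χ = (n : ℂ) * kk 2 (fam fQ) (y : G) η χ := fun y η χ => by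
    rw [s.FF_eq_kk y.2, hnd]; push_cast; rfl
  have hkσ : ∀ (y : P) (η χ : IrrCharacter G),
      kk 2 (fam fQ) ((σ y : P) : G) η χ = kk 2 (fam fQ) (y : G) η χ := fun y η χ => by
    rw [hσv]; exact s.kk_conj ht₀ y.2 η χ
  -- the Fourier expansion
  have hfour : ∀ {η χ}, η ∈ B → χ ∈ B → ∀ z : P, z ≠ 1 →
      Φ (cc η χ) z = FF 2 fQ (z : G) η χ := by
    intro η χ hη hχ z hz
    have hterm : ∀ y : P, ∀ i : P → P, (∑ l : P →* ℂˣ, ((l (i y) : ℂˣ) : ℂ) * conj ((l z : ℂˣ) : ℂ)) =
        if i y = z then (n : ℂ) else 0 := by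
      intro y i
      rw [Finset.sum_congr rfl (g := fun l : P →* ℂˣ => ((l (i y * z⁻¹) : ℂˣ) : ℂ)) fun l _ => by
        rw [conj_val, inv_app, map_mul, map_inv, Units.val_mul], sum_chars, hcardP]
      simp only [mul_inv_eq_one]
    have hsum : ∀ i : P ≃* P, (∀ y : P, kk 2 (fam fQ) ((i y : P) : G) η χ = kk 2 (fam fQ) (y : G) η χ) →
        ∑ y : P, (∑ l : P →* ℂˣ, ((l (i y) : ℂˣ) : ℂ) * conj ((l z : ℂˣ) : ℂ)) *
          (AbelianStar.wt T (y : G) * kk 2 (fam fQ) (y : G) η χ) =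
          (n : ℂ) * (1 / 3 * kk 2 (fam fQ) (z : G) η χ) := by
      intro i hi
      rw [Finset.sum_eq_single (i.symm z)]
      · rw [hterm _ i, if_pos (i.apply_symm_apply z), hwt _ (fun h => hz (by
          simpa using congrArg i h)), ← hi (i.symm z), i.apply_symm_apply]
      · intro y _ hy
        rw [hterm _ i, if_neg fun h => hy (by rw [← h, i.symm_apply_apply]), zero_mul]
      · exact fun h => absurd (Finset.mem_univ _) h
    have h1 := hsum (MulEquiv.refl P) fun y => rfl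
    have h2 := hsum σ fun y => hkσ y η χ
    have h3 := hsum (σ.trans σ) fun y => by
      show kk 2 (fam fQ) ((σ (σ y) : P) : G) η χ = _
      rw [hkσ, hkσ]
    rw [hkk]
    unfold Φ
    simp only [hcc hη hχ, AbelianStar.mat, Finset.sum_mul]
    rw [Finset.sum_comm]
    calc _ = ∑ y : P, (((∑ l : P →* ℂˣ, ((l ((MulEquiv.refl P) y) : ℂˣ) : ℂ) * conj ((l z : ℂˣ) : ℂ)) +
            (∑ l : P →* ℂˣ, ((l (σ y) : ℂˣ) : ℂ) * conj ((l z : ℂˣ) : ℂ))) +
            (∑ l : P →* ℂˣ, ((l ((σ.trans σ) y) : ℂˣ) : ℂ) * conj ((l z : ℂˣ) : ℂ))) *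
          (AbelianStar.wt T (y : G) * kk 2 (fam fQ) (y : G) η χ) := by
          refine Finset.sum_congr rfl fun y _ => ?_
          rw [← Finset.sum_add_distrib, ← Finset.sum_add_distrib, Finset.sum_mul]
          refine Finset.sum_congr rfl fun l _ => ?_
          simp only [g, hval, MulEquiv.refl_apply, MulEquiv.trans_apply]
          ring
      _ = _ := by
          simp only [add_mul, Finset.sum_add_distrib]
          rw [h1, h2, h3]
          ring
  have haw : ∀ w : P, a * (w * w) ≠ 1 := by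
    intro w h
    have h4 : ∑ k ∈ two P, sgn a k = ((two P).card : ℤ) := by
      rw [Finset.sum_congr rfl (g := fun _ => (1 : ℤ)) fun k hk => ?_, Finset.sum_const, nsmul_one]
      have : k (a * (w * w)) = 1 := by rw [h, map_one]
      rw [map_mul, map_mul k w w, ← mul_app k k w, mem_two.1 hk, one_app, mul_one] at this
      exact if_pos this
    rw [ha, hF.card] at h4
    norm_num at h4
  let τ : IrrCharacter G → IrrCharacter G → ℤ := fun η χ => Homocyclic.G a (cc η χ) 1
  have htot : ∀ {η χ}, η ∈ B → χ ∈ B →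
      ∑ w : P, FF 2 fQ ((a * (w * w) : P) : G) η χ = (n : ℂ) * (τ η χ : ℂ) := by
    intro η χ hη hχ
    rw [← hcardP, ← sum_coset]
    exact Finset.sum_congr rfl fun w _ => (hfour hη hχ _ (haw w)).symm
  -- the projection matrix
  let ψf : P → ℂ := fun y => ∑ k ∈ two P, ((k y : ℂˣ) : ℂ)
  have hψσ : ∀ y, ψf (σ y) = ψf y := fun y => by
    refine Finset.sum_nbij' (tr σ) (fun k => tr σ (tr σ k)) (fun k hk => hF.tr_two.2 hk)
      (fun k hk => hF.tr_two.2 (hF.tr_two.2 hk)) (fun k _ => hF.tr_cube k) (fun k _ => hF.tr_cube k)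
      fun k _ => rfl
  have hψgen : IsGeneralizedCharacter P ψf := by
    rw [show ψf = ∑ k ∈ two P, fun y => ((k y : ℂˣ) : ℂ) from
      funext fun y => by simp [ψf, Finset.sum_apply]]
    exact IsGeneralizedCharacter.sum (G := P) (two P) (fun k y => ((k y : ℂˣ) : ℂ)) fun k _ =>
      IsCharacter.isGeneralized (isCharacter_linear k)
  let ψ : G → ℂ := extendByZero P ψf
  have hψ : Good P T ψ := hgood ψf hψgen hψσ
  have hψ1 : ψf 1 = 4 := by
    simp [ψf, hF.card]
  have hψ04 : ∀ y, ψf y = 0 ∨ ψf y = 4 := fun y => by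
    rcases sum_two y with h | h
    · exact Or.inl h
    · exact Or.inr (h.trans (by rw [hF.card]; norm_num))
  have hmatψ : ∀ {η χ}, η ∈ B → χ ∈ B →
      mat 2 P T (fam fQ) ψ η χ = ((4 * (if η = χ then 1 else 0) - τ η χ : ℤ) : ℂ) := by
    intro η χ hη hχ
    have h1 := s.mat_one hη hχ
    simp only [AbelianStar.mat] at h1 ⊢
    have h2 : ∑ y : P, ((4 : ℂ) - ψf y) * (AbelianStar.wt T (y : G) * kk 2 (fam fQ) (y : G) η χ) =
        (τ η χ : ℂ) := by
      have h3 := hF.sum_outside ha (hccσ hη hχ)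
      rw [hcardP] at h3
      have hpt : ∀ y : P, ((4 : ℂ) - ψf y) * Φ (cc η χ) y =
          3 * (n : ℂ) * (((4 : ℂ) - ψf y) * (AbelianStar.wt T (y : G) * kk 2 (fam fQ) (y : G) η χ)) := by
        intro y
        by_cases hy : y = 1
        · rw [hy, hψ1, sub_self, zero_mul, zero_mul, mul_zero]
        · rw [hfour hη hχ y hy, hkk, hwt y hy]; ring
      rw [Finset.sum_congr rfl fun y _ => hpt y, ← Finset.mul_sum] at h3
      exact mul_left_cancel₀ (mul_ne_zero three_ne_zero hn0) h3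
    simp only [sub_mul, Finset.sum_sub_distrib] at h2
    simp only [one_mul] at h1
    rw [← Finset.mul_sum, h1] at h2
    push_cast
    rw [Finset.sum_congr rfl (g := fun y : P =>
      ψf y * (AbelianStar.wt T (y : G) * kk 2 (fam fQ) (y : G) η χ)) fun y _ => by
        simp only [ψ, hval]; ring]
    split_ifs at h2 ⊢ <;> push_cast <;> linear_combination -h2
  have hSpos : ∀ {η}, η ∈ B → τ η η < 4 := by
    intro η hη
    have hm := hmatψ hη hη
    rw [if_pos rfl] at hm
    choose r hr0 hr using fun y : P => s.FF_self y.2 η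
    have hre : ∀ y : P, ∃ u : ℝ, 0 ≤ u ∧
        ψ y * AbelianStar.wt T (y : G) * kk 2 (fam fQ) (y : G) η η = (u : ℂ) ∧ (y = 1 → 0 < u) := by
      intro y
      have hk : kk 2 (fam fQ) (y : G) η η = ((r y / n : ℝ) : ℂ) := by
        push_cast
        rw [← hr, hkk, mul_div_cancel_left₀ _ hn0]
      have hwv : AbelianStar.wt T (y : G) = ((((Nat.card (T ⊓ C⟨Subgroup.zpowers (y : G)⟩ :
          Subgroup G) : ℝ) / Nat.card T) : ℝ) : ℂ) := by
        push_cast; rfl
      have hpos1 : y = 1 → 0 < r y := fun _ => (hr0 y).lt_of_ne fun h => by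
        refine s.FF_ne_zero y.2 hη ?_
        rw [hr, ← h, Complex.ofReal_zero]
      simp only [ψ, hval]
      rw [hk, hwv]
      rcases hψ04 y with h | h <;> rw [h]
      · refine ⟨0, le_rfl, by simp, fun hy => ?_⟩
        rw [hy, hψ1] at h
        norm_num at h
      · refine ⟨4 * ((Nat.card (T ⊓ C⟨Subgroup.zpowers (y : G)⟩ : Subgroup G) : ℝ) / Nat.card T) *
          (r y / n), ?_, by push_cast; ring, fun hy => ?_⟩
        · have := hr0 y
          positivity
        · have := hpos1 hy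
          have : 0 < Nat.card (T ⊓ C⟨Subgroup.zpowers (y : G)⟩ : Subgroup G) := Nat.card_pos
          have : 0 < Nat.card T := Nat.card_pos
          have : 0 < n := Nat.card_pos
          positivity
    choose u hu0 hu hu1 using hre
    have hsum : ((∑ y : P, u y : ℝ) : ℂ) = (((4 - τ η η : ℤ) : ℝ) : ℂ) := by
      rw [Complex.ofReal_sum, ← Finset.sum_congr rfl fun y _ => hu y]
      refine hm.trans ?_
      push_cast
      ring
    have hlt : (0 : ℝ) < ∑ y : P, u y :=
      Finset.sum_pos' (fun y _ => hu0 y) ⟨1, Finset.mem_univ _, hu1 1 rfl⟩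
    rw [Complex.ofReal_inj.1 hsum] at hlt
    have : (0 : ℤ) < 4 - τ η η := by exact_mod_cast hlt
    omega
  -- the coset family
  have hn2 : 2 ∣ n := by
    rw [hnd]
    refine dvd_pow_self 2 fun h => ?_
    have h4 : (4 : ℕ) ≤ n := by
      rw [← hV]; exact Nat.card_le_card_of_injective _ Subtype.val_injective
    rw [hnd, h] at h4
    norm_num at h4
  haveI : NeZero n := ⟨Nat.card_pos.ne'⟩
  have hyn : ∀ y : P, (y : G) ^ n = 1 := fun y => congrArg Subtype.val (pow_card_eq_one' (x := y))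
  have hbound : ∀ {η}, η ∈ B → ∀ q : ℕ, q ≠ 0 →
      (∀ w : P, IsIntegral ℤ (FF 2 fQ ((a * (w * w) : P) : G) η η / (q : ℂ))) →
      (q : ℤ) ≤ τ η η ∧ (τ η η = q → ∀ w : P, FF 2 fQ ((a * (w * w) : P) : G) η η = (q : ℂ)) := by
    intro η hη q hq hint
    choose r hr0 hr using fun w : P => s.FF_self (a * (w * w) : P).2 η
    have hq' : (0 : ℝ) < q := Nat.cast_pos.2 (Nat.pos_of_ne_zero hq)
    have hmv : ∀ w, FF 2 fQ ((a * (w * w) : P) : G) η η / (q : ℂ) = ((r w / q : ℝ) : ℂ) := fun w => by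
      rw [hr]; push_cast; rfl
    obtain ⟨hb1, hb2⟩ := mean_bound n _ _ hmv
      (fun w => div_pos ((hr0 w).lt_of_ne fun h => s.FF_ne_zero (a * (w * w) : P).2 hη (by
        rw [hr, ← h, Complex.ofReal_zero])) hq') hint
      (fun w => div_mem (s.FF_galois (a * (w * w) : P).2 (hyn _) η η).1 (natCast_mem _ _))
      (fun σ' j hj hσ' => by
        obtain ⟨i, hi⟩ := Nat.not_even_iff_odd.1 fun h => by
          have := Nat.dvd_gcd (even_iff_two_dvd.1 h) hn2
          rw [Nat.coprime_iff_gcd_eq_one.1 hj] at this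
          norm_num at this
        refine ⟨fun w => a ^ i * w ^ j, ?_, fun w => ?_⟩
        · exact (Group.mulLeft_bijective (a ^ i)).comp (powCoprime (G := P) hj.symm).bijective
        · rw [map_div₀, map_natCast,
            (s.FF_galois (a * (w * w) : P).2 (hyn _) η η).2.2 σ' j hj hσ', ← Subgroup.coe_pow]
          congr 4
          rw [hi]
          simp only [mul_pow, pow_succ, pow_mul, pow_two, mul_comm, mul_left_comm, mul_assoc]
      )
    have hsum : ∑ w : P, r w = (n : ℝ) * (τ η η : ℝ) := by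
      apply Complex.ofReal_injective
      push_cast
      rw [← htot hη hη]
      exact Finset.sum_congr rfl fun w _ => (hr w).symm
    rw [← Finset.sum_div, hsum, hcardP] at hb1 hb2
    have hnr : (0 : ℝ) < n := Nat.cast_pos.2 Nat.card_pos
    refine ⟨?_, fun heq w => ?_⟩
    · have h : (q : ℝ) ≤ (τ η η : ℝ) := by
        rw [le_div_iff₀ hq'] at hb1
        nlinarith
      exact_mod_cast h
    · have h := hb2 (by rw [heq]; push_cast; field_simp) w
      rw [div_eq_one_iff_eq hq'.ne'] at h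
      rw [hr, h, Complex.ofReal_natCast]
  -- parity
  have hres : ∀ {η}, η ∈ B → (res M (FF 2 fQ (a : G) η η) = 0 ↔ (2 : ℤ) ∣ τ η η) := by
    intro η hη
    have ha1 : a ≠ 1 := by simpa using haw 1
    rw [← hfour hη hη a ha1]
    unfold Φ
    obtain ⟨k, hk⟩ := IsDefectGroup.isPGroup hD a
    have hroot : ∀ l : P →* ℂˣ, conj ((l a : ℂˣ) : ℂ) ^ 2 ^ k = 1 := fun l => by
      rw [← map_pow, ← Units.val_pow_eq_pow_val, ← map_pow, hk, map_one, Units.val_one, map_one]
    have hz : ∀ l : P →* ℂˣ, (cc η η l : ℂ) * conj ((l a : ℂˣ) : ℂ) ∈ place M ∧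
        res M ((cc η η l : ℂ) * conj ((l a : ℂˣ) : ℂ)) = (cc η η l : Res M) := fun l => by
      obtain ⟨h1, h2⟩ := res_root (G := G) hM (hroot l)
      exact ⟨mul_mem (intCast_mem _ _) h1, by
        rw [res_mul (intCast_mem _ _) h1, h2, res_intCast, mul_one]⟩
    rw [res_sum _ _ fun l _ => (hz l).1, Finset.sum_congr rfl fun l _ => (hz l).2,
      ← Int.cast_sum, CharP.intCast_eq_zero_iff (Res M) 2]
    have := hF.total_parity ha (hccσ hη hη) (hccs hη)
    show _ ↔ (2 : ℤ) ∣ Homocyclic.G a (cc η η) 1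
    omega
  have hτ : ∀ {η}, η ∈ B → τ η η = 1 ∨ τ η η = 3 := by
    intro η hη
    obtain ⟨hind, hdef⟩ := s.section_data a.2
    have hlt := hSpos hη
    by_cases h0 : blockHeight 2 B (η : G → ℂ) = 0
    · have h1 := (hbound hη 1 one_ne_zero fun w => by
        rw [Nat.cast_one, div_one]
        exact (s.FF_galois (a * (w * w) : P).2 (hyn _) η η).2.1).1
      have h2 : ¬ (2 : ℤ) ∣ τ η η := fun h => res_contribution_self_ne_zero rfl
        (isPElem_of_mem hc.1.1 a.2) hM hind hη h0 ((hres hη).2 h)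
      omega
    · exfalso
      obtain ⟨φ, hφ, hφ0⟩ := exists_height_zero hM hc.2.1
      have heven := (hres hη).1
        ((contribution_height rfl (isPElem_of_mem hc.1.1 a.2) hM hind hdef hη hφ hφ0).2 h0)
      set h := blockHeight 2 B (η : G → ℂ) with hh
      obtain ⟨hle, heq⟩ := hbound hη (2 ^ h) (by positivity) fun w => by
        obtain ⟨hind', hdef'⟩ := s.section_data (a * (w * w) : P).2
        exact (isIntegral_contribution_div rfl (isPElem_of_mem hc.1.1 (a * (w * w) : P).2) hM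
          hind' hdef' hη η).1
      have h2h : 2 ≤ 2 ^ h := Nat.le_self_pow h0 2
      have hq : τ η η = ((2 ^ h : ℕ) : ℤ) := by omega
      have hone := heq hq 1
      simp only [mul_one] at hone
      have hz := res_contribution_self_div rfl (isPElem_of_mem hc.1.1 a.2) hM hind hdef hη h0
      rw [← hh, show contribution 2 (a : G) (fam fQ a) η η = _ from hone,
        div_self (Nat.cast_ne_zero.2 (by positivity)), ← Nat.cast_one, res_natCast] at hz
      simp at hz
  set S := Finset.univ.filter (· ∈ B) with hS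
  have hScard : S.card = Nat.card B := by
    rw [hS, ← Fintype.card_subtype, ← Nat.card_eq_fintype_card]
  have htr : ∑ χ ∈ S, τ χ χ = (n : ℤ) := by
    apply Int.cast_injective (α := ℂ)
    push_cast
    refine mul_left_cancel₀ hn0 ?_
    rw [Finset.mul_sum, Finset.sum_congr rfl fun χ hχ =>
        (htot (Finset.mem_filter.1 hχ).2 (Finset.mem_filter.1 hχ).2).symm, Finset.sum_comm,
      Finset.sum_congr rfl fun w _ => by
        rw [s.sum_FF (a * (w * w) : P).2, hrk _ (haw w), Nat.cast_one, mul_one],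
      Finset.sum_const, Finset.card_univ, hcardP, nsmul_eq_mul, hnd]
    push_cast
    ring
  rw [he] at hcnt
  push_cast at hcnt
  -- a character with mean one
  obtain ⟨χ₀, hχ₀, hτ₀⟩ : ∃ χ₀ ∈ B, τ χ₀ χ₀ = 1 := by
    by_contra hno
    push Not at hno
    rw [Finset.sum_congr rfl (g := fun _ => (3 : ℤ)) fun χ hχ =>
      (hτ (Finset.mem_filter.1 hχ).2).resolve_left (hno χ (Finset.mem_filter.1 hχ).2),
      Finset.sum_const, nsmul_eq_mul, hScard] at htr
    omega
  have hr0 : ∀ w : P, FF 2 fQ ((a * (w * w) : P) : G) χ₀ χ₀ = 1 := fun w => by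
    have := (hbound hχ₀ 1 one_ne_zero fun w => by
      rw [Nat.cast_one, div_one]
      exact (s.FF_galois (a * (w * w) : P).2 (hyn _) χ₀ χ₀).2.1).2 (by rw [hτ₀]; rfl) w
    rwa [Nat.cast_one] at this
  have hpair : ∀ θ ∈ B, (τ θ θ = 1 → τ χ₀ θ * τ χ₀ θ = 1) ∧ (τ θ θ = 3 → τ χ₀ θ = 0) := by
    intro θ hθ
    have hnorm := sum_norm_coset a (cc χ₀ θ)
    rw [hF.card, hcardP, Finset.sum_congr rfl fun w _ => by
      rw [hfour hχ₀ hθ _ (haw w), s.FF_rank_one (a * (w * w) : P).2 (hrk _ (haw w)), hr0, one_mul],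
      htot hθ hθ] at hnorm
    have h4 : ∑ l, Homocyclic.G a (cc χ₀ θ) l * Homocyclic.G a (cc χ₀ θ) l = 4 * τ θ θ := by
      apply Int.cast_injective (α := ℂ)
      refine mul_left_cancel₀ hn0 ?_
      rw [← hnorm]
      push_cast
      ring
    change (τ θ θ = 1 → Homocyclic.G a (cc χ₀ θ) 1 * Homocyclic.G a (cc χ₀ θ) 1 = 1) ∧
      (τ θ θ = 3 → Homocyclic.G a (cc χ₀ θ) 1 = 0)
    have hsq := mul_self_nonneg (Homocyclic.G a (cc χ₀ θ) 1)
    have hx : ∀ x : ℤ, x = 0 ∨ x * x = 1 ∨ 4 ≤ x * x := fun x => by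
      rcases le_or_gt 2 |x| with h | h
      · right; right; nlinarith [abs_mul_abs_self x]
      · obtain ⟨_, _⟩ := abs_lt.1 h
        interval_cases x <;> simp
    have := hx (Homocyclic.G a (cc χ₀ θ) 1)
    rcases hF.norm_cases a (hccσ hχ₀ hθ) with h | h
    · refine ⟨fun e => by omega, fun e => ?_⟩
      rcases this with e' | e' | e'
      · exact e'
      all_goals omega
    · refine ⟨fun e => by omega, fun e => mul_self_eq_zero.1 (by omega)⟩
  have hrow : ∑ θ ∈ S, (4 * (if χ₀ = θ then 1 else 0) - τ χ₀ θ) *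
      (4 * (if χ₀ = θ then 1 else 0) - τ χ₀ θ) = (12 : ℤ) := by
    apply Int.cast_injective (α := ℂ)
    have hmm := s.mat_mul hψ hψ hχ₀ hχ₀
    rw [Finset.sum_congr rfl fun θ hθ => by
      rw [hmatψ hχ₀ (Finset.mem_filter.1 hθ).2, map_intCast]] at hmm
    push_cast at hmm ⊢
    rw [hmm]
    have h4 : mat 2 P T (fam fQ) (fun g => ψ g * conj (ψ g)) χ₀ χ₀ =
        4 * mat 2 P T (fam fQ) ψ χ₀ χ₀ := by
      simp only [AbelianStar.mat, Finset.mul_sum]
      refine Finset.sum_congr rfl fun y _ => ?_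
      simp only [ψ, hval]
      rcases hψ04 y with h | h <;> rw [h] <;> simp [map_ofNat] <;> ring
    rw [h4, hmatψ hχ₀ hχ₀, if_pos rfl, hτ₀]
    push_cast
    norm_num
  have hterm : ∀ θ ∈ S, (4 * (if χ₀ = θ then 1 else 0) - τ χ₀ θ) *
      (4 * (if χ₀ = θ then 1 else 0) - τ χ₀ θ) =
        (if χ₀ = θ then 8 else 0) + (if τ θ θ = 1 then (1 : ℤ) else 0) := by
    intro θ hθ
    have hθB := (Finset.mem_filter.1 hθ).2
    by_cases h : χ₀ = θ
    · subst h
      rw [if_pos rfl, if_pos rfl, if_pos hτ₀, hτ₀]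
      norm_num
    · rw [if_neg h, if_neg h]
      rcases hτ hθB with e | e
      · rw [if_pos e]
        linear_combination (hpair θ hθB).1 e
      · rw [if_neg (by omega), (hpair θ hθB).2 e]
        norm_num
  rw [Finset.sum_congr rfl hterm, Finset.sum_add_distrib, Finset.sum_ite_eq S χ₀ (fun _ => (8 : ℤ)),
    if_pos (Finset.mem_filter.2 ⟨Finset.mem_univ _, hχ₀⟩)] at hrow
  have hlin : ∀ θ ∈ S, τ θ θ = 3 - 2 * (if τ θ θ = 1 then (1 : ℤ) else 0) := fun θ hθ => by
    rcases hτ (Finset.mem_filter.1 hθ).2 with e | e <;> rw [e] <;> norm_num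
  rw [Finset.sum_congr rfl hlin, Finset.sum_sub_distrib, Finset.sum_const, ← Finset.mul_sum,
    nsmul_eq_mul, hScard] at htr
  omega

end Cfsg.Lib.Blocks.Homocyclic
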