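import Mathlib
import Cfsg.Agent.Blocks.AbelianSubsections
import Cfsg.Agent.Blocks.RankOneBlock
import Cfsg.Agent.Blocks.Feit2
import Cfsg.Agent.Blocks.RegIntResidue
import Cfsg.Agent.Blocks.InertialCyclic

/-!
# 2-blocks with a Klein four defect group
-/

set_option autoImplicit false
set_option linter.unusedSectionVars false
set_option linter.style.haveILetI false

namespace Cfsg.Lib.Blocks

open Cfsg Cfsg.Lib.Chars

universe u

local notation "C⟨" P "⟩" => Subgroup.centralizer (SetLike.coe P)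

variable {G : Type u} [Group G] [Fintype G] {M : Ideal AlgInt}

/-- In a 2-block all of whose characters have height zero and whose defect is positive, the
number of characters is even. -/
theorem even_card_of_height_zero (hM : IsPModular 2 M) {B : Set (IrrCharacter G)}
    (hB : IsPBlock M B) (hd : blockDefect 2 B ≠ 0)
    (h0 : ∀ χ ∈ B, blockHeight 2 B (χ : G → ℂ) = 0) : Even (Nat.card B) := by
  classical
  haveI := Fact.mk hM.1
  set S := Finset.univ.filter (· ∈ B) with hS
  have h := sum_classInner_eq_blockRank hM hB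
  have h1 : ∑ χ ∈ S, (regRed 2 B χ χ : ℂ) =
      (2 : ℂ) ^ blockDefect 2 B * (blockRank 2 B : ℂ) := by
    have h2 : ((2 : ℕ) : ℂ) ^ minExp 2 B ≠ 0 := pow_ne_zero _ (by norm_num)
    refine mul_left_cancel₀ h2 ?_
    rw [Finset.mul_sum, ← h, ← mul_assoc, Finset.mul_sum]
    refine Finset.sum_congr rfl fun χ hχ => ?_
    have e : ((2 : ℕ) : ℂ) ^ minExp 2 B * (regRed 2 B χ χ : ℂ) = (regInt 2 χ χ : ℂ) := by
      rw [← pow_mul_regRed hM hB χ (Finset.mem_filter.1 hχ).2]
      push_cast
      rfl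
    rw [e, regInt_spec hM.1]
    congr 1
    rw [← blockDefect_add_minExp hM hB, pow_add, mul_comm]
    norm_num
  have h3 : ((∑ χ ∈ S, regRed 2 B χ χ : ℤ) : ℤ) = 2 ^ blockDefect 2 B * (blockRank 2 B : ℤ) := by
    apply Int.cast_injective (α := ℂ)
    push_cast
    exact h1
  have h4 : ((∑ χ ∈ S, regRed 2 B χ χ : ℤ) : ZMod 2) = (S.card : ZMod 2) := by
    rw [Int.cast_sum, Finset.card_eq_sum_ones, Nat.cast_sum]
    refine Finset.sum_congr rfl fun χ hχ => ?_
    obtain ⟨j, hj⟩ : Odd (regRed 2 B χ χ) := by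
      rw [← Int.not_even_iff_odd, even_iff_two_dvd]
      exact not_dvd_regRed_self hM hB (Finset.mem_filter.1 hχ).2 (h0 χ (Finset.mem_filter.1 hχ).2)
    rw [hj]
    push_cast
    rw [show (2 : ZMod 2) = 0 from rfl, zero_mul, zero_add]
  rw [h3] at h4
  push_cast at h4
  rw [show (2 : ZMod 2) = 0 from rfl, zero_pow hd, zero_mul] at h4
  rw [natCard_eq_filter, even_iff_two_dvd]
  exact (ZMod.natCast_eq_zero_iff _ 2).1 h4.symm

/-- A 2-block of defect two does not have two characters. -/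
theorem card_ne_two_of_defect_two (hM : IsPModular 2 M) {B : Set (IrrCharacter G)}
    (hB : IsPBlock M B) (hd : blockDefect 2 B = 2) (hlt : blockRank 2 B < Nat.card B) :
    Nat.card B ≠ 2 := by
  classical
  haveI := Fact.mk hM.1
  intro hk
  have hl : blockRank 2 B = 1 := by
    have := blockRank_pos hM hB
    omega
  obtain ⟨φ, d, -, hdφ, hsum⟩ := exists_of_blockRank_one hM hB hl
  have hdne : ∀ χ ∈ B, d χ ≠ 0 := fun χ hχ h => by
    have h1 := hdφ χ hχ 1 (by
      show ¬ 2 ∣ orderOf (1 : G)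
      rw [orderOf_one]; norm_num)
    rw [h, Nat.cast_zero, zero_mul] at h1
    exact IsIrrCharacter.apply_one_ne_zero χ.2 h1
  rw [sum_finsum_eq, hd] at hsum
  obtain ⟨a, b, hab, hS⟩ := Finset.card_eq_two.1
    (show (Finset.univ.filter (· ∈ B)).card = 2 by rw [← natCard_eq_filter, hk])
  rw [hS, Finset.sum_pair hab] at hsum
  have ha : a ∈ B := (Finset.mem_filter.1 (hS ▸ Finset.mem_insert_self a {b} :
    a ∈ Finset.univ.filter (· ∈ B))).2
  have hb : b ∈ B := (Finset.mem_filter.1 (hS ▸ Finset.mem_insert_of_mem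
    (Finset.mem_singleton_self b) : b ∈ Finset.univ.filter (· ∈ B))).2
  have h1 := hdne a ha
  have h2 := hdne b hb
  have h3 : d a ≤ 2 := by nlinarith
  have h4 : d b ≤ 2 := by nlinarith
  interval_cases (d a) <;> interval_cases (d b) <;> simp_all

variable {B : Set (IrrCharacter G)} {P : Subgroup G} {c : Set (IrrCharacter C⟨P⟩)} {T : Subgroup G}

lemma klein_square {P : Subgroup G} (hV : IsKleinFour P) :
    ∀ a ∈ P, a * a = 1 := fun a ha => by
  haveI := hV
  exact congrArg Subtype.val (IsKleinFour.mul_self (⟨a, ha⟩ : P))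

lemma klein_abelian {P : Subgroup G} (hV : IsKleinFour P) :
    ∀ a ∈ P, ∀ b ∈ P, a * b = b * a := fun a ha b hb => by
  have h := klein_square hV (a * b) (P.mul_mem ha hb)
  have ha' := klein_square hV a ha
  have hb' := klein_square hV b hb
  calc a * b = a * (a * b * (a * b)) * b := by rw [h, mul_one]
    _ = (a * a) * (b * a) * (b * b) := by group
    _ = b * a := by rw [ha', hb', one_mul, mul_one]

/-- The stabilizer acts freely on the nonidentity elements, with index 1 or 3. -/
theorem klein_inertial (hM : IsPModular 2 M) (hD : IsDefectGroup 2 M B P) (hV : IsKleinFour P)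
    (hc : IsBrauerPairOf 2 M B P c) (hT : IsPairStab P c T) :
    (∀ y ∈ P, y ≠ 1 → ∀ t ∈ T, t * y * t⁻¹ = y → t ∈ C⟨P⟩) ∧
      (C⟨P⟩.relIndex T = 1 ∨ C⟨P⟩.relIndex T = 3) := by
  classical
  haveI := Fact.mk hM.1
  letI := Fintype.ofFinite C⟨P⟩
  have hab := klein_abelian hV
  have hPC : P ≤ C⟨P⟩ := fun x hx => Subgroup.mem_centralizer_iff.2 fun y hy => hab y hy x hx
  have hodd : ¬ 2 ∣ C⟨P⟩.relIndex T := not_dvd_inertial_index hM hD hPC
    ((isBrauerPairOf_iff hM B P c).1 hc).2 hT
  obtain ⟨-, hCT⟩ := hT.self_le hM hc.1.2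
  have hcard : Nat.card P = 4 := hV.card_four
  haveI : (C⟨P⟩.subgroupOf T).Normal := ⟨fun z hz t =>
    (Subgroup.mem_normalizer_iff.1 (centralizer_le_normalizer_centralizer
      ((hT _).1 t.2).1 le_rfl) (z : G)).1 hz⟩
  have hfree : ∀ y ∈ P, y ≠ 1 → ∀ t ∈ T, t * y * t⁻¹ = y → t ∈ C⟨P⟩ := by
    intro y hy hy1 t ht hty
    have hN := Subgroup.mem_normalizer_iff.1 ((hT t).1 ht).1
    have h2 : t * t ∈ C⟨P⟩ := by
      refine Subgroup.mem_centralizer_iff.2 fun z hz => ?_
      by_cases hz1 : z = 1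
      · rw [hz1, one_mul, mul_one]
      by_cases hzy : z = y
      · subst hzy
        have h : t * z = z * t := mul_inv_eq_iff_eq_mul.1 hty
        rw [← mul_assoc, ← h, mul_assoc, ← h, mul_assoc]
      have hall : ∀ u ∈ P, u = 1 ∨ u = y ∨ u = z ∨ u = y * z := by
        intro u hu
        by_contra hne
        push Not at hne
        obtain ⟨h1, h2, h3, h4⟩ := hne
        have hyz1 : y * z ≠ 1 := fun h => hzy (by
          have := klein_square hV y hy
          exact (mul_left_cancel (this.trans h.symm)).symm)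
        have hyzy : y * z ≠ y := fun h => hz1 (mul_eq_left.1 h)
        have hyzz : y * z ≠ z := fun h => hy1 (mul_eq_right.1 h)
        have hsub : ({1, y, z, y * z, u} : Finset G) ⊆ Finset.univ.filter (· ∈ P) := by
          intro v hv
          simp only [Finset.mem_insert, Finset.mem_singleton] at hv
          simp only [Finset.mem_filter, Finset.mem_univ, true_and]
          rcases hv with rfl | rfl | rfl | rfl | rfl
          exacts [P.one_mem, hy, hz, P.mul_mem hy hz, hu]
        have hc5 := Finset.card_le_card hsub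
        rw [Finset.card_insert_of_notMem (by simp [Ne.symm hy1, Ne.symm hz1, Ne.symm hyz1, Ne.symm h1]),
          Finset.card_insert_of_notMem (by simp [Ne.symm hzy, Ne.symm hyzy, Ne.symm h2]),
          Finset.card_insert_of_notMem (by simp [Ne.symm hyzz, Ne.symm h3]),
          Finset.card_insert_of_notMem (by simp [Ne.symm h4]), Finset.card_singleton,
          ← Fintype.card_subtype, ← Nat.card_eq_fintype_card, hcard] at hc5
        omega
      have hconj : ∀ a : G, t * t * a * (t * t)⁻¹ = t * (t * a * t⁻¹) * t⁻¹ := fun a => by group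
      suffices h : t * t * z * (t * t)⁻¹ = z by
        exact (mul_inv_eq_iff_eq_mul.1 h).symm
      rw [hconj]
      rcases hall _ ((hN z).1 hz) with h | h | h | h
      · exact absurd (conj_eq_one_iff.1 h) hz1
      · exact absurd (mul_left_cancel (mul_right_cancel (h.trans hty.symm))) hzy
      · rw [h, h]
      · rw [h, show t * (y * z) * t⁻¹ = t * y * t⁻¹ * (t * z * t⁻¹) by group, hty, h, ← mul_assoc,
          klein_square hV y hy, one_mul]
    have hpow : (⟨t, ht⟩ : T) ^ C⟨P⟩.relIndex T ∈ C⟨P⟩.subgroupOf T := by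
      rw [Subgroup.relIndex]
      exact Subgroup.pow_index_mem _ _
    obtain ⟨j, hj⟩ := Nat.not_even_iff_odd.1 fun h => hodd (even_iff_two_dvd.1 h)
    have h3 : t ^ C⟨P⟩.relIndex T ∈ C⟨P⟩ := hpow
    rw [hj, pow_succ, pow_mul, pow_two] at h3
    exact (Subgroup.mul_mem_cancel_left _ (pow_mem h2 j)).1 h3
  refine ⟨hfree, ?_⟩
  obtain ⟨y, hy, hy1⟩ : ∃ y ∈ P, y ≠ 1 := by
    haveI : Nontrivial P := Finite.one_lt_card_iff_nontrivial.1 (by omega)
    obtain ⟨y, hy⟩ := exists_ne (1 : P)
    exact ⟨y, y.2, fun h => hy (Subtype.ext h)⟩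
  have hle : C⟨P⟩.relIndex T ≤ 3 := by
    rw [← card_orbit_stab hy (hfree y hy hy1)]
    refine (Nat.card_le_card_of_injective (β := {u : P // u ≠ 1}) (fun o => ⟨⟨o.1, ?_⟩, ?_⟩) ?_).trans ?_
    · obtain ⟨t, ht, he⟩ := o.2
      rw [← he]
      exact (Subgroup.mem_normalizer_iff.1 ((hT t).1 ht).1 y).1 hy
    · obtain ⟨t, ht, he⟩ := o.2
      intro h
      have h' : (o.1 : G) = 1 := congrArg Subtype.val h
      rw [← he, conj_eq_one_iff] at h'
      exact hy1 h'
    · intro o o' h
      exact Subtype.ext (congrArg (fun u : {u : P // u ≠ 1} => ((u : P) : G)) h)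
    · rw [Nat.card_eq_fintype_card, Fintype.card_subtype_compl,
        ← Nat.card_eq_fintype_card (α := P), hcard, Fintype.card_subtype_eq]
  have hpos : C⟨P⟩.relIndex T ≠ 0 := Subgroup.index_ne_zero_of_finite
  omega

lemma klein_S_card (hV : IsKleinFour P) [DecidablePred fun y : G => y ∈ P ∧ y ≠ 1] :
    (Finset.univ.filter fun y : G => y ∈ P ∧ y ≠ 1).card = 3 := by
  classical
  have h : (Finset.univ.filter fun y : G => y ∈ P ∧ y ≠ 1) =
      (Finset.univ.filter (· ∈ P)).erase 1 := by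
    ext y
    simp [and_comm]
  rw [h, Finset.card_erase_of_mem (by simp [P.one_mem]), ← Fintype.card_subtype,
    ← Nat.card_eq_fintype_card, show Nat.card {x // x ∈ P} = 4 from hV.card_four]

/-- The common estimate. -/
theorem klein_card (hM : IsPModular 2 M) (hD : IsDefectGroup 2 M B P) (hV : IsKleinFour P)
    (hc : IsBrauerPairOf 2 M B P c) (hT : IsPairStab P c T) :
    ∃ w : G → ℕ, (∀ y, y ∈ P → y ≠ 1 → 1 ≤ w y) ∧
      (∀ (y : G) (f : Set (IrrCharacter C⟨Subgroup.zpowers y⟩)), y ∈ P → y ≠ 1 →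
        IsBelow M P c y f → blockRank 2 f = w y) ∧
      (∀ [DecidablePred fun y : G => y ∈ P ∧ y ≠ 1],
        (C⟨P⟩.relIndex T : ℤ) * ((Nat.card B : ℤ) - (blockRank 2 B : ℤ)) =
          ∑ y ∈ Finset.univ.filter (fun y : G => y ∈ P ∧ y ≠ 1), (w y : ℤ)) ∧
      Nat.card B = 4 := by
  classical
  haveI := Fact.mk hM.1
  have hab := klein_abelian hV
  obtain ⟨hfree, he⟩ := klein_inertial hM hD hV hc hT
  have hex : ∀ y : G, ∃ n : ℕ, (y ∈ P → 1 ≤ n) ∧ ∀ f : Set (IrrCharacter C⟨Subgroup.zpowers y⟩),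
      y ∈ P → IsBelow M P c y f → blockRank 2 f = n := fun y => by
    by_cases hy : y ∈ P
    · obtain ⟨f, hf⟩ := exists_below hM hc.1 hab hy
      letI := Fintype.ofFinite C⟨Subgroup.zpowers y⟩
      exact ⟨blockRank 2 f, fun _ => blockRank_pos hM hf.1,
        fun f' _ hf' => by rw [hf'.unique hM hc.1 hab hy hf]⟩
    · exact ⟨0, fun h => absurd h hy, fun _ h => absurd h hy⟩
  choose w hw1 hw2 using hex
  have hcnt : ∀ [DecidablePred fun y : G => y ∈ P ∧ y ≠ 1],
      (C⟨P⟩.relIndex T : ℤ) * ((Nat.card B : ℤ) - (blockRank 2 B : ℤ)) =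
        ∑ y ∈ Finset.univ.filter (fun y : G => y ∈ P ∧ y ≠ 1), (w y : ℤ) :=
    subsection_count hM hD hc hab hT hfree w fun y f hy _ hf => hw2 y f hy hf
  refine ⟨w, fun y hy _ => hw1 y hy, fun y f hy _ hf => hw2 y f hy hf, hcnt, ?_⟩
  have hd : blockDefect 2 B = 2 := by
    have h := IsDefectGroup.card hM hc.2.1 hD
    rw [show Nat.card P = 4 from hV.card_four] at h
    exact Nat.pow_right_injective le_rfl (show 2 ^ blockDefect 2 B = 2 ^ 2 by rw [← h])
  have heven := even_card_of_height_zero hM hc.2.1 (by omega) fun χ hχ => by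
    by_contra h
    have := height_add_two_le hM hc.2.1 hχ h
    omega
  have hle := four_mul_card_le hM hc.2.1
  rw [hd] at hle
  have hsum : 3 ≤ ∑ y ∈ Finset.univ.filter (fun y : G => y ∈ P ∧ y ≠ 1), (w y : ℤ) := by
    refine le_trans (le_of_eq ?_) (Finset.sum_le_sum (f := fun _ => (1 : ℤ)) fun y hy => ?_)
    · rw [Finset.sum_const, klein_S_card hV]; norm_num
    · exact_mod_cast hw1 y (Finset.mem_filter.1 hy).2.1
  rw [← hcnt] at hsum
  have hl := blockRank_pos hM hc.2.1
  have hne := card_ne_two_of_defect_two hM hc.2.1 hd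
  obtain ⟨j, hj⟩ := heven
  rcases he with he | he <;> rw [he] at hsum <;> omega

/-- With trivial inertial index there is a single Brauer character. -/
theorem klein_trivial (hM : IsPModular 2 M) (hD : IsDefectGroup 2 M B P) (hV : IsKleinFour P)
    (hc : IsBrauerPairOf 2 M B P c) (hT : IsPairStab P c C⟨P⟩) : blockRank 2 B = 1 := by
  classical
  obtain ⟨w, hw1, -, hcnt, hk⟩ := klein_card hM hD hV hc hT
  have hsum : 3 ≤ ∑ y ∈ Finset.univ.filter (fun y : G => y ∈ P ∧ y ≠ 1), (w y : ℤ) := by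
    refine le_trans (le_of_eq ?_) (Finset.sum_le_sum (f := fun _ => (1 : ℤ)) fun y hy => ?_)
    · rw [Finset.sum_const, klein_S_card hV]; norm_num
    · exact_mod_cast hw1 y (Finset.mem_filter.1 hy).2.1 (Finset.mem_filter.1 hy).2.2
  rw [← hcnt, Subgroup.relIndex_self, hk] at hsum
  have hl := blockRank_pos hM hc.2.1
  omega

/-- **A 2-block with a Klein four defect group.** -/
theorem klein_block (hM : IsPModular 2 M) (hD : IsDefectGroup 2 M B P) (hV : IsKleinFour P)
    (hc : IsBrauerPairOf 2 M B P c) (hT : IsPairStab P c T) :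
    (C⟨P⟩.relIndex T = 1 ∨ C⟨P⟩.relIndex T = 3) ∧ Nat.card B = 4 ∧
      blockRank 2 B = C⟨P⟩.relIndex T := by
  classical
  haveI := Fact.mk hM.1
  have hab := klein_abelian hV
  obtain ⟨hfree, he⟩ := klein_inertial hM hD hV hc hT
  obtain ⟨w, -, hw2, hcnt, hk⟩ := klein_card hM hD hV hc hT
  refine ⟨he, hk, ?_⟩
  have hw : ∀ y ∈ Finset.univ.filter (fun y : G => y ∈ P ∧ y ≠ 1), (w y : ℤ) = 1 := by
    intro y hy
    obtain ⟨hyP, hy1⟩ := (Finset.mem_filter.1 hy).2
    obtain ⟨f, hf⟩ := exists_below hM hc.1 hab hyP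
    letI := Fintype.ofFinite C⟨Subgroup.zpowers y⟩
    rw [← hw2 y f hyP hy1 hf, Nat.cast_eq_one]
    have hPH : P ≤ C⟨Subgroup.zpowers y⟩ := le_centralizer_zpowers hab hyP
    have hCH := centralizer_le_zpowers hyP
    obtain ⟨hfD, hfc⟩ := hf.defect hM hD hc hab hyP
    have hV' : IsKleinFour (P.subgroupOf C⟨Subgroup.zpowers y⟩) := by
      haveI := hV
      exact ⟨(Nat.card_congr (Subgroup.subgroupOfEquivOfLe hPH).toEquiv).trans hV.card_four,
        (Monoid.exponent_eq_of_mulEquiv (Subgroup.subgroupOfEquivOfLe hPH)).trans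
          IsKleinFour.exponent_two⟩
    refine klein_trivial hM hfD hV' hfc fun x => ?_
    have hcen := isSubOf_centralizer C⟨Subgroup.zpowers y⟩ P hPH x
    constructor
    · intro hx
      have hxG : (x : G) ∈ C⟨P⟩ := (hcen.1 hx).1
      refine ⟨Subgroup.centralizer_le_normalizer _ hx, ?_⟩
      refine (stabilizes_iff_of_normalizer hM hfc.1.2
        (Subgroup.centralizer_le_normalizer _ hx)).2 ?_
      exact invOn_iff.1 (invOn_bi _) x hx
    · rintro ⟨hxN, hxs⟩
      have hxs' := (stabilizes_iff_of_normalizer hM hfc.1.2 hxN).1 hxs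
      rw [← (emb_injective C⟨Subgroup.zpowers y⟩).eq_iff, ← cj_emb,
        emb_bi_downSet hPH hCH] at hxs'
      have hxNG : (x : G) ∈ Subgroup.normalizer (P : Set G) := by
        have h2 := Subgroup.mem_normalizer_iff.1 hxN
        refine Subgroup.mem_normalizer_iff.2 fun a => ?_
        constructor
        · intro ha; exact (h2 ⟨a, hPH ha⟩).1 ha
        · intro ha
          have haH : a ∈ C⟨Subgroup.zpowers y⟩ := by
            have h3 := Subgroup.mul_mem _ (Subgroup.mul_mem _ (Subgroup.inv_mem _ x.2) (hPH ha)) x.2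
            rwa [show (x : G)⁻¹ * ((x : G) * a * (x : G)⁻¹) * x = a by group] at h3
          exact (h2 ⟨a, haH⟩).2 ha
      have hxT : (x : G) ∈ T :=
        (hT _).2 ⟨hxNG, (stabilizes_iff_of_normalizer hM hc.1.2 hxNG).2 hxs'⟩
      have hxy : (x : G) * y * (x : G)⁻¹ = y := by
        have h : (x : G) ∈ Subgroup.centralizer ({y} : Set G) :=
          centralizer_zpowers y ▸ x.2
        have h' := Subgroup.mem_centralizer_singleton_iff.1 h
        rw [h', mul_inv_cancel_right]
      exact hcen.2 ⟨hfree y hyP hy1 _ hxT hxy, x.2⟩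
  have h := hcnt
  rw [Finset.sum_congr rfl hw, Finset.sum_const, klein_S_card hV, hk] at h
  rcases he with he | he <;> rw [he] at h ⊢ <;> simp at h <;> omega

end Cfsg.Lib.Blocks
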