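import Mathlib
import Cfsg.Agent.Blocks.KleinFourBlock
import Cfsg.Agent.Blocks.SubsectionColumns

/-!
# The columns of a 2-block with a Klein four defect group

Every column at a 2-singular element is a combination of sign vectors orthogonal to the columns
at the 2-regular elements, with coefficients divisible by a quarter of the order of the
centralizer.
-/

set_option autoImplicit false
set_option linter.unusedSectionVars false
set_option linter.style.haveILetI false

namespace Cfsg.Lib.Blocks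

open Cfsg Cfsg.Lib.Chars
open scoped ComplexConjugate

universe u

local notation "C⟨" P "⟩" => Subgroup.centralizer (SetLike.coe P)

variable {G : Type u} [Group G] [Fintype G] {M : Ideal AlgInt}

/-- The subsections below a Klein four pair have one Brauer character and full defect. -/
theorem klein_below {B : Set (IrrCharacter G)} {P T : Subgroup G}
    {c : Set (IrrCharacter C⟨P⟩)} (hM : IsPModular 2 M) (hD : IsDefectGroup 2 M B P)
    (hV : IsKleinFour P) (hc : IsBrauerPairOf 2 M B P c) (hT : IsPairStab P c T) {y : G}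
    (hyP : y ∈ P) (hy1 : y ≠ 1) {f : Set (IrrCharacter C⟨Subgroup.zpowers y⟩)}
    (hf : IsBelow M P c y f) : blockRank 2 f = 1 ∧ blockDefect 2 f = 2 := by
  classical
  haveI := Fact.mk hM.1
  have hab := klein_abelian hV
  obtain ⟨hfree, -⟩ := klein_inertial hM hD hV hc hT
  letI := Fintype.ofFinite C⟨Subgroup.zpowers y⟩
  have hPH : P ≤ C⟨Subgroup.zpowers y⟩ := le_centralizer_zpowers hab hyP
  have hCH := centralizer_le_zpowers hyP
  obtain ⟨hfD, hfc⟩ := hf.defect hM hD hc hab hyP
  have hV' : IsKleinFour (P.subgroupOf C⟨Subgroup.zpowers y⟩) := by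
    haveI := hV
    exact ⟨(Nat.card_congr (Subgroup.subgroupOfEquivOfLe hPH).toEquiv).trans hV.card_four,
      (Monoid.exponent_eq_of_mulEquiv (Subgroup.subgroupOfEquivOfLe hPH)).trans
        IsKleinFour.exponent_two⟩
  refine ⟨klein_trivial hM hfD hV' hfc fun x => ?_, ?_⟩
  swap
  · have h := IsDefectGroup.card hM hf.1 hfD
    rw [hV'.card_four] at h
    exact (Nat.pow_right_injective le_rfl (show 2 ^ 2 = 2 ^ blockDefect 2 f by rw [← h])).symm
  have hcen := isSubOf_centralizer C⟨Subgroup.zpowers y⟩ P hPH x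
  constructor
  · intro hx
    refine ⟨Subgroup.centralizer_le_normalizer _ hx, ?_⟩
    refine (stabilizes_iff_of_normalizer hM hfc.1.2
      (Subgroup.centralizer_le_normalizer _ hx)).2 ?_
    exact invOn_iff.1 (invOn_bi _) x hx
  · rintro ⟨hxN, hxs⟩
    have hxs' := (stabilizes_iff_of_normalizer hM hfc.1.2 hxN).1 hxs
    rw [← (emb_injective C⟨Subgroup.zpowers y⟩).eq_iff, ← cj_emb,
      emb_bi_downSet hPH hCH] at hxs'
    have hxNG : (x : G) ∈ Subgroup.normalizer (P : Set G) := by
      have h2 := Subgroup.mem_normalizer_iff.1 hxN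
      refine Subgroup.mem_normalizer_iff.2 fun a => ?_
      constructor
      · intro ha; exact (h2 ⟨a, hPH ha⟩).1 ha
      · intro ha
        have haH : a ∈ C⟨Subgroup.zpowers y⟩ := by
          have h3 := Subgroup.mul_mem _ (Subgroup.mul_mem _ (Subgroup.inv_mem _ x.2) (hPH ha)) x.2
          rwa [show (x : G)⁻¹ * ((x : G) * a * (x : G)⁻¹) * x = a by group] at h3
        exact (h2 ⟨a, haH⟩).2 ha
    have hxT : (x : G) ∈ T :=
      (hT _).2 ⟨hxNG, (stabilizes_iff_of_normalizer hM hc.1.2 hxNG).2 hxs'⟩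
    have hxy : (x : G) * y * (x : G)⁻¹ = y := by
      have h : (x : G) ∈ Subgroup.centralizer ({y} : Set G) :=
        centralizer_zpowers y ▸ x.2
      rw [Subgroup.mem_centralizer_singleton_iff.1 h, mul_inv_cancel_right]
    exact hcen.2 ⟨hfree y hyP hy1 _ hxT hxy, x.2⟩

/-- Conjugate blocks have the same defect. -/
lemma blockDefect_eq_of_cj {p : ℕ} (hM : IsPModular p M) {H H' : Subgroup G} {x : G}
    (h : IsConjSub H H' x) {f : Set (IrrCharacter H)} {f' : Set (IrrCharacter H')}
    (hf : IsPBlock M f) (hf' : IsPBlock M f') (he : cj x (bi M H f) = bi M H' f') :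
    blockDefect p f' = blockDefect p f := by
  classical
  letI := Fintype.ofFinite H
  letI := Fintype.ofFinite H'
  rw [← bi_conjSet h] at he
  rw [← bi_injective hM (IsPBlock.conjSet h hf) hf' he, conjSet_eq_image h, blockDefect, blockDefect,
    Set.image_image]
  congr 2
  · exact congrArg _ (Nat.card_congr (conjSubEquiv h).toEquiv)
  · refine Set.image_congr fun χ _ => ?_
    simp [charDegree, irrEquiv_apply]

/-- Every subsection of a block with Klein four defect group. -/
theorem klein_section {B : Set (IrrCharacter G)} {P T : Subgroup G}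
    {c : Set (IrrCharacter C⟨P⟩)} (hM : IsPModular 2 M) (hD : IsDefectGroup 2 M B P)
    (hV : IsKleinFour P) (hc : IsBrauerPairOf 2 M B P c) (hT : IsPairStab P c T) {x : G}
    (hx1 : x ≠ 1) (hx : ∃ k : ℕ, orderOf x = 2 ^ k)
    {b : Set (IrrCharacter C⟨Subgroup.zpowers x⟩)}
    (hb : IsInducedBlock M C⟨Subgroup.zpowers x⟩ b B) :
    x * x = 1 ∧ blockRank 2 b = 1 ∧ blockDefect 2 b = 2 := by
  classical
  haveI := Fact.mk hM.1
  letI := Fintype.ofFinite C⟨Subgroup.zpowers x⟩
  have hab := klein_abelian hV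
  have hpair : IsBrauerPairOf 2 M B (Subgroup.zpowers x) b :=
    (isBrauerPairOf_iff hM B _ b).2 ⟨isPGroup_zpowers hM.1 hx, hb⟩
  obtain ⟨g, y, fy, hy, hfy, hgy, hgf⟩ := exists_below_conj hM hD hc hab hpair
  have hy1 : y ≠ 1 := fun h => hx1 (by rw [← hgy, h, mul_one, mul_inv_cancel])
  obtain ⟨h1, h2⟩ := klein_below hM hD hV hc hT hy hy1 hfy
  subst hgy
  refine ⟨?_, ?_, ?_⟩
  · rw [show g * y * g⁻¹ * (g * y * g⁻¹) = g * (y * y) * g⁻¹ by group, klein_square hV y hy,
      mul_one, mul_inv_cancel]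
  · rw [blockRank_eq_of_cj hM (isConjSub_zpowers g y) hfy.1 hb.1 hgf, h1]
  · rw [blockDefect_eq_of_cj hM (isConjSub_zpowers g y) hfy.1 hb.1 hgf, h2]

/-- A product of two columns of a block is divisible by the order of the first centralizer. -/
theorem colKer_div_mem {p : ℕ} (hM : IsPModular p M) {B : Set (IrrCharacter G)}
    (hB : IsPBlock M B) (g z : G) :
    colKer B g z / (Nat.card (Subgroup.centralizer ({g} : Set G)) : ℂ) ∈ place M := by
  classical
  set C : ℂ := (Nat.card (Subgroup.centralizer ({g} : Set G)) : ℂ) with hC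
  have hC0 : C ≠ 0 := Nat.cast_ne_zero.2 Nat.card_pos.ne'
  have hG : (Nat.card G : ℂ) ≠ 0 := Nat.cast_ne_zero.2 Nat.card_pos.ne'
  set a : MonoidAlgebra ℂ G := ofFn (fun z => colKer B g z / C) with ha
  have hac : IsCentralFn a := isCentralFn_ofFn fun w h => by
    rw [colKer_eq, colKer_eq]
    congr 1
    exact Finset.sum_congr rfl fun χ _ => by rw [isClassFunction_irr χ w h]
  have heq : a = blockElem B * cls ℂ g := by
    refine eq_of_omega_eq hac ((isCentralFn_blockElem B).mul (isCentralFn_cls g)) fun ψ => ?_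
    rw [omega_mul ψ (isCentralFn_blockElem B), omega_blockElem, omega_cls_irr]
    have horth : ∀ χ : IrrCharacter G, ∑ w, conj ((χ : G → ℂ) w) * (ψ : G → ℂ) w =
        if χ = ψ then (Nat.card G : ℂ) else 0 := fun χ => by
      have h : classInner (ψ : G → ℂ) (χ : G → ℂ) = if ψ = χ then 1 else 0 :=
        classInner_irrCharacter ψ χ
      rw [classInner_def, inv_mul_eq_iff_eq_mul₀ hG, mul_ite, mul_one, mul_zero] at h
      rw [show (if χ = ψ then (Nat.card G : ℂ) else 0) = (if ψ = χ then (Nat.card G : ℂ) else 0) by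
        simp only [eq_comm], ← h]
      exact Finset.sum_congr rfl fun w _ => mul_comm _ _
    have hev : chiEval (ψ : G → ℂ) a =
        if ψ ∈ B then (ψ : G → ℂ) g / C * (Nat.card G : ℂ) else 0 := by
      simp only [ha, chiEval, fn_ofFn, colKer_eq, Finset.sum_div, Finset.sum_mul]
      rw [Finset.sum_comm]
      rw [Finset.sum_congr rfl (g := fun χ : IrrCharacter G => (χ : G → ℂ) g / C *
        (if χ = ψ then (Nat.card G : ℂ) else 0)) fun χ _ => by
          rw [← horth χ, Finset.mul_sum]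
          exact Finset.sum_congr rfl fun w _ => by ring]
      simp only [mul_ite, mul_zero, Finset.sum_ite_eq', Finset.mem_filter, Finset.mem_univ,
        true_and]
    rw [omega, hev]
    have hidx : ((Subgroup.centralizer ({g} : Set G)).index : ℂ) = (Nat.card G : ℂ) / C := by
      rw [eq_div_iff hC0, hC, ← Nat.cast_mul, mul_comm, Subgroup.card_mul_index]
    split_ifs
    · rw [one_mul, centralChar, hidx]; ring
    · rw [zero_mul, zero_div]
  have hint : Integral M a := heq ▸ (integral_blockElem hM hB).mul (integral_cls g)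
  have h := hint z
  rwa [ha, fn_ofFn] at h

/-- An integral combination of characters vanishing on the singular elements is divisible by the
order of the centralizer. -/
theorem div_mem_of_vanish {p : ℕ} (hM : IsPModular p M) (S : Finset (IrrCharacter G))
    (a : IrrCharacter G → ℂ) (ha : ∀ χ ∈ S, a χ ∈ place M)
    (h0 : ∀ g : G, p ∣ orderOf g → ∑ χ ∈ S, a χ * (χ : G → ℂ) g = 0) (x : G) :
    (∑ χ ∈ S, a χ * (χ : G → ℂ) x) / (Nat.card (Subgroup.centralizer ({x} : Set G)) : ℂ) ∈
      place M := by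
  classical
  haveI := Fact.mk hM.1
  by_cases hx : p ∣ orderOf x
  · rw [h0 x hx, zero_div]; exact zero_mem _
  set C := Subgroup.centralizer ({x} : Set G) with hC
  obtain ⟨Q⟩ : Nonempty (Sylow p C) := inferInstance
  set D : Subgroup G := (Q : Subgroup C).map C.subtype with hD
  letI := Fintype.ofFinite D
  have hDp : IsPGroup p D := Q.2.map _
  have hxD : x ∈ Subgroup.centralizer (D : Set G) := by
    refine Subgroup.mem_centralizer_iff.2 fun u hu => ?_
    obtain ⟨v, -, rfl⟩ := hu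
    exact Subgroup.mem_centralizer_singleton_iff.1 v.2
  have hval : ∑ u : D, ∑ χ ∈ S, a χ * (χ : G → ℂ) (x * u) =
      ∑ χ ∈ S, a χ * (χ : G → ℂ) x := by
    rw [Finset.sum_eq_single (1 : D)]
    · simp
    · intro u _ hu
      refine h0 _ ?_
      obtain ⟨i, hi⟩ := IsPGroup.iff_orderOf.1 hDp u
      rw [← Subgroup.orderOf_coe] at hi
      have hc : Commute (u : G) x := (Subgroup.mem_centralizer_iff.1 hxD u u.2)
      rcases Nat.eq_zero_or_pos i with rfl | hi0
      · exact absurd (Subtype.ext (orderOf_eq_one_iff.1 (by rw [hi, pow_zero]))) hu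
      · rw [← hc.eq, hc.orderOf_mul_eq_mul_orderOf_of_coprime
          (by rw [hi]; exact Nat.Coprime.pow_left i (hM.1.coprime_iff_not_dvd.2 hx)), hi]
        exact dvd_mul_of_dvd_left (dvd_pow_self p hi0.ne') _
    · exact fun h => absurd (Finset.mem_univ _) h
  have hcard : Nat.card D = p ^ (Nat.card C).factorization p := by
    rw [hD, Subgroup.card_map_of_injective C.subtype_injective, Q.card_eq_multiplicity]
  have hm : ¬ p ∣ Nat.card C / p ^ (Nat.card C).factorization p :=
    Nat.not_dvd_ordCompl hM.1 Nat.card_pos.ne'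
  have hsplit : (∑ χ ∈ S, a χ * (χ : G → ℂ) x) / (Nat.card C : ℂ) =
      ((Nat.card C / p ^ (Nat.card C).factorization p : ℕ) : ℂ)⁻¹ *
        ∑ χ ∈ S, a χ * ((Nat.card D : ℂ)⁻¹ * ∑ u : D, (χ : G → ℂ) (x * u)) := by
    conv_lhs => rw [← hval, Finset.sum_comm, ← Nat.ordProj_mul_ordCompl_eq_self (Nat.card C) p,
      Nat.cast_mul, ← hcard, Finset.sum_div]
    rw [Finset.mul_sum]
    exact Finset.sum_congr rfl fun χ _ => by rw [← Finset.mul_sum]; field_simp; rw [hcard]
  rw [hsplit]
  exact mul_mem (isUnitAt_natCast hM hm).inv.mem_place (sum_mem fun χ hχ => mul_mem (ha χ hχ)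
    (isIntegral_mem_place hM (isIntegral_avg_coset (isCharacter_of_irr χ.2) D hxD)))

/-- A 2-block of regular rank one and defect two on the 2-regular elements. -/
theorem rank_one_defect_two (hM : IsPModular 2 M) {B : Set (IrrCharacter G)} (hB : IsPBlock M B)
    [DecidablePred (· ∈ B)] (hl : blockRank 2 B = 1) (hd : blockDefect 2 B = 2) :
    ∃ (φ : G → ℂ) (d : IrrCharacter G → ℕ),
      (∀ χ ∈ B, ∀ y : G, IsPRegular 2 y → (χ : G → ℂ) y = (d χ : ℂ) * φ y) ∧
      (∀ y w : G, IsPRegular 2 y → IsPRegular 2 w → colKer B y w = 4 * (φ y * conj (φ w))) ∧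
      ∑ χ ∈ Finset.univ.filter (· ∈ B), d χ ^ 2 = 4 ∧
      (∃ s : G, IsPRegular 2 s ∧ φ s ≠ 0) ∧
      ∀ y : G, IsPRegular 2 y → φ y ∈ place M ∧
        φ y * 4 / (Nat.card (Subgroup.centralizer ({y} : Set G)) : ℂ) ∈ place M := by
  classical
  haveI := Fact.mk hM.1
  obtain ⟨φ, d, ⟨n, hn⟩, hval, hsum⟩ := exists_of_blockRank_one hM hB hl
  rw [finsum_mem_eq_sum_of_inter_support_eq _ (t := Finset.univ.filter (· ∈ B)) (by simp), hd]
    at hsum
  have hφint : ∀ y : G, IsPRegular 2 y → φ y ∈ place M := fun y hy => by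
    rw [hn y hy, finsum_mem_eq_sum_of_inter_support_eq _ (t := Finset.univ.filter (· ∈ B)) (by simp)]
    exact sum_mem fun ψ _ => mul_mem (intCast_mem_place _)
      (isIntegral_mem_place hM (IsCharacter.isIntegral (isCharacter_of_irr ψ.2) _))
  have hker : ∀ y w : G, IsPRegular 2 y → IsPRegular 2 w →
      colKer B y w = 4 * (φ y * conj (φ w)) := fun y w hy hw => by
    rw [colKer_eq, Finset.sum_congr rfl fun χ hχ => by
      rw [hval χ (Finset.mem_filter.1 hχ).2 y hy, hval χ (Finset.mem_filter.1 hχ).2 w hw, map_mul,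
        Complex.conj_natCast, show (d χ : ℂ) * φ y * ((d χ : ℂ) * conj (φ w)) =
          ((d χ ^ 2 : ℕ) : ℂ) * (φ y * conj (φ w)) by push_cast; ring],
      ← Finset.sum_mul, ← Nat.cast_sum, hsum]
    norm_num
  -- a value that is a unit
  obtain ⟨θ, hθ, h0⟩ := exists_height_zero hM hB
  obtain ⟨s, hs⟩ := exists_defectClass hM hB
  have hsreg : IsPRegular 2 s := fun h => by
    refine hs.2.1 ?_
    rw [blockCoeff_eq_zero_of_singular hM hB h]
    exact ⟨0, 1, Ideal.zero_mem M, fun h1 => hM.2.1.ne_top ((Ideal.eq_top_iff_one M).2 h1), by simp⟩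
  have hθs : IsUnitAt M ((θ : G → ℂ) s) := by
    have hcc : IsUnitAt M (centralChar (θ : G → ℂ) s) := isUnitAt_iff.2
      ⟨centralChar_mem_place hM θ s, fun h => hs.2.2 θ hθ
        ((memLocalIdeal_iff_small hM (isAlgebraic_of_isIntegral
          (isIntegral_centralChar_irrChar θ s))).2 h)⟩
    have hv := deg_factorization_eq hM hB hs hθ
    rw [h0, zero_add] at hv
    have h1 : (deg (θ : G → ℂ) : ℂ) * centralChar (θ : G → ℂ) s =
        ((Subgroup.centralizer ({s} : Set G)).index : ℂ) * (θ : G → ℂ) s := by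
      rw [centralChar, irr_apply_one_eq_deg θ, mul_div_cancel₀ _
        (Nat.cast_ne_zero.2 (deg_irr_pos θ).ne')]
    have h2 := congrArg (place M).valuation h1
    rw [map_mul, map_mul, hcc, mul_one, valuation_natCast hM (deg_irr_pos θ).ne',
      valuation_natCast hM Subgroup.index_ne_zero_of_finite, hv] at h2
    exact mul_left_cancel₀ (pow_pos (valuation_prime_pos hM) _).ne'
      (h2.symm.trans (mul_one _).symm)
  have hφs : IsUnitAt M (φ s) := by
    refine isUnitAt_iff.2 ⟨hφint s hsreg, fun h => (isUnitAt_iff.1 hθs).2 ?_⟩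
    rw [hval θ hθ s hsreg, small_iff, map_mul]
    exact lt_of_le_of_lt (mul_le_of_le_one_left zero_le
      ((ValuationSubring.valuation_le_one_iff _ _).2 (natCast_mem_place _))) (small_iff.1 h)
  refine ⟨φ, d, hval, hker, hsum.trans (by norm_num), ⟨s, hsreg, hφs.ne_zero⟩,
    fun y hy => ⟨hφint y hy, ?_⟩⟩
  have hsinv : IsPRegular 2 s⁻¹ := by
    unfold IsPRegular; rwa [orderOf_inv]
  have hconj : conj (φ s⁻¹) = φ s := by
    rw [hn s⁻¹ hsinv, hn s hsreg,
      finsum_mem_eq_sum_of_inter_support_eq _ (t := Finset.univ.filter (· ∈ B)) (by simp),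
      finsum_mem_eq_sum_of_inter_support_eq _ (t := Finset.univ.filter (· ∈ B)) (by simp), map_sum]
    exact Finset.sum_congr rfl fun ψ _ => by
      rw [map_mul, map_intCast, IsCharacter.conj_inv (isCharacter_of_irr ψ.2), Complex.conj_conj]
  have h := colKer_div_mem hM hB y s⁻¹
  rw [hker y s⁻¹ hy hsinv, hconj] at h
  have h' := mul_mem hφs.inv.mem_place h
  rwa [show (φ s)⁻¹ * (4 * (φ y * φ s) / (Nat.card (Subgroup.centralizer ({y} : Set G)) : ℂ)) =
    φ y * 4 / (Nat.card (Subgroup.centralizer ({y} : Set G)) : ℂ) by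
      field_simp [hφs.ne_zero]] at h'

/-- A sign vector orthogonal to the columns at the 2-regular elements. -/
def IsKleinColumn (B : Set (IrrCharacter G)) (c : IrrCharacter G → ℤ) : Prop := by
  classical
  exact (∀ χ ∈ B, c χ = 1 ∨ c χ = -1) ∧ ∀ r : G, IsPRegular 2 r →
    ∑ χ ∈ Finset.univ.filter (· ∈ B), (c χ : ℂ) * (χ : G → ℂ) r = 0

lemma isKleinColumn_iff (B : Set (IrrCharacter G)) [DecidablePred (· ∈ B)]
    (c : IrrCharacter G → ℤ) : IsKleinColumn B c ↔ (∀ χ ∈ B, c χ = 1 ∨ c χ = -1) ∧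
      ∀ r : G, IsPRegular 2 r →
        ∑ χ ∈ Finset.univ.filter (· ∈ B), (c χ : ℂ) * (χ : G → ℂ) r = 0 := by
  classical
  unfold IsKleinColumn
  congr!

/-- Four integers of square sum four orthogonal to positive numbers are signs. -/
lemma signs_of_sq_sum {α : Type*} [DecidableEq α] (S : Finset α) (hS : S.card = 4) (c : α → ℤ)
    (w : α → ℕ) (hw : ∀ i ∈ S, 0 < w i) (hc : ∑ i ∈ S, c i ^ 2 = 4)
    (h0 : ∑ i ∈ S, c i * (w i : ℤ) = 0) {i : α} (hi : i ∈ S) : c i = 1 ∨ c i = -1 := by
  have key : ∀ j ∈ S, c j ≠ 0 := by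
    intro j hj hj0
    -- at most three nonzero entries: one of them has absolute value two
    by_cases hbig : ∃ l ∈ S, 4 ≤ c l ^ 2
    · obtain ⟨l, hl, hl4⟩ := hbig
      have hrest : ∑ m ∈ S.erase l, c m ^ 2 = 0 := by
        have := Finset.add_sum_erase S (fun m => c m ^ 2) hl
        have hnn : 0 ≤ ∑ m ∈ S.erase l, c m ^ 2 := Finset.sum_nonneg fun m _ => sq_nonneg _
        omega
      rw [← Finset.add_sum_erase S (fun m => c m * (w m : ℤ)) hl,
        Finset.sum_eq_zero fun m hm => by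
          rw [pow_eq_zero_iff two_ne_zero |>.1
            ((Finset.sum_eq_zero_iff_of_nonneg fun m _ => sq_nonneg _).1 hrest m hm), zero_mul],
        add_zero, mul_eq_zero] at h0
      rcases h0 with h | h
      · rw [h] at hl4; norm_num at hl4
      · exact absurd (Nat.cast_eq_zero.1 h) (hw l hl).ne'
    · push Not at hbig
      have hle : ∀ m ∈ S, c m ^ 2 ≤ 1 := fun m hm => by
        have h4 := hbig m hm
        have : c m ≤ 1 := by nlinarith
        have : -1 ≤ c m := by nlinarith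
        nlinarith
      rw [← Finset.add_sum_erase S _ hj, hj0] at hc
      have h3 := Finset.sum_le_sum (s := S.erase j) fun m hm => hle m (Finset.mem_of_mem_erase hm)
      rw [Finset.sum_const, Finset.card_erase_of_mem hj, hS] at h3
      simp at h3 hc
      omega
  have h1 : ∀ j ∈ S, 1 ≤ c j ^ 2 := fun j hj => by
    have := sq_pos_of_ne_zero (key j hj)
    omega
  have hrest := Finset.sum_le_sum (s := S.erase i) fun m hm => h1 m (Finset.mem_of_mem_erase hm)
  rw [Finset.sum_const, Finset.card_erase_of_mem hi, hS] at hrest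
  rw [← Finset.add_sum_erase S _ hi] at hc
  simp at hrest
  have hsq : c i ^ 2 = 1 := by
    have := h1 i hi
    omega
  exact sq_eq_one_iff.1 hsq

/-- The contribution of a section of rank one: a sign vector times a Brauer character. -/
theorem klein_section_column {B : Set (IrrCharacter G)} [DecidablePred (· ∈ B)]
    (hM : IsPModular 2 M) (hk : Nat.card B = 4) {x : G}
    (hx : ∃ k : ℕ, orderOf x = 2 ^ k) (hxx : x * x = 1) (hx1 : x ≠ 1)
    {H : Subgroup G} [Fintype H] (hH : H = C⟨Subgroup.zpowers x⟩) {b : Set (IrrCharacter H)}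
    (hb : IsInducedBlock M H b B) (hl : blockRank 2 b = 1) (hd : blockDefect 2 b = 2) :
    ∃ (c : IrrCharacter G → ℤ) (φ : H → ℂ), IsKleinColumn B c ∧
      ∀ y : H, IsPRegular 2 y →
        (φ y ∈ place M ∧
          φ y * 4 / (Nat.card (Subgroup.centralizer ({x * (y : G)} : Set G)) : ℂ) ∈ place M) ∧
        ∀ χ : IrrCharacter G,
          blockPart b (fun w : H => (χ : G → ℂ) (x * (w : G))) y =
            (c χ : ℂ) * φ y := by
  classical
  obtain ⟨φ, d, hval, hker, hdsum, ⟨s, hs, hφs⟩, hφ⟩ := rank_one_defect_two hM hb.1 hl hd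
  have hxH : x ∈ H := by
    rw [hH, centralizer_zpowers, Subgroup.mem_centralizer_singleton_iff]
  have hcomm : ∀ w ∈ H, Commute x w := fun w hw => commute_of_mem_centralizer hH hw
  have hxc : (⟨x, hxH⟩ : H) ∈ Subgroup.center H :=
    Subgroup.mem_center_iff.2 fun w => Subtype.ext (hcomm w w.2).eq.symm
  -- the multiplicities are integers
  choose nm hnm using fun (χ : IrrCharacter G) (θ : IrrCharacter H) =>
    IsCharacter.exists_mult (IsCharacter.restrict (isCharacter_of_irr χ.2) H) θ.2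
  have hint : ∀ (χ : IrrCharacter G) (θ : IrrCharacter H), ∃ a : ℤ,
      classInner (fun w : H => (χ : G → ℂ) (x * (w : G))) (θ : H → ℂ) = a := by
    intro χ θ
    set ω := (θ : H → ℂ) ⟨x, hxH⟩ / (θ : H → ℂ) 1 with hω
    have hω2 : ω ^ 2 = 1 := apply_central_root θ hxc (by
      apply Subtype.ext
      simp [pow_two, hxx])
    have hωr : conj ω = ω := by
      rcases sq_eq_one_iff.1 hω2 with h | h <;> rw [h] <;> simp
    have heq : classInner (fun w : H => (χ : G → ℂ) (x * (w : G))) (θ : H → ℂ) =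
        ω * classInner (fun w : H => (χ : G → ℂ) w) (θ : H → ℂ) := by
      rw [classInner_def, classInner_def, mul_left_comm ω]
      congr 1
      rw [Finset.mul_sum]
      refine Fintype.sum_equiv (Equiv.mulLeft (⟨x, hxH⟩ : H)) _ _ fun w => ?_
      simp only [Equiv.coe_mulLeft, Subgroup.coe_mul]
      rw [apply_mul_central θ hxc w, map_mul, hωr,
        show ω * ((χ : G → ℂ) (x * (w : G)) * (ω * conj ((θ : H → ℂ) w))) =
          ω ^ 2 * ((χ : G → ℂ) (x * (w : G)) * conj ((θ : H → ℂ) w)) by ring, hω2, one_mul]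
    rcases sq_eq_one_iff.1 hω2 with h | h
    · exact ⟨nm χ θ, by rw [heq, hnm, h]; simp⟩
    · exact ⟨-(nm χ θ : ℤ), by rw [heq, hnm, h]; simp⟩
  choose a ha using hint
  let c : IrrCharacter G → ℤ := fun χ => ∑ θ ∈ Finset.univ.filter (· ∈ b), a χ θ * (d θ : ℤ)
  have hpart : ∀ (χ : IrrCharacter G) (y : H), IsPRegular 2 y →
      blockPart b (fun w : H => (χ : G → ℂ) (x * (w : G))) y = (c χ : ℂ) * φ y := by
    intro χ y hy
    rw [blockPart_eq_sum, Int.cast_sum, Finset.sum_mul]
    refine Finset.sum_congr rfl fun θ hθ => ?_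
    rw [ha, hval θ (Finset.mem_filter.1 hθ).2 y hy]
    push_cast; ring
  have hsq : ∑ χ ∈ Finset.univ.filter (· ∈ B), c χ ^ 2 = 4 := by
    have h := sum_blockPart_mul_conj_blockPart hM hx hH hb (y := s) (w := s) hs hs
    rw [hker s s hs hs, Finset.sum_congr rfl fun χ _ => by
      rw [hpart χ s hs, map_mul, map_intCast, show (c χ : ℂ) * φ s * ((c χ : ℂ) * conj (φ s)) =
        ((c χ ^ 2 : ℤ) : ℂ) * (φ s * conj (φ s)) by push_cast; ring], ← Finset.sum_mul,
      ← Int.cast_sum] at h
    have h4 := mul_right_cancel₀ (mul_ne_zero hφs (by simpa using hφs)) h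
    exact_mod_cast h4
  have horth : ∀ r : G, IsPRegular 2 r →
      ∑ χ ∈ Finset.univ.filter (· ∈ B), (c χ : ℂ) * (χ : G → ℂ) r = 0 := by
    intro r hr
    refine mul_left_cancel₀ hφs ?_
    rw [mul_zero, Finset.mul_sum, Finset.sum_congr rfl (g := fun χ : IrrCharacter G =>
      blockPart b (fun w : H => (χ : G → ℂ) (x * (w : G))) s * (χ : G → ℂ) r) fun χ _ => by
        rw [hpart χ s hs]; ring]
    simp only [blockPart_eq_colKer, Finset.mul_sum, Finset.sum_mul]
    rw [Finset.sum_comm]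
    refine Finset.sum_eq_zero fun v _ => ?_
    rw [Finset.sum_congr rfl (g := fun χ : IrrCharacter G => ((Nat.card H : ℂ)⁻¹ * colKer b s v) *
      ((χ : G → ℂ) (x * (v : G)) * (χ : G → ℂ) r)) fun χ _ => by ring, ← Finset.mul_sum]
    by_cases hv : 2 ∣ orderOf v
    · rw [colKer_eq, block_orthogonality_regular hM hb.1 hs hv, mul_zero, zero_mul]
    · have hpp : IsPPart 2 (x * (v : G)) x :=
        isPPart_mul (hcomm v v.2) hx (by rwa [Subgroup.orderOf_coe])
      have hsing : 2 ∣ orderOf (x * (v : G)) := by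
        by_contra hd'
        exact hx1 (IsPPart.eq hM.1 hpp ((isPPart_one_iff hM.1).2 hd'))
      have hr' : ¬ 2 ∣ orderOf r⁻¹ := by rwa [orderOf_inv]
      have h := block_orthogonality_regular' hM hb.2.1 hsing hr'
      rw [Finset.sum_congr rfl (g := fun χ : IrrCharacter G => (χ : G → ℂ) (x * (v : G)) *
        (χ : G → ℂ) r) fun χ _ => by
          rw [IsCharacter.conj_inv (isCharacter_of_irr χ.2), Complex.conj_conj]] at h
      rw [h, mul_zero]
  refine ⟨c, φ, (isKleinColumn_iff B c).2 ⟨fun χ hχ => ?_, horth⟩,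
    fun y hy => ⟨⟨(hφ y hy).1, ?_⟩, fun χ => hpart χ y hy⟩⟩
  · refine signs_of_sq_sum (Finset.univ.filter (· ∈ B)) ?_ c (fun ψ => deg (ψ : G → ℂ))
      (fun ψ _ => deg_irr_pos ψ) hsq ?_ (Finset.mem_filter.2 ⟨Finset.mem_univ _, hχ⟩)
    · rw [← Fintype.card_subtype, ← Nat.card_eq_fintype_card]; exact hk
    · apply Int.cast_injective (α := ℂ)
      push_cast
      rw [← horth 1 (by unfold IsPRegular; simp)]
      exact Finset.sum_congr rfl fun ψ _ => by rw [irr_apply_one_eq_deg ψ]
  · have e : Nat.card (Subgroup.centralizer ({y} : Set H)) =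
        Nat.card (Subgroup.centralizer ({x * (y : G)} : Set G)) := by
      have hpp : IsPPart 2 (x * (y : G)) x :=
        isPPart_mul (hcomm y y.2) hx (by rw [Subgroup.orderOf_coe]; exact hy)
      have hin : ∀ g ∈ Subgroup.centralizer ({x * (y : G)} : Set G), g ∈ H ∧ Commute g (y : G) := by
        intro g hg
        rw [Subgroup.mem_centralizer_singleton_iff] at hg
        have hconj : IsPPart 2 (x * (y : G)) (g * x * g⁻¹) := by
          refine ⟨g * (y : G) * g⁻¹, ?_, ?_, ?_, ?_⟩
          · calc g * x * g⁻¹ * (g * (y : G) * g⁻¹) = g * (x * (y : G)) * g⁻¹ := by group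
              _ = x * (y : G) := by rw [hg, mul_inv_cancel_right]
          · calc g * x * g⁻¹ * (g * (y : G) * g⁻¹) = g * (x * (y : G)) * g⁻¹ := by group
              _ = g * ((y : G) * x) * g⁻¹ := by rw [(hcomm y y.2).eq]
              _ = g * (y : G) * g⁻¹ * (g * x * g⁻¹) := by group
          · rw [show g * x * g⁻¹ = MulAut.conj g x from rfl, MulEquiv.orderOf_eq]; exact hx
          · rw [show g * (y : G) * g⁻¹ = MulAut.conj g (y : G) from rfl, MulEquiv.orderOf_eq,
              Subgroup.orderOf_coe]; exact hy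
        have hgx : g * x = x * g := mul_inv_eq_iff_eq_mul.1 (IsPPart.eq hM.1 hconj hpp)
        refine ⟨by rw [hH, centralizer_zpowers, Subgroup.mem_centralizer_singleton_iff]; exact hgx, ?_⟩
        show g * (y : G) = (y : G) * g
        refine mul_left_cancel (a := x) ?_
        rw [← mul_assoc, ← hgx, mul_assoc, hg, mul_assoc]
      refine Nat.card_congr
        { toFun := fun g => ⟨g.1.1, Subgroup.mem_centralizer_singleton_iff.2 ?_⟩
          invFun := fun g => ⟨⟨g.1, (hin g.1 g.2).1⟩,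
            Subgroup.mem_centralizer_singleton_iff.2 (Subtype.ext (hin g.1 g.2).2.eq)⟩
          left_inv := fun _ => rfl
          right_inv := fun _ => rfl }
      have h1 : (g.1 : G) * (y : G) = (y : G) * (g.1 : G) :=
        congrArg Subtype.val (Subgroup.mem_centralizer_singleton_iff.1 g.2)
      rw [← mul_assoc, ← (hcomm g.1 g.1.2).eq, mul_assoc, h1, mul_assoc]
    rw [← e]
    exact (hφ y hy).2

/-- The columns at the singular elements lie in the span of the sign vectors. -/
theorem klein_singular {B : Set (IrrCharacter G)} [DecidablePred (· ∈ B)] {P T : Subgroup G}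
    {c : Set (IrrCharacter C⟨P⟩)} (hM : IsPModular 2 M) (hD : IsDefectGroup 2 M B P)
    (hV : IsKleinFour P) (hc : IsBrauerPairOf 2 M B P c) (hT : IsPairStab P c T)
    {g : G} (hg : ¬ IsPRegular 2 g) (Z : IrrCharacter G → ℂ) :
    ((∀ v, IsKleinColumn B v → ∑ χ ∈ Finset.univ.filter (· ∈ B), (v χ : ℂ) * Z χ = 0) →
      ∑ χ ∈ Finset.univ.filter (· ∈ B), (χ : G → ℂ) g * Z χ = 0) ∧
    ((∀ v, IsKleinColumn B v →
        (∑ χ ∈ Finset.univ.filter (· ∈ B), (v χ : ℂ) * Z χ) / 4 ∈ place M) →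
      (∑ χ ∈ Finset.univ.filter (· ∈ B), (χ : G → ℂ) g * Z χ) / 4 ∈ place M ∧
      (∑ χ ∈ Finset.univ.filter (· ∈ B), (χ : G → ℂ) g * Z χ) /
        (Nat.card (Subgroup.centralizer ({g} : Set G)) : ℂ) ∈ place M) := by
  classical
  haveI := Fact.mk hM.1
  obtain ⟨-, -, -, -, hk⟩ := klein_card hM hD hV hc hT
  obtain ⟨x, hx⟩ := exists_isPPart' hM.1 g
  obtain ⟨y, rfl, hxy, hxo, hy⟩ := id hx
  have hx1 : x ≠ 1 := by
    rintro rfl
    rw [one_mul] at hg
    exact hg hy
  letI := Fintype.ofFinite C⟨Subgroup.zpowers x⟩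
  have hyH : y ∈ C⟨Subgroup.zpowers x⟩ := by
    rw [centralizer_zpowers, Subgroup.mem_centralizer_singleton_iff]; exact hxy.symm.eq
  have hy' : IsPRegular 2 (⟨y, hyH⟩ : C⟨Subgroup.zpowers x⟩) := by
    unfold IsPRegular; rwa [Subgroup.orderOf_mk]
  have hex : ∀ b : Set (IrrCharacter C⟨Subgroup.zpowers x⟩), ∃ (v : IrrCharacter G → ℤ) (t : ℂ),
      IsInducedBlock M C⟨Subgroup.zpowers x⟩ b B → IsKleinColumn B v ∧ t ∈ place M ∧
        t * 4 / (Nat.card (Subgroup.centralizer ({x * y} : Set G)) : ℂ) ∈ place M ∧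
        ∀ χ : IrrCharacter G, blockPart b (fun w : C⟨Subgroup.zpowers x⟩ =>
          (χ : G → ℂ) (x * (w : G))) ⟨y, hyH⟩ = (v χ : ℂ) * t := by
    intro b
    by_cases hb : IsInducedBlock M C⟨Subgroup.zpowers x⟩ b B
    · obtain ⟨hxx, hl, hd⟩ := klein_section hM hD hV hc hT hx1 hxo hb
      obtain ⟨v, φ, hv, hφ⟩ := klein_section_column hM hk hxo hxx hx1 rfl hb hl hd
      obtain ⟨⟨h1, h2⟩, h3⟩ := hφ ⟨y, hyH⟩ hy'
      exact ⟨v, φ ⟨y, hyH⟩, fun _ => ⟨hv, h1, h2, h3⟩⟩
    · exact ⟨0, 0, fun h => absurd h hb⟩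
  choose v t hvt using hex
  set S := (blocksFinset M C⟨Subgroup.zpowers x⟩).filter
    (fun b => IsInducedBlock M C⟨Subgroup.zpowers x⟩ b B) with hS
  have hexp : ∑ χ ∈ Finset.univ.filter (· ∈ B), (χ : G → ℂ) (x * y) * Z χ =
      ∑ b ∈ S, t b * ∑ χ ∈ Finset.univ.filter (· ∈ B), (v b χ : ℂ) * Z χ := by
    simp only [Finset.mul_sum]
    rw [Finset.sum_comm]
    refine Finset.sum_congr rfl fun χ hχ => ?_
    have h := apply_mul_eq_sum_blockPart hM hxo rfl hc.2.1 (Finset.mem_filter.1 hχ).2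
      (y := (⟨y, hyH⟩ : C⟨Subgroup.zpowers x⟩)) hy'
    rw [← hS] at h
    rw [h, Finset.sum_mul]
    exact Finset.sum_congr rfl fun b hb => by
      rw [(hvt b (Finset.mem_filter.1 hb).2).2.2.2 χ]; ring
  refine ⟨fun h0 => ?_, fun h4 => ⟨?_, ?_⟩⟩
  · rw [hexp]
    exact Finset.sum_eq_zero fun b hb => by
      rw [h0 _ (hvt b (Finset.mem_filter.1 hb).2).1, mul_zero]
  · rw [hexp, Finset.sum_div]
    refine sum_mem fun b hb => ?_
    obtain ⟨hv, ht, -⟩ := hvt b (Finset.mem_filter.1 hb).2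
    rw [mul_div_assoc]
    exact mul_mem ht (h4 _ hv)
  · rw [hexp, Finset.sum_div]
    refine sum_mem fun b hb => ?_
    obtain ⟨hv, -, ht, -⟩ := hvt b (Finset.mem_filter.1 hb).2
    have h := mul_mem ht (h4 _ hv)
    rwa [show t b * 4 / (Nat.card (Subgroup.centralizer ({x * y} : Set G)) : ℂ) *
      ((∑ χ ∈ Finset.univ.filter (· ∈ B), (v b χ : ℂ) * Z χ) / 4) =
      t b * (∑ χ ∈ Finset.univ.filter (· ∈ B), (v b χ : ℂ) * Z χ) /
        (Nat.card (Subgroup.centralizer ({x * y} : Set G)) : ℂ) by field_simp] at h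

/-- There is a column. -/
theorem exists_kleinColumn {B : Set (IrrCharacter G)} {P T : Subgroup G}
    {c : Set (IrrCharacter C⟨P⟩)} (hM : IsPModular 2 M) (hD : IsDefectGroup 2 M B P)
    (hV : IsKleinFour P) (hc : IsBrauerPairOf 2 M B P c) (hT : IsPairStab P c T) :
    ∃ v, IsKleinColumn B v := by
  classical
  haveI := Fact.mk hM.1
  have hab := klein_abelian hV
  obtain ⟨-, -, -, -, hk⟩ := klein_card hM hD hV hc hT
  obtain ⟨y, hy, hy1⟩ : ∃ y ∈ P, y ≠ 1 := by
    haveI : Nontrivial P := Finite.one_lt_card_iff_nontrivial.1 (by rw [hV.card_four]; norm_num)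
    obtain ⟨y, hy⟩ := exists_ne (1 : P)
    exact ⟨y, y.2, fun h => hy (Subtype.ext h)⟩
  obtain ⟨f, hf⟩ := exists_below hM hc.1 hab hy
  letI := Fintype.ofFinite C⟨Subgroup.zpowers y⟩
  obtain ⟨hl, hd⟩ := klein_below hM hD hV hc hT hy hy1 hf
  have hind := ((isBrauerPairOf_iff hM B _ f).1 (hf.pair hM hc hab hy)).2
  obtain ⟨v, -, hv, -⟩ := klein_section_column hM hk
    (exists_orderOf_eq_of_mem hM.1 (IsDefectGroup.isPGroup hD) hy) (klein_square hV y hy) hy1
    rfl hind hl hd
  exact ⟨v, hv⟩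

end Cfsg.Lib.Blocks
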