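import Mathlib
import Cfsg.Agent.Blocks.GlaubermanApi
import Cfsg.Agent.Chars.Gallagher
import Cfsg.Agent.Chars.Galois
import Cfsg.Agent.Chars.FixedClasses

/-!
# The correspondence of invariant characters for a cyclic coprime group of operators

`G` is normal in `Γ`, `s` has order prime to the order of `G`, `Γ` is generated by `G` and `s`
and `C` is the centraliser of `s` in `G`. The canonical extension of an invariant character,
read on the coset of `s`, is up to sign an irreducible character of `C`.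
-/

set_option autoImplicit false
set_option linter.unusedSectionVars false

namespace Cfsg.Lib.CyclicGlauberman

open Cfsg.Lib.Chars Cfsg.Lib.Coprime Subgroup
open scoped ComplexConjugate

universe u

variable {Γ : Type u} [Group Γ]

/-- `s` has order prime to that of `G` and `C` is its centraliser in `G`. -/
structure CoFix (G C : Subgroup Γ) (s : Γ) : Prop where
  cop : (Nat.card G).Coprime (orderOf s)
  hC : C = G ⊓ centralizer (zpowers s : Set Γ)

/-- The data: `Γ = G⟨s⟩` with coprime orders and `C` the centraliser of `s` in `G`. -/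
structure CoCyc (G C : Subgroup Γ) (s : Γ) : Prop extends CoFix G C s where
  gen : G ⊔ zpowers s = ⊤

variable [Fintype Γ] {G C : Subgroup Γ} {s : Γ}

/-- The powers of `d * s` lie in the cosets `D * s ^ j`. -/
lemma pow_mul_mem {D : Subgroup Γ} (hDs : zpowers s ≤ normalizer (D : Set Γ)) {d : Γ} (hd : d ∈ D)
    (j : ℕ) : (d * s) ^ j * (s ^ j)⁻¹ ∈ D := by
  induction j with
  | zero => simp
  | succ j ih =>
    have h1 : s ^ j * d * (s ^ j)⁻¹ ∈ D :=
      (mem_normalizer_iff.1 (hDs (pow_mem (mem_zpowers s) j)) d).1 hd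
    have h2 := mul_mem ih h1
    convert h2 using 1
    rw [pow_succ, pow_succ]
    group

namespace CoFix

variable (h : CoFix G C s)

include h

lemma mem_C {c : Γ} : c ∈ C ↔ c ∈ G ∧ c * s = s * c := by
  rw [h.hC, mem_inf]
  refine and_congr_right fun _ => ⟨fun hc => (mem_centralizer_iff.1 hc s (mem_zpowers s)).symm,
    fun hc => ?_⟩
  rw [mem_centralizer_iff]
  rintro x ⟨i, rfl⟩
  exact ((show Commute c s from hc).zpow_right i).symm.eq

lemma C_le : C ≤ G := fun c hc => (h.mem_C.1 hc).1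

lemma comm (c : C) : Commute (c : Γ) s := (h.mem_C.1 c.2).2

lemma exists_exp : ∃ e : ℕ, Nat.card G ∣ e ∧ s ^ e = s := by
  obtain ⟨e, he1, he2⟩ := Nat.chineseRemainder h.cop 0 1
  refine ⟨e, Nat.modEq_zero_iff_dvd.1 he1, ?_⟩
  conv_rhs => rw [← pow_one s]
  exact pow_eq_pow_iff_modEq.2 he2

lemma pow_card_eq_one {g : Γ} (hg : g ∈ G) {e : ℕ} (he : Nat.card G ∣ e) : g ^ e = 1 :=
  orderOf_dvd_iff_pow_eq_one.1 ((G.orderOf_dvd_natCard hg).trans he)

/-- Every element of the coset `D * s` is `D`-conjugate to one commuting with `s`. -/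
lemma exists_conj_fix {D : Subgroup Γ} (hDG : D ≤ G)
    (hDs : zpowers s ≤ normalizer (D : Set Γ)) {d : Γ} (hd : d ∈ D) :
    ∃ k ∈ D, ∃ c ∈ D, c * s = s * c ∧ k * (d * s) * k⁻¹ = c * s := by
  obtain ⟨e, hen, hes⟩ := h.exists_exp
  have hze : (d * s) ^ e * s⁻¹ ∈ D := by
    have := pow_mul_mem hDs hd e
    rwa [hes] at this
  have hzm : (d * s) ^ orderOf s ∈ D := by
    have := pow_mul_mem hDs hd (orderOf s)
    rwa [pow_orderOf_eq_one, inv_one, mul_one] at this
  have hord : orderOf ((d * s) ^ e) ∣ orderOf s := by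
    refine orderOf_dvd_of_pow_eq_one ?_
    rw [← pow_mul, mul_comm, pow_mul]
    exact h.pow_card_eq_one (hDG hzm) hen
  have hcopD : (Nat.card D).Coprime (orderOf s) :=
    h.cop.coprime_dvd_left (card_dvd_of_le hDG)
  have hle : zpowers ((d * s) ^ e) ≤ D ⊔ zpowers s := by
    rw [zpowers_le, show (d * s) ^ e = ((d * s) ^ e * s⁻¹) * s by group]
    exact mul_mem (mem_sup_left hze) (mem_sup_right (mem_zpowers s))
  have hsol : Group.IsSolvable (zpowers ((d * s) ^ e)) := by infer_instance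
  obtain ⟨k, hk, hconj⟩ := exists_conj_le_of_coprime (N := D) (H := zpowers s) hDs
    (by rwa [Nat.card_zpowers]) (Or.inr hsol) hle
    (by rw [Nat.card_zpowers]; exact hcopD.coprime_dvd_right hord)
  have hks : s * k * s⁻¹ ∈ D := (mem_normalizer_iff.1 (hDs (mem_zpowers s)) k).1 hk
  have heq : k⁻¹ * (d * s) ^ e * k = s := by
    refine mul_inv_eq_one.1 (eq_one_of_coprime (N := D) (H := zpowers s) (by rwa [Nat.card_zpowers])
      ?_ (mul_mem (mem_conjMap.1 (hconj (mem_zpowers _))) (inv_mem (mem_zpowers s))))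
    rw [show k⁻¹ * (d * s) ^ e * k * s⁻¹ = k⁻¹ * ((d * s) ^ e * s⁻¹) * (s * k * s⁻¹) by group]
    exact mul_mem (mul_mem (inv_mem hk) hze) hks
  have hy : Commute (k⁻¹ * (d * s) * k) s := by
    have h1 : (k⁻¹ * (d * s) * k) ^ e = s := by
      rw [show k⁻¹ * (d * s) * k = k⁻¹ * (d * s) * (k⁻¹)⁻¹ by rw [inv_inv], conj_pow, inv_inv, heq]
    have := (Commute.refl (k⁻¹ * (d * s) * k)).pow_right e
    rwa [h1] at this
  refine ⟨k⁻¹, inv_mem hk, k⁻¹ * (d * s) * k * s⁻¹, ?_, ?_, by group⟩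
  · rw [show k⁻¹ * (d * s) * k * s⁻¹ = k⁻¹ * d * (s * k * s⁻¹) by group]
    exact mul_mem (mul_mem (inv_mem hk) hd) hks
  · exact (hy.mul_left (Commute.refl s).inv_left).eq

/-- Conjugation between the elements `c * s`. -/
lemma conj_mem_C {x : Γ} (hx : x ∈ G) {c c' : C} (hxc : x * (c * s) * x⁻¹ = c' * s) :
    x ∈ C ∧ x * c * x⁻¹ = c' := by
  obtain ⟨e, hen, hes⟩ := h.exists_exp
  have key : ∀ a : C, ((a : Γ) * s) ^ e = s := fun a => by
    rw [(h.comm a).mul_pow, h.pow_card_eq_one (h.C_le a.2) hen, one_mul, hes]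
  have hxs : x * s = s * x := by
    have h1 := congrArg (· ^ e) hxc
    simp only [conj_pow, key] at h1
    exact mul_inv_eq_iff_eq_mul.1 h1
  refine ⟨h.mem_C.2 ⟨hx, hxs⟩, ?_⟩
  have h2 : x * (c * s) * x⁻¹ = x * c * x⁻¹ * s := by
    rw [show x * c * x⁻¹ * s = x * c * (x⁻¹ * s) by group,
      ((show Commute x s from hxs).inv_left).eq]
    group
  exact mul_right_cancel (h2.symm.trans hxc)

variable [G.Normal]

/-- Elements of `C` conjugate in `G` are conjugate in `C`. -/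
lemma isConj_C {c c' : C} {x : Γ} (hx : x ∈ G) (hxc : x * c * x⁻¹ = c') : IsConj c c' := by
  let D := G ⊓ centralizer ({(c : Γ)} : Set Γ)
  have hD : ∀ {a : Γ}, a ∈ D ↔ a ∈ G ∧ a * c = c * a := fun {a} =>
    mem_inf.trans (and_congr_right fun _ => mem_centralizer_singleton_iff)
  have hDs : zpowers s ≤ normalizer (D : Set Γ) := by
    refine le_normalizer_inf le_normalizer_of_normal ((zpowers_le).2 ?_ |>.trans le_normalizer)
    exact mem_centralizer_singleton_iff.2 (h.comm c).symm.eq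
  have hu : x⁻¹ * (s * x * s⁻¹) ∈ D := by
    refine hD.2 ⟨mul_mem (inv_mem hx) (‹G.Normal›.conj_mem x hx s), ?_⟩
    have h1 : s * x * s⁻¹ * c * (s * x * s⁻¹)⁻¹ = c' := by
      have hc : s⁻¹ * (c : Γ) * s = c := by rw [mul_assoc, (h.comm c).eq, inv_mul_cancel_left]
      have hc' : s * (c' : Γ) * s⁻¹ = c' := by rw [← (h.comm c').eq, mul_inv_cancel_right]
      calc s * x * s⁻¹ * c * (s * x * s⁻¹)⁻¹ = s * (x * (s⁻¹ * c * s) * x⁻¹) * s⁻¹ := by group
        _ = c' := by rw [hc, hxc, hc']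
    calc x⁻¹ * (s * x * s⁻¹) * c
        = x⁻¹ * (s * x * s⁻¹ * c * (s * x * s⁻¹)⁻¹) * (s * x * s⁻¹) := by group
      _ = c * (x⁻¹ * (s * x * s⁻¹)) := by rw [h1, ← hxc]; group
  obtain ⟨k, hk, a, ha, has, hka⟩ := h.exists_conj_fix inf_le_left hDs hu
  obtain ⟨e, hen, hes⟩ := h.exists_exp
  rw [show x⁻¹ * (s * x * s⁻¹) * s = x⁻¹ * s * x by group] at hka
  have h2 : (k * x⁻¹) * s * (k * x⁻¹)⁻¹ = s := by
    have h3 := congrArg (· ^ e) hka
    rw [conj_pow, (show Commute a s from has).mul_pow, h.pow_card_eq_one (inf_le_left (b :=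
      centralizer ({(c : Γ)} : Set Γ)) ha) hen, one_mul,
      show (x⁻¹ * s * x) ^ e = x⁻¹ * s ^ e * x by
        rw [show x⁻¹ * s * x = x⁻¹ * s * (x⁻¹)⁻¹ by rw [inv_inv], conj_pow, inv_inv], hes] at h3
    exact Eq.trans (by group) h3
  have hy : x * k⁻¹ ∈ C := by
    refine h.mem_C.2 ⟨mul_mem hx (inv_mem (hD.1 hk).1), ?_⟩
    have h3 := mul_inv_eq_iff_eq_mul.1 h2
    calc x * k⁻¹ * s = x * k⁻¹ * (s * (k * x⁻¹)) * (x * k⁻¹) := by group
      _ = s * (x * k⁻¹) := by rw [← h3]; group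
  refine isConj_iff.2 ⟨⟨_, hy⟩, Subtype.ext ?_⟩
  have hk' : k⁻¹ * c * k = c := by rw [mul_assoc, ← (hD.1 hk).2, inv_mul_cancel_left]
  calc x * k⁻¹ * c * (x * k⁻¹)⁻¹ = x * (k⁻¹ * c * k) * x⁻¹ := by group
    _ = c' := by rw [hk', hxc]

/-- The mean over the coset of `s` is the mean over `C`. -/
lemma sum_coset [Fintype G] [Fintype C] {f : Γ → ℂ} (hf : Cfsg.IsClassFunction Γ f) :
    (Nat.card G : ℂ)⁻¹ * ∑ g : G, f (g * s) = (Nat.card C : ℂ)⁻¹ * ∑ c : C, f (c * s) := by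
  classical
  let φ : G × C → G := fun q =>
    ⟨(q.1 : Γ) * q.2 * (s * (q.1 : Γ)⁻¹ * s⁻¹), mul_mem (mul_mem q.1.2 (h.C_le q.2.2))
      (‹G.Normal›.conj_mem _ (inv_mem q.1.2) s)⟩
  have hφs : ∀ q : G × C, ((φ q : G) : Γ) * s = (q.1 : Γ) * ((q.2 : Γ) * s) * (q.1 : Γ)⁻¹ := by
    intro q
    show (q.1 : Γ) * q.2 * (s * (q.1 : Γ)⁻¹ * s⁻¹) * s = _
    group
  have hf' : ∀ q : G × C, f ((φ q : Γ) * s) = f ((q.2 : Γ) * s) := fun q => by rw [hφs]; exact hf _ _
  have hfib : ∀ g : G, (Finset.univ.filter fun q => φ q = g).card = Fintype.card C := by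
    intro g
    have hnorm : zpowers s ≤ normalizer (G : Set Γ) := le_normalizer_of_normal
    obtain ⟨k, hk, c, hc, hcs, hkc⟩ := h.exists_conj_fix le_rfl hnorm g.2
    let q₀ : G × C := (⟨k⁻¹, inv_mem hk⟩, ⟨c, h.mem_C.2 ⟨hc, hcs⟩⟩)
    have hq₀ : φ q₀ = g := by
      refine Subtype.ext (mul_right_cancel (b := s) ?_)
      rw [hφs]
      show k⁻¹ * (c * s) * k⁻¹⁻¹ = _
      rw [← hkc]; group
    rw [← Finset.card_univ]
    symm
    refine Finset.card_bij (fun (u : C) _ => ((⟨k⁻¹ * (u : Γ)⁻¹, mul_mem (inv_mem hk)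
      (inv_mem (h.C_le u.2))⟩ : G), u * q₀.2 * u⁻¹)) ?_ ?_ ?_
    · intro u _
      rw [Finset.mem_filter]
      refine ⟨Finset.mem_univ _, hq₀ ▸ Subtype.ext (mul_right_cancel (b := s) ?_)⟩
      rw [hφs, hφs]
      show k⁻¹ * (u : Γ)⁻¹ * ((u : Γ) * c * (u : Γ)⁻¹ * s) * (k⁻¹ * (u : Γ)⁻¹)⁻¹ =
        k⁻¹ * (c * s) * k⁻¹⁻¹
      rw [show (u : Γ) * c * (u : Γ)⁻¹ * s = u * c * ((u : Γ)⁻¹ * s) by group,
        (h.comm u).inv_left.eq]
      group
    · intro u _ v _ huv
      have := congrArg (fun q : G × C => (q.1 : Γ)) huv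
      exact Subtype.ext (inv_injective (mul_left_cancel this))
    · intro q hq
      rw [Finset.mem_filter] at hq
      have h1 : (q.1 : Γ) * ((q.2 : Γ) * s) * (q.1 : Γ)⁻¹ = k⁻¹ * (c * s) * k⁻¹⁻¹ := by
        rw [← hφs, hq.2, ← hq₀, hφs]
      have h2 : ((q.1 : Γ)⁻¹ * k⁻¹) * ((q₀.2 : Γ) * s) * ((q.1 : Γ)⁻¹ * k⁻¹)⁻¹ = (q.2 : Γ) * s := by
        calc ((q.1 : Γ)⁻¹ * k⁻¹) * (c * s) * ((q.1 : Γ)⁻¹ * k⁻¹)⁻¹
            = (q.1 : Γ)⁻¹ * (k⁻¹ * (c * s) * k⁻¹⁻¹) * q.1 := by group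
          _ = (q.2 : Γ) * s := by rw [← h1]; group
      obtain ⟨hu, huc⟩ := h.conj_mem_C (mul_mem (inv_mem q.1.2) (inv_mem hk)) h2
      refine ⟨⟨_, hu⟩, Finset.mem_univ _, Prod.ext (Subtype.ext ?_) (Subtype.ext ?_)⟩
      · show k⁻¹ * ((q.1 : Γ)⁻¹ * k⁻¹)⁻¹ = q.1
        group
      · exact huc
  have hsum : ∑ q : G × C, f ((φ q : Γ) * s) =
      (Fintype.card C : ℂ) * ∑ g : G, f ((g : Γ) * s) := by
    rw [← Finset.sum_fiberwise (Finset.univ : Finset (G × C)) φ, Finset.mul_sum]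
    refine Finset.sum_congr rfl fun g _ => ?_
    rw [Finset.sum_congr rfl fun q hq => by rw [(Finset.mem_filter.1 hq).2], Finset.sum_const,
      hfib g, nsmul_eq_mul]
  rw [Fintype.sum_prod_type] at hsum
  simp only [hf', Finset.sum_const, Finset.card_univ, nsmul_eq_mul] at hsum
  have hG : (Fintype.card G : ℂ) ≠ 0 := Nat.cast_ne_zero.2 Fintype.card_ne_zero
  have hC' : (Fintype.card C : ℂ) ≠ 0 := Nat.cast_ne_zero.2 Fintype.card_ne_zero
  rw [Nat.card_eq_fintype_card, Nat.card_eq_fintype_card]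
  field_simp
  linear_combination -hsum

end CoFix

namespace CoCyc

variable (h : CoCyc G C s) [G.Normal]

include h

/-- The index of `G`. -/
lemma index_eq : G.index = orderOf s := by
  rw [← relIndex_top_right, ← h.gen, sup_comm, relIndex_sup_right, ← inf_relIndex_right,
    Cfsg.Lib.Coprime.inf_eq_bot_of_coprime (by rw [Nat.card_zpowers]; exact h.cop),
    relIndex_bot_left,
    Nat.card_zpowers]

lemma exists_decomp_elt (γ : Γ) : ∃ g ∈ G, ∃ i : ℕ, γ = g * s ^ i := by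
  obtain ⟨g, hg, y, hy, rfl⟩ := mem_sup_of_normal_left.1 (h.gen ▸ mem_top γ : γ ∈ G ⊔ zpowers s)
  classical
  obtain ⟨i, -, rfl⟩ := Finset.mem_image.1
    ((isOfFinOrder_of_finite s).mem_zpowers_iff_mem_range_orderOf.1 hy)
  exact ⟨g, hg, i, rfl⟩

/-- The linear character of `Γ/G` faithful on `s`. -/
lemma exists_lam : ∃ lam : Γ →* ℂˣ, (∀ γ, lam γ = 1 ↔ γ ∈ G) ∧ lam ^ orderOf s = 1 ∧
    (lam s : ℂ) = zetaC (orderOf s) := by
  haveI : NeZero (orderOf s) := ⟨(orderOf_pos s).ne'⟩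
  have hgen : ∀ x : Γ ⧸ G, x ∈ zpowers (QuotientGroup.mk s : Γ ⧸ G) := fun x => by
    obtain ⟨γ, rfl⟩ := QuotientGroup.mk_surjective x
    obtain ⟨g, hg, i, rfl⟩ := h.exists_decomp_elt γ
    rw [QuotientGroup.mk_mul, (QuotientGroup.eq_one_iff g).2 hg, one_mul, QuotientGroup.mk_pow]
    exact pow_mem (mem_zpowers _) i
  have hord : orderOf (QuotientGroup.mk s : Γ ⧸ G) = orderOf s := by
    rw [orderOf_eq_card_of_forall_mem_zpowers hgen, ← Subgroup.index_eq_card, h.index_eq]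
  obtain ⟨u, hu⟩ : IsUnit (zetaC (orderOf s)) :=
    (isPrimitiveRoot_zetaC (orderOf s)).isUnit (orderOf_pos s).ne'
  have huo : orderOf u = orderOf s := by
    rw [← orderOf_units, hu]
    exact (isPrimitiveRoot_zetaC (orderOf s)).eq_orderOf.symm
  have hdvd : orderOf u ∣ orderOf (QuotientGroup.mk s : Γ ⧸ G) := by rw [huo, hord]
  let lam := (monoidHomOfForallMemZpowers hgen hdvd).comp (QuotientGroup.mk' G)
  have hls : lam s = u := monoidHomOfForallMemZpowers_apply_gen hgen hdvd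
  have hlG : ∀ g ∈ G, lam g = 1 := fun g hg => by
    show monoidHomOfForallMemZpowers hgen hdvd (QuotientGroup.mk g) = 1
    rw [(QuotientGroup.eq_one_iff g).2 hg, map_one]
  refine ⟨lam, fun γ => ⟨fun hγ => ?_, hlG γ⟩, MonoidHom.ext fun γ => ?_, by rw [hls, hu]⟩
  · obtain ⟨g, hg, i, rfl⟩ := h.exists_decomp_elt γ
    rw [map_mul, map_pow, hlG g hg, one_mul, hls, ← orderOf_dvd_iff_pow_eq_one, huo,
      orderOf_dvd_iff_pow_eq_one] at hγ
    rw [hγ, mul_one]
    exact hg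
  · obtain ⟨g, hg, i, rfl⟩ := h.exists_decomp_elt γ
    rw [MonoidHom.pow_apply, MonoidHom.one_apply, map_mul, map_pow, hlG g hg, one_mul, hls,
      ← pow_mul, mul_comm, pow_mul, ← huo, pow_orderOf_eq_one, one_pow]

omit h in
lemma geom_indicator {m : ℕ} {w : ℂ} (hw : w ^ m = 1) :
    ∑ j ∈ Finset.range m, w ^ j = if w = 1 then (m : ℂ) else 0 := by
  split
  · next hw1 => simp [hw1]
  · next hw1 => rw [geom_sum_eq hw1, hw, sub_self, zero_div]

/-- Twisted orthogonality of extensions on the coset of `s`. -/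
lemma orth [Fintype G] [Fintype C] {χ χ' : G → ℂ} (hχ : Cfsg.IsIrrCharacter G χ)
    {χh χh' : Γ → ℂ} (hχh : Cfsg.IsIrrCharacter Γ χh) (hχh' : Cfsg.IsIrrCharacter Γ χh')
    (hres : ∀ g : G, χh g = χ g) (hres' : ∀ g : G, χh' g = χ' g) :
    (χ ≠ χ' → classInner (fun c : C => χh (c * s)) (fun c : C => χh' (c * s)) = 0) ∧
      classInner (fun c : C => χh (c * s)) (fun c : C => χh (c * s)) = 1 ∧
      ∀ δ : Γ, (Nat.card G : ℂ)⁻¹ * ∑ g : G, χh (g * δ) * conj (χh (g * δ)) = 1 := by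
  classical
  obtain ⟨lam, hker, hlm, hls⟩ := h.exists_lam
  have hm0 : (orderOf s : ℂ) ≠ 0 := Nat.cast_ne_zero.2 (orderOf_pos s).ne'
  have hζ0 : zetaC (orderOf s) ≠ 0 := by rw [← hls]; exact Units.ne_zero _
  have hcard : (Nat.card Γ : ℂ) = Nat.card G * orderOf s := by
    rw [← h.index_eq, ← Nat.cast_mul, card_mul_index]
  have hind : ∀ γ : Γ, ∑ j ∈ Finset.range (orderOf s), ((lam γ : ℂ)) ^ j =
      if γ ∈ G then (orderOf s : ℂ) else 0 := fun γ => by
    rw [geom_indicator (by rw [← Units.val_pow_eq_pow_val, ← MonoidHom.pow_apply, hlm]; rfl)]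
    simp only [Units.val_eq_one, hker]
  have hcl : ∀ {a b : Γ → ℂ}, Cfsg.IsIrrCharacter Γ a → Cfsg.IsIrrCharacter Γ b →
      Cfsg.IsClassFunction Γ fun γ => a γ * conj (b γ) := fun ha hb x y => by
    simp only [isClassFunction_isChar (isCharacter_of_irr ha) x y,
      isClassFunction_isChar (isCharacter_of_irr hb) x y]
  let tw (j : ℕ) (a : Γ → ℂ) : Γ → ℂ := (fun γ => ((lam ^ j) γ : ℂ)) * a
  have htw : ∀ j {a : Γ → ℂ}, Cfsg.IsIrrCharacter Γ a → Cfsg.IsIrrCharacter Γ (tw j a) :=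
    fun j a ha => IsIrrCharacter.mul_linear ha _
  have hsum : ∀ (δ : Γ) (a b : Γ → ℂ),
      ∑ j ∈ Finset.range (orderOf s), ((lam δ : ℂ))⁻¹ ^ j * classInner (tw j a) b =
        (Nat.card G : ℂ)⁻¹ * ∑ g : G, a (g * δ) * conj (b (g * δ)) := by
    intro δ a b
    have h1 : ∀ j γ, ((lam δ : ℂ))⁻¹ ^ j * (tw j a γ * conj (b γ)) =
        (lam (γ * δ⁻¹) : ℂ) ^ j * (a γ * conj (b γ)) := fun j γ => by
      simp only [tw, Pi.mul_apply, MonoidHom.pow_apply, Units.val_pow_eq_pow_val, map_mul, map_inv,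
        Units.val_mul, Units.val_inv_eq_inv_val, mul_pow]
      ring
    simp only [classInner_def, mul_left_comm _ ((Nat.card Γ : ℂ))⁻¹, ← Finset.mul_sum]
    simp only [Finset.mul_sum _ _ (((lam δ : ℂ))⁻¹ ^ _), h1]
    rw [Finset.sum_comm]
    simp only [← Finset.sum_mul, hind]
    rw [← Equiv.sum_comp (Equiv.mulRight δ)]
    simp only [Equiv.coe_mulRight, mul_inv_cancel_right, ite_mul, zero_mul]
    rw [← Finset.sum_filter, Finset.sum_subtype (p := fun γ => γ ∈ G) _ (fun γ => by simp),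
      ← Finset.mul_sum, hcard]
    field_simp
  have hfC : ∀ {a b : Γ → ℂ}, Cfsg.IsIrrCharacter Γ a → Cfsg.IsIrrCharacter Γ b →
      classInner (fun c : C => a (c * s)) (fun c : C => b (c * s)) =
        ∑ j ∈ Finset.range (orderOf s), ((lam s : ℂ))⁻¹ ^ j * classInner (tw j a) b := by
    intro a b ha hb
    rw [hsum, classInner_def]
    exact (h.sum_coset (hcl ha hb)).symm
  refine ⟨fun hne => ?_, ?_⟩
  · rw [hfC hχh hχh']
    refine Finset.sum_eq_zero fun j _ => ?_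
    rw [classInner_irrChar (htw j hχh) hχh', if_neg fun he => hne (funext fun g => ?_), mul_zero]
    have := congrFun he g
    simp only [tw, Pi.mul_apply, MonoidHom.pow_apply, (hker g).2 g.2, one_pow, Units.val_one,
      one_mul, hres, hres'] at this
    exact this
  · choose k hk using fun j =>
      classInner_char_nat (isCharacter_of_irr (htw j hχh)) (isCharacter_of_irr hχh)
    have h1 : ∑ j ∈ Finset.range (orderOf s), k j = 1 := by
      apply Nat.cast_injective (R := ℂ)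
      push_cast
      have h2 := hsum 1 χh χh
      simp only [map_one, Units.val_one, inv_one, one_pow, one_mul, hk, mul_one, hres] at h2
      rw [h2, ← classInner_def, classInner_self_irr hχ]
    have h0 : k 0 = 1 := by
      apply Nat.cast_injective (R := ℂ)
      have htw0 : tw 0 χh = χh := funext fun γ => by simp [tw]
      rw [← hk, htw0, classInner_self_irr hχh, Nat.cast_one]
    have hmem : 0 ∈ Finset.range (orderOf s) := Finset.mem_range.2 (orderOf_pos s)
    have hz : ∀ j ∈ Finset.range (orderOf s), j ≠ 0 → k j = 0 := fun j hj hj0 => by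
      have h3 := Finset.add_le_sum (f := k) (fun _ _ => Nat.zero_le _) hmem hj hj0.symm
      omega
    have hall : ∀ δ : Γ,
        ∑ j ∈ Finset.range (orderOf s), ((lam δ : ℂ))⁻¹ ^ j * classInner (tw j χh) χh = 1 := fun δ => by
      rw [Finset.sum_eq_single_of_mem 0 hmem fun j hj hj0 => by
        rw [hk, hz j hj hj0, Nat.cast_zero, mul_zero]]
      rw [hk, h0, pow_zero, one_mul, Nat.cast_one]
    exact ⟨by rw [hfC hχh hχh, hall], fun δ => by rw [← hsum, hall]⟩

end CoCyc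

omit [Fintype Γ] in
/-- The determinantal order is invariant under field automorphisms. -/
lemma detOrder_map_auto [Finite Γ] {χ : Γ → ℂ} (hχ : Cfsg.IsCharacter Γ χ) (σ : ℂ ≃+* ℂ) :
    Cfsg.detOrder (fun g => σ (χ g)) = Cfsg.detOrder χ := by
  obtain ⟨n, ρ, rfl⟩ := hχ
  let M : Γ →* Matrix (Fin n) (Fin n) ℂ :=
    (σ.toRingHom.mapMatrix.toMonoidHom).comp
      ((LinearMap.toMatrixAlgEquiv' (R := ℂ) (n := Fin n)).toAlgHom.toMonoidHom.comp ρ)
  let ρ' : Representation ℂ Γ (Fin n → ℂ) :=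
    ((Matrix.toLinAlgEquiv' (R := ℂ) (n := Fin n)).toAlgHom.toMonoidHom).comp M
  have h2 : ∀ g, LinearMap.toMatrix' (ρ' g) = (LinearMap.toMatrix' (ρ g)).map σ := fun g => by
    show LinearMap.toMatrix' (Matrix.toLinAlgEquiv' ((LinearMap.toMatrix' (ρ g)).map σ)) = _
    exact LinearMap.toMatrix'_toLin' _
  have h1 : (fun g => σ (ρ.character g)) = ρ'.character := funext fun g => by
    have ht : ∀ T : (Fin n → ℂ) →ₗ[ℂ] (Fin n → ℂ),
        LinearMap.trace ℂ _ T = (LinearMap.toMatrix' T).trace := fun T => by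
      rw [LinearMap.trace_eq_matrix_trace ℂ (Pi.basisFun ℂ (Fin n))]
      rw [LinearMap.toMatrix_eq_toMatrix']
    show σ (LinearMap.trace ℂ _ (ρ g)) = LinearMap.trace ℂ _ (ρ' g)
    rw [ht, ht, h2]
    simp [Matrix.trace, map_sum]
  have h3 : Cfsg.detChar ρ'.character = fun g => σ (Cfsg.detChar ρ.character g) := funext fun g => by
    rw [detChar_character ρ' g, detChar_character ρ g, ← LinearMap.det_toMatrix',
      ← LinearMap.det_toMatrix', h2]
    exact (σ.toRingHom.map_det _).symm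
  rw [h1, Cfsg.detOrder, Cfsg.detOrder, h3]
  exact orderOf_injective (σ.toRingHom.toMonoidHom.compLeft Γ)
    (fun a b hab => funext fun g => σ.injective (congrFun hab g)) _

omit [Fintype Γ] in
/-- The determinantal order divides the group order. -/
lemma detOrder_dvd_card [Finite Γ] {χ : Γ → ℂ} (hχ : Cfsg.IsCharacter Γ χ) :
    Cfsg.detOrder χ ∣ Nat.card Γ := by
  obtain ⟨f, hf⟩ := detChar_is_hom hχ
  rw [Cfsg.detOrder, hf]
  refine orderOf_dvd_of_pow_eq_one (funext fun g => ?_)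
  rw [Pi.pow_apply, ← Units.val_pow_eq_pow_val, ← map_pow, pow_card_eq_one', map_one]
  rfl

/-- A class function of norm one with integral coefficients is a signed irreducible character. -/
lemma exists_sign_of_norm_one {H : Type u} [Group H] [Fintype H] {f : H → ℂ}
    (hf : Cfsg.IsClassFunction H f) (hnorm : classInner f f = 1)
    (hint : ∀ β : IrrCharacter H, ∃ z : ℤ, classInner f (β : H → ℂ) = z) :
    ∃ (β : IrrCharacter H) (ε : ℤ), (ε = 1 ∨ ε = -1) ∧
      ∀ h, f h = (ε : ℂ) * (β : H → ℂ) h := by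
  classical
  choose z hz using hint
  have hexp := classFunction_expand hf
  simp only [hz] at hexp
  rw [hexp, classInner_self_decomp] at hnorm
  have h1 : ∑ β, z β * z β = 1 := by
    apply Int.cast_injective (α := ℂ)
    rw [Int.cast_sum, Int.cast_one, ← hnorm]
    exact Finset.sum_congr rfl fun β _ => by rw [Int.cast_mul, map_intCast]
  obtain ⟨β, -, hβ⟩ : ∃ β ∈ Finset.univ, z β * z β ≠ 0 :=
    Finset.exists_ne_zero_of_sum_ne_zero (by rw [h1]; exact one_ne_zero)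
  have hpos : ∀ γ, 0 ≤ z γ * z γ := fun γ => mul_self_nonneg _
  have hle := Finset.single_le_sum (f := fun γ => z γ * z γ) (fun γ _ => hpos γ) (Finset.mem_univ β)
  have hβ1 : z β * z β = 1 := le_antisymm (h1 ▸ hle) (lt_of_le_of_ne (hpos β) (Ne.symm hβ))
  have hzero : ∀ γ, γ ≠ β → z γ = 0 := fun γ hne => by
    have h2 := Finset.add_le_sum (f := fun γ => z γ * z γ) (fun γ _ => hpos γ) (Finset.mem_univ β)
      (Finset.mem_univ γ) hne.symm
    have h3 := hpos γ
    exact mul_self_eq_zero.1 (by linarith)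
  refine ⟨β, z β, mul_self_eq_one_iff.1 hβ1, fun x => ?_⟩
  rw [hexp, Finset.sum_apply, Finset.sum_eq_single β]
  · rfl
  · intro γ _ hne
    simp [hzero γ hne]
  · simp

namespace CoCyc

variable (h : CoCyc G C s) [G.Normal] [Fintype G] [Fintype C]

include h

/-- The coefficients on a coset are sums of roots of unity. -/
lemma exists_roots {χh : Γ → ℂ} (hχh : Cfsg.IsCharacter Γ χh) (β : IrrCharacter C) :
    ∃ (ι : Type u) (_ : Fintype ι) (n : ι → ℕ) (z : ι → ℂ), (∀ i, z i ^ orderOf s = 1) ∧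
      ∀ j : ℕ, classInner (fun c : C => χh (c * s ^ j)) (β : C → ℂ) =
        ∑ i, (n i : ℂ) * z i ^ j := by
  classical
  have hcomm : ∀ (c : C) (t : zpowers s), Commute (C.subtype c) ((zpowers s).subtype t) := by
    rintro c ⟨_, i, rfl⟩
    exact (h.comm c).zpow_right i
  let π : C × zpowers s →* Γ := C.subtype.noncommCoprod (zpowers s).subtype hcomm
  obtain ⟨mu, hmu⟩ := IsCharacter.exists_decomp (IsCharacter.comp_hom hχh π)
  let z₀ : C × zpowers s := (1, ⟨s, mem_zpowers s⟩)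
  have hsch : ∀ ψ : IrrCharacter (C × zpowers s), ∃ w : ℂ, w ^ orderOf s = 1 ∧ ∀ x j,
      (ψ : C × zpowers s → ℂ) (x * z₀ ^ j) = w ^ j * (ψ : C × zpowers s → ℂ) x := by
    rintro ⟨_, d, ρ, hρ, rfl⟩
    have hz : ∀ x, z₀ * x = x * z₀ := by
      rintro ⟨a, ⟨_, i, rfl⟩⟩
      exact Prod.ext (by simp [z₀]) (Subtype.ext ((Commute.refl s).zpow_right i).eq)
    obtain ⟨w, hw⟩ := schur_scalar ρ (ρ z₀) fun x v => by
      rw [← Module.End.mul_apply, ← map_mul, hz, map_mul, Module.End.mul_apply]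
    have hpow : ∀ x j, ρ.character (x * z₀ ^ j) = w ^ j * ρ.character x := fun x j => by
      have h1 : ρ (x * z₀ ^ j) = (w ^ j) • ρ x := by
        rw [map_mul, map_pow, hw]
        refine LinearMap.ext fun v => ?_
        rw [← Module.End.one_eq_id, smul_pow, one_pow]
        simp
      show LinearMap.trace ℂ _ (ρ (x * z₀ ^ j)) = w ^ j * LinearMap.trace ℂ _ (ρ x)
      rw [h1, map_smul, smul_eq_mul]
    refine ⟨w, ?_, hpow⟩
    have h2 := hpow 1 (orderOf s)
    have h3 : z₀ ^ orderOf s = 1 :=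
      Prod.ext (by simp [z₀]) (Subtype.ext (by simp [z₀, pow_orderOf_eq_one]))
    rw [h3, mul_one] at h2
    exact (mul_eq_right₀ (IsIrrCharacter.apply_one_ne_zero ⟨d, ρ, hρ, rfl⟩)).1 h2.symm
  choose w hw hwx using hsch
  choose k hk using fun ψ : IrrCharacter (C × zpowers s) => IsCharacter.exists_mult
    (IsCharacter.comp_hom (isCharacter_of_irr ψ.2) (MonoidHom.inl C (zpowers s))) β.2
  refine ⟨IrrCharacter (C × zpowers s), inferInstance, fun ψ => mu ψ * k ψ, w, hw, fun j => ?_⟩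
  have h1 : (fun c : C => χh (c * s ^ j)) = ∑ ψ : IrrCharacter (C × zpowers s),
      ((mu ψ : ℂ) * w ψ ^ j) • fun c : C => (ψ : C × zpowers s → ℂ) (c, 1) := by
    funext c
    have h2 := congrFun hmu (MonoidHom.inl C (zpowers s) c * z₀ ^ j)
    simp only [Finset.sum_apply, Pi.smul_apply, Pi.mul_apply, Pi.natCast_apply, nsmul_eq_mul, hwx] at h2
    rw [show π (MonoidHom.inl C (zpowers s) c * z₀ ^ j) = c * s ^ j by
      rw [map_mul, map_pow]
      show (c : Γ) * 1 * (1 * s) ^ j = _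
      rw [mul_one, one_mul]] at h2
    rw [h2, Finset.sum_apply]
    refine Finset.sum_congr rfl fun ψ _ => ?_
    rw [Pi.smul_apply, smul_eq_mul, MonoidHom.inl_apply]
    ring
  rw [h1, classInner_sum_left]
  refine Finset.sum_congr rfl fun ψ _ => ?_
  have := hk ψ
  simp only [MonoidHom.inl_apply] at this
  rw [classInner_smul_left, this, Nat.cast_mul]
  ring

/-- The canonical extension on the coset of a generator is a signed irreducible character. -/
theorem exists_sign {χ : G → ℂ} (hχ : Cfsg.IsIrrCharacter G χ) {χh : Γ → ℂ}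
    (hχh : Cfsg.IsIrrCharacter Γ χh) (hres : ∀ g : G, χh g = χ g)
    (hdet : (Cfsg.detOrder χh).Coprime (orderOf s)) :
    ∃ (β : IrrCharacter C) (ε : ℤ), (ε = 1 ∨ ε = -1) ∧
      (∀ (c : C) (t : Γ), zpowers t = zpowers s → χh (c * t) = (ε : ℂ) * (β : C → ℂ) c) ∧
      classInner (fun c : C => χh c) (β : C → ℂ) ≠ 0 := by
  classical
  have hinv : ∀ γ : Γ, conjN G γ χ = χ := fun γ => funext fun n => by
    show χ _ = χ n
    rw [← hres, ← hres]
    exact isClassFunction_isChar (isCharacter_of_irr hχh) (n : Γ) γ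
  obtain ⟨d, -, hd⟩ := IsIrrCharacter.apply_one hχ
  have hdn : d ∣ Nat.card G := by
    have h1 := IsCharacter.apply_one_eq_deg (isCharacter_of_irr hχ)
    rw [hd, Nat.cast_inj] at h1
    rw [h1]
    exact IsIrrCharacter.deg_dvd hχ
  have hcop : Nat.Coprime G.index (Cfsg.detOrder χ * d) := by
    rw [h.index_eq]
    exact Nat.Coprime.mul_right
      (h.cop.symm.coprime_dvd_right (detOrder_dvd_card (isCharacter_of_irr hχ)))
      (h.cop.symm.coprime_dvd_right hdn)
  obtain ⟨χ₀, -, huniq⟩ := exists_canonical_extension G hχ hinv hd hcop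
  haveI : NeZero (Nat.card G * orderOf s) :=
    ⟨Nat.mul_ne_zero Nat.card_pos.ne' (orderOf_pos s).ne'⟩
  have hΓ : ∀ γ : Γ, orderOf γ ∣ Nat.card G * orderOf s := fun γ => by
    rw [← h.index_eq, card_mul_index]
    exact orderOf_dvd_natCard γ
  have hCn : ∀ c : C, orderOf c ∣ Nat.card G * orderOf s := fun c => by
    rw [← Subgroup.orderOf_coe]; exact hΓ _
  -- the automorphisms fixing the roots of unity of order dividing the order of `G`
  have hgal : ∀ k : ℕ, k.Coprime (orderOf s) → ∃ σ : ℂ ≃+* ℂ,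
      (∀ z : ℂ, z ^ orderOf s = 1 → σ z = z ^ k) ∧
      (∀ c : C, σ (χh (c * s)) = χh (c * s ^ k) ∧ σ (χh (c * s)) = χh (c * s)) ∧
      ∀ (β : IrrCharacter C) (c : C), σ (conj ((β : C → ℂ) c)) = conj ((β : C → ℂ) c) := by
    intro k hk
    obtain ⟨K, hK1, hK2⟩ := Nat.chineseRemainder h.cop 1 k
    have hKc : K.Coprime (Nat.card G * orderOf s) := by
      refine Nat.Coprime.mul_right ?_ ?_
      · rw [Nat.coprime_iff_gcd_eq_one, hK1.gcd_eq]; simp
      · rw [Nat.coprime_iff_gcd_eq_one, hK2.gcd_eq]; exact hk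
    obtain ⟨σ, hσ⟩ := exists_galConj_auto hKc
    have hsK : s ^ K = s ^ k := pow_eq_pow_iff_modEq.2 hK2
    have hgK : ∀ g ∈ G, g ^ K = g := fun g hg => by
      conv_rhs => rw [← pow_one g]
      exact pow_eq_pow_iff_modEq.2 (hK1.of_dvd (G.orderOf_dvd_natCard hg))
    have hfix : (fun γ => σ (χh γ)) = χh := by
      have hres'' : ∀ g : G, σ (χh g) = χ g := fun g => by
        rw [hσ.apply_character (isCharacter_of_irr hχh) (hΓ g), hgK g g.2, hres]
      have hc0 : Nat.Coprime G.index (Cfsg.detOrder χh) := by rw [h.index_eq]; exact hdet.symm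
      exact (huniq _ (IsIrrCharacter.map_auto hχh σ) hres''
        (by rw [detOrder_map_auto (isCharacter_of_irr hχh)]; exact hc0)).trans
        (huniq χh hχh hres hc0).symm
    refine ⟨σ, fun z hz => ?_, fun c => ⟨?_, congrFun hfix _⟩, fun β c => ?_⟩
    · rw [hσ z (by rw [mul_comm, pow_mul, hz, one_pow])]
      exact pow_eq_pow_of_modEq hK2 hz
    · rw [hσ.apply_character (isCharacter_of_irr hχh) (hΓ _), (h.comm c).mul_pow,
        hgK _ (h.C_le c.2), hsK]
    · have hcK : (c⁻¹) ^ K = c⁻¹ := Subtype.ext (hgK _ (inv_mem (h.C_le c.2)))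
      rw [← IsCharacter.conj_inv (isCharacter_of_irr β.2),
        hσ.apply_character (isCharacter_of_irr β.2) (hCn _), hcK]
  have hf : Cfsg.IsClassFunction C fun c : C => χh (c * s) := fun a b => by
    show χh (((b * a * b⁻¹ : C) : Γ) * s) = χh (a * s)
    rw [← isClassFunction_isChar (isCharacter_of_irr hχh) ((a : Γ) * s) b]
    congr 1
    rw [Subgroup.coe_mul, Subgroup.coe_mul, Subgroup.coe_inv]
    rw [show (b : Γ) * a * (b : Γ)⁻¹ * s = b * a * ((b : Γ)⁻¹ * s) by group,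
      (h.comm b).inv_left.eq]
    group
  have hint : ∀ β : IrrCharacter C, ∃ z : ℤ,
      classInner (fun c : C => χh (c * s)) (β : C → ℂ) = z := by
    intro β
    obtain ⟨ι, _, n, z, hz, hsum⟩ := h.exists_roots (isCharacter_of_irr hχh) β
    have h1 := hsum 1
    simp only [pow_one] at h1
    haveI : NeZero (orderOf s) := ⟨(orderOf_pos s).ne'⟩
    obtain ⟨q, hq⟩ := rat_of_galConj_fixed (m := orderOf s) (z := ∑ i, (n i : ℂ) * z i)
      (sum_mem fun i _ => mul_mem (natCast_mem _ _) (mem_cycField_of_pow_eq_one _ (hz i)))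
      fun σ k hk hσ => by
        obtain ⟨τ, hτ, hτf, hτβ⟩ := hgal k hk
        have h2 : σ (∑ i, (n i : ℂ) * z i) = τ (∑ i, (n i : ℂ) * z i) := by
          simp only [map_sum, map_mul, map_natCast, hσ _ (hz _), hτ _ (hz _)]
        rw [h2, ← h1, classInner_def, map_mul, map_inv₀, map_natCast, map_sum]
        congr 1
        exact Finset.sum_congr rfl fun c _ => by rw [map_mul, (hτf c).2, hτβ]
    obtain ⟨a, ha⟩ := int_of_isIntegral_rat (q := q) (hq ▸ IsIntegral.sum _ fun i _ =>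
      ((isIntegral_algebraMap (R := ℤ) (x := (n i : ℤ))).mul
        (isIntegral_of_pow_eq_one (orderOf_pos s) (hz i))))
    exact ⟨a, by rw [h1, hq, ha]; push_cast; rfl⟩
  obtain ⟨β, ε, hε, hβ⟩ := exists_sign_of_norm_one hf (h.orth hχ hχh hχh hres hres).2.1 hint
  refine ⟨β, ε, hε, fun c t ht => ?_, fun h0 => ?_⟩
  · obtain ⟨k, -, hk⟩ := Finset.mem_image.1 ((isOfFinOrder_of_finite s).mem_zpowers_iff_mem_range_orderOf.1
      (ht ▸ mem_zpowers t))
    have hkc : k.Coprime (orderOf s) := by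
      have h1 : orderOf (s ^ k) = orderOf s := by
        rw [hk, ← Nat.card_zpowers, ht, Nat.card_zpowers]
      rw [orderOf_pow] at h1
      have hg : Nat.gcd (orderOf s) k ∣ orderOf s := Nat.gcd_dvd_left _ _
      have h2 := Nat.div_mul_cancel hg
      rw [h1] at h2
      rw [Nat.coprime_comm]
      exact (Nat.mul_eq_left (orderOf_pos s).ne').1 h2
    obtain ⟨σ, -, hσ, -⟩ := hgal k hkc
    rw [← hk, ← (hσ c).1, (hσ c).2, hβ c]
  · obtain ⟨ι, _, n, z, -, hsum⟩ := h.exists_roots (isCharacter_of_irr hχh) β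
    have h1 := hsum 0
    simp only [pow_zero, mul_one] at h1
    rw [h0, ← Nat.cast_sum] at h1
    have h2 : ∀ i, n i = 0 := fun i =>
      (Finset.sum_eq_zero_iff.1 (Nat.cast_eq_zero.1 h1.symm)) i (Finset.mem_univ _)
    have h3 := hsum 1
    simp only [pow_one, h2, Nat.cast_zero, zero_mul, Finset.sum_const_zero] at h3
    rw [show (fun c : C => χh (c * s)) = (ε : ℂ) • (β : C → ℂ) from funext hβ,
      classInner_smul_left, classInner_irr_self, mul_one, Int.cast_eq_zero] at h3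
    rcases hε with rfl | rfl <;> simp at h3

/-- As many invariant characters as irreducible characters of `C`. -/
theorem card_inv (hcG : ∀ t ∈ zpowers s, ∀ g ∈ G, t * g * t⁻¹ ∈ G) :
    Nat.card {χ : IrrCharacter G // ∀ t ∈ zpowers s, ∀ g g' : G, (g' : Γ) = t * g * t⁻¹ →
      (χ : G → ℂ) g' = (χ : G → ℂ) g} = Nat.card (IrrCharacter C) := by
  classical
  have hsol : Group.IsSolvable (Glauberman.opHom G (zpowers s) hcG).range :=
    Group.isSolvable_of_surjective (Glauberman.opHom G (zpowers s) hcG).rangeRestrict_surjective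
  have e := Glauberman.card_inv_chars_eq _ G (Glauberman.opHom G (zpowers s) hcG).range rfl hsol
    (Glauberman.range_coprime hcG (by rw [Nat.card_zpowers]; exact h.cop))
  simp only [Glauberman.invSub_range_iff, Glauberman.invClass_range_iff] at e
  rw [e, card_irrCharacter]
  symm
  refine Nat.card_eq_of_bijective (fun L : ConjClasses C =>
    (⟨ConjClasses.map (Subgroup.inclusion h.C_le) L, ?_⟩ : {K : ConjClasses G //
      ∀ t ∈ zpowers s, ∀ g g' : G, (g' : Γ) = t * g * t⁻¹ → ConjClasses.mk g = K →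
        ConjClasses.mk g' = K})) ⟨?_, ?_⟩
  · obtain ⟨c, rfl⟩ := ConjClasses.exists_rep L
    rintro t ⟨i, rfl⟩ g g' hg' hgK
    obtain ⟨x, hx⟩ := isConj_iff.1 (ConjClasses.mk_eq_mk_iff_isConj.1 hgK)
    refine ConjClasses.mk_eq_mk_iff_isConj.2 (isConj_iff.2
      ⟨⟨s ^ i * x * (s ^ i)⁻¹, ‹G.Normal›.conj_mem _ x.2 _⟩, Subtype.ext ?_⟩)
    show s ^ i * x * (s ^ i)⁻¹ * g' * (s ^ i * x * (s ^ i)⁻¹)⁻¹ = c
    have hx' : (x : Γ) * g * (x : Γ)⁻¹ = c := congrArg Subtype.val hx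
    have hc : s ^ i * (c : Γ) * (s ^ i)⁻¹ = c := by
      rw [← ((h.comm c).zpow_right i).eq, mul_inv_cancel_right]
    rw [hg']
    calc _ = s ^ i * ((x : Γ) * g * (x : Γ)⁻¹) * (s ^ i)⁻¹ := by simp only [zpow_neg]; group
      _ = c := by rw [hx', hc]
  · intro L L' hLL
    obtain ⟨c, rfl⟩ := ConjClasses.exists_rep L
    obtain ⟨c', rfl⟩ := ConjClasses.exists_rep L'
    obtain ⟨x, hx⟩ := isConj_iff.1 (ConjClasses.mk_eq_mk_iff_isConj.1 (congrArg Subtype.val hLL))
    exact ConjClasses.mk_eq_mk_iff_isConj.2 (h.isConj_C x.2 (congrArg Subtype.val hx))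
  · rintro ⟨K, hK⟩
    obtain ⟨g, rfl⟩ := ConjClasses.exists_rep K
    obtain ⟨x, hx⟩ := isConj_iff.1 (ConjClasses.mk_eq_mk_iff_isConj.1
      (hK s (mem_zpowers s) g ⟨s * g * s⁻¹, ‹G.Normal›.conj_mem _ g.2 s⟩ rfl rfl)).symm
    have hx' : (x : Γ) * g * (x : Γ)⁻¹ = s * g * s⁻¹ := congrArg Subtype.val hx
    have hz : Commute ((x : Γ)⁻¹ * s) (g : Γ) := by
      show (x : Γ)⁻¹ * s * g = g * ((x : Γ)⁻¹ * s)
      calc (x : Γ)⁻¹ * s * g = (x : Γ)⁻¹ * (s * g * s⁻¹) * s := by group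
        _ = g * ((x : Γ)⁻¹ * s) := by rw [← hx']; group
    obtain ⟨k, hk, a, ha, has, hka⟩ := h.exists_conj_fix le_rfl le_normalizer_of_normal
      (inv_mem x.2 : (x : Γ)⁻¹ ∈ G)
    obtain ⟨e, hen, hes⟩ := h.exists_exp
    have h1 : k * ((x : Γ)⁻¹ * s) ^ e * k⁻¹ = s := by
      rw [← conj_pow, hka, (show Commute a s from has).mul_pow, h.pow_card_eq_one ha hen, one_mul,
        hes]
    have hgC : k * g * k⁻¹ ∈ C := by
      refine h.mem_C.2 ⟨mul_mem (mul_mem hk g.2) (inv_mem hk), ?_⟩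
      rw [← h1]
      calc k * g * k⁻¹ * (k * ((x : Γ)⁻¹ * s) ^ e * k⁻¹)
          = k * (g * ((x : Γ)⁻¹ * s) ^ e) * k⁻¹ := by group
        _ = k * (((x : Γ)⁻¹ * s) ^ e * g) * k⁻¹ := by rw [(hz.pow_left e).eq]
        _ = _ := by group
    refine ⟨ConjClasses.mk ⟨_, hgC⟩, Subtype.ext ?_⟩
    exact (ConjClasses.mk_eq_mk_iff_isConj.2 (isConj_iff.2 ⟨⟨k, hk⟩, Subtype.ext rfl⟩)).symm

end CoCyc

end Cfsg.Lib.CyclicGlauberman
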