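import Mathlib
import Cfsg.Agent.Blocks.CyclicGlauberman

/-!
# The signs of a canonical extension for a semiregular cyclic group of operators

If every non-trivial power of `s` has the same fixed points `C` in `G`, the values of the
canonical extension on the cosets `C * s ^ j` are given by one character of `C` and a linear
character of square one.
-/

set_option autoImplicit false
set_option linter.unusedSectionVars false

namespace Cfsg.Lib.CyclicGlauberman

open Cfsg.Lib.Chars Subgroup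
open scoped ComplexConjugate

/-- A natural valued function on `range m` whose variance is below `m`. -/
theorem spike_or_const {m : ℕ} (hm : 2 ≤ m) (N : ℕ → ℕ) (S : ℤ)
    (hS : (m : ℤ) * ∑ k ∈ Finset.range m, (N k : ℤ) ^ 2 - (∑ k ∈ Finset.range m, (N k : ℤ)) ^ 2 = S)
    (hS' : S ≤ (m : ℤ) - 1) :
    ∃ (b : ℕ) (c : ℤ) (k₀ : ℕ), k₀ < m ∧ (c = 0 ∧ S = 0 ∨ (c = 1 ∨ c = -1) ∧ S = (m : ℤ) - 1) ∧
      ∀ k < m, (N k : ℤ) = b + if k = k₀ then c else 0 := by
  classical
  set a := ∑ k ∈ Finset.range m, (N k : ℤ) with ha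
  obtain ⟨b, c, hc, hc1, hc2⟩ : ∃ b c : ℤ, a = m * b + c ∧ -(m : ℤ) ≤ 2 * c ∧ 2 * c ≤ m := by
    refine ⟨(2 * a + m) / (2 * m), a - m * ((2 * a + m) / (2 * m)), by ring, ?_, ?_⟩
    · have := Int.emod_nonneg (2 * a + m) (show 2 * (m : ℤ) ≠ 0 by omega)
      have := Int.mul_ediv_add_emod (2 * a + m) (2 * m)
      have e : 2 * (m : ℤ) * ((2 * a + m) / (2 * m)) = 2 * (m * ((2 * a + m) / (2 * m))) := by ring
      omega
    · have := Int.emod_lt_of_pos (2 * a + m) (show (0 : ℤ) < 2 * m by omega)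
      have := Int.mul_ediv_add_emod (2 * a + m) (2 * m)
      have e : 2 * (m : ℤ) * ((2 * a + m) / (2 * m)) = 2 * (m * ((2 * a + m) / (2 * m))) := by ring
      omega
  set D : ℕ → ℤ := fun k => N k - b with hD
  have hDsum : ∑ k ∈ Finset.range m, D k = c := by
    simp only [hD, Finset.sum_sub_distrib, Finset.sum_const, Finset.card_range, nsmul_eq_mul, ← ha]
    linear_combination hc
  have hDsq : (m : ℤ) * ∑ k ∈ Finset.range m, D k ^ 2 - c ^ 2 = S := by
    rw [← hS]
    have e : ∑ k ∈ Finset.range m, D k ^ 2 =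
        ∑ k ∈ Finset.range m, (N k : ℤ) ^ 2 - 2 * b * a + m * b ^ 2 := by
      simp only [hD, sub_sq, Finset.sum_add_distrib, Finset.sum_sub_distrib, Finset.sum_const,
        Finset.card_range, nsmul_eq_mul, ha, Finset.mul_sum]
      rw [Finset.sum_congr rfl fun k _ => show 2 * (N k : ℤ) * b = 2 * b * N k by ring]
    rw [e, hc]; ring
  have hnn : 0 ≤ ∑ k ∈ Finset.range m, D k ^ 2 := Finset.sum_nonneg fun k _ => sq_nonneg _
  have habs : |c| ≤ ∑ k ∈ Finset.range m, D k ^ 2 := by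
    rw [← hDsum]
    refine (Finset.abs_sum_le_sum_abs _ _).trans (Finset.sum_le_sum fun k _ => ?_)
    rcases Int.natAbs_eq (D k) with e | e <;> rw [← sq_abs, Int.abs_eq_natAbs] <;>
      exact Int.le_self_sq _
  have hcabs : |c| ≤ 1 := by
    by_contra hgt
    push Not at hgt
    have hle : 2 * |c| ≤ (m : ℤ) := by rcases abs_choice c with e | e <;> rw [e] <;> omega
    have h1 := mul_le_mul_of_nonneg_left habs (Int.natCast_nonneg m)
    have h2 : 0 < (|c| - 1) * ((m : ℤ) - 1 - |c|) := mul_pos (by omega) (by omega)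
    nlinarith [sq_abs c]
  have hm0 : (0 : ℤ) < m := by omega
  obtain hc0 | hc0 : c = 0 ∨ (c = 1 ∨ c = -1) := by
    have := abs_le.1 hcabs; omega
  · have hzero : ∑ k ∈ Finset.range m, D k ^ 2 = 0 := by
      by_contra hne
      have h1 : (m : ℤ) * 1 ≤ (m : ℤ) * ∑ k ∈ Finset.range m, D k ^ 2 :=
        mul_le_mul_of_nonneg_left (by omega) hm0.le
      rw [hc0] at hDsq
      linarith
    have hN : ∀ k < m, (N k : ℤ) = b := fun k hk => by
      have := (Finset.sum_eq_zero_iff_of_nonneg fun k _ => sq_nonneg (D k)).1 hzero k (Finset.mem_range.2 hk)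
      rw [sq_eq_zero_iff] at this
      exact sub_eq_zero.1 this
    have hb : 0 ≤ b := hN 0 (by omega) ▸ Int.natCast_nonneg _
    refine ⟨b.toNat, 0, 0, by omega, Or.inl ⟨rfl, ?_⟩, fun k hk => ?_⟩
    · rw [← hDsq, hzero, hc0]; ring
    · rw [hN k hk, Int.toNat_of_nonneg hb]; simp
  · have hc2 : c ^ 2 = 1 := by rcases hc0 with rfl | rfl <;> norm_num
    have hone : ∑ k ∈ Finset.range m, D k ^ 2 = 1 := by
      have h1 : |c| = 1 := by rcases hc0 with rfl | rfl <;> norm_num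
      by_contra hne
      have h3 : (m : ℤ) * 2 ≤ (m : ℤ) * ∑ k ∈ Finset.range m, D k ^ 2 :=
        mul_le_mul_of_nonneg_left (by omega) hm0.le
      linarith
    obtain ⟨k₀, hk₀, hne⟩ := Finset.exists_ne_zero_of_sum_ne_zero (by rw [hone]; exact one_ne_zero)
    have hrest : ∀ k ∈ Finset.range m, k ≠ k₀ → D k = 0 := fun k hk hne' => by
      have h1 := Finset.add_le_sum (f := fun k => D k ^ 2) (fun k _ => sq_nonneg _) hk₀ hk hne'.symm
      have h2 : 0 < D k₀ ^ 2 := lt_of_le_of_ne (sq_nonneg _) (Ne.symm hne)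
      have h3 : D k ^ 2 = 0 := le_antisymm (by linarith) (sq_nonneg _)
      exact sq_eq_zero_iff.1 h3
    rw [Finset.sum_eq_single_of_mem k₀ hk₀ hrest] at hDsum
    rw [Finset.mem_range] at hk₀
    obtain ⟨k₁, hk₁, hne₁⟩ : ∃ k, k < m ∧ k ≠ k₀ := ⟨if k₀ = 0 then 1 else 0, by split_ifs <;> omega, by split_ifs <;> omega⟩
    have hb : 0 ≤ b := by
      have := hrest k₁ (Finset.mem_range.2 hk₁) hne₁
      have := Int.natCast_nonneg (N k₁)
      simp only [hD] at *
      omega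
    refine ⟨b.toNat, c, k₀, hk₀, Or.inr ⟨hc0, ?_⟩, fun k hk => ?_⟩
    · rw [← hDsq, hone, hc2]; ring
    · rw [Int.toNat_of_nonneg hb]
      split_ifs with e
      · subst e; simp only [hD] at hDsum; omega
      · have := hrest k (Finset.mem_range.2 hk) e
        simp only [hD] at this; omega

universe u

variable {Γ : Type u} [Group Γ] [Fintype Γ] {G C : Subgroup Γ} {s : Γ} [G.Normal] [Fintype G] [Fintype C]

/-- Class functions read on a coset of a central element of a centraliser. -/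
theorem isClassFunction_shift {χh : Γ → ℂ} (hχh : Cfsg.IsIrrCharacter Γ χh)
    {x : Γ} (hx : ∀ c : C, Commute (c : Γ) x) :
    Cfsg.IsClassFunction C fun c : C => χh (c * x) := fun a b => by
  show χh (((b * a * b⁻¹ : C) : Γ) * x) = χh (a * x)
  rw [← isClassFunction_isChar (isCharacter_of_irr hχh) ((a : Γ) * x) b]
  congr 1
  rw [Subgroup.coe_mul, Subgroup.coe_mul, Subgroup.coe_inv,
    show (b : Γ) * a * (b : Γ)⁻¹ * x = b * a * ((b : Γ)⁻¹ * x) by group, (hx b).inv_left.eq]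
  group

variable (h : CoCyc G C s)
include h

/-- On every coset of a non-trivial power of `s` the extension has norm one. -/
theorem CoCyc.norm_shift (hfpf : ∀ x ∈ zpowers s, x ≠ 1 → G ⊓ centralizer ({x} : Set Γ) = C)
    {χ : G → ℂ} (hχ : Cfsg.IsIrrCharacter G χ) {χh : Γ → ℂ} (hχh : Cfsg.IsIrrCharacter Γ χh)
    (hres : ∀ g : G, χh g = χ g) {x : Γ} (hx : x ∈ zpowers s) (hx1 : x ≠ 1) :
    classInner (fun c : C => χh (c * x)) (fun c : C => χh (c * x)) = 1 := by
  have h' : CoFix G C x := by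
    refine ⟨h.cop.coprime_dvd_right ?_, ?_⟩
    · rw [← Nat.card_zpowers, ← Nat.card_zpowers]
      exact card_dvd_of_le (zpowers_le.2 hx)
    · rw [zpowers_eq_closure, centralizer_closure, hfpf x hx hx1]
  rw [classInner_def]
  refine (h'.sum_coset (f := fun γ => χh γ * conj (χh γ)) fun a b => ?_).symm.trans
    ((h.orth hχ hχh hχh hres hres).2.2 x)
  simp only [isClassFunction_isChar (isCharacter_of_irr hχh) a b]

/-- The values on all non-trivial cosets of `C`. -/
theorem CoCyc.exists_sign_char (hm : 2 ≤ orderOf s)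
    (hfpf : ∀ x ∈ zpowers s, x ≠ 1 → G ⊓ centralizer ({x} : Set Γ) = C)
    {χ : G → ℂ} (hχ : Cfsg.IsIrrCharacter G χ) {χh : Γ → ℂ} (hχh : Cfsg.IsIrrCharacter Γ χh)
    (hres : ∀ g : G, χh g = χ g) (β : IrrCharacter C) {ε₀ : ℤ} (hε₀ : ε₀ = 1 ∨ ε₀ = -1)
    (hβ : ∀ c : C, χh (c * s) = (ε₀ : ℂ) * (β : C → ℂ) c) :
    ∃ (ε : ℤ) (lam : Γ →* ℂˣ) (b : IrrCharacter C → ℕ), (ε = 1 ∨ ε = -1) ∧
      (∀ x ∈ zpowers s, (lam x : ℂ) * lam x = 1) ∧
      (∀ c : C, ∀ x ∈ zpowers s, x ≠ 1 → χh (c * x) = (ε : ℂ) * (β : C → ℂ) c * lam x) ∧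
      ∀ c : C, χh c = (orderOf s : ℂ) * ∑ γ, (b γ : ℂ) * (γ : C → ℂ) c + (ε : ℂ) * (β : C → ℂ) c := by
  classical
  obtain ⟨lam, -, -, hls⟩ := h.exists_lam
  set m := orderOf s with hmdef
  haveI : NeZero m := ⟨by omega⟩
  set ζ := zetaC m
  have hζ : IsPrimitiveRoot ζ m := isPrimitiveRoot_zetaC m
  have hcomm : ∀ (c : C) (j : ℕ), Commute (c : Γ) (s ^ j) := fun c j => (h.comm c).pow_right j
  set v : IrrCharacter C → ℕ → ℂ := fun γ j =>
    classInner (fun c : C => χh (c * s ^ j)) (γ : C → ℂ) with hv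
  have hexp : ∀ (c : C) (j : ℕ), χh (c * s ^ j) = ∑ γ, v γ j * (γ : C → ℂ) c := fun c j =>
    classFunction_expand_apply (isClassFunction_shift hχh (fun c => hcomm c j)) c
  have hne : ∀ j, 1 ≤ j → j < m → s ^ j ≠ 1 := fun j h1 h2 =>
    pow_ne_one_of_lt_orderOf (by omega) (hmdef ▸ h2)
  have hnorm : ∀ j, 1 ≤ j → j < m → ∑ γ, v γ j * conj (v γ j) = 1 := by
    intro j h1 h2
    rw [← classInner_self_decomp, ← classFunction_expand (isClassFunction_shift hχh (fun c => hcomm c j))]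
    exact h.norm_shift hfpf hχ hχh hres (pow_mem (mem_zpowers s) j) (hne j h1 h2)
  have hgeo : ∀ n : ℕ, ∀ w : ℂ, w ^ n = 1 → w ≠ 1 → ∑ j ∈ Finset.range n, w ^ j = 0 := fun n w hw hw1 => by
    rw [geom_sum_eq hw1, hw, sub_self, zero_div]
  -- the Fourier coefficients
  have hfour : ∀ γ : IrrCharacter C, ∃ N : ℕ → ℕ,
      ∀ j : ℕ, v γ j = ∑ k ∈ Finset.range m, (N k : ℂ) * (ζ ^ k) ^ j := by
    intro γ
    obtain ⟨ι, _, n, z, hz, hsum⟩ := h.exists_roots (isCharacter_of_irr hχh) γ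
    choose k hk hzk using fun i => hζ.eq_pow_of_pow_eq_one (hz i)
    refine ⟨fun l => ∑ i ∈ Finset.univ.filter (fun i => k i = l), n i, fun j => ?_⟩
    rw [hv]
    simp only []
    rw [hsum, ← Finset.sum_fiberwise_of_maps_to (g := k) (t := Finset.range m)
      (fun i _ => Finset.mem_range.2 (hk i))]
    refine Finset.sum_congr rfl fun l _ => ?_
    rw [Nat.cast_sum, Finset.sum_mul]
    exact Finset.sum_congr rfl fun i hi => by rw [← hzk i, (Finset.mem_filter.1 hi).2]
  choose N hN using hfour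
  have hconj : ∀ k, conj (ζ ^ k) = (ζ ^ k)⁻¹ := fun k => by
    refine (Complex.inv_eq_conj ?_).symm
    rw [norm_pow, hζ.norm'_eq_one (NeZero.ne m), one_pow]
  have hpars : ∀ γ, ∑ j ∈ Finset.range m, v γ j * conj (v γ j) =
      (((m : ℤ) * ∑ k ∈ Finset.range m, (N γ k : ℤ) ^ 2 : ℤ) : ℂ) := by
    intro γ
    simp only [hN γ, map_sum, map_mul, map_natCast, map_pow, hconj, Finset.sum_mul, Finset.mul_sum]
    rw [Finset.sum_comm, Int.cast_sum]
    refine Finset.sum_congr rfl fun k hk => ?_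
    rw [Finset.sum_comm, Finset.sum_eq_single_of_mem k hk]
    · push_cast
      have : ∀ j : ℕ, (N γ k : ℂ) * (ζ ^ k) ^ j * ((N γ k : ℂ) * (ζ ^ k)⁻¹ ^ j) = (N γ k : ℂ) ^ 2 := fun j => by
        rw [inv_pow]
        have : (ζ ^ k) ^ j ≠ 0 := pow_ne_zero _ (pow_ne_zero _ (hζ.ne_zero (NeZero.ne m)))
        field_simp
      simp only [this, Finset.sum_const, Finset.card_range, nsmul_eq_mul]
    · intro l hl hlk
      rw [Finset.mem_range] at hk hl
      have : ∀ j : ℕ, (N γ l : ℂ) * (ζ ^ l) ^ j * ((N γ k : ℂ) * (ζ ^ k)⁻¹ ^ j) =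
          (N γ l : ℂ) * N γ k * (ζ ^ l * (ζ ^ k)⁻¹) ^ j := fun j => by rw [mul_pow]; ring
      simp only [this, ← Finset.mul_sum]
      rw [hgeo m _ (by rw [mul_pow, inv_pow, ← pow_mul, ← pow_mul, mul_comm l, mul_comm k, pow_mul, pow_mul,
        hζ.pow_eq_one, one_pow, one_pow, inv_one, mul_one]) ?_, mul_zero]
      intro e
      exact hlk (hζ.pow_inj hl hk ((mul_inv_eq_one₀ (pow_ne_zero _ (hζ.ne_zero (NeZero.ne m)))).1 e))
  have hv0 : ∀ γ, v γ 0 = ((∑ k ∈ Finset.range m, (N γ k : ℤ) : ℤ) : ℂ) := fun γ => by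
    rw [hN γ 0]; push_cast; simp
  set S : IrrCharacter C → ℤ := fun γ =>
    (m : ℤ) * ∑ k ∈ Finset.range m, (N γ k : ℤ) ^ 2 - (∑ k ∈ Finset.range m, (N γ k : ℤ)) ^ 2 with hS
  have hSval : ∀ γ, (S γ : ℂ) = ∑ j ∈ Finset.Ico 1 m, v γ j * conj (v γ j) := by
    intro γ
    have := hpars γ
    rw [Finset.range_eq_Ico, Finset.sum_eq_sum_Ico_succ_bot (by omega : 0 < m), hv0,
      ← Finset.range_eq_Ico, map_intCast] at this
    simp only [hS]
    push_cast at this ⊢
    linear_combination -this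
  have hSle : ∀ γ, S γ ≤ (m : ℤ) - 1 := by
    intro γ
    have h1 : (S γ : ℝ) = ∑ j ∈ Finset.Ico 1 m, Complex.normSq (v γ j) := by
      apply Complex.ofReal_injective
      push_cast
      rw [hSval γ]
      exact Finset.sum_congr rfl fun j _ => Complex.mul_conj _
    have h2 : ∑ j ∈ Finset.Ico 1 m, Complex.normSq (v γ j) ≤ ∑ _j ∈ Finset.Ico 1 m, (1 : ℝ) := by
      refine Finset.sum_le_sum fun j hj => ?_
      rw [Finset.mem_Ico] at hj
      have h3 : ∑ δ, Complex.normSq (v δ j) = 1 := by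
        apply Complex.ofReal_injective
        push_cast
        rw [← hnorm j hj.1 hj.2]
        exact Finset.sum_congr rfl fun δ _ => (Complex.mul_conj _).symm
      rw [← h3]
      exact Finset.single_le_sum (f := fun δ => Complex.normSq (v δ j)) (fun δ _ => Complex.normSq_nonneg _)
        (Finset.mem_univ γ)
    rw [← h1, Finset.sum_const, Nat.card_Ico, nsmul_eq_mul, mul_one] at h2
    have : ((m - 1 : ℕ) : ℤ) = (m : ℤ) - 1 := by omega
    rw [← this]
    exact_mod_cast h2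
  choose b c k₀ hk₀ hcases hNval using fun γ => spike_or_const hm (N γ) (S γ) rfl (hSle γ)
  have hvj : ∀ γ, ∀ j, v γ j = (b γ : ℂ) * (if ζ ^ j = 1 then (m : ℂ) else 0) + (c γ : ℂ) * (ζ ^ k₀ γ) ^ j := by
    intro γ j
    rw [hN γ j]
    have h1 : ∀ k ∈ Finset.range m, (N γ k : ℂ) * (ζ ^ k) ^ j =
        (b γ : ℂ) * (ζ ^ j) ^ k + if k = k₀ γ then (c γ : ℂ) * (ζ ^ k₀ γ) ^ j else 0 := by
      intro k hk
      have e := congrArg (fun z : ℤ => (z : ℂ)) (hNval γ k (Finset.mem_range.1 hk))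
      simp only [Int.cast_natCast] at e
      rw [e]
      split_ifs with e' <;> push_cast
      · subst e'; rw [← pow_mul ζ j, mul_comm j, pow_mul]; ring
      · rw [← pow_mul ζ j, mul_comm j, pow_mul]; ring
    rw [Finset.sum_congr rfl h1, Finset.sum_add_distrib, ← Finset.mul_sum, Finset.sum_ite_eq',
      if_pos (Finset.mem_range.2 (hk₀ γ))]
    congr 1
    rw [CoCyc.geom_indicator (by rw [← pow_mul, mul_comm, pow_mul, hζ.pow_eq_one, one_pow])]
  have hvj1 : ∀ γ j, 1 ≤ j → j < m → v γ j = (c γ : ℂ) * (ζ ^ k₀ γ) ^ j := fun γ j h1 h2 => by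
    rw [hvj, if_neg (hζ.pow_ne_one_of_pos_of_lt (by omega) h2), mul_zero, zero_add]
  have hv1 : v β 1 = (ε₀ : ℂ) := by
    simp only [hv, pow_one]
    rw [show (fun c : C => χh (c * s)) = (ε₀ : ℂ) • (β : C → ℂ) from funext hβ,
      classInner_smul_left, classInner_irr_self, mul_one]
  have hεne : (ε₀ : ℂ) ≠ 0 := by rcases hε₀ with rfl | rfl <;> norm_num
  have hcβ : c β = 1 ∨ c β = -1 := by
    rcases hcases β with ⟨h0, -⟩ | ⟨h0, -⟩
    · rw [hvj1 β 1 le_rfl (by omega), h0, Int.cast_zero, zero_mul] at hv1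
      exact absurd hv1.symm hεne
    · exact h0
  have hη : (ζ ^ k₀ β) * (ζ ^ k₀ β) = 1 := by
    have e := hv1
    rw [hvj1 β 1 le_rfl (by omega), pow_one] at e
    have h2 : ((c β : ℂ) * ζ ^ k₀ β) * ((c β : ℂ) * ζ ^ k₀ β) = 1 := by
      rw [e]; rcases hε₀ with rfl | rfl <;> norm_num
    rcases hcβ with e' | e' <;> rw [e'] at h2 <;> push_cast at h2 <;> linear_combination h2
  have hzero : ∀ γ, γ ≠ β → c γ = 0 := by
    intro γ hγ
    rcases hcases γ with ⟨h0, -⟩ | ⟨h0, -⟩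
    · exact h0
    · exfalso
      have h1 := hnorm 1 le_rfl (by omega)
      rw [← Finset.add_sum_erase _ _ (Finset.mem_univ β), hv1, map_intCast] at h1
      have h2 : ∑ δ ∈ Finset.univ.erase β, Complex.normSq (v δ 1) = 0 := by
        apply Complex.ofReal_injective
        push_cast
        rw [Finset.sum_congr rfl fun δ _ => (Complex.mul_conj (v δ 1)).symm]
        rcases hε₀ with rfl | rfl <;> push_cast at h1 <;> linear_combination h1
      have h3 := (Finset.sum_eq_zero_iff_of_nonneg fun δ _ => Complex.normSq_nonneg _).1 h2 γ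
        (Finset.mem_erase.2 ⟨hγ, Finset.mem_univ _⟩)
      rw [Complex.normSq_eq_zero, hvj1 γ 1 le_rfl (by omega), mul_eq_zero] at h3
      rcases h3 with h3 | h3
      · rcases h0 with e | e <;> rw [e] at h3 <;> norm_num at h3
      · exact pow_ne_zero _ (pow_ne_zero _ (hζ.ne_zero (NeZero.ne m))) h3
  refine ⟨c β, lam ^ k₀ β, b, hcβ, ?_, ?_, ?_⟩
  · intro x hx
    obtain ⟨j, -, rfl⟩ := Finset.mem_image.1
      ((isOfFinOrder_of_finite s).mem_zpowers_iff_mem_range_orderOf.1 hx)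
    simp only [MonoidHom.pow_apply, map_pow, Units.val_pow_eq_pow_val, hls]
    rw [← pow_mul, mul_comm, pow_mul, ← mul_pow, hη, one_pow]
  · intro d x hx hx1
    obtain ⟨j, hj, rfl⟩ := Finset.mem_image.1
      ((isOfFinOrder_of_finite s).mem_zpowers_iff_mem_range_orderOf.1 hx)
    have hj0 : 1 ≤ j := Nat.one_le_iff_ne_zero.2 fun e => hx1 (by rw [e, pow_zero])
    rw [hexp, Finset.sum_eq_single β]
    · rw [hvj1 β j hj0 (Finset.mem_range.1 hj)]
      simp only [MonoidHom.pow_apply, map_pow, Units.val_pow_eq_pow_val, hls]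
      ring
    · intro γ _ hγ
      rw [hvj1 γ j hj0 (Finset.mem_range.1 hj), hzero γ hγ, Int.cast_zero, zero_mul, zero_mul]
    · exact fun h0 => absurd (Finset.mem_univ β) h0
  · intro d
    have e := hexp d 0
    rw [pow_zero, mul_one] at e
    rw [e]
    simp only [hvj, pow_zero, if_true, mul_one, add_mul, Finset.sum_add_distrib]
    congr 1
    · rw [Finset.mul_sum]; exact Finset.sum_congr rfl fun γ _ => by ring
    · rw [Finset.sum_eq_single β]
      · intro γ _ hγ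
        rw [hzero γ hγ, Int.cast_zero, zero_mul]
      · exact fun h0 => absurd (Finset.mem_univ β) h0

end Cfsg.Lib.CyclicGlauberman
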