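import Mathlib
import Cfsg.Agent.S4717
import Cfsg.Agent.S4718
import Cfsg.Agent.Blocks.Quotient
import Cfsg.Agent.Blocks.BrauerHom
import Cfsg.Agent.Blocks.CanonicalCharacter
import Cfsg.Agent.InvolCalc.BoundedCentralizers
import Cfsg.Agent.Coprime.Basic

/-!
# Groups of bounded deficiency class have bounded order
-/

set_option autoImplicit false
set_option linter.unusedSectionVars false

namespace Cfsg.Lib.Blocks

open Cfsg.Lib.Chars

universe u

/-- Deficiency class passes to the quotient by a central subgroup of order `p`. -/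
theorem defect_lt_quotient {G : Type u} [Group G] [Fintype G] {p : ℕ} [Fact p.Prime]
    {M : Ideal AlgInt} (hM : IsPModular p M) {r : ℕ}
    (hdef : ∀ B : Set (IrrCharacter G), IsPBlock M B → B ≠ principalBlock M G →
      blockDefect p B < r + 1)
    (X : Subgroup G) [X.Normal] (hX : X ≤ Subgroup.center G) (hXc : Nat.card X = p)
    (Bbar : Set (IrrCharacter (G ⧸ X))) (hBbar : IsPBlock M Bbar)
    (hne : Bbar ≠ principalBlock M (G ⧸ X)) : blockDefect p Bbar < r := by
  classical
  letI := Fintype.ofFinite (G ⧸ X)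
  have hp : p.Prime := Fact.out
  have hXp : IsPGroup p X := IsPGroup.of_card (n := 1) (by rw [hXc, pow_one])
  obtain ⟨φ, hφ⟩ := IsPBlock.nonempty hM hBbar
  set B := blockOf M (inflate X φ : G → ℂ) with hBdef
  have hB : IsPBlock M B := isPBlock_blockOf (inflate X φ)
  have hsub : ∀ ψ ∈ Bbar, inflate X ψ ∈ B := fun ψ hψ =>
    sameBlock_inflate hM (IsPBlock.sameBlock hM hBbar hφ hψ)
  have hBne : B ≠ principalBlock M G := by
    intro h
    refine hne (IsPBlock.eq_of_mem_inter hM hBbar (isPBlock_blockOf (principal (G ⧸ X))) hφ ?_)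
    refine sameBlock_of_inflate hM hXp (φ := principal (G ⧸ X)) (fun z _ => Subgroup.mem_centralizer_iff.2 fun y hy =>
      (Subgroup.mem_center_iff.1 (hX hy) z).symm) ?_
    have h1 : inflate X φ ∈ principalBlock M G := h ▸ mem_blockOf_self hM (inflate X φ)
    have e : (inflate X (principal (G ⧸ X)) : G → ℂ) = fun _ => (1 : ℂ) :=
      funext fun g => inflate_val X (principal (G ⧸ X)) g
    rw [e]
    exact h1
  obtain ⟨Dbar, hD⟩ := exists_defectGroup hM hBbar
  obtain ⟨D, hDB, hle⟩ := exists_defect_map_ge hM X hBbar hB hsub hD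
  have hXD : X ≤ D := normal_le_defectGroup hM hXp hB hDB
  have hcard : Nat.card (D.map (QuotientGroup.mk' X)) * p = Nat.card D := by
    have h := ((QuotientGroup.mk' X).comp D.subtype).ker.card_mul_index
    rw [Subgroup.index_ker, MonoidHom.range_eq_map, ← Subgroup.map_map, ← MonoidHom.range_eq_map,
      Subgroup.range_subtype, ← MonoidHom.comap_ker, QuotientGroup.ker_mk',
      show Nat.card (X.comap D.subtype) = Nat.card X from
        Nat.card_congr (Subgroup.subgroupOfEquivOfLe hXD).toEquiv, hXc] at h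
    rw [← h, mul_comm]
  have h1 := Nat.mul_le_mul_right p (Subgroup.card_le_of_le hle)
  rw [hcard, IsDefectGroup.card hM hBbar hD, IsDefectGroup.card hM hB hDB, ← pow_succ,
    Nat.pow_le_pow_iff_right hp.one_lt] at h1
  have := hdef B hB hBne
  omega

/-- The bound for a fixed deficiency class. -/
theorem exists_deficiency_bound : ∀ r a : ℕ, ∃ N : ℕ, ∀ (G : Type u) [Group G] [Finite G]
    (M : Ideal AlgInt), IsPModular 2 M → (Nat.card G).factorization 2 ≤ a →
    (∀ B : Set (IrrCharacter G), IsPBlock M B → B ≠ principalBlock M G → blockDefect 2 B < r) →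
    (∃ E : Subgroup G, (∀ x ∈ E, ∀ y ∈ E, x * y = y * x) ∧ (∀ x ∈ E, x * x = 1) ∧
      Nat.card E = 2 ^ (r + 1)) → Nat.card G ≤ N := by
  haveI := Fact.mk Nat.prime_two
  intro r
  induction r with
  | zero =>
    intro a
    choose f hf using fun a => Cfsg.Agent.S4718.result.{u} 2 a
    refine ⟨(Finset.range (a + 1)).sup f, fun G _ _ M hM ha hdef _ => ?_⟩
    refine (hf _ G M hM rfl fun B hB => ?_).trans
      (Finset.le_sup (Finset.mem_range.2 (Nat.lt_succ_of_le ha)))
    by_contra h
    exact Nat.not_lt_zero _ (hdef B hB h)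
  | succ r ih =>
    intro a
    obtain ⟨N', hN'⟩ := ih a
    set c := 2 * N' with hc
    refine ⟨c ^ 4 * ((c ^ 5 + 1) * ((((c ^ 5) ^ 2 + c ^ 5 + 2).factorial ^ a).factorial)),
      fun G _ _ M hM ha hdef hE => ?_⟩
    classical
    letI := Fintype.ofFinite G
    obtain ⟨E, hEc, hE2, hEcard⟩ := hE
    -- centralizers of involutions in elementary abelian subgroups of the right order
    have key : ∀ E' : Subgroup G, (∀ x ∈ E', ∀ y ∈ E', x * y = y * x) → (∀ x ∈ E', x * x = 1) →
        Nat.card E' = 2 ^ (r + 1 + 1) → ∀ x ∈ E', x ≠ 1 →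
        Nat.card (Subgroup.centralizer ({x} : Set G)) ≤ c := by
      intro E' hc' h2' hcard' x hx hx1
      set C := Subgroup.centralizer ({x} : Set G) with hC
      letI := Fintype.ofFinite C
      have hxo : orderOf x = 2 := orderOf_eq_prime (by rw [pow_two]; exact h2' x hx) hx1
      have hle : E' ≤ C := fun y hy => Subgroup.mem_centralizer_singleton_iff.2 (hc' y hy x hx)
      set x' : C := ⟨x, hle hx⟩ with hx'
      set X := Subgroup.zpowers x' with hXdef
      have hXZ : X ≤ Subgroup.center C := by
        rw [hXdef, Subgroup.zpowers_le, Subgroup.mem_center_iff]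
        exact fun y => Subtype.ext (Subgroup.mem_centralizer_singleton_iff.1 y.2)
      haveI : X.Normal := ⟨fun y hy g => by
        rw [show g * y * g⁻¹ = y by
          rw [Subgroup.mem_center_iff.1 (hXZ hy) g, mul_inv_cancel_right]]
        exact hy⟩
      have hXc : Nat.card X = 2 := by rw [hXdef, Nat.card_zpowers, hx', Subgroup.orderOf_mk, hxo]
      have hdefC : ∀ B : Set (IrrCharacter C), IsPBlock M B → B ≠ principalBlock M C →
          blockDefect 2 B < r + 1 :=
        (Cfsg.Agent.S4717.result 2 M hM (r + 1)).1 hdef x ⟨1, by rw [hxo, pow_one]⟩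
      have hfacQ : (Nat.card (C ⧸ X)).factorization 2 ≤ a :=
        le_trans ((Nat.factorization_le_iff_dvd Nat.card_pos.ne' Nat.card_pos.ne').2
          ((Subgroup.card_quotient_dvd_card X).trans (Subgroup.card_subgroup_dvd_card C)) 2) ha
      have hQ := hN' (C ⧸ X) M hM hfacQ (defect_lt_quotient hM hdefC X hXZ hXc)
        ⟨(E'.subgroupOf C).map (QuotientGroup.mk' X), ?_, ?_, ?_⟩
      · calc Nat.card C = Nat.card X * X.index := X.card_mul_index.symm
          _ = 2 * Nat.card (C ⧸ X) := by rw [hXc, Subgroup.index_eq_card]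
          _ ≤ c := Nat.mul_le_mul_left _ hQ
      · rintro _ ⟨u, hu, rfl⟩ _ ⟨v, hv, rfl⟩
        rw [← map_mul, ← map_mul]
        exact congrArg _ (Subtype.ext (hc' _ hu _ hv))
      · rintro _ ⟨u, hu, rfl⟩
        rw [← map_mul, show u * u = 1 from Subtype.ext (h2' _ hu), map_one]
      · have h := ((QuotientGroup.mk' X).comp (E'.subgroupOf C).subtype).ker.card_mul_index
        rw [Subgroup.index_ker, MonoidHom.range_eq_map, ← Subgroup.map_map,
          ← MonoidHom.range_eq_map, Subgroup.range_subtype, ← MonoidHom.comap_ker,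
          QuotientGroup.ker_mk',
          show Nat.card (X.comap (E'.subgroupOf C).subtype) = Nat.card X from
            Nat.card_congr (Subgroup.subgroupOfEquivOfLe
              (show X ≤ E'.subgroupOf C from Subgroup.zpowers_le.2 hx)).toEquiv,
          hXc, Nat.card_congr (Subgroup.subgroupOfEquivOfLe hle).toEquiv, hcard', pow_succ',
          mul_right_inj' two_ne_zero] at h
        exact h
    have hEp : IsPGroup 2 E := IsPGroup.of_card hEcard
    obtain ⟨P, hP⟩ := hEp.exists_le_sylow
    have hEall := key E hEc hE2 hEcard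
    obtain ⟨E0, hE0⟩ := Sylow.exists_subgroup_card_pow_prime (G := E) 2 (n := r + 1)
      (hEcard ▸ pow_dvd_pow 2 (Nat.le_succ _))
    -- two commuting involutions
    obtain ⟨e, he, he1⟩ : ∃ e ∈ E, e ≠ 1 := by
      by_contra h
      push Not at h
      rw [(Subgroup.eq_bot_iff_forall _).2 h, Subgroup.card_bot] at hEcard
      exact (Nat.one_lt_two_pow (Nat.succ_ne_zero (r + 1))).ne hEcard
    obtain ⟨f, hf, hf1, hfe⟩ : ∃ f ∈ E, f ≠ 1 ∧ f ≠ e := by
      by_contra h
      push Not at h
      have h4 : 4 ≤ Nat.card E := by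
        rw [hEcard, show (4 : ℕ) = 2 ^ 2 by norm_num]
        exact Nat.pow_le_pow_right (by norm_num) (by omega)
      have h2 : Nat.card E ≤ 2 := by
        rw [Nat.card_eq_fintype_card, Fintype.card_subtype]
        refine (Finset.card_le_card (t := {1, e}) fun g hg => ?_).trans Finset.card_le_two
        by_cases hg1 : g = 1
        · simp [hg1]
        · simp [h g (Finset.mem_filter.1 hg).2 hg1]
      omega
    refine Cfsg.Lib.BrauerFowler.card_le_of_centralizers a c ha P (hE2 e he) he1 (hE2 f hf) hf1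
      (hEc e he f hf) hfe.symm (hEall e he he1) (hEall f hf hf1)
      (hEall _ (mul_mem he hf) fun h => hfe (by
        rw [eq_inv_of_mul_eq_one_right h, inv_eq_of_mul_eq_one_right (hE2 e he)])) ?_
    intro x hxP hxo hxc
    by_cases hxE : x ∈ E
    · exact hEall x hxE (fun h => by rw [h, orderOf_one] at hxo; omega)
    set F := E0.map E.subtype with hF
    have hFE : F ≤ E := Subgroup.map_subtype_le _
    have hFc : Nat.card F = 2 ^ (r + 1) := by
      rw [hF, Subgroup.card_map_of_injective (Subgroup.subtype_injective _), hE0]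
    have hx2 : x * x = 1 := by rw [← pow_two, ← hxo, pow_orderOf_eq_one]
    have hxF : ∀ y ∈ F, y * x = x * y := fun y hy => hxc y (hP (hFE hy))
    have hnorm : Subgroup.zpowers x ≤ Subgroup.normalizer (F : Set G) := by
      rw [Subgroup.zpowers_le, Subgroup.mem_set_normalizer_iff]
      intro y
      refine ⟨fun hy => ?_, fun hy => ?_⟩
      · rw [← hxF y hy, mul_inv_cancel_right]; exact hy
      · have := hxF _ hy
        rw [show y = x⁻¹ * (x * y * x⁻¹) * x by group, mul_assoc, this, inv_mul_cancel_left]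
        exact hy
    have hxpow : ∀ k ∈ Subgroup.zpowers x, k = 1 ∨ k = x := by
      intro k hk
      obtain ⟨i, hi, rfl⟩ := mem_zpowers_iff_mem_range_orderOf.1 hk |> Finset.mem_image.1
      rw [hxo, Finset.mem_range] at hi
      interval_cases i
      · exact Or.inl (pow_zero x)
      · exact Or.inr (pow_one x)
    have hmem : ∀ y ∈ F ⊔ Subgroup.zpowers x, ∃ u ∈ F, y = u ∨ y = u * x := by
      intro y hy
      obtain ⟨u, hu, k, hk, rfl⟩ := (Cfsg.Lib.Coprime.mem_sup_of_le_normalizer hnorm).1 hy
      rcases hxpow k hk with rfl | rfl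
      · exact ⟨u, hu, Or.inl (mul_one u)⟩
      · exact ⟨u, hu, Or.inr rfl⟩
    refine key (F ⊔ Subgroup.zpowers x) ?_ ?_ ?_ x
      ((le_sup_right : _ ≤ F ⊔ Subgroup.zpowers x) (Subgroup.mem_zpowers x))
      (fun h => by rw [h, orderOf_one] at hxo; omega)
    · intro y hy z hz
      obtain ⟨u, hu, hyu⟩ := hmem y hy
      obtain ⟨v, hv, hzv⟩ := hmem z hz
      have huv : Commute u v := hEc u (hFE hu) v (hFE hv)
      have hux : Commute u x := hxF u hu
      have hvx : Commute v x := hxF v hv
      rcases hyu with rfl | rfl <;> rcases hzv with rfl | rfl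
      · exact huv.eq
      · exact (huv.mul_right hux).eq
      · exact (huv.mul_left hvx.symm).eq
      · exact ((huv.mul_left hvx.symm).mul_right (hux.mul_left (Commute.refl x))).eq
    · intro y hy
      obtain ⟨u, hu, hyu⟩ := hmem y hy
      rcases hyu with rfl | rfl
      · exact hE2 y (hFE hu)
      · rw [(Commute.symm (hxF u hu)).mul_mul_mul_comm, hE2 u (hFE hu), hx2, mul_one]
    · rw [Cfsg.Lib.Coprime.card_sup_of_inf_eq_bot hnorm ((Subgroup.eq_bot_iff_forall _).2 ?_), hFc,
        Nat.card_zpowers, hxo, ← pow_succ]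
      rintro y ⟨hyF, hyx⟩
      rcases hxpow y hyx with rfl | rfl
      · rfl
      · exact absurd (hFE hyF) hxE

end Cfsg.Lib.Blocks
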