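import Mathlib
import Cfsg.Agent.Jordan.Close
import Cfsg.Agent.Chars.Construct
import Cfsg.Agent.Chars.Induced

/-!
# Primitive faithful characters of degree two

The group modulo its centre permutes the projective line and every non-trivial element fixes exactly
two points. Counting the fixed points leaves the orders 12, 24 and 60.
-/

set_option autoImplicit false
set_option linter.unusedSectionVars false

namespace Cfsg.Lib.DegreeTwo

open Cfsg.Lib.Chars

/-- The arithmetic of three orbits. -/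
theorem three_orbits {N : ℕ} (q : Fin 3 → ℕ) (hdvd : ∀ i, q i ∣ N) (hle : ∀ i, 2 * q i ≤ N)
    (hpos : ∀ i, 0 < q i) (hsum : q 0 + q 1 + q 2 = N + 2) :
    (∃ i, q i = 2) ∨ N = 12 ∨ N = 24 ∨ N = 60 := by
  have key : ∀ a b c : ℕ, a ∣ N → b ∣ N → c ∣ N → 2 * a ≤ N → 2 * b ≤ N → 2 * c ≤ N → 0 < a → 0 < b → 0 < c →
      b ≤ a → c ≤ b → a + b + c = N + 2 → c = 2 ∨ b = 2 ∨ N = 12 ∨ N = 24 ∨ N = 60 := by
    intro a b c ha hb hc ha2 hb2 hc2 a0 b0 c0 hba hcb hs
    obtain ⟨x, hx⟩ := ha; obtain ⟨y, hy⟩ := hb; obtain ⟨z, hz⟩ := hc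
    have hx2 : 2 ≤ x := Nat.le_of_mul_le_mul_left (by rw [← hx, mul_comm]; exact ha2) a0
    have hy2 : 2 ≤ y := Nat.le_of_mul_le_mul_left (by rw [← hy, mul_comm]; exact hb2) b0
    have hz2 : 2 ≤ z := Nat.le_of_mul_le_mul_left (by rw [← hz, mul_comm]; exact hc2) c0
    have hx3 : x < 3 := by
      by_contra h
      have : a * 3 ≤ a * x := Nat.mul_le_mul_left _ (by omega)
      omega
    obtain rfl : x = 2 := by omega
    have hy4 : y < 4 := by
      by_contra h
      have : b * 4 ≤ b * y := Nat.mul_le_mul_left _ (by omega)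
      omega
    obtain rfl | rfl : y = 2 ∨ y = 3 := by omega
    · left; omega
    have hz6 : z < 6 := by
      by_contra h
      have : c * 6 ≤ c * z := Nat.mul_le_mul_left _ (by omega)
      omega
    interval_cases z <;> omega
  have a := hdvd 0; have b := hdvd 1; have c := hdvd 2
  have a' := hle 0; have b' := hle 1; have c' := hle 2
  have a0 := hpos 0; have b0 := hpos 1; have c0 := hpos 2
  have fin : ∀ i j : Fin 3, (q i = 2 ∨ q j = 2 ∨ N = 12 ∨ N = 24 ∨ N = 60) →
      (∃ k, q k = 2) ∨ N = 12 ∨ N = 24 ∨ N = 60 := fun i j h => by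
    rcases h with h | h | h
    · exact Or.inl ⟨i, h⟩
    · exact Or.inl ⟨j, h⟩
    · exact Or.inr h
  rcases le_total (q 1) (q 0) with h01 | h01 <;> rcases le_total (q 2) (q 1) with h12 | h12 <;>
    rcases le_total (q 2) (q 0) with h02 | h02
  · exact fin 2 1 (key _ _ _ a b c a' b' c' a0 b0 c0 h01 h12 hsum)
  · exact fin 2 1 (key _ _ _ a b c a' b' c' a0 b0 c0 h01 h12 hsum)
  · exact fin 1 2 (key _ _ _ a c b a' c' b' a0 c0 b0 h02 h12 (by omega))
  · exact fin 1 0 (key _ _ _ c a b c' a' b' c0 a0 b0 h02 h01 (by omega))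
  · exact fin 2 0 (key _ _ _ b a c b' a' c' b0 a0 c0 h01 h02 (by omega))
  · exact fin 0 2 (key _ _ _ b c a b' c' a' b0 c0 a0 h12 h02 (by omega))
  · exact fin 0 1 (key _ _ _ c b a c' b' a' c0 b0 a0 h12 h01 (by omega))
  · exact fin 0 1 (key _ _ _ c b a c' b' a' c0 b0 a0 h12 h01 (by omega))

universe u

variable {G : Type u} [Group G] [Fintype G] (ρ : Representation ℂ G (Fin 2 → ℂ))

/-- The line `L` is mapped to itself by `g`. -/
def Fixes (g : G) (L : Submodule ℂ (Fin 2 → ℂ)) : Prop := L.map (ρ g) = L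

theorem map_map_rep (g h : G) (L : Submodule ℂ (Fin 2 → ℂ)) : (L.map (ρ h)).map (ρ g) = L.map (ρ (g * h)) := by
  rw [← Submodule.map_comp, map_mul, Module.End.mul_eq_comp]

theorem map_one_rep (L : Submodule ℂ (Fin 2 → ℂ)) : L.map (ρ 1) = L := by
  rw [map_one, Module.End.one_eq_id, Submodule.map_id]

theorem map_span_rep (g : G) (v : Fin 2 → ℂ) : (ℂ ∙ v).map (ρ g) = ℂ ∙ ρ g v := by
  rw [Submodule.map_span, Set.image_singleton]

theorem ne_zero_rep (g : G) {v : Fin 2 → ℂ} (hv : v ≠ 0) : ρ g v ≠ 0 := fun h => hv (by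
  have := congrArg (ρ g⁻¹) h
  rwa [← Module.End.mul_apply, ← map_mul, inv_mul_cancel, map_one, map_zero, Module.End.one_apply] at this)

theorem fixes_span {g : G} {v : Fin 2 → ℂ} {a : ℂ} (hv : v ≠ 0) (h : ρ g v = a • v) :
    Fixes ρ g (ℂ ∙ v) := by
  have ha : a ≠ 0 := fun e => ne_zero_rep ρ g hv (by rw [h, e, zero_smul])
  rw [Fixes, map_span_rep, h, Submodule.span_singleton_smul_eq (IsUnit.mk0 a ha)]

theorem eigen_of_fixes {g : G} {v : Fin 2 → ℂ} (h : Fixes ρ g (ℂ ∙ v)) : ∃ a : ℂ, ρ g v = a • v := by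
  have h1 : ρ g v ∈ (ℂ ∙ v).map (ρ g) := Submodule.mem_map_of_mem (Submodule.mem_span_singleton_self v)
  rw [h] at h1
  obtain ⟨a, ha⟩ := Submodule.mem_span_singleton.1 h1
  exact ⟨a, ha.symm⟩

/-- An element is scalar, or fixes exactly two lines. -/
theorem scalar_or_two (g : G) :
    (∃ a : ℂ, ∀ v, ρ g v = a • v) ∨ ∃ v w : Fin 2 → ℂ, v ≠ 0 ∧ w ≠ 0 ∧ (ℂ ∙ v) ≠ (ℂ ∙ w) ∧
      Fixes ρ g (ℂ ∙ v) ∧ Fixes ρ g (ℂ ∙ w) ∧
      ∀ u : Fin 2 → ℂ, u ≠ 0 → Fixes ρ g (ℂ ∙ u) → (ℂ ∙ u) = (ℂ ∙ v) ∨ (ℂ ∙ u) = (ℂ ∙ w) := by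
  classical
  set m := orderOf g
  have hm : m ≠ 0 := (orderOf_pos g).ne'
  have hg : g ^ m = 1 := pow_orderOf_eq_one g
  set ζ := Complex.exp (2 * Real.pi * Complex.I / m)
  have hζ : IsPrimitiveRoot ζ m := Complex.isPrimitiveRoot_exp m hm
  have hpow : ∀ j, (ζ ^ j) ^ m = 1 := fun j => by
    rw [← pow_mul, mul_comm, pow_mul, hζ.pow_eq_one, one_pow]
  set p : ℕ → Module.End ℂ (Fin 2 → ℂ) := fun j => Cfsg.Lib.Jordan.proj ρ g m (ζ ^ j) with hp
  have hev : ∀ j v, ρ g (p j v) = ζ ^ j • p j v := fun j v => Cfsg.Lib.Jordan.rep_proj ρ hg (hpow j) v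
  have hsum : ∀ v, ∑ j ∈ Finset.range m, p j v = v := fun v => Cfsg.Lib.Jordan.sum_proj ρ hm hζ v
  by_cases hone : ∃ j₀, ∀ j ∈ Finset.range m, j ≠ j₀ → ∀ v, p j v = 0
  · obtain ⟨j₀, h₀⟩ := hone
    left
    refine ⟨ζ ^ j₀, fun v => ?_⟩
    have h2 : ∑ j ∈ Finset.range m, ρ g (p j v) = ∑ j ∈ Finset.range m, ζ ^ j₀ • p j v := by
      refine Finset.sum_congr rfl fun j hj => ?_
      by_cases e : j = j₀
      · rw [e, hev]
      · rw [h₀ j hj e v, map_zero, smul_zero]
    rwa [← map_sum, ← Finset.smul_sum, hsum] at h2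
  · push Not at hone
    right
    obtain ⟨i, hi, -, x, hx⟩ := hone m
    obtain ⟨j, hj, hji, y, hy⟩ := hone i
    set v := p i x
    set w := p j y
    have hne : ζ ^ i ≠ ζ ^ j := fun e => hji (hζ.pow_inj (Finset.mem_range.1 hj) (Finset.mem_range.1 hi) e.symm)
    have hv := hev i x
    have hw := hev j y
    have hli : LinearIndependent ℂ ![v, w] := by
      refine (LinearIndependent.pair_iff' hx).2 fun a ha => ?_
      have h1 : ζ ^ j • w = ζ ^ i • w := by
        calc ζ ^ j • w = ρ g w := hw.symm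
          _ = ρ g (a • v) := by rw [ha]
          _ = a • (ζ ^ i • v) := by rw [map_smul, hv]
          _ = ζ ^ i • w := by rw [smul_comm, ha]
      exact hne (smul_left_injective ℂ hy h1).symm
    refine ⟨v, w, hx, hy, fun e => ?_, fixes_span ρ hx hv, fixes_span ρ hy hw, fun u hu hfix => ?_⟩
    · obtain ⟨a, ha⟩ := Submodule.mem_span_singleton.1 (e ▸ Submodule.mem_span_singleton_self w : w ∈ ℂ ∙ v)
      exact (LinearIndependent.pair_iff' hx).1 hli a ha
    · obtain ⟨c, hc⟩ := eigen_of_fixes ρ hfix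
      have hspan : Submodule.span ℂ (Set.range ![v, w]) = ⊤ :=
        hli.span_eq_top_of_card_eq_finrank (by simp)
      have hmem : u ∈ Submodule.span ℂ ({v, w} : Set (Fin 2 → ℂ)) := by
        have : u ∈ (⊤ : Submodule ℂ (Fin 2 → ℂ)) := trivial
        rwa [← hspan, Matrix.range_cons_cons_empty] at this
      obtain ⟨a, b, hab⟩ := Submodule.mem_span_pair.1 hmem
      have e0 : (a * (ζ ^ i - c)) • v + (b * (ζ ^ j - c)) • w = 0 := by
        rw [← hab, map_add, map_smul, map_smul, hv, hw] at hc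
        rw [← sub_eq_zero] at hc
        rw [← hc]
        module
      obtain ⟨e1, e2⟩ := LinearIndependent.pair_iff.1 hli _ _ e0
      rcases mul_eq_zero.1 e1 with rfl | e1
      · right
        rw [zero_smul, zero_add] at hab
        rw [← hab, Submodule.span_singleton_smul_eq (IsUnit.mk0 b fun e => hu (by rw [← hab, e, zero_smul]))]
      · rcases mul_eq_zero.1 e2 with rfl | e2
        · left
          rw [zero_smul, add_zero] at hab
          rw [← hab, Submodule.span_singleton_smul_eq (IsUnit.mk0 a fun e => hu (by rw [← hab, e, zero_smul]))]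
        · exact absurd ((sub_eq_zero.1 e1).trans (sub_eq_zero.1 e2).symm) hne

/-- **Primitive characters of degree two.** -/
theorem center_index (hirr : ρ.IsIrreducible) (hinj : Function.Injective ρ)
    (hprim : ∀ H : Subgroup G, H ≠ ⊤ → ∀ θ : H → ℂ, Cfsg.IsCharacter H θ → ρ.character ≠ Cfsg.indFun H θ) :
    (Subgroup.center G).index = 12 ∨ (Subgroup.center G).index = 24 ∨ (Subgroup.center G).index = 60 := by
  classical
  set Z := Subgroup.center G with hZ
  -- scalars are the central elements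
  have hscal : ∀ g, (∃ a : ℂ, ∀ v, ρ g v = a • v) ↔ g ∈ Z := by
    intro g
    constructor
    · rintro ⟨a, ha⟩
      refine Subgroup.mem_center_iff.2 fun h => hinj (LinearMap.ext fun v => ?_)
      simp only [map_mul, Module.End.mul_apply, ha, map_smul]
    · intro hg
      obtain ⟨a, ha⟩ := schur_scalar ρ (ρ g) fun x v => by
        rw [← Module.End.mul_apply, ← map_mul, ← Subgroup.mem_center_iff.1 hg x, map_mul, Module.End.mul_apply]
      exact ⟨a, fun v => by rw [ha]; rfl⟩
  -- no line is invariant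
  have hnoline : ∀ v : Fin 2 → ℂ, v ≠ 0 → ∃ g, ¬ Fixes ρ g (ℂ ∙ v) := by
    intro v hv
    by_contra hall
    push Not at hall
    let W : Subrepresentation ρ := ⟨ℂ ∙ v, fun g x hx => by
      have h1 : ρ g x ∈ (ℂ ∙ v).map (ρ g) := Submodule.mem_map_of_mem hx
      rwa [hall g] at h1⟩
    rcases hirr.eq_bot_or_eq_top W with e | e
    · have : (ℂ ∙ v) = ⊥ := congrArg Subrepresentation.toSubmodule e
      exact hv (Submodule.span_singleton_eq_bot.1 this)
    · have : (ℂ ∙ v) = ⊤ := congrArg Subrepresentation.toSubmodule e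
      have h1 := congrArg (fun S : Submodule ℂ (Fin 2 → ℂ) => Module.finrank ℂ S) this
      simp [finrank_span_singleton hv] at h1
  -- the points with non-trivial stabiliser
  choose! V W hV0 hW0 hVW hfV hfW honly using fun (g : G) (hg : g ∉ Z) =>
    (scalar_or_two ρ g).resolve_left fun h => hg ((hscal g).1 h)
  set P : Finset (Submodule ℂ (Fin 2 → ℂ)) :=
    (Finset.univ.filter (fun g => g ∉ Z)).biUnion (fun g => {(ℂ ∙ V g), (ℂ ∙ W g)}) with hP
  have hPline : ∀ L ∈ P, ∃ v, v ≠ 0 ∧ L = ℂ ∙ v ∧ ∃ g, g ∉ Z ∧ Fixes ρ g L := by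
    intro L hL
    simp only [hP, Finset.mem_biUnion, Finset.mem_filter, Finset.mem_univ, true_and, Finset.mem_insert,
      Finset.mem_singleton] at hL
    obtain ⟨g, hg, rfl | rfl⟩ := hL
    · exact ⟨_, hV0 g hg, rfl, g, hg, hfV g hg⟩
    · exact ⟨_, hW0 g hg, rfl, g, hg, hfW g hg⟩
  have hPmem : ∀ g, g ∉ Z → ∀ v, v ≠ 0 → Fixes ρ g (ℂ ∙ v) → (ℂ ∙ v) ∈ P := by
    intro g hg v hv hf
    simp only [hP, Finset.mem_biUnion, Finset.mem_filter, Finset.mem_univ, true_and, Finset.mem_insert,
      Finset.mem_singleton]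
    exact ⟨g, hg, honly g hg v hv hf⟩
  have hsmul : ∀ (g : G), ∀ L ∈ P, L.map (ρ g) ∈ P := by
    intro g L hL
    obtain ⟨v, hv, rfl, h, hh, hfix⟩ := hPline L hL
    rw [map_span_rep]
    refine hPmem (g * h * g⁻¹) (fun e => hh ?_) _ (ne_zero_rep ρ g hv) ?_
    · have := Subgroup.Normal.conj_mem inferInstance _ e g⁻¹
      simpa [mul_assoc] using this
    · show (ℂ ∙ ρ g v).map (ρ (g * h * g⁻¹)) = _
      rw [← map_span_rep, map_map_rep, inv_mul_cancel_right, ← map_map_rep, hfix]
  letI : MulAction G {L // L ∈ P} :=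
    { smul := fun g L => ⟨L.1.map (ρ g), hsmul g L.1 L.2⟩
      one_smul := fun L => Subtype.ext (map_one_rep ρ L.1)
      mul_smul := fun g h L => Subtype.ext (map_map_rep ρ g h L.1).symm }
  have hstab : ∀ (g : G) (L : {L // L ∈ P}), g ∈ MulAction.stabilizer G L ↔ Fixes ρ g L.1 := fun g L => by
    rw [MulAction.mem_stabilizer_iff, Subtype.ext_iff]; rfl
  have hZst : ∀ L : {L // L ∈ P}, Z ≤ MulAction.stabilizer G L := fun L g hg => by
    obtain ⟨a, ha⟩ := (hscal g).2 hg
    obtain ⟨v, hv, hLv, -⟩ := hPline L.1 L.2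
    rw [hstab, hLv]
    exact fixes_span ρ hv (ha v)
  have hlt : ∀ L : {L // L ∈ P}, Z < MulAction.stabilizer G L := fun L => by
    obtain ⟨-, -, -, g, hg, hf⟩ := hPline L.1 L.2
    exact lt_of_le_of_ne (hZst L) fun e => hg (by rw [e, hstab]; exact hf)
  -- counting
  set N := Z.index
  set z := Nat.card Z
  have hzpos : 0 < z := Nat.card_pos
  have hGN : Nat.card G = z * N := (Subgroup.card_mul_index Z).symm
  set f : {L // L ∈ P} → ℕ := fun L => Nat.card (MulAction.stabilizer G L) - z with hf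
  have hcount : ∑ L : {L // L ∈ P}, f L = 2 * (Nat.card G - z) := by
    have h1 : ∀ L : {L // L ∈ P}, f L =
        ((Finset.univ.filter (fun g => g ∉ Z)).filter (fun g => Fixes ρ g L.1)).card := by
      intro L
      have h2 : (Finset.univ.filter (fun g => g ∈ MulAction.stabilizer G L)).card =
          Nat.card (MulAction.stabilizer G L) := by
        rw [Nat.card_eq_fintype_card, Fintype.card_subtype]
      have h3 : (Finset.univ.filter (fun g => g ∈ Z)).card = z := by
        show _ = Nat.card Z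
        rw [Nat.card_eq_fintype_card, Fintype.card_subtype]
      show Nat.card (MulAction.stabilizer G L) - z = _
      rw [← h2, ← h3, ← Finset.card_sdiff_of_subset (fun g hg =>
        Finset.mem_filter.2 ⟨Finset.mem_univ _, hZst L (Finset.mem_filter.1 hg).2⟩)]
      congr 1
      ext g
      simp only [Finset.mem_sdiff, Finset.mem_filter, Finset.mem_univ, true_and, hstab]
      tauto
    simp only [h1, Finset.card_filter]
    rw [Finset.sum_comm]
    rw [Finset.sum_congr rfl (g := fun _ => 2) fun g hg => ?_]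
    · rw [Finset.sum_const, smul_eq_mul, mul_comm]
      congr 1
      rw [Finset.filter_not, Finset.card_univ_diff, Nat.card_eq_fintype_card]
      congr 1
      show _ = Nat.card Z
      rw [Nat.card_eq_fintype_card, Fintype.card_subtype]
    · have hg' : g ∉ Z := (Finset.mem_filter.1 hg).2
      rw [← Finset.card_filter]
      have : (Finset.univ.filter fun L : {L // L ∈ P} => Fixes ρ g L.1) =
          {⟨_, hPmem g hg' _ (hV0 g hg') (hfV g hg')⟩, ⟨_, hPmem g hg' _ (hW0 g hg') (hfW g hg')⟩} := by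
        ext L
        simp only [Finset.mem_filter, Finset.mem_univ, true_and, Finset.mem_insert, Finset.mem_singleton,
          Subtype.ext_iff]
        constructor
        · intro hL
          obtain ⟨v, hv, hLv, -⟩ := hPline L.1 L.2
          rw [hLv] at hL ⊢
          exact honly g hg' v hv hL
        · rintro (e | e) <;> rw [e]
          · exact hfV g hg'
          · exact hfW g hg'
      rw [this, Finset.card_pair (fun e => hVW g hg' (congrArg Subtype.val e))]
  let Ω := MulAction.orbitRel.Quotient G {L // L ∈ P}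
  haveI : Fintype Ω := Fintype.ofFinite _
  set q : Ω → ℕ := fun ω => (MulAction.stabilizer G ω.out).index with hq
  have horb : ∀ ω : Ω, q ω ∣ N ∧ 2 * q ω ≤ N ∧ 0 < q ω := by
    intro ω
    have hd : q ω ∣ N := Subgroup.index_dvd_of_le (hlt _).le
    have hlt' : q ω < N := Subgroup.index_strictAnti (hlt _)
    obtain ⟨k, hk⟩ := hd
    have hq0 : 0 < q ω := Nat.pos_of_ne_zero Subgroup.index_ne_zero_of_finite
    have hk2 : 2 ≤ k := by
      by_contra hk'
      have : q ω * k ≤ q ω * 1 := Nat.mul_le_mul_left _ (by omega)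
      omega
    refine ⟨⟨k, hk⟩, ?_, hq0⟩
    rw [hk, mul_comm]
    exact Nat.mul_le_mul_left _ hk2
  have hsum : ∑ ω : Ω, (N - q ω) = 2 * (N - 1) := by
    have h1 : ∑ L : {L // L ∈ P}, f L = ∑ ω : Ω, z * (N - q ω) := by
      rw [← Finset.sum_fiberwise_of_maps_to (g := (Quotient.mk'' : _ → Ω)) (t := Finset.univ)
        (fun L _ => Finset.mem_univ _)]
      refine Finset.sum_congr rfl fun ω _ => ?_
      have hmem : ∀ L : {L // L ∈ P}, L ∈ Finset.univ.filter (fun L => (Quotient.mk'' L : Ω) = ω) ↔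
          L ∈ MulAction.orbit G ω.out := by
        intro L
        rw [Finset.mem_filter]
        simp only [Finset.mem_univ, true_and]
        constructor
        · intro e
          rw [← MulAction.orbitRel_apply]
          exact Quotient.exact (e.trans (Quotient.out_eq' ω).symm)
        · intro e
          rw [← MulAction.orbitRel_apply] at e
          exact (Quotient.sound e).trans (Quotient.out_eq' ω)
      have hconst : ∀ L ∈ Finset.univ.filter (fun L => (Quotient.mk'' L : Ω) = ω), f L = f ω.out := by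
        intro L hL
        obtain ⟨g, rfl⟩ := (hmem L).1 hL
        show Nat.card (MulAction.stabilizer G (g • ω.out)) - z = Nat.card (MulAction.stabilizer G ω.out) - z
        rw [MulAction.stabilizer_smul_eq_stabilizer_map_conj,
          Subgroup.card_map_of_injective (MulEquiv.injective _)]
      rw [Finset.sum_congr rfl hconst, Finset.sum_const, smul_eq_mul]
      have hcard : (Finset.univ.filter (fun L => (Quotient.mk'' L : Ω) = ω)).card = q ω := by
        rw [hq]
        simp only []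
        rw [MulAction.index_stabilizer, ← Set.ncard_coe_finset]
        congr 1
        ext L
        exact hmem L
      rw [hcard]
      show q ω * (Nat.card (MulAction.stabilizer G ω.out) - z) = _
      rw [Nat.mul_sub, Nat.mul_sub, mul_comm (q ω), mul_comm (q ω) z]
      congr 1
      rw [hq]
      simp only []
      rw [Subgroup.card_mul_index, hGN]
    rw [hcount, hGN, show z * N - z = z * (N - 1) by rw [Nat.mul_sub, mul_one], ← Finset.mul_sum, ← mul_assoc,
      mul_comm 2, mul_assoc] at h1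
    exact (Nat.eq_of_mul_eq_mul_left hzpos h1).symm
  have hN2 : 2 ≤ N := by
    by_contra h
    have h0 : N ≠ 0 := Subgroup.index_ne_zero_of_finite
    have htop : Z = ⊤ := Subgroup.index_eq_one.1 (show N = 1 by omega)
    obtain ⟨g, hg⟩ := hnoline ![1, 0] (fun e => one_ne_zero (congrFun e 0))
    obtain ⟨a, ha⟩ := (hscal g).2 (htop ▸ Subgroup.mem_top g)
    exact hg (fixes_span ρ (fun e => one_ne_zero (congrFun e 0)) (ha _))
  have hno1 : ∀ ω : Ω, q ω ≠ 1 := by
    intro ω e
    rw [hq] at e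
    obtain ⟨v, hv, hLv, -⟩ := hPline ω.out.1 ω.out.2
    obtain ⟨g, hg⟩ := hnoline v hv
    refine hg (hLv ▸ (hstab g ω.out).1 ?_)
    rw [Subgroup.index_eq_one.1 e]
    exact Subgroup.mem_top g
  have hr : Fintype.card Ω = 3 := by
    have hlo : ∀ ω, N ≤ 2 * (N - q ω) ∧ N - q ω ≤ N - 2 := fun ω => by
      obtain ⟨-, h2, h3⟩ := horb ω
      have := hno1 ω
      omega
    have h1 : Fintype.card Ω * N ≤ 2 * (2 * (N - 1)) := by
      rw [← hsum, Finset.mul_sum, ← Finset.card_univ, ← smul_eq_mul, ← Finset.sum_const]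
      exact Finset.sum_le_sum fun ω _ => (hlo ω).1
    have h2 : 2 * (N - 1) ≤ Fintype.card Ω * (N - 2) := by
      rw [← hsum, ← Finset.card_univ, ← smul_eq_mul, ← Finset.sum_const]
      exact Finset.sum_le_sum fun ω _ => (hlo ω).2
    by_contra hne
    rcases lt_or_gt_of_ne hne with hl | hl
    · have : Fintype.card Ω * (N - 2) ≤ 2 * (N - 2) := Nat.mul_le_mul_right _ (by omega)
      omega
    · have : 4 * N ≤ Fintype.card Ω * N := Nat.mul_le_mul_right _ (by omega)
      omega
  set e := (Fintype.equivFinOfCardEq hr).symm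
  rw [← e.sum_comp, Fin.sum_univ_three] at hsum
  obtain ⟨⟨i, hi⟩⟩ | hN : Nonempty {i // q (e i) = 2} ∨ (N = 12 ∨ N = 24 ∨ N = 60) := by
    rcases three_orbits (N := N) (fun i => q (e i)) (fun i => (horb _).1) (fun i => (horb _).2.1)
      (fun i => (horb _).2.2) (by
        have := (horb (e 0)).2.1; have := (horb (e 1)).2.1; have := (horb (e 2)).2.1
        omega) with ⟨i, hi⟩ | h
    · exact Or.inl ⟨⟨i, hi⟩⟩
    · exact Or.inr h
  swap
  · exact hN
  -- an orbit of two points: the character is induced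
  exfalso
  set L := (e i).out
  set K := MulAction.stabilizer G L with hK
  have hK2 : K.index = 2 := hi
  haveI : K.Normal := Subgroup.normal_of_index_eq_two hK2
  obtain ⟨v, hv, hLv, -⟩ := hPline L.1 L.2
  have hKfix : ∀ k, k ∈ K ↔ Fixes ρ k (ℂ ∙ v) := fun k => by rw [hK, hstab, hLv]
  obtain ⟨t, ht⟩ := hnoline v hv
  have htK : t ∉ K := fun h => ht ((hKfix t).1 h)
  set w := ρ t v
  have hli : LinearIndependent ℂ ![v, w] := by
    refine (LinearIndependent.pair_iff' hv).2 fun a ha => ht (fixes_span ρ hv (a := a) ha.symm)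
  set b := basisOfLinearIndependentOfCardEqFinrank hli (by simp)
  choose lam hlam using fun k : K => eigen_of_fixes ρ ((hKfix k).1 k.2)
  have hlam1 : lam 1 = 1 := by
    have := hlam 1
    rw [Subgroup.coe_one, map_one, Module.End.one_apply] at this
    exact (smul_left_injective ℂ hv ((one_smul ℂ v).trans this)).symm
  have hlammul : ∀ x y, lam (x * y) = lam x * lam y := by
    intro x y
    refine smul_left_injective ℂ hv ?_
    show lam (x * y) • v = (lam x * lam y) • v
    rw [← hlam, Subgroup.coe_mul, map_mul, Module.End.mul_apply, hlam, map_smul, hlam, smul_smul, mul_comm]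
  let φ : K →* ℂˣ := MonoidHom.toHomUnits
    ({ toFun := lam, map_one' := hlam1, map_mul' := hlammul } : K →* ℂ)
  refine hprim K (fun h => htK (h ▸ Subgroup.mem_top t)) (fun k => (φ k : ℂ)) (isCharacter_linear φ) ?_
  funext g
  have htr : ∀ (f : Module.End ℂ (Fin 2 → ℂ)) (a c : ℂ) (x y : ℂ), f v = a • v + x • w → f w = y • v + c • w →
      LinearMap.trace ℂ _ f = a + c := by
    intro f a c x y h1 h2
    have hb0 : b 0 = v := by simp [b]
    have hb1 : b 1 = w := by simp [b]
    rw [LinearMap.trace_eq_matrix_trace ℂ b, Matrix.trace, Fin.sum_univ_two]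
    simp only [Matrix.diag_apply, LinearMap.toMatrix_apply, hb0, hb1, h1, h2]
    rw [← hb0, ← hb1]
    simp
  have hcard : (Nat.card G : ℂ) = 2 * (Nat.card K : ℂ) := by
    rw [← K.card_mul_index, hK2]; push_cast; ring
  show LinearMap.trace ℂ _ (ρ g) = (Nat.card K : ℂ)⁻¹ * ∑ x : G, extendByZero K (fun k => (φ k : ℂ)) (x⁻¹ * g * x)
  by_cases hg : g ∈ K
  · have hgt : t⁻¹ * g * t ∈ K := by
      simpa using Subgroup.Normal.conj_mem inferInstance g hg t⁻¹
    rw [htr (ρ g) (lam ⟨g, hg⟩) (lam ⟨_, hgt⟩) 0 0 (by rw [zero_smul, add_zero]; exact hlam ⟨g, hg⟩) (by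
      rw [zero_smul, zero_add]
      show ρ g (ρ t v) = _ • ρ t v
      rw [← map_smul, ← hlam ⟨_, hgt⟩, ← Module.End.mul_apply, ← map_mul, ← Module.End.mul_apply, ← map_mul]
      show ρ (g * t) v = ρ (t * (t⁻¹ * g * t)) v
      congr 2; group)]
    have hval : ∀ x : G, extendByZero K (fun k => (φ k : ℂ)) (x⁻¹ * g * x) =
        if x ∈ K then lam ⟨g, hg⟩ else lam ⟨_, hgt⟩ := by
      intro x
      have hgx : x⁻¹ * g * x ∈ K := by simpa using Subgroup.Normal.conj_mem inferInstance g hg x⁻¹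
      simp only [extendByZero]
      refine (Subtype.val_injective.extend_apply _ _ ⟨_, hgx⟩).trans ?_
      show lam ⟨_, hgx⟩ = _
      have key : ∀ (a : G) (k : K) (ha : a⁻¹ * (k : G) * a ∈ K), a ∈ K → lam ⟨_, ha⟩ = lam k := by
        intro a k ha haK
        have e : (⟨_, ha⟩ : K) = (⟨a, haK⟩ : K)⁻¹ * k * ⟨a, haK⟩ := rfl
        rw [e, hlammul, hlammul, mul_comm (lam _) (lam k), mul_assoc, ← hlammul, inv_mul_cancel, hlam1, mul_one]
      split_ifs with hx
      · exact key x ⟨g, hg⟩ hgx hx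
      · have hu : t⁻¹ * x ∈ K := by
          rw [Subgroup.mul_mem_iff_of_index_two hK2, inv_mem_iff]
          exact iff_of_false htK hx
        have e : (t⁻¹ * x)⁻¹ * (t⁻¹ * g * t) * (t⁻¹ * x) = x⁻¹ * g * x := by group
        have h2 := key (t⁻¹ * x) ⟨_, hgt⟩ (by rw [e]; exact hgx) hu
        rw [← h2]
        exact congrArg lam (Subtype.ext e.symm)
    rw [Finset.sum_congr rfl fun x _ => hval x, Finset.sum_ite, Finset.sum_const, Finset.sum_const,
      nsmul_eq_mul, nsmul_eq_mul]
    have h1 : (Finset.univ.filter (fun x : G => x ∈ K)).card = Nat.card K := by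
      rw [Nat.card_eq_fintype_card, Fintype.card_subtype]
    have h2 : ((Finset.univ.filter (fun x : G => x ∉ K)).card : ℂ) = Nat.card K := by
      rw [Finset.filter_not, Finset.card_univ_diff, h1, Nat.cast_sub (by
        rw [← Nat.card_eq_fintype_card]; exact Subgroup.card_le_card_group K), ← Nat.card_eq_fintype_card, hcard]
      ring
    have hne : (Nat.card K : ℂ) ≠ 0 := Nat.cast_ne_zero.2 Nat.card_pos.ne'
    rw [h1, h2, ← mul_add, ← mul_assoc, inv_mul_cancel₀ hne, one_mul]
  · rw [Finset.sum_eq_zero fun x _ => ?_, mul_zero]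
    swap
    · simp only [extendByZero]
      refine (Function.extend_apply' _ _ _ fun hex => hg ?_).trans rfl
      obtain ⟨a, ha⟩ := hex
      have h : x⁻¹ * g * x ∈ K := ha ▸ a.2
      have := Subgroup.Normal.conj_mem inferInstance _ h x
      simpa [mul_assoc] using this
    have hgt : t⁻¹ * g ∈ K := by
      rw [Subgroup.mul_mem_iff_of_index_two hK2, inv_mem_iff]
      exact iff_of_false htK hg
    have hgt' : g * t ∈ K := by
      rw [Subgroup.mul_mem_iff_of_index_two hK2]
      exact iff_of_false hg htK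
    rw [htr (ρ g) 0 0 (lam ⟨_, hgt⟩) (lam ⟨_, hgt'⟩) ?_ ?_, add_zero]
    · rw [zero_smul, zero_add]
      show ρ g v = _ • ρ t v
      rw [← map_smul, ← hlam ⟨_, hgt⟩, ← Module.End.mul_apply, ← map_mul, mul_inv_cancel_left]
    · rw [zero_smul, add_zero]
      show ρ g (ρ t v) = _
      rw [← hlam ⟨_, hgt'⟩, ← Module.End.mul_apply, ← map_mul]

end Cfsg.Lib.DegreeTwo
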