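import Mathlib
import Cfsg.Agent.Blocks.ItoDegrees
import Cfsg.Agent.Blocks.FongFullDefect
import Cfsg.Agent.SolvStruct.CoprimeOrbits
import Cfsg.Agent.Chars.Values
import Cfsg.Agent.Blocks.Quotient

/-!
# Derived length of a Sylow subgroup and the number of degrees divisible by `p`
-/

set_option autoImplicit false
set_option linter.unusedSectionVars false

namespace Cfsg.Lib.DerivedDegrees

open Cfsg.Lib.Chars Cfsg.Lib.Blocks
open scoped commutatorElement

universe u

variable {p : ℕ} [hp : Fact p.Prime]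

/-- Over an irreducible character of a subgroup lies one of the group. -/
theorem exists_over_subgroup {G : Type u} [Group G] [Fintype G] (T : Subgroup G) [Fintype T]
    {ψ : T → ℂ} (hψ : Cfsg.IsIrrCharacter T ψ) :
    ∃ χ : G → ℂ, Cfsg.IsIrrCharacter G χ ∧ Cfsg.classInner (fun t : T => χ t) ψ ≠ 0 := by
  by_contra h
  push Not at h
  have h0 := eq_zero_of_classInner_eq_zero (isClassFunction_indFun (G := G) T ψ) fun χ => by
    rw [← classInner_conj_symm, frobenius_reciprocity' T ψ (isClassFunction_irr χ), h χ χ.2, map_zero]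
  have h1 := congrFun h0 1
  rw [indFun_one, Pi.zero_apply, mul_eq_zero, Nat.cast_eq_zero] at h1
  exact h1.elim T.index_ne_zero_of_finite (IsIrrCharacter.apply_one_ne_zero hψ)

/-- If all characters over a nontrivial linear character of a normal abelian `p`-subgroup `A`
have `p'`-degree, the commutators of a Sylow subgroup lie in `A`. -/
theorem commutator_sylow_le {G : Type u} [Group G] [Fintype G] (hsol : Cfsg.IsPSolvable p G)
    (A : Subgroup G) [A.Normal] [Fintype A] (hA : IsPGroup p A) (lam : A →* ℂˣ)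
    (hall : ∀ χ : Cfsg.IrrCharacter G,
      Cfsg.classInner (fun a : A => (χ : G → ℂ) a) (fun a : A => (lam a : ℂ)) ≠ 0 →
      ¬ p ∣ deg (χ : G → ℂ))
    (P : Sylow p G) : ⁅(P : Subgroup G), (P : Subgroup G)⁆ ≤ A := by
  classical
  have hlam : Cfsg.IsIrrCharacter A (fun a : A => (lam a : ℂ)) := isIrrCharacter_linear lam
  set T := inertia A (fun a : A => (lam a : ℂ)) with hT
  have hAT : A ≤ T := le_inertia (isClassFunction_irr ⟨_, hlam⟩)
  letI := Fintype.ofFinite T
  obtain ⟨χ, hχ, hχc⟩ := exists_over A hlam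
  obtain ⟨ψ, hψ, hχψ, hψc⟩ := exists_constituent_over T hAT (isCharacter_of_irr hχ) hχc
  have hind : ∀ {ψ' χ' : _}, Cfsg.IsIrrCharacter T ψ' → Cfsg.IsIrrCharacter G χ' →
      Cfsg.classInner (fun t : T => χ' t) ψ' ≠ 0 →
      Cfsg.classInner (fun a : A => ψ' ⟨a, hAT a.2⟩) (fun a : A => (lam a : ℂ)) ≠ 0 →
      ¬ p ∣ T.index * deg ψ' := by
    intro ψ' χ' hψ' hχ' h1 h2
    obtain ⟨he, hm, -⟩ := clifford_correspondence hlam T hT hAT hχ' hψ' h1 h2
    have hd : deg χ' = T.index * deg ψ' := by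
      apply Nat.cast_injective (R := ℂ)
      rw [Nat.cast_mul, ← IsCharacter.apply_one_eq_deg (isCharacter_of_irr hχ'),
        ← IsCharacter.apply_one_eq_deg (isCharacter_of_irr hψ'), ← he]
      exact indFun_one T ψ'
    rw [← hd]
    exact hall ⟨χ', hχ'⟩ (by rw [← hm]; exact h2)
  have hψp := hind hψ hχ hχψ hψc
  have hTi : ¬ p ∣ T.index := fun h => hψp (h.mul_right _)
  have hψd : ¬ p ∣ deg ψ := fun h => hψp (h.mul_left _)
  -- the restriction to `A` is scalar
  obtain ⟨e, -, he⟩ := restrict_of_le_inertia A hlam T hAT le_rfl hψ hψc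
  have hed : e = deg ψ := by
    have h1 := congrFun he 1
    simp only [Pi.smul_apply, map_one, Units.val_one, smul_eq_mul, mul_one, OneMemClass.coe_one] at h1
    rw [show (⟨1, T.one_mem⟩ : T) = 1 from rfl, IsCharacter.apply_one_eq_deg (isCharacter_of_irr hψ)] at h1
    exact_mod_cast h1.symm
  obtain ⟨m, ρ, hρ, hρψ⟩ := hψ
  have hm : m = deg ψ := by
    apply Nat.cast_injective (R := ℂ)
    rw [← IsCharacter.apply_one_eq_deg (isCharacter_of_irr ⟨m, ρ, hρ, hρψ⟩)]
    rw [← hρψ, ρ.char_one, Module.finrank_fin_fun]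
  have hm0 : m ≠ 0 := fun h => hψd (hm ▸ h ▸ dvd_zero p)
  have hscal : ∀ a : A, ρ ⟨a, hAT a.2⟩ = (lam a : ℂ) • LinearMap.id := by
    intro a
    have hv : ψ ⟨a, hAT a.2⟩ = (e : ℂ) * (lam a : ℂ) := congrFun he a
    have hl : ‖(lam a : ℂ)‖ = 1 := by
      refine Complex.norm_eq_one_of_pow_eq_one (n := Nat.card A) ?_ Nat.card_pos.ne'
      rw [← Units.val_pow_eq_pow_val, ← map_pow, pow_card_eq_one', map_one, Units.val_one]
    obtain ⟨ω, hω, -⟩ := scalar_of_norm_character_eq ρ ⟨a, hAT a.2⟩ (by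
      rw [hρψ, hv, norm_mul, hl, mul_one, Complex.norm_natCast, Module.finrank_fin_fun, hm, hed])
    have h2 : ρ.character ⟨a, hAT a.2⟩ = ω * (m : ℂ) := by
      rw [Representation.character, hω, map_smul, smul_eq_mul, LinearMap.trace_id,
        Module.finrank_fin_fun]
    rw [hρψ, hv, hed, ← hm, mul_comm] at h2
    rw [hω, mul_right_cancel₀ (Nat.cast_ne_zero.2 hm0) h2]
  -- a linear extension
  obtain ⟨k, hk⟩ := IsPGroup.iff_card.1 hA
  obtain ⟨e', he'⟩ := Nat.exists_mul_mod_eq_one_of_coprime (n := m) (k := p ^ (k + 1))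
    (((hp.out.coprime_iff_not_dvd.2 (hm ▸ hψd)).symm).pow_right _)
    (Nat.one_lt_pow k.succ_ne_zero hp.out.one_lt)
  set μ : T →* ℂˣ := (((LinearMap.det : ((Fin m → ℂ) →ₗ[ℂ] (Fin m → ℂ)) →* ℂ)).comp ρ).toHomUnits ^ e'
    with hμdef
  have hμ : ∀ a : A, μ ⟨a, hAT a.2⟩ = lam a := by
    intro a
    apply Units.ext
    rw [hμdef, MonoidHom.pow_apply, Units.val_pow_eq_pow_val, MonoidHom.coe_toHomUnits,
      MonoidHom.comp_apply, hscal a, LinearMap.det_smul, LinearMap.det_id, mul_one,
      Module.finrank_fin_fun, ← pow_mul, ← Units.val_pow_eq_pow_val, ← map_pow]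
    congr 2
    have h1 : m * e' ≡ 1 [MOD orderOf a] := by
      refine Nat.ModEq.of_dvd ?_ (show m * e' ≡ 1 [MOD p ^ (k + 1)] by
        rw [Nat.ModEq, he'.2, Nat.mod_eq_of_lt (Nat.one_lt_pow k.succ_ne_zero hp.out.one_lt)])
      exact ((orderOf_dvd_natCard a).trans (dvd_of_eq hk)).trans (pow_dvd_pow p (Nat.le_succ k))
    exact (pow_eq_pow_iff_modEq.2 h1).trans (pow_one a)
  -- all characters of `T/A` have `p'`-degree
  set A' := A.subgroupOf T with hA'
  haveI : A'.Normal := Subgroup.normal_subgroupOf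
  set π := QuotientGroup.mk' A' with hπ
  have hsolT : Cfsg.IsPSolvable p (T ⧸ A') :=
    Cfsg.Lib.GaschutzYen.isPSolvable_quotient A'
      (Cfsg.Lib.SolvStruct.CoprimeOrbits.isPSolvable_subgroup hsol hp.out T)
  have hdeg : ∀ β : Cfsg.IrrCharacter (T ⧸ A'), ¬ p ∣ deg (β : T ⧸ A' → ℂ) := by
    intro β
    set ψ' : T → ℂ := fun t => (μ t : ℂ) * (β : T ⧸ A' → ℂ) (π t) with hψ'
    have hψ'i : Cfsg.IsIrrCharacter T ψ' :=
      IsIrrCharacter.mul_linear (IsIrrCharacter.comp_surjective β.2 π (QuotientGroup.mk'_surjective A')) μ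
    have h2 : Cfsg.classInner (fun a : A => ψ' ⟨a, hAT a.2⟩) (fun a : A => (lam a : ℂ)) ≠ 0 := by
      have e1 : (fun a : A => ψ' ⟨a, hAT a.2⟩) =
          ((β : T ⧸ A' → ℂ) 1) • fun a : A => (lam a : ℂ) := funext fun a => by
        simp only [hψ', Pi.smul_apply, smul_eq_mul, hμ a]
        rw [show π ⟨a, hAT a.2⟩ = 1 from (QuotientGroup.eq_one_iff _).2 a.2, mul_comm]
      rw [e1, classInner_smul_left, classInner_self_irr hlam, mul_one]
      exact IsIrrCharacter.apply_one_ne_zero β.2
    obtain ⟨χ', hχ', h1⟩ := exists_over_subgroup T hψ'i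
    have h3 := hind hψ'i hχ' h1 h2
    have hd : deg ψ' = deg (β : T ⧸ A' → ℂ) := by
      apply Nat.cast_injective (R := ℂ)
      rw [← IsCharacter.apply_one_eq_deg (isCharacter_of_irr hψ'i), ← irr_apply_one_eq_deg β]
      simp [hψ']
    rw [hd] at h3
    exact fun h => h3 (h.mul_left _)
  -- Itô's criterion
  let S : Sylow p T := default
  obtain ⟨-, hab⟩ := (ito_iff hsolT (S.mapSurjective (QuotientGroup.mk'_surjective A'))).2 hdeg
  set S₀ := (S : Subgroup T).map T.subtype with hS₀
  have hS₀ab : ⁅S₀, S₀⁆ ≤ A := by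
    rw [hS₀, ← Subgroup.map_commutator, Subgroup.map_le_iff_le_comap, Subgroup.commutator_le]
    intro x hx y hy
    show (⁅x, y⁆ : T) ∈ A'
    rw [← QuotientGroup.eq_one_iff, show ((⁅x, y⁆ : T) : T ⧸ A') = π ⁅x, y⁆ from rfl,
      map_commutatorElement, commutatorElement_eq_one_iff_mul_comm]
    exact congrArg Subtype.val (hab.is_comm.comm
      ⟨π x, by rw [Sylow.coe_mapSurjective]; exact Subgroup.mem_map_of_mem _ hx⟩
      ⟨π y, by rw [Sylow.coe_mapSurjective]; exact Subgroup.mem_map_of_mem _ hy⟩)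
  have hS₀card : Nat.card S₀ = p ^ (Nat.card G).factorization p := by
    rw [hS₀, Subgroup.card_map_of_injective T.subtype_injective, S.card_eq_multiplicity,
      ← T.card_mul_index, Nat.factorization_mul Nat.card_pos.ne' T.index_ne_zero_of_finite,
      Finsupp.add_apply, Nat.factorization_eq_zero_of_not_dvd hTi, add_zero]
  obtain ⟨g, hg⟩ := MulAction.exists_smul_eq G (Sylow.ofCard S₀ hS₀card) P
  rw [← hg, Sylow.coe_subgroup_smul]
  show ⁅S₀.map (MulAut.conj g).toMonoidHom, S₀.map (MulAut.conj g).toMonoidHom⁆ ≤ A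
  rw [← Subgroup.map_commutator]
  refine (Subgroup.map_mono hS₀ab).trans ?_
  rintro _ ⟨a, ha, rfl⟩
  exact Subgroup.Normal.conj_mem ‹A.Normal› a ha g

/-- Pulling a vanishing derived series back along a map with abelian kernel. -/
theorem derived_step {P Q : Type*} [Group P] [Group Q] (f : P →* Q) {n : ℕ}
    (h : derivedSeries Q n = ⊥) (hab : ∀ a ∈ f.ker, ∀ b ∈ f.ker, a * b = b * a) :
    derivedSeries P (n + 1) = ⊥ := by
  have h1 : derivedSeries P n ≤ f.ker := by
    rw [← Subgroup.map_eq_bot_iff, eq_bot_iff, ← h]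
    exact map_derivedSeries_le_derivedSeries f n
  rw [derivedSeries_succ, eq_bot_iff, Subgroup.commutator_le]
  intro a ha b hb
  rw [Subgroup.mem_bot, commutatorElement_eq_one_iff_mul_comm]
  exact hab a (h1 ha) b (h1 hb)

theorem derivedSeries_mono {P : Type*} [Group P] {m n : ℕ} (hmn : m ≤ n)
    (h : derivedSeries P m = ⊥) : derivedSeries P n = ⊥ :=
  eq_bot_iff.2 (h ▸ derivedSeries_antitone P hmn)

/-- The Sylow derived length is bounded by the number of degrees divisible by `p`, plus one. -/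
theorem derived_le : ∀ (N : ℕ) (G : Type u) [Group G] [Finite G], Nat.card G = N →
    Cfsg.IsPSolvable p G → ∀ P : Sylow p G,
      derivedSeries ↥(P : Subgroup G)
        (Nat.card {χ : Cfsg.IrrCharacter G // p ∣ Cfsg.charDegree (χ : G → ℂ)} + 1) = ⊥ := by
  intro N
  induction N using Nat.strong_induction_on with
  | _ N ih =>
    intro G _ _ hN hsol P
    classical
    letI := Fintype.ofFinite G
    set n := Nat.card {χ : Cfsg.IrrCharacter G // p ∣ Cfsg.charDegree (χ : G → ℂ)} with hn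
    by_cases hG : Nontrivial G
    swap
    · rw [not_nontrivial_iff_subsingleton] at hG
      exact Subsingleton.elim _ _
    have hinfl : ∀ (K : Subgroup G) [K.Normal],
        Nat.card {χ : Cfsg.IrrCharacter (G ⧸ K) // p ∣ Cfsg.charDegree (χ : G ⧸ K → ℂ)} ≤ n :=
      fun K _ => Nat.card_le_card_of_injective (fun χ => ⟨inflate K χ.1, χ.2⟩) fun a b h => by
        refine Subtype.ext (Subtype.ext (funext fun q => ?_))
        obtain ⟨x, rfl⟩ := QuotientGroup.mk_surjective q
        exact congrArg (fun z : {χ : Cfsg.IrrCharacter G // p ∣ Cfsg.charDegree (χ : G → ℂ)} =>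
          (z.1 : G → ℂ) x) h
    have hrec : ∀ (K : Subgroup G) [K.Normal], K ≠ ⊥ → ∀ P' : Sylow p (G ⧸ K),
        derivedSeries ↥(P' : Subgroup (G ⧸ K))
          (Nat.card {χ : Cfsg.IrrCharacter (G ⧸ K) // p ∣ Cfsg.charDegree (χ : G ⧸ K → ℂ)} + 1) = ⊥ :=
      fun K _ hK P' => ih _ (hN ▸ Cfsg.Lib.Coprime.card_quotient_lt hK) (G ⧸ K) rfl
        (Cfsg.Lib.GaschutzYen.isPSolvable_quotient K hsol) P'
    have hmap : ∀ (K : Subgroup G) [K.Normal],
        ∀ x : (P : Subgroup G), (x : G ⧸ K) ∈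
          ((P.mapSurjective (QuotientGroup.mk'_surjective K) : Sylow p (G ⧸ K)) : Subgroup (G ⧸ K)) :=
      fun K _ x => by rw [Sylow.coe_mapSurjective]; exact Subgroup.mem_map_of_mem _ x.2
    let proj : ∀ (K : Subgroup G) [K.Normal], (P : Subgroup G) →*
        ((P.mapSurjective (QuotientGroup.mk'_surjective K) : Sylow p (G ⧸ K)) : Subgroup (G ⧸ K)) :=
      fun K _ => ((QuotientGroup.mk' K).comp (P : Subgroup G).subtype).codRestrict _ (hmap K)
    have hker : ∀ (K : Subgroup G) [K.Normal] (x : (P : Subgroup G)),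
        x ∈ (proj K).ker ↔ (x : G) ∈ K := fun K _ x => by
      rw [MonoidHom.mem_ker, ← QuotientGroup.eq_one_iff (N := K) (x : G)]
      exact ⟨fun h => congrArg Subtype.val h, fun h => Subtype.ext h⟩
    haveI := Cfsg.Lib.Components.pPrimeCore_normal' (G := G) p
    by_cases hO : Cfsg.pPrimeCore p G = ⊥
    swap
    · have h := hrec (Cfsg.pPrimeCore p G) hO
        (P.mapSurjective (QuotientGroup.mk'_surjective (Cfsg.pPrimeCore p G)))
      refine derivedSeries_mono (Nat.add_le_add_right (hinfl (Cfsg.pPrimeCore p G)) 1) ?_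
      rw [eq_bot_iff]
      intro x hx
      have h1 : proj (Cfsg.pPrimeCore p G) x = 1 := by
        rw [← Subgroup.mem_bot, ← h]
        exact map_derivedSeries_le_derivedSeries _ _ (Subgroup.mem_map_of_mem _ hx)
      obtain ⟨j, hj⟩ := IsPGroup.iff_card.1 P.2
      exact Subgroup.mem_bot.2 (Subtype.ext (Cfsg.Lib.Coprime.eq_one_of_coprime
        (by rw [hj]; exact (Cfsg.Lib.Components.coprime_card_pPrimeCore p).pow_right j)
        ((hker _ x).1 h1) x.2))
    haveI := Cfsg.Lib.Components.pCore_normal' (G := G) p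
    set O := Cfsg.pCore p G with hOdef
    have hOne : O ≠ ⊥ := fun h => by
      have h1 := centralizer_pCore_le_of_isPSolvable p hsol hO
      rw [← hOdef, h] at h1
      obtain ⟨g, hg⟩ := exists_ne (1 : G)
      exact hg (Subgroup.mem_bot.1 (h1 (Subgroup.mem_centralizer_iff.2 fun y hy => by
        rw [Subgroup.mem_bot.1 hy, one_mul, mul_one])))
    set A := (Subgroup.center O).map O.subtype with hAdef
    haveI : A.Normal := inferInstance
    letI := Fintype.ofFinite A
    have hOp : IsPGroup p O := Cfsg.Lib.Components.isPGroup_pCore p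
    have hAp : IsPGroup p A := (hOp.to_subgroup _).map _
    have hAne : A ≠ ⊥ := by
      rw [hAdef, ne_eq, Subgroup.map_eq_bot_iff_of_injective _ O.subtype_injective]
      haveI : Nontrivial O := (Subgroup.nontrivial_iff_ne_bot O).2 hOne
      exact (Subgroup.nontrivial_iff_ne_bot _).1 (hOp.center_nontrivial)
    have hAab : ∀ a ∈ A, ∀ b ∈ A, a * b = b * a := by
      rintro _ ⟨a, ha, rfl⟩ _ ⟨b, -, rfl⟩
      rw [← map_mul, ← map_mul, Subgroup.mem_center_iff.1 ha b]
    by_cases hsome : ∃ χ : Cfsg.IrrCharacter G, p ∣ Cfsg.charDegree (χ : G → ℂ) ∧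
        ∃ a ∈ A, (χ : G → ℂ) a ≠ (χ : G → ℂ) 1
    · obtain ⟨χ₀, hχ₀, a, ha, hne⟩ := hsome
      have hlt : Nat.card {χ : Cfsg.IrrCharacter (G ⧸ A) // p ∣ Cfsg.charDegree (χ : G ⧸ A → ℂ)} + 1
          ≤ n := by
        refine Nat.succ_le_of_lt ?_
        refine Nat.card_eq_fintype_card.trans_lt (lt_of_lt_of_eq (Fintype.card_lt_of_injective_of_notMem
          (fun χ => (⟨inflate A χ.1, χ.2⟩ : {χ : Cfsg.IrrCharacter G // p ∣ Cfsg.charDegree (χ : G → ℂ)}))
          (fun x y h => ?_) (b := ⟨χ₀, hχ₀⟩) ?_) Nat.card_eq_fintype_card.symm)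
        · refine Subtype.ext (Subtype.ext (funext fun q => ?_))
          obtain ⟨z, rfl⟩ := QuotientGroup.mk_surjective q
          exact congrArg (fun z' : {χ : Cfsg.IrrCharacter G // p ∣ Cfsg.charDegree (χ : G → ℂ)} =>
            (z'.1 : G → ℂ) z) h
        · rintro ⟨χ, hχ⟩
          refine hne ?_
          have e : inflate A χ = χ₀ := congrArg Subtype.val hχ
          rw [← e, inflate_val, inflate_val, (QuotientGroup.eq_one_iff a).2 ha,
            QuotientGroup.mk_one]
      refine derived_step (proj A) (derivedSeries_mono hlt (hrec A hAne _)) fun x hx y hy => ?_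
      exact Subtype.ext (hAab _ ((hker A x).1 hx) _ ((hker A y).1 hy))
    · push Not at hsome
      by_cases hn0 : n = 0
      · have hall : ∀ χ : Cfsg.IrrCharacter G, ¬ p ∣ deg (χ : G → ℂ) := fun χ h => by
          have : 0 < n := Nat.card_pos_iff.2 ⟨⟨⟨χ, h⟩⟩, inferInstance⟩
          omega
        obtain ⟨-, hc⟩ := (ito_iff hsol P).2 hall
        rw [hn0, derivedSeries_succ, derivedSeries_zero, eq_bot_iff, Subgroup.commutator_le]
        intro a _ b _
        rw [Subgroup.mem_bot, commutatorElement_eq_one_iff_mul_comm]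
        exact hc.is_comm.comm a b
      letI : CommGroup A :=
        { (inferInstance : Group A) with
          mul_comm := fun a b => Subtype.ext (hAab _ a.2 _ b.2) }
      haveI : Nontrivial A := (Subgroup.nontrivial_iff_ne_bot A).2 hAne
      obtain ⟨a₀, ha₀⟩ := exists_ne (1 : A)
      obtain ⟨lam, hlam⟩ := CommGroup.exists_apply_ne_one_of_hasEnoughRootsOfUnity A ℂ ha₀
      have hle := commutator_sylow_le hsol A hAp lam (fun χ hc hd => hlam (Units.ext ?_)) P
      · refine derivedSeries_mono (show 2 ≤ n + 1 by omega) (derived_step (proj A) ?_ fun x hx y hy =>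
          Subtype.ext (hAab _ ((hker A x).1 hx) _ ((hker A y).1 hy)))
        rw [derivedSeries_succ, derivedSeries_zero, eq_bot_iff, Subgroup.commutator_le]
        rintro ⟨u, hu⟩ _ ⟨v, hv⟩ _
        rw [Sylow.coe_mapSurjective] at hu hv
        obtain ⟨x, hx, rfl⟩ := hu
        obtain ⟨y, hy, rfl⟩ := hv
        rw [Subgroup.mem_bot, commutatorElement_eq_one_iff_mul_comm]
        apply Subtype.ext
        show QuotientGroup.mk' A x * QuotientGroup.mk' A y = QuotientGroup.mk' A y * QuotientGroup.mk' A x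
        rw [← commutatorElement_eq_one_iff_mul_comm, ← map_commutatorElement]
        exact (QuotientGroup.eq_one_iff _).2 (hle (Subgroup.commutator_mem_commutator hx hy))
      · by_contra hne1
        have hzero : Cfsg.classInner (fun a : A => (χ : G → ℂ) a) (fun a : A => (lam a : ℂ)) = 0 := by
          rw [show (fun a : A => (χ : G → ℂ) a) = (χ : G → ℂ) 1 • fun _ : A => (1 : ℂ) from
            funext fun a => by simp [hsome χ hd a a.2], classInner_smul_left,
            classInner_irrChar isIrrCharacter_one (isIrrCharacter_linear lam), if_neg (fun h =>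
              hne1 (congrFun h a₀).symm), mul_zero]
        exact hc hzero

end Cfsg.Lib.DerivedDegrees
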