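import Mathlib
import Cfsg.Agent.Blocks.FirstMain
import Cfsg.Agent.Blocks.BrauerHom
import Cfsg.Agent.Blocks.Covering

/-!
# The number of blocks of full defect
-/

set_option autoImplicit false
set_option linter.unusedSectionVars false
set_option linter.style.haveILetI false

namespace Cfsg.Lib.Blocks

open Cfsg Cfsg.Lib.Chars

universe u

variable {G : Type u} [Group G] [Fintype G] {M : Ideal AlgInt} {p : ℕ}

lemma emb_one {R : Type*} [CommRing R] (H : Subgroup G) [Fintype H] :
    emb H (1 : MonoidAlgebra R H) = 1 := fn_ext fun g => by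
  classical
  by_cases hg : g ∈ H
  · rw [fn_emb_mem H _ hg, fn_one, fn_one]
    exact if_congr (Subtype.ext_iff.trans (by simp)) rfl rfl
  · rw [fn_emb_not_mem H _ hg, fn_one, if_neg fun h : 1 = g => hg (h ▸ H.one_mem)]

lemma emb_pow {R : Type*} [CommRing R] (H : Subgroup G) [Fintype H] (y : MonoidAlgebra R H)
    (n : ℕ) : emb H (y ^ n) = emb H y ^ n := by
  induction n with
  | zero => rw [pow_zero, pow_zero, emb_one]
  | succ n ih => rw [pow_succ, pow_succ, emb_mul, ih]

/-- An invariant element has an integral central preimage. -/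
lemma exists_central_rx (H : Subgroup G) [Fintype H] {a : MonoidAlgebra (Res M) G}
    (hs : SuppOn H a) (hi : InvOn H a) :
    ∃ z : MonoidAlgebra ℂ H, IsCentralFn z ∧ Integral M z ∧ rx M H z = a := by
  classical
  choose lift hlift1 hlift2 using exists_res_eq (M := M)
  refine ⟨ofFn fun h => lift (fn a (h : G)), isCentralFn_ofFn fun g h => ?_, fun h => ?_,
    fn_ext fun g => ?_⟩
  · simp only [Subgroup.coe_mul, Subgroup.coe_inv]; rw [hi _ h.2]
  · rw [fn_ofFn]; exact hlift1 _
  · by_cases hg : g ∈ H
    · rw [fn_rx_mem _ hg, fn_ofFn, hlift2]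
    · rw [suppOn_rx _ g hg, hs g hg]

/-- The invariant elements supported on a normal subgroup of order prime to `p` are combinations
of block idempotents. -/
theorem mem_span_bi_of_pPrime (hM : IsPModular p M) (N K : Subgroup G) [Fintype N] (hKN : K ≤ N)
    (hK : ¬ p ∣ Nat.card K) {a : MonoidAlgebra (Res M) G} (hs : SuppOn K a) (hi : InvOn N a) :
    a ∈ Submodule.span (Res M)
      (Set.range fun b : {b : Set (IrrCharacter N) // IsPBlock M b} => bi M N b.1) := by
  classical
  letI := Fintype.ofFinite K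
  have hsN : SuppOn N a := hs.mono hKN
  obtain ⟨z, hzc, hzi, hza⟩ := exists_central_rx N hsN hi
  -- central primitive idempotents of `K`
  set E : IrrCharacter K → MonoidAlgebra (Res M) G := fun θ => rx M K (blockElem {θ}) with hE
  have hEi : ∀ θ : IrrCharacter K, Integral M (blockElem ({θ} : Set (IrrCharacter K))) :=
    fun θ => integral_blockElem_pPrime hM hK _
  have hEsum : ∑ θ : IrrCharacter K, E θ = 1 := by
    simp only [hE]
    rw [← rx_sum _ fun θ _ => hEi θ, show
      ∑ θ : IrrCharacter K, blockElem ({θ} : Set (IrrCharacter K)) = 1 from ?_, rx_one]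
    refine eq_of_omega_eq (IsCentralFn.sum _ _ fun θ _ => isCentralFn_blockElem _)
      isCentralFn_one fun χ => ?_
    rw [omega_sum, omega_one, Finset.sum_eq_single χ, omega_blockElem,
      if_pos (Set.mem_singleton χ)]
    · exact fun θ _ hne => by
        rw [omega_blockElem, if_neg]
        exact fun h => hne (Set.mem_singleton_iff.1 h).symm
    · simp
  have key : ∀ b : Set (IrrCharacter N), IsPBlock M b →
      ∃ c : Res M, a * bi M N b = c • bi M N b := by
    intro b hb
    obtain ⟨ψ, hψ⟩ := IsPBlock.nonempty hM hb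
    set l : ℂ := omega (ψ : N → ℂ) z with hl
    have hlp : l ∈ place M := omega_mem_place hM ψ hzc hzi
    refine ⟨res M l, ?_⟩
    set z' := z - l • (1 : MonoidAlgebra ℂ N) with hz'
    have hz'c : IsCentralFn z' := hzc.sub (isCentralFn_one.smul l)
    have hz'i : Integral M z' := hzi.sub (integral_one.smul hlp)
    have hei := integral_blockElem hM hb
    have hnil : IsNilpotent (red M (z' * blockElem b)) := by
      refine isNilpotent_red_of_omega_small hM (hz'c.mul (isCentralFn_blockElem b))
        (hz'i.mul hei) fun φ => ?_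
      rw [omega_mul φ hz'c, omega_blockElem]
      split_ifs with hφ
      · rw [mul_one, hz', omega_sub, omega_smul, omega_one, mul_one,
          ← res_eq_iff (omega_mem_place hM φ hzc hzi) hlp]
        exact res_omega_eq_of_sameBlock hM (IsPBlock.sameBlock hM hb hφ hψ) hzc hzi
      · rw [mul_zero]; exact small_zero
    obtain ⟨n, hn⟩ := hnil
    set a' := rx M N z' with ha'
    have ha'a : a' = a - res M l • 1 := by
      rw [ha', ← hza]
      refine fn_ext fun g => ?_
      rw [fn_sub, fn_smul, fn_one]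
      by_cases hg : g ∈ N
      · rw [fn_rx_mem _ hg, fn_rx_mem _ hg, hz', fn_sub, fn_smul, fn_one, res_sub (hzi _)
          (mul_mem hlp (by split_ifs <;> simp [one_mem, zero_mem])), res_mul hlp
          (by split_ifs <;> simp [one_mem, zero_mem])]
        congr 1
        congr 1
        by_cases h1 : 1 = g
        · subst h1; rw [if_pos (show (1 : N) = ⟨1, hg⟩ from rfl), if_pos rfl, res_one]
        · rw [if_neg fun h' => h1 (congrArg Subtype.val h'), if_neg h1, res_zero]
      · rw [suppOn_rx _ g hg, suppOn_rx _ g hg, if_neg fun h : 1 = g => hg (h ▸ N.one_mem),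
          mul_zero, sub_zero]
    have hpow : ∀ m : ℕ, 0 < m → (a' * bi M N b) ^ m = a' ^ m * bi M N b := by
      intro m hm
      have hc : Commute a' (bi M N b) := (invOn_rx hz'c).comm (suppOn_bi b)
      rw [hc.mul_pow]
      congr 1
      obtain ⟨j, rfl⟩ : ∃ j, m = j + 1 := ⟨m - 1, by omega⟩
      exact (show IsIdempotentElem (bi M N b) from bi_mul_self hM hb).pow_succ_eq j
    have hzero : a' ^ (n + 1) * bi M N b = 0 := by
      rw [← hpow _ (Nat.succ_pos n), ha', bi_eq_rx, ← rx_mul hz'i hei, ← emb_red, ← emb_pow,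
        pow_succ, hn, zero_mul, emb_zero]
    have ha'K : SuppOn K a' := by
      rw [ha'a]
      intro g hg
      rw [fn_sub, fn_smul, fn_one, hs g hg, if_neg fun h : 1 = g => hg (h ▸ K.one_mem), mul_zero,
        sub_zero]
    obtain ⟨w, hwc, hwi, hwa⟩ := exists_central_rx K ha'K ((invOn_rx hz'c).mono hKN)
    have hdiag : ∀ θ : IrrCharacter K, ∃ μ : Res M, a' * E θ = μ • E θ := fun θ => by
      refine ⟨res M (omega (θ : K → ℂ) w), ?_⟩
      have hwp := omega_mem_place hM θ hwc hwi
      have h : w * blockElem ({θ} : Set (IrrCharacter K)) =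
          omega (θ : K → ℂ) w • blockElem {θ} := by
        refine eq_of_omega_eq (hwc.mul (isCentralFn_blockElem _))
          ((isCentralFn_blockElem _).smul _) fun χ => ?_
        rw [omega_mul χ hwc, omega_smul, omega_blockElem]
        split_ifs with h
        · rw [Set.mem_singleton_iff.1 h]
        · simp
      rw [← hwa, hE, ← rx_mul hwi (hEi θ), h]
      refine fn_ext fun g => ?_
      rw [fn_smul]
      by_cases hg : g ∈ K
      · rw [fn_rx_mem _ hg, fn_rx_mem _ hg, fn_smul, res_mul hwp (hEi θ _)]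
      · rw [suppOn_rx _ g hg, suppOn_rx _ g hg, mul_zero]
    have hkill : a' * bi M N b = 0 := by
      calc a' * bi M N b = ∑ θ : IrrCharacter K, a' * E θ * bi M N b := by
            rw [← Finset.sum_mul, ← Finset.mul_sum, hEsum, mul_one]
        _ = 0 := Finset.sum_eq_zero fun θ _ => by
            obtain ⟨μ, hμ⟩ := hdiag θ
            rw [hμ, smul_mul_assoc]
            have hpowE : ∀ m : ℕ, a' ^ m * E θ = μ ^ m • E θ := fun m => by
              induction m with
              | zero => rw [pow_zero, one_mul, pow_zero, one_smul]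
              | succ m ih =>
                rw [pow_succ, mul_assoc, hμ, mul_smul_comm, ih, smul_smul, ← pow_succ']
            have h : μ ^ (n + 1) • (E θ * bi M N b) = 0 := by
              have hc : E θ * bi M N b = bi M N b * E θ :=
                ((invOn_bi b).comm ((suppOn_rx _).mono hKN)).symm
              rw [← smul_mul_assoc, ← hpowE, mul_assoc, hc, ← mul_assoc, hzero, zero_mul]
            rcases eq_or_ne μ 0 with h0 | h0
            · rw [h0, zero_smul]
            · rw [(smul_eq_zero_iff_right (pow_ne_zero (n + 1) h0)).1 h, smul_zero]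
    rw [ha'a, sub_mul, smul_mul_assoc, one_mul, sub_eq_zero] at hkill
    exact hkill
  choose c hc using key
  rw [← mul_one a, ← sum_bi hM (H := N), Finset.mul_sum]
  refine Submodule.sum_mem _ fun b hb => ?_
  rw [hc b ((mem_blocksFinset hM).1 hb)]
  exact Submodule.smul_mem _ _ (Submodule.subset_span ⟨⟨b, (mem_blocksFinset hM).1 hb⟩, rfl⟩)

/-- The regular elements centralizing a Sylow subgroup. -/
lemma exists_regular_subgroup [Fact p.Prime] (P : Sylow p G) :
    ∃ K : Subgroup G, ¬ p ∣ Nat.card K ∧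
      ∀ x : G, x ∈ K ↔ (¬ p ∣ orderOf x ∧ x ∈ Subgroup.centralizer ((P : Subgroup G) : Set G)) := by
  classical
  have hp : p.Prime := Fact.out
  set C := Subgroup.centralizer ((P : Subgroup G) : Set G) with hC
  set Z := (P : Subgroup G).subgroupOf C with hZ
  have hZn : Z.Normal := ⟨fun z hz g => by
    rw [hZ, Subgroup.mem_subgroupOf] at hz ⊢
    rw [Subgroup.coe_mul, Subgroup.coe_mul, Subgroup.coe_inv,
      show (g : G) * (z : G) = (z : G) * g from (Subgroup.mem_centralizer_iff.1 g.2 _ hz).symm,
      mul_inv_cancel_right]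
    exact hz⟩
  have hZp : IsPGroup p Z := P.2.comap_subtype
  have hZidx : ¬ p ∣ Z.index := by
    intro hdvd
    haveI : ((P : Subgroup G).subgroupOf (Subgroup.normalizer ((P : Subgroup G) : Set G))).Normal :=
      Subgroup.normal_in_normalizer
    have hCN : C ≤ Subgroup.normalizer ((P : Subgroup G) : Set G) :=
      Subgroup.centralizer_le_normalizer _
    apply P.not_dvd_index
    have h1 : Z.index ∣ (P : Subgroup G).relIndex (Subgroup.normalizer ((P : Subgroup G) : Set G)) := by
      have h := Subgroup.relIndex_dvd_index_of_normal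
        ((P : Subgroup G).subgroupOf (Subgroup.normalizer ((P : Subgroup G) : Set G)))
        (C.subgroupOf (Subgroup.normalizer ((P : Subgroup G) : Set G)))
      rwa [Subgroup.relIndex_subgroupOf hCN] at h
    exact hdvd.trans (h1.trans (Subgroup.relIndex_dvd_index_of_le Subgroup.le_normalizer))
  have hco : Nat.Coprime (Nat.card Z) Z.index := by
    obtain ⟨k, hk⟩ := IsPGroup.iff_card.1 hZp
    rw [hk]
    exact Nat.Coprime.pow_left k (hp.coprime_iff_not_dvd.2 hZidx)
  obtain ⟨L, hL⟩ := Subgroup.exists_right_complement'_of_coprime hco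
  have hLcard : ¬ p ∣ Nat.card L := by
    rw [← hL.symm.index_eq_card]; exact hZidx
  refine ⟨L.map C.subtype, by rwa [Subgroup.card_map_of_injective C.subtype_injective], fun x => ?_⟩
  constructor
  · rintro ⟨y, hy, rfl⟩
    refine ⟨fun h => hLcard (h.trans ?_), y.2⟩
    rw [Subgroup.coe_subtype, Subgroup.orderOf_coe]
    exact Subgroup.orderOf_dvd_natCard L hy
  · rintro ⟨hreg, hxC⟩
    obtain ⟨⟨z, l⟩, hzl⟩ := hL.2 ⟨x, hxC⟩
    refine ⟨⟨x, hxC⟩, ?_, rfl⟩
    have hcom : Commute (z : C) (l : C) := Subtype.ext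
      (Subgroup.mem_centralizer_iff.1 (l : C).2 _ z.2)
    set n := orderOf (⟨x, hxC⟩ : C) with hn
    have h1 : (z : C) ^ n * (l : C) ^ n = 1 := by
      rw [← hcom.mul_pow, show (z : C) * (l : C) = ⟨x, hxC⟩ from hzl, hn, pow_orderOf_eq_one]
    have hz1 : (z : C) ^ n = 1 := by
      have hmem : (z : C) ^ n ∈ L := by
        rw [eq_inv_of_mul_eq_one_left h1]
        exact L.inv_mem (L.pow_mem l.2 n)
      exact (Subgroup.disjoint_def.1 hL.disjoint) (Z.pow_mem z.2 n) hmem
    obtain ⟨k, hk⟩ := hZp z
    have hk' : (z : C) ^ p ^ k = 1 := congrArg Subtype.val hk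
    have hz : (z : C) = 1 := orderOf_eq_one_iff.1 (Nat.eq_one_of_dvd_coprimes
      (Nat.Coprime.pow_left k (hp.coprime_iff_not_dvd.2 (by
        rw [hn, ← Subgroup.orderOf_coe]; exact hreg)))
      (orderOf_dvd_of_pow_eq_one hk') (orderOf_dvd_of_pow_eq_one hz1))
    rw [show (⟨x, hxC⟩ : C) = (z : C) * (l : C) from hzl.symm, hz, one_mul]
    exact l.2

/-- The blocks of the normalizer of a Sylow subgroup. -/
theorem card_blocks_normalizer [Fact p.Prime] (hM : IsPModular p M) (P : Sylow p G) :
    Nat.card {b : Set (IrrCharacter (Subgroup.normalizer ((P : Subgroup G) : Set G))) //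
        IsPBlock M b} =
      Nat.card {C : ConjClasses (Subgroup.normalizer ((P : Subgroup G) : Set G)) //
        ∀ n : Subgroup.normalizer ((P : Subgroup G) : Set G), ConjClasses.mk n = C →
          ¬ p ∣ orderOf n ∧ (n : G) ∈ Subgroup.centralizer ((P : Subgroup G) : Set G)} := by
  classical
  haveI := charP_res hM
  set N := Subgroup.normalizer ((P : Subgroup G) : Set G) with hN
  letI := Fintype.ofFinite N
  obtain ⟨K, hK, hKmem⟩ := exists_regular_subgroup P
  have hKN : K ≤ N := fun x hx => Subgroup.centralizer_le_normalizer _ ((hKmem x).1 hx).2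
  have hKN' : ∀ n : N, (n : G) ∈ K ↔
      (¬ p ∣ orderOf n ∧ (n : G) ∈ Subgroup.centralizer ((P : Subgroup G) : Set G)) := fun n => by
    rw [hKmem, Subgroup.orderOf_coe]
  have hKconj : ∀ (n : N) (h : N), (n : G) ∈ K → ((h * n * h⁻¹ : N) : G) ∈ K := fun n h hn => by
    obtain ⟨h1, h2⟩ := (hKN' n).1 hn
    refine (hKN' _).2 ⟨?_, ?_⟩
    · have := MulEquiv.orderOf_eq (MulAut.conj h) n
      rw [MulAut.conj_apply] at this
      rwa [this]
    · have h3 := centralizer_le_normalizer_centralizer (P := (P : Subgroup G)) h.2 le_rfl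
      exact (Subgroup.mem_normalizer_iff.1 h3 _).1 h2
  set S := {C : ConjClasses N // ∀ n : N, ConjClasses.mk n = C →
    ¬ p ∣ orderOf n ∧ (n : G) ∈ Subgroup.centralizer ((P : Subgroup G) : Set G)}
  have hcond : ∀ n : N, (n : G) ∈ K → ∀ m : N, ConjClasses.mk m = ConjClasses.mk n →
      ¬ p ∣ orderOf m ∧ (m : G) ∈ Subgroup.centralizer ((P : Subgroup G) : Set G) := by
    intro n hn m hm
    obtain ⟨h, hh⟩ := isConj_iff.1 (ConjClasses.mk_eq_mk_iff_isConj.1 hm.symm)
    exact (hKN' m).1 (hh ▸ hKconj n h hn)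
  let Φ : (S → Res M) →ₗ[Res M] MonoidAlgebra (Res M) G :=
    { toFun := fun v => ofFn fun x =>
        if h : x ∈ K then v ⟨ConjClasses.mk ⟨x, hKN h⟩, hcond ⟨x, hKN h⟩ h⟩ else 0
      map_add' := fun v w => fn_ext fun x => by
        rw [fn_add, fn_ofFn, fn_ofFn, fn_ofFn]
        split_ifs <;> simp
      map_smul' := fun c v => fn_ext fun x => by
        rw [RingHom.id_apply, fn_smul, fn_ofFn, fn_ofFn]
        split_ifs <;> simp }
  have hΦinj : Function.Injective Φ := by
    intro v w h
    funext ⟨C, hC⟩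
    obtain ⟨n, rfl⟩ := ConjClasses.mk_surjective C
    have h1 := congrArg (fun z => fn z (n : G)) h
    simp only [Φ, LinearMap.coe_mk, AddHom.coe_mk, fn_ofFn, dif_pos ((hKN' n).2 (hC n rfl))] at h1
    exact h1
  set I := {b : Set (IrrCharacter N) // IsPBlock M b}
  set Bf : I → MonoidAlgebra (Res M) G := fun b => bi M N b.1 with hBf
  have hli : LinearIndependent (Res M) Bf := by
    rw [Fintype.linearIndependent_iff]
    intro g hg b
    have h := congrArg (· * Bf b) hg
    simp only [Finset.sum_mul, smul_mul_assoc, zero_mul] at h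
    rw [Finset.sum_eq_single b, hBf, bi_mul_self hM b.2] at h
    · exact (smul_eq_zero.1 h).resolve_right (bi_ne_zero hM b.2)
    · intro c _ hne
      rw [hBf, bi_mul_bi hM c.2 b.2 fun h => hne (Subtype.ext h), smul_zero]
    · simp
  haveI : ((P : Subgroup G).subgroupOf N).Normal := Subgroup.normal_in_normalizer
  have hsupp : ∀ b : I, SuppOn K (Bf b) := fun b g hg => by
    by_cases hgN : g ∈ N
    · show fn (bi M N b.1) g = 0
      rw [bi, fn_ofFn, subgroupBlockCoeff, dif_pos hgN]
      suffices h : blockCoeff b.1 ⟨g, hgN⟩ = 0 by rw [h, res_zero]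
      by_cases hreg : p ∣ orderOf (⟨g, hgN⟩ : N)
      · exact blockCoeff_eq_zero_of_singular hM b.2 hreg
      · refine blockCoeff_eq_zero_of_not_mem_centralizer hM (P := (P : Subgroup G).subgroupOf N)
          P.2.comap_subtype b.2 fun hc => hg ((hKN' ⟨g, hgN⟩).2 ⟨hreg, ?_⟩)
        refine Subgroup.mem_centralizer_iff.2 fun y hy => ?_
        exact congrArg Subtype.val
          (Subgroup.mem_centralizer_iff.1 hc ⟨y, Subgroup.le_normalizer hy⟩ hy)
    · exact suppOn_bi b.1 g hgN
  have hrange : LinearMap.range Φ = Submodule.span (Res M) (Set.range Bf) := by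
    refine le_antisymm ?_ (Submodule.span_le.2 ?_)
    · rintro _ ⟨v, rfl⟩
      refine mem_span_bi_of_pPrime hM N K hKN hK (fun g hg => ?_) fun h hh g => ?_
      · simp only [Φ, LinearMap.coe_mk, AddHom.coe_mk, fn_ofFn, dif_neg hg]
      · simp only [Φ, LinearMap.coe_mk, AddHom.coe_mk, fn_ofFn]
        by_cases hg : g ∈ K
        · have hg' := hKconj ⟨g, hKN hg⟩ ⟨h, hh⟩ hg
          rw [dif_pos hg, dif_pos (show h * g * h⁻¹ ∈ K from hg')]
          congr 1
          exact Subtype.ext (ConjClasses.mk_eq_mk_iff_isConj.2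
            (isConj_iff.2 ⟨(⟨h, hh⟩ : N)⁻¹, Subtype.ext (by simp [mul_assoc])⟩))
        · rw [dif_neg hg, dif_neg]
          intro hc
          have := hKconj ⟨h * g * h⁻¹, hKN hc⟩ (⟨h, hh⟩ : N)⁻¹ hc
          simp only [Subgroup.coe_mul, Subgroup.coe_inv, inv_inv] at this
          rw [show h⁻¹ * (h * g * h⁻¹) * h = g by group] at this
          exact hg this
    · rintro _ ⟨b, rfl⟩
      refine ⟨fun C => fn (Bf b) ((crep C.1 : N) : G), fn_ext fun x => ?_⟩
      simp only [Φ, LinearMap.coe_mk, AddHom.coe_mk, fn_ofFn]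
      split_ifs with hx
      · obtain ⟨c, hc⟩ := isConj_iff.1 (isConj_crep_mk (⟨x, hKN hx⟩ : N))
        have h := invOn_bi (M := M) b.1 (c : G) c.2 ((crep (ConjClasses.mk (⟨x, hKN hx⟩ : N)) : N) : G)
        rw [← Subgroup.coe_inv, ← Subgroup.coe_mul, ← Subgroup.coe_mul, hc] at h
        exact h.symm
      · exact (hsupp b x hx).symm
  have h1 := LinearMap.finrank_range_of_inj hΦinj
  rw [hrange, finrank_span_eq_card hli, Module.finrank_fintype_fun_eq_card] at h1
  rw [Nat.card_eq_fintype_card, Nat.card_eq_fintype_card]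
  exact h1

/-- **Blocks of full defect** correspond to the blocks of the normalizer. -/
theorem card_blocks_full_defect [Fact p.Prime] (hM : IsPModular p M) (P : Sylow p G) :
    Nat.card {B : Set (IrrCharacter G) // IsPBlock M B ∧
        IsDefectGroup p M B (P : Subgroup G)} =
      Nat.card {b : Set (IrrCharacter (Subgroup.normalizer ((P : Subgroup G) : Set G))) //
        IsPBlock M b} := by
  classical
  set N := Subgroup.normalizer ((P : Subgroup G) : Set G) with hN
  letI := Fintype.ofFinite N
  have hNle : Subgroup.normalizer ((P : Subgroup G) : Set G) ≤ N := le_rfl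
  choose F hF1 hF2 hF3 hF4 using fun B : {B : Set (IrrCharacter G) // IsPBlock M B ∧
      IsDefectGroup p M B (P : Subgroup G)} => firstMain_down hM hNle B.2.1 B.2.2
  refine Nat.card_congr (Equiv.ofBijective (fun B => ⟨F B, hF1 B⟩) ⟨fun B B' h => ?_, fun b => ?_⟩)
  · have hFF : F B = F B' := congrArg Subtype.val h
    obtain ⟨B₀, -, -, -, huniq⟩ := firstMain_up hM hNle P.2 (hF1 B) (hF2 B)
    exact Subtype.ext ((huniq _ B.2.1 (hF3 B)).trans
      (huniq _ B'.2.1 (by rw [hFF]; exact hF3 B')).symm)
  · have hbD : IsDefectGroup p M b.1 ((P : Subgroup G).subgroupOf N) := by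
      obtain ⟨D, hD⟩ := exists_defectGroup hM b.2
      haveI : ((P : Subgroup G).subgroupOf N).Normal := Subgroup.normal_in_normalizer
      have hle := normal_le_defectGroup hM (G := N) (P := (P : Subgroup G).subgroupOf N)
        P.2.comap_subtype b.2 hD
      have he := (P.subtype Subgroup.le_normalizer).3 (IsDefectGroup.isPGroup hD) hle
      rw [Sylow.coe_subtype] at he
      rwa [he] at hD
    obtain ⟨B, hB, hBD, hbr, -⟩ := firstMain_up hM hNle P.2 b.2 hbD
    refine ⟨⟨B, hB, hBD⟩, Subtype.ext ?_⟩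
    exact (hF4 ⟨B, hB, hBD⟩ b.1 b.2 hbr).symm

end Cfsg.Lib.Blocks
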