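import Mathlib
import Cfsg.Agent.Blocks.Third
import Cfsg.Agent.Blocks.Brauer
import Cfsg.Agent.Blocks.Defect
import Cfsg.Agent.S0905

/-!
# A defect group is an intersection of two Sylow subgroups
-/

set_option autoImplicit false
set_option linter.unusedSectionVars false

namespace Cfsg.Lib.Blocks

open Cfsg.Lib.Chars

universe u

variable {G : Type u} [Group G] [Fintype G] {M : Ideal AlgInt} {p : ℕ}

/-- A non-zero idempotent central element of a group algebra in characteristic `p` has a non-zero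
sum over some coset of a `p`-subgroup. -/
lemma exists_coset_sum_ne_zero {k : Type*} [Field k] [CharP k p] [Fact p.Prime] {C : Type u}
    [Group C] [Fintype C] {a : MonoidAlgebra k C} (hac : IsCentralFn a) (haa : a * a = a)
    (ha : a ≠ 0) (Q : Subgroup C) [Fintype Q] (hQ : IsPGroup p Q) :
    ∃ c : C, ∑ q : Q, fn a (c * (q : C)) ≠ 0 := by
  classical
  by_contra hcon
  push Not at hcon
  letI : DistribMulAction Q (MonoidAlgebra k C) :=
    DistribMulAction.compHom (MonoidAlgebra k C)
      ((MonoidAlgebra.of k C).comp Q.subtype)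
  have hsmul : ∀ (q : Q) (x : MonoidAlgebra k C), q • x = MonoidAlgebra.single (q : C) (1 : k) * x :=
    fun q x => rfl
  let R : AddSubgroup (MonoidAlgebra k C) :=
    { carrier := {x | x * a = x}
      zero_mem' := zero_mul a
      add_mem' := fun {x y} hx hy => by
        show (x + y) * a = x + y
        rw [add_mul, hx, hy]
      neg_mem' := fun {x} hx => by
        show -x * a = -x
        rw [neg_mul, hx] }
  obtain ⟨w, hwR, hw0, hw⟩ := Cfsg.Agent.S0905.exists_fixed_vector hQ
    (V := MonoidAlgebra k C) (fun v => fn_ext fun g => by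
      rw [← Nat.cast_smul_eq_nsmul k, CharP.cast_eq_zero, zero_smul]) R
    (fun q x hx => by
      show q • x * a = q • x
      rw [hsmul, mul_assoc, show x * a = x from hx])
    (v := a) (show a * a = a from haa) ha
  have hinv : ∀ (q : Q) (g : C), fn w ((q : C)⁻¹ * g) = fn w g := fun q g => by
    conv_rhs => rw [← hw q, hsmul, fn_single_mul, one_mul]
  apply hw0
  rw [← show w * a = w from hwR, ← IsCentralFn.comm hac w]
  refine fn_ext fun g => ?_
  rw [fn_mul, fn_zero, ← Finset.sum_fiberwise Finset.univ (fun h : C => (h : C ⧸ Q))]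
  refine Finset.sum_eq_zero fun cq _ => ?_
  obtain ⟨c, rfl⟩ := QuotientGroup.mk_surjective cq
  have h0 : (∑ q : Q, fn a (c * (q : C))) * fn w (c⁻¹ * g) = 0 := by rw [hcon c, zero_mul]
  rw [← h0, Finset.sum_mul]
  refine Eq.symm (Finset.sum_bij (fun q _ => c * (q : C)) ?_ ?_ ?_ ?_)
  · intro q _
    refine Finset.mem_filter.2 ⟨Finset.mem_univ _, ?_⟩
    exact QuotientGroup.mk_mul_of_mem c q.2
  · intro q _ q' _ h
    exact Subtype.ext (mul_left_cancel h)
  · intro h hh
    have h' : (c : C ⧸ Q) = (h : C ⧸ Q) := (Finset.mem_filter.1 hh).2.symm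
    exact ⟨⟨c⁻¹ * h, QuotientGroup.eq.1 h'⟩, Finset.mem_univ _, by simp⟩
  · intro q _
    rw [mul_inv_rev, mul_assoc, hinv]

/-- **Green's theorem.** -/
theorem exists_defect_intersection [Fact p.Prime] (hM : IsPModular p M)
    {B : Set (IrrCharacter G)} (hB : IsPBlock M B) {D : Subgroup G} (hD : IsDefectGroup p M B D)
    (P : Sylow p G) (hDP : D ≤ P) :
    ∃ x : G, ¬ p ∣ orderOf x ∧
      (∃ S : Sylow p (Subgroup.centralizer ({x} : Set G)), centSyl S = D) ∧
      (P : Subgroup G) ⊓ (P : Subgroup G).map (MulAut.conj x).toMonoidHom = D := by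
  classical
  haveI := charP_res hM
  have hDp : IsPGroup p D := IsDefectGroup.isPGroup hD
  set C := Subgroup.centralizer (D : Set G) with hC
  letI := Fintype.ofFinite C
  set a : MonoidAlgebra (Res M) C := red M (resElem C (blockElem B)) with ha
  have hei := integral_blockElem hM hB
  have hec := isCentralFn_blockElem B
  have hac : IsCentralFn a := IsCentralFn.red (IsCentralFn.resElem hec C)
  have haa : a * a = a := by
    have h := red_resElem_mul hM hDp hec hei hec hei
    rw [blockElem_mul_self, red_mul (hei.resElem _) (hei.resElem _)] at h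
    exact h.symm
  have hmem : ∀ g : G, fn (blockElem B) g ∈ place M := hei
  have ha0 : a ≠ 0 := by
    obtain ⟨g, hg, S, hS⟩ := id hD
    have hgC : g ∈ C := by rw [hC, hS]; exact mem_centralizer_centSyl S
    intro h
    have h1 : fn a ⟨g, hgC⟩ = 0 := by rw [h, fn_zero]
    rw [ha, fn_red, fn_resElem, res_eq_zero_iff (hmem g), fn_blockElem] at h1
    exact ((isDefectClass_iff hM hB g).1 hg).1 h1
  letI := Fintype.ofFinite ((P : Subgroup G).subgroupOf C)
  obtain ⟨c, hc⟩ := exists_coset_sum_ne_zero hac haa ha0 ((P : Subgroup G).subgroupOf C)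
    P.2.comap_subtype
  set R : Subgroup G := (P : Subgroup G) ⊓ (P : Subgroup G).map (MulAut.conj (c : G)).toMonoidHom
    with hR
  have hDR : D ≤ R := fun d hd => by
    refine Subgroup.mem_inf.2 ⟨hDP hd, d, hDP hd, ?_⟩
    show (c : G) * d * (c : G)⁻¹ = d
    rw [← Subgroup.mem_centralizer_iff.1 c.2 d hd, mul_inv_cancel_right]
  have hRp : IsPGroup p R := P.2.to_le inf_le_left
  set f : G → Res M := fun y => if (c : G)⁻¹ * y ∈ (P : Subgroup G) then
    res M (blockCoeff B y) else 0 with hf
  have hfix : ∀ {A : Subgroup G}, IsPGroup p A → A ≤ R →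
      ∑ y : G, f y = ∑ y ∈ Finset.univ.filter (fun y : G => y ∈ Subgroup.centralizer (A : Set G)), f y := by
    intro A hA hAR
    letI : MulAction A G := MulAction.compHom G (MulAut.conj.comp A.subtype)
    have hsmul : ∀ (u : A) (y : G), u • y = (u : G) * y * (u : G)⁻¹ := fun u y => rfl
    rw [sum_eq_sum_fixed hA (fun r : Res M => by rw [nsmul_eq_mul, CharP.cast_eq_zero, zero_mul]) f
      fun u y => ?_]
    · refine Finset.sum_congr (Finset.filter_congr fun y _ => ?_) fun _ _ => rfl
      rw [MulAction.mem_fixedPoints, Subgroup.mem_centralizer_iff]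
      exact ⟨fun h u hu => mul_inv_eq_iff_eq_mul.1 (h ⟨u, hu⟩),
        fun h u => by rw [hsmul, mul_inv_eq_iff_eq_mul]; exact h u u.2⟩
    · obtain ⟨huP, s, hs, hsu⟩ := Subgroup.mem_inf.1 (hAR u.2)
      have e : (c : G)⁻¹ * (u • y) = s * ((c : G)⁻¹ * y) * (u : G)⁻¹ := by
        rw [hsmul, ← show (c : G) * s * (c : G)⁻¹ = (u : G) from hsu]
        group
      show (if _ then _ else _) = (if _ then _ else _)
      rw [e, hsmul, blockCoeff_conj]
      refine if_congr ?_ rfl rfl
      exact ⟨fun h => by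
        have := mul_mem (mul_mem (inv_mem (show s ∈ (P : Subgroup G) from hs)) h) huP
        simpa [mul_assoc] using this,
        fun h => mul_mem (mul_mem hs h) (inv_mem huP)⟩
  have hne : ∑ y : G, f y ≠ 0 := by
    rw [hfix hDp hDR, ← Finset.sum_filter_ne_zero]
    refine fun h0 => hc ?_
    rw [← h0, Finset.sum_filter_ne_zero, hf, ← Finset.sum_filter, Finset.filter_filter]
    refine Finset.sum_bij (fun q _ => ((c * (q : C) : C) : G)) ?_ ?_ ?_ ?_
    · intro q _
      refine Finset.mem_filter.2 ⟨Finset.mem_univ _, (c * (q : C)).2, ?_⟩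
      rw [Subgroup.coe_mul, inv_mul_cancel_left]
      exact q.2
    · intro q _ q' _ h
      exact Subtype.ext (mul_left_cancel (Subtype.ext h))
    · intro y hy
      obtain ⟨-, hyC, hyP⟩ := Finset.mem_filter.1 hy
      exact ⟨⟨c⁻¹ * ⟨y, hyC⟩, by rw [Subgroup.mem_subgroupOf]; simpa using hyP⟩, Finset.mem_univ _,
        by simp⟩
    · intro q _
      rw [ha, fn_red, fn_resElem, fn_blockElem]
  rw [hfix hRp le_rfl] at hne
  obtain ⟨y, hy, hy0⟩ := Finset.exists_ne_zero_of_sum_ne_zero hne
  have hyC := (Finset.mem_filter.1 hy).2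
  have hyP : (c : G)⁻¹ * y ∈ (P : Subgroup G) := by
    by_contra h
    exact hy0 (if_neg h)
  rw [hf] at hy0
  simp only [if_pos hyP] at hy0
  have hns : ¬ Small M (blockCoeff B y) := fun h => hy0 ((res_eq_zero_iff
    (by rw [← fn_blockElem]; exact hmem y)).2 h)
  obtain ⟨t, ht⟩ := exists_le_conj_defectGroup hM hB hD hRp hyC hns
  have hRD : D = R := Subgroup.eq_of_le_of_card_ge hDR
    ((Nat.le_of_dvd Nat.card_pos (Subgroup.card_dvd_of_le ht)).trans (card_map_conj D t).le)
  refine ⟨y, not_dvd_orderOf_of_not_small hM hB hns, ?_, ?_⟩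
  · have hyD : y ∈ Subgroup.centralizer (D : Set G) := hRD ▸ hyC
    obtain ⟨S, hS⟩ := exists_sylow_ge (p := p) hDp (g := y) (le_centralizer_iff_mem.2 hyD)
    refine ⟨S, (Subgroup.eq_of_le_of_card_ge hS ?_).symm⟩
    obtain ⟨t', ht'⟩ := exists_le_conj_defectGroup hM hB hD (isPGroup_centSyl S)
      (mem_centralizer_centSyl S) hns
    exact (Nat.le_of_dvd Nat.card_pos (Subgroup.card_dvd_of_le ht')).trans (card_map_conj D t').le
  · rw [hRD, hR]
    congr 1
    have hmapP : ∀ s ∈ (P : Subgroup G),
        (P : Subgroup G).map (MulAut.conj s).toMonoidHom = (P : Subgroup G) := fun s hs => by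
      refine le_antisymm ?_ fun v hv => ⟨s⁻¹ * v * s, mul_mem (mul_mem (inv_mem hs) hv) hs, by
        show s * (s⁻¹ * v * s) * s⁻¹ = v
        group⟩
      rintro _ ⟨v, hv, rfl⟩
      exact mul_mem (mul_mem hs hv) (inv_mem hs)
    conv_lhs => rw [show y = (c : G) * ((c : G)⁻¹ * y) by group, ← map_conj_map, hmapP _ hyP]

end Cfsg.Lib.Blocks
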