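import Mathlib
import Cfsg.Agent.Blocks.AbelianLocal
import Cfsg.Agent.Blocks.CoveringDefect

/-!
# The theorem of Harris and Knörr

Let `N` be normal in `G`, let `Q ≤ N`, `H = N_G(Q)` and let the block `d` of `N` with defect group
`Q` correspond to the block `e` of `H ∩ N`.  Induction is a bijection between the blocks of `H`
covering `e` and the blocks of `G` covering `d`: a block of either kind has a defect group `P`
with `P ∩ N = Q`, whose normaliser lies in `H`, and the first main theorem applies.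
-/

set_option autoImplicit false
set_option linter.unusedSectionVars false
set_option linter.style.haveILetI false

namespace Cfsg.Lib.Blocks

open Cfsg Cfsg.Lib.Chars
open scoped ComplexConjugate

universe u

variable {G : Type u} [Group G] [Fintype G] {M : Ideal AlgInt} {p : ℕ} [Fact p.Prime]

local notation "C⟨" P "⟩" => Subgroup.centralizer (SetLike.coe P)

/-- Equal Brauer images at a defect group of the block of `G` give induction. -/
theorem isInducedBlock_of_br_eq (hM : IsPModular p M) {H P : Subgroup G} [Fintype H]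
    (hPH : P ≤ H) (hCH : C⟨P⟩ ≤ H) {B : Set (IrrCharacter G)} (hB : IsPBlock M B)
    (hD : IsDefectGroup p M B P) {c : Set (IrrCharacter H)} (hc : IsPBlock M c)
    (heq : br P (red M (blockElem B)) = br P (bi M H c)) : IsInducedBlock M H c B := by
  classical
  obtain ⟨f, hf⟩ := exists_pair_of_defect hM hB hD
  refine isInducedBlock_of_pair hM hPH hCH hc ?_ hf.1
  rw [← heq]
  exact ((isBrauerPairOf_iff_br hM B P f).1 hf.1).2.2

/-- The first main theorem read through induction. -/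
theorem firstMain_of_induced (hM : IsPModular p M) {H P : Subgroup G} [Fintype H]
    (hN : Subgroup.normalizer (P : Set G) ≤ H) (hPp : IsPGroup p P) {c : Set (IrrCharacter H)}
    (hc : IsPBlock M c) (hD : IsDefectGroup p M c (P.subgroupOf H)) {B : Set (IrrCharacter G)}
    (hind : IsInducedBlock M H c B) :
    IsDefectGroup p M B P ∧ br P (red M (blockElem B)) = br P (bi M H c) := by
  obtain ⟨B', hB', hD', heq, -⟩ := firstMain_up hM hN hPp hc hD
  obtain rfl : B = B' := IsInducedBlock.unique hM hind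
    (isInducedBlock_of_br_eq hM (Subgroup.le_normalizer.trans hN)
      ((Subgroup.centralizer_le_normalizer _).trans hN) hB' hD' hc heq)
  exact ⟨hD', heq⟩

lemma map_subEquiv_symm {H K Q : Subgroup G} {K' : Subgroup H} (h : IsSubOf H K K')
    (hle : K ≤ H) :
    (Q.subgroupOf K).map (subEquiv h hle).symm.toMonoidHom = (Q.subgroupOf H).subgroupOf K' := by
  ext x
  constructor
  · rintro ⟨y, hy, rfl⟩; exact hy
  · exact fun hx => ⟨subEquiv h hle x, hx, MulEquiv.symm_apply_apply _ _⟩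

lemma isDefectGroup_inSub_iff {H K Q : Subgroup G} [Fintype H] {K' : Subgroup H}
    (h : IsSubOf H K K') (hle : K ≤ H) {b : Set (IrrCharacter K)} :
    IsDefectGroup p M (inSub h hle b) ((Q.subgroupOf H).subgroupOf K') ↔
      IsDefectGroup p M b (Q.subgroupOf K) := by
  refine ⟨fun hD => ?_, fun hD => map_subEquiv_symm h hle ▸ IsDefectGroup.inSub h hle hD⟩
  have h1 := IsDefectGroup.image_irrEquiv (subEquiv h hle).symm hD
  have e1 : irrEquiv (subEquiv h hle).symm '' inSub h hle b = b := by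
    rw [inSub, Set.image_image]
    have : ∀ χ : IrrCharacter K,
        irrEquiv (subEquiv h hle).symm (irrEquiv (subEquiv h hle) χ) = χ :=
      fun χ => Subtype.ext (funext fun k => by simp)
    simp [this]
  have e2 : ((Q.subgroupOf H).subgroupOf K').map (subEquiv h hle).symm.symm.toMonoidHom =
      Q.subgroupOf K := by
    ext x
    constructor
    · rintro ⟨y, hy, rfl⟩; exact hy
    · exact fun hx => ⟨(subEquiv h hle).symm x, hx, MulEquiv.apply_symm_apply _ _⟩
  rwa [e1, e2] at h1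

/-- Transitivity of restriction of central elements. -/
lemma omega_resElem_sub {H K : Subgroup G} [Fintype H] [Fintype K] {K' : Subgroup H} [Fintype K']
    (h : IsSubOf H K K') (hle : K ≤ H) (ξ : IrrCharacter K) (a : MonoidAlgebra ℂ G) :
    omega (irrEquiv (subEquiv h hle) ξ : K' → ℂ) (resElem K' (resElem H a)) =
      omega (ξ : K → ℂ) (resElem K a) := by
  unfold omega chiEval
  congr 1
  refine Fintype.sum_equiv (subEquiv h hle).toEquiv _ _ fun k => ?_
  simp only [fn_resElem, irrEquiv_apply]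
  rfl

lemma classInner_sub {H K : Subgroup G} [Fintype H] [Fintype K] {K' : Subgroup H} [Fintype K']
    (h : IsSubOf H K K') (hle : K ≤ H) (φ : H → ℂ) (ξ : IrrCharacter K) :
    classInner (fun k : K' => φ k) (irrEquiv (subEquiv h hle) ξ : K' → ℂ) =
      classInner (fun l : K => φ (Subgroup.inclusion hle l)) (ξ : K → ℂ) := by
  unfold classInner
  congr 1
  · rw [Nat.card_congr (subEquiv h hle).toEquiv]
  · refine Fintype.sum_equiv (subEquiv h hle).toEquiv _ _ fun k => ?_
    simp only [irrEquiv_apply]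
    rfl

section Normal

variable (H : Subgroup G) (N : Subgroup G) [hNn : N.Normal]

lemma isSubOf_left : IsSubOf H (H ⊓ N) (N.subgroupOf H) :=
  fun x => ⟨fun h => ⟨x.2, h⟩, fun h => h.2⟩

lemma isSubOf_right : IsSubOf N (H ⊓ N) (H.subgroupOf N) :=
  fun x => ⟨fun h => ⟨h, x.2⟩, fun h => h.1⟩

variable {H N}

/-- The covering relation, for `H ⊓ N` seen inside `H`. -/
lemma covers_sub_iff [Fintype H] [Fintype (N.subgroupOf H)] [Fintype (H ⊓ N : Subgroup G)]
    {c : Set (IrrCharacter H)} {e : Set (IrrCharacter (H ⊓ N : Subgroup G))} :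
    (∃ ψ ∈ c, ∃ ξ ∈ inSub (isSubOf_left H N) inf_le_left e,
        classInner (fun k : N.subgroupOf H => (ψ : H → ℂ) k) (ξ : _ → ℂ) ≠ 0) ↔
      ∃ ψ ∈ c, ∃ ξ ∈ e, classInner (fun l : (H ⊓ N : Subgroup G) =>
        (ψ : H → ℂ) (Subgroup.inclusion inf_le_left l)) (ξ : _ → ℂ) ≠ 0 := by
  constructor
  · rintro ⟨ψ, hψ, _, ⟨ξ, hξ, rfl⟩, h⟩
    exact ⟨ψ, hψ, ξ, hξ, by rwa [classInner_sub (isSubOf_left H N) inf_le_left] at h⟩
  · rintro ⟨ψ, hψ, ξ, hξ, h⟩
    exact ⟨ψ, hψ, _, ⟨ξ, hξ, rfl⟩, by rwa [classInner_sub (isSubOf_left H N) inf_le_left]⟩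

/-- An induced block covers the induced block. -/
theorem covers_of_induced (hM : IsPModular p M) [Fintype H] [Fintype N]
    [Fintype (H ⊓ N : Subgroup G)] {c : Set (IrrCharacter H)} (hc : IsPBlock M c)
    {B : Set (IrrCharacter G)} (hind : IsInducedBlock M H c B)
    {e : Set (IrrCharacter (H ⊓ N : Subgroup G))} {d : Set (IrrCharacter N)}
    (hed : IsInducedBlockIn M N (H ⊓ N) e d)
    (hcov : ∃ ψ ∈ c, ∃ ξ ∈ e, classInner (fun l : (H ⊓ N : Subgroup G) =>
        (ψ : H → ℂ) (Subgroup.inclusion inf_le_left l)) (ξ : _ → ℂ) ≠ 0) :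
    ∃ χ ∈ B, ∃ θ ∈ d, classInner (fun n : N => (χ : G → ℂ) n) (θ : N → ℂ) ≠ 0 := by
  classical
  letI : Fintype (N.subgroupOf H) := Fintype.ofFinite _
  letI : Fintype (H.subgroupOf N) := Fintype.ofFinite _
  obtain ⟨ψ, hψ, ξ, hξ, hne⟩ := hcov
  have hed' := (isInducedBlock_inSub_iff (isSubOf_right H N) inf_le_right hed.1).2 hed
  refine (covers_iff hM hind.2.1 hed.2.1).2 fun χ hχ θ hθ n => ?_
  have hs : SuppOn (N.subgroupOf H) (resElem H (cls ℂ (n : G))) := fun x hx => by
    rw [fn_resElem]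
    exact suppOn_cls n.2 (x : G) hx
  rw [← (isInducedBlock_iff hM H hc hind.2.1 hψ hχ).1 hind (n : G),
    inducedCentralChar_eq_omega, inducedCentralChar_eq_omega,
    omega_eq_of_constituent (N.subgroupOf H) ((isCentralFn_cls _).resElem H) hs ψ
      (irrEquiv (subEquiv (isSubOf_left H N) inf_le_left) ξ)
      (by rwa [classInner_sub (isSubOf_left H N) inf_le_left]),
    omega_resElem_sub,
    ← res_omega_resElem_of_induced hM (H.subgroupOf N) hed'
      (ξ := irrEquiv (subEquiv (isSubOf_right H N) inf_le_right) ξ) ⟨ξ, hξ, rfl⟩ hθ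
      ((isCentralFn_cls _).resElem N) ((integral_cls _).resElem N),
    omega_resElem_sub]

/-- A block of `N` and a block of `H ⊓ N` with the same defect group `Q`, when `H` contains the
normaliser of `Q`. -/
theorem correspondent_br (hM : IsPModular p M) [Fintype N] {Q : Subgroup G}
    (hQp : IsPGroup p Q) (hQN : Q ≤ N) (hH : Subgroup.normalizer (Q : Set G) ≤ H)
    {e : Set (IrrCharacter (H ⊓ N : Subgroup G))} (he : IsPBlock M e)
    (heQ : IsDefectGroup p M e (Q.subgroupOf (H ⊓ N))) :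
    ∃ d : Set (IrrCharacter N), IsInducedBlockIn M N (H ⊓ N) e d ∧
      IsDefectGroup p M d (Q.subgroupOf N) ∧ br Q (bi M N d) = br Q (bi M (H ⊓ N) e) ∧
      ∀ e' : Set (IrrCharacter (H ⊓ N : Subgroup G)), IsPBlock M e' →
        br Q (bi M N d) = br Q (bi M (H ⊓ N) e') → e' = e := by
  classical
  letI : Fintype (H.subgroupOf N) := Fintype.ofFinite _
  letI : Fintype (H ⊓ N : Subgroup G) := Fintype.ofFinite _
  have hn : Subgroup.normalizer ((Q.subgroupOf N : Subgroup N) : Set N) ≤ H.subgroupOf N :=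
    fun x hx => hH <| Subgroup.mem_normalizer_iff.2 fun y => by
      constructor
      · intro hy
        exact (Subgroup.mem_normalizer_iff.1 hx ⟨y, hQN hy⟩).1 hy
      · intro hy
        have hyN : y ∈ N := by
          have h1 := hNn.conj_mem _ (hQN hy) (x : G)⁻¹
          simpa [mul_assoc] using h1
        exact (Subgroup.mem_normalizer_iff.1 hx ⟨y, hyN⟩).2 hy
  have hp' : IsPGroup p (Q.subgroupOf N) :=
    hQp.comap_of_injective N.subtype N.subtype_injective
  have hs := isSubOf_right H N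
  have key : ∀ (d : Set (IrrCharacter N)) (e' : Set (IrrCharacter (H ⊓ N : Subgroup G))),
      br (Q.subgroupOf N) (red M (blockElem d)) =
          br (Q.subgroupOf N) (bi M (H.subgroupOf N) (inSub hs inf_le_right e')) ↔
        br Q (bi M N d) = br Q (bi M (H ⊓ N) e') := fun d e' => by
    rw [← (emb_injective N).eq_iff, emb_br N Q hQN, emb_br N Q hQN, emb_red_blockElem,
      emb_bi_inSub]
  have heb := isPBlock_inSub hs inf_le_right he
  have heD := (isDefectGroup_inSub_iff hs inf_le_right).2 heQ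
  obtain ⟨d, hd, hdQ, hbr, -⟩ := firstMain_up (G := N) hM hn hp' heb heD
  obtain ⟨c, hc, -, hcbr, huniq⟩ := firstMain_down (G := N) hM hn hd hdQ
  refine ⟨d, (isInducedBlock_inSub_iff hs inf_le_right he).1
    (isInducedBlock_of_br_eq (G := N) hM (Subgroup.le_normalizer.trans hn)
      ((Subgroup.centralizer_le_normalizer _).trans hn) hd hdQ heb hbr),
    hdQ, (key d e).1 hbr, fun e' he' h => ?_⟩
  have h1 := huniq _ (isPBlock_inSub hs inf_le_right he') ((key d e').2 h)
  have h2 := huniq _ heb hbr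
  refine bi_injective hM he' he ?_
  rw [← emb_bi_inSub hs inf_le_right e', h1, ← h2, emb_bi_inSub]

end Normal

/-- **Harris–Knörr.** -/
theorem harrisKnorr (hM : IsPModular p M) {N : Subgroup G} [N.Normal] [Fintype N]
    {Q H : Subgroup G} (hQp : IsPGroup p Q) (hQN : Q ≤ N)
    (hH : H = Subgroup.normalizer (Q : Set G)) [Fintype H] [Fintype (H ⊓ N : Subgroup G)]
    {d : Set (IrrCharacter N)} (hd : IsPBlock M d)
    (hdQ : IsDefectGroup p M d (Q.subgroupOf N))
    {e : Set (IrrCharacter (H ⊓ N : Subgroup G))} (he : IsPBlock M e)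
    (heQ : IsDefectGroup p M e (Q.subgroupOf (H ⊓ N)))
    (hed : IsInducedBlockIn M N (H ⊓ N) e d) :
    (∀ c : Set (IrrCharacter H), IsPBlock M c →
      (∃ ψ ∈ c, ∃ ξ ∈ e, classInner (fun l : (H ⊓ N : Subgroup G) =>
        (ψ : H → ℂ) (Subgroup.inclusion inf_le_left l)) (ξ : _ → ℂ) ≠ 0) →
      ∃! B : Set (IrrCharacter G), IsInducedBlock M H c B ∧
        ∃ χ ∈ B, ∃ θ ∈ d, classInner (fun n : N => (χ : G → ℂ) n) (θ : N → ℂ) ≠ 0) ∧
    (∀ B : Set (IrrCharacter G), IsPBlock M B →
      (∃ χ ∈ B, ∃ θ ∈ d, classInner (fun n : N => (χ : G → ℂ) n) (θ : N → ℂ) ≠ 0) →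
      ∃! c : Set (IrrCharacter H), (IsPBlock M c ∧
        ∃ ψ ∈ c, ∃ ξ ∈ e, classInner (fun l : (H ⊓ N : Subgroup G) =>
          (ψ : H → ℂ) (Subgroup.inclusion inf_le_left l)) (ξ : _ → ℂ) ≠ 0) ∧
        IsInducedBlock M H c B) := by
  classical
  haveI := charP_res hM
  letI : Fintype (N.subgroupOf H) := Fintype.ofFinite _
  letI : Fintype (H.subgroupOf N) := Fintype.ofFinite _
  have hQH : Q ≤ H := by rw [hH]; exact Subgroup.le_normalizer
  have hCH : C⟨Q⟩ ≤ H := by rw [hH]; exact Subgroup.centralizer_le_normalizer _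
  have hHN : Subgroup.normalizer (Q : Set G) ≤ H := hH.ge
  have hQL : Q.subgroupOf H ≤ N.subgroupOf H := fun x hx => hQN hx
  have hsl := isSubOf_left H N
  refine ⟨fun c hc hcov => ?_, fun B hB hcov => ?_⟩
  · obtain ⟨B, hind⟩ := inducedBlockDefined_local hM hQp hQH hCH hH.le hc
    exact ⟨B, ⟨hind, covers_of_induced hM hc hind hed hcov⟩,
      fun B' hB' => IsInducedBlock.unique hM hB'.1 hind⟩
  -- the normaliser of a defect group meeting `N` in `Q` lies in `H`
  have hnorm : ∀ P : Subgroup G, P ⊓ N = Q → Subgroup.normalizer (P : Set G) ≤ H := by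
    intro P hP x hx
    rw [hH, Subgroup.mem_normalizer_iff]
    intro y
    rw [← hP, Subgroup.mem_inf, Subgroup.mem_inf]
    refine and_congr (Subgroup.mem_normalizer_iff.1 hx y) ?_
    exact ⟨fun h => ‹N.Normal›.conj_mem y h x, fun h => by
      simpa [mul_assoc] using ‹N.Normal›.conj_mem _ h x⁻¹⟩
  obtain ⟨P, hP, hPN⟩ := exists_defect_inf_eq hM hd hQN hdQ hB hcov
  have hnP := hnorm P hPN
  have hPH : P ≤ H := Subgroup.le_normalizer.trans hnP
  obtain ⟨c, hc, hcP, hcbr, hcu⟩ := firstMain_down hM hnP hB hP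
  have hind : IsInducedBlock M H c B := isInducedBlock_of_br_eq hM hPH
    ((Subgroup.centralizer_le_normalizer _).trans hnP) hB hP hc hcbr
  refine ⟨c, ⟨⟨hc, ?_⟩, hind⟩, ?_⟩
  · -- the block of `H` covers `e`
    obtain ⟨e₀, he₀, -, ⟨ψ, hψ, ξ₀, hξ₀, hne⟩, he₀D⟩ :=
      exists_stable_covered (G := H) hM (N.subgroupOf H) hc hcP
    have hPQ : P.subgroupOf H ⊓ N.subgroupOf H = Q.subgroupOf H := by
      ext x
      rw [Subgroup.mem_inf, Subgroup.mem_subgroupOf, Subgroup.mem_subgroupOf,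
        Subgroup.mem_subgroupOf, ← hPN, Subgroup.mem_inf]
    rw [hPQ] at he₀D
    obtain ⟨e', he', rfl⟩ := exists_inSub hsl inf_le_left he₀
    have he'Q := (isDefectGroup_inSub_iff hsl inf_le_left).1 he₀D
    obtain ⟨d', hd'i, hd'Q, hd'br, -⟩ := correspondent_br (H := H) hM hQp hQN hHN he' he'Q
    obtain ⟨χ, hχ, θ, hθ, hne'⟩ := covers_of_induced hM hc hind hd'i
      (covers_sub_iff.1 ⟨ψ, hψ, ξ₀, hξ₀, hne⟩)
    obtain ⟨χ₁, hχ₁, θ₁, hθ₁, hne₁⟩ := hcov
    obtain ⟨g, θ₂, hθ₂, hg⟩ := constituent_mem_orb hM hB hd hχ₁ hχ hθ₁ hne₁ hne'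
    have hdg : d' = cjIrr N g '' d :=
      IsPBlock.eq_of_mem_inter hM hd'i.2.1 (IsPBlock.image_irrEquiv _ hd) hθ ⟨θ₂, hθ₂, hg.symm⟩
    subst hdg
    -- the conjugating element may be taken in `H`
    obtain ⟨n, hn⟩ := IsDefectGroup.exists_eq_conj hM hd'i.2.1 (isDefectGroup_cjIrr hQN hdQ g)
      hd'Q
    have hQ'N : Q.map (MulAut.conj g⁻¹).toMonoidHom ≤ N := by
      rintro _ ⟨y, hy, rfl⟩
      exact Subgroup.Normal.conj_mem ‹_› y (hQN hy) g⁻¹
    have h1 := congrArg (fun K : Subgroup N => K.map N.subtype) hn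
    simp only [Subgroup.map_map] at h1
    rw [show (N.subtype.comp (MulAut.conj n).toMonoidHom) =
        (MulAut.conj (n : G)).toMonoidHom.comp N.subtype from MonoidHom.ext fun _ => rfl,
      ← Subgroup.map_map, Subgroup.map_subgroupOf_eq_of_le hQN,
      Subgroup.map_subgroupOf_eq_of_le hQ'N, map_conj_map] at h1
    have hk : (n : G) * g⁻¹ ∈ H := by
      refine hHN (Subgroup.mem_normalizer_iff.2 fun y => ?_)
      constructor
      · intro hy
        rw [h1]
        exact ⟨y, hy, rfl⟩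
      · intro hy
        rw [h1] at hy
        obtain ⟨z, hz, hzy⟩ := hy
        have : z = y := (MulAut.conj ((n : G) * g⁻¹)).injective hzy
        exact this ▸ hz
    have hdi : bi M N (cjIrr N g '' d) = cj ((n : G) * g⁻¹) (bi M N d) := by
      have h2 : bi M N (cjIrr N g '' d) = cj (n : G) (bi M N (cjIrr N g '' d)) :=
        ((invOn_iff.1 (invOn_bi _)) (n : G) n.2).symm
      rw [h2, bi_cjIrr, cj_cj]
    obtain ⟨d₀, hd₀i, -, hd₀br, hd₀u⟩ := correspondent_br (H := H) hM hQp hQN hHN he heQ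
    have hd₀ : d₀ = d := IsInducedBlock.unique (G := N) hM
      ((isInducedBlock_inSub_iff (isSubOf_right H N) inf_le_right he).2 hd₀i)
      ((isInducedBlock_inSub_iff (isSubOf_right H N) inf_le_right he).2 hed)
    subst hd₀
    set k : H := ⟨(n : G) * g⁻¹, hk⟩ with hkdef
    -- the conjugate of `e'` corresponds to `d`
    set E : Set (IrrCharacter (N.subgroupOf H)) :=
      cjIrr (N.subgroupOf H) k '' inSub hsl inf_le_left e' with hE
    obtain ⟨e'', he'', heE⟩ := exists_inSub hsl inf_le_left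
      (IsPBlock.image_irrEquiv _ he₀ : IsPBlock M E)
    have hcjbr : ∀ x : MonoidAlgebra (Res M) G, cj (k : G)⁻¹ (br Q x) = br Q (cj (k : G)⁻¹ x) :=
      fun x => by
        rw [cj_br, map_conj_of_mem_normalizer (hH.le (H.inv_mem k.2))]
    have hbr'' : br Q (bi M N d₀) = br Q (bi M (H ⊓ N) e'') := by
      have h3 : bi M (H ⊓ N) e'' = cj (k : G)⁻¹ (bi M (H ⊓ N) e') := by
        rw [← emb_bi_inSub hsl inf_le_left e'', heE]
        erw [bi_cjIrr]
        rw [← cj_emb, emb_bi_inSub]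
        rfl
      rw [h3, ← hcjbr, ← hd'br, hcjbr, hdi, cj_cj]
      rw [show (k : G)⁻¹ * ((n : G) * g⁻¹) = 1 from inv_mul_cancel _, cj_one]
    obtain rfl := hd₀u e'' he'' hbr''
    refine covers_sub_iff.1 ⟨ψ, hψ, cjIrr (N.subgroupOf H) k ξ₀, ?_, ?_⟩
    · rw [heE]; exact ⟨ξ₀, hξ₀, rfl⟩
    · exact constituent_cjIrr hne k
  · -- uniqueness
    rintro c' ⟨⟨hc', hcov'⟩, hind'⟩
    have hcov'' := (covers_sub_iff (c := c') (e := e)).2 hcov'
    obtain ⟨R, hR, hRN⟩ := exists_defect_inf_eq (G := H) hM (isPBlock_inSub hsl inf_le_left he)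
      hQL ((isDefectGroup_inSub_iff hsl inf_le_left).2 heQ) hc' hcov''
    set P' := R.map H.subtype with hP'
    have hP'H : P' ≤ H := Subgroup.map_subtype_le R
    have hsub : P'.subgroupOf H = R :=
      Subgroup.comap_map_eq_self_of_injective H.subtype_injective R
    have hP'N : P' ⊓ N = Q := by
      refine le_antisymm ?_ fun y hy => ?_
      · rintro _ ⟨⟨x, hx, rfl⟩, hxN⟩
        have : x ∈ Q.subgroupOf H := hRN ▸ Subgroup.mem_inf.2 ⟨hx, hxN⟩
        exact this
      · have h1 : (⟨y, hQH hy⟩ : H) ∈ R ⊓ N.subgroupOf H := by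
          rw [hRN]; exact hy
        exact ⟨⟨_, h1.1, rfl⟩, hQN hy⟩
    have hnP' := hnorm P' hP'N
    have hP'p : IsPGroup p P' := (IsDefectGroup.isPGroup hR).map _
    obtain ⟨hBP', -⟩ := firstMain_of_induced hM hnP' hP'p hc' (hsub.symm ▸ hR) hind'
    obtain ⟨x, hx⟩ := IsDefectGroup.exists_eq_conj hM hB hBP' hP
    have hxH : x ∈ H := by
      refine hHN (Subgroup.mem_normalizer_iff.2 fun y => ?_)
      have hinj := (MulAut.conj x).injective
      have e1 : Q = Q.map (MulAut.conj x).toMonoidHom := by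
        rw [← hP'N, ← map_conj_inf_normal, ← hx, hPN, hP'N]
      constructor
      · intro hy
        rw [e1]
        exact ⟨y, hy, rfl⟩
      · intro hy
        rw [e1] at hy
        obtain ⟨z, hz, hzy⟩ := hy
        exact hinj hzy ▸ hz
    have hc'P : IsDefectGroup p M c' (P.subgroupOf H) := by
      have h1 := IsDefectGroup.conj hM hc' hR (⟨x, hxH⟩ : H)
      convert h1 using 1
      rw [hx]
      ext y
      constructor
      · rintro ⟨z, ⟨w, hw, rfl⟩, hz⟩
        exact ⟨w, hw, Subtype.ext hz⟩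
      · rintro ⟨w, hw, rfl⟩
        exact ⟨w, ⟨w, hw, rfl⟩, rfl⟩
    exact hcu c' hc' (firstMain_of_induced hM hnP (IsDefectGroup.isPGroup hP) hc' hc'P hind').2

end Cfsg.Lib.Blocks
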