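import Mathlib
import Cfsg.Agent.Blocks.GlaubermanSolvable
import Cfsg.Agent.Chars.Gallagher
import Cfsg.Agent.Chars.AbelianInertia
import Cfsg.Agent.Chars.IrrTools
import Cfsg.Agent.Chars.Inertia

/-!
# Invariant constituents above an invariant character in coprime layers
-/

set_option autoImplicit false
set_option linter.unusedSectionVars false

namespace Cfsg.Lib.InvariantConstituent

open Cfsg.Lib.Chars Subgroup
open scoped ComplexConjugate

universe u

/-! ## The case of a solvable group of operators -/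

/-- The elements of a central subgroup of order prime to `m`. -/
def primeToPart {Q : Type u} [Group Q] (Z : Subgroup Q) (hZ : ∀ z ∈ Z, ∀ y, z * y = y * z) (m : ℕ) :
    Subgroup Q where
  carrier := {z | z ∈ Z ∧ (orderOf z).Coprime m}
  one_mem' := ⟨Z.one_mem, by rw [orderOf_one]; exact Nat.coprime_one_left m⟩
  mul_mem' := fun {a b} ha hb => ⟨Z.mul_mem ha.1 hb.1,
    (Nat.Coprime.mul_left ha.2 hb.2).coprime_dvd_left
      (show Commute a b from hZ a ha.1 b).orderOf_mul_dvd_mul_orderOf⟩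
  inv_mem' := fun {a} ha => ⟨Z.inv_mem ha.1, by rw [orderOf_inv]; exact ha.2⟩

/-- A central subgroup inside a normal subgroup: split off the part of order prime to `m`. -/
lemma exists_split {Q : Type u} [Group Q] [Finite Q] (B Z : Subgroup Q) [B.Normal] (hZB : Z ≤ B)
    (hZ : ∀ z ∈ Z, ∀ y, z * y = y * z) {m : ℕ} (hm : Z.relIndex B = m)
    (hcop : Nat.Coprime m B.index) :
    ∃ K W : Subgroup Q, K.Normal ∧ K ≤ B ∧ W ≤ Z ∧ K ⊔ W = B ∧ K ⊓ W = ⊥ ∧
      (Nat.card K).Coprime K.index ∧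
      (∀ z ∈ Z, ∃ a ∈ K, ∃ w ∈ W, a ∈ Z ∧ z = a * w) := by
  classical
  let W := primeToPart Z hZ m
  have hWZ : W ≤ Z := fun z hz => hz.1
  haveI : (W.subgroupOf B).Normal := ⟨fun z hz y => by
    rw [mem_subgroupOf] at hz ⊢
    rw [coe_mul, coe_mul, coe_inv, ← hZ _ (hWZ hz) _, mul_inv_cancel_right]
    exact hz⟩
  have hcardW : ∀ q : ℕ, q.Prime → q ∣ Nat.card W → ¬ q ∣ m := fun q hq hqW hqm => by
    haveI := Fact.mk hq
    obtain ⟨x, hx⟩ := exists_prime_orderOf_dvd_card' q hqW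
    have h1 := x.2.2
    rw [orderOf_coe, hx] at h1
    exact hq.coprime_iff_not_dvd.1 h1 hqm
  have hidx : ∀ q : ℕ, q.Prime → q ∣ W.relIndex B → q ∣ m := fun q hq hqd => by
    by_contra hqm
    haveI := Fact.mk hq
    rw [← relIndex_mul_relIndex W Z B hWZ hZB, hm] at hqd
    rcases hq.dvd_mul.1 hqd with h1 | h1
    · obtain ⟨P⟩ := (inferInstance : Nonempty (Sylow q Z))
      refine P.not_dvd_index (h1.trans (index_dvd_of_le fun x hx => ?_))
      obtain ⟨k, hk⟩ := IsPGroup.iff_orderOf.1 P.2 ⟨x, hx⟩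
      refine ⟨x.2, ?_⟩
      show (orderOf (x : Q)).Coprime m
      rw [← orderOf_coe, ← orderOf_coe] at hk
      rw [show orderOf (x : Q) = q ^ k from hk]
      exact Nat.Coprime.pow_left k (hq.coprime_iff_not_dvd.2 hqm)
    · exact hqm h1
  have hcW : Nat.card (W.subgroupOf B) = Nat.card W :=
    Nat.card_congr (subgroupOfEquivOfLe (hWZ.trans hZB)).toEquiv
  obtain ⟨K', hK'⟩ := exists_right_complement'_of_coprime (N := W.subgroupOf B) (by
    refine Nat.coprime_of_dvd fun q hq h1 h2 => hcardW q hq (hcW ▸ h1) (hidx q hq h2))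
  let K := K'.map B.subtype
  have hKB : K ≤ B := map_subtype_le K'
  have hcK : Nat.card K = W.relIndex B := by
    rw [show Nat.card K = Nat.card K' from
      (Nat.card_congr (K'.equivMapOfInjective B.subtype (subtype_injective B)).toEquiv).symm,
      ← hK'.symm.index_eq_card]
    rfl
  have hcopKW : (Nat.card K).Coprime (Nat.card W) :=
    Nat.coprime_of_dvd fun q hq h1 h2 => hcardW q hq h2 (hidx q hq (hcK ▸ h1))
  have hsup : K ⊔ W = B := by
    have h1 := congrArg (Subgroup.map B.subtype) hK'.sup_eq_top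
    rwa [Subgroup.map_sup, map_subgroupOf_eq_of_le (hWZ.trans hZB), ← MonoidHom.range_eq_map,
      B.range_subtype, sup_comm] at h1
  have hinf : K ⊓ W = ⊥ := Cfsg.Lib.Coprime.inf_eq_bot_of_coprime hcopKW
  haveI : W.Normal := ⟨fun w hw y => by rwa [← hZ w (hWZ hw) y, mul_inv_cancel_right]⟩
  have hmul : ∀ b ∈ B, ∃ a ∈ K, ∃ w ∈ W, b = a * w := fun b hb => by
    rw [← hsup] at hb
    obtain ⟨a, ha, w, hw, rfl⟩ := mem_sup_of_normal_right.1 hb
    exact ⟨a, ha, w, hw, rfl⟩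
  have hpow : ∀ a ∈ K, a ^ Nat.card K = 1 := fun a ha =>
    orderOf_dvd_iff_pow_eq_one.1 (K.orderOf_dvd_natCard ha)
  have hnormal : K.Normal := ⟨fun a ha y => by
    obtain ⟨a', ha', w, hw, hyw⟩ := hmul _ (‹B.Normal›.conj_mem a (hKB ha) y)
    have h1 : w ^ Nat.card K = 1 := by
      have h2 := congrArg (· ^ Nat.card K) hyw
      simp only [conj_pow, hpow a ha, mul_one, mul_inv_cancel] at h2
      rwa [(show Commute a' w from (hZ w (hWZ hw) a').symm).mul_pow, hpow a' ha', one_mul,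
        eq_comm] at h2
    have hw1 : w = 1 := by
      rw [← orderOf_eq_one_iff]
      exact Nat.eq_one_of_dvd_coprimes hcopKW (orderOf_dvd_of_pow_eq_one h1)
        (W.orderOf_dvd_natCard hw)
    rw [hyw, hw1, mul_one]
    exact ha'⟩
  refine ⟨K, W, hnormal, hKB, hWZ, hsup, hinf, ?_, fun z hz => ?_⟩
  · rw [← relIndex_mul_index hKB]
    refine Nat.Coprime.mul_right ?_ (Nat.coprime_of_dvd fun q hq h1 h2 =>
      Nat.not_coprime_of_dvd_of_dvd hq.one_lt (hidx q hq (hcK ▸ h1)) h2 hcop)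
    have hKW : K.relIndex B ∣ Nat.card W := by
      rw [← hsup, sup_comm, relIndex_sup_right]
      exact relIndex_dvd_card K W
    exact hcopKW.coprime_dvd_right hKW
  · obtain ⟨a, ha, w, hw, hzw⟩ := hmul z (hZB hz)
    refine ⟨a, ha, w, hw, ?_, hzw⟩
    rw [show a = z * w⁻¹ by rw [hzw, mul_inv_cancel_right]]
    exact Z.mul_mem hz (Z.inv_mem (hWZ hw))

variable {Γ : Type u} [Group Γ] [Fintype Γ]

/-- Solvable quotient of operators. -/
theorem exists_inv_of_solvable_top (G N : Subgroup Γ) [G.Normal] [N.Normal] [Fintype G] [Fintype N]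
    (hNG : N ≤ G) (hcop : G.index.Coprime (N.relIndex G)) (hsolv : Group.IsSolvable (Γ ⧸ G))
    {θ : N → ℂ} (hθ : Cfsg.IsIrrCharacter N θ) (hinv : ∀ x : Γ, conjN N x θ = θ) :
    ∃ χ : G → ℂ, Cfsg.IsIrrCharacter G χ ∧
      classInner (fun n : N => χ ⟨n, hNG n.2⟩) θ ≠ 0 ∧ ∀ x : Γ, conjN G x χ = χ := by
  classical
  obtain ⟨d, ρ, hρ, hρc⟩ := hθ
  haveI := hρ
  have hinv' : ∀ x : Γ, conjN N x ρ.character = ρ.character := by rw [hρc]; exact hinv
  haveI := Fintype.ofFinite (twGroup N ρ)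
  let π := twProj N ρ
  have hπ : Function.Surjective π := twProj_surjective N ρ hinv'
  let Ns := (twIncl N ρ).range
  haveI : Ns.Normal := ⟨by rintro _ ⟨l, rfl⟩ g; exact ⟨_, (twIncl_conj N ρ g l).symm⟩⟩
  let q := QuotientGroup.mk' Ns
  have hq : Function.Surjective q := QuotientGroup.mk'_surjective Ns
  let pN : twGroup N ρ ⧸ Ns →* Γ ⧸ N := QuotientGroup.lift Ns ((QuotientGroup.mk' N).comp π) (by
    rintro _ ⟨n, rfl⟩
    exact (QuotientGroup.eq_one_iff _).2 n.2)
  have hpq : ∀ e, pN (q e) = (π e : Γ ⧸ N) := fun e => rfl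
  have hpN : Function.Surjective pN := fun y => by
    obtain ⟨x, rfl⟩ := QuotientGroup.mk_surjective y
    obtain ⟨e, rfl⟩ := hπ x
    exact ⟨q e, rfl⟩
  let B := (G.map (QuotientGroup.mk' N)).comap pN
  let Z := pN.ker
  haveI : (G.map (QuotientGroup.mk' N)).Normal :=
    ‹G.Normal›.map _ (QuotientGroup.mk'_surjective N)
  haveI : B.Normal := Subgroup.Normal.comap inferInstance pN
  have hker : ∀ e ∈ π.ker, ∀ y, e * y = y * e := by
    intro e he y
    obtain ⟨c, hc⟩ := exists_scalar_of_ker N ρ e he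
    refine Subtype.ext (Prod.ext ?_ (Units.ext ?_))
    · show π e * π y = π y * π e
      rw [MonoidHom.mem_ker.1 he, one_mul, mul_one]
    · show (e.1.2 : Module.End ℂ (Fin d → ℂ)) * _ = _ * (e.1.2 : Module.End ℂ (Fin d → ℂ))
      rw [show (e.1.2 : Module.End ℂ (Fin d → ℂ)) = (c : ℂ) • 1 from hc]
      simp
  have hZker : ∀ z ∈ Z, ∃ e ∈ π.ker, q e = z := by
    intro z hz
    obtain ⟨e, rfl⟩ := hq z
    have he : π e ∈ N := (QuotientGroup.eq_one_iff _).1 (MonoidHom.mem_ker.1 hz)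
    refine ⟨e * (twIncl N ρ ⟨π e, he⟩)⁻¹, ?_, ?_⟩
    · rw [MonoidHom.mem_ker, map_mul, map_inv]
      show π e * (π e)⁻¹ = 1
      exact mul_inv_cancel _
    · rw [map_mul, map_inv, show q (twIncl N ρ ⟨π e, he⟩) = 1 from
        (QuotientGroup.eq_one_iff _).2 ⟨_, rfl⟩, inv_one, mul_one]
  have hZ : ∀ z ∈ Z, ∀ y, z * y = y * z := by
    intro z hz y
    obtain ⟨e, he, rfl⟩ := hZker z hz
    obtain ⟨y', rfl⟩ := hq y
    rw [← map_mul, ← map_mul, hker e he y']
  have hZB : Z ≤ B := fun z hz => by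
    show pN z ∈ G.map _
    rw [MonoidHom.mem_ker.1 hz]; exact one_mem _
  have hBidx : B.index = G.index := by
    rw [index_comap_of_surjective _ hpN, index_map_eq _ (QuotientGroup.mk'_surjective N)
      (by rwa [QuotientGroup.ker_mk'])]
  have hBm : Z.relIndex B = N.relIndex G := by
    show pN.ker.relIndex B = _
    conv_rhs => rw [← QuotientGroup.ker_mk' N]
    rw [← MonoidHom.comap_bot, relIndex_comap, ← MonoidHom.comap_bot, relIndex_comap,
      map_comap_eq_self_of_surjective hpN]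
  obtain ⟨K, W, hK, hKB, hWZ, hKW, hKWbot, hKcop, hZdec⟩ :=
    exists_split B Z hZB hZ hBm (by rw [hBidx]; exact hcop.symm)
  haveI := hK
  -- the scalar character
  let f : π.ker →* Z := (q.comp π.ker.subtype).codRestrict Z fun e => by
    rw [MonoidHom.mem_ker]
    show pN (q (e : twGroup N ρ)) = 1
    rw [hpq, show π (e : twGroup N ρ) = 1 from e.2]; rfl
  have hf : Function.Bijective f := by
    refine ⟨(MonoidHom.ker_eq_bot_iff f).1 ((eq_bot_iff_forall _).2 fun e he => ?_), fun z => ?_⟩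
    · obtain ⟨n, hn⟩ := (QuotientGroup.eq_one_iff _).1
        (congrArg Subtype.val (MonoidHom.mem_ker.1 he) : q (e : twGroup N ρ) = 1)
      replace hn : twIncl N ρ n = (e : twGroup N ρ) := hn
      have h1 : (n : Γ) = 1 := by
        have : π (e : twGroup N ρ) = 1 := e.2
        rw [← hn] at this
        exact this
      refine Subtype.ext ?_
      rw [← hn, show n = 1 from Subtype.ext h1, map_one]; rfl
    · obtain ⟨e, he, hez⟩ := hZker z z.2
      exact ⟨⟨e, he⟩, Subtype.ext hez⟩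
  let ci : Z →* ℂˣ := ((twScalar N ρ).comp (MulEquiv.ofBijective f hf).symm.toMonoidHom)⁻¹
  have hci : ∀ e : π.ker, ci (f e) = (twScalar N ρ e)⁻¹ := fun e => by
    show (twScalar N ρ ((MulEquiv.ofBijective f hf).symm (f e)))⁻¹ = _
    rw [show f e = MulEquiv.ofBijective f hf e from rfl, MulEquiv.symm_apply_apply]
  -- the invariant character of the complement
  obtain ⟨H, hH⟩ := exists_left_complement'_of_coprime (N := K) hKcop
  let act : H →* MulAut K := (MulAut.conjNormal (H := K)).comp H.subtype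
  haveI : Group.IsSolvable (Γ ⧸ G) := hsolv
  let pG : twGroup N ρ ⧸ Ns →* Γ ⧸ G := QuotientGroup.lift Ns ((QuotientGroup.mk' G).comp π) (by
    rintro _ ⟨n, rfl⟩
    exact (QuotientGroup.eq_one_iff _).2 (hNG n.2))
  have hpG : ∀ y, pG y = 1 → y ∈ B := by
    intro y hy
    obtain ⟨e, rfl⟩ := hq y
    exact ⟨π e, (QuotientGroup.eq_one_iff _).1 hy, rfl⟩
  let gH : H →* Γ ⧸ G := pG.comp H.subtype
  have hcomm : ∀ a b : gH.ker, a * b = b * a := by
    intro a b
    have hdec : ∀ y ∈ B, ∃ k ∈ K, ∃ w ∈ W, y = k * w := fun y hy => by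
      rw [← hKW] at hy
      exact (mem_sup_of_normal_left.1 hy).imp fun k hk => ⟨hk.1, hk.2.imp fun w hw => ⟨hw.1, hw.2.symm⟩⟩
    obtain ⟨k₁, hk₁, w₁, hw₁, h₁⟩ := hdec _ (hpG _ a.2)
    obtain ⟨k₂, hk₂, w₂, hw₂, h₂⟩ := hdec _ (hpG _ b.2)
    have hc : ((a : H) : twGroup N ρ ⧸ Ns) * (b : H) * ((a : H) : twGroup N ρ ⧸ Ns)⁻¹ *
        ((b : H) : twGroup N ρ ⧸ Ns)⁻¹ ∈ H ⊓ K := by
      refine ⟨H.mul_mem (H.mul_mem (H.mul_mem a.1.2 b.1.2) (H.inv_mem a.1.2))
        (H.inv_mem b.1.2), ?_⟩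
      have e1 : ((a : H) : twGroup N ρ ⧸ Ns) = k₁ * w₁ := h₁
      have e2 : ((b : H) : twGroup N ρ ⧸ Ns) = k₂ * w₂ := h₂
      rw [e1, e2]
      have c1 : ∀ y, w₁ * y = y * w₁ := hZ w₁ (hWZ hw₁)
      have c2 : ∀ y, w₂ * y = y * w₂ := hZ w₂ (hWZ hw₂)
      have : k₁ * w₁ * (k₂ * w₂) * (k₁ * w₁)⁻¹ * (k₂ * w₂)⁻¹ = k₁ * k₂ * k₁⁻¹ * k₂⁻¹ := by
        calc k₁ * w₁ * (k₂ * w₂) * (k₁ * w₁)⁻¹ * (k₂ * w₂)⁻¹
            = k₁ * (w₁ * (k₂ * w₂)) * w₁⁻¹ * k₁⁻¹ * w₂⁻¹ * k₂⁻¹ := by group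
          _ = k₁ * k₂ * (w₂ * k₁⁻¹) * w₂⁻¹ * k₂⁻¹ := by rw [c1]; group
          _ = k₁ * k₂ * k₁⁻¹ * k₂⁻¹ := by rw [c2]; group
      show _ ∈ K
      rw [this]
      exact mul_mem (mul_mem (mul_mem hk₁ hk₂) (inv_mem hk₁)) (inv_mem hk₂)
    rw [disjoint_iff.1 hH.disjoint, mem_bot] at hc
    refine Subtype.ext (Subtype.ext ?_)
    show ((a : H) : twGroup N ρ ⧸ Ns) * (b : H) = (b : H) * (a : H)
    have := mul_inv_eq_one.1 hc
    rw [mul_inv_eq_iff_eq_mul] at this
    exact this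
  haveI : Group.IsSolvable gH.ker := Group.isSolvable_of_comm hcomm
  haveI : Group.IsSolvable H :=
    Group.isSolvable_of_ker_le_range gH.ker.subtype gH (le_of_eq gH.ker.range_subtype.symm)
  let Z₁ := Z.subgroupOf K
  haveI : Z₁.Normal := ⟨fun z hz y => by
    rw [mem_subgroupOf] at hz ⊢
    rw [coe_mul, coe_mul, coe_inv, ← hZ _ hz _, mul_inv_cancel_right]
    exact hz⟩
  haveI := Fintype.ofFinite K
  haveI := Fintype.ofFinite Z₁
  let lam : Z₁ →* ℂˣ := ci.comp
    { toFun := fun x => ⟨((x : K) : twGroup N ρ ⧸ Ns), x.2⟩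
      map_one' := rfl, map_mul' := fun _ _ => rfl }
  have hfix : ∀ (h : H) (x : K), (x : twGroup N ρ ⧸ Ns) ∈ Z → act h x = x := fun h x hx =>
    Subtype.ext (by
      show MulAut.conjNormal (h : twGroup N ρ ⧸ Ns) x = (x : twGroup N ρ ⧸ Ns)
      rw [MulAut.conjNormal_apply, ← hZ _ hx, mul_inv_cancel_right])
  obtain ⟨b, hb, hbinv⟩ := Glauberman.exists_inv_over _ K act.range Z₁ rfl
    (Group.isSolvable_of_surjective act.rangeRestrict_surjective)
    (by
      refine hKcop.coprime_dvd_right ((card_range_dvd act).trans ?_)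
      rw [hH.index_eq_card])
    (by rintro _ ⟨h, rfl⟩ x hx; rw [hfix h x hx]; exact hx)
    ⟨_, isIrrCharacter_linear lam⟩
    (by
      rintro _ ⟨h, rfl⟩ x
      have he : act h (x : K) = x := hfix h _ x.2
      simp only [he])
  have hb1 : ∀ x : Z₁, (b : K → ℂ) x = (lam x : ℂ) * (b : K → ℂ) 1 := by
    obtain ⟨e, -, he⟩ := restrict_eq_mult_of_invariant Z₁ b.2 (isIrrCharacter_linear lam)
      (fun y => funext fun x => congrArg (fun t => (lam t : ℂ)) (Subtype.ext (Subtype.ext (by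
        show ((y : K) : twGroup N ρ ⧸ Ns) * (x : K) * ((y : K) : twGroup N ρ ⧸ Ns)⁻¹ = (x : K)
        rw [← hZ _ (show ((x : K) : twGroup N ρ ⧸ Ns) ∈ Z from x.2), mul_inv_cancel_right])))) hb
    intro x
    have e1 := congrFun he x
    have e2 := congrFun he 1
    simp only [Pi.smul_apply, smul_eq_mul, map_one, Units.val_one, mul_one, OneMemClass.coe_one] at e1 e2
    rw [e1, e2]; ring
  have hbK : ∀ (y : twGroup N ρ ⧸ Ns) (x : K), (b : K → ℂ) (MulAut.conjNormal y x) = (b : K → ℂ) x := by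
    intro y x
    obtain ⟨k, hk, h, hh, rfl⟩ := mem_sup_of_normal_left.1
      (show y ∈ K ⊔ H from by rw [sup_comm, hH.sup_eq_top]; exact mem_top y)
    rw [map_mul, MulAut.mul_apply,
      show MulAut.conjNormal k (MulAut.conjNormal h x) =
        ⟨k, hk⟩ * MulAut.conjNormal h x * (⟨k, hk⟩ : K)⁻¹ from
        Subtype.ext (by rw [MulAut.conjNormal_apply]; rfl),
      isClassFunction_irr b]
    exact hbinv _ ⟨⟨h, hh⟩, rfl⟩ x
  -- the character of the product
  let P : K × W →* B :=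
    MonoidHom.noncommCoprod (Subgroup.inclusion hKB) (Subgroup.inclusion (hWZ.trans hZB))
      fun k w => Subtype.ext (hZ _ (hWZ w.2) _).symm
  have hP : Function.Bijective P := by
    refine ⟨(MonoidHom.ker_eq_bot_iff P).1 ((eq_bot_iff_forall _).2 ?_), fun y => ?_⟩
    · rintro ⟨k, w⟩ he
      have h1 : (k : twGroup N ρ ⧸ Ns) * w = 1 := congrArg Subtype.val (MonoidHom.mem_ker.1 he)
      have h2 : (k : twGroup N ρ ⧸ Ns) ∈ K ⊓ W :=
        ⟨k.2, by rw [eq_inv_of_mul_eq_one_left h1]; exact W.inv_mem w.2⟩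
      rw [hKWbot, mem_bot] at h2
      rw [h2, one_mul] at h1
      exact Prod.ext (Subtype.ext h2) (Subtype.ext h1)
    · obtain ⟨k, hk, w, hw, hy⟩ := mem_sup_of_normal_left.1 (show (y : twGroup N ρ ⧸ Ns) ∈ K ⊔ W from hKW.symm ▸ y.2)
      exact ⟨(⟨k, hk⟩, ⟨w, hw⟩), Subtype.ext hy⟩
  let eP := MulEquiv.ofBijective P hP
  let βf : K × W → ℂ := fun x =>
    (((ci.comp (Subgroup.inclusion hWZ)).comp (MonoidHom.snd K W)) x : ℂ) * (b : K → ℂ) x.1
  have hβf : Cfsg.IsIrrCharacter (K × W) βf :=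
    IsIrrCharacter.mul_linear (IsIrrCharacter.comp_surjective b.2 (MonoidHom.fst K W)
      fun k => ⟨(k, 1), rfl⟩) _
  let β : B → ℂ := fun y => βf (eP.symm y)
  haveI := Fintype.ofFinite B
  have hβ : Cfsg.IsIrrCharacter B β := IsIrrCharacter.comp_mulEquiv hβf eP.symm
  have hβP : ∀ x, β (P x) = βf x := fun x => congrArg βf (eP.symm_apply_apply x)
  have hβconj : ∀ (y : twGroup N ρ ⧸ Ns) (z z' : B),
      (z' : twGroup N ρ ⧸ Ns) = y * z * y⁻¹ → β z' = β z := by
    intro y z z' hz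
    obtain ⟨⟨k, w⟩, rfl⟩ := hP.2 z
    have : z' = P (MulAut.conjNormal y k, w) := Subtype.ext (by
      rw [hz]
      show y * ((k : twGroup N ρ ⧸ Ns) * w) * y⁻¹ = (MulAut.conjNormal y k : K) * w
      rw [MulAut.conjNormal_apply, show y * ((k : twGroup N ρ ⧸ Ns) * w) * y⁻¹ =
        y * k * ((w : twGroup N ρ ⧸ Ns) * y⁻¹) by group, hZ _ (hWZ w.2)]
      group)
    rw [this, hβP, hβP]
    show _ * (b : K → ℂ) (MulAut.conjNormal y k) = _ * (b : K → ℂ) k
    rw [hbK]
    rfl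
  -- back to the intertwiner group
  let Gs := G.comap π
  haveI := Fintype.ofFinite Gs
  let i : Gs →* B := (q.comp Gs.subtype).codRestrict B fun e => ⟨π (e : twGroup N ρ), e.2, rfl⟩
  have hi : Function.Surjective i := by
    rintro ⟨y, hy⟩
    obtain ⟨e, rfl⟩ := hq y
    obtain ⟨g, hg, hge⟩ := hy
    refine ⟨⟨e, ?_⟩, rfl⟩
    show π e ∈ G
    have h1 : g⁻¹ * π e ∈ N := QuotientGroup.eq.1 hge
    simpa using mul_mem hg (hNG h1)
  let η : twGroup N ρ → ℂ := (twNat N ρ).character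
  have hηc : Cfsg.IsCharacter (twGroup N ρ) η := isCharacter_character _
  have hηN : ∀ n : N, η (twIncl N ρ n) = θ n := fun n => by rw [← hρc]; rfl
  let Ns' := Ns.subgroupOf Gs
  haveI : Ns'.Normal := Subgroup.Normal.subgroupOf inferInstance Gs
  let j : N →* Ns' :=
    { toFun := fun n => ⟨⟨twIncl N ρ n, show π (twIncl N ρ n) ∈ G from hNG n.2⟩, ⟨n, rfl⟩⟩
      map_one' := Subtype.ext (Subtype.ext (map_one _))
      map_mul' := fun a c => Subtype.ext (Subtype.ext (map_mul _ _ _)) }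
  have hηG : Cfsg.IsIrrCharacter Gs (fun e : Gs => η e) :=
    irr_of_comp_irr (IsCharacter.comp_hom hηc Gs.subtype) (Ns'.subtype.comp j) (by
      rw [show (fun x => η ((Ns'.subtype.comp j x : Gs) : twGroup N ρ)) = θ from funext hηN]
      exact ⟨d, ρ, hρ, hρc⟩)
  have hηNs : Cfsg.IsIrrCharacter Ns' (fun e : Ns' => η ((e : Gs) : twGroup N ρ)) :=
    irr_of_comp_irr (IsCharacter.comp_hom hηc (Gs.subtype.comp Ns'.subtype)) j (by
      rw [show (fun x => η (((j x : Ns') : Gs) : twGroup N ρ)) = θ from funext hηN]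
      exact ⟨d, ρ, hρ, hρc⟩)
  have hiN : ∀ e : Ns', i (e : Gs) = 1 := fun e =>
    Subtype.ext ((QuotientGroup.eq_one_iff _).2 e.2)
  have hirr : Cfsg.IsIrrCharacter Gs ((fun e => β (i e)) * fun e : Gs => η e) :=
    (gallagher_trivial Ns' hηG hηNs (IsIrrCharacter.comp_surjective hβ i hi)
      (IsIrrCharacter.comp_surjective hβ i hi) (fun e => by rw [hiN, map_one])
      (fun e => by rw [hiN, map_one])).1
  let πG : Gs →* G := (π.comp Gs.subtype).codRestrict G fun e => e.2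
  have hπG : Function.Surjective πG := fun g => by
    obtain ⟨e, he⟩ := hπ g
    exact ⟨⟨e, show π e ∈ G from he ▸ g.2⟩, Subtype.ext he⟩
  have hkern : ∀ k ∈ πG.ker, ((fun e => β (i e)) * fun e : Gs => η e) k =
      ((fun e => β (i e)) * fun e : Gs => η e) 1 := by
    intro k hk
    have hk' : (k : twGroup N ρ) ∈ π.ker := congrArg Subtype.val (MonoidHom.mem_ker.1 hk)
    let kk : π.ker := ⟨k, hk'⟩
    obtain ⟨a, ha, w, hw, haZ, hdec⟩ := hZdec _ (f kk).2
    have hiP : i k = P (⟨a, ha⟩, ⟨w, hw⟩) := Subtype.ext hdec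
    have h1 : β (i k) = (ci (f kk) : ℂ) * β 1 := by
      rw [hiP, hβP, ← map_one P, hβP]
      show (ci ⟨w, _⟩ : ℂ) * (b : K → ℂ) ⟨a, ha⟩ =
        (ci (f kk) : ℂ) * ((ci _ : ℂ) * (b : K → ℂ) 1)
      rw [show (⟨a, ha⟩ : K) = ((⟨⟨a, ha⟩, haZ⟩ : Z₁) : K) from rfl, hb1,
        show f kk = (⟨a, haZ⟩ : Z) * ⟨w, hWZ hw⟩ from Subtype.ext hdec, map_mul, Units.val_mul]
      simp only [map_one, Units.val_one, one_mul, Prod.snd_one]
      show _ * ((ci ⟨a, _⟩ : ℂ) * _) = _
      ring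
    have h2 : η k = (twScalar N ρ kk : ℂ) * η 1 := by
      show LinearMap.trace ℂ _ (twNat N ρ k) = _ * LinearMap.trace ℂ _ (twNat N ρ 1)
      rw [show twNat N ρ k = (twScalar N ρ kk : ℂ) • 1 from twScalar_spec N ρ kk, map_smul,
        map_one (twNat N ρ), smul_eq_mul]
    simp only [Pi.mul_apply, map_one, OneMemClass.coe_one]
    rw [h1, h2, hci, Units.val_inv_eq_inv_val]
    field_simp
  obtain ⟨χ, hχc, hχ⟩ := exists_factor πG hπG (isCharacter_of_irr hirr) hkern
  have hχirr : Cfsg.IsIrrCharacter G χ :=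
    IsIrrCharacter.descend hχc πG hπG (hχ ▸ hirr)
  have hval : ∀ e : Gs, β (i e) * η e = χ (πG e) := congrFun hχ
  refine ⟨χ, hχirr, ?_, fun x => funext fun g => ?_⟩
  · have h1 : (fun n : N => χ ⟨n, hNG n.2⟩) = β 1 • θ := funext fun n => by
      have h2 := hval (j n : Gs)
      rw [hiN, show η (((j n : Ns') : Gs) : twGroup N ρ) = θ n from hηN n] at h2
      rw [Pi.smul_apply, smul_eq_mul, h2]
      exact congrArg χ (Subtype.ext rfl)
    rw [h1, classInner_smul_left, classInner_self_irr ⟨d, ρ, hρ, hρc⟩, mul_one]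
    exact IsIrrCharacter.apply_one_ne_zero hβ
  · obtain ⟨xe, hxe⟩ := hπ x
    obtain ⟨ge, rfl⟩ := hπG g
    let ge' : Gs := ⟨xe * ge * xe⁻¹, by
      show π (xe * ge * xe⁻¹) ∈ G
      rw [map_mul, map_mul, map_inv, hxe]
      exact ‹G.Normal›.conj_mem _ ge.2 x⟩
    show χ _ = χ (πG ge)
    rw [show (⟨x * (πG ge : Γ) * x⁻¹, _⟩ : G) = πG ge' from Subtype.ext (by
      show x * π ge * x⁻¹ = π (xe * ge * xe⁻¹)
      rw [map_mul, map_mul, map_inv, hxe]), ← hval, ← hval]
    have e1 : β (i ge') = β (i ge) := hβconj (q xe) _ _ (by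
      show q (xe * ge * xe⁻¹) = _
      rw [map_mul, map_mul, map_inv]
      rfl)
    have e2 : η (ge' : twGroup N ρ) = η ge := isClassFunction_isChar hηc _ _
    rw [e1, e2]

/-! ## The case of a solvable section -/

/-- A fixed point in a transitive action of an abelian group, by averaging a cocycle. -/
lemma exists_fixed {L : Type u} [CommGroup L] {X : Type u} [MulAction L X] (x₀ : X)
    (htr : ∀ x : X, ∃ l : L, l • x₀ = x) {H : Type u} [Group H] [Fintype H] (act : H →* Equiv.Perm X)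
    (φ : H →* MulAut L) (hcompat : ∀ (h : H) (l : L) (x : X), act h (l • x) = φ h l • act h x)
    {m : ℕ} (hm : ∀ l : L, l ^ m = 1) (hcop : (Fintype.card H).Coprime m) :
    ∃ x : X, ∀ h : H, act h x = x := by
  classical
  let S := MulAction.stabilizer L x₀
  have hmk : ∀ {a b : L}, a • x₀ = b • x₀ ↔ (a : L ⧸ S) = (b : L ⧸ S) := fun {a b} => by
    rw [QuotientGroup.eq, MulAction.mem_stabilizer_iff, mul_smul, inv_smul_eq_iff, eq_comm]
  choose c hc using fun h : H => htr (act h x₀)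
  have hcoc : ∀ h k : H, (c (h * k) : L ⧸ S) = ((c h * φ h (c k) : L) : L ⧸ S) := fun h k => by
    refine hmk.1 ?_
    rw [hc, map_mul, Equiv.Perm.mul_apply, ← hc k, hcompat, ← hc h, ← mul_smul, mul_comm (c h)]
  obtain ⟨t, ht⟩ : ∃ t, t * Fintype.card H ≡ 1 [MOD m] := by
    rcases lt_trichotomy m 1 with hm0 | rfl | hm1
    · obtain rfl : m = 0 := by omega
      rw [Nat.coprime_zero_right] at hcop
      exact ⟨1, by rw [hcop]⟩
    · exact ⟨0, Nat.modEq_one⟩
    · obtain ⟨t, ht⟩ := Nat.exists_mul_mod_eq_one_of_coprime hcop hm1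
      refine ⟨t, ?_⟩
      rw [Nat.ModEq, Nat.mod_eq_of_lt hm1, mul_comm]
      exact ht.2
  let a := ∏ k, c k
  refine ⟨a ^ t • x₀, fun h => ?_⟩
  rw [hcompat, ← hc h, ← mul_smul, hmk]
  have h1 : (a : L ⧸ S) = ((c h ^ Fintype.card H * φ h a : L) : L ⧸ S) := by
    calc (a : L ⧸ S) = ((∏ k, c (h * k) : L) : L ⧸ S) :=
          congrArg _ (Equiv.prod_comp (Equiv.mulLeft h) c).symm
      _ = ∏ k, ((c (h * k) : L) : L ⧸ S) := map_prod (QuotientGroup.mk' S) _ _
      _ = ∏ k, ((c h * φ h (c k) : L) : L ⧸ S) := Finset.prod_congr rfl fun k _ => hcoc h k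
      _ = ((∏ k, c h * φ h (c k) : L) : L ⧸ S) := (map_prod (QuotientGroup.mk' S) _ _).symm
      _ = _ := by rw [Finset.prod_mul_distrib, Finset.prod_const, Finset.card_univ, map_prod]
  have h2 := congrArg (· ^ t) h1
  simp only [← QuotientGroup.mk_pow] at h2
  rw [h2, mul_pow, ← pow_mul, mul_comm (φ h (a ^ t)), map_pow]
  congr 2
  conv_lhs => rw [← pow_one (c h)]
  refine pow_eq_pow_of_modEq ?_ (hm _)
  rw [mul_comm]
  exact ht.symm

/-- Characters over the same invariant one differ by a linear character when the quotient is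
abelian. -/
lemma exists_twist (N : Subgroup Γ) [N.Normal] [Fintype N]
    (hab : ∀ x y : Γ, x * y * x⁻¹ * y⁻¹ ∈ N) {θ : N → ℂ} (hθ : Cfsg.IsIrrCharacter N θ)
    {χ₀ χ : Γ → ℂ} (hχ₀ : Cfsg.IsIrrCharacter Γ χ₀) (hχ : Cfsg.IsIrrCharacter Γ χ) {e₀ e : ℕ}
    (he₀ : e₀ ≠ 0) (he : e ≠ 0) (h₀ : (fun n : N => χ₀ n) = (e₀ : ℂ) • θ)
    (h : (fun n : N => χ n) = (e : ℂ) • θ) :
    ∃ f : Γ →* ℂˣ, (∀ n : N, f n = 1) ∧ (fun g => (f g : ℂ) * χ₀ g) = χ := by
  classical
  have := Fintype.ofFinite (Γ ⧸ N)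
  set π := QuotientGroup.mk' N with hπ
  have hQ : ∀ a b : Γ ⧸ N, a * b = b * a := by
    intro a b
    obtain ⟨x, rfl⟩ := QuotientGroup.mk'_surjective N a
    obtain ⟨y, rfl⟩ := QuotientGroup.mk'_surjective N b
    rw [← map_mul, ← map_mul]
    refine QuotientGroup.eq.mpr ?_
    simpa [mul_assoc] using hab y⁻¹ x⁻¹
  have hsum : ∀ g : Γ, ∑ l : Cfsg.IrrCharacter (Γ ⧸ N), (l : Γ ⧸ N → ℂ) (π g) =
      if g ∈ N then (Nat.card (Γ ⧸ N) : ℂ) else 0 := by
    intro g
    have h1 := sum_deg_mul (π g)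
    simp only [irr_deg_one_of_comm hQ (Subtype.prop _), one_mul] at h1
    rw [h1]
    exact if_congr (QuotientGroup.eq_one_iff g) rfl rfl
  have hone : ∑ n : N, θ n * conj (θ n) = (Nat.card N : ℂ) := by
    have h1 := classInner_self_irr hθ
    rw [classInner_def] at h1
    have : (Nat.card N : ℂ) ≠ 0 := by exact_mod_cast Nat.card_pos.ne'
    field_simp at h1
    exact h1
  have htot : ∑ l : Cfsg.IrrCharacter (Γ ⧸ N),
      Cfsg.classInner (fun g => (l : Γ ⧸ N → ℂ) (π g) * χ₀ g) χ ≠ 0 := by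
    simp only [classInner_def]
    rw [← Finset.mul_sum, Finset.sum_comm]
    refine mul_ne_zero (inv_ne_zero (by exact_mod_cast Nat.card_pos.ne')) ?_
    have h1 : ∀ g : Γ, ∑ l : Cfsg.IrrCharacter (Γ ⧸ N),
        (l : Γ ⧸ N → ℂ) (π g) * χ₀ g * conj (χ g) =
        if g ∈ N then (Nat.card (Γ ⧸ N) : ℂ) * (χ₀ g * conj (χ g)) else 0 := fun g => by
      simp only [mul_assoc]
      rw [← Finset.sum_mul, hsum g, ite_mul, zero_mul]
    rw [Finset.sum_congr rfl fun g _ => h1 g, ← Finset.sum_filter,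
      Finset.sum_subtype (p := fun g => g ∈ N) _ (fun g => by simp)]
    rw [Finset.sum_congr rfl (g := fun n : N =>
      (Nat.card (Γ ⧸ N) : ℂ) * ((e₀ : ℂ) * e) * (θ n * conj (θ n))) fun n _ => by
        rw [show χ₀ n = ((e₀ : ℂ) • θ) n from congrFun h₀ n,
          show χ n = ((e : ℂ) • θ) n from congrFun h n]
        simp only [Pi.smul_apply, smul_eq_mul, map_mul, Complex.conj_natCast]
        ring]
    rw [← Finset.mul_sum, hone]
    exact mul_ne_zero (mul_ne_zero (by exact_mod_cast Nat.card_pos.ne')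
      (mul_ne_zero (by exact_mod_cast he₀) (by exact_mod_cast he)))
      (by exact_mod_cast Nat.card_pos.ne')
  obtain ⟨l, -, hl⟩ := Finset.exists_ne_zero_of_sum_ne_zero htot
  obtain ⟨f, hf⟩ := exists_hom_of_deg_one (isCharacter_of_irr l.2) (irr_deg_one_of_comm hQ l.2)
  have hirr : Cfsg.IsIrrCharacter Γ (fun g => (l : Γ ⧸ N → ℂ) (π g) * χ₀ g) := by
    rw [hf]
    exact IsIrrCharacter.mul_linear hχ₀ (f.comp π)
  refine ⟨f.comp π, fun n => ?_, ?_⟩
  · show f (π n) = 1
    rw [show π (n : Γ) = 1 from (QuotientGroup.eq_one_iff _).2 n.2, map_one]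
  · by_contra hne
    rw [classInner_irrChar hirr hχ, if_neg (fun h => hne (by rw [← h, hf]; rfl))] at hl
    exact hl rfl

omit [Fintype Γ] in
/-- Conjugation preserves the multiplicity of an invariant constituent. -/
lemma classInner_conj [Finite Γ] (M N : Subgroup Γ) [M.Normal] [N.Normal] [Fintype N] (hNM : N ≤ M)
    {θ : N → ℂ} (hinv : ∀ x : Γ, conjN N x θ = θ) (η : M → ℂ) (x : Γ) :
    classInner (fun n : N => conjN M x η ⟨n, hNM n.2⟩) θ =
      classInner (fun n : N => η ⟨n, hNM n.2⟩) θ := by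
  conv_lhs => rw [show θ = fun n : N => θ (MulAut.conjNormal x n) from
    ((conjN_eq_comp N x θ).symm.trans (hinv x)).symm]
  rw [show (fun n : N => conjN M x η ⟨n, hNM n.2⟩) =
    fun n : N => η ⟨(MulAut.conjNormal x n : N), hNM (MulAut.conjNormal x n).2⟩ from
    funext fun n => congrArg η (Subtype.ext (MulAut.conjNormal_apply x n).symm)]
  exact classInner_comp_equiv (MulAut.conjNormal x : MulAut N).toEquiv
    (fun n : N => η ⟨n, hNM n.2⟩) θ

/-- An abelian layer: a character over `θ` fixed by a supplement of `G`. -/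
lemma exists_layer (G M N : Subgroup Γ) [G.Normal] [M.Normal] [N.Normal] [Fintype N] [Fintype M]
    (hNM : N ≤ M) (hMG : M ≤ G) (hab : ∀ x ∈ M, ∀ y ∈ M, x * y * x⁻¹ * y⁻¹ ∈ N)
    (hcopG : (M.relIndex G).Coprime G.index) (hcopM : (N.relIndex M).Coprime G.index)
    {θ : N → ℂ} (hθ : Cfsg.IsIrrCharacter N θ) (hinv : ∀ x : Γ, conjN N x θ = θ) :
    ∃ η : M → ℂ, Cfsg.IsIrrCharacter M η ∧ classInner (fun n : N => η ⟨n, hNM n.2⟩) θ ≠ 0 ∧
      inertia M η ⊔ G = ⊤ := by
  classical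
  let N' := N.subgroupOf M
  haveI : N'.Normal := Subgroup.Normal.subgroupOf inferInstance M
  haveI := Fintype.ofFinite N'
  let e := subgroupOfEquivOfLe hNM
  let θ' : N' → ℂ := fun x => θ (e x)
  have hθ' : Cfsg.IsIrrCharacter N' θ' := IsIrrCharacter.comp_mulEquiv hθ e
  have hinv' : ∀ y : M, conjN N' y θ' = θ' := fun y => funext fun z => congrFun (hinv y) (e z)
  have hinner : ∀ η : M → ℂ, classInner (fun z : N' => η z) θ' =
      classInner (fun n : N => η ⟨n, hNM n.2⟩) θ := fun η => by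
    rw [← classInner_comp_equiv e.toEquiv (fun n : N => η ⟨n, hNM n.2⟩) θ]
    rfl
  let X := {η : M → ℂ // Cfsg.IsIrrCharacter M η ∧ classInner (fun n : N => η ⟨n, hNM n.2⟩) θ ≠ 0}
  obtain ⟨η₀, hη₀, hη₀θ⟩ := exists_over N' hθ'
  let x₀ : X := ⟨η₀, hη₀, by rwa [← hinner]⟩
  let L : Subgroup (M →* ℂˣ) :=
    { carrier := {f | ∀ z : N', f z = 1}
      one_mem' := fun z => rfl
      mul_mem' := fun {a b} ha hb z => by rw [MonoidHom.mul_apply, ha z, hb z, one_mul]
      inv_mem' := fun {a} ha z => by rw [MonoidHom.inv_apply, ha z, inv_one] }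
  letI : MulAction L X :=
    { smul := fun l x => ⟨fun y => (((l : M →* ℂˣ) y : ℂˣ) : ℂ) * (x.1 : M → ℂ) y,
        IsIrrCharacter.mul_linear x.2.1 _, by
          have h1 : (fun n : N => (((l : M →* ℂˣ) ⟨n, hNM n.2⟩ : ℂˣ) : ℂ) * x.1 ⟨n, hNM n.2⟩) =
              fun n : N => x.1 ⟨n, hNM n.2⟩ := funext fun n => by
            rw [show (l : M →* ℂˣ) ⟨n, hNM n.2⟩ = 1 from l.2 (e.symm n), Units.val_one, one_mul]
          rw [h1]; exact x.2.2⟩
      one_smul := fun x => Subtype.ext (funext fun y => by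
        show ((((1 : L) : M →* ℂˣ) y : ℂˣ) : ℂ) * x.1 y = x.1 y
        simp)
      mul_smul := fun a c x => Subtype.ext (funext fun y => by
        show ((((a * c : L) : M →* ℂˣ) y : ℂˣ) : ℂ) * x.1 y = _ * (_ * x.1 y)
        rw [Subgroup.coe_mul, MonoidHom.mul_apply, Units.val_mul, mul_assoc]) }
  have htr : ∀ x : X, ∃ l : L, l • x₀ = x := by
    intro x
    obtain ⟨e₀, he₀, hres₀⟩ := restrict_eq_mult_of_invariant N' hη₀ hθ' hinv' hη₀θ
    obtain ⟨e₁, he₁, hres₁⟩ := restrict_eq_mult_of_invariant N' x.2.1 hθ' hinv'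
      (by rw [hinner]; exact x.2.2)
    obtain ⟨f, hf, hfx⟩ := exists_twist N' (fun a c => hab _ a.2 _ c.2) hθ' hη₀ x.2.1 he₀.ne' he₁.ne'
      hres₀ hres₁
    exact ⟨⟨f, hf⟩, Subtype.ext hfx⟩
  -- the action of the group
  let cj : Γ → M ≃* M := fun g => MulAut.conjNormal g
  let aX : Γ → X → X := fun g x => ⟨conjN M g⁻¹ x.1, IsIrrCharacter.conjN x.2.1 _, by
    rw [classInner_conj M N hNM hinv]; exact x.2.2⟩
  let actX : Γ →* Equiv.Perm X :=
    { toFun := fun g =>
        { toFun := aX g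
          invFun := aX g⁻¹
          left_inv := fun x => Subtype.ext (by
            show conjN M g⁻¹⁻¹ (conjN M g⁻¹ x.1) = x.1
            rw [← conjN_mul, mul_inv_cancel, conjN_one])
          right_inv := fun x => Subtype.ext (by
            show conjN M g⁻¹ (conjN M g⁻¹⁻¹ x.1) = x.1
            rw [← conjN_mul, inv_mul_cancel, conjN_one]) }
      map_one' := Equiv.ext fun x => Subtype.ext (by
        show conjN M 1⁻¹ x.1 = x.1
        rw [inv_one, conjN_one])
      map_mul' := fun a c => Equiv.ext fun x => Subtype.ext (by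
        show conjN M (a * c)⁻¹ x.1 = conjN M a⁻¹ (conjN M c⁻¹ x.1)
        rw [mul_inv_rev, conjN_mul]) }
  have hLmem : ∀ (g : Γ) (f : M →* ℂˣ), f ∈ L →
      f.comp (cj g⁻¹).toMonoidHom ∈ L := fun g f hf z => by
    refine hf ⟨cj g⁻¹ (z : M), ?_⟩
    show ((cj g⁻¹ (z : M) : M) : Γ) ∈ N
    rw [MulAut.conjNormal_apply]
    exact ‹N.Normal›.conj_mem _ z.2 _
  let aL : Γ → L → L := fun g l => ⟨(l : M →* ℂˣ).comp (cj g⁻¹).toMonoidHom, hLmem g _ l.2⟩
  have haL : ∀ g c (l : L) (y : M), ((aL g (aL c l) : L) : M →* ℂˣ) y =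
      ((aL (g * c) l : L) : M →* ℂˣ) y := fun g c l y => by
    show (l : M →* ℂˣ) (cj c⁻¹ (cj g⁻¹ y)) = (l : M →* ℂˣ) (cj (g * c)⁻¹ y)
    simp only [cj, mul_inv_rev, map_mul, MulAut.mul_apply]
  have haL1 : ∀ (l : L) (y : M), ((aL 1 l : L) : M →* ℂˣ) y = (l : M →* ℂˣ) y := fun l y => by
    show (l : M →* ℂˣ) (cj (1 : Γ)⁻¹ y) = _
    simp only [cj, inv_one, map_one, MulAut.one_apply]
  let actL : Γ →* MulAut L :=
    { toFun := fun g =>
        { toFun := aL g
          invFun := aL g⁻¹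
          left_inv := fun l => Subtype.ext (MonoidHom.ext fun y => by
            rw [haL, inv_mul_cancel, haL1])
          right_inv := fun l => Subtype.ext (MonoidHom.ext fun y => by
            rw [haL, mul_inv_cancel, haL1])
          map_mul' := fun l l' => Subtype.ext (MonoidHom.ext fun y => rfl) }
      map_one' := MulEquiv.ext fun l => Subtype.ext (MonoidHom.ext fun y => haL1 l y)
      map_mul' := fun a c => MulEquiv.ext fun l => Subtype.ext (MonoidHom.ext fun y =>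
        (haL a c l y).symm) }
  have hkX : M ≤ actX.ker := fun g hg => MonoidHom.mem_ker.2 (Equiv.ext fun x =>
    Subtype.ext (conjN_of_mem (isClassFunction_isChar (isCharacter_of_irr x.2.1)) ⟨g⁻¹, inv_mem hg⟩))
  have hkL : M ≤ actL.ker := fun g hg => MonoidHom.mem_ker.2 (MulEquiv.ext fun l =>
    Subtype.ext (MonoidHom.ext fun y => by
      show (l : M →* ℂˣ) (cj g⁻¹ y) = (l : M →* ℂˣ) y
      rw [show cj g⁻¹ y = (⟨g, hg⟩ : M)⁻¹ * y * ⟨g, hg⟩ from Subtype.ext (by
        simp [cj, MulAut.conjNormal_apply]), map_mul, map_mul, map_inv, mul_right_comm,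
        inv_mul_cancel, one_mul]))
  let Gb := G.map (QuotientGroup.mk' M)
  haveI : Gb.Normal := ‹G.Normal›.map _ (QuotientGroup.mk'_surjective M)
  have hGbidx : Gb.index = G.index :=
    index_map_eq _ (QuotientGroup.mk'_surjective M) (by rwa [QuotientGroup.ker_mk'])
  have hGbcard : Nat.card Gb = M.relIndex G := by
    rw [← relIndex_bot_left, ← relIndex_comap, MonoidHom.comap_bot, QuotientGroup.ker_mk']
  obtain ⟨K, hK⟩ := exists_left_complement'_of_coprime (N := Gb) (by rwa [hGbcard, hGbidx])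
  haveI := Fintype.ofFinite K
  have hKcard : Fintype.card K = G.index := by
    rw [← Nat.card_eq_fintype_card, ← hK.index_eq_card, hGbidx]
  obtain ⟨x, hx⟩ := exists_fixed x₀ htr ((QuotientGroup.lift M actX hkX).comp K.subtype)
    ((QuotientGroup.lift M actL hkL).comp K.subtype) (fun h l z => by
      obtain ⟨g, hg⟩ := QuotientGroup.mk_surjective (h : Γ ⧸ M)
      simp only [MonoidHom.comp_apply, Subgroup.coe_subtype, ← hg, QuotientGroup.lift_mk]
      refine Subtype.ext (funext fun y => ?_)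
      show (((l : M →* ℂˣ) _ : ℂˣ) : ℂ) * z.1 _ =
        (((l : M →* ℂˣ) (cj g⁻¹ y) : ℂˣ) : ℂ) * z.1 _
      rw [show (⟨g⁻¹ * y * g⁻¹⁻¹, _⟩ : M) = cj g⁻¹ y from
        Subtype.ext (MulAut.conjNormal_apply g⁻¹ y).symm])
    (m := N.relIndex M) (fun l => Subtype.ext (by
      rw [SubmonoidClass.coe_pow, Subgroup.coe_one]
      exact pow_index_eq_one N' fun z => l.2 z))
    (by rw [hKcard]; exact hcopM.symm)
  refine ⟨x.1, x.2.1, x.2.2, top_le_iff.1 fun g _ => ?_⟩
  obtain ⟨gb, hgb, k, hk, hgk⟩ := mem_sup_of_normal_left.1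
    (show (QuotientGroup.mk g : Γ ⧸ M) ∈ Gb ⊔ K from by rw [sup_comm, hK.sup_eq_top]; exact mem_top _)
  obtain ⟨g', hg', rfl⟩ := hgb
  obtain ⟨k', rfl⟩ := QuotientGroup.mk_surjective k
  have hfix : k' ∈ inertia M x.1 := by
    have h1 : conjN M k'⁻¹ x.1 = x.1 := congrArg Subtype.val (hx ⟨_, hk⟩)
    exact inv_mem_iff.1 (mem_inertia.2 h1)
  have h2 : (g' * k')⁻¹ * g ∈ M := QuotientGroup.eq.1 hgk
  rw [show g = g' * (k' * ((g' * k')⁻¹ * g)) by group]
  exact mul_mem (mem_sup_right hg') (mem_sup_left (mul_mem hfix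
    (le_inertia (isClassFunction_isChar (isCharacter_of_irr x.2.1)) h2)))

/-- The next abelian layer above `N`. -/
lemma exists_abelian_layer (G N : Subgroup Γ) [G.Normal] [N.Normal] (hNG : N ≤ G) (hne : ¬ G ≤ N) {d : ℕ}
    (hd : derivedSeries G d ≤ N.subgroupOf G) :
    ∃ M : Subgroup Γ, M.Normal ∧ N ≤ M ∧ ¬ M ≤ N ∧ M ≤ G ∧
      ∀ x ∈ M, ∀ y ∈ M, x * y * x⁻¹ * y⁻¹ ∈ N := by
  induction d with
  | zero =>
    refine absurd (fun g hg => ?_) hne
    exact hd (show (⟨g, hg⟩ : G) ∈ derivedSeries G 0 by rw [derivedSeries_zero]; exact mem_top _)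
  | succ d ih =>
    by_cases h : derivedSeries G d ≤ N.subgroupOf G
    · exact ih h
    haveI : ((derivedSeries G d).map G.subtype).Normal := by
      refine ⟨?_⟩
      rintro _ ⟨a, ha, rfl⟩ y
      refine ⟨MulAut.conjNormal y a, ?_, MulAut.conjNormal_apply y a⟩
      rw [SetLike.mem_coe, ← map_derivedSeries_eq (f := (MulAut.conjNormal y : MulAut G).toMonoidHom)
        (MulAut.conjNormal y : MulAut G).surjective d]
      exact mem_map_of_mem _ ha
    refine ⟨(derivedSeries G d).map G.subtype ⊔ N, inferInstance, le_sup_right, fun hle => h ?_,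
      sup_le (map_subtype_le _) hNG, fun x hx y hy => ?_⟩
    · intro a ha
      exact hle (mem_sup_left (mem_map_of_mem _ ha))
    obtain ⟨_, ⟨a, ha, rfl⟩, n, hn, rfl⟩ := mem_sup_of_normal_right.1 hx
    obtain ⟨_, ⟨b, hb, rfl⟩, n', hn', rfl⟩ := mem_sup_of_normal_right.1 hy
    rw [← QuotientGroup.eq_one_iff]
    simp only [QuotientGroup.mk_mul, QuotientGroup.mk_inv, (QuotientGroup.eq_one_iff n).2 hn,
      (QuotientGroup.eq_one_iff n').2 hn', mul_one]
    simp only [← QuotientGroup.mk_inv, ← QuotientGroup.mk_mul, QuotientGroup.eq_one_iff]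
    have hc := Subgroup.commutator_mem_commutator ha hb
    rw [← derivedSeries_succ] at hc
    exact hd hc

/-- Solvable section. -/
theorem exists_inv_of_solvable_section : ∀ (k : ℕ) (Γ : Type u) [Group Γ] [Fintype Γ]
    (G N : Subgroup Γ) [G.Normal] [N.Normal] [Fintype G] [Fintype N] (hNG : N ≤ G),
    N.relIndex G = k → G.index.Coprime (N.relIndex G) →
    (∃ d, derivedSeries G d ≤ N.subgroupOf G) →
    ∀ θ : N → ℂ, Cfsg.IsIrrCharacter N θ → (∀ x : Γ, conjN N x θ = θ) →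
      ∃ χ : G → ℂ, Cfsg.IsIrrCharacter G χ ∧
        classInner (fun n : N => χ ⟨n, hNG n.2⟩) θ ≠ 0 ∧ ∀ x : Γ, conjN G x χ = χ := by
  intro k
  induction k using Nat.strong_induction_on with
  | _ k ih =>
    intro Γ _ _ G N _ _ _ _ hNG hk hcop hd θ hθ hinv
    classical
    obtain ⟨d, hd⟩ := hd
    by_cases hne : G ≤ N
    · obtain rfl : N = G := le_antisymm hNG hne
      refine ⟨θ, ?_, ?_, hinv⟩
      · convert hθ
      · intro h0
        apply one_ne_zero (α := ℂ)
        rw [← classInner_self_irr hθ, ← h0]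
        convert rfl
    obtain ⟨M, hMn, hNM, hMN, hMG, hab⟩ := exists_abelian_layer G N hNG hne hd
    haveI := hMn
    haveI := Fintype.ofFinite M
    have hidx := relIndex_mul_relIndex N M G hNM hMG
    obtain ⟨η, hη, hηθ, hsup⟩ := exists_layer G M N hNM hMG hab
      (hcop.symm.coprime_dvd_left (Dvd.intro_left _ hidx))
      (hcop.symm.coprime_dvd_left (Dvd.intro _ hidx)) hθ hinv
    -- the inertia group
    let T := inertia M η
    have hMT : M ≤ T := le_inertia (isClassFunction_isChar (isCharacter_of_irr hη))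
    haveI := Fintype.ofFinite T
    let G' := G.subgroupOf T
    let M' := M.subgroupOf T
    haveI : G'.Normal := Subgroup.Normal.subgroupOf inferInstance T
    haveI : M'.Normal := Subgroup.Normal.subgroupOf inferInstance T
    haveI := Fintype.ofFinite G'
    haveI := Fintype.ofFinite M'
    have hM'G' : M' ≤ G' := fun x hx => hMG hx
    have hG'idx : G'.index = G.index := by
      show G.relIndex T = G.index
      rw [← relIndex_top_right, ← hsup, relIndex_sup_right]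
    have hrel : M'.relIndex G' * (G ⊓ T).relIndex G = M.relIndex G := by
      rw [show M'.relIndex G' = M.relIndex (G ⊓ T) from by
        show (M.comap T.subtype).relIndex (G.subgroupOf T) = _
        rw [relIndex_comap, subgroupOf_map_subtype], relIndex_mul_relIndex M (G ⊓ T) G
          (le_inf hMG hMT) inf_le_left]
    have hlt : M'.relIndex G' < k := by
      rw [← hk, ← hidx]
      have h1 : N.relIndex M ≠ 1 := fun h1 => hMN (relIndex_eq_one.1 h1)
      have h2 : N.relIndex M ≠ 0 := by rw [relIndex]; exact Subgroup.index_ne_zero_of_finite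
      have h3 : 0 < M.relIndex G := Nat.pos_of_ne_zero (by rw [relIndex]; exact Subgroup.index_ne_zero_of_finite)
      have h4 : M'.relIndex G' ≤ M.relIndex G := Nat.le_of_dvd h3 (Dvd.intro _ hrel)
      calc M'.relIndex G' ≤ M.relIndex G := h4
        _ < N.relIndex M * M.relIndex G := lt_mul_of_one_lt_left h3 (by omega)
    let incl : G' →* G :=
      { toFun := fun x => ⟨((x : T) : Γ), x.2⟩, map_one' := rfl, map_mul' := fun _ _ => rfl }
    let eM : M' ≃* M := subgroupOfEquivOfLe hMT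
    have hη' : Cfsg.IsIrrCharacter M' (fun x => η (eM x)) := IsIrrCharacter.comp_mulEquiv hη eM
    obtain ⟨ψ, hψ, hψη, hψinv⟩ := ih _ hlt T G' M' hM'G' rfl
      (by
        rw [hG'idx]
        exact hcop.coprime_dvd_right ((Dvd.intro _ hrel).trans (Dvd.intro_left _ hidx)))
      ⟨d, fun x hx => hNM (hd (map_derivedSeries_le_derivedSeries incl d (mem_map_of_mem incl hx)))⟩
      (fun x => η (eM x)) hη' (fun t => funext fun x => by
        show η (eM _) = η (eM x)
        exact congrFun (mem_inertia.1 t.2) (eM x))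
    -- Clifford correspondence in `G`
    let M₁ := M.subgroupOf G
    haveI : M₁.Normal := Subgroup.Normal.subgroupOf inferInstance G
    haveI := Fintype.ofFinite M₁
    let eM₁ : M₁ ≃* M := subgroupOfEquivOfLe hMG
    let η₁ : M₁ → ℂ := fun x => η (eM₁ x)
    have hη₁ : Cfsg.IsIrrCharacter M₁ η₁ := IsIrrCharacter.comp_mulEquiv hη eM₁
    let T₁ := T.subgroupOf G
    haveI := Fintype.ofFinite T₁
    have hT₁ : T₁ = inertia M₁ η₁ := by
      ext g
      rw [mem_inertia, mem_subgroupOf, mem_inertia]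
      refine ⟨fun h => funext fun x => congrFun h (eM₁ x), fun h => funext fun y => ?_⟩
      have h1 := congrFun h (eM₁.symm y)
      have h2 : η₁ (eM₁.symm y) = η y := congrArg η (eM₁.apply_symm_apply y)
      rw [h2] at h1
      rw [← h1]
      rfl
    have hM₁T₁ : M₁ ≤ T₁ := fun x hx => hMT hx
    let sw : T₁ ≃* G' :=
      { toFun := fun x => ⟨⟨((x : G) : Γ), x.2⟩, (x : G).2⟩
        invFun := fun x => ⟨⟨((x : T) : Γ), x.2⟩, (x : T).2⟩
        left_inv := fun x => rfl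
        right_inv := fun x => rfl
        map_mul' := fun _ _ => rfl }
    let ψ₁ : T₁ → ℂ := fun x => ψ (sw x)
    have hψ₁ : Cfsg.IsIrrCharacter T₁ ψ₁ := IsIrrCharacter.comp_mulEquiv hψ sw
    let e₁ : M₁ ≃* M' := eM₁.trans eM.symm
    have hψ₁η : classInner (fun x : M₁ => ψ₁ ⟨x, hM₁T₁ x.2⟩) η₁ ≠ 0 := by
      intro h0
      apply hψη
      rw [← classInner_comp_equiv e₁.toEquiv]
      exact h0
    -- a constituent over `ψ₁`
    have hex : ∃ χ : G → ℂ, Cfsg.IsIrrCharacter G χ ∧ classInner (fun t : T₁ => χ t) ψ₁ ≠ 0 := by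
      by_contra hno
      push Not at hno
      have h0 := eq_zero_of_classInner_eq_zero (isClassFunction_indFun T₁ ψ₁) fun χ => by
        rw [frobenius_reciprocity T₁ ψ₁ (isClassFunction_irr χ), ← classInner_conj_symm,
          hno χ χ.2, map_zero]
      have h1 := congrFun h0 1
      rw [indFun_one, Pi.zero_apply] at h1
      exact mul_ne_zero (Nat.cast_ne_zero.2 Subgroup.index_ne_zero_of_finite)
        (IsIrrCharacter.apply_one_ne_zero hψ₁) h1
    obtain ⟨χ, hχ, hχψ⟩ := hex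
    obtain ⟨hind, hmult, -⟩ := clifford_correspondence hη₁ T₁ hT₁ hM₁T₁ hχ hψ₁ hχψ hψ₁η
    refine ⟨χ, hχ, ?_, ?_⟩
    · have hχη : classInner (fun x : M₁ => χ x) η₁ ≠ 0 := by rw [← hmult]; exact hψ₁η
      have hMχ : classInner (fun y : M => χ ⟨y, hMG y.2⟩) η ≠ 0 := by
        rw [← classInner_comp_equiv eM₁.toEquiv]; exact hχη
      have hMc : Cfsg.IsCharacter M (fun y : M => χ ⟨y, hMG y.2⟩) :=
        IsCharacter.comp_hom (isCharacter_of_irr hχ) (Subgroup.inclusion hMG)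
      intro h0
      obtain ⟨a, ha⟩ := IsCharacter.exists_decomp hMc
      have hMN' : (fun n : N => χ ⟨n, hNG n.2⟩) =
          ∑ φ : IrrCharacter M, a φ • (fun n : N => (φ : M → ℂ) ⟨n, hNM n.2⟩) := by
        funext n
        have h1 := congrFun ha ⟨n, hNM n.2⟩
        simp only [Finset.sum_apply, Pi.smul_apply] at h1 ⊢
        exact h1
      rw [hMN', classInner_sum_left] at h0
      choose b hb using fun φ : IrrCharacter M => IsCharacter.exists_mult
        (IsCharacter.comp_hom (isCharacter_of_irr φ.2) (Subgroup.inclusion hNM)) hθ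
      have hb' : ∀ φ : IrrCharacter M,
          classInner (fun n : N => (φ : M → ℂ) ⟨n, hNM n.2⟩) θ = b φ := hb
      simp only [classInner_nsmul_left, hb', ← Nat.cast_mul, ← Nat.cast_sum, Nat.cast_eq_zero] at h0
      have h1 := (Finset.sum_eq_zero_iff.1 h0) ⟨η, hη⟩ (Finset.mem_univ _)
      rcases mul_eq_zero.1 h1 with h2 | h2
      · apply hMχ
        rw [ha]
        simp only [← Nat.cast_smul_eq_nsmul ℂ]
        rw [classInner_irrSum (fun φ => (a φ : ℂ)) ⟨η, hη⟩, h2, Nat.cast_zero]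
      · apply hηθ
        rw [hb' ⟨η, hη⟩, h2, Nat.cast_zero]
    intro x
    obtain ⟨t, ht, g, hg, rfl⟩ := mem_sup_of_normal_right.1
      (show x ∈ T ⊔ G by rw [hsup]; exact mem_top x)
    have hg' : ∀ f : G → ℂ, Cfsg.IsClassFunction G f → conjN G g f = f := fun f hf =>
      conjN_of_mem hf ⟨g, hg⟩
    have htχ : conjN G t χ = χ := by
      have hirr := IsIrrCharacter.conjN hχ t
      have hiter : ∀ a : T₁, t * ((a : G) : Γ) * t⁻¹ ∈ T := fun a =>
        T.mul_mem (T.mul_mem ht a.2) (T.inv_mem ht)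
      let ct : T₁ ≃ T₁ :=
        { toFun := fun a => ⟨⟨t * ((a : G) : Γ) * t⁻¹, ‹G.Normal›.conj_mem _ (a : G).2 t⟩, hiter a⟩
          invFun := fun a => ⟨⟨t⁻¹ * ((a : G) : Γ) * t⁻¹⁻¹, ‹G.Normal›.conj_mem _ (a : G).2 t⁻¹⟩,
            T.mul_mem (T.mul_mem (T.inv_mem ht) a.2) (T.inv_mem (T.inv_mem ht))⟩
          left_inv := fun a => Subtype.ext (Subtype.ext (by simp [mul_assoc]))
          right_inv := fun a => Subtype.ext (Subtype.ext (by simp [mul_assoc])) }
      have hct : ∀ a, ψ₁ (ct a) = ψ₁ a := fun a => congrFun (hψinv ⟨t, ht⟩) (sw a)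
      have h1 : classInner (fun a : T₁ => conjN G t χ a) ψ₁ ≠ 0 := by
        intro h0
        apply hχψ
        rw [← classInner_comp_equiv ct]
        rw [show (fun a => ψ₁ (ct a)) = ψ₁ from funext hct]
        exact h0
      exact ((clifford_correspondence hη₁ T₁ hT₁ hM₁T₁ hirr hψ₁ h1 hψ₁η).1).symm.trans hind
    rw [conjN_mul, htχ, hg' χ (isClassFunction_isChar (isCharacter_of_irr hχ))]

end Cfsg.Lib.InvariantConstituent
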