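import Mathlib
import Cfsg.Agent.Blocks.Columns

/-!
# Column kernels of the principal block on `p`-elements
-/

set_option autoImplicit false
set_option linter.unusedSectionVars false

namespace Cfsg.Lib.Blocks

open Cfsg.Lib.Chars
open scoped ComplexConjugate

universe u

variable {G : Type u} [Group G] [Fintype G] {M : Ideal AlgInt} {p : ℕ}

lemma colKer_conj_right (B : Set (IrrCharacter G)) (a c g : G) :
    colKer B a (g * c * g⁻¹) = colKer B a c := by
  classical
  rw [colKer_eq, colKer_eq]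
  exact Finset.sum_congr rfl fun χ _ => by rw [isClassFunction_irr χ c g]

/-- The principal block at a pair of conjugate `p`-elements. -/
theorem colKer_principal_self (hM : IsPModular p M) {x : G} (hx : ∃ k : ℕ, orderOf x = p ^ k) :
    colKer (principalBlock M G) x x =
      ((∑ᶠ ψ ∈ principalBlock M ↥(Subgroup.centralizer ({x} : Set G)),
        charDegree ((ψ : IrrCharacter ↥(Subgroup.centralizer ({x} : Set G))) :
          ↥(Subgroup.centralizer ({x} : Set G)) → ℂ) ^ 2 : ℕ) : ℂ) := by
  classical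
  letI := Fintype.ofFinite ↥(Subgroup.centralizer ({x} : Set G))
  have hH : Subgroup.centralizer ({x} : Set G) =
      Subgroup.centralizer (Subgroup.zpowers x : Set G) := (centralizer_zpowers x).symm
  have h1 : ¬ p ∣ orderOf (1 : ↥(Subgroup.centralizer ({x} : Set G))) := by
    rw [orderOf_one]; exact hM.1.not_dvd_one
  have h := colKer_section hM hx hH (B := principalBlock M G)
    (isPBlock_blockOf (principal G)) h1 h1
  rw [filter_induced_principal hM hx hH, Finset.sum_singleton, OneMemClass.coe_one, mul_one] at h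
  rw [h, colKer_eq, finsum_mem_eq_sum_of_inter_support_eq
    (t := Finset.univ.filter (· ∈ principalBlock M ↥(Subgroup.centralizer ({x} : Set G))))
    _ (by simp), Nat.cast_sum]
  refine Finset.sum_congr rfl fun ψ _ => ?_
  rw [charDegree_eq_deg, Nat.cast_pow, irr_apply_one_eq_deg, Complex.conj_natCast, pow_two]

/-- The principal block at two non-conjugate `p`-elements. -/
theorem colKer_of_not_isConj (hM : IsPModular p M) {B : Set (IrrCharacter G)} (hB : IsPBlock M B)
    {x z : G} (hx : ∃ k : ℕ, orderOf x = p ^ k) (hz : ∃ k : ℕ, orderOf z = p ^ k)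
    (h : ¬ IsConj x z) : colKer B x z = 0 := by
  classical
  rw [colKer_eq]
  exact block_orthogonality_conj hM hB (isPPart_self hM.1 hx) (isPPart_self hM.1 hz) h

/-- **The isometry.** -/
theorem sum_proj_mul_conj [Fact p.Prime] (hM : IsPModular p M) {P : Subgroup G} [Fintype P]
    (hP : IsPGroup p P) {N : Subgroup G} [Fintype N] (hNN : N ≤ Subgroup.normalizer (P : Set G))
    {U : Set G} (hfus : ∀ u ∈ U, ∀ g : G, g * u * g⁻¹ ∈ (P : Set G) →
      ∃ n ∈ N, n * u * n⁻¹ = g * u * g⁻¹) (w : ℚ)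
    (hw : ∀ y ∈ U, ((∑ᶠ ψ ∈ principalBlock M ↥(Subgroup.centralizer ({y} : Set G)),
      charDegree ((ψ : IrrCharacter ↥(Subgroup.centralizer ({y} : Set G))) :
        ↥(Subgroup.centralizer ({y} : Set G)) → ℂ) ^ 2 : ℕ) : ℚ) =
      w * Nat.card ↥(N ⊓ Subgroup.centralizer ({y} : Set G)))
    (θ η : P → ℂ) (hθU : ∀ y : P, (y : G) ∉ U → θ y = 0) :
    ∑ᶠ χ ∈ principalBlock M G,
      ((Nat.card P : ℂ)⁻¹ * ∑ᶠ y : P, ((χ : IrrCharacter G) : G → ℂ) (y : G) * θ y⁻¹) *
        conj ((Nat.card P : ℂ)⁻¹ * ∑ᶠ y : P, ((χ : IrrCharacter G) : G → ℂ) (y : G) * η y⁻¹) =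
      ((w : ℂ) / ((Nat.card P : ℂ) ^ 2)) *
        ∑ᶠ y : P, θ y * conj (∑ᶠ x : N, extendByZero P η ((x : G) * (y : G) * (x : G)⁻¹)) := by
  classical
  set B := principalBlock M G with hBdef
  have hB : IsPBlock M B := isPBlock_blockOf (principal G)
  have hpp : ∀ y : P, ∃ k : ℕ, orderOf (y : G) = p ^ k := fun y =>
    exists_orderOf_eq_of_mem hM.1 hP y.2
  have hmemP : ∀ (x : N) (y : P), (x : G) * (y : G) * (x : G)⁻¹ ∈ P := fun x y =>
    (Subgroup.mem_normalizer_iff.1 (hNN x.2) (y : G)).1 y.2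
  -- the inner sum
  have hcol : ∀ y : P, (y : G) ∈ U →
      ∑ z : P, conj (η z) * colKer B (y : G) (z : G) =
        (w : ℂ) * conj (∑ᶠ x : N, extendByZero P η ((x : G) * (y : G) * (x : G)⁻¹)) := by
    intro y hy
    rw [finsum_eq_sum_of_fintype, map_sum, Finset.mul_sum]
    let φ : N → P := fun x => ⟨(x : G) * (y : G) * (x : G)⁻¹, hmemP x y⟩
    have hext : ∀ x : N, extendByZero P η ((x : G) * (y : G) * (x : G)⁻¹) = η (φ x) := fun x =>
      extendByZero_mem η (hmemP x y)
    simp only [hext]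
    rw [← Finset.sum_fiberwise Finset.univ φ]
    refine Finset.sum_congr rfl fun z _ => ?_
    rw [Finset.sum_congr rfl fun x hx => by rw [(Finset.mem_filter.1 hx).2], Finset.sum_const,
      nsmul_eq_mul]
    by_cases hc : IsConj (y : G) (z : G)
    · obtain ⟨g, hg⟩ := isConj_iff.1 hc
      obtain ⟨n, hnN, hn⟩ := hfus (y : G) hy g (by rw [hg]; exact z.2)
      rw [hg] at hn
      rw [← hn, colKer_conj_right, colKer_principal_self hM (hpp y)]
      have hcard : (Finset.univ.filter fun x : N => φ x = z).card =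
          Nat.card ↥(N ⊓ Subgroup.centralizer ({(y : G)} : Set G)) := by
        rw [Nat.card_eq_fintype_card, ← Fintype.card_subtype]
        refine Fintype.card_congr
          { toFun := fun x => ⟨n⁻¹ * (x.1 : G), Subgroup.mem_inf.2 ⟨N.mul_mem (N.inv_mem hnN) x.1.2, ?_⟩⟩
            invFun := fun t => ⟨⟨n * (t : G), N.mul_mem hnN t.2.1⟩, ?_⟩
            left_inv := fun x => Subtype.ext (Subtype.ext (mul_inv_cancel_left n _))
            right_inv := fun t => Subtype.ext (inv_mul_cancel_left n _) }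
        · rw [Subgroup.mem_centralizer_singleton_iff]
          have h := congrArg Subtype.val x.2
          simp only [φ] at h
          rw [← hn] at h
          have h2 : (x.1 : G) * (y : G) = n * (y : G) * n⁻¹ * (x.1 : G) :=
            mul_inv_eq_iff_eq_mul.1 h
          rw [mul_assoc, h2]
          group
        · refine Subtype.ext ?_
          show n * (t : G) * (y : G) * (n * (t : G))⁻¹ = (z : G)
          rw [← hn, mul_inv_rev, ← mul_assoc, mul_assoc n (t : G),
            Subgroup.mem_centralizer_singleton_iff.1 t.2.2]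
          group
      have hw' : ((∑ᶠ ψ ∈ principalBlock M ↥(Subgroup.centralizer ({(y : G)} : Set G)),
          charDegree ((ψ : IrrCharacter ↥(Subgroup.centralizer ({(y : G)} : Set G))) :
            ↥(Subgroup.centralizer ({(y : G)} : Set G)) → ℂ) ^ 2 : ℕ) : ℂ) =
          (w : ℂ) * (Nat.card ↥(N ⊓ Subgroup.centralizer ({(y : G)} : Set G)) : ℂ) := by
        have := congrArg (fun q : ℚ => (q : ℂ)) (hw (y : G) hy)
        simpa only [Rat.cast_natCast, Rat.cast_mul] using this
      rw [hw', hcard]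
      ring
    · have h0 : (Finset.univ.filter fun x : N => φ x = z).card = 0 := by
        rw [Finset.card_eq_zero, Finset.filter_eq_empty_iff]
        exact fun x _ hx => hc (isConj_iff.2 ⟨(x : G), congrArg Subtype.val hx⟩)
      rw [colKer_of_not_isConj hM hB (hpp y) (hpp z) hc, h0]
      simp
  have hinv : ∀ χ : IrrCharacter G, ∀ f : P → ℂ,
      ∑ᶠ y : P, (χ : G → ℂ) (y : G) * f y⁻¹ = ∑ y : P, conj ((χ : G → ℂ) (y : G)) * f y := by
    intro χ f
    rw [finsum_eq_sum_of_fintype]
    refine Fintype.sum_equiv (Equiv.inv P) _ _ fun y => ?_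
    show (χ : G → ℂ) (y : G) * f y⁻¹ = conj ((χ : G → ℂ) ((y⁻¹ : P) : G)) * f y⁻¹
    rw [Subgroup.coe_inv, IsCharacter.conj_inv (isCharacter_of_irr χ.2) (y : G), Complex.conj_conj]
  rw [finsum_mem_eq_sum_of_inter_support_eq (t := Finset.univ.filter (· ∈ B)) _ (by simp)]
  simp only [hinv, map_mul, map_inv₀, map_natCast, map_sum, Complex.conj_conj]
  rw [finsum_eq_sum_of_fintype, Finset.mul_sum, Finset.sum_congr rfl fun (χ : IrrCharacter G) _ => show
    (Nat.card P : ℂ)⁻¹ * (∑ y : P, conj ((χ : G → ℂ) (y : G)) * θ y) *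
      ((Nat.card P : ℂ)⁻¹ * ∑ z : P, (χ : G → ℂ) (z : G) * conj (η z)) =
    ((Nat.card P : ℂ) ^ 2)⁻¹ *
      ∑ y : P, ∑ z : P, conj ((χ : G → ℂ) (y : G)) * θ y * ((χ : G → ℂ) (z : G) * conj (η z)) by
    rw [← Finset.sum_mul_sum]; ring, ← Finset.mul_sum, Finset.sum_comm, Finset.mul_sum]
  refine Finset.sum_congr rfl fun y _ => ?_
  by_cases hy : (y : G) ∈ U
  · have hsum : ∑ χ ∈ Finset.univ.filter (· ∈ B), ∑ z : P,
        conj ((χ : G → ℂ) (y : G)) * θ y * ((χ : G → ℂ) (z : G) * conj (η z)) =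
        θ y * ∑ z : P, conj (η z) * colKer B (z : G) (y : G) := by
      rw [Finset.sum_comm, Finset.mul_sum]
      refine Finset.sum_congr rfl fun z _ => ?_
      rw [colKer_eq, Finset.mul_sum, Finset.mul_sum]
      exact Finset.sum_congr rfl fun χ _ => by ring
    have hreal : ∀ z : P, colKer B (z : G) (y : G) = colKer B (y : G) (z : G) := fun z => by
      rw [← conj_colKer]
      by_cases hc : IsConj (y : G) (z : G)
      · obtain ⟨g, hg⟩ := isConj_iff.1 hc
        rw [← hg, colKer_conj_right, colKer_principal_self hM (hpp y), Complex.conj_natCast]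
      · rw [colKer_of_not_isConj hM hB (hpp y) (hpp z) hc, map_zero]
    rw [hsum, Finset.sum_congr rfl fun z _ => by rw [hreal z], hcol y hy]
    simp only [map_sum, finsum_eq_sum_of_fintype]
    ring
  · rw [hθU y hy]
    simp

end Cfsg.Lib.Blocks
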