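import Mathlib
import Cfsg.Agent.Blocks.PrimeSylow
import Cfsg.Agent.Blocks.PrincipalColumn
import Cfsg.Agent.Blocks.Columns

/-!
# The regular restrictions of the principal block for a Sylow subgroup of order at most `p`

The members of the principal block restricted to the regular elements are integral combinations
of `e` signed characters whose regular inner products are `δ - m / (1 + m e)`.
-/

set_option autoImplicit false
set_option linter.unusedSectionVars false

namespace Cfsg.Lib.Blocks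

open Cfsg.Lib.Chars
open scoped ComplexConjugate

universe u

variable {G : Type u} [Group G] [Fintype G] {M : Ideal AlgInt} {p : ℕ} [Fact p.Prime]

lemma frobIndex_succ_le_prime {P : Sylow p G} (hP : Nat.card (P : Subgroup G) = p) :
    frobIndex P + 1 ≤ p := by
  classical
  have h := frobeniusNormalizer_of_card_prime hP
  haveI := finite_dual h
  haveI := Fintype.ofFinite ((P : Subgroup G) →* ℂˣ)
  haveI : Nontrivial ((P : Subgroup G) →* ℂˣ) := Finite.one_lt_card_iff_nontrivial.1 (by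
    rw [card_dual h, hP]; exact (Fact.out : p.Prime).one_lt)
  obtain ⟨ψ₀, hψ₀⟩ := exists_ne (1 : (P : Subgroup G) →* ℂˣ)
  have h1 : (Finset.univ.filter (· ∈ sylOrbit P ψ₀)).card ≤
      ((Finset.univ : Finset ((P : Subgroup G) →* ℂˣ)).erase 1).card :=
    Finset.card_le_card fun χ hχ => Finset.mem_erase.2
      ⟨ne_one_of_mem_sylOrbit hψ₀ (Finset.mem_filter.1 hχ).2, Finset.mem_univ _⟩
  rw [card_sylOrbit h hψ₀, Finset.card_erase_of_mem (Finset.mem_univ _), Finset.card_univ,
    ← Nat.card_eq_fintype_card, card_dual h, hP] at h1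
  have := (Fact.out : p.Prime).one_le
  omega

lemma sum_apply_mul_conj (χ ψ : IrrCharacter G) [DecidableEq (IrrCharacter G)] :
    ∑ g : G, (χ : G → ℂ) g * conj ((ψ : G → ℂ) g) =
      if χ = ψ then (Nat.card G : ℂ) else 0 := by
  have hG : (Nat.card G : ℂ) ≠ 0 := Nat.cast_ne_zero.2 Nat.card_pos.ne'
  have h : classInner (∑ θ : IrrCharacter G, (if θ = χ then (1 : ℂ) else 0) • (θ : G → ℂ))
      (ψ : G → ℂ) = if ψ = χ then 1 else 0 := classInner_irrSum _ ψ
  simp only [ite_smul, one_smul, zero_smul, Finset.sum_ite_eq', Finset.mem_univ, if_true] at h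
  rw [classInner_def, inv_mul_eq_iff_eq_mul₀ hG] at h
  rw [h, mul_ite, mul_one, mul_zero]
  simp only [eq_comm]

/-- A basis of the regular restrictions of the principal block. -/
theorem exists_regBasis (hM : IsPModular p M) (hv : (Nat.card G).factorization p ≤ 1) :
    ∃ (E : Finset (IrrCharacter G)) (ε : IrrCharacter G → ℤ) (m : ℕ),
      1 + m * E.card ≤ p ^ (Nat.card G).factorization p ∧ (1 ≤ m ∨ E.card = 1) ∧
      (∀ i ∈ E, ∀ j ∈ E, ∑ w ∈ Finset.univ.filter (fun w : G => ¬ p ∣ orderOf w),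
          ((ε i : ℂ) * (i : G → ℂ) w) * conj ((ε j : ℂ) * (j : G → ℂ) w) =
        (Nat.card G : ℂ) *
          ((open Classical in if i = j then (1 : ℂ) else 0) - (m : ℂ) / (1 + m * E.card))) ∧
      ∀ θ ∈ principalBlock M G, ∃ n : IrrCharacter G → ℤ, ∀ w : G, ¬ p ∣ orderOf w →
        (θ : G → ℂ) w = ∑ i ∈ E, (n i : ℂ) * ((ε i : ℂ) * (i : G → ℂ) w) := by
  classical
  have hp := (Fact.out : p.Prime)
  rcases Nat.eq_zero_or_pos ((Nat.card G).factorization p) with h0 | h0
  · have hnd : ¬ p ∣ Nat.card G := fun h =>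
      (hp.factorization_pos_of_dvd Nat.card_pos.ne' h).ne' h0
    have hreg : ∀ w : G, ¬ p ∣ orderOf w := fun w h => hnd (h.trans (orderOf_dvd_natCard w))
    refine ⟨{principal G}, fun _ => 1, 0, ?_, Or.inr (Finset.card_singleton _), ?_, ?_⟩
    · rw [h0]; simp
    · intro i hi j hj
      rw [Finset.mem_singleton] at hi hj
      subst hi hj
      rw [Finset.filter_true_of_mem fun w _ => hreg w]
      simp [principal, Nat.card_eq_fintype_card]
    · intro θ hθ
      refine ⟨fun _ => (charDegree (θ : G → ℂ) : ℤ), fun w _ => ?_⟩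
      rw [apply_eq_of_mem_normal_pPrime hM (⊤ : Subgroup G) (by rwa [Subgroup.card_top]) hθ
        (Subgroup.mem_top w)]
      simp [principal, irr_apply_one_eq_deg, charDegree]
  have hv1 : (Nat.card G).factorization p = 1 := by omega
  set P : Sylow p G := default
  have hP : Nat.card (P : Subgroup G) = p := by rw [P.card_eq_multiplicity, hv1, pow_one]
  obtain ⟨X, Y, εX, ε, hD⟩ := exists_primeData hM hP
  set e := frobIndex P with he
  have he1 : 0 < e := frobIndex_pos P
  set m := (p - 1) / e with hm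
  have hem : e + 1 ≤ p := frobIndex_succ_le_prime hP
  have hm1 : 1 ≤ m := by rw [hm, Nat.le_div_iff_mul_le he1]; omega
  have hme : 1 + m * e ≤ p := by
    have := Nat.div_mul_le_self (p - 1) e
    rw [← hm] at this
    omega
  set E := X.toFinite.toFinset with hE
  have hEX : ∀ {χ}, χ ∈ E ↔ χ ∈ X := fun {χ} => Set.Finite.mem_toFinset _
  have hEcard : E.card = e := by
    rw [hE, ← Set.ncard_eq_toFinset_card X X.toFinite, ← Nat.card_coe_set_eq, hD.card_X]
  set F := Y.toFinite.toFinset with hF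
  have hFY : ∀ {χ}, χ ∈ F ↔ χ ∈ Y := fun {χ} => Set.Finite.mem_toFinset _
  have hFcard : F.card = m := by
    rw [hF, ← Set.ncard_eq_toFinset_card Y Y.toFinite, ← Nat.card_coe_set_eq, hD.card_Y]
  have hεsq : (ε : ℂ) * ε = 1 := by rcases hD.sign with h | h <;> simp [h]
  have hXsq : ∀ χ ∈ X, (εX χ : ℂ) * εX χ = 1 := fun χ hχ => by
    rcases hD.signX χ hχ with h | h <;> simp [h]
  have hrel : ∀ θ ∈ Y, ∀ g : G, ¬ p ∣ orderOf g →
      (θ : G → ℂ) g = (ε : ℂ) * ∑ χ ∈ E, (εX χ : ℂ) * (χ : G → ℂ) g := fun θ hθ g hg => by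
    have h := hD.rel θ hθ g hg
    rw [finsum_mem_eq_finite_toFinset_sum _ X.toFinite] at h
    rw [hE, ← h, ← mul_assoc, hεsq, one_mul]
  have hXsing : ∀ χ ∈ X, ∀ g : G, p ∣ orderOf g → (χ : G → ℂ) g = (εX χ : ℂ) := fun χ hχ g hg => by
    obtain ⟨z, y, hc, hz, hy⟩ := exists_conj_isPPart P hg
    rw [apply_of_isConj χ hc, hD.valueX χ hχ z y hz hy]
  have hBF : Finset.univ.filter (· ∈ principalBlock M G) = E ∪ F := by
    ext χ
    simp [hEX, hFY, hD.union]
  have hdisj : Disjoint E F := Finset.disjoint_left.2 fun χ h h' =>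
    Set.disjoint_left.1 hD.disjoint (hEX.1 h) (hFY.1 h')
  -- the sum of the exceptional characters on singular elements
  have hYsing : ∀ g : G, p ∣ orderOf g → ∑ θ ∈ F, (θ : G → ℂ) g = -(ε : ℂ) := by
    intro g hg
    have h := block_orthogonality_regular' hM (isPBlock_blockOf (M := M) (principal G)) hg
      (h := (1 : G)) (by rw [orderOf_one]; exact hp.not_dvd_one)
    change ∑ χ ∈ Finset.univ.filter (· ∈ principalBlock M G), _ = _ at h
    rw [hBF, Finset.sum_union hdisj] at h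
    have hconj : ∀ χ : IrrCharacter G, conj ((χ : G → ℂ) 1) = (χ : G → ℂ) 1 := fun χ => by
      rw [irr_apply_one_eq_deg, Complex.conj_natCast]
    obtain ⟨θ₁, hθ₁⟩ : F.Nonempty := Finset.card_pos.1 (by omega)
    have hX1 : ∑ χ ∈ E, (χ : G → ℂ) g * conj ((χ : G → ℂ) 1) =
        (ε : ℂ) * (θ₁ : G → ℂ) 1 := by
      rw [hrel θ₁ (hFY.1 hθ₁) 1 (by rw [orderOf_one]; exact hp.not_dvd_one), ← mul_assoc, hεsq,
        one_mul]
      exact Finset.sum_congr rfl fun χ hχ => by rw [hXsing χ (hEX.1 hχ) g hg, hconj]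
    have hY1 : ∑ θ ∈ F, (θ : G → ℂ) g * conj ((θ : G → ℂ) 1) =
        (∑ θ ∈ F, (θ : G → ℂ) g) * (θ₁ : G → ℂ) 1 := by
      rw [Finset.sum_mul]
      exact Finset.sum_congr rfl fun θ hθ => by
        rw [hconj, hD.regY θ (hFY.1 hθ) θ₁ (hFY.1 hθ₁) 1 (by rw [orderOf_one]; exact hp.not_dvd_one)]
    rw [hX1, hY1, ← add_mul] at h
    have h' := (mul_eq_zero.1 h).resolve_right (IsIrrCharacter.apply_one_ne_zero θ₁.2)
    linear_combination h'
  set R := Finset.univ.filter (fun w : G => ¬ p ∣ orderOf w) with hR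
  set S := Finset.univ.filter (fun w : G => ¬ ¬ p ∣ orderOf w) with hS
  have hSmem : ∀ w ∈ S, p ∣ orderOf w := fun w hw => not_not.1 (Finset.mem_filter.1 hw).2
  have hgram : ∀ i ∈ E, ∀ j ∈ E, ∑ w ∈ R, (i : G → ℂ) w * conj ((j : G → ℂ) w) =
      (if i = j then (Nat.card G : ℂ) else 0) - (S.card : ℂ) * ((εX i : ℂ) * εX j) := by
    intro i hi j hj
    rw [← sum_apply_mul_conj i j, ← Finset.sum_filter_add_sum_filter_not Finset.univ
      (fun w : G => ¬ p ∣ orderOf w) (fun w => (i : G → ℂ) w * conj ((j : G → ℂ) w)), ← hR, ← hS]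
    rw [Finset.sum_congr (s₁ := S) rfl fun w hw => show (i : G → ℂ) w * conj ((j : G → ℂ) w) =
        (εX i : ℂ) * εX j by
      rw [hXsing i (hEX.1 hi) w (hSmem w hw), hXsing j (hEX.1 hj) w (hSmem w hw), map_intCast],
      Finset.sum_const, nsmul_eq_mul]
    ring
  have hSeq : (S.card : ℂ) * (1 + m * e) = (m : ℂ) * (Nat.card G : ℂ) := by
    obtain ⟨χ, hχ⟩ : E.Nonempty := Finset.card_pos.1 (by omega)
    have h0' : ∑ θ ∈ F, ∑ w : G, (χ : G → ℂ) w * conj ((θ : G → ℂ) w) = 0 :=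
      Finset.sum_eq_zero fun θ hθ => by
        rw [sum_apply_mul_conj, if_neg]
        rintro rfl
        exact Finset.disjoint_left.1 hdisj hχ hθ
    rw [Finset.sum_comm, ← Finset.sum_filter_add_sum_filter_not Finset.univ
      (fun w : G => ¬ p ∣ orderOf w), ← hR, ← hS] at h0'
    have hsing : ∑ w ∈ S, ∑ θ ∈ F, (χ : G → ℂ) w * conj ((θ : G → ℂ) w) =
        (S.card : ℂ) * ((εX χ : ℂ) * -(ε : ℂ)) := by
      rw [Finset.sum_congr rfl fun w hw => show ∑ θ ∈ F, (χ : G → ℂ) w * conj ((θ : G → ℂ) w) =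
          (εX χ : ℂ) * -(ε : ℂ) by
        rw [← Finset.mul_sum, ← map_sum, hYsing w (hSmem w hw), hXsing χ (hEX.1 hχ) w (hSmem w hw),
          map_neg, map_intCast], Finset.sum_const, nsmul_eq_mul]
    have hregsum : ∑ w ∈ R, ∑ θ ∈ F, (χ : G → ℂ) w * conj ((θ : G → ℂ) w) =
        (m : ℂ) * ε * ((εX χ : ℂ) * ((Nat.card G : ℂ) - (e : ℂ) * S.card)) := by
      have h1 : ∀ w ∈ R, ∑ θ ∈ F, (χ : G → ℂ) w * conj ((θ : G → ℂ) w) =
          ∑ ψ ∈ E, (m : ℂ) * ε * ((εX ψ : ℂ) * ((χ : G → ℂ) w * conj ((ψ : G → ℂ) w))) := by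
        intro w hw
        rw [Finset.sum_congr rfl fun θ hθ => by
          rw [hrel θ (hFY.1 hθ) w (Finset.mem_filter.1 hw).2], Finset.sum_const, hFcard,
          nsmul_eq_mul, map_mul, map_sum, map_intCast, Finset.mul_sum, Finset.mul_sum,
          Finset.mul_sum]
        exact Finset.sum_congr rfl fun ψ _ => by rw [map_mul, map_intCast]; ring
      rw [Finset.sum_congr rfl h1, Finset.sum_comm]
      simp only [← Finset.mul_sum]
      congr 1
      rw [Finset.sum_congr rfl fun ψ hψ => by rw [hgram χ hχ ψ hψ]]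
      rw [Finset.sum_congr rfl fun ψ hψ => show (εX ψ : ℂ) * ((if χ = ψ then (Nat.card G : ℂ) else 0)
          - (S.card : ℂ) * ((εX χ : ℂ) * εX ψ)) =
          (if χ = ψ then (εX ψ : ℂ) * (Nat.card G : ℂ) else 0) - (S.card : ℂ) * (εX χ : ℂ) by
        have := hXsq ψ (hEX.1 hψ)
        split_ifs <;> linear_combination (-(S.card : ℂ) * (εX χ : ℂ)) * this,
        Finset.sum_sub_distrib, Finset.sum_ite_eq, if_pos hχ, Finset.sum_const, hEcard,
        nsmul_eq_mul]
      ring
    rw [hsing, hregsum] at h0'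
    have hne : (εX χ : ℂ) * ε ≠ 0 := by
      refine mul_ne_zero ?_ ?_
      · rcases hD.signX χ (hEX.1 hχ) with h | h <;> simp [h]
      · rcases hD.sign with h | h <;> simp [h]
    have h2 : ((εX χ : ℂ) * ε) * ((m : ℂ) * (Nat.card G : ℂ) - (S.card : ℂ) * (1 + m * e)) = 0 := by
      linear_combination h0'
    exact (sub_eq_zero.1 ((mul_eq_zero.1 h2).resolve_left hne)).symm
  refine ⟨E, εX, m, by rw [hv1, pow_one, hEcard]; exact hme, Or.inl hm1, ?_, ?_⟩
  · intro i hi j hj
    rw [Finset.sum_congr rfl fun w _ => show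
      ((εX i : ℂ) * (i : G → ℂ) w) * conj ((εX j : ℂ) * (j : G → ℂ) w) =
        ((εX i : ℂ) * εX j) * ((i : G → ℂ) w * conj ((j : G → ℂ) w)) by
      rw [map_mul, map_intCast]; ring, ← Finset.mul_sum, hgram i hi j hj, hEcard]
    have hd : (1 : ℂ) + m * e ≠ 0 := by
      exact_mod_cast (show (1 + m * e : ℕ) ≠ 0 by omega)
    have hi2 := hXsq i (hEX.1 hi)
    have hj2 := hXsq j (hEX.1 hj)
    rw [mul_sub (Nat.card G : ℂ), mul_div_assoc', mul_comm (Nat.card G : ℂ) (m : ℂ), ← hSeq,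
      mul_div_assoc, div_self hd, mul_one]
    by_cases hij : i = j
    · subst hij
      rw [if_pos rfl, if_pos rfl]
      linear_combination ((Nat.card G : ℂ) - (S.card : ℂ) * ((εX i : ℂ) * εX i + 1)) * hi2
    · rw [if_neg hij, if_neg hij]
      linear_combination (-(S.card : ℂ) * ((εX j : ℂ) * εX j)) * hi2 - (S.card : ℂ) * hj2
  · intro θ hθ
    rw [hD.union] at hθ
    rcases hθ with hθ | hθ
    · refine ⟨fun i => if i = θ then εX θ else 0, fun w _ => ?_⟩
      rw [Finset.sum_eq_single_of_mem θ (hEX.2 hθ) fun i _ hi => by simp [hi]]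
      simp only [if_true, ← mul_assoc, hXsq θ hθ, one_mul]
    · refine ⟨fun _ => ε, fun w hw => ?_⟩
      rw [hrel θ hθ w hw, Finset.mul_sum]

end Cfsg.Lib.Blocks
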