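import Mathlib

/-!
# A `p`-element whose centraliser splits over it

If some `p`-element has centraliser with `p`-part at most `p²`, then some element `x` of order
`p ^ j ≠ 1` has the same property and its centraliser has a normal subgroup `K` of index `p ^ j`
meeting `⟨x⟩` trivially.
-/

set_option autoImplicit false
set_option linter.unusedSectionVars false

namespace Cfsg.Lib.SplitCentral

universe u

variable {G : Type u} [Group G] [Finite G] {p : ℕ} [Fact p.Prime]

lemma commute_of_card_dvd_sq {Q : Type u} [Group Q] [Finite Q] {a : ℕ}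
    (hQ : Nat.card Q = p ^ a) (ha : a ≤ 2) (u v : Q) : u * v = v * u := by
  rcases a with - | - | - | a
  · haveI : Subsingleton Q := (Nat.card_eq_one_iff_unique.1 (by simpa using hQ)).1
    exact Subsingleton.elim _ _
  · haveI := isCyclic_of_prime_card (p := p) (by simpa using hQ)
    exact IsMulCommutative.is_comm.comm u v
  · exact (IsPGroup.commutative_of_card_eq_prime_sq (p := p) hQ) u v
  · omega

/-- Selection of an element whose centraliser has a Sylow subgroup of exponent the order of it. -/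
theorem exists_exponent_element {x₀ : G} {j₀ : ℕ} (hx₀ : orderOf x₀ = p ^ j₀) (hj₀ : j₀ ≠ 0)
    (hv : (Nat.card (Subgroup.centralizer ({x₀} : Set G))).factorization p ≤ 2) :
    ∃ (x : G) (j : ℕ), orderOf x = p ^ j ∧ j ≠ 0 ∧
      (Nat.card (Subgroup.centralizer ({x} : Set G))).factorization p ≤ 2 ∧
      ∃ Q : Sylow p (Subgroup.centralizer ({x} : Set G)),
        (∃ hx : x ∈ Subgroup.centralizer ({x} : Set G), (⟨x, hx⟩ : Subgroup.centralizer ({x} : Set G))
          ∈ (Q : Subgroup (Subgroup.centralizer ({x} : Set G)))) ∧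
        ∀ q ∈ (Q : Subgroup (Subgroup.centralizer ({x} : Set G))), q ^ p ^ j = 1 := by
  classical
  have hp := (Fact.out : p.Prime)
  have hmem : ∀ z : G, z ∈ Subgroup.centralizer ({z} : Set G) := fun z =>
    Subgroup.mem_centralizer_singleton_iff.2 rfl
  have hord : ∀ (z : G) (i : ℕ), orderOf z = p ^ i →
      IsPGroup p (Subgroup.zpowers (⟨z, hmem z⟩ : Subgroup.centralizer ({z} : Set G))) :=
    fun z i h => IsPGroup.of_card (n := i) (by
      rw [Nat.card_zpowers, Subgroup.orderOf_mk]; exact h)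
  have hQex := (hord x₀ j₀ hx₀).exists_le_sylow
  set H := Subgroup.centralizer ({x₀} : Set G) with hH
  obtain ⟨Q, hQ⟩ := hQex
  set a := (Nat.card H).factorization p with ha
  have hQcard : Nat.card (Q : Subgroup H) = p ^ a := Q.card_eq_multiplicity
  by_cases hexp : ∀ q ∈ (Q : Subgroup H), q ^ p ^ j₀ = 1
  · exact ⟨x₀, j₀, hx₀, hj₀, hv, Q, ⟨hmem x₀, hQ (Subgroup.mem_zpowers _)⟩, hexp⟩
  push Not at hexp
  obtain ⟨q, hqQ, hq⟩ := hexp
  obtain ⟨i, hia, hi⟩ := (Nat.dvd_prime_pow hp).1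
    (hQcard ▸ Subgroup.orderOf_dvd_natCard _ hqQ : orderOf q ∣ p ^ a)
  have hji : ¬ i ≤ j₀ := fun h => hq (orderOf_dvd_iff_pow_eq_one.1 (hi ▸ pow_dvd_pow p h))
  have hi2 : i = a := by
    have : 1 ≤ j₀ := Nat.one_le_iff_ne_zero.2 hj₀
    omega
  have hzq : Subgroup.zpowers q = (Q : Subgroup H) :=
    Subgroup.eq_of_le_of_card_ge (Subgroup.zpowers_le.2 hqQ)
      (by rw [hQcard, Nat.card_zpowers, hi, hi2])
  obtain ⟨t, ht⟩ := Subgroup.mem_zpowers_iff.1 (hzq ▸ hQ (Subgroup.mem_zpowers _) :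
    (⟨x₀, hmem x₀⟩ : H) ∈ Subgroup.zpowers q)
  have hxt : (q : G) ^ t = x₀ := by simpa using congrArg Subtype.val ht
  have hle : Subgroup.centralizer ({(q : G)} : Set G) ≤ H := fun c hc => by
    rw [hH, Subgroup.mem_centralizer_singleton_iff]
    rw [Subgroup.mem_centralizer_singleton_iff] at hc
    rw [← hxt]
    exact ((show Commute c (q : G) from hc).zpow_right t).eq
  have hqord : orderOf (q : G) = p ^ i := by rw [Subgroup.orderOf_coe, hi]
  have hv' : (Nat.card (Subgroup.centralizer ({(q : G)} : Set G))).factorization p ≤ a := by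
    refine (hp.pow_dvd_iff_le_factorization Nat.card_pos.ne').1 ?_
    exact (Nat.ordProj_dvd _ p).trans (Subgroup.card_dvd_of_le hle)
  obtain ⟨Q', hQ'⟩ := (hord (q : G) i hqord).exists_le_sylow
  refine ⟨q, i, hqord, by omega, hv'.trans hv, Q', ⟨hmem _, hQ' (Subgroup.mem_zpowers _)⟩,
    fun u hu => ?_⟩
  refine orderOf_dvd_iff_pow_eq_one.1 (((Subgroup.orderOf_dvd_natCard _ hu).trans ?_))
  rw [Q'.card_eq_multiplicity, hi2]
  exact pow_dvd_pow p hv'

/-- The split centraliser. -/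
theorem exists_split {x₀ : G} {j₀ : ℕ} (hx₀ : orderOf x₀ = p ^ j₀) (hj₀ : j₀ ≠ 0)
    (hv : (Nat.card (Subgroup.centralizer ({x₀} : Set G))).factorization p ≤ 2) :
    ∃ (x : G) (j : ℕ) (K : Subgroup (Subgroup.centralizer (Subgroup.zpowers x : Set G))),
      orderOf x = p ^ j ∧ j ≠ 0 ∧ K.Normal ∧ K.index = p ^ j ∧
      j + (Nat.card K).factorization p ≤ 2 ∧
      ∀ h : Subgroup.centralizer (Subgroup.zpowers x : Set G),
        ∃ (i : ℕ) (k : Subgroup.centralizer (Subgroup.zpowers x : Set G)),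
          k ∈ K ∧ (h : G) = x ^ i * (k : G) := by
  classical
  have hp := (Fact.out : p.Prime)
  obtain ⟨x, j, hxo, hj, hv, hQex⟩ := exists_exponent_element hx₀ hj₀ hv
  have hHeq : Subgroup.centralizer (Subgroup.zpowers x : Set G) =
      Subgroup.centralizer ({x} : Set G) := by
    rw [Subgroup.zpowers_eq_closure, Subgroup.centralizer_closure]
  suffices h : ∃ K : Subgroup (Subgroup.centralizer ({x} : Set G)), K.Normal ∧ K.index = p ^ j ∧
      j + (Nat.card K).factorization p ≤ 2 ∧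
      ∀ h : Subgroup.centralizer ({x} : Set G),
        ∃ (i : ℕ) (k : Subgroup.centralizer ({x} : Set G)),
          k ∈ K ∧ (h : G) = x ^ i * (k : G) by
    rw [← hHeq] at h
    obtain ⟨K, hK⟩ := h
    exact ⟨x, j, K, hxo, hj, hK⟩
  set H := Subgroup.centralizer ({x} : Set G) with hH
  obtain ⟨Q, ⟨hxm, hxQ⟩, hexp⟩ := hQex
  have hcomm : ∀ u v : (Q : Subgroup H), u * v = v * u :=
    fun u v => commute_of_card_dvd_sq (p := p) Q.card_eq_multiplicity hv u v
  letI : CommGroup (Q : Subgroup H) := { (inferInstance : Group (Q : Subgroup H)) with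
    mul_comm := hcomm }
  set xQ : (Q : Subgroup H) := ⟨⟨x, hxm⟩, hxQ⟩ with hxQdef
  have hoQ : orderOf xQ = p ^ j := by
    rw [← Subgroup.orderOf_coe, ← Subgroup.orderOf_coe]
    exact hxo
  have ht : xQ ^ p ^ (j - 1) ≠ 1 := fun h => by
    have h1 := Nat.le_of_dvd (pow_pos hp.pos _) (hoQ ▸ orderOf_dvd_of_pow_eq_one h)
    have h2 := Nat.pow_lt_pow_right hp.one_lt (show j - 1 < j by omega)
    omega
  haveI : HasEnoughRootsOfUnity ℂ (Monoid.exponent (Q : Subgroup H)) := by
    haveI : NeZero (Monoid.exponent (Q : Subgroup H)) :=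
      ⟨Monoid.exponent_ne_zero_of_finite⟩
    infer_instance
  obtain ⟨φ, hφ⟩ :=
    CommGroup.exists_apply_ne_one_of_hasEnoughRootsOfUnity (Q : Subgroup H) ℂ ht
  have hrange : ∀ z ∈ φ.range, z ^ p ^ j = 1 := by
    rintro z ⟨q, rfl⟩
    rw [← map_pow, show q ^ p ^ j = 1 from Subtype.ext (by simpa using hexp q q.2), map_one]
  haveI : Finite φ.range := Finite.of_surjective φ.rangeRestrict φ.rangeRestrict_surjective
  have hA : Nat.card φ.range ∣ p ^ j := by
    haveI : IsCyclic φ.range := inferInstance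
    rw [← IsCyclic.exponent_eq_card]
    exact Monoid.exponent_dvd_of_forall_pow_eq_one fun z => Subtype.ext (by
      rw [Subgroup.coe_pow, Subgroup.coe_one]; exact hrange z z.2)
  set r : H →* φ.range := MonoidHom.transfer φ.rangeRestrict with hr
  have hc : (⟨x, hxm⟩ : H) ∈ Subgroup.center H := Subgroup.mem_center_iff.2 fun c => Subtype.ext
    (Subgroup.mem_centralizer_singleton_iff.1 c.2)
  have hkey : ∀ (k : ℕ) (g₀ : H), g₀⁻¹ * (⟨x, hxm⟩ : H) ^ k * g₀ ∈ (Q : Subgroup H) →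
      g₀⁻¹ * (⟨x, hxm⟩ : H) ^ k * g₀ = (⟨x, hxm⟩ : H) ^ k := fun k g₀ _ => by
    rw [mul_assoc, ← Subgroup.mem_center_iff.1 (Subgroup.pow_mem _ hc k) g₀, inv_mul_cancel_left]
  have hrx : ((r ⟨x, hxm⟩ : φ.range) : ℂˣ) = φ xQ ^ (Q : Subgroup H).index := by
    rw [hr, MonoidHom.transfer_eq_pow φ.rangeRestrict (⟨x, hxm⟩ : H) hkey,
      MonoidHom.coe_rangeRestrict, ← map_pow]
    exact congrArg φ (Subtype.ext rfl)
  have hidx : ¬ p ∣ (Q : Subgroup H).index := Q.not_dvd_index
  have hord : orderOf (r ⟨x, hxm⟩) = p ^ j := by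
    rw [← Subgroup.orderOf_coe, hrx]
    have h1 : orderOf (φ xQ) = p ^ j := by
      rw [← Nat.succ_pred_eq_of_ne_zero hj]
      refine orderOf_eq_prime_pow ?_ ?_
      · rw [← map_pow]; exact hφ
      · rw [show j.pred + 1 = j from Nat.succ_pred_eq_of_ne_zero hj, ← map_pow, ← hoQ,
          pow_orderOf_eq_one, map_one]
    rw [Nat.Coprime.orderOf_pow, h1]
    rw [h1]
    exact Nat.Coprime.pow_left j (hp.coprime_iff_not_dvd.2 hidx)
  have hgen : Subgroup.zpowers (r ⟨x, hxm⟩) = ⊤ := Subgroup.eq_top_of_le_card _ (by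
    rw [Nat.card_zpowers, hord]
    exact Nat.le_of_dvd (pow_pos hp.pos _) hA)
  have hker : r.ker.index = p ^ j := by
    rw [Subgroup.index_ker, (MonoidHom.range_eq_top (f := r)).2 fun a => ?_, Subgroup.card_top,
      ← Nat.card_congr (Subgroup.topEquiv).toEquiv, ← hgen, Nat.card_zpowers, hord]
    obtain ⟨i, hi⟩ := Subgroup.mem_zpowers_iff.1 (hgen ▸ Subgroup.mem_top a)
    exact ⟨(⟨x, hxm⟩ : H) ^ i, by rw [map_zpow, hi]⟩
  refine ⟨r.ker, inferInstance, hker, ?_, fun h => ?_⟩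
  · have h1 := r.ker.card_mul_index
    rw [hker] at h1
    have h2 : (Nat.card H).factorization p = (Nat.card r.ker).factorization p + j := by
      rw [← h1, Nat.factorization_mul Nat.card_pos.ne' (pow_ne_zero _ hp.ne_zero),
        Finsupp.add_apply, hp.factorization_pow, Finsupp.single_eq_same]
    omega
  · obtain ⟨i, hi⟩ := (isOfFinOrder_of_finite (r ⟨x, hxm⟩)).mem_powers_iff_mem_zpowers.2
      (hgen ▸ Subgroup.mem_top (r h))
    simp only at hi
    refine ⟨i, ((⟨x, hxm⟩ : H) ^ i)⁻¹ * h, ?_, by simp⟩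
    rw [MonoidHom.mem_ker, map_mul, map_inv, map_pow, hi, inv_mul_cancel]

end Cfsg.Lib.SplitCentral
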