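import Mathlib
import Cfsg.Agent.Blocks.PrincipalRegBasis
import Cfsg.Agent.Blocks.SplitCentral
import Cfsg.Agent.Blocks.SubsectionColumns
import Cfsg.Agent.Blocks.ContributionHeight

/-!
# Characters of degree prime to `p` in the principal block and small centralisers

If some `p`-element has centraliser with `p`-part at most `p²` then the principal block has at
most `p²` characters of degree prime to `p`.
-/

set_option autoImplicit false
set_option linter.unusedSectionVars false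

namespace Cfsg.Lib.Blocks

open Cfsg.Lib.Chars
open scoped ComplexConjugate

universe u

/-- The averaged form is at least the number of coordinates. -/
lemma quadForm_sum_ge {ι K : Type*} [Fintype K] (E : Finset ι) (m : ℕ) (y : ι → K → ℂ)
    (hy : ∀ i ∈ E, (∀ k, y i k = 0) ∨ (Fintype.card K : ℝ) ≤ ∑ k, ‖y i k‖ ^ 2)
    (hne : ∃ i ∈ E, ∃ k, y i k ≠ 0) (hm : 1 ≤ m ∨ E.card = 1) :
    (Fintype.card K : ℝ) * E.card ≤
      ∑ k, ((1 + (m : ℝ) * E.card) * ∑ i ∈ E, ‖y i k‖ ^ 2 - m * ‖∑ i ∈ E, y i k‖ ^ 2) := by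
  classical
  set S := E.filter fun i => ¬ ∀ k, y i k = 0 with hS
  have hSE : S ⊆ E := Finset.filter_subset _ _
  have hzero : ∀ i ∈ E, i ∉ S → ∀ k, y i k = 0 := fun i hi hiS => by
    by_contra h
    exact hiS (Finset.mem_filter.2 ⟨hi, h⟩)
  have h1 : ∀ k, ∑ i ∈ E, ‖y i k‖ ^ 2 = ∑ i ∈ S, ‖y i k‖ ^ 2 := fun k =>
    (Finset.sum_subset hSE fun i hi hiS => by simp [hzero i hi hiS k]).symm
  have h2 : ∀ k, ∑ i ∈ E, y i k = ∑ i ∈ S, y i k := fun k =>
    (Finset.sum_subset hSE fun i hi hiS => hzero i hi hiS k).symm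
  have h3 : ∀ k, ‖∑ i ∈ S, y i k‖ ^ 2 ≤ (S.card : ℝ) * ∑ i ∈ S, ‖y i k‖ ^ 2 := fun k =>
    (pow_le_pow_left₀ (norm_nonneg _) (norm_sum_le _ _) 2).trans sq_sum_le_card_mul_sum_sq
  have hw : 1 ≤ S.card := by
    obtain ⟨i, hi, k, hk⟩ := hne
    exact Finset.card_pos.2 ⟨i, Finset.mem_filter.2 ⟨hi, fun h => hk (h k)⟩⟩
  have hwe : S.card ≤ E.card := Finset.card_le_card hSE
  obtain ⟨d, hd⟩ := Nat.exists_eq_add_of_le hwe
  have hge : (Fintype.card K : ℝ) * S.card ≤ ∑ k, ∑ i ∈ S, ‖y i k‖ ^ 2 := by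
    rw [Finset.sum_comm, mul_comm, ← nsmul_eq_mul, ← Finset.sum_const]
    refine Finset.sum_le_sum fun i hi => ?_
    rcases hy i (hSE hi) with h | h
    · exact absurd h (Finset.mem_filter.1 hi).2
    · exact h
  have hstep : (1 + (m : ℝ) * d) * ∑ k, ∑ i ∈ S, ‖y i k‖ ^ 2 ≤
      ∑ k, ((1 + (m : ℝ) * E.card) * ∑ i ∈ E, ‖y i k‖ ^ 2 - m * ‖∑ i ∈ E, y i k‖ ^ 2) := by
    rw [Finset.mul_sum]
    refine Finset.sum_le_sum fun k _ => ?_
    rw [h1, h2, hd, Nat.cast_add]
    have := mul_le_mul_of_nonneg_left (h3 k) (Nat.cast_nonneg' (α := ℝ) m)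
    linarith
  refine le_trans ?_ hstep
  refine le_trans ?_ (mul_le_mul_of_nonneg_left hge (by positivity))
  have hkey : E.card ≤ (1 + m * d) * S.card := by
    rw [hd, add_mul, one_mul]
    rcases hm with hm | hm
    · have : d * 1 ≤ m * d * S.card := by
        rw [mul_one]
        exact Nat.le_trans (Nat.le_mul_of_pos_left d hm) (Nat.le_mul_of_pos_right _ hw)
      omega
    · have : d = 0 := by omega
      simp [this]
  have hkey' : (E.card : ℝ) ≤ (1 + (m : ℝ) * d) * S.card := by exact_mod_cast hkey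
  calc (Fintype.card K : ℝ) * E.card ≤ (Fintype.card K : ℝ) * ((1 + (m : ℝ) * d) * S.card) :=
        mul_le_mul_of_nonneg_left hkey' (Nat.cast_nonneg' _)
    _ = _ := by ring

/-- An integral combination of powers of roots of unity vanishing at one unit vanishes at all. -/
lemma sum_roots_eq_zero {n : ℕ} [NeZero n] {ι : Type*} (s : Finset ι) (c : ι → ℤ) (z : ι → ℂ)
    (hz : ∀ i, z i ^ n = 1) (k₀ : (ZMod n)ˣ)
    (h0 : ∑ i ∈ s, (c i : ℂ) * z i ^ (k₀ : ZMod n).val = 0) (k : (ZMod n)ˣ) :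
    ∑ i ∈ s, (c i : ℂ) * z i ^ (k : ZMod n).val = 0 := by
  set t := k₀⁻¹ * k with ht
  obtain ⟨σ, hσ⟩ := exists_galConj_auto (m := n) (ZMod.val_coe_unit_coprime t)
  have h := congrArg σ h0
  rw [map_sum, map_zero] at h
  rw [← h]
  refine Finset.sum_congr rfl fun i _ => ?_
  rw [map_mul, map_intCast, map_pow, hσ _ (hz i), ← pow_mul, pow_eq_pow_mod _ (hz i)]
  conv_rhs => rw [pow_eq_pow_mod _ (hz i)]
  congr 2
  rw [show k = t * k₀ by rw [ht, mul_comm k₀⁻¹ k, inv_mul_cancel_right], Units.val_mul,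
    ZMod.val_mul, Nat.mod_mod]

variable {G : Type u} [Group G] [Fintype G] {M : Ideal AlgInt} {p : ℕ} [Fact p.Prime]

/-- The restriction to a subgroup `K` complementing a central cyclic subgroup. -/
lemma restrict_mem_principal (hM : IsPModular p M) {x : G} (hx : x ∈ Subgroup.center G) {j : ℕ}
    (hxo : orderOf x = p ^ j) (K : Subgroup G) [K.Normal] [Fintype K] (hidx : K.index = p ^ j)
    (hdec : ∀ g : G, ∃ (i : ℕ) (k : G), k ∈ K ∧ g = x ^ i * k) {θ : IrrCharacter G}
    (hθ : θ ∈ principalBlock M G) :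
    ∃ η : IrrCharacter K, η ∈ principalBlock M K ∧ ∀ k : K, (η : K → ℂ) k = (θ : G → ℂ) k := by
  classical
  have hp := (Fact.out : p.Prime)
  have hG : (Nat.card G : ℂ) ≠ 0 := Nat.cast_ne_zero.2 Nat.card_pos.ne'
  haveI : NeZero (p ^ j) := ⟨pow_ne_zero _ hp.ne_zero⟩
  have hsurj : Function.Surjective fun q : Fin (p ^ j) × K => x ^ (q.1 : ℕ) * (q.2 : G) := by
    intro g
    obtain ⟨i, k, hk, rfl⟩ := hdec g
    refine ⟨(⟨i % p ^ j, Nat.mod_lt _ (NeZero.pos _)⟩, ⟨k, hk⟩), ?_⟩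
    show x ^ (i % p ^ j) * k = x ^ i * k
    rw [← hxo, pow_mod_orderOf]
  have hcard : Nat.card (Fin (p ^ j) × K) = Nat.card G := by
    rw [Nat.card_prod, Nat.card_fin, ← hidx, mul_comm, Subgroup.card_mul_index]
  have hbij : Function.Bijective fun q : Fin (p ^ j) × K => x ^ (q.1 : ℕ) * (q.2 : G) := by
    rw [Fintype.bijective_iff_surjective_and_card]
    exact ⟨hsurj, by simpa [Nat.card_eq_fintype_card] using hcard⟩
  set c : ℂ := (θ : G → ℂ) x / (θ : G → ℂ) 1 with hc
  have hnorm : c * conj c = 1 := by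
    rw [Complex.mul_conj', Complex.norm_eq_one_of_pow_eq_one
      (apply_central_root θ hx (by rw [← hxo, pow_orderOf_eq_one])) (NeZero.ne (p ^ j))]
    norm_num
  have hval : ∀ (i : ℕ) (k : G), (θ : G → ℂ) (x ^ i * k) = c ^ i * (θ : G → ℂ) k := fun i k => by
    rw [apply_mul_central θ (Subgroup.pow_mem _ hx i), apply_central_pow θ hx]
  have hchar : IsCharacter K (fun k : K => (θ : G → ℂ) k) :=
    IsCharacter.restrict (isCharacter_of_irr θ.2) K
  have hirr : IsIrrCharacter K (fun k : K => (θ : G → ℂ) k) := by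
    refine isIrrCharacter_of_norm_one hchar ?_
    have h := classInner_irr_self θ
    rw [classInner_def, ← Equiv.sum_comp (Equiv.ofBijective _ hbij), Fintype.sum_prod_type] at h
    simp only [Equiv.ofBijective_apply, hval, map_mul, map_pow] at h
    rw [Finset.sum_congr rfl fun (i : Fin (p ^ j)) _ => show
        ∑ k : K, c ^ (i : ℕ) * (θ : G → ℂ) k * (conj c ^ (i : ℕ) * conj ((θ : G → ℂ) k)) =
          ∑ k : K, (θ : G → ℂ) k * conj ((θ : G → ℂ) k) from
        Finset.sum_congr rfl fun k _ => by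
          rw [show c ^ (i : ℕ) * (θ : G → ℂ) k * (conj c ^ (i : ℕ) * conj ((θ : G → ℂ) k)) =
            (c * conj c) ^ (i : ℕ) * ((θ : G → ℂ) k * conj ((θ : G → ℂ) k)) by ring, hnorm,
            one_pow, one_mul], Finset.sum_const, Finset.card_univ, Fintype.card_fin,
      nsmul_eq_mul] at h
    rw [classInner_def, ← h, ← hcard, Nat.card_prod, Nat.card_fin]
    have h1 : ((p ^ j : ℕ) : ℂ) ≠ 0 := Nat.cast_ne_zero.2 (pow_ne_zero _ hp.ne_zero)
    have h2 : (Nat.card K : ℂ) ≠ 0 := Nat.cast_ne_zero.2 Nat.card_pos.ne'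
    push_cast at h1 ⊢
    field_simp
  refine ⟨⟨_, hirr⟩, ?_, fun k => rfl⟩
  rw [mem_principal_iff_sum hM] at hθ ⊢
  convert hθ using 2
  refine (Finset.sum_congr rfl fun k _ => ?_).trans
    ((Finset.sum_subtype (p := (· ∈ K)) (Finset.univ.filter (· ∈ K)) (fun g => by simp)
      (fun g : G => if p ∣ orderOf g then 0 else (θ : G → ℂ) g)).symm.trans
      (Finset.sum_filter_of_ne fun g _ hg => ?_))
  · rw [Subgroup.orderOf_coe]
  · refine mem_of_pRegular_of_index_eq_pow hp K hidx fun h => hg ?_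
    rw [if_pos h]

set_option maxHeartbeats 1000000 in
/-- The number of characters of degree prime to `p` in the principal block. -/
theorem card_principal_pPrime_le (hM : IsPModular p M) {x₀ : G} {j₀ : ℕ}
    (hx₀ : orderOf x₀ = p ^ j₀) (hj₀ : j₀ ≠ 0)
    (hv : (Nat.card (Subgroup.centralizer ({x₀} : Set G))).factorization p ≤ 2) :
    Nat.card {χ : IrrCharacter G // χ ∈ principalBlock M G ∧ ¬ p ∣ charDegree (χ : G → ℂ)}
      ≤ p ^ 2 := by
  classical
  have hp := (Fact.out : p.Prime)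
  obtain ⟨x, j, hrest⟩ := Cfsg.Lib.SplitCentral.exists_split hx₀ hj₀ hv
  set H := Subgroup.centralizer (Subgroup.zpowers x : Set G) with hH
  obtain ⟨K, hxo, hj, hKn, hidx, hjv, hdec⟩ := hrest
  haveI := hKn
  haveI : Fintype H := Fintype.ofFinite H
  haveI : Fintype K := Fintype.ofFinite K
  haveI : NeZero (p ^ j) := ⟨pow_ne_zero _ hp.ne_zero⟩
  have hxp : ∃ k : ℕ, orderOf x = p ^ k := ⟨j, hxo⟩
  have hxH : x ∈ H := mem_of_eq_centralizer (x := x) hH
  have hxc : (⟨x, hxH⟩ : H) ∈ Subgroup.center H := mem_center_of_eq_centralizer hH hxH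
  have hxoH : orderOf (⟨x, hxH⟩ : H) = p ^ j := by rw [Subgroup.orderOf_mk, hxo]
  have hdecH : ∀ h : H, ∃ (i : ℕ) (k : H), k ∈ K ∧ h = (⟨x, hxH⟩ : H) ^ i * k := fun h => by
    obtain ⟨i, k, hk, he⟩ := hdec h
    exact ⟨i, k, hk, Subtype.ext (by simpa using he)⟩
  obtain ⟨E, ε, m, hD, hm, hgram, hspan⟩ := exists_regBasis (G := K) hM (by omega)
  set e := E.card with he
  set φ : IrrCharacter K → H → ℂ := fun i h =>
    if hh : h ∈ K ∧ ¬ p ∣ orderOf h then (ε i : ℂ) * (i : K → ℂ) ⟨h, hh.1⟩ else 0 with hφ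
  have hφv : ∀ i (w : H) (hw : ¬ p ∣ orderOf w),
      φ i w = (ε i : ℂ) * (i : K → ℂ) ⟨w, mem_of_pRegular_of_index_eq_pow hp K hidx hw⟩ :=
    fun i w hw => dif_pos ⟨mem_of_pRegular_of_index_eq_pow hp K hidx hw, hw⟩
  -- every member of the local principal block is an integral combination
  have hloc : ∀ θ : IrrCharacter H, ∃ n : IrrCharacter K → ℤ, θ ∈ principalBlock M H →
      ∀ w : H, ¬ p ∣ orderOf w → (θ : H → ℂ) w = ∑ i ∈ E, (n i : ℂ) * φ i w := fun θ => by
    by_cases hθ : θ ∈ principalBlock M H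
    · obtain ⟨η, hη, hηv⟩ := restrict_mem_principal hM hxc hxoH K hidx hdecH hθ
      obtain ⟨n, hn⟩ := hspan η hη
      refine ⟨n, fun _ w hw => ?_⟩
      rw [← show (η : K → ℂ) ⟨w, mem_of_pRegular_of_index_eq_pow hp K hidx hw⟩ =
        (θ : H → ℂ) w from hηv _, hn _ (by rw [Subgroup.orderOf_mk]; exact hw)]
      exact Finset.sum_congr rfl fun i _ => by rw [hφv i w hw]
    · exact ⟨0, fun h => absurd h hθ⟩
  choose n hn using hloc
  set b := principalBlock M H with hb
  have hbB : IsPBlock M b := isPBlock_blockOf (principal H)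
  set bF := Finset.univ.filter (· ∈ b) with hbF
  have hrank : blockRank p b ≤ e := by
    rw [he, ← Finset.card_image_of_injOn (f := id) (s := E) (Set.injOn_id _), Finset.image_id]
    refine le_trans ?_ (finrank_span_le_card (R := ℂ) ((E.image φ : Finset (H → ℂ)) : Set (H → ℂ)))
      |>.trans ?_
    · refine Submodule.finrank_mono (Submodule.span_le.2 ?_)
      rintro _ ⟨θ, hθ, rfl⟩
      have heq : pRegularPart p (θ : H → ℂ) = ∑ i ∈ E, (n θ i : ℂ) • φ i := by
        funext w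
        rw [pRegularPart_apply, Finset.sum_apply]
        simp only [Pi.smul_apply, smul_eq_mul]
        by_cases hw : p ∣ orderOf w
        · simp only [hw, not_true_eq_false, if_false, if_true]
          exact (Finset.sum_eq_zero fun i _ => by simp [hφ, hw]).symm
        · simp only [hw, not_false_eq_true, if_false, if_true]
          exact hn θ hθ w hw
      show pRegularPart p (θ : H → ℂ) ∈ _
      rw [heq]
      exact sum_mem fun i hi => Submodule.smul_mem _ _ (Submodule.subset_span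
        (Finset.mem_coe.2 (Finset.mem_image_of_mem _ hi)))
    · simpa using (Finset.card_image_le : (E.image φ).card ≤ E.card)
  -- the coefficients
  set cv : IrrCharacter H → ℂ := fun θ => centralValue x θ with hcv
  have hcvn : ∀ θ, cv θ ^ p ^ j = 1 := fun θ =>
    centralValue_pow hH (by rw [← hxo, pow_orderOf_eq_one]) θ
  set y : IrrCharacter G → IrrCharacter K → (ZMod (p ^ j))ˣ → ℂ := fun χ i k =>
    ∑ θ ∈ bF, (((resMult H χ θ : ℤ) * n θ i : ℤ) : ℂ) * cv θ ^ (k : ZMod (p ^ j)).val with hy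
  set R := Finset.univ.filter (fun w : H => ¬ p ∣ orderOf w) with hR
  set B := Finset.univ.filter (fun χ : IrrCharacter G => χ ∈ principalBlock M G) with hB
  have hxk : ∀ k : (ZMod (p ^ j))ˣ, (∃ a : ℕ, orderOf (x ^ (k : ZMod (p ^ j)).val) = p ^ a) ∧
      H = Subgroup.centralizer (Subgroup.zpowers (x ^ (k : ZMod (p ^ j)).val) : Set G) := fun k => by
    have hco := ZMod.val_coe_unit_coprime k
    have ho : orderOf (x ^ (k : ZMod (p ^ j)).val) = p ^ j := by
      rw [Nat.Coprime.orderOf_pow (by rw [hxo]; exact hco.symm), hxo]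
    refine ⟨⟨j, ho⟩, ?_⟩
    rw [Subgroup.eq_of_le_of_card_ge (Subgroup.zpowers_le.2
      (Subgroup.pow_mem _ (Subgroup.mem_zpowers x) _) :
        Subgroup.zpowers (x ^ (k : ZMod (p ^ j)).val) ≤ Subgroup.zpowers x)
      (by rw [Nat.card_zpowers, Nat.card_zpowers, ho, hxo])]
  have hvalue : ∀ χ ∈ B, ∀ (k : (ZMod (p ^ j))ˣ) (w : H), ¬ p ∣ orderOf w →
      (χ : G → ℂ) (x ^ (k : ZMod (p ^ j)).val * (w : G)) = ∑ i ∈ E, y χ i k * φ i w := by
    intro χ hχ k w hw
    obtain ⟨hka, hkH⟩ := hxk k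
    rw [apply_mul_eq_sum_blockPart hM hka hkH (isPBlock_blockOf (principal G))
      (Finset.mem_filter.1 hχ).2 hw]
    change ∑ b ∈ (blocksFinset M H).filter (fun b => IsInducedBlock M H b (principalBlock M G)), _ = _
    rw [filter_induced_principal hM hka hkH, Finset.sum_singleton, blockPart_eq_sum]
    rw [Finset.sum_congr rfl fun (θ : IrrCharacter H) hθ => show
        classInner (fun c : H => (χ : G → ℂ) (x ^ (k : ZMod (p ^ j)).val * (c : G))) (θ : H → ℂ) *
          (θ : H → ℂ) w = ((resMult H χ θ : ℂ) * cv θ ^ (k : ZMod (p ^ j)).val) *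
          ∑ i ∈ E, (n θ i : ℂ) * φ i w by
      rw [← hn θ (Finset.mem_filter.1 hθ).2 w hw]
      congr 1
      exact sectCoef_pow hH _ χ θ]
    simp only [Finset.mul_sum]
    rw [Finset.sum_comm]
    refine Finset.sum_congr rfl fun i _ => ?_
    simp only [hy, Finset.sum_mul]
    exact Finset.sum_congr rfl fun θ _ => by push_cast; ring
  set D : ℝ := 1 + (m : ℝ) * e with hDdef
  have hDpos : 0 < D := by positivity
  set Q : IrrCharacter G → (ZMod (p ^ j))ˣ → ℝ := fun χ k =>
    D * ∑ i ∈ E, ‖y χ i k‖ ^ 2 - m * ‖∑ i ∈ E, y χ i k‖ ^ 2 with hQ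
  have hRK : ∀ F : H → ℂ, ∑ w ∈ R, F w =
      ∑ w ∈ Finset.univ.filter (fun w : K => ¬ p ∣ orderOf w), F w := fun F => by
    refine Finset.sum_bij' (fun w hw => (⟨w, mem_of_pRegular_of_index_eq_pow hp K hidx
      (Finset.mem_filter.1 hw).2⟩ : K)) (fun w _ => (w : H)) (fun w hw => ?_) (fun w hw => ?_)
      (fun w _ => rfl) (fun w _ => rfl) (fun w _ => rfl)
    · simpa using (Finset.mem_filter.1 hw).2
    · simpa [hR] using (Finset.mem_filter.1 hw).2
  -- the norm of a row
  have hrow : ∀ χ ∈ B, ∀ k, ∑ w ∈ R, ‖(χ : G → ℂ) (x ^ ((k : (ZMod (p ^ j))ˣ) : ZMod (p ^ j)).val *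
      (w : G))‖ ^ 2 = (Nat.card K : ℝ) * (Q χ k / D) := by
    intro χ hχ k
    have hexp : ((∑ w ∈ R, ‖(χ : G → ℂ) (x ^ (k : ZMod (p ^ j)).val * (w : G))‖ ^ 2 : ℝ) : ℂ) =
        ∑ i ∈ E, ∑ l ∈ E, y χ i k * conj (y χ l k) * ((Nat.card K : ℂ) *
          ((if i = l then (1 : ℂ) else 0) - (m : ℂ) / (1 + m * e))) := by
      push_cast
      rw [Finset.sum_congr rfl fun (w : H) hw => show
          ((‖(χ : G → ℂ) (x ^ (k : ZMod (p ^ j)).val * (w : G))‖ : ℝ) : ℂ) ^ 2 =
          ∑ i ∈ E, ∑ l ∈ E, y χ i k * conj (y χ l k) * (φ i w * conj (φ l w)) by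
        rw [← Complex.mul_conj', hvalue χ hχ k w (Finset.mem_filter.1 hw).2, map_sum,
          Finset.sum_mul_sum]
        exact Finset.sum_congr rfl fun i _ => Finset.sum_congr rfl fun l _ => by
          rw [map_mul]; ring, Finset.sum_comm]
      refine Finset.sum_congr rfl fun i hi => ?_
      rw [Finset.sum_comm]
      refine Finset.sum_congr rfl fun l hl => ?_
      rw [← Finset.mul_sum, hRK, ← hgram i hi l hl]
      congr 1
      refine Finset.sum_congr rfl fun w hw => ?_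
      have hw' : ¬ p ∣ orderOf (w : H) := by simpa using (Finset.mem_filter.1 hw).2
      rw [hφv i _ hw', hφv l _ hw']
    apply Complex.ofReal_injective
    rw [hexp, hQ, hDdef]
    have hd : (1 : ℂ) + m * e ≠ 0 := by
      exact_mod_cast (show (1 + m * e : ℕ) ≠ 0 by omega)
    push_cast
    simp only [← Complex.mul_conj', map_sum]
    rw [Finset.sum_mul_sum]
    simp only [mul_sub, Finset.sum_sub_distrib, mul_ite, mul_one, mul_zero, Finset.sum_ite_eq]
    rw [Finset.sum_congr (s₁ := E) rfl fun i hi => if_pos hi]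
    simp only [← Finset.sum_mul, ← Finset.mul_sum]
    field_simp
  -- the sum over the block
  have hcol : ∀ k : (ZMod (p ^ j))ˣ, ∑ χ ∈ B, ∑ w ∈ R,
      ‖(χ : G → ℂ) (x ^ (k : ZMod (p ^ j)).val * (w : G))‖ ^ 2 =
        (Nat.card H : ℝ) * blockRank p b := fun k => by
    obtain ⟨hka, hkH⟩ := hxk k
    apply Complex.ofReal_injective
    push_cast
    rw [Finset.sum_comm, ← sum_colKer_regular hM hbB]
    refine Finset.sum_congr rfl fun w hw => ?_
    have h := colKer_section hM hka hkH (B := principalBlock M G)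
      (isPBlock_blockOf (principal G)) (Finset.mem_filter.1 hw).2 (Finset.mem_filter.1 hw).2
    rw [filter_induced_principal hM hka hkH, Finset.sum_singleton, colKer_eq] at h
    rw [← h]
    exact Finset.sum_congr rfl fun χ _ => (Complex.mul_conj' _).symm
  set S : Finset (IrrCharacter G) := B.filter fun χ : IrrCharacter G => ¬ p ∣ charDegree (χ : G → ℂ) with hS
  have hupper : ∑ χ ∈ B, ∑ k, Q χ k ≤
      D * ((p : ℝ) ^ j * e) * Fintype.card (ZMod (p ^ j))ˣ := by
    have hK : (0 : ℝ) < Nat.card K := Nat.cast_pos.2 Nat.card_pos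
    refine le_of_mul_le_mul_left ?_ (div_pos hK hDpos)
    rw [Finset.sum_comm, Finset.mul_sum, Finset.sum_congr rfl fun k _ => show
      (Nat.card K : ℝ) / D * ∑ χ ∈ B, Q χ k = (Nat.card H : ℝ) * blockRank p b by
        rw [← hcol k, Finset.mul_sum]
        exact Finset.sum_congr rfl fun χ hχ => by rw [hrow χ hχ k]; ring,
      Finset.sum_const, Finset.card_univ, nsmul_eq_mul]
    have hHK : (Nat.card H : ℝ) = (p : ℝ) ^ j * Nat.card K := by
      rw [← K.card_mul_index, hidx]; push_cast; ring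
    rw [hHK, show (Nat.card K : ℝ) / D * (D * ((p : ℝ) ^ j * e) * Fintype.card (ZMod (p ^ j))ˣ) =
      Fintype.card (ZMod (p ^ j))ˣ * ((p : ℝ) ^ j * Nat.card K * e) by field_simp]
    have : (blockRank p b : ℝ) ≤ e := by exact_mod_cast hrank
    gcongr
  have hnonneg : ∀ χ ∈ B, 0 ≤ ∑ k, Q χ k := fun χ hχ => Finset.sum_nonneg fun k _ => by
    have h := hrow χ hχ k
    have h1 : 0 ≤ (Nat.card K : ℝ) * (Q χ k / D) := h ▸ Finset.sum_nonneg fun w _ => by positivity
    have hK : (0 : ℝ) < Nat.card K := Nat.cast_pos.2 Nat.card_pos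
    have h2 := mul_nonneg ((mul_nonneg_iff_of_pos_left hK).1 h1) hDpos.le
    rwa [div_mul_cancel₀ _ hDpos.ne'] at h2
  have hlower : ∀ χ ∈ S, (Fintype.card (ZMod (p ^ j))ˣ : ℝ) * e ≤ ∑ k, Q χ k := by
    intro χ hχ
    obtain ⟨hχB, hχd⟩ := Finset.mem_filter.1 hχ
    refine quadForm_sum_ge E m (y χ) (fun i _ => ?_) ?_ hm
    · by_cases hz : ∃ k₀, y χ i k₀ = 0
      · obtain ⟨k₀, hk₀⟩ := hz
        exact Or.inl (sum_roots_eq_zero bF _ cv hcvn k₀ hk₀)
      · push Not at hz
        exact Or.inr (card_units_le_sum_norm_sq_roots bF _ cv hcvn hz)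
    · by_contra hall
      push Not at hall
      refine hχd ?_
      have h1 : (1 : H) ∈ R := Finset.mem_filter.2 ⟨Finset.mem_univ _, by
        rw [orderOf_one]; exact hp.not_dvd_one⟩
      have h0 := hvalue χ hχB 1 1 (Finset.mem_filter.1 h1).2
      rw [Finset.sum_eq_zero fun i hi => by rw [hall i hi 1, zero_mul]] at h0
      rw [OneMemClass.coe_one, mul_one] at h0
      obtain ⟨hka, -⟩ := hxk 1
      have h2 := small_apply_mul_sub hM (isCharacter_of_irr χ.2) (Commute.one_right _) hka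
        (by rw [orderOf_one]; exact hp.not_dvd_one)
      rw [mul_one, h0, zero_sub, irr_apply_one_eq_deg] at h2
      refine (small_natCast_iff hM _).1 ?_
      have := h2.neg
      rw [neg_neg] at this
      simpa [charDegree, irr_apply_one_eq_deg] using this
  have hcount : (S.card : ℝ) * ((Fintype.card (ZMod (p ^ j))ˣ : ℝ) * e) ≤
      D * (p : ℝ) ^ j * ((Fintype.card (ZMod (p ^ j))ˣ : ℝ) * e) := by
    refine le_trans ?_ (hupper.trans (le_of_eq (by ring)))
    rw [← nsmul_eq_mul, ← Finset.sum_const]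
    exact (Finset.sum_le_sum hlower).trans (Finset.sum_le_sum_of_subset_of_nonneg
      (Finset.filter_subset _ _) fun χ hχ _ => hnonneg χ hχ)
  have hepos : 0 < e := by
    obtain ⟨η, hη⟩ := hspan (principal K) (mem_blockOf_self (G := K) hM (principal K))
    refine Finset.card_pos.2 (Finset.nonempty_iff_ne_empty.2 fun h => ?_)
    have := hη 1 (by rw [orderOf_one]; exact hp.not_dvd_one)
    rw [h, Finset.sum_empty] at this
    exact one_ne_zero this
  have hfin : (S.card : ℝ) ≤ D * (p : ℝ) ^ j :=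
    le_of_mul_le_mul_right hcount (mul_pos (Nat.cast_pos.2 Fintype.card_pos) (Nat.cast_pos.2 hepos))
  have hfinN : S.card ≤ (1 + m * e) * p ^ j := by
    rw [hDdef] at hfin; exact_mod_cast hfin
  rw [Nat.card_eq_fintype_card, Fintype.card_subtype]
  refine le_of_eq_of_le (congrArg Finset.card (Finset.ext fun χ => ?_)) ?_ (b := S.card)
  · simp [hS, hB]
  refine hfinN.trans ((Nat.mul_le_mul_right _ hD).trans ?_)
  rw [← pow_add]
  exact Nat.pow_le_pow_right hp.pos (by omega)

end Cfsg.Lib.Blocks
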