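import Mathlib
import Cfsg.Agent.Blocks.KleinColumns

/-!
# The perfect isometry of a 2-block with Klein four defect group and its Brauer correspondent
-/

set_option autoImplicit false
set_option linter.unusedSectionVars false
set_option linter.style.haveILetI false

namespace Cfsg.Lib.Blocks

open Cfsg Cfsg.Lib.Chars
open scoped ComplexConjugate

universe u v

local notation "C⟨" P "⟩" => Subgroup.centralizer (SetLike.coe P)

variable {G : Type u} [Group G] [Fintype G] {H : Type v} [Group H] [Fintype H] {M : Ideal AlgInt}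

/-- Half of the perfectness of a signed bijection of four-element blocks. -/
lemma kernel_half (hM : IsPModular 2 M) {B : Set (IrrCharacter G)} [DecidablePred (· ∈ B)]
    {C : Set (IrrCharacter H)} [DecidablePred (· ∈ C)]
    (hsB : ∀ g : G, ¬ IsPRegular 2 g → ∀ Z : IrrCharacter G → ℂ,
      ((∀ v, IsKleinColumn B v → ∑ χ ∈ Finset.univ.filter (· ∈ B), (v χ : ℂ) * Z χ = 0) →
        ∑ χ ∈ Finset.univ.filter (· ∈ B), (χ : G → ℂ) g * Z χ = 0) ∧
      ((∀ v, IsKleinColumn B v →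
          (∑ χ ∈ Finset.univ.filter (· ∈ B), (v χ : ℂ) * Z χ) / 4 ∈ place M) →
        (∑ χ ∈ Finset.univ.filter (· ∈ B), (χ : G → ℂ) g * Z χ) / 4 ∈ place M ∧
        (∑ χ ∈ Finset.univ.filter (· ∈ B), (χ : G → ℂ) g * Z χ) /
          (Nat.card (Subgroup.centralizer ({g} : Set G)) : ℂ) ∈ place M))
    (hsC : ∀ g : H, ¬ IsPRegular 2 g → ∀ Z : IrrCharacter H → ℂ,
      ((∀ v, IsKleinColumn C v → ∑ η ∈ Finset.univ.filter (· ∈ C), (v η : ℂ) * Z η = 0) →
        ∑ η ∈ Finset.univ.filter (· ∈ C), (η : H → ℂ) g * Z η = 0) ∧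
      ((∀ v, IsKleinColumn C v →
          (∑ η ∈ Finset.univ.filter (· ∈ C), (v η : ℂ) * Z η) / 4 ∈ place M) →
        (∑ η ∈ Finset.univ.filter (· ∈ C), (η : H → ℂ) g * Z η) / 4 ∈ place M ∧
        (∑ η ∈ Finset.univ.filter (· ∈ C), (η : H → ℂ) g * Z η) /
          (Nat.card (Subgroup.centralizer ({g} : Set H)) : ℂ) ∈ place M))
    (I : IrrCharacter H → IrrCharacter G) (J : IrrCharacter G → IrrCharacter H)
    (hI : ∀ η ∈ C, I η ∈ B ∧ J (I η) = η) (hJ : ∀ χ ∈ B, J χ ∈ C ∧ I (J χ) = χ)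
    (ε : IrrCharacter H → ℤ)
    (h1 : ∀ v, IsKleinColumn B v → ∀ y : H, IsPRegular 2 y →
      ∑ η ∈ Finset.univ.filter (· ∈ C), (v (I η) : ℂ) * (ε η : ℂ) * (η : H → ℂ) y = 0)
    (h1' : ∀ w, IsKleinColumn C w → ∀ x : G, IsPRegular 2 x →
      ∑ η ∈ Finset.univ.filter (· ∈ C), (w η : ℂ) * (ε η : ℂ) * (I η : G → ℂ) x = 0)
    (h2 : ∀ v w, IsKleinColumn B v → IsKleinColumn C w →
      (4 : ℤ) ∣ ∑ η ∈ Finset.univ.filter (· ∈ C), v (I η) * ε η * w η)
    (x : G) (y : H) :
    (∑ η ∈ Finset.univ.filter (· ∈ C), (ε η : ℂ) * (I η : G → ℂ) x * (η : H → ℂ) y) /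
        (Nat.card (Subgroup.centralizer ({x} : Set G)) : ℂ) ∈ place M ∧
    ((IsPRegular 2 x ↔ IsPRegular 2 y) ∨
      ∑ η ∈ Finset.univ.filter (· ∈ C), (ε η : ℂ) * (I η : G → ℂ) x * (η : H → ℂ) y = 0) := by
  classical
  have hsum : ∀ F : IrrCharacter G → IrrCharacter H → ℂ,
      ∑ χ ∈ Finset.univ.filter (· ∈ B), F χ (J χ) = ∑ η ∈ Finset.univ.filter (· ∈ C), F (I η) η := by
    intro F
    refine Finset.sum_nbij' J I (fun χ hχ => ?_) (fun η hη => ?_) (fun χ hχ => ?_)
      (fun η hη => ?_) fun χ hχ => ?_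
    · exact Finset.mem_filter.2 ⟨Finset.mem_univ _, (hJ χ (Finset.mem_filter.1 hχ).2).1⟩
    · exact Finset.mem_filter.2 ⟨Finset.mem_univ _, (hI η (Finset.mem_filter.1 hη).2).1⟩
    · exact (hJ χ (Finset.mem_filter.1 hχ).2).2
    · exact (hI η (Finset.mem_filter.1 hη).2).2
    · rw [(hJ χ (Finset.mem_filter.1 hχ).2).2]
  set μ : G → H → ℂ := fun x y =>
    ∑ η ∈ Finset.univ.filter (· ∈ C), (ε η : ℂ) * (I η : G → ℂ) x * (η : H → ℂ) y with hμ
  have hZ : ∀ x y, μ x y = ∑ χ ∈ Finset.univ.filter (· ∈ B),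
      (χ : G → ℂ) x * ((ε (J χ) : ℂ) * (J χ : H → ℂ) y) := fun x y => by
    rw [hsum fun χ η => (χ : G → ℂ) x * ((ε η : ℂ) * (η : H → ℂ) y)]
    exact Finset.sum_congr rfl fun η _ => by ring
  have hW : ∀ x y, μ x y = ∑ η ∈ Finset.univ.filter (· ∈ C),
      (η : H → ℂ) y * ((ε η : ℂ) * (I η : G → ℂ) x) := fun x y =>
    Finset.sum_congr rfl fun η _ => by ring
  have hvanB : ∀ x y, ¬ IsPRegular 2 x → IsPRegular 2 y → μ x y = 0 := fun x y hx hy => by
    rw [hZ]
    refine (hsB x hx _).1 fun v hv => ?_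
    rw [hsum fun χ η => (v χ : ℂ) * ((ε η : ℂ) * (η : H → ℂ) y), ← h1 v hv y hy]
    exact Finset.sum_congr rfl fun η _ => by ring
  have hvanC : ∀ x y, IsPRegular 2 x → ¬ IsPRegular 2 y → μ x y = 0 := fun x y hx hy => by
    rw [hW]
    refine (hsC y hy _).1 fun w hw => ?_
    rw [← h1' w hw x hx]
    exact Finset.sum_congr rfl fun η _ => by ring
  show μ x y / _ ∈ place M ∧ (_ ∨ μ x y = 0)
  by_cases hy : IsPRegular 2 y
  · refine ⟨?_, ?_⟩
    · rw [hZ, Finset.sum_congr rfl (g := fun χ : IrrCharacter G =>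
        ((ε (J χ) : ℂ) * (J χ : H → ℂ) y) * (χ : G → ℂ) x) fun χ _ => mul_comm _ _]
      refine div_mem_of_vanish hM _ _ (fun χ _ => mul_mem (intCast_mem_place _)
        (isIntegral_mem_place hM (IsCharacter.isIntegral (isCharacter_of_irr (J χ).2) _)))
        (fun g hg => ?_) x
      rw [← hvanB g y (fun h => h hg) hy, hZ]
      exact Finset.sum_congr rfl fun χ _ => mul_comm _ _
    · by_cases hx : IsPRegular 2 x
      · exact Or.inl ⟨fun _ => hy, fun _ => hx⟩
      · exact Or.inr (hvanB x y hx hy)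
  · by_cases hx : IsPRegular 2 x
    · rw [hvanC x y hx hy, zero_div]
      exact ⟨zero_mem _, Or.inr rfl⟩
    · refine ⟨?_, Or.inl ⟨fun h => absurd h hx, fun h => absurd h hy⟩⟩
      rw [hZ]
      refine ((hsB x hx _).2 fun v hv => ?_).2
      rw [hsum fun χ η => (v χ : ℂ) * ((ε η : ℂ) * (η : H → ℂ) y),
        Finset.sum_congr rfl (g := fun η : IrrCharacter H =>
          (η : H → ℂ) y * ((v (I η) : ℂ) * (ε η : ℂ))) fun η _ => by ring]
      refine ((hsC y hy _).2 fun w hw => ?_).1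
      obtain ⟨m, hm⟩ := h2 v w hv hw
      rw [show ∑ η ∈ Finset.univ.filter (· ∈ C), (w η : ℂ) * ((v (I η) : ℂ) * (ε η : ℂ)) =
        ((∑ η ∈ Finset.univ.filter (· ∈ C), v (I η) * ε η * w η : ℤ) : ℂ) by
          push_cast
          exact Finset.sum_congr rfl fun η _ => by ring, hm]
      push_cast
      rw [mul_div_cancel_left₀ _ (by norm_num : (4 : ℂ) ≠ 0)]
      exact intCast_mem_place _

/-- The sign vectors of one block. -/
theorem klein_column_data {B : Set (IrrCharacter G)} [DecidablePred (· ∈ B)] {P T : Subgroup G}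
    {c : Set (IrrCharacter C⟨P⟩)} (hM : IsPModular 2 M) (hD : IsDefectGroup 2 M B P)
    (hV : IsKleinFour P) (hc : IsBrauerPairOf 2 M B P c) (hT : IsPairStab P c T) :
    ∃ d : IrrCharacter G → ℤ, (∀ χ ∈ B, d χ = 1 ∨ d χ = -1) ∧
      (blockRank 2 B = 1 → (∀ χ ∈ B, d χ = 1) ∧
        (∀ r : G, IsPRegular 2 r → ∀ χ ∈ B, ∀ ψ ∈ B, (χ : G → ℂ) r = (ψ : G → ℂ) r) ∧
        ∀ v, IsKleinColumn B v → ∑ χ ∈ Finset.univ.filter (· ∈ B), v χ = 0) ∧
      (blockRank 2 B = 3 → IsKleinColumn B d ∧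
        ∀ v, IsKleinColumn B v → ∃ s : ℤ, (s = 1 ∨ s = -1) ∧ ∀ χ ∈ B, v χ = s * d χ) := by
  classical
  haveI := Fact.mk hM.1
  have hB : IsPBlock M B := hc.2.1
  obtain ⟨-, -, -, -, hk⟩ := klein_card hM hD hV hc hT
  set S := Finset.univ.filter (· ∈ B) with hS
  have hScard : S.card = 4 := by
    rw [hS, ← Fintype.card_subtype, ← Nat.card_eq_fintype_card]; exact hk
  by_cases h1 : blockRank 2 B = 1
  · refine ⟨fun _ => 1, fun _ _ => Or.inl rfl, fun _ => ⟨fun _ _ => rfl, ?_⟩,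
      fun h3 => by omega⟩
    obtain ⟨φ, d, -, hval, hsum⟩ := exists_of_blockRank_one hM hB h1
    have hdef : blockDefect 2 B = 2 := by
      have h := IsDefectGroup.card hM hB hD
      rw [hV.card_four] at h
      exact (Nat.pow_right_injective le_rfl (show 2 ^ 2 = 2 ^ blockDefect 2 B by rw [← h])).symm
    rw [finsum_mem_eq_sum_of_inter_support_eq _ (t := S) (by simp [hS]), hdef] at hsum
    have hd : ∀ χ ∈ S, 1 ≤ d χ ^ 2 := fun χ hχ => by
      refine Nat.one_le_pow _ _ (Nat.pos_of_ne_zero fun h => ?_)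
      refine IsIrrCharacter.apply_one_ne_zero χ.2 ?_
      rw [hval χ (Finset.mem_filter.1 hχ).2 1 (by unfold IsPRegular; simp), h, Nat.cast_zero,
        zero_mul]
    have hd1 : ∀ χ ∈ S, d χ = 1 := fun χ hχ => by
      have h' := Finset.sum_le_sum (s := S.erase χ) fun m hm => hd m (Finset.mem_of_mem_erase hm)
      rw [Finset.sum_const, Finset.card_erase_of_mem hχ, hScard] at h'
      rw [← Finset.add_sum_erase S _ hχ] at hsum
      simp at h' hsum
      have h2 : d χ ^ 2 = 1 := by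
        have := hd χ hχ
        omega
      exact (pow_eq_one_iff.1 h2).resolve_right two_ne_zero
    have heq : ∀ r : G, IsPRegular 2 r → ∀ χ ∈ B, (χ : G → ℂ) r = φ r := fun r hr χ hχ => by
      rw [hval χ hχ r hr, hd1 χ (Finset.mem_filter.2 ⟨Finset.mem_univ _, hχ⟩), Nat.cast_one, one_mul]
    refine ⟨fun r hr χ hχ ψ hψ => by rw [heq r hr χ hχ, heq r hr ψ hψ], fun v hv => ?_⟩
    have hreg1 : IsPRegular 2 (1 : G) := by unfold IsPRegular; simp
    have h := ((isKleinColumn_iff B v).1 hv).2 1 hreg1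
    rw [Finset.sum_congr rfl fun χ hχ => by rw [heq 1 hreg1 χ (Finset.mem_filter.1 hχ).2],
      ← Finset.sum_mul, mul_eq_zero] at h
    obtain ⟨χ, hχ⟩ := IsPBlock.nonempty hM hB
    have hne : φ 1 ≠ 0 := by
      rw [← heq 1 hreg1 χ hχ]; exact IsIrrCharacter.apply_one_ne_zero χ.2
    exact_mod_cast h.resolve_right hne
  · obtain ⟨d, hd⟩ := exists_kleinColumn hM hD hV hc hT
    have hd' := (isKleinColumn_iff B d).1 hd
    refine ⟨d, hd'.1, fun h => absurd h h1, fun h3 => ⟨hd, fun v hv => ?_⟩⟩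
    -- the relations between the regular columns form a line
    let f : B → G → ℂ := fun χ => pRegularPart 2 ((χ : IrrCharacter G) : G → ℂ)
    let L := Fintype.linearCombination ℂ f
    have hrange : Module.finrank ℂ (LinearMap.range L) = 3 := by
      rw [Fintype.range_linearCombination, ← h3, blockRank, Set.image_eq_range]
    have hker : Module.finrank ℂ (LinearMap.ker L) = 1 := by
      have h := L.finrank_range_add_finrank_ker
      rw [hrange, Module.finrank_fintype_fun_eq_card, ← Nat.card_eq_fintype_card, hk] at h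
      omega
    have hmem : ∀ w, IsKleinColumn B w → (fun χ : B => (w χ : ℂ)) ∈ LinearMap.ker L := by
      intro w hw
      rw [LinearMap.mem_ker]
      funext g
      simp only [L, Fintype.linearCombination_apply, Finset.sum_apply, Pi.smul_apply, smul_eq_mul,
        f, Pi.zero_apply]
      by_cases hg : 2 ∣ orderOf g
      · exact Finset.sum_eq_zero fun χ _ => by rw [pRegularPart_apply, if_pos hg, mul_zero]
      · have e := ((isKleinColumn_iff B w).1 hw).2 g hg
        rw [Finset.sum_subtype (Finset.univ.filter (· ∈ B)) (p := fun χ => χ ∈ B)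
          (fun χ => by simp)] at e
        rw [← e]
        exact Finset.sum_congr rfl fun χ _ => by rw [pRegularPart_apply, if_neg hg]
    obtain ⟨χ₀, hχ₀⟩ := IsPBlock.nonempty hM hB
    have hne : (⟨_, hmem d hd⟩ : LinearMap.ker L) ≠ 0 := fun h => by
      have h0 := congrFun (congrArg Subtype.val h) ⟨χ₀, hχ₀⟩
      rcases hd'.1 χ₀ hχ₀ with e | e <;> simp [e] at h0
    obtain ⟨t, ht⟩ := exists_smul_eq_of_finrank_eq_one hker hne ⟨_, hmem v hv⟩
    have hval : ∀ χ : B, t * (d χ : ℂ) = (v χ : ℂ) := fun χ => by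
      have := congrFun (congrArg Subtype.val ht) χ
      simpa using this
    have hv' := ((isKleinColumn_iff B v).1 hv).1
    refine ⟨v χ₀ * d χ₀, ?_, fun χ hχ => ?_⟩
    · rcases hv' χ₀ hχ₀ with e | e <;> rcases hd'.1 χ₀ hχ₀ with e' | e' <;> simp [e, e']
    · apply Int.cast_injective (α := ℂ)
      push_cast
      rw [← hval ⟨χ, hχ⟩, ← hval ⟨χ₀, hχ₀⟩]
      rcases hd'.1 χ₀ hχ₀ with e' | e' <;> simp [e']

/-- Two zero-sum sign vectors on four points have product sum divisible by four. -/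
lemma four_dvd_sum_mul {α : Type*} (S : Finset α) (hS : S.card = 4) (a b : α → ℤ)
    (ha : ∀ i ∈ S, a i = 1 ∨ a i = -1) (hb : ∀ i ∈ S, b i = 1 ∨ b i = -1)
    (ha0 : ∑ i ∈ S, a i = 0) (hb0 : ∑ i ∈ S, b i = 0) : (4 : ℤ) ∣ ∑ i ∈ S, a i * b i := by
  have h : ∑ i ∈ S, a i * b i = ∑ i ∈ S, (1 - a i) * (1 - b i) - 4 := by
    simp only [sub_mul, mul_sub, one_mul, mul_one, Finset.sum_sub_distrib, ha0, hb0,
      Finset.sum_const, hS]
    ring
  rw [h]
  refine dvd_sub (Finset.dvd_sum fun i hi => ?_) dvd_rfl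
  rcases ha i hi with e | e <;> rcases hb i hi with e' | e' <;> norm_num [e, e']

/-- Two blocks with Klein four defect groups and the same regular rank are perfectly isometric. -/
theorem klein_isometry {B : Set (IrrCharacter G)} {P T : Subgroup G}
    {e : Set (IrrCharacter C⟨P⟩)} {C : Set (IrrCharacter H)} {Q U : Subgroup H}
    {f : Set (IrrCharacter C⟨Q⟩)} (hM : IsPModular 2 M)
    (hD : IsDefectGroup 2 M B P) (hV : IsKleinFour P) (he : IsBrauerPairOf 2 M B P e)
    (hT : IsPairStab P e T) (hD' : IsDefectGroup 2 M C Q) (hV' : IsKleinFour Q)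
    (hf : IsBrauerPairOf 2 M C Q f) (hU : IsPairStab Q f U)
    (hl : blockRank 2 B = blockRank 2 C) :
    ∃ (I : IrrCharacter H → IrrCharacter G) (ε : IrrCharacter H → ℤ),
      IsPerfectIsometry 2 M C B I ε := by
  classical
  haveI := Fact.mk hM.1
  have hB : IsPBlock M B := he.2.1
  obtain ⟨he13, hkB, hlB⟩ := klein_block hM hD hV he hT
  obtain ⟨-, hkC, -⟩ := klein_block hM hD' hV' hf hU
  obtain ⟨dB, hdB, hB1, hB3⟩ := klein_column_data hM hD hV he hT
  obtain ⟨dC, hdC, hC1, hC3⟩ := klein_column_data hM hD' hV' hf hU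
  let E : C ≃ B := Fintype.equivOfCardEq (by
    rw [← Nat.card_eq_fintype_card, ← Nat.card_eq_fintype_card, hkB, hkC])
  obtain ⟨χ₀, hχ₀⟩ := IsPBlock.nonempty hM hB
  obtain ⟨η₀, hη₀⟩ := IsPBlock.nonempty hM hf.2.1
  let I : IrrCharacter H → IrrCharacter G := fun η => if h : η ∈ C then E ⟨η, h⟩ else χ₀
  let J : IrrCharacter G → IrrCharacter H := fun χ => if h : χ ∈ B then E.symm ⟨χ, h⟩ else η₀
  have hI : ∀ η ∈ C, I η ∈ B ∧ J (I η) = η := fun η hη => by
    have e1 : I η = E ⟨η, hη⟩ := dif_pos hη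
    refine ⟨e1 ▸ (E ⟨η, hη⟩).2, ?_⟩
    rw [e1]
    show J _ = η
    simp only [J, dif_pos (E ⟨η, hη⟩).2, Subtype.coe_eta, Equiv.symm_apply_apply]
  have hJ : ∀ χ ∈ B, J χ ∈ C ∧ I (J χ) = χ := fun χ hχ => by
    have e1 : J χ = E.symm ⟨χ, hχ⟩ := dif_pos hχ
    refine ⟨e1 ▸ (E.symm ⟨χ, hχ⟩).2, ?_⟩
    rw [e1]
    show I _ = χ
    simp only [I, dif_pos (E.symm ⟨χ, hχ⟩).2, Subtype.coe_eta, Equiv.apply_symm_apply]
  let ε : IrrCharacter H → ℤ := fun η => dB (I η) * dC η
  set SB := Finset.univ.filter (· ∈ B) with hSB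
  set SC := Finset.univ.filter (· ∈ C) with hSC
  have hsum : ∀ {R : Type} [AddCommMonoid R] (F : IrrCharacter G → R),
      ∑ η ∈ SC, F (I η) = ∑ χ ∈ SB, F χ := by
    intro R _ F
    refine Finset.sum_nbij' I J (fun η hη => ?_) (fun χ hχ => ?_) (fun η hη => ?_) (fun χ hχ => ?_)
      fun _ _ => rfl
    · exact Finset.mem_filter.2 ⟨Finset.mem_univ _, (hI η (Finset.mem_filter.1 hη).2).1⟩
    · exact Finset.mem_filter.2 ⟨Finset.mem_univ _, (hJ χ (Finset.mem_filter.1 hχ).2).1⟩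
    · exact (hI η (Finset.mem_filter.1 hη).2).2
    · exact (hJ χ (Finset.mem_filter.1 hχ).2).2
  have hsqB : ∀ χ ∈ B, dB χ * dB χ = 1 := fun χ hχ => by
    rcases hdB χ hχ with h | h <;> rw [h] <;> norm_num
  have hsqC : ∀ η ∈ C, dC η * dC η = 1 := fun η hη => by
    rcases hdC η hη with h | h <;> rw [h] <;> norm_num
  have hmem : ∀ {η}, η ∈ SC → η ∈ C := fun h => (Finset.mem_filter.1 h).2
  have hl13 : blockRank 2 B = 1 ∨ blockRank 2 B = 3 := by rwa [hlB]
  have h1 : ∀ v, IsKleinColumn B v → ∀ y : H, IsPRegular 2 y →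
      ∑ η ∈ SC, (v (I η) : ℂ) * (ε η : ℂ) * (η : H → ℂ) y = 0 := by
    intro v hv y hy
    rcases hl13 with h | h
    · obtain ⟨hd1, -, hsum0⟩ := hB1 h
      obtain ⟨hc1, hconst, -⟩ := hC1 (hl ▸ h)
      rw [Finset.sum_congr rfl (g := fun η : IrrCharacter H => (v (I η) : ℂ) * (η₀ : H → ℂ) y)
        fun η hη => by
          rw [hconst y hy η (hmem hη) η₀ hη₀,
            show ε η = 1 by simp [ε, hd1 _ (hI η (hmem hη)).1, hc1 η (hmem hη)]]
          simp,
        hsum (fun χ => (v χ : ℂ) * (η₀ : H → ℂ) y), ← Finset.sum_mul, ← Int.cast_sum, hsum0 v hv,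
        Int.cast_zero, zero_mul]
    · obtain ⟨-, hline⟩ := hB3 h
      obtain ⟨hdcol, -⟩ := hC3 (hl ▸ h)
      obtain ⟨s, -, hs⟩ := hline v hv
      rw [Finset.sum_congr rfl (g := fun η : IrrCharacter H =>
        (s : ℂ) * ((dC η : ℂ) * (η : H → ℂ) y)) fun η hη => by
          have := hsqB _ (hI η (hmem hη)).1
          rw [hs _ (hI η (hmem hη)).1, show ε η = dB (I η) * dC η from rfl, ← Int.cast_mul,
            show s * dB (I η) * (dB (I η) * dC η) = s * (dB (I η) * dB (I η)) * dC η by ring, this]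
          push_cast; ring,
        ← Finset.mul_sum, ((isKleinColumn_iff C dC).1 hdcol).2 y hy, mul_zero]
  have h1' : ∀ w, IsKleinColumn C w → ∀ x : G, IsPRegular 2 x →
      ∑ η ∈ SC, (w η : ℂ) * (ε η : ℂ) * (I η : G → ℂ) x = 0 := by
    intro w hw x hx
    rcases hl13 with h | h
    · obtain ⟨hd1, hconst, -⟩ := hB1 h
      obtain ⟨hc1, -, hsum0⟩ := hC1 (hl ▸ h)
      rw [Finset.sum_congr rfl (g := fun η : IrrCharacter H => (w η : ℂ) * (χ₀ : G → ℂ) x)
        fun η hη => by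
          rw [hconst x hx _ (hI η (hmem hη)).1 χ₀ hχ₀,
            show ε η = 1 by simp [ε, hd1 _ (hI η (hmem hη)).1, hc1 η (hmem hη)]]
          simp,
        ← Finset.sum_mul, ← Int.cast_sum, hsum0 w hw, Int.cast_zero, zero_mul]
    · obtain ⟨hdcol, -⟩ := hB3 h
      obtain ⟨-, hline⟩ := hC3 (hl ▸ h)
      obtain ⟨s, -, hs⟩ := hline w hw
      rw [Finset.sum_congr rfl (g := fun η : IrrCharacter H =>
        (s : ℂ) * ((dB (I η) : ℂ) * (I η : G → ℂ) x)) fun η hη => by
          have := hsqC η (hmem hη)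
          rw [hs _ (hmem hη), show ε η = dB (I η) * dC η from rfl, ← Int.cast_mul,
            show s * dC η * (dB (I η) * dC η) = s * (dC η * dC η) * dB (I η) by ring, this]
          push_cast; ring,
        ← Finset.mul_sum, hsum (fun χ => (dB χ : ℂ) * (χ : G → ℂ) x),
        ((isKleinColumn_iff B dB).1 hdcol).2 x hx, mul_zero]
  have hcardC : SC.card = 4 := by
    rw [hSC, ← Fintype.card_subtype, ← Nat.card_eq_fintype_card]; exact hkC
  have h2 : ∀ v w, IsKleinColumn B v → IsKleinColumn C w →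
      (4 : ℤ) ∣ ∑ η ∈ SC, v (I η) * ε η * w η := by
    intro v w hv hw
    rcases hl13 with h | h
    · obtain ⟨hd1, -, hsum0⟩ := hB1 h
      obtain ⟨hc1, -, hsum0'⟩ := hC1 (hl ▸ h)
      rw [Finset.sum_congr rfl (g := fun η : IrrCharacter H => v (I η) * w η) fun η hη => by
        simp [ε, hd1 _ (hI η (hmem hη)).1, hc1 η (hmem hη)]]
      refine four_dvd_sum_mul SC hcardC _ _ (fun η hη => ?_) (fun η hη => ?_) ?_ (hsum0' w hw)
      · exact ((isKleinColumn_iff B v).1 hv).1 _ (hI η (hmem hη)).1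
      · exact ((isKleinColumn_iff C w).1 hw).1 _ (hmem hη)
      · rw [hsum v, hsum0 v hv]
    · obtain ⟨s, -, hs⟩ := (hB3 h).2 v hv
      obtain ⟨s', -, hs'⟩ := (hC3 (hl ▸ h)).2 w hw
      rw [Finset.sum_congr rfl (g := fun _ => s * s') fun η hη => by
        rw [hs _ (hI η (hmem hη)).1, hs' η (hmem hη), show ε η = dB (I η) * dC η from rfl,
          show s * dB (I η) * (dB (I η) * dC η) * (s' * dC η) =
            s * s' * (dB (I η) * dB (I η)) * (dC η * dC η) by ring, hsqB _ (hI η (hmem hη)).1,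
          hsqC η (hmem hη), mul_one, mul_one], Finset.sum_const, hcardC, nsmul_eq_mul]
      exact dvd_mul_right _ _
  have hhalf := kernel_half hM (fun g hg => klein_singular hM hD hV he hT hg)
    (fun g hg => klein_singular hM hD' hV' hf hU hg) I J hI hJ ε h1 h1' h2
  -- the reversed bijection
  have hsumJ : ∀ F : IrrCharacter G → IrrCharacter H → ℂ,
      ∑ χ ∈ SB, F χ (J χ) = ∑ η ∈ SC, F (I η) η := fun F => by
    rw [← hsum (fun χ => F χ (J χ))]
    exact Finset.sum_congr rfl fun η hη => by rw [(hI η (hmem hη)).2]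
  have hhalf' := kernel_half hM (fun g hg => klein_singular hM hD' hV' hf hU hg)
    (fun g hg => klein_singular hM hD hV he hT hg) J I hJ hI (fun χ => ε (J χ))
    (fun w hw x hx => by
      rw [hsumJ fun χ η => (w η : ℂ) * (ε η : ℂ) * (χ : G → ℂ) x]; exact h1' w hw x hx)
    (fun v hv y hy => by
      rw [hsumJ fun χ η => (v χ : ℂ) * (ε η : ℂ) * (η : H → ℂ) y]; exact h1 v hv y hy)
    (fun w v hw hv => by
      have := h2 v w hv hw
      rw [show ∑ χ ∈ SB, w (J χ) * ε (J χ) * v χ = ∑ η ∈ SC, v (I η) * ε η * w η from ?_]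
      · exact this
      · rw [← hsum (fun χ => w (J χ) * ε (J χ) * v χ)]
        exact Finset.sum_congr rfl fun η hη => by rw [(hI η (hmem hη)).2]; ring)
  refine ⟨I, ε, ⟨fun η hη => (hI η hη).1, fun a ha b hb hab => ?_, fun χ hχ =>
    ⟨J χ, (hJ χ hχ).1, (hJ χ hχ).2⟩⟩, fun η hη => ?_, fun x y => ?_⟩
  · rw [← (hI a ha).2, hab, (hI b hb).2]
  · rcases hdB _ (hI η hη).1 with a | a <;> rcases hdC η hη with b | b <;> simp [ε, a, b]
  have hker : signedBijectionKernel C I ε x y =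
      ∑ η ∈ SC, (ε η : ℂ) * (I η : G → ℂ) x * (η : H → ℂ) y := by
    rw [signedBijectionKernel]
    exact finsum_mem_eq_sum_of_inter_support_eq _ (by simp [hSC])
  have halg : IsAlgebraic ℚ (signedBijectionKernel C I ε x y) := by
    rw [hker]
    exact isAlgebraic_of_isIntegral (IsIntegral.sum _ fun η _ => (IsIntegral.mul (IsIntegral.mul
      (map_intCast (algebraMap ℤ ℂ) (ε η) ▸ isIntegral_algebraMap)
      (IsCharacter.isIntegral (isCharacter_of_irr (I η).2) _))
      (IsCharacter.isIntegral (isCharacter_of_irr η.2) _)))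
  obtain ⟨p1, p3⟩ := hhalf x y
  have p2 := (hhalf' y x).1
  rw [← hSB, hsumJ fun χ η => (ε η : ℂ) * (η : H → ℂ) y * (χ : G → ℂ) x,
    Finset.sum_congr rfl (g := fun η : IrrCharacter H => (ε η : ℂ) * (I η : G → ℂ) x * (η : H → ℂ) y)
      fun η _ => by ring, ← hker] at p2
  rw [← hker] at p1 p3
  refine ⟨memLocalRing_of_mem_place hM ?_ p1, memLocalRing_of_mem_place hM ?_ p2, p3⟩
  all_goals exact halg.mul (isAlgebraic_natCast _).inv

/-- **A 2-block with Klein four defect group and its Brauer correspondent.** -/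
theorem klein_correspondent (hM : IsPModular 2 M) {B : Set (IrrCharacter G)} {P N : Subgroup G}
    [Fintype N] (hNeq : N = Subgroup.normalizer (P : Set G)) (hD : IsDefectGroup 2 M B P)
    (hV : IsKleinFour P) {c : Set (IrrCharacter N)}
    (hcD : IsDefectGroup 2 M c (P.subgroupOf N)) (hc : IsInducedBlock M N c B) :
    ∃ (I : IrrCharacter N → IrrCharacter G) (ε : IrrCharacter N → ℤ),
      IsPerfectIsometry 2 M c B I ε := by
  classical
  haveI := Fact.mk hM.1
  have hPN : P ≤ N := hNeq ▸ Subgroup.le_normalizer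
  have hCN : C⟨P⟩ ≤ N := hNeq ▸ Subgroup.centralizer_le_normalizer _
  have hPp : IsPGroup 2 P := IsDefectGroup.isPGroup hD
  obtain ⟨e', hmax⟩ := exists_pair_of_defect (G := N) hM hc.1 hcD
  obtain ⟨e, he, rfl⟩ := exists_downSet hM hPN hCN hmax.1.1.2
  have hce := (pair_down_iff hM hPN hCN hPp hc.1 he).1 hmax.1
  have hpair : IsBrauerPairOf 2 M B P e :=
    pair_of_isInducedBlock hM hPN hCN hc.1 ⟨hPp, he⟩ hce hc
  obtain ⟨T, hT⟩ : ∃ T : Subgroup G, IsPairStab P e T := ⟨_, (isPairStab_iff hM he).2 rfl⟩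
  have hTN : T ≤ N := fun t ht => hNeq ▸ ((hT t).1 ht).1
  have hV' : IsKleinFour (P.subgroupOf N) := by
    haveI := hV
    exact ⟨(Nat.card_congr (Subgroup.subgroupOfEquivOfLe hPN).toEquiv).trans hV.card_four,
      (Monoid.exponent_eq_of_mulEquiv (Subgroup.subgroupOfEquivOfLe hPN)).trans
        IsKleinFour.exponent_two⟩
  have hxN : ∀ x : N, x ∈ Subgroup.normalizer ((P.subgroupOf N : Subgroup N) : Set N) := by
    intro x
    have hx : (x : G) ∈ Subgroup.normalizer (P : Set G) := hNeq ▸ x.2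
    exact Subgroup.mem_normalizer_iff.2 fun a => (Subgroup.mem_normalizer_iff.1 hx) (a : G)
  have hU : IsPairStab (P.subgroupOf N) (downSet hPN e) (T.subgroupOf N) := by
    intro x
    have hx : (x : G) ∈ Subgroup.normalizer (P : Set G) := hNeq ▸ x.2
    rw [Subgroup.mem_subgroupOf, hT, and_iff_right hx, and_iff_right (hxN x),
      stabilizes_iff_of_normalizer hM he hx, stabilizes_iff_of_normalizer hM hmax.1.1.2 (hxN x),
      ← (emb_injective N).eq_iff, ← cj_emb, emb_bi_downSet hPN hCN]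
  have hCeq : Subgroup.centralizer ((P.subgroupOf N : Subgroup N) : Set N) =
      C⟨P⟩.subgroupOf N := by
    ext x
    rw [(isSubOf_centralizer N P hPN x), Subgroup.mem_subgroupOf, Subgroup.mem_inf,
      and_iff_left x.2]
  obtain ⟨-, -, hlB⟩ := klein_block hM hD hV hpair hT
  obtain ⟨-, -, hlC⟩ := klein_block hM hcD hV' hmax.1 hU
  refine klein_isometry hM hD hV hpair hT hcD hV' hmax.1 hU ?_
  rw [hlB, hlC, hCeq, Subgroup.relIndex_subgroupOf hTN]

end Cfsg.Lib.Blocks
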