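import Mathlib
import Cfsg.Agent.Blocks.Feit
import Cfsg.Agent.Blocks.Columns
import Cfsg.Agent.Blocks.PiSection
import Cfsg.Agent.Blocks.Third

/-!
# The principal block idempotent in terms of `p`-elements and regular elements
-/

set_option autoImplicit false
set_option linter.unusedSectionVars false

namespace Cfsg.Lib.Blocks

open Cfsg.Lib.Chars
open scoped ComplexConjugate

universe u

variable {G : Type u} [Group G] [Fintype G] {M : Ideal AlgInt} {p : ℕ}

/-- **Külshammer's formula.** -/
theorem small_blockCoeff_sub_ratio (hM : IsPModular p M) {g : G} (hg : ¬ p ∣ orderOf g) :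
    Small M (blockCoeff (principalBlock M G) g -
      (Nat.card {xy : G × G // (∃ k : ℕ, orderOf xy.1 = p ^ k) ∧ ¬ p ∣ orderOf xy.2 ∧
        xy.1 * xy.2 = g} : ℂ) / (Nat.card {y : G // ¬ p ∣ orderOf y} : ℂ)) := by
  classical
  have hp := hM.1
  haveI := Fact.mk hp
  obtain ⟨v, n, hn, hGn⟩ :=
    Nat.exists_eq_pow_mul_and_not_dvd (Nat.card_pos (α := G)).ne' p hp.ne_one
  have hn0 : (n : ℂ) ≠ 0 := Nat.cast_ne_zero.2 fun h => hn (by simp [h])
  have hcop : (p ^ v).Coprime n := ((hp.coprime_iff_not_dvd).2 hn).pow_left v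
  obtain ⟨t, ht0, ht1⟩ := Nat.chineseRemainder hcop 0 1
  set δ : G → ℂ := fun x => if x ^ t = 1 then 1 else 0 with hδ
  have hcl : IsClassFunction G δ := fun x h => by
    show (if (h * x * h⁻¹) ^ t = 1 then (1 : ℂ) else 0) = if x ^ t = 1 then 1 else 0
    refine if_congr ?_ rfl rfl
    rw [conj_pow, conj_eq_one_iff]
  have hreg : ∀ x : G, ¬ p ∣ orderOf x → x ^ t = x := fun x hx =>
    pow_eq_self_of_modEq_one (((hp.coprime_iff_not_dvd).2 hx).pow_left v |>.symm
      |>.dvd_of_dvd_mul_left (hGn ▸ orderOf_dvd_natCard x)) ht1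
  have hiff : ∀ x : G, x ^ t = 1 ↔ ∃ k : ℕ, orderOf x = p ^ k := by
    intro x
    constructor
    · intro h
      obtain ⟨a, b, hab, hc, ⟨k, hk⟩, hb⟩ := exists_isPPart' hp x
      refine ⟨k, ?_⟩
      have hat : a ^ t = 1 := pow_eq_one_of_modEq_zero
        (Nat.Coprime.dvd_of_dvd_mul_right ((hk ▸ ((hp.coprime_iff_not_dvd).2 hn).pow_left k))
          (hGn ▸ orderOf_dvd_natCard a)) ht0
      rw [← hab, hc.mul_pow, hat, one_mul, hreg b hb] at h
      rw [← hab, h, mul_one, hk]
    · rintro ⟨k, hk⟩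
      exact pow_eq_one_of_modEq_zero
        (Nat.Coprime.dvd_of_dvd_mul_right ((hk ▸ ((hp.coprime_iff_not_dvd).2 hn).pow_left k))
          (hGn ▸ orderOf_dvd_natCard x)) ht0
  set c : IrrCharacter G → ℂ := fun χ => classInner δ (χ : G → ℂ) with hc
  have hcmem : ∀ χ : IrrCharacter G, c χ ∈ place M := by
    intro χ
    have h := isIntegral_classInner_section hGn hcop ht0 ht1 (1 : G) (isCharacter_of_irr χ.2)
    have e : (fun x => if IsConj (x ^ t) (1 : G) then (n : ℂ) else 0) = (n : ℂ) • δ := funext fun x => by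
      simp only [hδ, Pi.smul_apply, smul_eq_mul, mul_ite, mul_one, mul_zero, isConj_one_left,
        isConj_one_right]
    rw [e, classInner_smul_left] at h
    have h' := mul_mem (isUnitAt_natCast hM hn).inv.mem_place (isIntegral_mem_place hM h)
    rwa [inv_mul_cancel_left₀ hn0] at h'
  set S : MonoidAlgebra ℂ G := regElem p (principal G) with hS
  have hSc : IsCentralFn S := isCentralFn_regElem _
  have hSfn : ∀ y : G, fn S y = if p ∣ orderOf y then 0 else 1 := fun y => by
    rw [hS, regElem, fn_ofFn, pRegularPart_apply,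
      show ((principal G : IrrCharacter G) : G → ℂ) y = 1 from rfl, map_one]
  set R : ℕ := Nat.card {y : G // ¬ p ∣ orderOf y} with hR
  have hR' : omega ((principal G : IrrCharacter G) : G → ℂ) S = (R : ℂ) := by
    rw [omega, chiEval, show ((principal G : IrrCharacter G) : G → ℂ) 1 = 1 from rfl, div_one, hR,
      Nat.card_eq_fintype_card, Fintype.card_subtype, Finset.natCast_card_filter]
    refine Finset.sum_congr rfl fun y _ => ?_
    rw [hSfn, show ((principal G : IrrCharacter G) : G → ℂ) y = 1 from rfl, mul_one]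
    split_ifs <;> simp_all
  have hB : IsPBlock M (principalBlock M G) := isPBlock_blockOf (principal G)
  have h1B : principal G ∈ principalBlock M G := mem_blockOf_self hM (principal G)
  have hRu : IsUnitAt M (R : ℂ) := hR' ▸ isUnitAt_omega_regElem hM hB h1B (blockHeight_one _) h1B
  -- the number of factorisations
  set N : ℕ := Nat.card {xy : G × G // (∃ k : ℕ, orderOf xy.1 = p ^ k) ∧ ¬ p ∣ orderOf xy.2 ∧
        xy.1 * xy.2 = g} with hN
  have hNval : (N : ℂ) = ∑ χ : IrrCharacter G, c χ * (omega (χ : G → ℂ) S * conj ((χ : G → ℂ) g)) := by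
    have e1 : (N : ℂ) = ∑ y : G, fn S y * δ (y * g⁻¹) := by
      rw [hN, Nat.card_eq_fintype_card, Fintype.card_subtype]
      have : ∀ y : G, fn S y * δ (y * g⁻¹) =
          if (¬ p ∣ orderOf y ∧ (g * y⁻¹) ^ t = 1) then (1 : ℂ) else 0 := fun y => by
        have hinv : (y * g⁻¹) ^ t = 1 ↔ (g * y⁻¹) ^ t = 1 := by
          rw [show y * g⁻¹ = (g * y⁻¹)⁻¹ by group, inv_pow, inv_eq_one]
        rw [hSfn, hδ]
        simp only [hinv]
        split_ifs <;> simp_all
      rw [Finset.sum_congr rfl fun y _ => this y, Finset.sum_boole, Nat.cast_inj]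
      refine Finset.card_bij' (fun xy _ => xy.2) (fun y _ => (g * y⁻¹, y)) ?_ ?_ ?_ ?_
      · rintro ⟨x, y⟩ h
        simp only [Finset.mem_filter, Finset.mem_univ, true_and] at h ⊢
        obtain ⟨hx, hy, rfl⟩ := h
        exact ⟨hy, (hiff _).2 (by rw [mul_inv_cancel_right]; exact hx)⟩
      · intro y h
        simp only [Finset.mem_filter, Finset.mem_univ, true_and] at h ⊢
        exact ⟨(hiff _).1 h.2, h.1, by group⟩
      · rintro ⟨x, y⟩ h
        simp only [Finset.mem_filter, Finset.mem_univ, true_and] at h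
        obtain ⟨-, -, rfl⟩ := h
        simp
      · intro y _; rfl
    rw [e1]
    have e2 : ∀ χ : IrrCharacter G, ∑ y : G, fn S y * (χ : G → ℂ) (y * g⁻¹) =
        omega (χ : G → ℂ) S * conj ((χ : G → ℂ) g) := fun χ => by
      rw [← IsCharacter.conj_inv (isCharacter_of_irr χ.2), ← one_mul ((χ : G → ℂ) g⁻¹),
        ← chiEval_single (χ : G → ℂ) g⁻¹ (1 : ℂ), ← chiEval_central_mul χ hSc]
      simp only [chiEval, fn_mul_single, mul_one]
      exact Fintype.sum_equiv (Equiv.mulRight g⁻¹) _ _ fun y => by simp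
    simp only [classFunction_expand_apply hcl, Finset.mul_sum]
    rw [Finset.sum_comm]
    refine Finset.sum_congr rfl fun χ _ => ?_
    rw [← e2 χ, Finset.mul_sum]
    exact Finset.sum_congr rfl fun y _ => by rw [hc]; ring
  have hoff : ∀ χ : IrrCharacter G, χ ∉ principalBlock M G → omega (χ : G → ℂ) S = 0 := fun χ hχ => by
    have h := omega_regElem_mul hp (principal G) χ
    rw [regInt_eq_zero hM hB h1B hχ, Int.cast_zero, mul_zero, mul_eq_zero] at h
    exact h.resolve_right (Nat.cast_ne_zero.2 (deg_irr_pos χ).ne')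
  have hcoeff : blockCoeff (principalBlock M G) g =
      ∑ χ ∈ Finset.univ.filter (· ∈ principalBlock M G), c χ * conj ((χ : G → ℂ) g) := by
    have hgi : ¬ p ∣ orderOf g⁻¹ := by rwa [orderOf_inv]
    rw [Finset.sum_congr rfl fun (χ : IrrCharacter G) _ => show c χ * conj ((χ : G → ℂ) g) =
      c χ * (χ : G → ℂ) g⁻¹ by rw [IsCharacter.conj_inv (isCharacter_of_irr χ.2)],
      ← blockPart_eq_sum, blockPart_eq_colKer, blockCoeff_eq_sum]
    congr 1
    rw [Finset.sum_eq_single (1 : G)]
    · rw [show δ 1 = 1 from if_pos (one_pow t), one_mul, colKer_eq]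
      exact Finset.sum_congr rfl fun χ _ => by
        rw [IsCharacter.conj_inv (isCharacter_of_irr χ.2), irr_apply_one_eq_deg, Complex.conj_natCast,
          mul_comm]
    · intro w _ hw
      by_cases hwt : w ^ t = 1
      · have hpw : p ∣ orderOf w := by
          by_contra h
          exact hw (by rw [← hreg w h, hwt])
        rw [colKer_eq, block_orthogonality_regular hM hB hgi hpw, mul_zero]
      · rw [show δ w = 0 from if_neg hwt, zero_mul]
    · exact fun h => absurd (Finset.mem_univ _) h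
  rw [← mul_div_cancel_right₀ (blockCoeff (principalBlock M G) g) hRu.ne_zero, ← sub_div,
    div_eq_mul_inv]
  refine Small.mul_mem ?_ hRu.inv.mem_place
  rw [hNval, hcoeff, Finset.sum_mul, Finset.sum_filter, ← Finset.sum_sub_distrib]
  refine small_sum _ _ fun χ _ => ?_
  by_cases hχ : χ ∈ principalBlock M G
  · rw [if_pos hχ, show c χ * conj ((χ : G → ℂ) g) * (R : ℂ) -
      c χ * (omega (χ : G → ℂ) S * conj ((χ : G → ℂ) g)) =
      ((R : ℂ) - omega (χ : G → ℂ) S) * (c χ * conj ((χ : G → ℂ) g)) by ring]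
    refine Small.mul_mem ?_ (mul_mem (hcmem χ) ?_)
    · have hi := integral_regElem hM (principal G)
      rw [← hR', ← res_eq_iff (omega_mem_place hM _ hSc hi) (omega_mem_place hM _ hSc hi)]
      exact res_omega_eq_of_sameBlock hM (IsPBlock.sameBlock hM hB h1B hχ) hSc hi
    · rw [← IsCharacter.conj_inv (isCharacter_of_irr χ.2)]
      exact isIntegral_mem_place hM (IsCharacter.isIntegral (isCharacter_of_irr χ.2) _)
  · rw [if_neg hχ, hoff χ hχ, zero_mul, mul_zero, sub_zero]
    exact small_zero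

end Cfsg.Lib.Blocks
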