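import Mathlib
import Cfsg.Agent.Blocks.Defect2
import Cfsg.Agent.Chars.Values
import Cfsg.Agent.Chars.Gallagher

/-!
# Height zero characters have linear constituents on the defect group
-/

set_option autoImplicit false
set_option linter.unusedSectionVars false

namespace Cfsg.Lib.Blocks

open Cfsg.Lib.Chars
open scoped ComplexConjugate

universe u

variable {G : Type u} [Group G] [Fintype G] {M : Ideal AlgInt} {p : ℕ}

/-- A height zero character has a linear constituent on each defect group. -/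
theorem exists_linear_constituent (hM : IsPModular p M) {B : Set (IrrCharacter G)}
    (hB : IsPBlock M B) {D : Subgroup G} [Fintype D] (hD : IsDefectGroup p M B D)
    {χ : IrrCharacter G} (hχ : χ ∈ B) (h0 : blockHeight p B (χ : G → ℂ) = 0) :
    ∃ ξ : IrrCharacter D, deg (ξ : D → ℂ) = 1 ∧
      classInner (fun d : D => (χ : G → ℂ) d) (ξ : D → ℂ) ≠ 0 := by
  classical
  haveI := Fact.mk hM.1
  haveI := charP_res hM
  have hDp := IsDefectGroup.isPGroup hD
  obtain ⟨g, hg, S, hDS⟩ := hD
  have hu := isUnitAt_apply_defectClass hM hB hg hχ h0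
  set C := Subgroup.centralizer ({g} : Set G) with hC
  letI := Fintype.ofFinite C
  have hDC : D ≤ C := hDS ▸ Subgroup.map_subtype_le _
  have hgC : g ∈ C := Subgroup.mem_centralizer_singleton_iff.2 rfl
  obtain ⟨m, hm⟩ := IsCharacter.exists_decomp (IsCharacter.restrict (isCharacter_of_irr χ.2) C)
  by_contra hno
  push Not at hno
  -- every constituent on the centraliser has degree divisible by `p`
  have key : ∀ ψ : IrrCharacter C, m ψ ≠ 0 → p ∣ deg (ψ : C → ℂ) := by
    intro ψ hψ
    obtain ⟨k, hk⟩ := IsCharacter.exists_decomp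
      (IsCharacter.comp_hom (isCharacter_of_irr ψ.2) (Subgroup.inclusion hDC))
    have hsum : deg (ψ : C → ℂ) = ∑ ξ : IrrCharacter D, k ξ * deg (ξ : D → ℂ) := by
      have e := congrFun hk 1
      simp only [Finset.sum_apply, Pi.smul_apply, Pi.mul_apply, Pi.natCast_apply, nsmul_eq_mul, irr_apply_one_eq_deg] at e
      rw [map_one, irr_apply_one_eq_deg] at e
      exact_mod_cast e
    rw [hsum]
    refine Finset.dvd_sum fun ξ _ => ?_
    rcases eq_or_ne (k ξ) 0 with hk0 | hk0
    · rw [hk0, zero_mul]; exact dvd_zero p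
    have hdvd : deg (ξ : D → ℂ) ∣ Nat.card D := IsIrrCharacter.deg_dvd ξ.2
    obtain ⟨a, ha⟩ := hDp.exists_card_eq
    rw [ha] at hdvd
    obtain ⟨j, -, hj⟩ := (Nat.dvd_prime_pow hM.1).1 hdvd
    rcases j with _ | j
    · exfalso
      rw [pow_zero] at hj
      have hinner : classInner (fun d : D => (χ : G → ℂ) d) (ξ : D → ℂ) ≠ 0 := by
        have e : (fun d : D => (χ : G → ℂ) d) = ∑ η : IrrCharacter C,
            (m η : ℂ) • fun d : D => (η : C → ℂ) (Subgroup.inclusion hDC d) := by
          funext d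
          have e := congrFun hm (Subgroup.inclusion hDC d)
          simp only [Finset.sum_apply, Pi.smul_apply, Pi.mul_apply, Pi.natCast_apply, nsmul_eq_mul] at e
          simp only [Finset.sum_apply, Pi.smul_apply, smul_eq_mul]
          exact e
        rw [e, classInner_sum_left]
        choose c hc using fun η : IrrCharacter C => classInner_char_nat
          (IsCharacter.comp_hom (isCharacter_of_irr η.2) (Subgroup.inclusion hDC))
          (isCharacter_of_irr ξ.2)
        simp only [classInner_smul_left]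
        rw [Finset.sum_congr rfl fun η _ => by rw [hc η, ← Nat.cast_mul], ← Nat.cast_sum,
          Nat.cast_ne_zero]
        refine fun hz => mul_ne_zero hψ ?_ (Finset.sum_eq_zero_iff.1 hz ψ (Finset.mem_univ _))
        intro hc0
        have h1 := hc ψ
        rw [show (fun d : D => (ψ : C → ℂ) (Subgroup.inclusion hDC d)) = ∑ η : IrrCharacter D, (k η : ℂ) • (η : D → ℂ)
          from hk.trans (by simp [Nat.cast_smul_eq_nsmul]), classInner_irrSum, hc0] at h1
        exact hk0 (by exact_mod_cast h1)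
      exact hinner (hno ξ hj)
    · rw [hj]
      exact Dvd.dvd.mul_left (dvd_pow_self p j.succ_ne_zero) _
  -- so the value at the defect class is small
  refine hu.not_small ?_
  have e := congrFun hm ⟨g, hgC⟩
  simp only [Finset.sum_apply, Pi.smul_apply, Pi.mul_apply, Pi.natCast_apply, nsmul_eq_mul] at e
  rw [e]
  refine small_sum _ _ fun ψ _ => ?_
  rcases eq_or_ne (m ψ) 0 with hm0 | hm0
  · rw [hm0, Nat.cast_zero, zero_mul]; exact small_zero
  have hcent : (Subgroup.centralizer ({(⟨g, hgC⟩ : C)} : Set C)).index = 1 := by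
    rw [Subgroup.index_eq_one, eq_top_iff]
    intro c _
    rw [Subgroup.mem_centralizer_singleton_iff]
    exact Subtype.ext (Subgroup.mem_centralizer_singleton_iff.1 c.2)
  have hval : (ψ : C → ℂ) ⟨g, hgC⟩ =
      (deg (ψ : C → ℂ) : ℂ) * centralChar (ψ : C → ℂ) ⟨g, hgC⟩ := by
    rw [centralChar, hcent, Nat.cast_one, one_mul, ← irr_apply_one_eq_deg,
      mul_div_cancel₀ _ (IsIrrCharacter.apply_one_ne_zero ψ.2)]
  have hmem : centralChar (ψ : C → ℂ) ⟨g, hgC⟩ ∈ place M := centralChar_mem_place hM ψ _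
  rw [hval, ← mul_assoc, ← Nat.cast_mul]
  rw [← res_eq_zero_iff (mul_mem (natCast_mem _ _) hmem), res_mul (natCast_mem _ _) hmem,
    res_natCast, (res_natCast_eq_zero_iff hM _).2 (Dvd.dvd.mul_left (key ψ hm0) _), zero_mul]

/-- A linear character of a central subgroup of the defect group extends. -/
theorem exists_extension_to_defectGroup (hM : IsPModular p M) {B : Set (IrrCharacter G)}
    (hB : IsPBlock M B) {D : Subgroup G} [Fintype D] (hD : IsDefectGroup p M B D) {Z : Subgroup G}
    [Fintype Z] (hZD : Z ≤ D) (lam : Z →* ℂˣ) {χ : IrrCharacter G} (hχ : χ ∈ B)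
    (hover : ∀ z : Z, (χ : G → ℂ) z = (χ : G → ℂ) 1 * (lam z : ℂ))
    (h0 : blockHeight p B (χ : G → ℂ) = 0) :
    ∃ μ : D →* ℂˣ, ∀ z : Z, μ ⟨(z : G), hZD z.2⟩ = lam z := by
  classical
  obtain ⟨ξ, hξ1, hξ⟩ := exists_linear_constituent hM hB hD hχ h0
  obtain ⟨μ, hμ⟩ := exists_hom_of_deg_one (isCharacter_of_irr ξ.2)
    (by rw [irr_apply_one_eq_deg, hξ1, Nat.cast_one])
  refine ⟨μ, fun z => ?_⟩
  obtain ⟨m, hm⟩ := IsCharacter.exists_decomp (IsCharacter.restrict (isCharacter_of_irr χ.2) D)
  let inc : Z →* D := Subgroup.inclusion hZD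
  set lamC : Z → ℂ := fun z => (lam z : ℂ) with hlamC
  have hlam : IsIrrCharacter Z lamC := isIrrCharacter_linear lam
  choose c hc using fun η : IrrCharacter D => classInner_char_nat
    (IsCharacter.comp_hom (isCharacter_of_irr η.2) inc) (isCharacter_of_irr hlam)
  have hm' : (fun d : D => (χ : G → ℂ) d) = ∑ η : IrrCharacter D, (m η : ℂ) • (η : D → ℂ) := by
    rw [hm]; simp [Nat.cast_smul_eq_nsmul]
  have hmξ : m ξ ≠ 0 := by
    rw [hm', classInner_irrSum] at hξ
    exact_mod_cast hξ
  have hdec : ∀ η : IrrCharacter D, c η ≤ deg (η : D → ℂ) := by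
    intro η
    obtain ⟨k, hk⟩ := IsCharacter.exists_decomp (IsCharacter.comp_hom (isCharacter_of_irr η.2) inc)
    have e := congrFun hk 1
    simp only [Function.comp_apply, map_one, Finset.sum_apply, Pi.smul_apply, Pi.mul_apply, Pi.natCast_apply, nsmul_eq_mul,
      irr_apply_one_eq_deg] at e
    have e' : deg (η : D → ℂ) = ∑ ζ : IrrCharacter Z, k ζ * deg (ζ : Z → ℂ) := by exact_mod_cast e
    have h1 := hc η
    rw [show (fun z : Z => (η : D → ℂ) (inc z)) = ∑ ζ : IrrCharacter Z, (k ζ : ℂ) • (ζ : Z → ℂ) from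
        hk.trans (by simp [Nat.cast_smul_eq_nsmul]),
      show lamC = (((⟨lamC, hlam⟩ : IrrCharacter Z) : Z → ℂ)) from rfl, classInner_irrSum] at h1
    rw [e', ← (Nat.cast_inj.1 h1 : k ⟨lamC, hlam⟩ = c η)]
    exact le_trans (Nat.le_mul_of_pos_right _ (deg_irr_pos _))
      (Finset.single_le_sum (f := fun ζ : IrrCharacter Z => k ζ * deg (ζ : Z → ℂ))
        (fun _ _ => Nat.zero_le _) (Finset.mem_univ _))
  have htot : ∑ η : IrrCharacter D, m η * c η = deg (χ : G → ℂ) := by
    have e : (fun z : Z => (χ : G → ℂ) z) =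
        ∑ η : IrrCharacter D, (m η : ℂ) • (fun z : Z => (η : D → ℂ) (inc z)) := by
      funext z
      have := congrFun hm' (inc z)
      simp only [Finset.sum_apply, Pi.smul_apply, smul_eq_mul, Function.comp_apply] at this ⊢
      exact this
    have h1 : classInner (fun z : Z => (χ : G → ℂ) z) lamC = (deg (χ : G → ℂ) : ℂ) := by
      rw [show (fun z : Z => (χ : G → ℂ) z) = (χ : G → ℂ) 1 • lamC from funext hover,
        classInner_smul_left, classInner_self_irr hlam, mul_one, irr_apply_one_eq_deg]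
    rw [e, classInner_sum_left] at h1
    simp only [classInner_smul_left, hc] at h1
    exact_mod_cast h1
  have hdeg : ∑ η : IrrCharacter D, m η * deg (η : D → ℂ) = deg (χ : G → ℂ) := by
    have e := congrFun hm' 1
    simp only [OneMemClass.coe_one, Finset.sum_apply, Pi.smul_apply, smul_eq_mul,
      irr_apply_one_eq_deg] at e
    exact_mod_cast e.symm
  have heq : m ξ * c ξ = m ξ * deg (ξ : D → ℂ) :=
    (Finset.sum_eq_sum_iff_of_le fun η _ => Nat.mul_le_mul_left (m η) (hdec η)).1
      (htot.trans hdeg.symm) ξ (Finset.mem_univ _)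
  have hcξ := mul_left_cancel₀ hmξ heq
  rw [hξ1] at hcξ
  have h1 := hc ξ
  rw [hcξ, hμ] at h1
  have hlin : IsIrrCharacter Z (fun z : Z => (μ (inc z) : ℂ)) := isIrrCharacter_linear (μ.comp inc)
  rw [classInner_irrChar hlin hlam] at h1
  split_ifs at h1 with h
  · exact Units.ext (congrFun h z)
  · simp at h1

end Cfsg.Lib.Blocks
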