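/-
Twisting an extension of a character of a minimal normal subgroup by linear characters.
-/
import Cfsg.Agent.Chars.Gallagher
import Cfsg.Agent.Chars.Inertia
import Mathlib

set_option linter.unusedSectionVars false

namespace Cfsg.Lib.Blocks

open Cfsg.Lib.Chars

universe u

variable {G : Type u} [Group G] [Fintype G]

lemma map_eq_one_of_minimal {N : Subgroup G} (hN : N.Normal)
    (hmin : ∀ M : Subgroup G, M.Normal → M ≤ N → M = ⊥ ∨ M = N) (hna : ¬ IsMulCommutative ↥N)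
    {A : Type*} [CommGroup A] (f : G →* A) {n : G} (hn : n ∈ N) : f n = 1 := by
  haveI := hN
  have h : ⁅N, N⁆ = N := by
    refine (hmin _ inferInstance (Subgroup.commutator_le_self N)).resolve_left fun hb => hna ?_
    refine ⟨⟨fun a b => Subtype.ext ?_⟩⟩
    exact (Subgroup.mem_centralizer_iff.1 (Subgroup.commutator_eq_bot_iff_le_centralizer.1 hb b.2) a a.2)
  have h2 : N ≤ commutator G := h.ge.trans (Subgroup.commutator_mono le_top le_top)
  exact Abelianization.commutator_subset_ker f (h2 hn)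

/-- The linear characters with a given restriction are at most `[G : I]` in number. -/
lemma card_linear_restrict_le (I : Subgroup G) [Fintype I] (μ : I → ℂ) :
    Nat.card {χ : Cfsg.IrrCharacter G // (χ : G → ℂ) 1 = 1 ∧ (fun i : I => (χ : G → ℂ) i) = μ} ≤ I.index := by
  classical
  rcases isEmpty_or_nonempty {χ : Cfsg.IrrCharacter G // (χ : G → ℂ) 1 = 1 ∧ (fun i : I => (χ : G → ℂ) i) = μ} with h | h
  · simp
  obtain ⟨χ₀⟩ := h
  have hμc : Cfsg.IsCharacter I μ := χ₀.2.2 ▸ IsCharacter.restrict (isCharacter_of_irr χ₀.1.2) I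
  have hμ1 : μ 1 = 1 := by
    rw [← χ₀.2.2]; exact χ₀.2.1
  have hμ : Cfsg.IsIrrCharacter I μ := by
    refine isIrrCharacter_of_norm_one hμc ?_
    obtain ⟨f, hf⟩ := exists_hom_of_deg_one hμc hμ1
    rw [classInner_def, Finset.sum_congr rfl (g := fun _ => (1 : ℂ)) fun i _ => ?_, Finset.sum_const,
      Finset.card_univ, nsmul_eq_mul, mul_one, ← Nat.card_eq_fintype_card,
      inv_mul_cancel₀ (by exact_mod_cast Nat.card_pos.ne')]
    have hpow : ((f i : ℂˣ) : ℂ) ^ orderOf i = 1 := by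
      rw [← Units.val_pow_eq_pow_val, ← map_pow, pow_orderOf_eq_one, map_one, Units.val_one]
    have hn : ‖((f i : ℂˣ) : ℂ)‖ = 1 := Complex.norm_eq_one_of_pow_eq_one hpow (orderOf_pos i).ne'
    rw [hf]
    show ((f i : ℂˣ) : ℂ) * starRingEnd ℂ ((f i : ℂˣ) : ℂ) = 1
    rw [Complex.mul_conj, Complex.normSq_eq_norm_sq, hn]
    norm_num
  obtain ⟨m, hm⟩ := IsCharacter.exists_decomp (IsCharacter.indFun (G := G) hμc)
  have h1 := congrFun hm 1
  rw [indFun_one, hμ1, mul_one] at h1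
  simp only [Finset.sum_apply, Pi.smul_apply, nsmul_eq_mul] at h1
  have hge : ∀ χ : Cfsg.IrrCharacter G, (χ : G → ℂ) 1 = 1 ∧ (fun i : I => (χ : G → ℂ) i) = μ → m χ = 1 := by
    intro χ hχ
    apply Nat.cast_injective (R := ℂ)
    have h2 := frobenius_reciprocity I μ (isClassFunction_irr χ)
    rw [hm, hχ.2, classInner_self_irr hμ] at h2
    simp only [← Nat.cast_smul_eq_nsmul ℂ] at h2
    rw [classInner_irrSum (fun ψ => (m ψ : ℂ)) χ] at h2
    rw [h2, Nat.cast_one]
  have h2 : (I.index : ℝ) = ∑ χ : Cfsg.IrrCharacter G, (m χ : ℝ) * (deg (χ : G → ℂ) : ℝ) := by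
    apply Complex.ofReal_injective
    rw [Complex.ofReal_sum, Complex.ofReal_natCast, h1]
    refine Finset.sum_congr rfl fun χ _ => ?_
    rw [Pi.mul_apply, Pi.natCast_apply, irr_apply_one_eq_deg, Complex.ofReal_mul, Complex.ofReal_natCast, Complex.ofReal_natCast]
  have h3 : ((Finset.univ.filter fun χ : Cfsg.IrrCharacter G =>
      (χ : G → ℂ) 1 = 1 ∧ (fun i : I => (χ : G → ℂ) i) = μ).card : ℝ) ≤ I.index := by
    rw [h2, Finset.card_eq_sum_ones, Nat.cast_sum]
    refine le_trans (Finset.sum_le_sum fun χ hχ => ?_)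
      (Finset.sum_le_sum_of_subset_of_nonneg (Finset.subset_univ _) fun _ _ _ => by positivity)
    have hd : deg (χ : G → ℂ) = 1 := by
      have := (Finset.mem_filter.1 hχ).2.1
      rw [irr_apply_one_eq_deg] at this
      exact_mod_cast this
    rw [hge χ (Finset.mem_filter.1 hχ).2, hd]
    norm_num
  rw [Nat.card_eq_fintype_card, Fintype.card_subtype]
  exact_mod_cast h3

/-- The twisted inductions. -/
theorem exists_twist (N : Subgroup G) (hN : N.Normal)
    (hmin : ∀ M : Subgroup G, M.Normal → M ≤ N → M = ⊥ ∨ M = N) (hna : ¬ IsMulCommutative ↥N)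
    (φ : Cfsg.IrrCharacter ↥N) (I : Subgroup G) [Fintype I]
    (hI : ∀ g : G, g ∈ I ↔ ∀ n n' : ↥N, (n' : G) = g * (n : G) * g⁻¹ → (φ : ↥N → ℂ) n' = (φ : ↥N → ℂ) n)
    (hNI : N ≤ I) (ψ : Cfsg.IrrCharacter ↥I)
    (hψ : ∀ n : ↥N, (ψ : ↥I → ℂ) (Subgroup.inclusion hNI n) = (φ : ↥N → ℂ) n) :
    ∃ Φ : {χ : Cfsg.IrrCharacter G // (χ : G → ℂ) 1 = 1} → Cfsg.IrrCharacter G,
      (∀ l, (Φ l : G → ℂ) = Cfsg.indFun I ((fun i : I => (l.1 : G → ℂ) i) * (ψ : ↥I → ℂ)) ∧
        (Φ l : G → ℂ) 1 = (φ : ↥N → ℂ) 1 * I.index) ∧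
      ∀ l l', Φ l = Φ l' → (fun i : I => (l.1 : G → ℂ) i) = (fun i : I => (l'.1 : G → ℂ) i) := by
  classical
  haveI := hN
  haveI := Fintype.ofFinite N
  have hinert : I = inertia N (φ : ↥N → ℂ) := by
    ext g
    rw [hI, mem_inertia]
    constructor
    · intro h
      funext n
      exact h n ⟨g * n * g⁻¹, hN.conj_mem n n.2 g⟩ rfl
    · intro h n n' hn'
      have h1 := congrFun h n
      rwa [conjN, show (⟨g * (n : G) * g⁻¹, hN.conj_mem n n.2 g⟩ : N) = n' from Subtype.ext hn'.symm] at h1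
  let L := {χ : Cfsg.IrrCharacter G // (χ : G → ℂ) 1 = 1}
  have hker : ∀ (l : L) (n : N), (l.1 : G → ℂ) n = 1 := fun l n => by
    obtain ⟨f, hf⟩ := exists_hom_of_deg_one (isCharacter_of_irr l.1.2) l.2
    rw [hf]
    show ((f n : ℂˣ) : ℂ) = 1
    rw [map_eq_one_of_minimal hN hmin hna f n.2, Units.val_one]
  have htw : ∀ l : L, Cfsg.IsIrrCharacter I ((fun i : I => (l.1 : G → ℂ) i) * (ψ : ↥I → ℂ)) := fun l => by
    obtain ⟨f, hf⟩ := exists_hom_of_deg_one (isCharacter_of_irr l.1.2) l.2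
    rw [hf]
    exact IsIrrCharacter.mul_linear ψ.2 (f.comp I.subtype)
  have hres : ∀ l : L, (fun n : N => ((fun i : I => (l.1 : G → ℂ) i) * (ψ : ↥I → ℂ)) ⟨n, hNI n.2⟩) =
      (φ : ↥N → ℂ) := fun l => funext fun n => by
    show (l.1 : G → ℂ) n * (ψ : ↥I → ℂ) (Subgroup.inclusion hNI n) = _
    rw [hker, hψ, one_mul]
  have hcl : ∀ (l : L) (χ : Cfsg.IrrCharacter G),
      Cfsg.classInner (fun t : I => (χ : G → ℂ) t) ((fun i : I => (l.1 : G → ℂ) i) * (ψ : ↥I → ℂ)) ≠ 0 →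
      Cfsg.indFun I ((fun i : I => (l.1 : G → ℂ) i) * (ψ : ↥I → ℂ)) = (χ : G → ℂ) ∧
      ∀ ψ' : I → ℂ, Cfsg.IsIrrCharacter I ψ' → Cfsg.classInner (fun t : I => (χ : G → ℂ) t) ψ' ≠ 0 →
        Cfsg.classInner (fun n : N => ψ' ⟨n, hNI n.2⟩) (φ : ↥N → ℂ) ≠ 0 →
        ψ' = (fun i : I => (l.1 : G → ℂ) i) * (ψ : ↥I → ℂ) := fun l χ hne => by
    obtain ⟨h1, -, h3⟩ := clifford_correspondence φ.2 I hinert hNI χ.2 (htw l) hne
      (by rw [hres, classInner_self_irr φ.2]; exact one_ne_zero)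
    exact ⟨h1, h3⟩
  have hex : ∀ l : L, ∃ χ : Cfsg.IrrCharacter G,
      Cfsg.classInner (fun t : I => (χ : G → ℂ) t) ((fun i : I => (l.1 : G → ℂ) i) * (ψ : ↥I → ℂ)) ≠ 0 := by
    intro l
    by_contra hcon
    push Not at hcon
    obtain ⟨m, hm⟩ := IsCharacter.exists_decomp (IsCharacter.indFun (G := G) (isCharacter_of_irr (htw l)))
    simp only [← Nat.cast_smul_eq_nsmul ℂ] at hm
    have h0 : ∀ χ, (m χ : ℂ) = 0 := fun χ => by
      have h1 := frobenius_reciprocity' I ((fun i : I => (l.1 : G → ℂ) i) * (ψ : ↥I → ℂ)) (isClassFunction_irr χ)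
      rw [hcon χ, ← classInner_conj_symm, hm, classInner_irrSum (fun ψ => (m ψ : ℂ)) χ,
        Complex.conj_natCast] at h1
      exact h1
    have h2 := congrFun hm 1
    rw [indFun_one] at h2
    simp only [Finset.sum_apply, Pi.smul_apply, smul_eq_mul, h0, zero_mul, Finset.sum_const_zero,
      mul_eq_zero, Nat.cast_eq_zero, Subgroup.index_ne_zero_of_finite, false_or] at h2
    exact IsIrrCharacter.apply_one_ne_zero (htw l) h2
  choose Φ hΦ using hex
  refine ⟨Φ, fun l => ⟨(hcl l (Φ l) (hΦ l)).1.symm, ?_⟩, fun l l' he => ?_⟩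
  · rw [← (hcl l (Φ l) (hΦ l)).1, indFun_one, Pi.mul_apply, OneMemClass.coe_one, l.2, one_mul,
      ← hψ 1, map_one, mul_comm]
  · have h1 := (hcl l (Φ l) (hΦ l)).2 _ (htw l') (he ▸ hΦ l')
      (by rw [hres, classInner_self_irr φ.2]; exact one_ne_zero)
    haveI : (N.subgroupOf I).Normal := inferInstance
    haveI := Fintype.ofFinite (N.subgroupOf I)
    have hone : Cfsg.IsIrrCharacter (N.subgroupOf I) (fun _ => (1 : ℂ)) := isIrrCharacter_one
    have hψN : Cfsg.IsIrrCharacter (N.subgroupOf I) ((fun _ => (1 : ℂ)) * fun n : N.subgroupOf I => (ψ : I → ℂ) n) := by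
      have h2 := IsIrrCharacter.comp_mulEquiv φ.2 (Subgroup.subgroupOfEquivOfLe hNI)
      refine (congrArg (Cfsg.IsIrrCharacter (N.subgroupOf I)) (funext fun n => ?_)).mp h2
      simp only [Pi.mul_apply, one_mul]
      rw [← hψ]
      rfl
    have hmem : ∀ k : L, (fun i : I => (k.1 : G → ℂ) i) ∈
        {β : I → ℂ | Cfsg.IsIrrCharacter I β ∧
          Cfsg.classInner (Cfsg.indFun (N.subgroupOf I) (fun _ => (1 : ℂ))) β ≠ 0} := by
      intro k
      obtain ⟨f, hf⟩ := exists_hom_of_deg_one (isCharacter_of_irr k.1.2) k.2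
      have hirr : Cfsg.IsIrrCharacter I (fun i : I => (k.1 : G → ℂ) i) := by
        rw [hf]
        simpa using IsIrrCharacter.mul_linear isIrrCharacter_one (f.comp I.subtype)
      refine ⟨hirr, ?_⟩
      rw [frobenius_reciprocity (N.subgroupOf I) (fun _ => (1 : ℂ)) (isClassFunction_isChar (isCharacter_of_irr hirr))]
      rw [show (fun n : N.subgroupOf I => (k.1 : G → ℂ) ((n : I) : G)) = (fun _ => (1 : ℂ)) from
        funext fun n => hker k ⟨_, n.2⟩, classInner_self_irr hone]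
      exact one_ne_zero
    exact ((gallagher (N.subgroupOf I) hone (fun g => funext fun n => rfl) ψ.2 hψN).injOn (hmem l') (hmem l) h1).symm

/-- Counting along a map with bounded fibres. -/
lemma card_le_mul_card {α β : Type*} [Finite α] [Finite β] (f : α → β) (k : ℕ)
    (h : ∀ b, Nat.card {a // f a = b} ≤ k) : Nat.card α ≤ k * Nat.card β := by
  classical
  haveI := Fintype.ofFinite β
  rw [← Nat.card_congr (Equiv.sigmaFiberEquiv f), Nat.card_sigma, Nat.card_eq_fintype_card (α := β), mul_comm,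
    ← smul_eq_mul, ← Finset.card_univ, ← Finset.sum_const]
  exact Finset.sum_le_sum fun b _ => h b

end Cfsg.Lib.Blocks
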