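import Cfsg.Agent.Golay.M22Block
import Cfsg.Agent.Blocks.ConstrainedInvolution
import Cfsg.Agent.Blocks.Eigen
import Cfsg.Agent.Blocks.ZeroCounting

/-!
# M22 has a single 2-block

No irreducible character has defect zero: the values at the elements of order 7 and 11 are too large.
-/

set_option autoImplicit false
set_option linter.unusedSectionVars false

namespace Cfsg.Lib.Blocks

open Cfsg.Lib.Chars
open scoped ComplexConjugate

universe u

variable {G : Type u} [Group G] [Fintype G]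

/-- The multiplicity of an eigenvalue by inversion. -/
theorem exists_mult {χ : G → ℂ} (hχ : IsCharacter G χ) {y : G} {N : ℕ} [NeZero N]
    (hy : orderOf y = N) {η : ℂ} (hη : η ^ N = 1) :
    ∃ m : ℕ, (N : ℂ) * m = ∑ r ∈ Finset.range N, χ (y ^ r) * η ^ r := by
  classical
  obtain ⟨d, hd⟩ := exists_weights hχ y
  rw [hy] at hd
  have hN : 0 < N := NeZero.pos N
  have hmem : ∀ {ω : ℂ}, ω ∈ Polynomial.nthRootsFinset N (1 : ℂ) ↔ ω ^ N = 1 :=
    fun {ω} => Polynomial.mem_nthRootsFinset hN _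
  have hη0 : η ≠ 0 := fun h => by rw [h, zero_pow hN.ne'] at hη; exact zero_ne_one hη
  have hinv : η⁻¹ ^ N = 1 := by rw [inv_pow, hη, inv_one]
  refine ⟨d η⁻¹, ?_⟩
  have hexp : ∑ r ∈ Finset.range N, χ (y ^ r) * η ^ r =
      ∑ ω ∈ Polynomial.nthRootsFinset N (1 : ℂ),
        (d ω : ℂ) * ∑ r ∈ Finset.range N, (ω * η) ^ r := by
    simp only [hd, Finset.sum_mul, Finset.mul_sum, mul_pow, mul_assoc]
    exact Finset.sum_comm
  rw [hexp, Finset.sum_eq_single η⁻¹]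
  · rw [inv_mul_cancel₀ hη0]
    simp [mul_comm]
  · intro ω hω hne
    have hne' : ω * η ≠ 1 := fun h => hne (eq_inv_of_mul_eq_one_left h)
    rw [geom_sum_eq hne', mul_pow, hmem.1 hω, hη, one_mul, sub_self, zero_div, mul_zero]
  · exact fun h => absurd (hmem.2 hinv) h

/-- Two classes of elements of prime order, conjugate under the squares. -/
theorem quadratic_value {d N : ℕ} {m m' : ℕ} {a η η' : ℂ} (hN : N ≠ 0)
    (hm : (N : ℂ) * m = d + a * η + conj a * η') (hm' : (N : ℂ) * m' = d + a * η' + conj a * η)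
    (hs : η + η' = -1) (hd : (η - η') ^ 2 = -(N : ℂ)) :
    2 * a.re = ((2 * d - N * ((m : ℤ) + m') : ℤ) : ℝ) ∧
    4 * ‖a‖ ^ 2 = (((2 * d - N * ((m : ℤ) + m')) ^ 2 + N * ((m : ℤ) - m') ^ 2 : ℤ) : ℝ) := by
  have h1 : a + conj a = ((2 * d - N * ((m : ℤ) + m') : ℤ) : ℂ) := by
    push_cast
    linear_combination hm + hm' + (a + conj a) * hs
  have hNC : (N : ℂ) ≠ 0 := Nat.cast_ne_zero.2 hN
  have h3 : (N : ℂ) * ((m : ℂ) - m') = (a - conj a) * (η - η') := by
    linear_combination hm - hm'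
  have h4 : (N : ℂ) * ((m : ℂ) - m') ^ 2 = -(a - conj a) ^ 2 := by
    apply mul_left_cancel₀ hNC
    linear_combination ((N : ℂ) * ((m : ℂ) - m') + (a - conj a) * (η - η')) * h3
      + (a - conj a) ^ 2 * hd
  have h2 : (4 : ℂ) * (a * conj a) =
      (((2 * d - N * ((m : ℤ) + m')) ^ 2 + N * ((m : ℤ) - m') ^ 2 : ℤ) : ℂ) := by
    rw [Int.cast_add, Int.cast_pow, ← h1]
    push_cast
    linear_combination -h4
  refine ⟨?_, ?_⟩
  · have := congrArg Complex.re h1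
    simp at this
    push_cast
    linarith
  · rw [Complex.mul_conj'] at h2
    exact_mod_cast h2

/-- The value at an element of order 7 conjugate to its square. -/
theorem value_seven {χ : IrrCharacter G} {y : G} (hy : orderOf y = 7) (hc : IsConj y (y ^ 2)) :
    ∃ t δ : ℤ, 2 * ((χ : G → ℂ) y).re = t ∧ 4 * ‖(χ : G → ℂ) y‖ ^ 2 = (t ^ 2 + 7 * δ ^ 2 : ℤ) ∧
      (7 : ℤ) ∣ t - 2 * charDegree (χ : G → ℂ) ∧ (2 : ℤ) ∣ t - δ := by
  have hχ := isCharacter_of_irr χ.2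
  set f : G → ℂ := (χ : G → ℂ) with hf
  have hclass : ∀ {u v : G}, IsConj u v → f v = f u := fun h => by
    obtain ⟨c, rfl⟩ := isConj_iff.1 h
    exact isClassFunction_irr χ _ _
  have hinv : ∀ u : G, f u⁻¹ = conj (f u) := fun u => by
    obtain ⟨n, ρ, hρ⟩ := hχ
    rw [← hρ]; exact character_inv ρ u
  have y7 : y ^ 7 = 1 := by rw [← hy]; exact pow_orderOf_eq_one y
  have v2 : f (y ^ 2) = f y := hclass hc
  have v4 : f (y ^ 4) = f y := by
    rw [← v2]
    refine hclass ?_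
    obtain ⟨c, hc⟩ := isConj_iff.1 hc
    exact isConj_iff.2 ⟨c, by rw [← conj_pow, hc, ← pow_mul]⟩
  have v6 : f (y ^ 6) = conj (f y) := by
    rw [← hinv]; congr 1; exact eq_inv_of_mul_eq_one_left (by rw [← pow_succ, y7])
  have v5 : f (y ^ 5) = conj (f y) := by
    rw [← v2, ← hinv]; congr 1; exact eq_inv_of_mul_eq_one_left (by rw [← pow_add, y7])
  have v3 : f (y ^ 3) = conj (f y) := by
    rw [← v4, ← hinv]; congr 1; exact eq_inv_of_mul_eq_one_left (by rw [← pow_add, y7])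
  have v0 : f 1 = (charDegree f : ℂ) := IsCharacter.apply_one_eq_deg hχ
  obtain ⟨ζ, hζ⟩ : ∃ ζ : ℂ, IsPrimitiveRoot ζ 7 := ⟨_, Complex.isPrimitiveRoot_exp 7 (by norm_num)⟩
  have z7 := hζ.pow_eq_one
  have zs : 1 + ζ + ζ ^ 2 + ζ ^ 3 + ζ ^ 4 + ζ ^ 5 + ζ ^ 6 = 0 := by
    have := hζ.geom_sum_eq_zero (by norm_num)
    simpa [Finset.sum_range_succ, add_assoc] using this
  have hr : ∀ η : ℂ, η ^ 7 = 1 → ∃ m : ℕ, (7 : ℂ) * m = (charDegree f : ℂ) +
      f y * (η + η ^ 2 + η ^ 4) + conj (f y) * (η ^ 3 + η ^ 5 + η ^ 6) := by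
    intro η hη
    obtain ⟨m, hm⟩ := exists_mult hχ hy hη
    refine ⟨m, ?_⟩
    rw [Nat.cast_ofNat] at hm
    rw [hm, Finset.sum_range_succ, Finset.sum_range_succ, Finset.sum_range_succ,
      Finset.sum_range_succ, Finset.sum_range_succ, Finset.sum_range_succ, Finset.sum_range_one,
      pow_zero, pow_one, v0, v2, v3, v4, v5, v6]
    ring
  obtain ⟨m, hm⟩ := hr ζ z7
  obtain ⟨m', hm'⟩ := hr (ζ ^ 6) (by rw [← pow_mul, mul_comm, pow_mul, z7, one_pow])
  have e : ∀ i j : ℕ, ζ ^ (7 * i + j) = ζ ^ j := fun i j => by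
    rw [pow_add, pow_mul, z7, one_pow, one_mul]
  have hA : ζ ^ 6 + (ζ ^ 6) ^ 2 + (ζ ^ 6) ^ 4 = ζ ^ 3 + ζ ^ 5 + ζ ^ 6 := by
    rw [← pow_mul, ← pow_mul, show 6 * 2 = 7 * 1 + 5 from rfl, show 6 * 4 = 7 * 3 + 3 from rfl, e, e]
    ring
  have hB : (ζ ^ 6) ^ 3 + (ζ ^ 6) ^ 5 + (ζ ^ 6) ^ 6 = ζ + ζ ^ 2 + ζ ^ 4 := by
    rw [← pow_mul, ← pow_mul, ← pow_mul, show 6 * 3 = 7 * 2 + 4 from rfl,
      show 6 * 5 = 7 * 4 + 2 from rfl, show 6 * 6 = 7 * 5 + 1 from rfl, e, e, e]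
    ring
  rw [hA, hB] at hm'
  obtain ⟨h1, h2⟩ := quadratic_value (d := charDegree f) (N := 7) (a := f y) (η := ζ + ζ ^ 2 + ζ ^ 4)
    (η' := ζ ^ 3 + ζ ^ 5 + ζ ^ 6) (by norm_num) (by exact_mod_cast hm) (by exact_mod_cast hm')
    (by linear_combination zs)
    (by push_cast; linear_combination (7 - 7*ζ + ζ ^ 2 + ζ ^ 3 - 3*ζ ^ 4 + ζ ^ 5 + ζ ^ 6 : ℂ) * zs)
  exact ⟨_, (m : ℤ) - m', h1, by exact_mod_cast h2, ⟨-((m : ℤ) + m'), by push_cast; ring⟩, by omega⟩


/-- The value at an element of order 11 conjugate to its cube. -/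
theorem value_eleven {χ : IrrCharacter G} {y : G} (hy : orderOf y = 11) (hc : IsConj y (y ^ 3)) :
    ∃ t δ : ℤ, 2 * ((χ : G → ℂ) y).re = t ∧ 4 * ‖(χ : G → ℂ) y‖ ^ 2 = (t ^ 2 + 11 * δ ^ 2 : ℤ) ∧
      (11 : ℤ) ∣ t - 2 * charDegree (χ : G → ℂ) ∧ (2 : ℤ) ∣ t - δ := by
  have hχ := isCharacter_of_irr χ.2
  set f : G → ℂ := (χ : G → ℂ) with hf
  have hclass : ∀ {u v : G}, IsConj u v → f v = f u := fun h => by
    obtain ⟨c, rfl⟩ := isConj_iff.1 h
    exact isClassFunction_irr χ _ _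
  have hinv : ∀ u : G, f u⁻¹ = conj (f u) := fun u => by
    obtain ⟨n, ρ, hρ⟩ := hχ
    rw [← hρ]; exact character_inv ρ u
  have y11 : y ^ 11 = 1 := by rw [← hy]; exact pow_orderOf_eq_one y
  have ym : ∀ i j : ℕ, y ^ (11 * i + j) = y ^ j := fun i j => by
    rw [pow_add, pow_mul, y11, one_pow, one_mul]
  have hp : ∀ i : ℕ, f (y ^ (3 * i)) = f (y ^ i) := fun i => by
    obtain ⟨c, hc⟩ := isConj_iff.1 hc
    exact hclass (isConj_iff.2 ⟨c, by rw [← conj_pow, hc, ← pow_mul]⟩)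
  have v3 : f (y ^ 3) = f y := by simpa using hp 1
  have v9 : f (y ^ 9) = f y := by rw [← v3]; exact hp 3
  have v5 : f (y ^ 5) = f y := by rw [← v9, ← hp 9, show 3 * 9 = 11 * 2 + 5 from rfl, ym]
  have v4 : f (y ^ 4) = f y := by rw [← v5, ← hp 5, show 3 * 5 = 11 * 1 + 4 from rfl, ym]
  have hn : ∀ i j : ℕ, i + j = 11 → f (y ^ j) = f y → f (y ^ i) = conj (f y) := fun i j hij hj => by
    rw [← hj, ← hinv]; congr 1; exact eq_inv_of_mul_eq_one_left (by rw [← pow_add, hij, y11])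
  have v10 := hn 10 1 rfl (by rw [pow_one])
  have v8 := hn 8 3 rfl v3
  have v7 := hn 7 4 rfl v4
  have v6 := hn 6 5 rfl v5
  have v2 := hn 2 9 rfl v9
  have v0 : f 1 = (charDegree f : ℂ) := IsCharacter.apply_one_eq_deg hχ
  obtain ⟨ζ, hζ⟩ : ∃ ζ : ℂ, IsPrimitiveRoot ζ 11 :=
    ⟨_, Complex.isPrimitiveRoot_exp 11 (by norm_num)⟩
  have z11 := hζ.pow_eq_one
  have zs : 1 + ζ + ζ ^ 2 + ζ ^ 3 + ζ ^ 4 + ζ ^ 5 + ζ ^ 6 + ζ ^ 7 + ζ ^ 8 + ζ ^ 9 + ζ ^ 10 = 0 := by
    have := hζ.geom_sum_eq_zero (by norm_num)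
    simpa [Finset.sum_range_succ, add_assoc] using this
  have hr : ∀ η : ℂ, η ^ 11 = 1 → ∃ m : ℕ, (11 : ℂ) * m = (charDegree f : ℂ) +
      f y * (η + η ^ 3 + η ^ 4 + η ^ 5 + η ^ 9) + conj (f y) * (η ^ 2 + η ^ 6 + η ^ 7 + η ^ 8 + η ^ 10) := by
    intro η hη
    obtain ⟨m, hm⟩ := exists_mult hχ hy hη
    refine ⟨m, ?_⟩
    rw [Nat.cast_ofNat] at hm
    rw [hm, Finset.sum_range_succ, Finset.sum_range_succ, Finset.sum_range_succ,
      Finset.sum_range_succ, Finset.sum_range_succ, Finset.sum_range_succ, Finset.sum_range_succ,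
      Finset.sum_range_succ, Finset.sum_range_succ, Finset.sum_range_succ, Finset.sum_range_one,
      pow_zero, pow_one, v0, v2, v3, v4, v5, v6, v7, v8, v9, v10]
    ring
  obtain ⟨m, hm⟩ := hr ζ z11
  obtain ⟨m', hm'⟩ := hr (ζ ^ 10) (by rw [← pow_mul, mul_comm, pow_mul, z11, one_pow])
  have e : ∀ i j : ℕ, ζ ^ (11 * i + j) = ζ ^ j := fun i j => by
    rw [pow_add, pow_mul, z11, one_pow, one_mul]
  have hA : (ζ ^ 10) + (ζ ^ 10) ^ 3 + (ζ ^ 10) ^ 4 + (ζ ^ 10) ^ 5 + (ζ ^ 10) ^ 9 = ζ ^ 2 + ζ ^ 6 + ζ ^ 7 + ζ ^ 8 + ζ ^ 10 := by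
    simp only [← pow_mul]
    rw [show 10 * 3 = 11 * 2 + 8 from rfl, show 10 * 4 = 11 * 3 + 7 from rfl, show 10 * 5 = 11 * 4 + 6 from rfl, show 10 * 9 = 11 * 8 + 2 from rfl]
    simp only [e]
    ring
  have hB : (ζ ^ 10) ^ 2 + (ζ ^ 10) ^ 6 + (ζ ^ 10) ^ 7 + (ζ ^ 10) ^ 8 + (ζ ^ 10) ^ 10 = ζ + ζ ^ 3 + ζ ^ 4 + ζ ^ 5 + ζ ^ 9 := by
    simp only [← pow_mul]
    rw [show 10 * 2 = 11 * 1 + 9 from rfl, show 10 * 6 = 11 * 5 + 5 from rfl, show 10 * 7 = 11 * 6 + 4 from rfl, show 10 * 8 = 11 * 7 + 3 from rfl, show 10 * 10 = 11 * 9 + 1 from rfl]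
    simp only [e]
    ring
  rw [hA, hB] at hm'
  obtain ⟨h1, h2⟩ := quadratic_value (d := charDegree f) (N := 11) (a := f y) (η := ζ + ζ ^ 3 + ζ ^ 4 + ζ ^ 5 + ζ ^ 9)
    (η' := ζ ^ 2 + ζ ^ 6 + ζ ^ 7 + ζ ^ 8 + ζ ^ 10) (by norm_num) (by exact_mod_cast hm) (by exact_mod_cast hm')
    (by linear_combination zs)
    (by push_cast; linear_combination (11 - 11*ζ + ζ ^ 2 - 3*ζ ^ 3 + 5*ζ ^ 4 - 3*ζ ^ 5 + ζ ^ 6 - 3*ζ ^ 7 + 5*ζ ^ 8 - 3*ζ ^ 9 + ζ ^ 10 : ℂ) * zs)
  exact ⟨_, (m : ℤ) - m', h1, by exact_mod_cast h2, ⟨-((m : ℤ) + m'), by push_cast; ring⟩, by omega⟩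

/-- Both classes of an element not conjugate to its inverse. -/
theorem two_class_sums {y : G} {c : ℕ} (hconj : ¬ IsConj y y⁻¹)
    (hcard : Nat.card (Subgroup.centralizer ({y} : Set G)) * c = Nat.card G)
    [DecidablePred fun x => IsConj y x ∨ IsConj y⁻¹ x] (χ : IrrCharacter G) :
    (Finset.univ.filter fun x => IsConj y x ∨ IsConj y⁻¹ x).card = 2 * c ∧
    ∑ x ∈ Finset.univ.filter (fun x => IsConj y x ∨ IsConj y⁻¹ x), ‖(χ : G → ℂ) x‖ ^ 2 =
      (2 * c : ℕ) * ‖(χ : G → ℂ) y‖ ^ 2 ∧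
    ∑ x ∈ Finset.univ.filter (fun x => IsConj y x ∨ IsConj y⁻¹ x), ((χ : G → ℂ) x).re =
      (2 * c : ℕ) * ((χ : G → ℂ) y).re := by
  classical
  have hcls : ∀ u v : G, IsConj u v → (χ : G → ℂ) v = (χ : G → ℂ) u := fun u v h => by
    obtain ⟨g, rfl⟩ := isConj_iff.1 h
    exact isClassFunction_irr χ _ _
  have hinv : (χ : G → ℂ) y⁻¹ = conj ((χ : G → ℂ) y) := by
    obtain ⟨n, ρ, hρ⟩ := isCharacter_of_irr χ.2
    rw [← hρ]; exact character_inv ρ y
  have hdisj : Disjoint (Finset.univ.filter (IsConj y)) (Finset.univ.filter (IsConj y⁻¹)) :=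
    Finset.disjoint_filter.2 fun x _ h h' => hconj (h.trans h'.symm)
  have hsplit : Finset.univ.filter (fun x => IsConj y x ∨ IsConj y⁻¹ x) =
      Finset.univ.filter (IsConj y) ∪ Finset.univ.filter (IsConj y⁻¹) := by
    ext x; simp
  have hc : ∀ u : G, Nat.card (Subgroup.centralizer ({u} : Set G)) =
      Nat.card (Subgroup.centralizer ({y} : Set G)) →
      (Finset.univ.filter (IsConj u)).card = c := by
    intro u hu
    have h1 := card_isConj_mul u
    rw [hu, ← hcard, mul_comm] at h1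
    rw [← Nat.eq_of_mul_eq_mul_left Nat.card_pos h1, Nat.card_eq_fintype_card,
      Fintype.card_subtype]
  have h1 := hc y rfl
  have h2 := hc y⁻¹ (by
    congr 2
    ext x
    simp only [Subgroup.mem_centralizer_singleton_iff]
    exact ⟨fun h => by simpa using (Commute.inv_right (show Commute x y⁻¹ from h)).eq,
      fun h => (Commute.inv_right (show Commute x y from h)).eq⟩)
  rw [hsplit, Finset.card_union_of_disjoint hdisj, Finset.sum_union hdisj, Finset.sum_union hdisj,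
    h1, h2]
  have e1 : ∀ x ∈ Finset.univ.filter (IsConj y), (χ : G → ℂ) x = (χ : G → ℂ) y := fun x hx =>
    hcls y x (Finset.mem_filter.1 hx).2
  have e2 : ∀ x ∈ Finset.univ.filter (IsConj y⁻¹), (χ : G → ℂ) x = conj ((χ : G → ℂ) y) :=
    fun x hx => by rw [hcls y⁻¹ x (Finset.mem_filter.1 hx).2, hinv]
  refine ⟨by ring, ?_, ?_⟩
  · rw [Finset.sum_congr rfl fun x hx => by rw [e1 x hx],
      Finset.sum_congr (s₁ := Finset.univ.filter (IsConj y⁻¹)) rfl fun x hx => by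
        rw [e2 x hx, Complex.norm_conj]]
    rw [Finset.sum_const, Finset.sum_const, h1, h2]
    push_cast; simp; ring
  · rw [Finset.sum_congr rfl fun x hx => by rw [e1 x hx],
      Finset.sum_congr (s₁ := Finset.univ.filter (IsConj y⁻¹)) rfl fun x hx => by
        rw [e2 x hx, Complex.conj_re]]
    rw [Finset.sum_const, Finset.sum_const, h1, h2]
    push_cast; simp; ring

set_option maxHeartbeats 1000000 in
/-- A degree divisible by 128 is impossible in a group with the class data of M22. -/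
theorem no_defectZero_M22 (hG : Nat.card G = 443520) {y z : G}
    (hy : orderOf y = 7) (hy2 : IsConj y (y ^ 2)) (hyi : ¬ IsConj y y⁻¹)
    (hyC : Nat.card (Subgroup.centralizer ({y} : Set G)) = 7)
    (hz : orderOf z = 11) (hz3 : IsConj z (z ^ 3)) (hzi : ¬ IsConj z z⁻¹)
    (hzC : Nat.card (Subgroup.centralizer ({z} : Set G)) = 11) (χ : IrrCharacter G) :
    ¬ 128 ∣ charDegree (χ : G → ℂ) := by
  classical
  rintro ⟨m, hm⟩
  set f : G → ℂ := (χ : G → ℂ) with hf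
  have hdvd : charDegree f ∣ 443520 := by rw [← hG]; exact IsIrrCharacter.deg_dvd χ.2
  have hsq : charDegree f ^ 2 ≤ 443520 := by rw [← hG]; exact deg_sq_le χ
  have hm' : m = 1 ∨ m = 3 ∨ m = 5 := by
    have h0 : m ∣ 3465 := by
      rw [hm] at hdvd
      exact (Nat.mul_dvd_mul_iff_left (by norm_num : 0 < 128)).1 (by norm_num; exact hdvd)
    have h6 : m < 6 := by rw [hm] at hsq; nlinarith
    interval_cases m <;> first | omega | norm_num at h0
  obtain ⟨hn1, hs1, hr1⟩ := two_class_sums (c := 63360) hyi (by rw [hyC, hG]) χ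
  obtain ⟨hn2, hs2, hr2⟩ := two_class_sums (c := 40320) hzi (by rw [hzC, hG]) χ
  obtain ⟨t, δ, ht, hn, hdiv, hpar⟩ := value_seven (χ := χ) hy hy2
  obtain ⟨u, ε, hu, hnu, hdivu, hparu⟩ := value_eleven (χ := χ) hz hz3
  rw [← hf] at hdiv hdivu hn ht hnu hu
  set A := Finset.univ.filter fun x => IsConj y x ∨ IsConj y⁻¹ x with hA
  set B := Finset.univ.filter fun x => IsConj z x ∨ IsConj z⁻¹ x with hB
  have hord : ∀ (a x : G), IsConj a x ∨ IsConj a⁻¹ x → orderOf x = orderOf a := by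
    intro a x h
    rcases h with h | h <;> obtain ⟨c, rfl⟩ := isConj_iff.1 h
    · exact (MulAut.conj c).orderOf_eq a
    · exact ((MulAut.conj c).orderOf_eq a⁻¹).trans (orderOf_inv a)
  have hAB : Disjoint A B := Finset.disjoint_left.2 fun x hx hx' => by
    have e1 := hord y x (Finset.mem_filter.1 hx).2
    have e2 := hord z x (Finset.mem_filter.1 hx').2
    omega
  have h1 : (1 : G) ∉ A ∪ B := by
    rw [Finset.mem_union]
    rintro (h | h)
    · have := hord y 1 (Finset.mem_filter.1 h).2; rw [orderOf_one, hy] at this; omega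
    · have := hord z 1 (Finset.mem_filter.1 h).2; rw [orderOf_one, hz] at this; omega
  set R := (insert 1 (A ∪ B))ᶜ with hR
  have hRc : R.card = 236159 := by
    rw [hR, Finset.card_compl, Finset.card_insert_of_notMem h1,
      Finset.card_union_of_disjoint hAB, hn1, hn2, ← Nat.card_eq_fintype_card, hG]
  have hsum : ∀ F : G → ℝ, ∑ x, F x = F 1 + ∑ x ∈ A, F x + ∑ x ∈ B, F x + ∑ x ∈ R, F x := by
    intro F
    rw [hR, ← Finset.sum_add_sum_compl (insert 1 (A ∪ B)) F, Finset.sum_insert h1,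
      Finset.sum_union hAB]
    ring
  have v0 : f 1 = (charDegree f : ℂ) := IsCharacter.apply_one_eq_deg (isCharacter_of_irr χ.2)
  have hN := hsum fun x => ‖f x‖ ^ 2
  rw [sum_norm_sq_eq_card χ.2, hG, hs1, hs2] at hN
  simp only [v0, Complex.norm_natCast] at hN
  have hR0 : 0 ≤ ∑ x ∈ R, ‖f x‖ ^ 2 := Finset.sum_nonneg fun x _ => sq_nonneg _
  have hmain : (charDegree f : ℤ) ^ 2 + 31680 * (t ^ 2 + 7 * δ ^ 2) + 20160 * (u ^ 2 + 11 * ε ^ 2)
      ≤ 443520 := by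
    have : (charDegree f : ℝ) ^ 2 + 31680 * ((t ^ 2 + 7 * δ ^ 2 : ℤ) : ℝ) +
        20160 * ((u ^ 2 + 11 * ε ^ 2 : ℤ) : ℝ) ≤ 443520 := by
      rw [← hn, ← hnu]; push_cast at hN ⊢; linarith
    exact_mod_cast this
  have hbt : -3 ≤ t ∧ t ≤ 3 ∧ -1 ≤ δ ∧ δ ≤ 1 ∧ -4 ≤ u ∧ u ≤ 4 ∧ -1 ≤ ε ∧ ε ≤ 1 := by
    have hd : (128 : ℤ) ≤ charDegree f := by rw [hm]; rcases hm' with rfl | rfl | rfl <;> norm_num
    refine ⟨?_, ?_, ?_, ?_, ?_, ?_, ?_, ?_⟩ <;>
      nlinarith [sq_nonneg t, sq_nonneg δ, sq_nonneg u, sq_nonneg ε]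
  obtain ⟨b1, b2, b3, b4, b5, b6, b7, b8⟩ := hbt
  rw [hm] at hdiv hdivu hmain
  rcases hm' with rfl | rfl | rfl
  · push_cast at hdiv hmain
    interval_cases t <;> interval_cases δ <;>
      first | omega | nlinarith [sq_nonneg u, sq_nonneg ε]
  swap
  · push_cast at hdiv hmain
    interval_cases t <;> interval_cases δ <;>
      first | omega | nlinarith [sq_nonneg u, sq_nonneg ε]
  · push_cast at hdiv hdivu hmain
    have htv : t = -2 ∧ δ = 0 := by
      interval_cases t <;> interval_cases δ <;>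
        first | omega | nlinarith [sq_nonneg u, sq_nonneg ε]
    obtain ⟨rfl, rfl⟩ := htv
    have huv : u = -2 ∧ ε = 0 := by
      interval_cases u <;> interval_cases ε <;> omega
    obtain ⟨rfl, rfl⟩ := huv
    rw [hm] at hN v0
    have hrest : ∑ x ∈ R, ‖f x‖ ^ 2 = 88704 := by
      push_cast at hN hn hnu ⊢
      linarith
    have hone : χ ≠ principal G := by
      intro h
      rw [hf, h] at v0
      rw [show ((principal G : IrrCharacter G) : G → ℂ) 1 = 1 from rfl] at v0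
      norm_num at v0
    have h0 : ∑ x, (f x).re = 0 := by
      have h := classInner_irr_ne hone
      rw [classInner_def, mul_eq_zero] at h
      rcases h with h | h
      · exact absurd h (inv_ne_zero (Nat.cast_ne_zero.2 Nat.card_pos.ne'))
      · have h' := congrArg Complex.re h
        rw [Complex.re_sum] at h'
        simpa [show ∀ x, ((principal G : IrrCharacter G) : G → ℂ) x = 1 from fun _ => rfl, hf] using h'
    rw [hsum fun x => (f x).re, hr1, hr2] at h0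
    simp only [v0, Complex.natCast_re] at h0
    have hre : ∑ x ∈ R, (f x).re = 206976 := by
      push_cast at h0 ht hu ⊢
      linarith
    have hcs := sq_sum_le_card_mul_sum_sq (s := R) (f := fun x => (f x).re)
    rw [hre, hRc] at hcs
    have hle : ∑ x ∈ R, (f x).re ^ 2 ≤ 88704 := by
      rw [← hrest]
      exact Finset.sum_le_sum fun x _ => by
        rw [← sq_abs]; exact pow_le_pow_left₀ (abs_nonneg _) (Complex.abs_re_le_norm _) 2
    push_cast at hcs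
    nlinarith

/-- **M22 has one 2-block.** -/
theorem sameBlock_M22 (M : Ideal AlgInt) (hM : IsPModular 2 M)
    (χ ψ : IrrCharacter Spor.M22) : SameBlock M (χ : Spor.M22 → ℂ) (ψ : Spor.M22 → ℂ) := by
  classical
  haveI := Fintype.ofFinite Spor.M22
  haveI : Fact (Nat.Prime 2) := ⟨Nat.prime_two⟩
  open Golay.M22Block in
  obtain ⟨y, hy, hy2, hyi, hyC⟩ := element_spec (by norm_num : Nat.Prime 7) (Or.inl rfl)
    orbit_ok.1 (by norm_num)
  obtain ⟨z, hz, hz3, hzi, hzC⟩ := Golay.M22Block.element_spec (by norm_num : Nat.Prime 11)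
    (Or.inr rfl) Golay.M22Block.orbit_ok.2 (by norm_num)
  have key : ∀ φ : IrrCharacter Spor.M22, φ ∈ principalBlock M Spor.M22 := by
    refine mem_principalBlock_of_constrained hM (fun g hg => ?_) fun φ => ?_
    · refine ⟨Golay.M22Block.fixCent g, fun x hx => Subgroup.mem_centralizer_singleton_iff.2 hx.1,
        Golay.M22Block.isPGroup_fixCent hg, Golay.M22Block.centralizer_le_normalizer_fixCent g,
        fun x hx hxQ => Golay.M22Block.mem_fixCent_of_commute hg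
          (Subgroup.mem_centralizer_singleton_iff.1 hx) fun e he => hxQ e he⟩
    · rw [Golay.card_M22, Golay.M22Block.factorization_M22.1]
      by_contra hlt
      push Not at hlt
      refine no_defectZero_M22 Golay.card_M22 hy hy2 hyi hyC hz hz3 hzi hzC φ ?_
      exact (pow_dvd_pow 2 hlt).trans (Nat.ordProj_dvd _ _)
  exact IsPBlock.sameBlock hM ⟨principal _, rfl⟩ (key χ) (key ψ)

end Cfsg.Lib.Blocks
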