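import Cfsg.Agent.Golay.M24Block
import Cfsg.Agent.Blocks.ConstrainedInvolution
import Cfsg.Agent.Blocks.M22OneBlock
import Cfsg.Agent.Blocks.Eigen
import Cfsg.Agent.Blocks.ZeroCounting
import Cfsg.Agent.Blocks.Feit3

/-!
# M24 has a single 2-block

The squared absolute values at the elements of order 23, 11, 7, 5, 15 and 21 are rational integers
subject to congruences; together they exceed the group order for a degree divisible by 1024.
-/

set_option autoImplicit false
set_option linter.unusedSectionVars false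
set_option Elab.async false

namespace Cfsg.Lib.Blocks

open Cfsg.Lib.Chars
open scoped ComplexConjugate

universe u

variable {G : Type u} [Group G] [Fintype G]

/-- The squared absolute value at a real-rational element is a natural number. -/
theorem exists_normSq_nat (χ : IrrCharacter G) {y : G} {N : ℕ} (hy : orderOf y = N)
    (hc : ∀ k : ℕ, k.Coprime N → IsConj y (y ^ k) ∨ IsConj y⁻¹ (y ^ k)) :
    ∃ n : ℕ, (χ : G → ℂ) y * (χ : G → ℂ) y⁻¹ = (n : ℂ) ∧ ‖(χ : G → ℂ) y‖ ^ 2 = n := by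
  have hχ := isCharacter_of_irr χ.2
  set f : G → ℂ := (χ : G → ℂ) with hf
  have hcls : ∀ {u v : G}, IsConj u v → f v = f u := fun h => by
    obtain ⟨c, rfl⟩ := isConj_iff.1 h
    exact isClassFunction_irr χ _ _
  have hcinv : ∀ {u v : G}, IsConj u v → IsConj u⁻¹ v⁻¹ := fun h => by
    obtain ⟨c, rfl⟩ := isConj_iff.1 h
    exact isConj_iff.2 ⟨c, (conj_inv).symm⟩
  haveI : NeZero (Nat.card G) := ⟨Nat.card_pos.ne'⟩
  have hord : ∀ u : G, orderOf u ∣ Nat.card G := fun u => orderOf_dvd_natCard u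
  obtain ⟨q, hq⟩ := rat_of_galConj_fixed (m := Nat.card G)
    (mul_mem (IsCharacter.mem_cycField hχ (hord y)) (IsCharacter.mem_cycField hχ (hord y⁻¹)))
    fun σ k hk hσ => by
      rw [map_mul, IsGalConj.apply_character hσ hχ (hord _), IsGalConj.apply_character hσ hχ (hord _),
        inv_pow]
      rcases hc k (hk.coprime_dvd_right (hy ▸ hord y)) with h | h
      · rw [hcls h, hcls (hcinv h)]
      · have h2 := hcinv h
        rw [inv_inv] at h2
        rw [hcls h, hcls h2, mul_comm]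
  obtain ⟨z, hz⟩ := int_of_isIntegral_rat (q := q)
    (hq ▸ (IsCharacter.isIntegral hχ _).mul (IsCharacter.isIntegral hχ _))
  have hn : f y * f y⁻¹ = ((‖f y‖ ^ 2 : ℝ) : ℂ) := by
    rw [IsCharacter.conj_inv hχ y, Complex.mul_conj']; push_cast; ring
  have hzr : ‖f y‖ ^ 2 = (z : ℝ) := by
    have : ((‖f y‖ ^ 2 : ℝ) : ℂ) = ((z : ℝ) : ℂ) := by rw [← hn, hq, hz]; simp
    exact_mod_cast this
  have hz0 : (0 : ℤ) ≤ z := by
    have : (0 : ℝ) ≤ (z : ℝ) := hzr ▸ sq_nonneg _
    exact_mod_cast this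
  obtain ⟨n, rfl⟩ := Int.eq_ofNat_of_zero_le hz0
  exact ⟨n, by rw [hn, hzr]; simp, by rw [hzr]; simp⟩

/-- The squared absolute values at an element and at its part prime to `p` are congruent. -/
theorem normSq_congr {p : ℕ} (hp : p.Prime) {χ : G → ℂ} (hχ : IsCharacter G χ) {u v : G}
    (huv : Commute u v) (hu : ∃ k, orderOf u = p ^ k) (hv : ¬ p ∣ orderOf v) {a b : ℤ}
    (ha : χ (u * v) * χ (u * v)⁻¹ = (a : ℂ)) (hb : χ v * χ v⁻¹ = (b : ℂ)) : (p : ℤ) ∣ a - b := by
  obtain ⟨M, hM⟩ := exists_isPModular hp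
  have h1 : Small M (χ (u * v) - χ v) := small_apply_mul_sub hM hχ huv hu hv
  have h2 : Small M (χ (u * v)⁻¹ - χ v⁻¹) := by
    rw [huv.eq, mul_inv_rev]
    exact small_apply_mul_sub hM hχ huv.inv_inv (by rw [orderOf_inv]; exact hu)
      (by rw [orderOf_inv]; exact hv)
  have hint : ∀ g : G, χ g ∈ place M := fun g => isIntegral_mem_place hM (IsCharacter.isIntegral hχ g)
  have h : Small M ((a - b : ℤ) : ℂ) := by
    rw [Int.cast_sub, ← ha, ← hb,
      show χ (u * v) * χ (u * v)⁻¹ - χ v * χ v⁻¹ =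
        (χ (u * v) - χ v) * χ (u * v)⁻¹ + χ v * (χ (u * v)⁻¹ - χ v⁻¹) by ring]
    exact (h1.mul_mem (hint _)).add (h2.mem_mul (hint _))
  exact (small_intCast_iff hM _).1 h

/-- The squared value at an element of prime order is congruent to the squared degree. -/
theorem normSq_congr_one {p : ℕ} (hp : p.Prime) (χ : IrrCharacter G) {u : G} (hu : orderOf u = p)
    {a : ℕ} (ha : (χ : G → ℂ) u * (χ : G → ℂ) u⁻¹ = (a : ℂ)) :
    a % p = charDegree (χ : G → ℂ) ^ 2 % p := by
  have h1 : ¬ p ∣ orderOf (1 : G) := by rw [orderOf_one]; exact fun h => hp.one_lt.ne' (Nat.dvd_one.1 h)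
  have h := normSq_congr hp (isCharacter_of_irr χ.2) (Commute.one_right u) ⟨1, by rw [hu, pow_one]⟩ h1
    (a := (a : ℤ)) (b := ((charDegree (χ : G → ℂ) ^ 2 : ℕ) : ℤ)) (by rw [mul_one]; exact_mod_cast ha)
    (by
      have v0 : (χ : G → ℂ) 1 = (charDegree (χ : G → ℂ) : ℂ) :=
        IsCharacter.apply_one_eq_deg (isCharacter_of_irr χ.2)
      rw [inv_one, v0]; push_cast; ring)
  exact ((Nat.modEq_iff_dvd.2 h).symm)

/-- The contribution of a class to the sum of the squared absolute values. -/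
theorem one_class_sum (χ : IrrCharacter G) (y : G) {c : ℕ}
    (hc : c * Nat.card (Subgroup.centralizer ({y} : Set G)) ≤ Nat.card G)
    [DecidablePred fun x => IsConj y x] :
    (c : ℝ) * ‖(χ : G → ℂ) y‖ ^ 2 ≤
      ∑ x ∈ Finset.univ.filter (fun x => IsConj y x), ‖(χ : G → ℂ) x‖ ^ 2 := by
  have h := card_isConj_mul y
  rw [Nat.card_eq_fintype_card (α := {x : G // IsConj y x}), Fintype.card_subtype] at h
  have hle : c ≤ (Finset.univ.filter (fun x => IsConj y x)).card := by
    refine Nat.le_of_mul_le_mul_right ?_ (Nat.card_pos (α := Subgroup.centralizer ({y} : Set G)))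
    rw [mul_comm] at h
    exact hc.trans (le_of_eq (by linarith))
  rw [Finset.sum_congr rfl (g := fun _ => ‖(χ : G → ℂ) y‖ ^ 2) fun x hx => by
    obtain ⟨g, rfl⟩ := isConj_iff.1 (Finset.mem_filter.1 hx).2
    rw [show (χ : G → ℂ) (g * y * g⁻¹) = (χ : G → ℂ) y from isClassFunction_irr χ _ _], Finset.sum_const, nsmul_eq_mul]
  exact mul_le_mul_of_nonneg_right (by exact_mod_cast hle) (sq_nonneg _)

set_option maxHeartbeats 1000000 in
/-- A degree divisible by 1024 is impossible in a group with the class data of M24. -/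
theorem no_degree_M24 (hG : Nat.card G = 244823040) {y23 y15 y21 y11 y7 y5 : G}
    (o23 : orderOf y23 = 23) (o15 : orderOf y15 = 15) (o21 : orderOf y21 = 21)
    (o11 : orderOf y11 = 11) (o7 : orderOf y7 = 7) (o5 : orderOf y5 = 5)
    (c23 : ∀ k : ℕ, k.Coprime 23 → IsConj y23 (y23 ^ k) ∨ IsConj y23⁻¹ (y23 ^ k))
    (c15 : ∀ k : ℕ, k.Coprime 15 → IsConj y15 (y15 ^ k) ∨ IsConj y15⁻¹ (y15 ^ k))
    (c21 : ∀ k : ℕ, k.Coprime 21 → IsConj y21 (y21 ^ k) ∨ IsConj y21⁻¹ (y21 ^ k))
    (c11 : ∀ k : ℕ, k.Coprime 11 → IsConj y11 (y11 ^ k) ∨ IsConj y11⁻¹ (y11 ^ k))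
    (c7 : ∀ k : ℕ, k.Coprime 7 → IsConj y7 (y7 ^ k) ∨ IsConj y7⁻¹ (y7 ^ k))
    (c5 : ∀ k : ℕ, k.Coprime 5 → IsConj y5 (y5 ^ k) ∨ IsConj y5⁻¹ (y5 ^ k))
    (i23 : ¬ IsConj y23 y23⁻¹) (i15 : ¬ IsConj y15 y15⁻¹) (i21 : ¬ IsConj y21 y21⁻¹)
    (i7 : ¬ IsConj y7 y7⁻¹)
    (C23 : Nat.card (Subgroup.centralizer ({y23} : Set G)) = 23)
    (C15 : Nat.card (Subgroup.centralizer ({y15} : Set G)) = 15)
    (C21 : Nat.card (Subgroup.centralizer ({y21} : Set G)) = 21)
    (C11 : Nat.card (Subgroup.centralizer ({y11} : Set G)) = 11)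
    (C7 : Nat.card (Subgroup.centralizer ({y7} : Set G)) = 42)
    (C5 : Nat.card (Subgroup.centralizer ({y5} : Set G)) ≤ 60)
    (p15 : IsConj (y15 ^ 6) y5) (p21 : IsConj (y21 ^ 15) y7) (χ : IrrCharacter G) :
    ¬ 1024 ∣ charDegree (χ : G → ℂ) := by
  classical
  rintro ⟨m, hm⟩
  set f : G → ℂ := (χ : G → ℂ) with hf
  have hχ := isCharacter_of_irr χ.2
  have hdvd : charDegree f ∣ 244823040 := by rw [← hG]; exact IsIrrCharacter.deg_dvd χ.2
  have hsq : charDegree f ^ 2 ≤ 244823040 := by rw [← hG]; exact deg_sq_le χ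
  have hm15 : m ≤ 15 := by rw [hm] at hsq; nlinarith
  have hmd : m ∣ 239085 := by
    rw [hm] at hdvd
    exact (Nat.mul_dvd_mul_iff_left (by norm_num : 0 < 1024)).1 (by norm_num; exact hdvd)
  obtain ⟨A, hA, hA'⟩ := exists_normSq_nat χ o23 c23
  obtain ⟨B, hB, hB'⟩ := exists_normSq_nat χ o11 c11
  obtain ⟨C, hC, hC'⟩ := exists_normSq_nat χ o7 c7
  obtain ⟨E, hE, hE'⟩ := exists_normSq_nat χ o5 c5
  obtain ⟨F, hF, hF'⟩ := exists_normSq_nat χ o15 c15
  obtain ⟨H, hH, hH'⟩ := exists_normSq_nat χ o21 c21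
  have mA := normSq_congr_one (by norm_num : Nat.Prime 23) χ o23 hA
  have mB := normSq_congr_one (by norm_num : Nat.Prime 11) χ o11 hB
  have mC := normSq_congr_one (by norm_num : Nat.Prime 7) χ o7 hC
  have mE := normSq_congr_one (by norm_num : Nat.Prime 5) χ o5 hE
  have hval : ∀ {a b : G}, IsConj a b → f a * f a⁻¹ = f b * f b⁻¹ := fun h => by
    obtain ⟨c, rfl⟩ := isConj_iff.1 h
    have e1 : ∀ u : G, f (c * u * c⁻¹) = f u := fun u => isClassFunction_irr χ _ _
    rw [conj_inv, e1, e1]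
  have mF : (3 : ℤ) ∣ (F : ℤ) - E := by
    refine normSq_congr (χ := f) Nat.prime_three hχ (u := y15 ^ 10) (v := y15 ^ 6)
      (Commute.pow_pow_self _ _ _) ⟨1, ?_⟩ ?_ ?_ ?_
    · rw [orderOf_pow, o15]; norm_num
    · rw [orderOf_pow, o15]; norm_num
    · rw [← pow_add, pow_eq_pow_mod (n := 15) 16 (by rw [← o15, pow_orderOf_eq_one]), pow_one]
      exact_mod_cast hF
    · rw [hval p15]; exact_mod_cast hE
  have mH : (3 : ℤ) ∣ (H : ℤ) - C := by
    refine normSq_congr (χ := f) Nat.prime_three hχ (u := y21 ^ 7) (v := y21 ^ 15)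
      (Commute.pow_pow_self _ _ _) ⟨1, ?_⟩ ?_ ?_ ?_
    · rw [orderOf_pow, o21]; norm_num
    · rw [orderOf_pow, o21]; norm_num
    · rw [← pow_add, pow_eq_pow_mod (n := 21) 22 (by rw [← o21, pow_orderOf_eq_one]), pow_one]
      exact_mod_cast hH
    · rw [hval p21]; exact_mod_cast hC
  obtain ⟨-, s23, -⟩ := two_class_sums (c := 10644480) i23 (by rw [C23, hG]) χ
  obtain ⟨-, s15, -⟩ := two_class_sums (c := 16321536) i15 (by rw [C15, hG]) χ
  obtain ⟨-, s21, -⟩ := two_class_sums (c := 11658240) i21 (by rw [C21, hG]) χ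
  obtain ⟨-, s7, -⟩ := two_class_sums (c := 5829120) i7 (by rw [C7, hG]) χ
  have s11 := one_class_sum χ y11 (c := 22256640) (by rw [C11, hG])
  have s5 := one_class_sum χ y5 (c := 4080384) (by rw [hG]; omega)
  set S23 := Finset.univ.filter fun x => IsConj y23 x ∨ IsConj y23⁻¹ x with hS23
  set S15 := Finset.univ.filter fun x => IsConj y15 x ∨ IsConj y15⁻¹ x with hS15
  set S21 := Finset.univ.filter fun x => IsConj y21 x ∨ IsConj y21⁻¹ x with hS21
  set S7 := Finset.univ.filter fun x => IsConj y7 x ∨ IsConj y7⁻¹ x with hS7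
  set S11 := Finset.univ.filter fun x => IsConj y11 x with hS11
  set S5 := Finset.univ.filter fun x => IsConj y5 x with hS5
  have hord : ∀ {a x : G}, IsConj a x → orderOf x = orderOf a := fun {a x} h => by
    obtain ⟨c, rfl⟩ := isConj_iff.1 h
    exact (MulAut.conj c).orderOf_eq a
  have hord' : ∀ {a x : G}, IsConj a x ∨ IsConj a⁻¹ x → orderOf x = orderOf a := fun h =>
    h.elim hord fun h => (hord h).trans (orderOf_inv _)
  have e23 : ∀ x ∈ S23, orderOf x = 23 := fun x hx => (hord' (Finset.mem_filter.1 hx).2).trans o23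
  have e15 : ∀ x ∈ S15, orderOf x = 15 := fun x hx => (hord' (Finset.mem_filter.1 hx).2).trans o15
  have e21 : ∀ x ∈ S21, orderOf x = 21 := fun x hx => (hord' (Finset.mem_filter.1 hx).2).trans o21
  have e7 : ∀ x ∈ S7, orderOf x = 7 := fun x hx => (hord' (Finset.mem_filter.1 hx).2).trans o7
  have e11 : ∀ x ∈ S11, orderOf x = 11 := fun x hx => (hord (Finset.mem_filter.1 hx).2).trans o11
  have e5 : ∀ x ∈ S5, orderOf x = 5 := fun x hx => (hord (Finset.mem_filter.1 hx).2).trans o5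
  have h1 : ∀ x ∈ ({1} : Finset G), orderOf x = 1 := fun x hx => by
    rw [Finset.mem_singleton.1 hx, orderOf_one]
  have part : ∀ (n : ℕ) (T : Finset G), (∀ x ∈ T, orderOf x = n) →
      ∑ x ∈ T, ‖f x‖ ^ 2 ≤ ∑ x ∈ Finset.univ.filter (fun x => orderOf x = n), ‖f x‖ ^ 2 := fun n T hT =>
    Finset.sum_le_sum_of_subset_of_nonneg
      (fun x hx => Finset.mem_filter.2 ⟨Finset.mem_univ _, hT x hx⟩) fun x _ _ => sq_nonneg _
  have htot : ∑ n ∈ ({1, 23, 15, 21, 7, 11, 5} : Finset ℕ),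
      ∑ x ∈ Finset.univ.filter (fun x : G => orderOf x = n), ‖f x‖ ^ 2 ≤ 244823040 := by
    rw [Finset.sum_fiberwise_eq_sum_filter]
    refine (Finset.sum_le_sum_of_subset_of_nonneg (Finset.filter_subset _ _) fun x _ _ => sq_nonneg _).trans ?_
    rw [sum_norm_sq_eq_card χ.2, hG]; norm_num
  rw [Finset.sum_insert (by decide), Finset.sum_insert (by decide), Finset.sum_insert (by decide),
    Finset.sum_insert (by decide), Finset.sum_insert (by decide), Finset.sum_insert (by decide),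
    Finset.sum_singleton] at htot
  have t1 := part 1 {1} h1
  have v0 : f 1 = (charDegree f : ℂ) := IsCharacter.apply_one_eq_deg hχ
  rw [Finset.sum_singleton, v0, Complex.norm_natCast] at t1
  have t23 := part 23 S23 e23
  have t15 := part 15 S15 e15
  have t21 := part 21 S21 e21
  have t7 := part 7 S7 e7
  have t11 := s11.trans (part 11 S11 e11)
  have t5 := s5.trans (part 5 S5 e5)
  rw [s23, hA'] at t23
  rw [s15, hF'] at t15
  rw [s21, hH'] at t21
  rw [s7, hC'] at t7
  rw [hB'] at t11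
  rw [hE'] at t5
  have hmain : (charDegree f ^ 2 : ℕ) + 21288960 * A + 32643072 * F + 23316480 * H + 11658240 * C +
      22256640 * B + 4080384 * E ≤ 244823040 := by
    rify
    push_cast at t1 t23 t15 t21 t7 t11 t5
    linarith
  rw [hm] at mA mB mC mE hmain
  clear htot t1 t23 t15 t21 t7 t11 t5
  have hF3 : E % 3 ≤ F := by omega
  have hH3 : C % 3 ≤ H := by omega
  clear mF mH hdvd hsq hE' hF' hH' hA' hB' hC'
  interval_cases m <;> first | omega | (norm_num at hmd mA mB mC mE hmain <;> first | omega |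
    (have hC25 : C ≤ 25 := by omega
     interval_cases C <;> first | omega |
       (have hE60 : E ≤ 70 := by omega
        interval_cases E <;> omega)))

end Cfsg.Lib.Blocks

namespace Cfsg.Lib.Golay.M24Block

open Cfsg Cfsg.Lib.PermCert Cfsg.Lib.Blocks

theorem conjs_ok : conjOK pw23 el23 el23 1 2 = true ∧ conjOK pw15 el15 el15 1 2 = true ∧
    conjOK pw21 el21 el21 1 2 = true ∧ conjOK pw11 el11 el11 1 3 = true ∧
    conjOK pw5 el5 el5 1 2 = true ∧ conjOK pw7 elSeven.1 elSeven.1 1 2 = true ∧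
    conjOK to5 el15 el5 6 1 = true ∧ conjOK to7 el21 elSeven.1 15 1 = true := by decide +kernel

/-- Every residue prime to `N` is `± bⁱ`. -/
def genOK (b N : ℕ) : Bool :=
  (List.range N).all fun r => !(Nat.gcd r N == 1) ||
    (List.range N).any fun i => b ^ i % N == r || (N - 1) * b ^ i % N == r

theorem gens_ok : genOK 2 23 = true ∧ genOK 2 15 = true ∧ genOK 2 21 = true ∧ genOK 3 11 = true ∧
    genOK 2 7 = true ∧ genOK 2 5 = true := by decide +kernel

theorem conj_powers {G : Type*} [Group G] [Finite G] {y : G} {b N : ℕ} (hy : orderOf y = N)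
    (hb : IsConj y (y ^ b)) (h : genOK b N = true) (k : ℕ) (hk : k.Coprime N) :
    IsConj y (y ^ k) ∨ IsConj y⁻¹ (y ^ k) := by
  have hN : 0 < N := hy ▸ orderOf_pos y
  have hpow : ∀ i : ℕ, IsConj y (y ^ b ^ i) := fun i => by
    induction i with
    | zero => rw [pow_zero, pow_one]
    | succ i ih =>
      refine hb.trans ?_
      obtain ⟨c, hc⟩ := isConj_iff.1 ih
      exact isConj_iff.2 ⟨c, by rw [← conj_pow, hc, ← pow_mul, ← pow_succ]⟩
  simp only [genOK, List.all_eq_true, List.mem_range, Bool.or_eq_true, Bool.not_eq_true',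
    List.any_eq_true, beq_iff_eq, beq_eq_false_iff_ne] at h
  have hr : Nat.gcd (k % N) N = 1 := by
    rw [← Nat.gcd_rec, Nat.gcd_comm]; exact hk
  have hyN : y ^ N = 1 := by rw [← hy, pow_orderOf_eq_one]
  rcases h (k % N) (Nat.mod_lt _ hN) with h' | ⟨i, -, hi | hi⟩
  · exact absurd hr h'
  · exact Or.inl (by rw [pow_eq_pow_mod k hyN, ← hi, ← pow_eq_pow_mod _ hyN]; exact hpow i)
  · refine Or.inr ?_
    rw [pow_eq_pow_mod k hyN, ← hi, ← pow_eq_pow_mod _ hyN, pow_mul]
    have e : y ^ (N - 1) = y⁻¹ := by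
      refine eq_inv_of_mul_eq_one_left ?_
      rw [← pow_succ, Nat.sub_add_cancel hN, hyN]
    rw [e, inv_pow]
    obtain ⟨c, hc⟩ := isConj_iff.1 (hpow i)
    exact isConj_iff.2 ⟨c, by rw [← hc, conj_inv]⟩

theorem orderOf_mkM {s : PP} {N : ℕ} (hp : preserves s = true) (h : orderOK s N = true) :
    orderOf (mkM s hp) = N := by
  rw [← Subgroup.orderOf_coe]; exact orderOf_of_orderOK h

theorem card_cent_mkM {s : PP} (hp : preserves s = true) :
    Nat.card (Subgroup.centralizer ({mkM s hp} : Set M24)) = Nat.card (cent (toP s)) :=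
  card_centralizer_eq _

theorem seven_order : orderOK elSeven.1 7 = true := by decide +kernel

theorem factorization_card : (244823040 : ℕ).factorization 2 = 10 := by
  have h1 := Nat.prime_two.pow_dvd_iff_le_factorization (k := 10) (n := 244823040) (by norm_num)
  have h2 := Nat.prime_two.pow_dvd_iff_le_factorization (k := 11) (n := 244823040) (by norm_num)
  have := h1.1 (by norm_num)
  have : ¬ 11 ≤ (244823040 : ℕ).factorization 2 := fun h => absurd (h2.2 h) (by norm_num)
  omega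

/-- **M24 has one 2-block.** -/
theorem sameBlock_M24 (M : Ideal AlgInt) (hM : IsPModular 2 M) (χ ψ : IrrCharacter M24) :
    SameBlock M (χ : M24 → ℂ) (ψ : M24 → ℂ) := by
  classical
  haveI := Fintype.ofFinite M24
  haveI : Fact (Nat.Prime 2) := ⟨Nat.prime_two⟩
  obtain ⟨m23, m15, m21, m11, m5, m7⟩ := el_mem
  obtain ⟨o23, o15, o21, o11, o5⟩ := orders_ok
  obtain ⟨k23, k15, k21, k11, k5, k7, k56, k715⟩ := conjs_ok
  obtain ⟨g23, g15, g21, g11, g7, g5⟩ := gens_ok
  have hp : ∀ {s h : PP} {b N : ℕ} (hs : preserves s = true), orderOK s N = true →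
      conjOK h s s 1 b = true → genOK b N = true → ∀ k : ℕ, k.Coprime N →
        IsConj (mkM s hs) (mkM s hs ^ k) ∨ IsConj (mkM s hs)⁻¹ (mkM s hs ^ k) := by
    intro s h b N hs ho hc hg
    have := isConj_of_conjOK hs hs hc
    rw [pow_one] at this
    exact conj_powers (orderOf_mkM hs ho) this hg
  have key : ∀ φ : IrrCharacter M24, φ ∈ principalBlock M M24 := by
    refine Cfsg.Lib.Blocks.mem_principalBlock_of_constrained hM (fun g hg => exists_constrained g hg) fun φ => ?_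
    rw [card_M24, factorization_card]
    by_contra hlt
    push Not at hlt
    refine Cfsg.Lib.Blocks.no_degree_M24 card_M24 (orderOf_mkM m23 o23) (orderOf_mkM m15 o15)
      (orderOf_mkM m21 o21) (orderOf_mkM m11 o11) (orderOf_mkM m7 seven_order) (orderOf_mkM m5 o5)
      (hp m23 o23 k23 g23) (hp m15 o15 k15 g15) (hp m21 o21 k21 g21) (hp m11 o11 k11 g11)
      (hp m7 seven_order k7 g7) (hp m5 o5 k5 g5)
      (not_isConj_inv m23 o23 (r := 0) (by norm_num) ⟨11, rfl⟩ (by norm_num) card_cent_23 invFree_ok.1)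
      (not_isConj_inv m15 o15 (r := 0) (by norm_num) ⟨7, rfl⟩ (by norm_num) card_cent_15 invFree_ok.2.1)
      (not_isConj_inv m21 o21 (r := 0) (by norm_num) ⟨10, rfl⟩ (by norm_num) card_cent_21 invFree_ok.2.2)
      not_isConj_inv_seven
      ((card_cent_mkM m23).trans card_cent_23) ((card_cent_mkM m15).trans card_cent_15)
      ((card_cent_mkM m21).trans card_cent_21) ((card_cent_mkM m11).trans card_cent_11)
      ((card_cent_mkM m7).trans card_cent_7) ((card_cent_mkM m5).le.trans card_cent_5)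
      (by have := isConj_of_conjOK m15 m5 k56; rwa [pow_one] at this)
      (by have := isConj_of_conjOK m21 m7 k715; rwa [pow_one] at this) φ ?_
    exact (pow_dvd_pow 2 hlt).trans (Nat.ordProj_dvd _ _)
  exact Cfsg.Lib.Blocks.IsPBlock.sameBlock hM ⟨Cfsg.Lib.Chars.principal _, rfl⟩ (key χ) (key ψ)

end Cfsg.Lib.Golay.M24Block
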