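import Mathlib
import Cfsg.Agent.Blocks.Nilpotent
import Cfsg.Agent.Blocks.Columns

/-!
# Nilpotency under extensions of index a power of the prime
-/

set_option autoImplicit false
set_option linter.unusedSectionVars false
set_option linter.style.haveILetI false

namespace Cfsg.Lib.Blocks

open Cfsg Cfsg.Lib.Chars

universe u

variable {G : Type u} [Group G] [Fintype G] {M : Ideal AlgInt} {p : ℕ}

local notation "C⟨" Q "⟩" => Subgroup.centralizer (SetLike.coe Q)

/-- Block idempotents are supported in a normal subgroup of index a power of the prime. -/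
lemma suppOn_bi_of_index (hM : IsPModular p M) (N : Subgroup G) [N.Normal] {k : ℕ}
    (hidx : N.index = p ^ k) {K : Subgroup G} {e : Set (IrrCharacter K)} (he : IsPBlock M e) :
    SuppOn (K ⊓ N) (bi M K e) := by
  classical
  letI := Fintype.ofFinite K
  intro g hg
  by_cases hK : g ∈ K
  · have hgN : g ∉ N := fun h => hg ⟨hK, h⟩
    rw [bi, fn_ofFn, subgroupBlockCoeff, dif_pos hK, blockCoeff_eq_zero_of_singular hM he ?_,
      res_zero]
    rw [← Subgroup.orderOf_coe]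
    by_contra h
    exact hgN (mem_of_pRegular_of_index_eq_pow hM.1 N hidx h)
  · exact suppOn_bi e g hK

/-- A block of a subgroup either lies under a block of the overgroup or is orthogonal to it, when
the index is a power of the prime. -/
lemma bi_mul_sub_eq_or (hM : IsPModular p M) (N : Subgroup G) [N.Normal] {k : ℕ}
    (hidx : N.index = p ^ k) {K : Subgroup G} {e : Set (IrrCharacter K)} (he : IsPBlock M e)
    {d : Set (IrrCharacter (K ⊓ N : Subgroup G))} (hd : IsPBlock M d) :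
    bi M K e * bi M (K ⊓ N) d = bi M (K ⊓ N) d ∨ bi M K e * bi M (K ⊓ N) d = 0 := by
  classical
  letI := Fintype.ofFinite (K ⊓ N : Subgroup G)
  exact mul_bi_eq_or hM (suppOn_bi_of_index hM N hidx he) ((invOn_bi e).mono inf_le_left)
    (bi_mul_self hM he) hd

/-- A nilpotent block of a group gives a nilpotent block on the normal subgroup. -/
theorem nilpotent_normal_of_nilpotent [Fact p.Prime] (hM : IsPModular p M) (N : Subgroup G)
    [N.Normal] {k : ℕ} (hidx : N.index = p ^ k) {c : Set (IrrCharacter N)} (hc : IsPBlock M c)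
    {B : Set (IrrCharacter G)} (hbB : red M (blockElem B) = bi M N c)
    (hnil : IsNilpotentBlock p M B) : IsNilpotentBlock p M c := by
  classical
  haveI := charP_res hM
  letI := Fintype.ofFinite N
  refine ⟨hc, fun Q₁ e₁ hQe x hxN hxs hxreg => ?_⟩
  obtain ⟨Q, hQN, rfl⟩ : ∃ Q : Subgroup G, Q ≤ N ∧ Q.subgroupOf N = Q₁ :=
    ⟨Q₁.map N.subtype, Subgroup.map_subtype_le _,
      Subgroup.comap_map_eq_self_of_injective N.subtype_injective Q₁⟩
  set hsub := isSubOf_centralizer N Q hQN with hsubdef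
  obtain ⟨d, hd, rfl⟩ := exists_inSub hsub inf_le_right hQe.1.2
  have hQp : IsPGroup p Q := by
    have h := hQe.1.1.map N.subtype
    rwa [Subgroup.subgroupOf, Subgroup.map_comap_eq_self (by rwa [N.range_subtype])] at h
  have hbd : br Q (bi M N c) * bi M (C⟨Q⟩ ⊓ N) d = bi M (C⟨Q⟩ ⊓ N) d :=
    (isBrauerPairOf_sub_iff hM hQN hQp hc hd).1 hQe
  letI := Fintype.ofFinite C⟨Q⟩
  obtain ⟨e, he, hed⟩ : ∃ e, IsPBlock M e ∧ bi M C⟨Q⟩ e * bi M (C⟨Q⟩ ⊓ N) d ≠ 0 := by
    by_contra hcon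
    push Not at hcon
    apply bi_ne_zero hM hd
    rw [← one_mul (bi M (C⟨Q⟩ ⊓ N) d), ← sum_bi hM (H := C⟨Q⟩), Finset.sum_mul,
      Finset.sum_eq_zero fun b hb => hcon b ((mem_blocksFinset hM).1 hb)]
  have hed' := (bi_mul_sub_eq_or hM N hidx he hd).resolve_right hed
  have hinv : InvOn (⊤ : Subgroup G) (red M (blockElem B)) :=
    invOn_top_iff.2 (isCentralFn_blockElem B).red
  have hBe : IsBrauerPairOf p M B Q e := by
    refine (isBrauerPairOf_iff_br hM B Q e).2 ⟨⟨hQp, he⟩, hnil.1, ?_⟩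
    have hi : InvOn C⟨Q⟩ (br Q (red M (blockElem B))) :=
      invOn_br (hinv.mono le_top) fun k hk y hy => centralizer_normalizes hk hy
    refine (mul_bi_eq_or hM (suppOn_br Q _) hi ?_ he).resolve_right fun h0 => ?_
    · rw [← br_mul hQp (hinv.mono le_top) (hinv.mono le_top),
        ← red_mul (integral_blockElem hM hnil.1) (integral_blockElem hM hnil.1),
        blockElem_mul_self]
    · apply bi_ne_zero hM hd
      have h1 : br Q (red M (blockElem B)) * (bi M C⟨Q⟩ e * bi M (C⟨Q⟩ ⊓ N) d) =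
          bi M (C⟨Q⟩ ⊓ N) d := by rw [hed', hbB, hbd]
      rw [← h1, ← mul_assoc, h0, zero_mul]
  have hxQ : (x : G) ∈ Subgroup.normalizer (Q : Set G) := by
    refine Subgroup.mem_normalizer_iff.2 fun y => ?_
    constructor
    · intro hy
      exact ((Subgroup.mem_normalizer_iff.1 hxN ⟨y, hQN hy⟩).1 hy : _)
    · intro hy
      have hyN : y ∈ N := by
        have h := Subgroup.Normal.conj_mem ‹N.Normal› _ (hQN hy) (x : G)⁻¹
        rwa [show (x : G)⁻¹ * ((x : G) * y * (x : G)⁻¹) * (x : G)⁻¹⁻¹ = y by group] at h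
      exact (Subgroup.mem_normalizer_iff.1 hxN ⟨y, hyN⟩).2 hy
  have hxC : (x : G) ∈ Subgroup.normalizer (C⟨Q⟩ : Set G) :=
    centralizer_le_normalizer_centralizer hxQ le_rfl
  have hconj := isConjSub_of_mem_normalizer hxC
  have hxd : cj (x : G) (bi M (C⟨Q⟩ ⊓ N) d) = bi M (C⟨Q⟩ ⊓ N) d := by
    have h := ((stabilizesBlock_iff hM hQe.1.2 x).1 hxs).2
    rw [← (emb_injective N).eq_iff, ← cj_emb, emb_bi_inSub] at h
    exact h
  have hxe : StabilizesBlock C⟨Q⟩ e (x : G) := by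
    refine (stabilizesBlock_iff hM he _).2 ⟨hxC, ?_⟩
    rw [← bi_conjSet hconj]
    congr 1
    by_contra hne
    apply bi_ne_zero hM hd
    have h1 : bi M C⟨Q⟩ (conjSet C⟨Q⟩ C⟨Q⟩ (x : G) e) * bi M (C⟨Q⟩ ⊓ N) d =
        bi M (C⟨Q⟩ ⊓ N) d := by
      conv_lhs => rw [bi_conjSet hconj, ← hxd, ← cj_mul, hed', hxd]
    rw [← hed', ← h1, ← mul_assoc, bi_mul_bi hM he (IsPBlock.conjSet hconj he) (Ne.symm hne),
      zero_mul]
  have hres := hnil.2 Q e hBe (x : G) hxQ hxe (by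
    show ¬ p ∣ orderOf (x : G)
    rw [Subgroup.orderOf_coe]; exact hxreg)
  exact (hsub x).2 ⟨hres, x.2⟩

/-- A regular element commuting with a transitive action of a `p`-group fixes every point,
read on idempotents. -/
lemma cj_eq_self_of_commuting [Fact p.Prime] {R : Type*} [CommRing R] (N K : Subgroup G)
    [N.Normal] {k : ℕ} (hidx : N.index = p ^ k) {a : MonoidAlgebra R G}
    (ha : InvOn (K ⊓ N) a) {x : G} (hxN : x ∈ N)
    (hxK : x ∈ Subgroup.normalizer (K : Set G)) (hxreg : ¬ p ∣ orderOf x) {h : G} (hh : h ∈ K)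
    (hxa : cj x a = cj h a) : cj x a = a := by
  have hp : p.Prime := Fact.out
  have hfix : ∀ d ∈ K ⊓ N, cj d a = a := invOn_iff.1 ha
  have hcomm : ∀ j : ℕ, ∃ d ∈ K ⊓ N, x ^ j * h * (x ^ j)⁻¹ = h * d := fun j => by
    refine ⟨h⁻¹ * (x ^ j * h * (x ^ j)⁻¹), ⟨K.mul_mem (K.inv_mem hh)
      ((Subgroup.mem_normalizer_iff.1 (pow_mem hxK j) h).1 hh), ?_⟩, by group⟩
    rw [show h⁻¹ * (x ^ j * h * (x ^ j)⁻¹) = h⁻¹ * x ^ j * h⁻¹⁻¹ * (x ^ j)⁻¹ by group]
    exact N.mul_mem (Subgroup.Normal.conj_mem ‹_› _ (pow_mem hxN j) _) (N.inv_mem (pow_mem hxN j))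
  have hcjh : ∀ (j : ℕ) (d : G), d ∈ K ⊓ N → cj d (cj (h ^ j) a) = cj (h ^ j) a := fun j d hd => by
    rw [cj_cj, show d * h ^ j = h ^ j * ((h ^ j)⁻¹ * d * h ^ j) by group, ← cj_cj,
      hfix _ ⟨K.mul_mem (K.mul_mem (K.inv_mem (pow_mem hh j)) hd.1) (pow_mem hh j), ?_⟩]
    have := Subgroup.Normal.conj_mem ‹N.Normal› _ hd.2 (h ^ j)⁻¹
    rwa [inv_inv] at this
  have hpow : ∀ j : ℕ, cj (x ^ j) a = cj (h ^ j) a := by
    intro j
    induction j with
    | zero => rw [pow_zero, pow_zero]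
    | succ j ih =>
      obtain ⟨d, hd, hde⟩ := hcomm j
      rw [pow_succ, ← cj_cj, hxa, cj_cj,
        show x ^ j * h = x ^ j * h * (x ^ j)⁻¹ * x ^ j by group, ← cj_cj, hde, ih, ← cj_cj,
        hcjh j d hd, cj_cj, ← pow_succ']
  have hn : cj (h ^ orderOf x) a = a := by rw [← hpow, pow_orderOf_eq_one, cj_one]
  have hk : cj (h ^ p ^ k) a = a :=
    hfix _ ⟨pow_mem hh _, hidx ▸ Subgroup.pow_index_mem N h⟩
  let St : Subgroup G :=
    { carrier := {g | cj g a = a}
      one_mem' := cj_one a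
      mul_mem' := fun {g g'} hg hg' => by
        show cj (g * g') a = a
        rw [← cj_cj, hg', hg]
      inv_mem' := fun {g} hg => by
        show cj g⁻¹ a = a
        have hg' : cj g a = a := hg
        conv_lhs => rw [← hg', cj_cj, inv_mul_cancel, cj_one] }
  have hco : Nat.Coprime (p ^ k) (orderOf x) := Nat.Coprime.pow_left k (hp.coprime_iff_not_dvd.2 hxreg)
  have hb := Nat.gcd_eq_gcd_ab (p ^ k) (orderOf x)
  rw [Nat.Coprime.gcd_eq_one hco, Nat.cast_one] at hb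
  have h1 : h ∈ St := by
    rw [← zpow_one h, hb, zpow_add, zpow_mul, zpow_mul, zpow_natCast, zpow_natCast]
    exact St.mul_mem (zpow_mem (show h ^ p ^ k ∈ St from hk) _)
      (zpow_mem (show h ^ orderOf x ∈ St from hn) _)
  rw [hxa]
  exact h1

/-- A nilpotent block of the normal subgroup gives a nilpotent block of the group. -/
theorem nilpotent_of_nilpotent_normal [Fact p.Prime] (hM : IsPModular p M) (N : Subgroup G)
    [N.Normal] {k : ℕ} (hidx : N.index = p ^ k) {c : Set (IrrCharacter N)}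
    {B : Set (IrrCharacter G)} (hB : IsPBlock M B) (hbB : red M (blockElem B) = bi M N c)
    (hnil : IsNilpotentBlock p M c) : IsNilpotentBlock p M B := by
  classical
  haveI := charP_res hM
  letI := Fintype.ofFinite N
  refine ⟨hB, fun Q e hQe x hxQ hxs hxreg => ?_⟩
  have hp : p.Prime := Fact.out
  have hxN : x ∈ N := mem_of_pRegular_of_index_eq_pow hp N hidx hxreg
  set Q₀ := Q ⊓ N with hQ₀
  have hQQ₀ : Q ≤ Subgroup.normalizer (Q₀ : Set G) := fun q hq => by
    refine Subgroup.mem_normalizer_iff.2 fun y => ?_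
    constructor
    · rintro ⟨h1, h2⟩
      exact ⟨Q.mul_mem (Q.mul_mem hq h1) (Q.inv_mem hq), Subgroup.Normal.conj_mem ‹_› _ h2 q⟩
    · rintro ⟨h1, h2⟩
      refine ⟨?_, ?_⟩
      · have := Q.mul_mem (Q.mul_mem (Q.inv_mem hq) h1) hq
        rwa [show q⁻¹ * (q * y * q⁻¹) * q = y by group] at this
      · have := Subgroup.Normal.conj_mem ‹N.Normal› _ h2 q⁻¹
        rwa [show q⁻¹ * (q * y * q⁻¹) * q⁻¹⁻¹ = y by group] at this
  obtain ⟨f, hf, huniq⟩ := existsUnique_normalSubpair hM hQe.1 inf_le_left hQQ₀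
  obtain ⟨hQ₀f, -, -, -, hffix, hfe⟩ := (isNormalSubpair_iff hM _ _ _ _).1 hf
  have hxQ₀ : x ∈ Subgroup.normalizer (Q₀ : Set G) := by
    refine Subgroup.mem_normalizer_iff.2 fun y => ?_
    simp only [hQ₀, Subgroup.mem_inf]
    exact and_congr (Subgroup.mem_normalizer_iff.1 hxQ y)
      (Subgroup.mem_normalizer_iff.1 (by rw [Subgroup.normalizer_eq_top]; exact Subgroup.mem_top x) y)
  have hxK : x ∈ Subgroup.normalizer (C⟨Q₀⟩ : Set G) :=
    centralizer_le_normalizer_centralizer hxQ₀ le_rfl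
  have hconj := isConjSub_of_mem_normalizer hxK
  have hxe : cj x (bi M C⟨Q⟩ e) = bi M C⟨Q⟩ e := ((stabilizesBlock_iff hM hQe.1.2 x).1 hxs).2
  have hxf : cj x (bi M C⟨Q₀⟩ f) = bi M C⟨Q₀⟩ f := by
    rw [← bi_conjSet hconj]
    congr 1
    refine huniq _ ((isNormalSubpair_iff hM _ _ _ _).2
      ⟨⟨hQ₀f.1, IsPBlock.conjSet hconj hQ₀f.2⟩, hQe.1, inf_le_left, hQQ₀, fun y hy => ?_, ?_⟩)
    · have hy' : x⁻¹ * y * x ∈ Q := by
        have := (Subgroup.mem_normalizer_iff.1 (inv_mem hxQ) y).1 hy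
        rwa [inv_inv] at this
      rw [bi_conjSet hconj, cj_cj, show y * x = x * (x⁻¹ * y * x) by group, ← cj_cj, hffix _ hy']
    · rw [bi_conjSet hconj]
      have h1 := cj_br x Q (bi M C⟨Q₀⟩ f)
      rw [map_conj_of_mem_normalizer hxQ] at h1
      calc br Q (cj x (bi M C⟨Q₀⟩ f)) * bi M C⟨Q⟩ e
          = cj x (br Q (bi M C⟨Q₀⟩ f)) * cj x (bi M C⟨Q⟩ e) := by rw [h1, hxe]
        _ = bi M C⟨Q⟩ e := by rw [← cj_mul, hfe, hxe]
  have hBf : IsBrauerPairOf p M B Q₀ f := (isBrauerPairOf_congr_normal hM hf B).1 hQe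
  set D := C⟨Q₀⟩ ⊓ N with hD
  letI := Fintype.ofFinite D
  obtain ⟨d, hd, hfd⟩ : ∃ d, IsPBlock M d ∧ bi M C⟨Q₀⟩ f * bi M D d ≠ 0 := by
    by_contra hcon
    push Not at hcon
    apply bi_ne_zero hM hQ₀f.2
    rw [← mul_one (bi M C⟨Q₀⟩ f), ← sum_bi hM (H := D), Finset.mul_sum,
      Finset.sum_eq_zero fun b hb => hcon b ((mem_blocksFinset hM).1 hb)]
  have hfd' := (bi_mul_sub_eq_or hM N hidx hQ₀f.2 hd).resolve_right hfd
  have hKD : ∀ h ∈ C⟨Q₀⟩, h ∈ Subgroup.normalizer (D : Set G) := fun h hh => by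
    refine Subgroup.mem_normalizer_iff.2 fun y => ?_
    simp only [hD, Subgroup.mem_inf]
    exact and_congr (Subgroup.mem_normalizer_iff.1 (Subgroup.le_normalizer hh) y)
      (Subgroup.mem_normalizer_iff.1 (by rw [Subgroup.normalizer_eq_top]; exact Subgroup.mem_top h) y)
  -- the orbit of `d` under the centralizer
  letI : Fintype C⟨Q₀⟩ := Fintype.ofFinite _
  set S := (blocksFinset M D).filter fun b : Set (IrrCharacter D) =>
    ∃ h ∈ C⟨Q₀⟩, bi M D b = cj h (bi M D d) with hS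
  have hSb : ∀ b ∈ S, IsPBlock M b := fun b hb => (mem_blocksFinset hM).1 (Finset.mem_filter.1 hb).1
  set z := ∑ b ∈ S, bi M D b with hz
  have hdS : d ∈ S :=
    Finset.mem_filter.2 ⟨(mem_blocksFinset hM).2 hd, 1, Subgroup.one_mem _, (cj_one _).symm⟩
  have hzd : ∀ b : Set (IrrCharacter D), IsPBlock M b →
      z * bi M D b = if b ∈ S then bi M D b else 0 := fun b hb => by
    rw [hz, Finset.sum_mul]
    split_ifs with h
    · rw [Finset.sum_eq_single b, bi_mul_self hM hb]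
      · exact fun b' hb' hne => bi_mul_bi hM (hSb b' hb') hb hne
      · exact fun h' => absurd h h'
    · exact Finset.sum_eq_zero fun b' hb' => bi_mul_bi hM (hSb b' hb') hb fun e' => h (e' ▸ hb')
  have hzz : z * z = z := by
    conv_lhs => arg 2; rw [hz]
    rw [Finset.mul_sum, Finset.sum_congr rfl fun b hb => (hzd b (hSb b hb)).trans (if_pos hb)]
  have hzi : InvOn C⟨Q₀⟩ z := invOn_iff.2 fun h hh => by
    have hc := isConjSub_of_mem_normalizer (hKD h hh)
    have hmem : ∀ b ∈ S, conjSet D D h b ∈ S := fun b hb => by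
      obtain ⟨hb1, t, ht, hbt⟩ := Finset.mem_filter.1 hb
      exact Finset.mem_filter.2 ⟨(mem_blocksFinset hM).2 (IsPBlock.conjSet hc (hSb b hb)),
        h * t, Subgroup.mul_mem _ hh ht, by rw [bi_conjSet hc, hbt, cj_cj]⟩
    rw [hz, cj_sum]
    refine Finset.sum_bij (fun b _ => conjSet D D h b) hmem ?_ ?_ (fun b _ => (bi_conjSet hc b).symm)
    · intro b hb b' hb' he'
      refine bi_injective hM (hSb b hb) (hSb b' hb') (cj_injective h ?_)
      rw [← bi_conjSet hc, ← bi_conjSet hc, he']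
    · intro b hb
      obtain ⟨hb1, t, ht, hbt⟩ := Finset.mem_filter.1 hb
      have hc' := isConjSub_of_mem_normalizer (hKD h⁻¹ (Subgroup.inv_mem _ hh))
      refine ⟨conjSet D D h⁻¹ b, Finset.mem_filter.2
        ⟨(mem_blocksFinset hM).2 (IsPBlock.conjSet hc' (hSb b hb)), h⁻¹ * t,
          Subgroup.mul_mem _ (Subgroup.inv_mem _ hh) ht, by rw [bi_conjSet hc', hbt, cj_cj]⟩, ?_⟩
      refine bi_injective hM (IsPBlock.conjSet hc (IsPBlock.conjSet hc' (hSb b hb))) (hSb b hb) ?_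
      rw [bi_conjSet hc, bi_conjSet hc', cj_cj, mul_inv_cancel, cj_one]
  have hzf : z * bi M C⟨Q₀⟩ f = bi M C⟨Q₀⟩ f := by
    refine (mul_bi_eq_or hM (SuppOn.sum _ fun b _ => (suppOn_bi b).mono inf_le_left) hzi hzz
      hQ₀f.2).resolve_right fun h0 => bi_ne_zero hM hd ?_
    rw [← (hzd d hd).trans (if_pos hdS), ← hfd', ← mul_assoc, h0, zero_mul]
  have hxD : x ∈ Subgroup.normalizer (D : Set G) := by
    refine Subgroup.mem_normalizer_iff.2 fun y => ?_
    simp only [hD, Subgroup.mem_inf]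
    exact and_congr (Subgroup.mem_normalizer_iff.1 hxK y)
      (Subgroup.mem_normalizer_iff.1 (by rw [Subgroup.normalizer_eq_top]; exact Subgroup.mem_top x) y)
  have hcD := isConjSub_of_mem_normalizer hxD
  have hxdS : conjSet D D x d ∈ S := by
    by_contra hn
    apply bi_ne_zero hM (IsPBlock.conjSet hcD hd)
    have h1 : bi M C⟨Q₀⟩ f * bi M D (conjSet D D x d) = bi M D (conjSet D D x d) := by
      rw [bi_conjSet hcD]
      conv_lhs => rw [← hxf, ← cj_mul, hfd']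
    have hcomm : bi M C⟨Q₀⟩ f * z = z * bi M C⟨Q₀⟩ f := (hzi.comm (suppOn_bi f)).symm
    rw [← h1, ← hzf, ← hcomm, mul_assoc, (hzd _ (IsPBlock.conjSet hcD hd)).trans (if_neg hn),
      mul_zero]
  obtain ⟨-, h, hh, hxh⟩ := Finset.mem_filter.1 hxdS
  rw [bi_conjSet hcD] at hxh
  have hxd : cj x (bi M D d) = bi M D d :=
    cj_eq_self_of_commuting N C⟨Q₀⟩ hidx (invOn_bi d) hxN hxK hxreg hh hxh
  -- use nilpotency below
  have hQ₀N : Q₀ ≤ N := inf_le_right
  have hpair : IsBrauerPairOf p M c (Q₀.subgroupOf N)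
      (inSub (isSubOf_centralizer N Q₀ hQ₀N) inf_le_right d) := by
    refine (isBrauerPairOf_sub_iff hM hQ₀N hQ₀f.1 hnil.1 hd).2 ?_
    have h1 := ((isBrauerPairOf_iff_br hM B Q₀ f).1 hBf).2.2
    rw [hbB] at h1
    conv_lhs => rw [← hfd', ← mul_assoc, h1, hfd']
  have hstab : StabilizesBlock _ (inSub (isSubOf_centralizer N Q₀ hQ₀N) inf_le_right d)
      (⟨x, hxN⟩ : N) := by
    refine (stabilizesBlock_iff hM (isPBlock_inSub _ _ hd) _).2 ⟨?_, ?_⟩
    · refine Subgroup.mem_normalizer_iff.2 fun y => ?_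
      have hy := Subgroup.mem_normalizer_iff.1 hxD (y : G)
      exact ((isSubOf_centralizer N Q₀ hQ₀N y).trans hy).trans
        (isSubOf_centralizer N Q₀ hQ₀N ((⟨x, hxN⟩ : N) * y * (⟨x, hxN⟩ : N)⁻¹)).symm
    · rw [← (emb_injective N).eq_iff, ← cj_emb, emb_bi_inSub]
      exact hxd
  have hxc := hnil.2 _ _ hpair ⟨x, hxN⟩
    (Subgroup.mem_normalizer_iff.2 fun y => Subgroup.mem_normalizer_iff.1 hxQ₀ (y : G)) hstab
    (by show ¬ p ∣ orderOf (⟨x, hxN⟩ : N); rwa [← Subgroup.orderOf_coe])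
  have hxQ₀c : ∀ y ∈ Q₀, y * x = x * y := fun y hy =>
    congrArg Subtype.val (Subgroup.mem_centralizer_iff.1 hxc ⟨y, hQ₀N hy⟩ hy)
  refine Subgroup.mem_centralizer_iff.2 fun q hq => ?_
  have hzQ : x * q * x⁻¹ * q⁻¹ ∈ Q₀ := by
    refine ⟨Q.mul_mem ((Subgroup.mem_normalizer_iff.1 hxQ q).1 hq) (Q.inv_mem hq), ?_⟩
    rw [show x * q * x⁻¹ * q⁻¹ = x * (q * x⁻¹ * q⁻¹) by group]
    exact N.mul_mem hxN (Subgroup.Normal.conj_mem ‹_› _ (N.inv_mem hxN) q)
  set w := x * q * x⁻¹ * q⁻¹ with hw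
  have hwx : ∀ j : ℕ, Commute (x ^ j) w := fun j =>
    (show Commute x w from (hxQ₀c w hzQ).symm).pow_left j
  have hj : ∀ j : ℕ, x ^ j * q * (x ^ j)⁻¹ = w ^ j * q := by
    intro j
    induction j with
    | zero => simp
    | succ j ih =>
      calc x ^ (j + 1) * q * (x ^ (j + 1))⁻¹
          = x ^ j * w * (q * (x ^ j)⁻¹) := by rw [hw, pow_succ]; group
        _ = w * x ^ j * (q * (x ^ j)⁻¹) := by rw [(hwx j).eq]
        _ = w ^ (j + 1) * q := by
          rw [pow_succ', mul_assoc w (w ^ j), ← ih]; simp only [mul_assoc]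
  have hwn : w ^ orderOf x = 1 := by
    have h := hj (orderOf x)
    rw [pow_orderOf_eq_one, inv_one, one_mul, mul_one] at h
    exact (mul_eq_right.1 h.symm)
  obtain ⟨a, ha⟩ := hQ₀f.1 ⟨w, hzQ⟩
  have ha' : w ^ p ^ a = 1 := congrArg Subtype.val ha
  have hw1 : w = 1 := orderOf_eq_one_iff.1 (Nat.eq_one_of_dvd_coprimes
    (Nat.Coprime.pow_left a (hp.coprime_iff_not_dvd.2 hxreg))
    (orderOf_dvd_of_pow_eq_one ha') (orderOf_dvd_of_pow_eq_one hwn))
  have h2 : x * q = q * x := by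
    have h3 : x * q * x⁻¹ * q⁻¹ = 1 := hw ▸ hw1
    rw [mul_inv_eq_one] at h3
    rw [← mul_inv_eq_iff_eq_mul]; exact h3
  exact h2.symm

end Cfsg.Lib.Blocks
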