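/-
The sum of an irreducible character over a coset of a normal subgroup.
-/
import Cfsg.Agent.Chars.Sums
import Cfsg.Agent.Chars.IrrTools

namespace Cfsg.Lib.Blocks

open Cfsg Cfsg.Lib.Chars

universe u

variable {G : Type u} [Group G] [Fintype G]

lemma average_dichotomy (N : Subgroup G) [N.Normal] [Fintype N] (η : IrrCharacter G) :
    (∀ n : N, (η : G → ℂ) n = (η : G → ℂ) 1) ∨
      ∀ g : G, ∑ n : N, (η : G → ℂ) ((n : G) * g) = 0 := by
  classical
  obtain ⟨d, ρ, hρ, hη⟩ := η.2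
  have hind : IsClassFunction G (fun x : G => if x ∈ N then (1 : ℂ) else 0) := fun x y => by
    have : y * x * y⁻¹ ∈ N ↔ x ∈ N := ⟨fun h => by
      simpa [mul_assoc] using (inferInstance : N.Normal).conj_mem _ h y⁻¹,
      fun h => (inferInstance : N.Normal).conj_mem x h y⟩
    simp only [this]
  have hconv : ∀ F : G → ℂ, ∑ x, (if x ∈ N then (1 : ℂ) else 0) * F x = ∑ n : N, F n := fun F => by
    simp only [ite_mul, one_mul, zero_mul]
    rw [← Finset.sum_filter]
    exact Finset.sum_subtype _ (fun x => by simp) F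
  have hdim : (Module.finrank ℂ (Fin d → ℂ) : ℂ) = (η : G → ℂ) 1 := by rw [← hη, ρ.char_one]
  have h1 : ∀ g : G, ∑ n : N, (η : G → ℂ) ((n : G) * g) =
      (∑ n : N, (η : G → ℂ) n) / (η : G → ℂ) 1 * (η : G → ℂ) g := by
    intro g
    rw [← hdim, ← hconv (fun x => (η : G → ℂ) (x * g)), ← hconv, ← hη]
    exact sum_smul_rep_trace ρ hind g
  by_cases hS : ∑ n : N, (η : G → ℂ) n = 0
  · exact Or.inr fun g => by rw [h1, hS, zero_div, zero_mul]
  · refine Or.inl fun m => ?_
    have h2 := h1 (m : G)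
    rw [show ∑ n : N, (η : G → ℂ) ((n : G) * m) = ∑ n : N, (η : G → ℂ) n from
      Fintype.sum_equiv (Equiv.mulRight m) _ _ fun n => rfl, div_mul_eq_mul_div,
      eq_div_iff (IsIrrCharacter.apply_one_ne_zero η.2)] at h2
    exact (mul_left_cancel₀ hS h2).symm

end Cfsg.Lib.Blocks
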