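import Mathlib
import Cfsg.Agent.Blocks.CanonicalCharacter
import Cfsg.Agent.Blocks.CoveringDefect
import Cfsg.Agent.Chars.Extension
import Cfsg.Agent.Chars.Inertia
import Cfsg.Agent.Chars.Galois

/-!
# Heights in a block with normal defect group
-/

set_option autoImplicit false
set_option linter.unusedSectionVars false

namespace Cfsg.Lib.Blocks

open Cfsg.Lib.Chars
open scoped ComplexConjugate

universe u

variable {G : Type u} [Group G] [Fintype G] {M : Ideal AlgInt} {p : ℕ}

/-- The degree over a constituent: the index of the inertia group times a divisor of the relative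
index. -/
theorem deg_over_eq (N : Subgroup G) [N.Normal] [Fintype N] (χ : IrrCharacter G)
    (θ : IrrCharacter N) (hc : classInner (fun n : N => (χ : G → ℂ) n) (θ : N → ℂ) ≠ 0) :
    ∃ e : ℕ, e ∣ N.relIndex (inertia N (θ : N → ℂ)) ∧
      deg (χ : G → ℂ) = (inertia N (θ : N → ℂ)).index * (e * deg (θ : N → ℂ)) := by
  classical
  set I := inertia N (θ : N → ℂ) with hI
  letI : Fintype I := Fintype.ofFinite I
  have hNI : N ≤ I := le_inertia (isClassFunction_irr θ)
  obtain ⟨ψ, hψ, hχψ, hψθ⟩ := exists_constituent_over I hNI (isCharacter_of_irr χ.2) hc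
  obtain ⟨hind, -, -⟩ := clifford_correspondence θ.2 I hI hNI χ.2 hψ hχψ hψθ
  obtain ⟨e, -, he⟩ := restrict_of_le_inertia N θ.2 I hNI hI.le hψ hψθ
  refine ⟨e, ?_, Nat.cast_injective (R := ℂ) ?_⟩
  · haveI : (N.subgroupOf I).Normal := Subgroup.Normal.subgroupOf inferInstance I
    let j : N.subgroupOf I ≃* N := Subgroup.subgroupOfEquivOfLe hNI
    have hθ' : IsIrrCharacter (N.subgroupOf I) fun n => (θ : N → ℂ) (j n) :=
      IsIrrCharacter.comp_surjective θ.2 j.toMonoidHom j.surjective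
    have hinv : ∀ g : I, conjN (N.subgroupOf I) g (fun n => (θ : N → ℂ) (j n)) =
        fun n => (θ : N → ℂ) (j n) := fun g => funext fun n => by
      have h := congrFun (mem_inertia.1 g.2) (j n)
      exact h
    obtain ⟨m, ρ, hρ, hρc⟩ := hθ'
    obtain ⟨m', σ, hσ, hσc⟩ := hψ
    haveI := hρ
    haveI := hσ
    show e ∣ (N.subgroupOf I).index
    refine finrank_dvd_of_invariant (N.subgroupOf I) ρ σ (fun g => by rw [hρc]; exact hinv g) ?_
    rw [hρc, hσc]
    exact funext fun n => congrFun he (j n)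
  · push_cast
    rw [← irr_apply_one_eq_deg χ, ← irr_apply_one_eq_deg θ, ← hind, indFun_one]
    congr 1
    have h1 := congrFun he 1
    simp only [Pi.smul_apply, smul_eq_mul, OneMemClass.coe_one] at h1
    exact h1

variable [Fact p.Prime]

/-- A central `p`-subgroup bounds the `p`-part of the degrees by its index. -/
lemma deg_factorization_le_of_central (Z : Subgroup G) [Z.Normal] [Fintype Z]
    (hZ : ∀ z ∈ Z, ∀ g : G, g * z = z * g) (χ : IrrCharacter G) :
    (deg (χ : G → ℂ)).factorization p ≤ Z.index.factorization p := by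
  classical
  obtain ⟨θ, hθ⟩ := exists_irr_constituent Z χ
  obtain ⟨e, he, hdeg⟩ := deg_over_eq Z χ θ hθ
  have hI : inertia Z (θ : Z → ℂ) = ⊤ := eq_top_iff.2 fun g _ => mem_inertia.2 (funext fun n => by
    show (θ : Z → ℂ) ⟨g * n * g⁻¹, _⟩ = _
    refine congrArg _ (Subtype.ext ?_)
    show g * (n : G) * g⁻¹ = n
    rw [hZ _ n.2 g, mul_inv_cancel_right])
  have hd1 : deg (θ : Z → ℂ) = 1 := by
    have h1 := irr_deg_one_of_comm (fun a b : Z => Subtype.ext (hZ _ b.2 (a : G))) θ.2
    rw [irr_apply_one_eq_deg] at h1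
    exact_mod_cast h1
  rw [hI, Subgroup.index_top, one_mul, hd1, mul_one] at hdeg
  rw [hI, Subgroup.relIndex_top_right] at he
  rw [hdeg]
  exact (Nat.factorization_le_iff_dvd (by rw [← hdeg]; exact (deg_irr_pos χ).ne')
    Subgroup.index_ne_zero_of_finite).2 he p

/-- The restriction to `P` of a member of the block is `φ(1)` times an irreducible character. -/
theorem exists_restrict_eq {P : Subgroup G} [P.Normal] (hM : IsPModular p M) (hP : IsPGroup p P)
    (hG : P ⊔ Subgroup.centralizer (P : Set G) = ⊤) {B : Set (IrrCharacter G)} (hB : IsPBlock M B)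
    (hD : IsDefectGroup p M B P) {φ : IrrCharacter (G ⧸ P)}
    (hφd : (deg (φ : G ⧸ P → ℂ)).factorization p = (Nat.card (G ⧸ P)).factorization p)
    (huniq : ∀ φ' : IrrCharacter (G ⧸ P), inflate P φ' ∈ B → φ' = φ)
    {ψ : IrrCharacter G} (hψ : ψ ∈ B) :
    ∃ ζ : IrrCharacter P, ∀ x : P, (ψ : G → ℂ) x = (deg (φ : G ⧸ P → ℂ) : ℂ) * (ζ : P → ℂ) x := by
  classical
  letI : Fintype P := Fintype.ofFinite P
  haveI : Fintype (G ⧸ P) := Fintype.ofFinite _
  have hp : p.Prime := Fact.out
  have hφ0 := IsIrrCharacter.apply_one_ne_zero φ.2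
  have hφvan : ∀ q : G ⧸ P, p ∣ orderOf q → (φ : G ⧸ P → ℂ) q = 0 := fun q hq =>
    eq_zero_of_defect_zero φ.2 hp (n := (Nat.card (G ⧸ P)).factorization p)
      (Nat.ordProj_dvd _ _) (Nat.pow_succ_factorization_not_dvd Nat.card_pos.ne' hp)
      (hφd ▸ Nat.ordProj_dvd _ _) hq
  obtain ⟨ζ, hζ⟩ := exists_irr_constituent P ψ
  have hinv : ∀ g : G, conjN P g (ζ : P → ℂ) = (ζ : P → ℂ) := by
    intro g
    obtain ⟨r, hr, c, hc, rfl⟩ :=
      Subgroup.mem_sup_of_normal_left.1 (show g ∈ P ⊔ Subgroup.centralizer (P : Set G) by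
        rw [hG]; exact Subgroup.mem_top _)
    refine funext fun n => ?_
    show (ζ : P → ℂ) ⟨r * c * n * (r * c)⁻¹, _⟩ = _
    have e : (⟨r * c * n * (r * c)⁻¹, ‹P.Normal›.conj_mem n n.2 (r * c)⟩ : P) =
        ⟨r, hr⟩ * n * ⟨r, hr⟩⁻¹ := Subtype.ext (by
      show r * c * n * (r * c)⁻¹ = r * n * r⁻¹
      rw [mul_inv_rev, show r * c * n * (c⁻¹ * r⁻¹) = r * (c * n) * c⁻¹ * r⁻¹ by group,
        (Subgroup.mem_centralizer_iff.1 hc n n.2).symm]
      group)
    rw [e, isClassFunction_irr ζ]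
  obtain ⟨e, he0, he⟩ := restrict_eq_mult_of_invariant P ψ.2 ζ.2 hinv hζ
  -- the norm of `ψ` forces `e = φ(1)`
  have hsum : ∀ x : G, x ∈ P → ∀ y : G, ¬ p ∣ orderOf y →
      (ψ : G → ℂ) (x * y) * conj ((ψ : G → ℂ) (x * y)) =
        ((ψ : G → ℂ) x * conj ((ψ : G → ℂ) x)) / ((φ : G ⧸ P → ℂ) 1 * (φ : G ⧸ P → ℂ) 1) *
          ((φ : G ⧸ P → ℂ) (y : G ⧸ P) * conj ((φ : G ⧸ P → ℂ) (y : G ⧸ P))) := by
    intro x hx y hy
    rw [apply_eq_canonical hM hP hG hB huniq hψ hx hy, map_mul, map_div₀,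
      irr_apply_one_eq_deg φ, Complex.conj_natCast]
    ring
  have hnorm : ∑ g : G, (ψ : G → ℂ) g * conj ((ψ : G → ℂ) g) =
      (∑ x : P, (ψ : G → ℂ) x * conj ((ψ : G → ℂ) x)) /
        ((φ : G ⧸ P → ℂ) 1 * (φ : G ⧸ P → ℂ) 1) *
        ∑ q : G ⧸ P, (φ : G ⧸ P → ℂ) q * conj ((φ : G ⧸ P → ℂ) q) := by
    rw [Finset.sum_div, Finset.sum_mul_sum, ← Finset.sum_product']
    rw [← Finset.sum_filter_add_sum_filter_not Finset.univ
      (fun g : G => ∀ x : G, IsPPart p g x → x ∈ P),
      add_eq_left.2 (Finset.sum_eq_zero fun g hg => ?_)]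
    swap
    · obtain ⟨x, hx, hxP⟩ : ∃ x, IsPPart p g x ∧ x ∉ P := by
        simpa only [Finset.mem_filter, Finset.mem_univ, true_and, not_forall, exists_prop] using hg
      rw [apply_eq_zero_of_forall_not_mem hM hB hψ hx (fun D hD' => by
        rw [defectGroup_eq_normal hM hB hD hD']; exact hxP), zero_mul]
    rw [← Finset.sum_filter_add_sum_filter_not (Finset.univ ×ˢ Finset.univ)
      (fun xq : P × (G ⧸ P) => ¬ p ∣ orderOf xq.2),
      add_eq_left.2 (Finset.sum_eq_zero fun xq hxq => ?_)]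
    swap
    · simp only [Finset.mem_filter, not_not] at hxq
      rw [hφvan _ hxq.2, zero_mul, mul_zero]
    symm
    refine Finset.sum_bij (fun xq hxq =>
      ((xq.1 : P) : G) * Classical.choose (exists_regular_lift (P := P) hM
        (Finset.mem_filter.1 hxq).2)) (fun xq hxq => ?_) (fun a ha b hb h => ?_)
        (fun g hg => ?_) (fun xq hxq => ?_)
    · obtain ⟨hy, -⟩ := Classical.choose_spec (exists_regular_lift (P := P) hM
        (Finset.mem_filter.1 hxq).2)
      refine Finset.mem_filter.2 ⟨Finset.mem_univ _, fun x hx => ?_⟩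
      rw [IsPPart.eq hp hx (isPPart_mul (Subgroup.mem_centralizer_iff.1
        (regular_mem_centralizer hP hG hy) _ xq.1.2) (exists_orderOf_eq_of_mem hp hP xq.1.2) hy)]
      exact xq.1.2
    · obtain ⟨hya, hqa⟩ := Classical.choose_spec (exists_regular_lift (P := P) hM
        (Finset.mem_filter.1 ha).2)
      obtain ⟨hyb, hqb⟩ := Classical.choose_spec (exists_regular_lift (P := P) hM
        (Finset.mem_filter.1 hb).2)
      have e1 := isPPart_mul (Subgroup.mem_centralizer_iff.1
        (regular_mem_centralizer hP hG hya) _ a.1.2) (exists_orderOf_eq_of_mem hp hP a.1.2) hya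
      have e2 := isPPart_mul (Subgroup.mem_centralizer_iff.1
        (regular_mem_centralizer hP hG hyb) _ b.1.2) (exists_orderOf_eq_of_mem hp hP b.1.2) hyb
      have hab : (a.1 : G) = (b.1 : G) := IsPPart.eq hp (h ▸ e1) e2
      refine Prod.ext (Subtype.ext hab) ?_
      have hy : Classical.choose (exists_regular_lift (P := P) hM (Finset.mem_filter.1 ha).2) =
          Classical.choose (exists_regular_lift (P := P) hM (Finset.mem_filter.1 hb).2) :=
        mul_left_cancel (hab ▸ h : (b.1 : G) * _ = (b.1 : G) * _)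
      rw [← hqa, ← hqb, hy]
    · obtain ⟨x, y, hxy, hc, hpow, hy⟩ := exists_isPPart' hp g
      have hx : x ∈ P := (Finset.mem_filter.1 hg).2 x ⟨y, hxy, hc, hpow, hy⟩
      have hq := regular_of_quotient (P := P) hM hy
      refine ⟨(⟨x, hx⟩, (y : G ⧸ P)), Finset.mem_filter.2 ⟨Finset.mem_univ _, hq⟩, ?_⟩
      obtain ⟨h1, h2⟩ := Classical.choose_spec (exists_regular_lift (P := P) hM (q := (y : G ⧸ P)) hq)
      show x * _ = g
      rw [regular_unique hP hG h1 hy h2, hxy]
    · obtain ⟨hy, hq⟩ := Classical.choose_spec (exists_regular_lift (P := P) hM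
        (Finset.mem_filter.1 hxq).2)
      rw [hsum _ xq.1.2 _ hy, hq]
  have hnP : ∑ x : P, (ψ : G → ℂ) x * conj ((ψ : G → ℂ) x) =
      ((e : ℂ) * (e : ℂ)) * (Nat.card P : ℂ) := by
    have h1 := classInner_irr_self ζ
    rw [classInner_def, inv_mul_eq_one₀ (Nat.cast_ne_zero.2 Nat.card_pos.ne')] at h1
    rw [h1, Finset.mul_sum]
    refine Finset.sum_congr rfl fun x _ => ?_
    rw [show (ψ : G → ℂ) x = (e : ℂ) * (ζ : P → ℂ) x from congrFun he x, map_mul,
      Complex.conj_natCast]
    ring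
  have hnG : ∑ g : G, (ψ : G → ℂ) g * conj ((ψ : G → ℂ) g) = (Nat.card G : ℂ) := by
    have h1 := classInner_irr_self ψ
    rw [classInner_def, inv_mul_eq_one₀ (Nat.cast_ne_zero.2 Nat.card_pos.ne')] at h1
    exact h1.symm
  have hnQ : ∑ q : G ⧸ P, (φ : G ⧸ P → ℂ) q * conj ((φ : G ⧸ P → ℂ) q) =
      (Nat.card (G ⧸ P) : ℂ) := by
    have h1 := classInner_irr_self φ
    rw [classInner_def, inv_mul_eq_one₀ (Nat.cast_ne_zero.2 Nat.card_pos.ne')] at h1
    exact h1.symm
  rw [hnG, hnP, hnQ, Subgroup.card_eq_card_quotient_mul_card_subgroup P, Nat.cast_mul,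
    irr_apply_one_eq_deg φ] at hnorm
  have hcQ : (Nat.card (G ⧸ P) : ℂ) ≠ 0 := Nat.cast_ne_zero.2 Nat.card_pos.ne'
  have hcP : (Nat.card P : ℂ) ≠ 0 := Nat.cast_ne_zero.2 Nat.card_pos.ne'
  rw [irr_apply_one_eq_deg φ] at hφ0
  field_simp at hnorm
  have hee : ((e * e : ℕ) : ℂ) = ((deg (φ : G ⧸ P → ℂ) * deg (φ : G ⧸ P → ℂ) : ℕ) : ℂ) := by
    push_cast
    linear_combination -hnorm
  have heq : e = deg (φ : G ⧸ P → ℂ) := Nat.mul_self_inj.1 (Nat.cast_injective hee)
  exact ⟨ζ, fun x => by rw [← heq]; exact congrFun he x⟩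

/-- In `P C(P)`, if all members of a block with defect group `P` have minimal degree `p`-part, then
`P` is abelian. -/
theorem comm_of_all_minimal {P : Subgroup G} [P.Normal] (hM : IsPModular p M) (hP : IsPGroup p P)
    (hG : P ⊔ Subgroup.centralizer (P : Set G) = ⊤) {B : Set (IrrCharacter G)} (hB : IsPBlock M B)
    (hD : IsDefectGroup p M B P)
    (hmin : ∀ ψ ∈ B, (deg ((ψ : IrrCharacter G) : G → ℂ)).factorization p = P.index.factorization p) :
    ∀ a ∈ P, ∀ b ∈ P, a * b = b * a := by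
  classical
  letI : Fintype P := Fintype.ofFinite P
  haveI : Fintype (G ⧸ P) := Fintype.ofFinite _
  obtain ⟨φ, -, hφd, huniq⟩ := exists_canonical hM hP hG hB hD
  have hp : p.Prime := Fact.out
  have hφ0 := IsIrrCharacter.apply_one_ne_zero φ.2
  have hφvan : ∀ q : G ⧸ P, p ∣ orderOf q → (φ : G ⧸ P → ℂ) q = 0 := fun q hq =>
    eq_zero_of_defect_zero φ.2 hp (n := (Nat.card (G ⧸ P)).factorization p)
      (Nat.ordProj_dvd _ _) (Nat.pow_succ_factorization_not_dvd Nat.card_pos.ne' hp)
      (hφd ▸ Nat.ordProj_dvd _ _) hq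
  -- every member is trivial on commutators of `P`
  have key : ∀ ψ ∈ B, ∀ a ∈ P, ∀ b ∈ P, ((ψ : IrrCharacter G) : G → ℂ) (a * b * a⁻¹ * b⁻¹) =
      (ψ : G → ℂ) 1 := by
    intro ψ hψ
    obtain ⟨ζ, hζx⟩ := exists_restrict_eq hM hP hG hB hD hφd huniq hψ
    have hdψ : deg (ψ : G → ℂ) = deg (φ : G ⧸ P → ℂ) * deg (ζ : P → ℂ) :=
      Nat.cast_injective (R := ℂ) (by
        push_cast
        rw [← irr_apply_one_eq_deg ψ, ← irr_apply_one_eq_deg ζ]
        exact hζx 1)
    have hζ1 : deg (ζ : P → ℂ) = 1 := by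
      have h1 := hmin ψ hψ
      rw [hdψ, Nat.factorization_mul (deg_irr_pos φ).ne' (deg_irr_pos ζ).ne', Finsupp.add_apply,
        hφd, Subgroup.index, add_eq_left] at h1
      obtain ⟨k, hk⟩ := IsPGroup.iff_card.1 hP
      have h2 := IsIrrCharacter.deg_dvd ζ.2
      rw [hk] at h2
      obtain ⟨i, -, hi⟩ := (Nat.dvd_prime_pow hp).1 h2
      rw [hi, hp.factorization_pow, Finsupp.single_eq_same] at h1
      rw [hi, h1, pow_zero]
    obtain ⟨l, hl⟩ := exists_hom_of_deg_one (isCharacter_of_irr ζ.2) (by rw [irr_apply_one_eq_deg, hζ1, Nat.cast_one])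
    intro a ha b hb
    have hval : ∀ x : P, (ψ : G → ℂ) x = (deg (φ : G ⧸ P → ℂ) : ℂ) * (l x : ℂ) := fun x => by
      rw [hζx x, hl]
    have h1 := hval (⟨a, ha⟩ * ⟨b, hb⟩ * ⟨a, ha⟩⁻¹ * ⟨b, hb⟩⁻¹)
    have h2 := hval 1
    rw [OneMemClass.coe_one] at h2
    rw [h2, map_one]
    refine (show (ψ : G → ℂ) (a * b * a⁻¹ * b⁻¹) = _ from h1).trans ?_
    rw [map_mul, map_mul, map_mul, map_inv, map_inv, mul_inv_cancel_comm, mul_inv_cancel]
  intro a ha b hb
  by_contra hne
  set x := a * b * a⁻¹ * b⁻¹ with hx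
  have hx1 : x ≠ 1 := fun h => hne (by
    calc a * b = x * (b * a) := by rw [hx]; group
      _ = b * a := by rw [h, one_mul])
  have hxP : x ∈ P := mul_mem (mul_mem (mul_mem ha hb) (inv_mem ha)) (inv_mem hb)
  obtain ⟨k, hk⟩ := exists_orderOf_eq_of_mem hp hP hxP
  have hpx : p ∣ orderOf x := by
    rw [hk]; exact dvd_pow_self p (fun h0 => hx1 (orderOf_eq_one_iff.1 (by rw [hk, h0, pow_zero])))
  have horth := block_orthogonality_regular hM hB (g := (1 : G)) (h := x)
    (by rw [orderOf_one]; exact hp.not_dvd_one) hpx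
  obtain ⟨ψ₀, hψ₀⟩ := IsPBlock.nonempty hM hB
  have hpos : ∑ ψ ∈ Finset.univ.filter (· ∈ B), (ψ : G → ℂ) 1 * conj ((ψ : G → ℂ) x) =
      ((∑ ψ ∈ Finset.univ.filter (· ∈ B), deg (ψ : G → ℂ) * deg (ψ : G → ℂ) : ℕ) : ℂ) := by
    push_cast
    refine Finset.sum_congr rfl fun ψ hψ => ?_
    rw [hx, key ψ (Finset.mem_filter.1 hψ).2 a ha b hb, irr_apply_one_eq_deg, Complex.conj_natCast]
  rw [hpos, Nat.cast_eq_zero, Finset.sum_eq_zero_iff] at horth
  have := horth ψ₀ (Finset.mem_filter.2 ⟨Finset.mem_univ _, hψ₀⟩)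
  exact (Nat.mul_pos (deg_irr_pos ψ₀) (deg_irr_pos ψ₀)).ne' this

/-- **A normal defect group is abelian iff all heights are zero.** -/
theorem normal_defect_comm_iff {P : Subgroup G} [P.Normal] (hM : IsPModular p M)
    {B : Set (IrrCharacter G)} (hB : IsPBlock M B) (hD : IsDefectGroup p M B P) :
    (∀ a ∈ P, ∀ c ∈ P, a * c = c * a) ↔ ∀ χ ∈ B, blockHeight p B ((χ : IrrCharacter G) : G → ℂ) = 0 := by
  classical
  have hp : p.Prime := Fact.out
  have hPp : IsPGroup p P := IsDefectGroup.isPGroup hD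
  haveI : (Subgroup.centralizer (P : Set G)).Normal := Subgroup.normal_centralizer
  set N := P ⊔ Subgroup.centralizer (P : Set G) with hN
  haveI : N.Normal := Subgroup.sup_normal _ _
  letI : Fintype N := Fintype.ofFinite N
  have hPN : P ≤ N := le_sup_left
  have hCN : Subgroup.centralizer (P : Set G) ≤ N := le_sup_right
  obtain ⟨c, hc, -, ⟨χ₀, hχ₀, θ₀, hθ₀, hcov⟩, hcD⟩ := exists_stable_covered hM N hB hD
  rw [inf_of_le_left hPN] at hcD
  haveI : (P.subgroupOf N).Normal := Subgroup.Normal.subgroupOf inferInstance N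
  have hP' : IsPGroup p (P.subgroupOf N) := hPp.comap_of_injective _ (Subgroup.subtype_injective _)
  have hG' : P.subgroupOf N ⊔ Subgroup.centralizer ((P.subgroupOf N : Subgroup N) : Set N) = ⊤ := by
    rw [eq_top_iff]
    rintro ⟨g, hg⟩ -
    obtain ⟨r, hr, s, hs, rfl⟩ := Subgroup.mem_sup_of_normal_left.1 hg
    rw [show (⟨r * s, hg⟩ : N) = ⟨r, hPN hr⟩ * ⟨s, hCN hs⟩ from Subtype.ext rfl]
    refine Subgroup.mul_mem_sup hr (Subgroup.mem_centralizer_iff.2 fun y hy => Subtype.ext ?_)
    exact Subgroup.mem_centralizer_iff.1 hs _ hy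
  have hidxN : P.index = (P.subgroupOf N).index * N.index := (Subgroup.relIndex_mul_index hPN).symm
  -- the idempotent of `B` lives on `N`
  have hsupp : SuppOn N (blockElem B) := fun g hg => by
    rw [fn_blockElem]
    exact blockCoeff_eq_zero_of_not_mem_centralizer hM hPp hB (fun h => hg (hCN h))
  have hec := isCentralFn_blockElem B
  have hei := integral_blockElem hM hB
  have homega : ∀ θ ∈ c, ∀ χ : IrrCharacter G,
      classInner (fun n : N => (χ : G → ℂ) n) ((θ : IrrCharacter N) : N → ℂ) ≠ 0 → χ ∈ B := by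
    intro θ hθ χ hχθ
    have e1 := omega_eq_of_constituent N hec hsupp χ θ hχθ
    have e2 := omega_eq_of_constituent N hec hsupp χ₀ θ₀ hcov
    have e3 := res_omega_eq_of_sameBlock hM (IsPBlock.sameBlock hM hc hθ hθ₀)
      (hec.resElem N) (hei.resElem N)
    rw [← e1, ← e2, omega_blockElem, omega_blockElem, if_pos hχ₀] at e3
    by_contra hn
    rw [if_neg hn, res_one, res_zero] at e3
    exact zero_ne_one e3
  -- `p`-elements stabilising `c` lie in `N`
  have hstabN : ∀ x : G, (∃ k : ℕ, orderOf x = p ^ k) → cjIrr N x '' c = c → x ∈ N := by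
    rintro x ⟨k, hk⟩ hx
    by_contra hxN
    set L := N ⊔ Subgroup.zpowers x with hL
    let S : Subgroup G :=
      { carrier := {g | cjIrr N g '' c = c}
        one_mem' := by simp [cjIrr_one]
        mul_mem' := fun {a b} ha hb => by
          show cjIrr N (a * b) '' c = c
          have ha' : cjIrr N a '' c = c := ha
          have hb' : cjIrr N b '' c = c := hb
          rw [show (cjIrr N (a * b) : IrrCharacter N → IrrCharacter N) = fun θ => cjIrr N (a * b) θ
            from rfl]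
          simp only [cjIrr_mul]
          first
          | rw [← Set.image_image (cjIrr N a) (cjIrr N b), hb', ha']
          | rw [← Set.image_image (cjIrr N b) (cjIrr N a), ha', hb']
        inv_mem' := fun {a} ha => by
          show cjIrr N a⁻¹ '' c = c
          have ha' : cjIrr N a '' c = c := ha
          conv_lhs => rw [← ha']
          rw [Set.image_image]
          simp [← cjIrr_mul, cjIrr_one] }
    have hLS : L ≤ S := by
      refine sup_le (fun n hn => ?_) (Subgroup.zpowers_le.2 hx)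
      show cjIrr N n '' c = c
      refine (Set.image_congr fun θ _ => Subtype.ext ?_).trans (Set.image_id c)
      rw [cjIrr_val]
      exact conjN_of_mem (isClassFunction_irr θ) ⟨n, hn⟩
    have hreg : ∀ g ∈ L, ¬ p ∣ orderOf g → g ∈ N := by
      intro g hg hreg
      obtain ⟨n, hn, z, hz, rfl⟩ := Subgroup.mem_sup_of_normal_left.1 hg
      have hq : ((n * z : G) : G ⧸ N) = (z : G ⧸ N) := by
        rw [QuotientGroup.mk_mul, (QuotientGroup.eq_one_iff n).2 hn, one_mul]
      obtain ⟨i, rfl⟩ := hz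
      have h1 : orderOf ((n * x ^ i : G) : G ⧸ N) ∣ orderOf (n * x ^ i) :=
        orderOf_map_dvd (QuotientGroup.mk' N) _
      have h2 : orderOf ((n * x ^ i : G) : G ⧸ N) ∣ p ^ k := by
        rw [hq, ← hk]
        refine (orderOf_map_dvd (QuotientGroup.mk' N) _).trans ?_
        exact orderOf_dvd_of_mem_zpowers ⟨i, rfl⟩
      have h3 := Nat.eq_one_of_dvd_coprimes (((hp.coprime_iff_not_dvd.2 hreg)).pow_left k) h2 h1
      exact (QuotientGroup.eq_one_iff _).1 (orderOf_eq_one_iff.1 h3)
    obtain ⟨R, hR, hRL, hRN, hbr⟩ := exists_pElem_br_ne_zero hM hreg hc le_sup_left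
      (fun y hy => hLS hy) (fun h => hxN (h ▸ Subgroup.mem_sup_right (Subgroup.mem_zpowers x)))
    have hεs : SuppOn N (red M (blockElem B)) := fun g hg => by
      rw [fn_red, hsupp g hg, res_zero]
    have hεi : InvOn N (red M (blockElem B)) := (invOn_top_iff.2 hec.red).mono le_top
    have hεε : red M (blockElem B) * red M (blockElem B) = red M (blockElem B) := by
      rw [← red_mul hei hei, blockElem_mul_self]
    rcases mul_bi_eq_or hM hεs hεi hεε hc with h | h
    · have hci : InvOn R (bi M N c) := by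
        rw [invOn_iff]
        intro r hr
        have := bi_cjIrr (M := M) N c r⁻¹
        rw [show cjIrr N r⁻¹ '' c = c from hLS (hRL (inv_mem hr)), inv_inv] at this
        exact this.symm
      haveI := charP_res hM
      have h' := br_mul hR ((invOn_top_iff.2 hec.red).mono le_top) hci
      rw [h] at h'
      obtain ⟨y, hy⟩ := exists_le_conj_of_br hM hB hD hR (fun h0 => hbr (by rw [h', h0, zero_mul]))
      refine hRN (hy.trans ?_)
      rintro _ ⟨z, hz, rfl⟩
      exact hPN (‹P.Normal›.conj_mem z hz y)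
    · exact red_mul_bi_ne_zero hM hB hc ⟨χ₀, hχ₀, θ₀, hθ₀, hcov⟩ h
  -- the `p`-parts of the degrees
  have hdeg : ∀ θ ∈ c, ∀ χ : IrrCharacter G,
      classInner (fun n : N => (χ : G → ℂ) n) ((θ : IrrCharacter N) : N → ℂ) ≠ 0 →
      (deg (χ : G → ℂ)).factorization p = N.index.factorization p + (deg (θ : N → ℂ)).factorization p := by
    intro θ hθ χ hχθ
    obtain ⟨e, he, hd⟩ := deg_over_eq N χ θ hχθ
    set I := inertia N (θ : N → ℂ)
    have hNI : N ≤ I := le_inertia (isClassFunction_irr θ)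
    have hrel : ¬ p ∣ N.relIndex I := by
      intro hdvd
      obtain ⟨S⟩ := (inferInstance : Nonempty (Sylow p I))
      have hSN : (S : Subgroup I) ≤ N.subgroupOf I := by
        intro s hs
        refine hstabN (s : G) ?_ ?_
        · obtain ⟨k, hk⟩ := (IsPGroup.iff_orderOf.1 S.2) ⟨s, hs⟩
          exact ⟨k, (Subgroup.orderOf_coe s).trans ((Subgroup.orderOf_mk s hs).symm.trans hk)⟩
        · have hθs : cjIrr N (s : G) θ = θ := Subtype.ext (by
            rw [cjIrr_val]; exact mem_inertia.1 s.2)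
          refine Set.Subset.antisymm ?_ ?_
          · rintro _ ⟨θ', hθ', rfl⟩
            have himg : IsPBlock M (cjIrr N (s : G) '' c) := IsPBlock.image_irrEquiv _ hc
            rw [← IsPBlock.eq_of_mem_inter hM himg hc (χ := θ) ⟨θ, hθ, hθs⟩ hθ]
            exact ⟨θ', hθ', rfl⟩
          · intro θ' hθ'
            have himg : IsPBlock M (cjIrr N (s : G) '' c) := IsPBlock.image_irrEquiv _ hc
            rwa [IsPBlock.eq_of_mem_inter hM himg hc (χ := θ) ⟨θ, hθ, hθs⟩ hθ]
      exact S.not_dvd_index (hdvd.trans (Subgroup.index_dvd_of_le hSN))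
    have he0 : e.factorization p = 0 :=
      Nat.factorization_eq_zero_of_not_dvd fun h => hrel (h.trans he)
    have hidx : N.index.factorization p = I.index.factorization p := by
      rw [← Subgroup.relIndex_mul_index hNI,
        Nat.factorization_mul (a := N.relIndex I) Subgroup.index_ne_zero_of_finite Subgroup.index_ne_zero_of_finite,
        Finsupp.add_apply, Nat.factorization_eq_zero_of_not_dvd hrel, zero_add]
    have he' : e ≠ 0 := fun h => by
      rw [h, zero_mul, mul_zero] at hd; exact (deg_irr_pos χ).ne' hd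
    rw [hd, Nat.factorization_mul Subgroup.index_ne_zero_of_finite
        (Nat.mul_ne_zero he' (deg_irr_pos θ).ne'), Nat.factorization_mul he' (deg_irr_pos θ).ne',
      Finsupp.add_apply, Finsupp.add_apply, he0, hidx, zero_add]
  -- heights
  obtain ⟨g, hg, S, hS⟩ := hD
  have hgi : (Subgroup.centralizer ({g} : Set G)).index.factorization p = P.index.factorization p := by
    have h1 := card_centSyl S
    rw [show centSyl S = P from hS.symm] at h1
    have h2 := congrArg (fun n : ℕ => n.factorization p)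
      (Subgroup.card_mul_index (Subgroup.centralizer ({g} : Set G)))
    have h3 := congrArg (fun n : ℕ => n.factorization p) (Subgroup.card_mul_index P)
    simp only [Nat.factorization_mul Nat.card_pos.ne' Subgroup.index_ne_zero_of_finite,
      Finsupp.add_apply] at h2 h3
    rw [h1, hp.factorization_pow, Finsupp.single_eq_same] at h3
    omega
  have hheight : ∀ θ ∈ c, ∀ χ : IrrCharacter G,
      classInner (fun n : N => (χ : G → ℂ) n) ((θ : IrrCharacter N) : N → ℂ) ≠ 0 →
      blockHeight p B (χ : G → ℂ) =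
        (deg (θ : N → ℂ)).factorization p - (P.subgroupOf N).index.factorization p := by
    intro θ hθ χ hχθ
    rw [blockHeight_eq hM hB hg, hdeg θ hθ χ hχθ, hgi, hidxN,
      Nat.factorization_mul Subgroup.index_ne_zero_of_finite Subgroup.index_ne_zero_of_finite,
      Finsupp.add_apply]
    omega
  obtain ⟨g', hg', S', hS'⟩ := hcD
  have hcge : ∀ θ ∈ c, (P.subgroupOf N).index.factorization p ≤
      (deg ((θ : IrrCharacter N) : N → ℂ)).factorization p := by
    intro θ hθ
    refine le_trans ?_ ((degree_bounds hM hc hg').1 θ hθ)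
    have h1 := card_centSyl S'
    rw [show centSyl S' = P.subgroupOf N from hS'.symm] at h1
    have h2 := congrArg (fun n : ℕ => n.factorization p)
      (Subgroup.card_mul_index (Subgroup.centralizer ({g'} : Set N)))
    have h3 := congrArg (fun n : ℕ => n.factorization p) (Subgroup.card_mul_index (P.subgroupOf N))
    simp only [Nat.factorization_mul Nat.card_pos.ne' Subgroup.index_ne_zero_of_finite,
      Finsupp.add_apply] at h2 h3
    rw [h1, hp.factorization_pow, Finsupp.single_eq_same] at h3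
    omega
  constructor
  · intro hab χ hχ
    obtain ⟨θ, hθ, hχθ⟩ := exists_constituent_mem hM hB hc ⟨χ₀, hχ₀, θ₀, hθ₀, hcov⟩ hχ
    rw [hheight θ hθ χ hχθ]
    letI : Fintype (P.subgroupOf N) := Fintype.ofFinite _
    have hcen : ∀ z ∈ P.subgroupOf N, ∀ n : N, n * z = z * n := by
      intro z hz n
      obtain ⟨r, hr, s, hs, e⟩ := Subgroup.mem_sup_of_normal_left.1 n.2
      refine Subtype.ext ?_
      show (n : G) * z = z * n
      have h1 : (z : G) * s = s * z := Subgroup.mem_centralizer_iff.1 hs _ hz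
      have h2 : r * (z : G) = z * r := hab r hr _ hz
      rw [← e, mul_assoc, ← h1, ← mul_assoc, h2, mul_assoc]
    have := deg_factorization_le_of_central (p := p) (P.subgroupOf N) hcen θ
    omega
  · intro hall
    have hmin : ∀ θ ∈ c, (deg ((θ : IrrCharacter N) : N → ℂ)).factorization p =
        (P.subgroupOf N).index.factorization p := by
      intro θ hθ
      obtain ⟨χ, hχi, hχθ⟩ := exists_over N θ.2
      have hB' := homega θ hθ ⟨χ, hχi⟩ hχθ
      have h1 := hheight θ hθ ⟨χ, hχi⟩ hχθ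
      rw [hall _ hB'] at h1
      have := hcge θ hθ
      omega
    have h := comm_of_all_minimal hM hP' hG' hc ⟨g', hg', S', hS'⟩ hmin
    intro a ha b hb
    exact congrArg Subtype.val (h ⟨a, hPN ha⟩ ha ⟨b, hPN hb⟩ hb)

end Cfsg.Lib.Blocks
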