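import Mathlib
import Cfsg.Agent.Blocks.IBr.EqualDegreeInertia
import Cfsg.Agent.Blocks.NormalDefectHeight
import Cfsg.Agent.Blocks.Quotient
import Cfsg.Agent.Blocks.Nilpotent
import Cfsg.Agent.Components.PxQ
import Cfsg.Agent.Coprime.Sylow
import Cfsg.Agent.PGroups.Basic

/-!
# Blocks with normal defect group: equal height-zero degrees and nilpotency

If the defect group `D` of `B` is normal then `B` is nilpotent as soon as the regular elements
fixing a block of `C(D)` below `B` centralise `D`.  Passing to the quotient by the derived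
subgroup of `D`, where the defect group is abelian and all heights are zero, equal degrees give
that property.
-/

set_option autoImplicit false
set_option linter.unusedSectionVars false
set_option linter.style.haveILetI false

namespace Cfsg.Lib.Blocks.NormalNil

open Cfsg.Lib.Chars Cfsg.Lib.Blocks

universe u

local notation "C⟨" P "⟩" => Subgroup.centralizer (SetLike.coe P)

variable {G : Type u} [Group G] [Fintype G] {M : Ideal AlgInt} {p : ℕ}

/-! ### Group algebra maps -/

section Maps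

variable {R : Type*} [CommRing R] {H : Type u} [Group H] [Fintype H]

lemma fn_map [DecidableEq G] (f : H →* G) (a : MonoidAlgebra R H) (g : G) :
    fn (MonoidAlgebra.mapDomainRingHom R f a) g =
      ∑ x ∈ Finset.univ.filter (fun x : H => f x = g), fn a x := by
  conv_lhs => rw [eq_sum_single a, map_sum, fn_sum]
  rw [Finset.sum_filter]
  refine Finset.sum_congr rfl fun x _ => ?_
  rw [show MonoidAlgebra.mapDomainRingHom R f (MonoidAlgebra.single x (fn a x)) =
    MonoidAlgebra.single (f x) (fn a x) from by simp, fn_single]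

lemma cj_eq_single (x : G) (a : MonoidAlgebra R G) :
    cj x a = MonoidAlgebra.single x 1 * a * MonoidAlgebra.single x⁻¹ 1 :=
  fn_ext fun g => by
    rw [fn_cj, fn_mul_single, fn_single_mul, one_mul, mul_one, inv_inv, mul_assoc]

lemma map_cj (f : H →* G) (x : H) (a : MonoidAlgebra R H) :
    MonoidAlgebra.mapDomainRingHom R f (cj x a) =
      cj (f x) (MonoidAlgebra.mapDomainRingHom R f a) := by
  rw [cj_eq_single, cj_eq_single, map_mul, map_mul]
  simp

end Maps

lemma red_qmap_eq (N : Subgroup G) [N.Normal] [Fintype (G ⧸ N)] {a : MonoidAlgebra ℂ G}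
    (ha : Integral M a) :
    red M (qmap N a) =
      MonoidAlgebra.mapDomainRingHom (Res M) (QuotientGroup.mk' N) (red M a) := by
  classical
  refine fn_ext fun q => ?_
  rw [fn_red, fn_qmap, res_sum _ _ fun x _ => ha x, fn_map]
  exact Finset.sum_congr rfl fun x _ => (fn_red a x).symm

lemma map_subtype_red {N : Subgroup G} [Fintype N] (z : MonoidAlgebra ℂ N) :
    MonoidAlgebra.mapDomainRingHom (Res M) N.subtype (red M z) = rx M N z := by
  classical
  refine fn_ext fun g => ?_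
  rw [fn_map]
  by_cases hg : g ∈ N
  · rw [Finset.sum_eq_single (⟨g, hg⟩ : N), fn_red, fn_rx_mem z hg]
    · exact fun b hb hne => absurd (Subtype.ext (Finset.mem_filter.1 hb).2) hne
    · intro h
      refine absurd ?_ h
      rw [Finset.mem_filter]
      exact ⟨Finset.mem_univ _, rfl⟩
  · rw [suppOn_rx z g hg]
    refine Finset.sum_eq_zero fun x hx => absurd ?_ hg
    rw [← (Finset.mem_filter.1 hx).2]
    exact x.2

/-- An invariant element of a subgroup algebra is a scalar plus a nilpotent on each block. -/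
lemma exists_scalar (hM : IsPModular p M) {N : Subgroup G} {a : MonoidAlgebra (Res M) G}
    (hs : SuppOn N a) (hi : InvOn N a) {b : Set (IrrCharacter N)} (hb : IsPBlock M b) :
    ∃ s : Res M, IsNilpotent (a * bi M N b - s • bi M N b) := by
  classical
  letI := Fintype.ofFinite N
  choose lift hlift1 hlift2 using exists_res_eq (M := M)
  set z : MonoidAlgebra ℂ N := ofFn fun h => lift (fn a (h : G)) with hz
  have hzc : IsCentralFn z := isCentralFn_ofFn fun g h => by
    simp only [Subgroup.coe_mul, Subgroup.coe_inv]; rw [hi _ h.2]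
  have hzi : Integral M z := fun h => by rw [hz, fn_ofFn]; exact hlift1 _
  have hrx : rx M N z = a := fn_ext fun g => by
    by_cases hg : g ∈ N
    · rw [fn_rx_mem _ hg, hz, fn_ofFn, hlift2]
    · rw [suppOn_rx _ g hg, hs g hg]
  have hec := isCentralFn_blockElem b
  have hei := integral_blockElem hM hb
  obtain ⟨ψ, hψ⟩ := IsPBlock.nonempty hM hb
  set l : ℂ := omega (ψ : N → ℂ) z with hl
  have hlp : l ∈ place M := omega_mem_place hM ψ hzc hzi
  have hnil : IsNilpotent (red M (z * blockElem b - l • blockElem b)) := by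
    refine isNilpotent_red_of_omega_small hM ((hzc.mul hec).sub (hec.smul l))
      ((hzi.mul hei).sub (hei.smul hlp)) fun φ => ?_
    rw [omega_sub, omega_mul φ hzc, omega_smul, omega_blockElem]
    split_ifs with hφ
    · rw [mul_one, mul_one, hl, ← res_eq_iff (omega_mem_place hM φ hzc hzi) hlp]
      exact res_omega_eq_of_sameBlock hM (IsPBlock.sameBlock hM hb hφ hψ) hzc hzi
    · rw [mul_zero, mul_zero, sub_zero]; exact small_zero
  refine ⟨res M l, ?_⟩
  have h := hnil.map (MonoidAlgebra.mapDomainRingHom (Res M) N.subtype)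
  rw [map_subtype_red] at h
  have e : rx M N (z * blockElem b - l • blockElem b) = a * bi M N b - res M l • bi M N b := by
    rw [← hrx, bi_eq_rx, ← rx_mul hzi hei]
    refine fn_ext fun g => ?_
    rw [fn_sub, fn_smul]
    by_cases hg : g ∈ N
    · rw [fn_rx_mem _ hg, fn_rx_mem _ hg, fn_rx_mem _ hg, fn_sub, fn_smul,
        res_sub ((hzi.mul hei) _) (mul_mem hlp (hei _)), res_mul hlp (hei _)]
    · rw [suppOn_rx _ g hg, suppOn_rx _ g hg, suppOn_rx _ g hg, mul_zero, sub_zero]
  rwa [e] at h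

/-- A commuting idempotent differing from a multiple of an idempotent by a nilpotent element is
zero or that idempotent. -/
lemma idem_zero_or_eq {A k : Type*} [Field k] [Ring A] [Algebra k A] {a b : A} (ha : a * a = a)
    (hb : b * b = b) (hab : a * b = a) (hba : b * a = a) {s : k}
    (hn : IsNilpotent (a - s • b)) : a = 0 ∨ a = b := by
  have hc : Commute a (a - s • b) :=
    (Commute.refl a).sub_right (Commute.smul_right (show a * b = b * a by rw [hab, hba]) s)
  have h1 : IsNilpotent ((1 - s) • a) := by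
    have h := hc.isNilpotent_mul_left hn
    rwa [mul_sub, mul_smul_comm, ha, hab, ← one_smul k a, smul_smul, mul_one,
      ← sub_smul] at h
  by_cases hs : s = 1
  · refine .inr (eq_of_isNilpotent_sub ha hb (by rw [hab, hba]) ?_)
    rwa [hs, one_smul] at hn
  · refine .inl ?_
    have h2 := h1.smul (1 - s)⁻¹
    rw [smul_smul, inv_mul_cancel₀ (sub_ne_zero.2 (Ne.symm hs)), one_smul] at h2
    obtain ⟨n, hn'⟩ := h2
    rw [← hn']
    cases n with
    | zero => rw [pow_zero] at hn' ⊢; rw [← mul_one a, hn', mul_zero]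
    | succ n => exact (IsIdempotentElem.pow_succ_eq n ha).symm

/-! ### Regular elements -/

section Regular

variable [Fact p.Prime] {D : Subgroup G} [D.Normal]

/-- A regular element centralising `Q` and `C_D(Q)` centralises `D`. -/
lemma centralizes_of_pxq (hD : IsPGroup p D) {Q : Subgroup G} (hQD : Q ≤ D) {y : G}
    (hy : ¬ p ∣ orderOf y) (hyQ : y ∈ C⟨Q⟩)
    (hyC : ∀ d ∈ D, d ∈ C⟨Q⟩ → d * y = y * d) : y ∈ C⟨D⟩ := by
  have h := Cfsg.Lib.Components.pxq_element (p := p)
    ((Fact.out : p.Prime).coprime_iff_not_dvd.2 hy).symm (hD.to_le hQD) hyQ D hD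
    (hQD.trans Subgroup.le_normalizer) (by rw [Subgroup.normalizer_eq_top]; exact Subgroup.mem_top y)
    (fun d hd => Subgroup.mem_centralizer_singleton_iff.2 (hyC d hd.1 hd.2))
  exact Subgroup.mem_centralizer_iff.2 fun d hd => Subgroup.mem_centralizer_singleton_iff.1 (h hd)

/-- The idempotent of a block of the centraliser of a subgroup of `D` lives on `C(D)`. -/
lemma suppOn_bi_centralizer (hM : IsPModular p M) (hD : IsPGroup p D) {Q : Subgroup G}
    (hQD : Q ≤ D) {f : Set (IrrCharacter C⟨Q⟩)} (hf : IsPBlock M f) :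
    SuppOn C⟨D⟩ (bi M C⟨Q⟩ f) := by
  classical
  intro g hg
  by_cases hgQ : g ∈ C⟨Q⟩
  swap
  · exact suppOn_bi f g hgQ
  letI := Fintype.ofFinite C⟨Q⟩
  rw [bi_eq_rx, fn_rx_mem _ hgQ, fn_blockElem]
  by_cases hreg : p ∣ orderOf g
  · rw [blockCoeff_eq_zero_of_singular hM hf (by rwa [← Subgroup.orderOf_coe]), res_zero]
  haveI : (D.subgroupOf C⟨Q⟩).Normal := Subgroup.Normal.subgroupOf inferInstance _
  rw [blockCoeff_eq_zero_of_not_mem_centralizer hM
    (P := D.subgroupOf C⟨Q⟩) (hD.comap_of_injective _ (Subgroup.subtype_injective _)) hf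
    (fun hc => hg (centralizes_of_pxq hD hQD hreg hgQ fun d hd hdQ =>
      congrArg Subtype.val (Subgroup.mem_centralizer_iff.1 hc ⟨d, hdQ⟩ hd))), res_zero]

/-- A regular element centralising `D` modulo its derived subgroup centralises `D`. -/
lemma centralizes_of_mod_derived (hD : IsPGroup p D) {x : G} (hx : ¬ p ∣ orderOf x)
    (hxc : (x : G ⧸ ⁅D, D⁆) ∈
      Subgroup.centralizer ((D.map (QuotientGroup.mk' ⁅D, D⁆) : Subgroup (G ⧸ ⁅D, D⁆)) :
        Set (G ⧸ ⁅D, D⁆))) : x ∈ C⟨D⟩ := by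
  refine (Cfsg.Lib.Coprime.le_centralizer_of_frattini (A := Subgroup.zpowers x) (K := D) ?_ ?_ ?_)
    (Subgroup.mem_zpowers x)
  · rw [Subgroup.normalizer_eq_top]; exact le_top
  · rw [Nat.card_zpowers]
    obtain ⟨j, hj⟩ := IsPGroup.iff_card.1 (hD.to_subgroup (frattini D))
    rw [hj]
    exact ((Fact.out : p.Prime).coprime_iff_not_dvd.2 hx).symm.pow_right j
  · intro b hb k hk
    have hle : ⁅D, D⁆ ≤ (frattini D).map D.subtype := by
      rw [← Subgroup.map_subtype_commutator D]
      exact Subgroup.map_mono (Cfsg.Lib.PGroups.commutator_le_frattini hD)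
    refine hle ((QuotientGroup.eq_one_iff _).1 ?_)
    obtain ⟨i, rfl⟩ := Subgroup.mem_zpowers_iff.1 hb
    have hc : Commute ((x : G ⧸ ⁅D, D⁆) ^ i) (k : G ⧸ ⁅D, D⁆) :=
      Commute.zpow_left (Subgroup.mem_centralizer_iff.1 hxc _
        (Subgroup.mem_map_of_mem (QuotientGroup.mk' ⁅D, D⁆) hk)).symm i
    rw [QuotientGroup.mk_mul, QuotientGroup.mk_mul, QuotientGroup.mk_mul, QuotientGroup.mk_inv,
      QuotientGroup.mk_inv, QuotientGroup.mk_zpow, hc.eq, mul_inv_cancel_right, mul_inv_cancel]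

end Regular

variable [Fact p.Prime]

/-- Pairs on one subgroup below each other are equal. -/
lemma bi_eq_of_subpairLE (hM : IsPModular p M) {R D : Subgroup G} {k : Set (IrrCharacter C⟨R⟩)}
    {c : Set (IrrCharacter C⟨D⟩)} (hc : IsBrauerPair p M D c) (h : SubpairLE p M R k D c)
    (hRD : R = D) : bi M C⟨R⟩ k = bi M C⟨D⟩ c := by
  subst hRD
  rw [(existsUnique_subpairLE hM hc le_rfl).unique h Relation.ReflTransGen.refl]

/-- The pairs of a block on a normal defect group are conjugate. -/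
lemma exists_cj_eq (hM : IsPModular p M) {B : Set (IrrCharacter G)} {D : Subgroup G} [D.Normal]
    {c b : Set (IrrCharacter C⟨D⟩)} (hmax : IsMaximalBrauerPair p M B D c)
    (hb : IsBrauerPairOf p M B D b) : ∃ w : G, cj w (bi M C⟨D⟩ b) = bi M C⟨D⟩ c := by
  obtain ⟨w, hw⟩ := exists_conj_subpairLE hM hmax hb
  have hDw : D.map (MulAut.conj w).toMonoidHom = D :=
    map_conj_of_mem_normalizer (by rw [Subgroup.normalizer_eq_top]; exact Subgroup.mem_top w)
  refine ⟨w, ?_⟩
  rw [← bi_conjBlock]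
  exact bi_eq_of_subpairLE hM hmax.1.1 hw hDw

section Criterion

variable {B : Set (IrrCharacter G)} {D : Subgroup G} [D.Normal] {c : Set (IrrCharacter C⟨D⟩)}

/-- The idempotent of a pair below the maximal pair contains that of the maximal pair. -/
lemma bi_mul_of_subpairLE (hM : IsPModular p M) (hD : IsPGroup p D) (hc : IsPBlock M c)
    {Q : Subgroup G} {f : Set (IrrCharacter C⟨Q⟩)} (h : SubpairLE p M Q f D c) :
    bi M C⟨Q⟩ f * bi M C⟨D⟩ c = bi M C⟨D⟩ c := by
  letI := Fintype.ofFinite C⟨D⟩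
  suffices key : ∀ a : BrauerPairIdx G,
      Relation.ReflTransGen (NormalSubpairRel p M) a ⟨D, c⟩ →
        bi M C⟨a.1⟩ a.2 * bi M C⟨D⟩ c = bi M C⟨D⟩ c from key ⟨Q, f⟩ h
  intro a ha
  induction ha using Relation.ReflTransGen.head_induction_on with
  | refl => exact bi_mul_self hM hc
  | head hstep hrest ih =>
    obtain ⟨ha, -, hle, -, -, hbr⟩ := (isNormalSubpair_iff hM _ _ _ _).1 hstep
    have hbD := subpairLE_le hrest
    rw [br, trunc_eq_self ((suppOn_bi_centralizer hM hD (hle.trans hbD) ha.2).mono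
      (le_centralizer_of_le hbD))] at hbr
    calc _ = _ * (_ * bi M C⟨D⟩ c) := by rw [ih]
      _ = bi M C⟨D⟩ c := by rw [← mul_assoc, hbr, ih]

/-- The blocks of `C(D)` below a pair form one orbit of the centraliser. -/
lemma exists_centralizer_cj_eq (hM : IsPModular p M) (hc : IsPBlock M c)
    {Q : Subgroup G} (hQD : Q ≤ D) {f : Set (IrrCharacter C⟨Q⟩)} (hf : IsPBlock M f)
    (hfc : bi M C⟨Q⟩ f * bi M C⟨D⟩ c = bi M C⟨D⟩ c) {x : G}
    (hx : cj x (bi M C⟨Q⟩ f) = bi M C⟨Q⟩ f) :
    ∃ t ∈ C⟨Q⟩, cj x (bi M C⟨D⟩ c) = cj t (bi M C⟨D⟩ c) := by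
  classical
  letI := Fintype.ofFinite C⟨D⟩
  letI := Fintype.ofFinite C⟨Q⟩
  haveI : C⟨D⟩.Normal := Subgroup.normal_centralizer
  set β := bi M C⟨D⟩ c with hβ
  have hblk : ∀ g : G, ∃ b, IsPBlock M b ∧ bi M C⟨D⟩ b = cj g β := fun g => by
    have h : IsConjSub C⟨D⟩ C⟨D⟩ g := isConjSub_of_mem_normalizer (by
      rw [Subgroup.normalizer_eq_top]; exact Subgroup.mem_top g)
    exact ⟨_, IsPBlock.conjSet h hc, bi_conjSet h c⟩
  have horth : ∀ g h : G, cj g β ≠ cj h β → cj g β * cj h β = 0 := fun g h hne => by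
    obtain ⟨b, hb, e⟩ := hblk g
    obtain ⟨b', hb', e'⟩ := hblk h
    rw [← e, ← e'] at hne ⊢
    exact bi_mul_bi hM hb hb' fun heq => hne (by rw [heq])
  have hidem : ∀ g : G, cj g β * cj g β = cj g β := fun g => by
    rw [← cj_mul, bi_mul_self hM hc]
  set O := (Finset.univ : Finset C⟨Q⟩).image fun t : C⟨Q⟩ => cj (t : G) β with hO
  set s := ∑ b ∈ O, b with hs
  have hsb : ∀ t : C⟨Q⟩, s * cj (t : G) β = cj (t : G) β := fun t => by
    rw [hs, Finset.sum_mul, Finset.sum_eq_single (cj (t : G) β), hidem]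
    · intro b hb hne
      obtain ⟨t', -, rfl⟩ := Finset.mem_image.1 hb
      exact horth _ _ hne
    · intro h
      exact absurd (Finset.mem_image_of_mem _ (Finset.mem_univ t)) h
  have hCle : C⟨D⟩ ≤ C⟨Q⟩ := le_centralizer_of_le hQD
  have hsupp : SuppOn C⟨Q⟩ s := SuppOn.sum _ fun b hb g hg => by
    obtain ⟨t, -, rfl⟩ := Finset.mem_image.1 hb
    rw [fn_cj]
    refine suppOn_bi c _ fun h => hg (hCle ?_)
    have h' := (inferInstance : C⟨D⟩.Normal).conj_mem _ h (t : G)
    rwa [show (t : G) * ((t : G)⁻¹ * g * t) * (t : G)⁻¹ = g by group] at h'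
  have hinv : InvOn C⟨Q⟩ s := invOn_iff.2 fun k hk => by
    rw [hs, cj_sum]
    refine Finset.sum_bij (fun b _ => cj k b) (fun b hb => ?_)
      (fun a _ b _ h => cj_injective k h) (fun b hb => ?_) (fun b _ => rfl)
    · obtain ⟨t, -, rfl⟩ := Finset.mem_image.1 hb
      exact Finset.mem_image.2 ⟨⟨k, hk⟩ * t, Finset.mem_univ _, by rw [cj_cj, Subgroup.coe_mul]⟩
    · obtain ⟨t, -, rfl⟩ := Finset.mem_image.1 hb
      refine ⟨cj (((⟨k, hk⟩ : C⟨Q⟩)⁻¹ * t : C⟨Q⟩) : G) β,
        Finset.mem_image_of_mem _ (Finset.mem_univ _), ?_⟩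
      show cj k _ = _
      rw [cj_cj, Subgroup.coe_mul, Subgroup.coe_inv, mul_inv_cancel_left]
  have hss : s * s = s := by
    conv_lhs => arg 2; rw [hs]
    rw [Finset.mul_sum]
    refine Finset.sum_congr rfl fun b hb => ?_
    obtain ⟨t, -, rfl⟩ := Finset.mem_image.1 hb
    exact hsb t
  have hsf : s * bi M C⟨Q⟩ f = bi M C⟨Q⟩ f := by
    refine (mul_bi_eq_or hM hsupp hinv hss hf).resolve_right fun h0 => bi_ne_zero hM hc ?_
    have h1 : s * β = β := by simpa [cj_one] using hsb 1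
    rw [← hβ, ← hfc, ← h1, ← mul_assoc, ← hinv.comm (suppOn_bi f), h0, zero_mul]
  have hfx : bi M C⟨Q⟩ f * cj x β = cj x β := by
    conv_lhs => rw [← hx, ← cj_mul, hfc]
  have hsx : s * cj x β = cj x β := by
    rw [← hfx, ← mul_assoc, hsf]
  by_contra hne
  push Not at hne
  refine bi_ne_zero hM hc (cj_injective x ?_)
  rw [cj_zero, ← hsx, hs, Finset.sum_mul]
  refine Finset.sum_eq_zero fun b hb => ?_
  obtain ⟨t, -, rfl⟩ := Finset.mem_image.1 hb
  exact horth _ _ fun e => hne t t.2 e.symm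

/-- **A criterion for nilpotency with a normal defect group.** -/
theorem nilpotent_of_normal (hM : IsPModular p M) (hmax : IsMaximalBrauerPair p M B D c)
    (hH : ∀ x : G, ¬ p ∣ orderOf x → cj x (bi M C⟨D⟩ c) = bi M C⟨D⟩ c → x ∈ C⟨D⟩) :
    IsNilpotentBlock p M B := by
  classical
  refine ⟨hmax.1.2.1, fun R k hRk x hxN hxs hxreg => ?_⟩
  obtain ⟨w, hw⟩ := exists_conj_subpairLE hM hmax hRk
  set Q := R.map (MulAut.conj w).toMonoidHom with hQ
  set x' := w * x * w⁻¹ with hx'
  have hx'N : x' ∈ Subgroup.normalizer (Q : Set G) := Subgroup.le_normalizer_map _ ⟨x, hxN, rfl⟩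
  have hfix : cj x' (bi M C⟨Q⟩ (conjBlock R w k)) = bi M C⟨Q⟩ (conjBlock R w k) := by
    rw [hx', bi_conjBlock, cj_cj, inv_mul_cancel_right, ← cj_cj,
      (stabilizes_iff_of_normalizer hM hRk.1.2 hxN).1 hxs]
  have hQD : Q ≤ D := subpairLE_le hw
  have hDp := hmax.1.1.1
  have hc := hmax.1.1.2
  obtain ⟨t, ht, hxt⟩ := exists_centralizer_cj_eq hM hc hQD (isPBlock_conjBlock R w hRk.1.2)
    (bi_mul_of_subpairLE hM hDp hc hw) hfix
  set y := t⁻¹ * x' with hy
  have hyc : cj y (bi M C⟨D⟩ c) = bi M C⟨D⟩ c := by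
    rw [hy, ← cj_cj, hxt, cj_cj, inv_mul_cancel, cj_one]
  obtain ⟨a, m, hm, hord⟩ := Nat.exists_eq_pow_mul_and_not_dvd (orderOf_pos y).ne' p
    (Fact.out : p.Prime).ne_one
  have hyreg : ¬ p ∣ orderOf (y ^ p ^ a) := by
    rw [orderOf_pow' y (pow_ne_zero a (Fact.out : p.Prime).ne_zero), hord,
      Nat.gcd_eq_right (dvd_mul_right _ _), Nat.mul_div_cancel_left _
        (pow_pos (Fact.out : p.Prime).pos a)]
    exact hm
  have hycj : ∀ n : ℕ, cj (y ^ n) (bi M C⟨D⟩ c) = bi M C⟨D⟩ c := by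
    intro n
    induction n with
    | zero => rw [pow_zero, cj_one]
    | succ n ih => rw [pow_succ, ← cj_cj, hyc, ih]
  have hya : y ^ p ^ a ∈ C⟨Q⟩ := le_centralizer_of_le hQD (hH _ hyreg (hycj _))
  set N := Subgroup.normalizer (Q : Set G)
  haveI : (C⟨Q⟩.subgroupOf N).Normal := ⟨fun c hc t =>
    (Subgroup.mem_normalizer_iff.1 (centralizer_le_normalizer_centralizer t.2 le_rfl) (c : G)).1 hc⟩
  have hyN : y ∈ N := mul_mem (inv_mem (Subgroup.centralizer_le_normalizer _ ht)) hx'N
  have hq : ((⟨y, hyN⟩ : N) : N ⧸ C⟨Q⟩.subgroupOf N) =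
      ((⟨x', hx'N⟩ : N) : N ⧸ C⟨Q⟩.subgroupOf N) := by
    refine QuotientGroup.eq.2 ?_
    show y⁻¹ * x' ∈ C⟨Q⟩
    rw [hy, show (t⁻¹ * x')⁻¹ * x' = x'⁻¹ * t * x' by group]
    have := (Subgroup.mem_normalizer_iff.1
      (centralizer_le_normalizer_centralizer (inv_mem hx'N) le_rfl) t).1 ht
    rwa [inv_inv] at this
  have hone : ((⟨x', hx'N⟩ : N) : N ⧸ C⟨Q⟩.subgroupOf N) = 1 := by
    refine map_eq_one_of_coprime (p := p) (m := orderOf x') (k := a) ?_ ?_ ?_
    · rw [← QuotientGroup.mk_pow, show (⟨x', hx'N⟩ : N) ^ orderOf x' = 1 from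
        Subtype.ext (pow_orderOf_eq_one x'), QuotientGroup.mk_one]
    · rw [← hq, ← QuotientGroup.mk_pow]
      exact (QuotientGroup.eq_one_iff _).2 hya
    · rw [hx', show w * x * w⁻¹ = MulAut.conj w x from rfl, MulEquiv.orderOf_eq]
      exact hxreg
  have hxC : x' ∈ C⟨Q⟩ := (QuotientGroup.eq_one_iff (⟨x', hx'N⟩ : N)).1 hone
  have h2 := (isConjSub_centralizer R w x').1 hxC
  rwa [show w⁻¹ * x' * w = x by rw [hx']; group] at h2

end Criterion

lemma exists_defect_index {B : Set (IrrCharacter G)} {D : Subgroup G}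
    (hD : IsDefectGroup p M B D) :
    ∃ g, IsDefectClass M B g ∧
      (Subgroup.centralizer ({g} : Set G)).index.factorization p = D.index.factorization p := by
  obtain ⟨g, hg, S, hS⟩ := hD
  refine ⟨g, hg, ?_⟩
  have h1 := card_centSyl S
  rw [show centSyl S = D from hS.symm] at h1
  have h2 := congrArg (fun n : ℕ => n.factorization p)
    (Subgroup.card_mul_index (Subgroup.centralizer ({g} : Set G)))
  have h3 := congrArg (fun n : ℕ => n.factorization p) (Subgroup.card_mul_index D)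
  simp only [Nat.factorization_mul Nat.card_pos.ne' Subgroup.index_ne_zero_of_finite,
    Finsupp.add_apply] at h2 h3
  rw [h1, (Fact.out : p.Prime).factorization_pow, Finsupp.single_eq_same] at h3
  omega

/-- **Equal height-zero degrees over a normal defect group.** -/
theorem regular_stab_le_centralizer (hM : IsPModular p M) {B : Set (IrrCharacter G)}
    {D : Subgroup G} [D.Normal] (hD : IsDefectGroup p M B D) {c : Set (IrrCharacter C⟨D⟩)}
    (hmax : IsMaximalBrauerPair p M B D c) {d : ℕ}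
    (hd : ∀ χ ∈ B, blockHeight p B ((χ : IrrCharacter G) : G → ℂ) = 0 →
      deg (χ : G → ℂ) = d) :
    ∀ x : G, ¬ p ∣ orderOf x → cj x (bi M C⟨D⟩ c) = bi M C⟨D⟩ c → x ∈ C⟨D⟩ := by
  classical
  haveI := charP_res hM
  have hB := hmax.1.2.1
  have hc := hmax.1.1.2
  have hDp : IsPGroup p D := IsDefectGroup.isPGroup hD
  haveI : C⟨D⟩.Normal := Subgroup.normal_centralizer
  letI := Fintype.ofFinite C⟨D⟩
  set Q : Subgroup G := ⁅D, D⁆ with hQ
  have hQD : Q ≤ D := Subgroup.commutator_le_right D D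
  have hQp : IsPGroup p Q := hDp.to_le hQD
  letI := Fintype.ofFinite (G ⧸ Q)
  set f := QuotientGroup.mk' Q with hf
  have hfs : Function.Surjective f := QuotientGroup.mk'_surjective Q
  set Dbar := D.map f with hDbar
  haveI : Dbar.Normal := Subgroup.Normal.map inferInstance f hfs
  letI := Fintype.ofFinite C⟨Dbar⟩
  have hDbp : IsPGroup p Dbar := hDp.map f
  obtain ⟨Bb, hBb, hsub, hdef⟩ := exists_block_quotient hM Q hQp hB
  have hDb : IsDefectGroup p M Bb Dbar := (hdef _).2 ⟨D, hD, rfl⟩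
  have hab : ∀ a ∈ Dbar, ∀ b ∈ Dbar, a * b = b * a := by
    rintro _ ⟨a, ha, rfl⟩ _ ⟨b, hb, rfl⟩
    rw [← commutatorElement_eq_one_iff_mul_comm, ← map_commutatorElement]
    exact (QuotientGroup.eq_one_iff _).2 (Subgroup.commutator_mem_commutator ha hb)
  have hh0 := (normal_defect_comm_iff hM hBb hDb).1 hab
  -- all members of the block of the quotient have one degree
  obtain ⟨g, hg, hgi⟩ := exists_defect_index hD
  obtain ⟨gb, hgb, hgbi⟩ := exists_defect_index hDb
  have hidx : Dbar.index = D.index :=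
    Subgroup.index_map_eq D hfs (by rw [hf, QuotientGroup.ker_mk']; exact hQD)
  have hdb : ∀ φ ∈ Bb, deg ((φ : IrrCharacter (G ⧸ Q)) : G ⧸ Q → ℂ) = d := by
    intro φ hφ
    have h1 := (blockHeight_eq_zero_iff hM hBb hgb hφ).1 (hh0 φ hφ)
    have e : deg (inflate Q φ : G → ℂ) = deg (φ : G ⧸ Q → ℂ) := by
      simp only [deg, inflate_val, QuotientGroup.mk_one]
    rw [← e]
    refine hd _ (hsub φ hφ) ((blockHeight_eq_zero_iff hM hB hg (hsub φ hφ)).2 ?_)
    rw [e, h1, hgbi, hidx, hgi]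
  obtain ⟨cb, hmaxb, htriv⟩ := IBr.exists_trivial_inertia hM hBb hDb hab hdb
  intro x hxreg hxc
  suffices hxb : (x : G ⧸ Q) ∈ C⟨Dbar⟩ from centralizes_of_mod_derived hDp hxreg hxb
  set π := MonoidAlgebra.mapDomainRingHom (Res M) f with hπ
  set β := bi M C⟨D⟩ c with hβ
  set γ := π β with hγ
  have hCN : C⟨D⟩ ≤ C⟨Q⟩ := le_centralizer_of_le hQD
  have hCmap : ∀ y ∈ C⟨D⟩, (y : G ⧸ Q) ∈ C⟨Dbar⟩ := fun y hy => by
    rw [Subgroup.mem_centralizer_iff]
    rintro _ ⟨a, ha, rfl⟩
    show f a * f y = f y * f a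
    rw [← map_mul, ← map_mul, Subgroup.mem_centralizer_iff.1 hy a ha]
  have hγγ : γ * γ = γ := by rw [hγ, ← map_mul, bi_mul_self hM hc]
  have hγs : SuppOn C⟨Dbar⟩ γ := fun q hq => by
    rw [hγ, fn_map]
    exact Finset.sum_eq_zero fun y hy =>
      suppOn_bi c y fun h => hq ((Finset.mem_filter.1 hy).2 ▸ hCmap y h)
  have hβreg : ∀ y : G, fn β y ≠ 0 → y ∈ C⟨D⟩ ∧ ¬ p ∣ orderOf y := fun y hy => by
    have hyC : y ∈ C⟨D⟩ := by_contra fun h => hy (suppOn_bi c y h)
    refine ⟨hyC, fun hdvd => hy ?_⟩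
    rw [hβ, bi_eq_rx, fn_rx_mem _ hyC, fn_blockElem,
      blockCoeff_eq_zero_of_singular hM hc (by rwa [← Subgroup.orderOf_coe]), res_zero]
  have huniq : ∀ y z : G, y ∈ C⟨D⟩ → ¬ p ∣ orderOf y → ¬ p ∣ orderOf z →
      (z : G ⧸ Q) = (y : G ⧸ Q) → z = y := fun y z hy hyr hzr h =>
    (inv_mul_eq_one.1 (eq_one_of_regular_mul hM.1 hQp (hCN hy) hyr (QuotientGroup.eq.1 h.symm)
      (by rwa [mul_inv_cancel_left]))).symm
  have hγ0 : γ ≠ 0 := by
    obtain ⟨y, hy⟩ : ∃ y, fn β y ≠ 0 := by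
      by_contra h
      push Not at h
      exact bi_ne_zero hM hc (fn_ext fun y => by rw [h y, fn_zero])
    obtain ⟨hyC, hyr⟩ := hβreg y hy
    intro h0
    have h := congrArg (fun a => fn a (f y)) h0
    simp only [hγ, fn_zero] at h
    rw [fn_map, Finset.sum_eq_single y] at h
    · exact hy h
    · intro z hz hne
      by_contra hz0
      exact hne (huniq y z hyC hyr (hβreg z hz0).2 (Finset.mem_filter.1 hz).2)
    · intro hn
      refine absurd ?_ hn
      rw [Finset.mem_filter]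
      exact ⟨Finset.mem_univ _, rfl⟩
  -- each block of the centraliser of the image contains `γ` or is orthogonal to it
  have hblocks : ∀ b : Set (IrrCharacter C⟨Dbar⟩), IsPBlock M b →
      bi M C⟨Dbar⟩ b * γ = 0 ∨ bi M C⟨Dbar⟩ b * γ = γ := by
    intro b hb
    let φ : MonoidAlgebra (Res M) G := ofFn fun y =>
      if y ∈ C⟨D⟩ ∧ ¬ p ∣ orderOf y then fn (bi M C⟨Dbar⟩ b) (y : G ⧸ Q) else 0
    have hφs : SuppOn C⟨D⟩ φ := fun y hy => by
      simp only [φ, fn_ofFn]
      rw [if_neg fun h => hy h.1]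
    have hφi : InvOn C⟨D⟩ φ := fun k hk y => by
      simp only [φ, fn_ofFn]
      have hord : orderOf (k * y * k⁻¹) = orderOf y :=
        orderOf_injective (MulAut.conj k).toMonoidHom (MulAut.conj k).injective y
      refine if_congr ?_ ?_ rfl
      · rw [hord]
        refine and_congr_left' ⟨fun h => ?_, fun h => mul_mem (mul_mem hk h) (inv_mem hk)⟩
        have := mul_mem (mul_mem (inv_mem hk) h) hk
        rwa [show k⁻¹ * (k * y * k⁻¹) * k = y by group] at this
      · rw [QuotientGroup.mk_mul, QuotientGroup.mk_mul, QuotientGroup.mk_inv]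
        exact invOn_bi b _ (hCmap k hk) _
    have hπφ : π φ = bi M C⟨Dbar⟩ b := by
      refine fn_ext fun q => ?_
      rw [fn_map]
      by_cases hq : q ∈ C⟨Dbar⟩ ∧ ¬ p ∣ orderOf q
      · obtain ⟨y, hy, hyq⟩ := exists_regular_lift (P := Q) hM hq.2
        have hyC : y ∈ C⟨D⟩ := centralizes_of_mod_derived hDp hy (show (y : G ⧸ Q) ∈ C⟨Dbar⟩ by rw [hyq]; exact hq.1)
        rw [Finset.sum_eq_single y]
        · simp only [φ, fn_ofFn]
          rw [if_pos ⟨hyC, hy⟩, hyq]
        · intro z hz hne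
          simp only [φ, fn_ofFn]
          rw [if_neg]
          rintro ⟨-, hzr⟩
          exact hne (huniq y z hyC hy hzr (((Finset.mem_filter.1 hz).2).trans hyq.symm))
        · intro hn
          refine absurd ?_ hn
          rw [Finset.mem_filter]
          exact ⟨Finset.mem_univ _, hyq⟩
      · have h0 : fn (bi M C⟨Dbar⟩ b) q = 0 := by
          by_cases hqC : q ∈ C⟨Dbar⟩
          · have hqs : p ∣ orderOf q := by
              by_contra h
              exact hq ⟨hqC, h⟩
            rw [bi_eq_rx, fn_rx_mem _ hqC, fn_blockElem,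
              blockCoeff_eq_zero_of_singular hM hb (by rwa [← Subgroup.orderOf_coe]), res_zero]
          · exact suppOn_bi b q hqC
        rw [h0]
        refine Finset.sum_eq_zero fun z hz => ?_
        simp only [φ, fn_ofFn]
        rw [show ((z : G) : G ⧸ Q) = q from (Finset.mem_filter.1 hz).2, h0, ite_self]
    obtain ⟨s, hs⟩ := exists_scalar hM hφs hφi hc
    have hn := hs.map π
    have e : π (φ * β - s • β) = bi M C⟨Dbar⟩ b * γ - s • γ := by
      rw [map_sub, map_mul, hπφ]
      congr 1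
      refine fn_ext fun q => ?_
      rw [fn_smul, fn_map, fn_map, Finset.mul_sum]
      exact Finset.sum_congr rfl fun y _ => fn_smul s β y
    rw [e] at hn
    have hcm : bi M C⟨Dbar⟩ b * γ = γ * bi M C⟨Dbar⟩ b := (invOn_bi b).comm hγs
    exact idem_zero_or_eq (k := Res M)
      (by rw [mul_assoc, ← mul_assoc γ, ← hcm, mul_assoc, hγγ, ← mul_assoc,
        bi_mul_self hM hb]) hγγ
      (by rw [mul_assoc, hγγ]) (by rw [← mul_assoc, ← hcm, mul_assoc, hγγ]) hn
  -- the block containing `γ` belongs to a pair of the quotient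
  set ε := red M (blockElem Bb) with hε
  have hεs : SuppOn C⟨Dbar⟩ ε := fun q hq => by
    rw [hε, fn_red, fn_blockElem, blockCoeff_eq_zero_of_not_mem_centralizer hM hDbp hBb hq,
      res_zero]
  have hεc : IsCentralFn ε := (isCentralFn_blockElem Bb).red
  have hεε : ε * ε = ε := by
    rw [hε, ← red_mul (integral_blockElem hM hBb) (integral_blockElem hM hBb), blockElem_mul_self]
  have hεγ : ε * γ ≠ 0 := by
    intro h0
    set e := red M (blockElem B) with he
    have hes : SuppOn C⟨D⟩ e := fun y hy => by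
      rw [he, fn_red, fn_blockElem, blockCoeff_eq_zero_of_not_mem_centralizer hM hDp hB hy,
        res_zero]
    have hei : InvOn C⟨D⟩ e :=
      (invOn_top_iff.2 (isCentralFn_blockElem B).red).mono le_top
    have hee : e * e = e := by
      rw [he, ← red_mul (integral_blockElem hM hB) (integral_blockElem hM hB), blockElem_mul_self]
    have hπe : ε * π e = ε := by
      have hzc := isCentralFn_qmap Q (isCentralFn_blockElem B)
      have hzi := integral_qmap Q (integral_blockElem hM hB)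
      have hmul : blockElem Bb * qmap Q (blockElem B) = blockElem Bb := by
        refine eq_of_omega_eq ((isCentralFn_blockElem Bb).mul hzc) (isCentralFn_blockElem _)
          fun φ => ?_
        rw [omega_mul φ (isCentralFn_blockElem Bb), omega_blockElem]
        split_ifs with h
        · rw [omega_qmap_blockElem, if_pos (hsub φ h), mul_one]
        · rw [zero_mul]
      rw [hπ, he, ← red_qmap_eq Q (integral_blockElem hM hB), hε,
        ← red_mul (integral_blockElem hM hBb) hzi, hmul]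
    have hone : e = ∑ b ∈ blocksFinset M C⟨D⟩, e * bi M C⟨D⟩ b := by
      rw [← Finset.mul_sum, sum_bi hM, mul_one]
    have hεne : ε ≠ 0 := fun h => br_defectGroup_ne_zero hM hBb hDb (by
      rw [← hε, h, br_zero])
    refine hεne ?_
    rw [← hπe, hone, map_sum, Finset.mul_sum]
    refine Finset.sum_eq_zero fun b hb => ?_
    have hbB := (mem_blocksFinset hM).1 hb
    rcases mul_bi_eq_or hM hes hei hee hbB with h | h
    · have hpair : IsBrauerPairOf p M B D b :=
        (isBrauerPairOf_iff_br hM B D b).2 ⟨⟨hDp, hbB⟩, hB, by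
          rw [← he, br, trunc_eq_self hes, h]⟩
      obtain ⟨w, hw⟩ := exists_cj_eq hM hmax hpair
      refine cj_injective (f w) ?_
      rw [h, cj_mul, cj_zero, ← map_cj, hw,
        invOn_iff.1 (invOn_top_iff.2 hεc) (f w) (Subgroup.mem_top _)]
      exact h0
    · rw [h, map_zero, mul_zero]
  obtain ⟨b, hb, hbne⟩ : ∃ b ∈ blocksFinset M C⟨Dbar⟩, ε * bi M C⟨Dbar⟩ b * γ ≠ 0 := by
    by_contra h
    push Not at h
    refine hεγ ?_
    rw [← mul_one ε, ← sum_bi hM (H := C⟨Dbar⟩), Finset.mul_sum, Finset.sum_mul]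
    exact Finset.sum_eq_zero h
  have hbB := (mem_blocksFinset hM).1 hb
  have hbε : ε * bi M C⟨Dbar⟩ b = bi M C⟨Dbar⟩ b :=
    (mul_bi_eq_or hM hεs ((invOn_top_iff.2 hεc).mono le_top) hεε hbB).resolve_right
      fun h => hbne (by rw [h, zero_mul])
  have hbγ : bi M C⟨Dbar⟩ b * γ = γ :=
    (hblocks b hbB).resolve_left fun h => hbne (by rw [hbε, h])
  have hpair : IsBrauerPairOf p M Bb Dbar b :=
    (isBrauerPairOf_iff_br hM Bb Dbar b).2 ⟨⟨hDbp, hbB⟩, hBb, by
      rw [← hε, br, trunc_eq_self hεs, hbε]⟩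
  -- the image of `x` fixes that block
  have hxγ : cj (f x) γ = γ := by rw [hγ, hπ, ← map_cj, hxc]
  haveI : C⟨Dbar⟩.Normal := Subgroup.normal_centralizer
  have hconj : IsConjSub C⟨Dbar⟩ C⟨Dbar⟩ (f x) := isConjSub_of_mem_normalizer (by
    rw [Subgroup.normalizer_eq_top]; exact Subgroup.mem_top _)
  have hxb : cj (f x) (bi M C⟨Dbar⟩ b) = bi M C⟨Dbar⟩ b := by
    by_contra hne
    have h1 : cj (f x) (bi M C⟨Dbar⟩ b) * γ = γ := by
      conv_lhs => rw [← hxγ, ← cj_mul, hbγ]
      exact hxγ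
    rw [← bi_conjSet hconj] at hne h1
    refine hγ0 ?_
    rw [← h1, ← hbγ, ← mul_assoc, bi_mul_bi hM (IsPBlock.conjSet hconj hbB) hbB
      (fun e => hne (by rw [e])), zero_mul]
  obtain ⟨w, hw⟩ := exists_cj_eq hM hmaxb hpair
  have hfix : cj (w * f x * w⁻¹) (bi M C⟨Dbar⟩ cb) = bi M C⟨Dbar⟩ cb := by
    rw [← hw, cj_cj, inv_mul_cancel_right, ← cj_cj, hxb]
  have hN : w * f x * w⁻¹ ∈ Subgroup.normalizer (Dbar : Set (G ⧸ Q)) := by
    rw [Subgroup.normalizer_eq_top]; exact Subgroup.mem_top _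
  have hmem := htriv _ hN ((stabilizes_iff_of_normalizer hM hmaxb.1.1.2 hN).2 hfix)
  have := (inferInstance : C⟨Dbar⟩.Normal).conj_mem _ hmem w⁻¹
  rwa [inv_inv, show w⁻¹ * (w * f x * w⁻¹) * w = f x by group] at this

end Cfsg.Lib.Blocks.NormalNil
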