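import Cfsg.Agent.S4551
import Cfsg.Agent.Blocks.Columns
import Cfsg.Agent.Chars.Irr
import Cfsg.Agent.Chars.Construct

/-!
# Functions of the principal block above a normal subgroup of index prime to `p`

When restriction is a bijection between the principal blocks of `H` and of `L`, a function on `L` with constituents
in the principal block is lifted to `H`; the inner products, the vanishing on regular elements and the columns of the
block are kept.
-/

set_option autoImplicit false
set_option linter.unusedSectionVars false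
set_option linter.style.haveILetI false

namespace Cfsg.Lib.Blocks

open Cfsg Cfsg.Lib.Chars
open scoped ComplexConjugate

universe u

variable {H : Type u} [Group H] [Fintype H] {p : ℕ} {M : Ideal AlgInt}

/-- Restriction is a bijection between the principal blocks. -/
def ResBij (M : Ideal AlgInt) (L : Subgroup H) : Prop :=
  (∀ χ ∈ principalBlock M H, ∃ θ ∈ principalBlock M ↥L, ∀ n : L, (χ : H → ℂ) n = (θ : L → ℂ) n) ∧
    ∀ θ ∈ principalBlock M ↥L, ∃! χ : IrrCharacter H, χ ∈ principalBlock M H ∧
      ∀ n : L, (χ : H → ℂ) n = (θ : L → ℂ) n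

theorem resBij_of_supplement [Fact p.Prime] (hM : IsPModular p M) (L : Subgroup H) [L.Normal]
    (hidx : ¬ p ∣ L.index) (P : Sylow p H)
    (hsup : L ⊔ Subgroup.centralizer ((P : Subgroup H) : Set H) = ⊤) : ResBij M L :=
  Cfsg.Agent.S4551.result p M hM L hidx P hsup

variable {L : Subgroup H} [Fintype L]

/-- A function all of whose constituents are in the principal block. -/
def InPrincipal (M : Ideal AlgInt) (f : H → ℂ) : Prop :=
  IsClassFunction H f ∧ ∀ θ : IrrCharacter H, classInner f (θ : H → ℂ) ≠ 0 → θ ∈ principalBlock M H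

/-- The lift of a function on `L`. -/
noncomputable def oddExt (M : Ideal AlgInt) (L : Subgroup H) [Fintype L] (f : L → ℂ) : H → ℂ := by
  classical
  exact ∑ χ ∈ Finset.univ.filter (· ∈ principalBlock M H),
    classInner f (fun n : L => (χ : H → ℂ) n) • (χ : H → ℂ)

theorem oddExt_apply [DecidablePred (· ∈ principalBlock M H)] (f : L → ℂ) (y : H) :
    oddExt M L f y = ∑ χ ∈ Finset.univ.filter (· ∈ principalBlock M H),
      classInner f (fun n : L => (χ : H → ℂ) n) * (χ : H → ℂ) y := by
  classical
  unfold oddExt
  rw [Finset.sum_apply]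
  exact Finset.sum_congr (by congr! 1) fun χ _ => rfl

theorem oddExt_cls (f : L → ℂ) : IsClassFunction H (oddExt M L f) := fun y g => by
  classical
  simp only [oddExt_apply, isClassFunction_irr _ y g]

theorem oddExt_sum {ι : Type*} (s : Finset ι) (a : ι → ℂ) (f : ι → L → ℂ) (y : H) :
    oddExt M L (fun n => ∑ i ∈ s, a i * f i n) y = ∑ i ∈ s, a i * oddExt M L (f i) y := by
  classical
  simp only [oddExt_apply]
  rw [show (fun n : L => ∑ i ∈ s, a i * f i n) = ∑ i ∈ s, a i • f i from
    funext fun n => by simp [Finset.sum_apply]]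
  simp only [classInner_sum_left, classInner_smul_left, Finset.sum_mul, Finset.mul_sum, mul_assoc]
  exact Finset.sum_comm

theorem classInner_oddExt [DecidablePred (· ∈ principalBlock M H)] (f : L → ℂ) (χ : IrrCharacter H) :
    classInner (oddExt M L f) (χ : H → ℂ) =
      if χ ∈ principalBlock M H then classInner f (fun n : L => (χ : H → ℂ) n) else 0 := by
  classical
  have e : oddExt M L f = ∑ ψ : IrrCharacter H,
      (if ψ ∈ principalBlock M H then classInner f (fun n : L => (ψ : H → ℂ) n) else 0) • (ψ : H → ℂ) := by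
    funext y
    rw [oddExt_apply, Finset.sum_apply, Finset.sum_filter]
    exact Finset.sum_congr rfl fun ψ _ => by split_ifs <;> simp
  rw [e, classInner_irrSum]

theorem oddExt_inPrincipal (f : L → ℂ) : InPrincipal M (oddExt M L f) := by
  classical
  refine ⟨oddExt_cls f, fun θ hθ => ?_⟩
  by_contra h
  rw [classInner_oddExt, if_neg h] at hθ
  exact hθ rfl

theorem oddExt_gen {f : L → ℂ} (hf : IsGeneralizedCharacter L f) :
    IsGeneralizedCharacter H (oddExt M L f) := by
  classical
  refine isGeneralized_of_coeff (oddExt_cls f) fun χ => ?_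
  rw [classInner_oddExt]
  split_ifs
  · obtain ⟨k, hk⟩ := IsCharacter.exists_decomp (IsCharacter.restrict (isCharacter_of_irr χ.2) L)
    rw [hk, classInner_sum_right]
    choose m hm using fun ψ : IrrCharacter L => IsGeneralizedCharacter.exists_mult hf ψ.2
    refine ⟨∑ ψ, (k ψ : ℤ) * m ψ, ?_⟩
    simp only [classInner_nsmul_right, hm]
    push_cast
    rfl
  · exact ⟨0, by simp⟩

variable (hR : ResBij M L)
include hR

/-- Summation over the principal block of `L` through restriction. -/
theorem sum_res [DecidablePred (· ∈ principalBlock M H)] [DecidablePred (· ∈ principalBlock M L)]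
    (F : (L → ℂ) → ℂ) :
    ∑ χ ∈ Finset.univ.filter (· ∈ principalBlock M H), F (fun n : L => (χ : H → ℂ) n) =
      ∑ θ ∈ Finset.univ.filter (· ∈ principalBlock M L), F (θ : L → ℂ) := by
  classical
  choose r hr hrv using hR.1
  refine Finset.sum_bij (fun χ hχ => r χ (Finset.mem_filter.1 hχ).2)
    (fun χ hχ => Finset.mem_filter.2 ⟨Finset.mem_univ _, hr _ _⟩) ?_ ?_ ?_
  · intro a ha b hb e
    refine (hR.2 _ (hr a (Finset.mem_filter.1 ha).2)).unique ⟨(Finset.mem_filter.1 ha).2, hrv _ _⟩
      ⟨(Finset.mem_filter.1 hb).2, fun n => ?_⟩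
    rw [hrv b (Finset.mem_filter.1 hb).2, e]
  · intro θ hθ
    obtain ⟨χ, ⟨hχ, hv⟩, -⟩ := hR.2 θ (Finset.mem_filter.1 hθ).2
    exact ⟨χ, Finset.mem_filter.2 ⟨Finset.mem_univ _, hχ⟩,
      Subtype.ext (funext fun n => (hrv χ hχ n).symm.trans (hv n))⟩
  · intro χ hχ
    exact congrArg F (funext fun n => hrv χ (Finset.mem_filter.1 hχ).2 n)

theorem oddExt_restrict {f : L → ℂ} (hf : InPrincipal M f) (n : L) : oddExt M L f n = f n := by
  classical
  rw [oddExt_apply, sum_res hR (fun θ => classInner f θ * θ n), classFunction_expand_apply hf.1 n]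
  refine Finset.sum_subset (Finset.subset_univ _) fun θ _ hθ => ?_
  have h0 : classInner f (θ : L → ℂ) = 0 := by
    by_contra h; exact hθ (Finset.mem_filter.2 ⟨Finset.mem_univ _, hf.2 θ h⟩)
  rw [h0, zero_mul]

/-- The inner product is kept. -/
theorem classInner_oddExt_oddExt (f : L → ℂ) {g : L → ℂ} (hg : InPrincipal M g) :
    classInner (oddExt M L f) (oddExt M L g) = classInner f g := by
  classical
  have e : oddExt M L g = ∑ χ ∈ Finset.univ.filter (· ∈ principalBlock M H),
      classInner g (fun n : L => (χ : H → ℂ) n) • (χ : H → ℂ) := by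
    funext y; rw [oddExt_apply, Finset.sum_apply]; rfl
  rw [e, classInner_sum_right,
    Finset.sum_congr rfl fun χ hχ => by
      rw [classInner_smul_right, classInner_oddExt, if_pos (Finset.mem_filter.1 hχ).2],
    sum_res hR (fun θ => conj (classInner g θ) * classInner f θ)]
  conv_rhs => arg 2; rw [classFunction_expand hg.1]
  rw [classInner_sum_right]
  refine (Finset.sum_subset (Finset.subset_univ _) fun θ _ hθ => ?_).trans
    (Finset.sum_congr rfl fun θ _ => by rw [classInner_smul_right])
  have h0 : classInner g (θ : L → ℂ) = 0 := by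
    by_contra h; exact hθ (Finset.mem_filter.2 ⟨Finset.mem_univ _, hg.2 θ h⟩)
  rw [h0, map_zero, zero_mul]

omit hR in
theorem classInner_oddExt_one (hM : IsPModular p M) (f : L → ℂ) :
    classInner (oddExt M L f) (fun _ => 1) = classInner f (fun _ => 1) := by
  classical
  rw [show (fun _ : H => (1 : ℂ)) = ((principal H : IrrCharacter H) : H → ℂ) from rfl, classInner_oddExt,
    if_pos (show principal H ∈ principalBlock M H from mem_blockOf_self hM (principal H))]
  rfl

omit hR in
/-- A lifted function vanishes on the regular elements. -/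
theorem oddExt_regular [L.Normal] (hM : IsPModular p M) {f : L → ℂ}
    (h0 : ∀ n : L, ¬ p ∣ orderOf n → f n = 0) {y : H} (hy : ¬ p ∣ orderOf y) : oddExt M L f y = 0 := by
  classical
  set F : H → ℂ := extendByZero L f with hF
  have hco : ∀ χ : IrrCharacter H, classInner F (χ : H → ℂ) =
      (L.index : ℂ)⁻¹ * classInner f (fun n : L => (χ : H → ℂ) n) := by
    intro χ
    rw [classInner_def, classInner_def, ← mul_assoc, ← mul_inv, ← Nat.cast_mul, L.index_mul_card]
    congr 1
    rw [← Finset.sum_filter_of_ne (p := (· ∈ L)) (fun w _ h => by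
        by_contra hn; exact h (by rw [hF, extendByZero_not_mem f hn, zero_mul])),
      Finset.sum_subtype (p := (· ∈ L)) _ (fun w => by simp)]
    exact Finset.sum_congr rfl fun n _ => by rw [hF, extendByZero_mem f n.2]
  have h := blockPart_congr_regular hM (isPBlock_blockOf (principal H) : IsPBlock M (principalBlock M H))
    (θ := F) (θ' := fun _ => 0) (fun w hw => by
      by_cases hwL : w ∈ L
      · rw [hF, extendByZero_mem f hwL, h0 _ (by rwa [← Subgroup.orderOf_coe])]
      · rw [hF, extendByZero_not_mem f hwL]) hy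
  rw [blockPart_eq_sum, blockPart_eq_colKer] at h
  simp only [zero_mul, Finset.sum_const_zero, mul_zero, hco] at h
  rw [oddExt_apply]
  simp only [mul_assoc, ← Finset.mul_sum] at h
  exact (mul_eq_zero.1 h).resolve_left (inv_ne_zero (Nat.cast_ne_zero.2 L.index_ne_zero_of_finite))

/-- The column of an element of `L`. -/
theorem oddExt_colKer (n : L) (y : H) :
    oddExt M L (fun v => colKer (principalBlock M L) v n) y = colKer (principalBlock M H) y (n : H) := by
  classical
  rw [oddExt_apply, colKer_eq]
  refine Finset.sum_congr rfl fun χ hχ => ?_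
  obtain ⟨θ, hθ, hv⟩ := hR.1 χ (Finset.mem_filter.1 hχ).2
  rw [show (fun m : L => (χ : H → ℂ) m) = (θ : L → ℂ) from funext hv, hv n,
    show (fun v : L => colKer (principalBlock M L) v n) = ∑ ψ : IrrCharacter L,
      (if ψ ∈ principalBlock M L then conj ((ψ : L → ℂ) n) else 0) • (ψ : L → ℂ) from funext fun v => by
        rw [colKer_eq, Finset.sum_apply, Finset.sum_filter]
        exact Finset.sum_congr rfl fun ψ _ => by split_ifs <;> simp [mul_comm],
    classInner_irrSum, if_pos hθ]
  ring

omit hR

/-- A character of the principal block is constant on the part of a section in a normal `p'`-subgroup of `p`-power index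
of the centralizer. -/
theorem apply_section_const (hM : IsPModular p M) {x : H} (hx : ∃ k : ℕ, orderOf x = p ^ k) {C : Subgroup H}
    (hC : C = Subgroup.centralizer (Subgroup.zpowers x : Set H)) (O : Subgroup C) [O.Normal]
    (hO : ¬ p ∣ Nat.card O) {k : ℕ} (hk : O.index = p ^ k) {χ : IrrCharacter H}
    (hχ : χ ∈ principalBlock M H) {y : C} (hy : ¬ p ∣ orderOf y) :
    (χ : H → ℂ) (x * y) = (χ : H → ℂ) x := by
  classical
  haveI := Fact.mk hM.1
  letI : Fintype C := Fintype.ofFinite _
  have hB : IsPBlock M (principalBlock M H) := isPBlock_blockOf (principal H)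
  have h1 : ¬ p ∣ orderOf (1 : C) := by rw [orderOf_one]; exact hM.1.not_dvd_one
  have e1 := apply_mul_eq_sum_blockPart hM hx hC hB hχ hy
  have e2 := apply_mul_eq_sum_blockPart hM hx hC hB hχ h1
  rw [filter_induced_principal hM hx hC, Finset.sum_singleton, blockPart_eq_sum] at e1 e2
  rw [OneMemClass.coe_one, mul_one] at e2
  rw [e1, e2]
  refine Finset.sum_congr rfl fun φ hφ => ?_
  rw [(mem_principalBlock_iff hM O hO hk φ).1 (Finset.mem_filter.1 hφ).2 y
    (mem_of_pRegular_of_index_eq_pow hM.1 O hk hy)]

end Cfsg.Lib.Blocks
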