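import Cfsg.Agent.Blocks.SinglePart
import Cfsg.Agent.Blocks.CoveringAll
import Cfsg.Agent.Chars.IrrTools
import Cfsg.Agent.OddLocal.PLengthOne
import Cfsg.Agent.SolvStruct.PLengthSeries

/-!
# `p`-length one and irreducibility on the normalizer of a Sylow subgroup

Every member of the principal block restricts irreducibly to the normalizer of a Sylow subgroup exactly when the
group has `p`-length at most one.
-/

set_option autoImplicit false
set_option linter.unusedSectionVars false

namespace Cfsg.Lib.Blocks.PLengthRestrict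

open Cfsg.Lib.Chars
open scoped ComplexConjugate

universe u

variable {G : Type u} [Group G] [Fintype G] {M : Ideal AlgInt} {p : ℕ} [Fact p.Prime]

theorem restrict_irr (hM : IsPModular p M) (P : Sylow p G) (h : Cfsg.PLengthLE p 1 G)
    {χ : IrrCharacter G} (hχ : χ ∈ principalBlock M G) :
    Cfsg.IsIrrCharacter ↥(Subgroup.normalizer ((P : Subgroup G) : Set G))
      (fun n : ↥(Subgroup.normalizer ((P : Subgroup G) : Set G)) => (χ : G → ℂ) n) := by
  classical
  set O := Cfsg.pPrimeCore p G with hO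
  set N := Subgroup.normalizer ((P : Subgroup G) : Set G)
  haveI : O.Normal := by rw [hO]; infer_instance
  have hOc : ¬ p ∣ Nat.card O :=
    hM.1.coprime_iff_not_dvd.1 (Cfsg.Lib.Components.coprime_card_pPrimeCore p).symm
  have hker : ∀ k ∈ (QuotientGroup.mk' O).ker, (χ : G → ℂ) k = (χ : G → ℂ) 1 := fun k hk => by
    rw [QuotientGroup.ker_mk'] at hk
    exact apply_eq_of_mem_normal_pPrime hM O hOc hχ hk
  obtain ⟨b, hb, hbχ⟩ := exists_factor (QuotientGroup.mk' O) (QuotientGroup.mk'_surjective O)
    (isCharacter_of_irr χ.2) hker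
  haveI : Fintype (G ⧸ O) := Fintype.ofFinite _
  have hbirr : Cfsg.IsIrrCharacter (G ⧸ O) b :=
    IsIrrCharacter.descend hb (QuotientGroup.mk' O) (QuotientGroup.mk'_surjective O) (hbχ ▸ χ.2)
  haveI : Finite (Sylow p ↥(Cfsg.pPrimePCore p G)) := inferInstance
  have htop : N ⊔ Cfsg.pPrimePCore p G = ⊤ :=
    Sylow.normalizer_sup_eq_top' P (Cfsg.Lib.OddP.le_pPrimePCore_of_pLength h P.2)
  have htop' : N ⊔ O = ⊤ := by
    refine top_le_iff.1 (htop.ge.trans (sup_le le_sup_left ?_))
    rw [Cfsg.Lib.OddP.pPrimePCore_eq_sup h P, sup_comm]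
    exact sup_le_sup_right Subgroup.le_normalizer _
  have hsurj : Function.Surjective ((QuotientGroup.mk' O).comp N.subtype) := by
    intro y
    obtain ⟨g, rfl⟩ := QuotientGroup.mk'_surjective O y
    obtain ⟨n, hn, o, ho, rfl⟩ := Subgroup.mem_sup_of_normal_right.1 (htop' ▸ Subgroup.mem_top g)
    refine ⟨⟨n, hn⟩, ?_⟩
    rw [MonoidHom.comp_apply, map_mul, show QuotientGroup.mk' O o = 1 from (QuotientGroup.eq_one_iff o).2 ho,
      mul_one]
    rfl
  have h2 := IsIrrCharacter.comp_surjective hbirr ((QuotientGroup.mk' O).comp N.subtype) hsurj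
  rw [show (fun n : N => (χ : G → ℂ) n) = fun n : N => b (((QuotientGroup.mk' O).comp N.subtype) n) from
    funext fun n => congrFun hbχ n]
  exact h2

theorem pLengthLE_of_restrict (hM : IsPModular p M) (P : Sylow p G)
    (hirr : ∀ χ ∈ principalBlock M G, Cfsg.IsIrrCharacter ↥(Subgroup.normalizer ((P : Subgroup G) : Set G))
      (fun n : ↥(Subgroup.normalizer ((P : Subgroup G) : Set G)) => (χ : G → ℂ) n)) :
    Cfsg.PLengthLE p 1 G := by
  classical
  set N := Subgroup.normalizer ((P : Subgroup G) : Set G) with hN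
  haveI : Fintype N := Fintype.ofFinite N
  set L := Subgroup.normalClosure ((P : Subgroup G) : Set G) with hL
  haveI : L.Normal := by rw [hL]; infer_instance
  haveI : Fintype L := Fintype.ofFinite L
  have hPL : (P : Subgroup G) ≤ L := Subgroup.le_normalClosure
  set PL : Sylow p L := P.subtype hPL
  haveI : Fintype (PL : Subgroup L) := Fintype.ofFinite _
  have hcardPL : Nat.card (PL : Subgroup L) = Nat.card P :=
    Nat.card_congr (Subgroup.subgroupOfEquivOfLe hPL).toEquiv
  -- fixed points
  have hfix : ∀ φ ∈ principalBlock M L, φ ≠ principal L → ∑ x : (PL : Subgroup L), (φ : L → ℂ) x = 0 := by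
    intro φ hφ hne
    obtain ⟨χ, hχ, hover⟩ := exists_over_of_covers hM (isPBlock_blockOf (principal G))
      (isPBlock_blockOf (principal L))
      ⟨principal G, mem_blockOf_self hM _, principal L, mem_blockOf_self hM _, by
        show Cfsg.classInner (fun _ : L => (1 : ℂ)) (fun _ => 1) ≠ 0
        rw [classInner_self_irr isIrrCharacter_one]; exact one_ne_zero⟩ hφ
    have hχL : Cfsg.IsCharacter L (fun l : L => (χ : G → ℂ) l) := IsCharacter.restrict (isCharacter_of_irr χ.2) L
    have hzero : ∑ x : (PL : Subgroup L), (χ : G → ℂ) ((x : L) : G) = 0 := by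
      by_contra hne0
      set Q := (P : Subgroup G).subgroupOf N with hQ
      haveI : Q.Normal := by rw [hQ, hN]; infer_instance
      haveI : Fintype Q := Fintype.ofFinite Q
      set ψ : N → ℂ := fun n => (χ : G → ℂ) n with hψ
      have hc : Cfsg.classInner (fun q : Q => ψ q) (fun _ => (1 : ℂ)) ≠ 0 := by
        intro h0
        rw [classInner_def, mul_eq_zero] at h0
        refine hne0 ?_
        have h1 := h0.resolve_left (inv_ne_zero (Nat.cast_ne_zero.2 Nat.card_pos.ne'))
        let E : (PL : Subgroup L) ≃ Q :=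
          { toFun := fun x => ⟨⟨((x : L) : G), Subgroup.le_normalizer (show ((x : L) : G) ∈ (P : Subgroup G) from x.2)⟩, x.2⟩
            invFun := fun q => ⟨⟨((q : N) : G), hPL (show ((q : N) : G) ∈ (P : Subgroup G) from q.2)⟩, q.2⟩
            left_inv := fun x => rfl
            right_inv := fun q => rfl }
        rw [← h1]
        refine Fintype.sum_equiv E _ _ fun x => ?_
        simp [hψ, E]
      obtain ⟨e, -, he⟩ := restrict_eq_mult_of_invariant Q (hirr χ hχ) isIrrCharacter_one (fun g => rfl) hc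
      have hle : L ≤ kerSubgroup _ (isCharacter_of_irr χ.2) := by
        haveI := kerSubgroup_normal (isCharacter_of_irr χ.2)
        refine Subgroup.normalClosure_le_normal fun x hx => ?_
        have h1 := congrFun he ⟨⟨x, Subgroup.le_normalizer hx⟩, hx⟩
        have h2 := congrFun he 1
        simp only [Pi.smul_apply, smul_eq_mul, mul_one] at h1 h2
        show (χ : G → ℂ) x = (χ : G → ℂ) 1
        exact h1.trans h2.symm
      refine hover ?_
      rw [show (fun l : L => (χ : G → ℂ) l) = ((χ : G → ℂ) 1) • (fun _ : L => (1 : ℂ)) from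
        funext fun l => by rw [Pi.smul_apply, smul_eq_mul, mul_one]; exact hle l.2,
        classInner_smul_left, classInner_irrChar isIrrCharacter_one φ.2, if_neg, mul_zero]
      exact fun h => hne (Subtype.ext h.symm)
    obtain ⟨m, hm⟩ := IsCharacter.exists_decomp hχL
    simp only [← Nat.cast_smul_eq_nsmul ℂ] at hm
    choose k hk using fun ψ : Cfsg.IrrCharacter L => IsCharacter.exists_mult
      (IsCharacter.restrict (isCharacter_of_irr ψ.2) (PL : Subgroup L)) (isIrrCharacter_one (G := (PL : Subgroup L)))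
    have hk' : ∀ ψ : Cfsg.IrrCharacter L, ∑ x : (PL : Subgroup L), (ψ : L → ℂ) x =
        (Nat.card (PL : Subgroup L) : ℂ) * k ψ := fun ψ => by
      rw [← hk ψ, classInner_def, ← mul_assoc, mul_inv_cancel₀ (Nat.cast_ne_zero.2 Nat.card_pos.ne'), one_mul]
      simp
    have hsum : ∑ ψ, m ψ * k ψ = 0 := by
      have h1 : (Nat.card (PL : Subgroup L) : ℂ) * ((∑ ψ, m ψ * k ψ : ℕ) : ℂ) = 0 := by
        rw [← hzero]
        conv_rhs => enter [2, x]; rw [congrFun hm (x : L)]
        simp only [Finset.sum_apply, Pi.smul_apply, smul_eq_mul]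
        rw [Finset.sum_comm, Nat.cast_sum, Finset.mul_sum]
        refine Finset.sum_congr rfl fun ψ _ => ?_
        rw [← Finset.mul_sum, hk']
        push_cast
        ring
      exact_mod_cast (mul_eq_zero.1 h1).resolve_left (Nat.cast_ne_zero.2 Nat.card_pos.ne')
    have hmφ : m φ ≠ 0 := fun h0 => hover (by
      rw [hm, classInner_irrSum (fun ψ => (m ψ : ℂ)) φ, h0, Nat.cast_zero])
    have := (Finset.sum_eq_zero_iff.1 hsum φ (Finset.mem_univ _))
    rw [mul_eq_zero] at this
    rw [hk', this.resolve_left hmφ, Nat.cast_zero, mul_zero]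
  -- the sum of squares
  set S := Finset.univ.filter (· ∈ principalBlock M L) with hS
  have hsq : ∑ φ ∈ S, deg (φ : L → ℂ) ^ 2 = Nat.card PL := by
    have h1 : ∑ x : (PL : Subgroup L), ∑ φ ∈ S, (φ : L → ℂ) 1 * conj ((φ : L → ℂ) x) =
        ∑ φ ∈ S, (deg (φ : L → ℂ) : ℂ) ^ 2 := by
      rw [Finset.sum_eq_single (1 : (PL : Subgroup L))]
      · refine Finset.sum_congr rfl fun φ _ => ?_
        rw [Subgroup.coe_one, irr_apply_one_eq_deg, Complex.conj_natCast, sq]
      · intro x _ hx
        refine block_orthogonality_regular hM (isPBlock_blockOf (principal L))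
          (by rw [orderOf_one]; exact hM.1.not_dvd_one) ?_
        obtain ⟨i, hi⟩ := (IsPGroup.iff_orderOf.1 PL.2) x
        rw [Subgroup.orderOf_coe, hi]
        refine dvd_pow_self p fun h0 => hx ?_
        rw [h0, pow_zero, orderOf_eq_one_iff] at hi
        exact hi
      · simp
    have h2 : ∑ x : (PL : Subgroup L), ∑ φ ∈ S, (φ : L → ℂ) 1 * conj ((φ : L → ℂ) x) =
        (Nat.card PL : ℂ) := by
      rw [Finset.sum_comm, Finset.sum_eq_single (principal L)]
      · simp [principal, Nat.card_eq_fintype_card]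
      · intro φ hφ hne
        rw [← Finset.mul_sum, ← map_sum, hfix φ (Finset.mem_filter.1 hφ).2 hne, map_zero, mul_zero]
      · intro h
        exact absurd (Finset.mem_filter.2 ⟨Finset.mem_univ _, mem_blockOf_self hM (principal L)⟩) h
    rw [h1] at h2
    exact_mod_cast h2
  obtain ⟨K, hK, hKc, e, hKi⟩ := Cfsg.Lib.Transfer.hasNormalPComplement_iff.1
    (hasNormalPComplement_of_blockRank hM (SinglePart.blockRank_eq_one hM PL hsq))
  haveI := hK
  -- the complement is normal in the whole group
  have hKmem : ∀ l : L, l ∈ K ↔ ¬ p ∣ orderOf l := fun l =>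
    ⟨fun hl hd => hM.1.coprime_iff_not_dvd.1 hKc.symm
      (hd.trans (Subgroup.orderOf_dvd_natCard K hl)),
      fun hl => mem_of_pRegular_of_index_eq_pow hM.1 K hKi hl⟩
  haveI hK' : (K.map L.subtype).Normal := ⟨by
    rintro _ ⟨l, hl, rfl⟩ g
    refine ⟨MulAut.conjNormal g l, (hKmem _).2 ?_, ?_⟩
    · rw [show orderOf (MulAut.conjNormal g l) = orderOf l from MulEquiv.orderOf_eq _ l]
      exact (hKmem l).1 hl
    · simp⟩
  have hKO : K.map L.subtype ≤ Cfsg.pPrimeCore p G := by
    refine Cfsg.Lib.Components.le_pPrimeCore ?_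
    rwa [Subgroup.card_map_of_injective L.subtype_injective]
  haveI := (Cfsg.upperPSeries p G 1).2
  haveI := (Cfsg.upperPSeries p G 2).2
  have h2 : L ≤ (Cfsg.upperPSeries p G 2).1 := by
    refine Cfsg.Lib.PLengthSeries.le_succ_of_pow (a := 1) (by decide) ?_
    rw [Cfsg.Lib.PLengthSeries.series_one]
    have hd : (Cfsg.pPrimeCore p G).relIndex L ∣ p ^ e := by
      rw [← hKi]
      show ((Cfsg.pPrimeCore p G).subgroupOf L).index ∣ K.index
      refine Subgroup.index_dvd_of_le fun l hl => ?_
      exact hKO ⟨l, hl, rfl⟩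
    obtain ⟨i, -, hi⟩ := (Nat.dvd_prime_pow hM.1).1 hd
    exact ⟨i, hi⟩
  show (Cfsg.upperPSeries p G 3).1 = ⊤
  refine top_le_iff.1 (Cfsg.Lib.PLengthSeries.le_succ_of_coprime (a := 2) (by decide) ?_)
  rw [Subgroup.relIndex_top_right]
  refine Nat.Coprime.coprime_dvd_left (Subgroup.index_dvd_of_le (hPL.trans h2)) ?_
  exact ((hM.1.coprime_iff_not_dvd).2 P.not_dvd_index).symm

end Cfsg.Lib.Blocks.PLengthRestrict
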