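import Mathlib
import Cfsg.Agent.Blocks.Idem
import Cfsg.Agent.Blocks.LocalRing
import Cfsg.Agent.Chars.Burnside
import Cfsg.Agent.Chars.Values

/-!
# Characters of prime power degree in the principal block of a simple group
-/

set_option autoImplicit false
set_option linter.unusedSectionVars false

namespace Cfsg.Lib.Blocks

open Cfsg.Lib.Chars
open scoped ComplexConjugate

universe u

variable {G : Type u} [Group G] [Fintype G] {M : Ideal AlgInt} {p : ℕ}

/-- A nontrivial element of a simple nonabelian group which some irreducible character treats as a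
scalar forces the principal character. -/
lemma eq_principal_of_norm_eq [IsSimpleGroup G] (hZ : Subgroup.center G = ⊥) {χ : IrrCharacter G}
    {g : G} (hg : g ≠ 1) (hnorm : ‖(χ : G → ℂ) g‖ = ((χ : G → ℂ) 1).re) : χ = principal G := by
  classical
  by_contra hχ
  obtain ⟨n, ρ, hρ, hchar⟩ := χ.2
  rw [← hchar, ρ.char_one, Complex.natCast_re] at hnorm
  obtain ⟨ω, hω, -⟩ := scalar_of_norm_character_eq ρ g hnorm
  have hK : kerSubgroup (χ : G → ℂ) (isCharacter_of_irr χ.2) ≠ ⊤ := fun htop => by
    have h0 := classInner_irr_ne hχ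
    rw [classInner_def, Finset.sum_congr rfl fun (x : G) _ => show (χ : G → ℂ) x *
      conj (((principal G : IrrCharacter G) : G → ℂ) x) = (χ : G → ℂ) 1 by
        rw [show ((principal G : IrrCharacter G) : G → ℂ) x = 1 from rfl, map_one, mul_one]
        exact (mem_kerSubgroup (isCharacter_of_irr χ.2) x).1
          (show x ∈ kerSubgroup (χ : G → ℂ) (isCharacter_of_irr χ.2) from htop ▸ Subgroup.mem_top x),
      Finset.sum_const, nsmul_eq_mul, Finset.card_univ, ← Nat.card_eq_fintype_card,
      inv_mul_cancel_left₀ (Nat.cast_ne_zero.2 Nat.card_pos.ne')] at h0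
    exact IsIrrCharacter.apply_one_ne_zero χ.2 h0
  have hker : ρ.ker = ⊥ := by
    refine (IsSimpleGroup.eq_bot_or_eq_top_of_normal ρ.ker inferInstance).resolve_right
      fun h => hK (eq_top_iff.2 fun x _ => (mem_kerSubgroup _ x).2 ?_)
    have hx : ρ x = 1 := (show x ∈ ρ.ker from h ▸ Subgroup.mem_top x)
    rw [← hchar]; unfold Representation.character; simp only [hx, map_one]
  refine hg (Subgroup.mem_bot.1 (hZ ▸ Subgroup.mem_center_iff.2 fun x => ?_))
  apply (MonoidHom.ker_eq_bot_iff ρ).1 hker
  rw [map_mul, map_mul, hω]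
  ext v
  simp

/-- In a nonabelian simple group the only character of `p`-power degree of the principal block is
the principal one. -/
theorem eq_principal_of_pow_degree [Fact p.Prime] (hM : IsPModular p M) [IsSimpleGroup G]
    (hZ : Subgroup.center G = ⊥) {χ : IrrCharacter G} (hχ : χ ∈ principalBlock M G) {k : ℕ}
    (hdeg : deg (χ : G → ℂ) = p ^ k) : χ = principal G := by
  classical
  have hp : p.Prime := hM.1
  obtain ⟨z, hz1, hzcop⟩ : ∃ z : G, z ≠ 1 ∧ ¬ p ∣ (Subgroup.centralizer ({z} : Set G)).index := by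
    by_cases hdvd : p ∣ Nat.card G
    · obtain ⟨P⟩ : Nonempty (Sylow p G) := inferInstance
      have hPne : (P : Subgroup G) ≠ ⊥ := P.ne_bot_of_dvd_card hdvd
      haveI : Nontrivial (P : Subgroup G) := (Subgroup.nontrivial_iff_ne_bot _).2 hPne
      haveI := P.2.center_nontrivial
      obtain ⟨⟨⟨z, hzP⟩, hzc⟩, hz⟩ := exists_ne (1 : Subgroup.center (P : Subgroup G))
      refine ⟨z, fun h => hz (Subtype.ext (Subtype.ext h)), fun hd => P.not_dvd_index (hd.trans ?_)⟩
      have hle : (P : Subgroup G) ≤ Subgroup.centralizer ({z} : Set G) := fun w hw =>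
        Subgroup.mem_centralizer_singleton_iff.2
          (congrArg Subtype.val (Subgroup.mem_center_iff.1 hzc ⟨w, hw⟩))
      exact Subgroup.index_dvd_of_le hle
    · obtain ⟨z, hz⟩ := exists_ne (1 : G)
      exact ⟨z, hz, fun hd => hdvd (hd.trans (Subgroup.index_dvd_card _))⟩
  have hval : (χ : G → ℂ) z ≠ 0 := fun h0 => by
    have hs : SameBlock M (fun _ : G => (1 : ℂ)) (χ : G → ℂ) := hχ
    have h1 := hs z
    rw [show centralChar (fun _ : G => (1 : ℂ)) z =
        ((Subgroup.centralizer ({z} : Set G)).index : ℂ) by simp [centralChar],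
      show centralChar (χ : G → ℂ) z = 0 by simp [centralChar, h0],
      sub_zero, memLocalIdeal_iff_small hM (isAlgebraic_nat _)] at h1
    exact hzcop ((small_natCast_iff hM _).1 h1)
  refine eq_principal_of_norm_eq hZ hz1 ((burnside_zero_or_max χ.2 z ?_).resolve_left hval)
  rw [hdeg, card_isConj]
  exact ((hp.coprime_iff_not_dvd).2 hzcop).pow_left k

end Cfsg.Lib.Blocks
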