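import Mathlib
import Cfsg.Prelude.Def_Characters
import Cfsg.Agent.Blocks.BrauerInduction

/-!
# Products of permutation characters and the local statements
-/

set_option autoImplicit false
set_option linter.unusedSectionVars false

namespace Cfsg.Lib.Blocks

open scoped ComplexConjugate
open Cfsg.Lib.Chars

universe u

/-- Counting fixed points orbit by orbit. -/
lemma card_fixed_eq_sum_fixCount {A : Type u} [Group A] [Fintype A] (X : Type u) [Fintype X]
    [MulAction A X] [Fintype (MulAction.orbitRel.Quotient A X)] (g : A) :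
    Nat.card {x : X // g • x = x} =
      ∑ ω : MulAction.orbitRel.Quotient A X, fixCount (MulAction.stabilizer A ω.out) g := by
  classical
  rw [Nat.card_eq_fintype_card, Fintype.card_subtype,
    Finset.card_eq_sum_card_fiberwise (f := fun x : X => (Quotient.mk'' x :
      MulAction.orbitRel.Quotient A X)) (t := Finset.univ) fun x _ => Finset.mem_univ _]
  refine Finset.sum_congr rfl fun ω _ => ?_
  rw [Finset.filter_filter, ← Fintype.card_subtype, ← Nat.card_eq_fintype_card, fixCount]
  have h1 : ∀ q : {q : A ⧸ MulAction.stabilizer A ω.out // g • q = q},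
      g • MulAction.ofQuotientStabilizer A ω.out q.1 =
        MulAction.ofQuotientStabilizer A ω.out q.1 := fun q => by
    rw [← MulAction.ofQuotientStabilizer_smul, q.2]
  have h2 : ∀ q : {q : A ⧸ MulAction.stabilizer A ω.out // g • q = q},
      (Quotient.mk'' (MulAction.ofQuotientStabilizer A ω.out q.1) :
        MulAction.orbitRel.Quotient A X) = ω := fun q => by
    obtain ⟨a, ha⟩ := QuotientGroup.mk_surjective q.1
    refine Eq.trans (Quotient.sound' ?_) ω.out_eq'
    rw [← ha, MulAction.orbitRel_apply]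
    exact MulAction.mem_orbit _ a
  refine (Nat.card_congr (Equiv.ofBijective
    (fun q => ⟨MulAction.ofQuotientStabilizer A ω.out q.1, h1 q, h2 q⟩) ⟨?_, ?_⟩)).symm
  · intro a b hab
    exact Subtype.ext (MulAction.injective_ofQuotientStabilizer A _ (congrArg Subtype.val hab))
  · rintro ⟨x, hx, hxω⟩
    obtain ⟨a, ha⟩ : x ∈ MulAction.orbit A ω.out := by
      rw [← MulAction.orbitRel_apply]
      exact Quotient.exact' (hxω.trans ω.out_eq'.symm)
    refine ⟨⟨QuotientGroup.mk a, ?_⟩, Subtype.ext ha⟩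
    apply MulAction.injective_ofQuotientStabilizer A ω.out
    rw [MulAction.ofQuotientStabilizer_smul]
    show g • a • ω.out = a • ω.out
    rw [show a • ω.out = x from ha, hx]

variable {G : Type u} [Group G] [Fintype G]

/-- Mackey's formula for a product of two permutation characters. -/
theorem indFun_one_mul_indFun_one (H K : Subgroup G) :
    ∃ (ι : Type u) (_ : Fintype ι) (U : ι → Subgroup G), (∀ i, U i ≤ H) ∧
      indFun H (fun _ => (1 : ℂ)) * indFun K (fun _ => (1 : ℂ)) =
        ∑ i, indFun (U i) (fun _ => (1 : ℂ)) := by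
  classical
  letI : Fintype (MulAction.orbitRel.Quotient H (G ⧸ K)) := Fintype.ofFinite _
  refine ⟨MulAction.orbitRel.Quotient H (G ⧸ K), inferInstance,
    fun ω => (MulAction.stabilizer H ω.out).map H.subtype,
    fun ω => Subgroup.map_subtype_le _, ?_⟩
  rw [mul_comm, indFun_mul_of_classFunction H _ (isClassFunction_indFun K _),
    Finset.sum_congr rfl fun ω _ => (indFun_transport H (MulAction.stabilizer H ω.out)
      (fun _ => (1 : ℂ))).symm, ← indFun_sum]
  congr 1
  funext x
  rw [Pi.mul_apply, mul_one, indFun_one_eq_fixCount, Finset.sum_apply,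
    Finset.sum_congr rfl fun ω _ => indFun_one_eq_fixCount (MulAction.stabilizer H ω.out) x,
    ← Nat.cast_sum, ← card_fixed_eq_sum_fixCount (G ⧸ K) x]
  rfl

/-- Quasi-elementary subgroups are closed downwards. -/
lemma quasi_of_le {p : ℕ} (hp : p.Prime) {H U : Subgroup G} (hU : U ≤ H)
    (hH : ∃ C : Subgroup G, C ≤ H ∧ H ≤ Subgroup.normalizer (C : Set G) ∧ IsCyclic C ∧
      ¬ p ∣ Nat.card C ∧ ∃ k : ℕ, C.relIndex H = p ^ k) :
    ∃ C : Subgroup G, C ≤ U ∧ U ≤ Subgroup.normalizer (C : Set G) ∧ IsCyclic C ∧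
      ¬ p ∣ Nat.card C ∧ ∃ k : ℕ, C.relIndex U = p ^ k := by
  obtain ⟨C, hCH, hHN, hcyc, hpC, k, hk⟩ := hH
  refine ⟨C ⊓ U, inf_le_right, ?_, isCyclic_of_injective
    (Subgroup.inclusion (inf_le_left : C ⊓ U ≤ C)) (Subgroup.inclusion_injective _),
    fun h => hpC (h.trans (Subgroup.card_dvd_of_le inf_le_left)), ?_⟩
  · intro g hg
    rw [Subgroup.mem_normalizer_iff]
    intro c
    have h1 := Subgroup.mem_normalizer_iff.1 (hHN (hU hg)) c
    refine ⟨fun hc => ⟨h1.1 hc.1, U.mul_mem (U.mul_mem hg hc.2) (U.inv_mem hg)⟩,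
      fun hc => ⟨h1.2 hc.1, ?_⟩⟩
    rw [show c = g⁻¹ * (g * c * g⁻¹) * g by group]
    exact U.mul_mem (U.mul_mem (U.inv_mem hg) hc.2) hg
  · rw [Subgroup.inf_relIndex_right]
    haveI := Subgroup.normal_subgroupOf_of_le_normalizer hHN
    have hd : C.relIndex U ∣ p ^ k := by
      rw [← hk, ← Subgroup.relIndex_subgroupOf hU]
      exact Subgroup.relIndex_dvd_index_of_normal (C.subgroupOf H) (U.subgroupOf H)
    obtain ⟨j, -, hj⟩ := (Nat.dvd_prime_pow hp).1 hd
    exact ⟨j, hj⟩

/-- Integral combinations of permutation characters of quasi-elementary subgroups. -/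
noncomputable def permSpan (G : Type u) [Group G] (p : ℕ) : AddSubgroup (G → ℤ) :=
  AddSubgroup.closure {f | ∃ H : Subgroup G, (∃ C : Subgroup G, C ≤ H ∧
    H ≤ Subgroup.normalizer (C : Set G) ∧ IsCyclic C ∧ ¬ p ∣ Nat.card C ∧
      ∃ k : ℕ, C.relIndex H = p ^ k) ∧ f = fun g => (fixCount H g : ℤ)}

lemma permSpan_mul {p : ℕ} (hp : p.Prime) {a b : G → ℤ} (ha : a ∈ permSpan G p)
    (hb : b ∈ permSpan G p) : a * b ∈ permSpan G p := by
  induction ha using AddSubgroup.closure_induction with
  | mem a h =>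
    obtain ⟨H, hH, rfl⟩ := h
    induction hb using AddSubgroup.closure_induction with
    | mem b h =>
      obtain ⟨K, -, rfl⟩ := h
      obtain ⟨ι, hι, U, hU, he⟩ := indFun_one_mul_indFun_one H K
      have h : ((fun g => (fixCount H g : ℤ)) * fun g => (fixCount K g : ℤ)) =
          ∑ i, fun g => (fixCount (U i) g : ℤ) := by
        funext g
        have h1 := congrFun he g
        rw [Pi.mul_apply, Finset.sum_apply, indFun_one_eq_fixCount, indFun_one_eq_fixCount,
          Finset.sum_congr rfl fun i _ => indFun_one_eq_fixCount (U i) g] at h1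
        rw [Pi.mul_apply, Finset.sum_apply]
        exact_mod_cast h1
      rw [h]
      exact sum_mem fun i _ => AddSubgroup.subset_closure ⟨U i, quasi_of_le hp (hU i) hH, rfl⟩
    | zero => rw [mul_zero]; exact zero_mem _
    | add x y _ _ hx hy => rw [mul_add]; exact add_mem hx hy
    | neg x _ hx => rw [mul_neg]; exact neg_mem hx
  | zero => rw [zero_mul]; exact zero_mem _
  | add x y _ _ hx hy => rw [add_mul]; exact add_mem hx hy
  | neg x _ hx => rw [neg_mul]; exact neg_mem hx

/-- A multiplicatively closed group of functions prime to `p` at every point contains a constant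
prime to `p`. -/
lemma exists_const_of_local {X : Type u} [Fintype X] (S : AddSubgroup (X → ℤ))
    (hmul : ∀ f ∈ S, ∀ g ∈ S, f * g ∈ S) {p : ℕ} (hp : p.Prime)
    (h : ∀ x, ∃ f ∈ S, ¬ (p : ℤ) ∣ f x) :
    ∃ m : ℤ, ¬ (p : ℤ) ∣ m ∧ (fun _ => m) ∈ S := by
  classical
  suffices H : ∀ s : Finset X, ∃ g ∈ S, ∃ m : ℤ, ¬ (p : ℤ) ∣ m ∧ ∀ x ∈ s, g x = m by
    obtain ⟨g, hg, m, hm, hgm⟩ := H Finset.univ
    exact ⟨m, hm, (funext fun x => hgm x (Finset.mem_univ _) : g = fun _ => m) ▸ hg⟩
  intro s
  induction s using Finset.induction with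
  | empty => exact ⟨0, zero_mem _, 1,
      fun hd => hp.ne_one (Nat.dvd_one.1 (Int.natCast_dvd_natCast.1 (by simpa using hd))),
      by simp⟩
  | @insert a s ha ih =>
    obtain ⟨g, hg, m, hm, hg1⟩ := ih
    obtain ⟨f, hf, hfa⟩ := h a
    refine ⟨m • f + f a • g - g * f,
      sub_mem (add_mem (zsmul_mem hf m) (zsmul_mem hg (f a))) (hmul g hg f hf), m * f a,
      fun hd => ((Nat.prime_iff_prime_int.1 hp).dvd_or_dvd hd).elim hm hfa, fun x hx => ?_⟩
    rcases Finset.mem_insert.1 hx with rfl | hx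
    · simp only [Pi.sub_apply, Pi.add_apply, Pi.smul_apply, Pi.mul_apply, smul_eq_mul]; ring
    · simp only [Pi.sub_apply, Pi.add_apply, Pi.smul_apply, Pi.mul_apply, smul_eq_mul, hg1 x hx]
      ring

/-- Solomon's local statement. -/
theorem exists_const_permSpan {p : ℕ} (hp : p.Prime) :
    ∃ m : ℤ, ¬ (p : ℤ) ∣ m ∧ (fun _ : G => m) ∈ permSpan G p := by
  refine exists_const_of_local _ (fun f hf g hg => permSpan_mul hp hf hg) hp fun x => ?_
  obtain ⟨H, hH, hcount⟩ := exists_hyperelementary x hp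
  exact ⟨_, AddSubgroup.subset_closure ⟨H, hH, rfl⟩,
    fun hd => hcount (Int.natCast_dvd_natCast.1 hd)⟩

lemma permSpan_coeff {p : ℕ} {f : G → ℤ} (h : f ∈ permSpan G p) :
    ∃ a : Subgroup G → ℤ, (∀ H, a H ≠ 0 → ∃ C : Subgroup G, C ≤ H ∧
      H ≤ Subgroup.normalizer (C : Set G) ∧ IsCyclic C ∧ ¬ p ∣ Nat.card C ∧
        ∃ k : ℕ, C.relIndex H = p ^ k) ∧
      (fun g => (f g : ℂ)) = ∑ H : Subgroup G, (a H : ℂ) • indFun H (fun _ => (1 : ℂ)) := by
  classical
  induction h using AddSubgroup.closure_induction with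
  | mem f hh =>
    obtain ⟨H, hH, rfl⟩ := hh
    refine ⟨Pi.single H 1, fun K hK => ?_, ?_⟩
    · rcases eq_or_ne K H with rfl | hne
      · exact hH
      · exact absurd (Pi.single_eq_of_ne hne 1) hK
    · rw [Finset.sum_eq_single H (fun K _ hK => by simp [Pi.single_eq_of_ne hK])
        (fun h => absurd (Finset.mem_univ H) h), Pi.single_eq_same, Int.cast_one, one_smul]
      funext g
      rw [indFun_one_eq_fixCount, Int.cast_natCast]
  | zero => exact ⟨0, fun H h => absurd rfl h, by funext g; simp⟩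
  | add x y _ _ hx hy =>
    obtain ⟨a, ha, hax⟩ := hx
    obtain ⟨b, hb, hby⟩ := hy
    refine ⟨a + b, fun H h => ?_, ?_⟩
    · by_cases h0 : a H = 0
      · exact hb H (by simpa [h0] using h)
      · exact ha H h0
    · simp only [Pi.add_apply, Int.cast_add, add_smul, Finset.sum_add_distrib, ← hax, ← hby]
      funext g
      simp
  | neg x _ hx =>
    obtain ⟨a, ha, hax⟩ := hx
    refine ⟨-a, fun H h => ha H (by simpa using h), ?_⟩
    simp only [Pi.neg_apply, Int.cast_neg, neg_smul, Finset.sum_neg_distrib, ← hax]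
    funext g
    simp

/-- Brauer's local statement. -/
theorem exists_const_indSpan {p : ℕ} (hp : p.Prime) :
    ∃ m : ℤ, ¬ (p : ℤ) ∣ m ∧
      (fun _ : G => (m : ℂ)) ∈ indSpan (fun E : Subgroup G => IsElementary p E) := by
  obtain ⟨m, hm, hmem⟩ := exists_const_permSpan (G := G) hp
  obtain ⟨a, ha, he⟩ := permSpan_coeff hmem
  refine ⟨m, hm, ?_⟩
  rw [he]
  refine sum_mem fun H _ => ?_
  by_cases h0 : a H = 0
  · rw [h0, Int.cast_zero, zero_smul]; exact zero_mem _
  · rw [Int.cast_smul_eq_zsmul]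
    exact zsmul_mem (indFun_one_mem_indSpan hp (ha H h0)) _

end Cfsg.Lib.Blocks
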