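import Mathlib
import Cfsg.Agent.Blocks.BrauerHom
import Cfsg.Agent.Blocks.Maximal
import Cfsg.Agent.Chars.Values
import Cfsg.Agent.Chars.Clifford
import Cfsg.Agent.Elementary.Basics

/-!
# Kernels of blocks along Brauer pairs

A `p'`-subgroup lies in the kernel of a block when its elements fix the block idempotent.  This
property passes down a normal inclusion of pairs, and up for elements of the centralizer.
-/

set_option autoImplicit false
set_option linter.unusedSectionVars false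
set_option linter.style.haveILetI false

namespace Cfsg.Lib.Blocks

open Cfsg Cfsg.Lib.Chars Cfsg.Lib.Elementary
open scoped ComplexConjugate

universe u

variable {G : Type u} [Group G] [Fintype G] {M : Ideal AlgInt} {p : ℕ}

local notation "C⟨" P "⟩" => Subgroup.centralizer (SetLike.coe P)

/-- `K` fixes `b` under left multiplication. -/
def FixesElt (K : Subgroup G) (b : MonoidAlgebra (Res M) G) : Prop :=
  ∀ k ∈ K, MonoidAlgebra.single k 1 * b = b

/-! ### Kernels and idempotents -/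

/-- Elements in the kernel of every member fix the idempotent. -/
lemma single_mul_bi_of_ker {H : Subgroup G} [Fintype H] {b : Set (IrrCharacter H)} {k : G}
    (hk : k ∈ H) (h : ∀ θ ∈ b, (θ : H → ℂ) ⟨k, hk⟩ = (θ : H → ℂ) 1) :
    MonoidAlgebra.single k (1 : Res M) * bi M H b = bi M H b := by
  classical
  refine fn_ext fun g => ?_
  rw [fn_single_mul, one_mul]
  by_cases hg : g ∈ H
  · have hg' : k⁻¹ * g ∈ H := H.mul_mem (H.inv_mem hk) hg
    rw [bi, fn_ofFn, subgroupBlockCoeff, subgroupBlockCoeff, dif_pos hg, dif_pos hg',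
      blockCoeff_eq_sum, blockCoeff_eq_sum]
    congr 2
    refine Finset.sum_congr rfl fun θ hθ => ?_
    have hθ' := h θ (Finset.mem_filter.1 hθ).2
    have h2 := IsCharacter.ker_mul (isCharacter_of_irr θ.2) (a := (⟨k, hk⟩ : H))
      (b := ⟨k⁻¹ * g, hg'⟩) hθ'
    rw [← h2]
    rw [show (⟨k, hk⟩ : H) * ⟨k⁻¹ * g, hg'⟩ = ⟨g, hg⟩ from Subtype.ext (mul_inv_cancel_left k g)]
  · rw [suppOn_bi b g hg, suppOn_bi b (k⁻¹ * g) fun h' => hg (by simpa using H.mul_mem hk h')]

/-- Conversely, a normal `p'`-subgroup fixing the idempotent lies in the kernel. -/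
theorem ker_of_fixesElt (hM : IsPModular p M) {H : Subgroup G} [Fintype H]
    {b : Set (IrrCharacter H)} (hb : IsPBlock M b) {K : Subgroup G}
    (hHK : ∀ h ∈ H, ∀ k ∈ K, h * k * h⁻¹ ∈ K) (hKp : ¬ p ∣ Nat.card K) (hKH : K ≤ H)
    (h : FixesElt K (bi M H b)) {k : H} (hk : (k : G) ∈ K) {θ : IrrCharacter H} (hθ : θ ∈ b) :
    (θ : H → ℂ) k = (θ : H → ℂ) 1 := by
  classical
  set K' := K.subgroupOf H with hK'
  haveI : K'.Normal := ⟨fun y hy x => hHK x x.2 y hy⟩
  letI : Fintype K' := Fintype.ofFinite K'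
  have hcard : Nat.card K' = Nat.card K := Nat.card_congr (Subgroup.subgroupOfEquivOfLe hKH).toEquiv
  set a : MonoidAlgebra ℂ H := ofFn fun x => if x ∈ K' then 1 else 0 with ha
  have hfa : ∀ x, fn a x = if x ∈ K' then 1 else 0 := fun x => by rw [ha, fn_ofFn]
  have hac : IsCentralFn a := fun x y => by
    rw [hfa, hfa]
    refine if_congr ⟨fun h' => ?_, fun h' => ‹K'.Normal›.conj_mem x h' y⟩ rfl rfl
    simpa [mul_assoc] using ‹K'.Normal›.conj_mem _ h' y⁻¹
  have hai : Integral M a := fun x => by rw [hfa]; split_ifs <;> simp [one_mem, zero_mem]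
  have hei := integral_blockElem hM hb
  have hec := isCentralFn_blockElem b
  have hfix : ∀ y x : H, (y : G) ∈ K →
      res M (fn (blockElem b) (y⁻¹ * x)) = res M (fn (blockElem b) x) := by
    intro y x hy
    have h1 := congrArg (fun z => fn z (x : G)) (h y hy)
    simp only [fn_single_mul, one_mul] at h1
    have e1 : ∀ z : H, fn (bi M H b) (z : G) = res M (fn (blockElem b) z) := fun z => by
      rw [bi_eq_rx, fn_rx_coe]
    rw [show (y : G)⁻¹ * (x : G) = ((y⁻¹ * x : H) : G) by simp, e1, e1] at h1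
    exact h1
  have hred : red M (a * blockElem b) = red M ((Nat.card K : ℂ) • blockElem b) := by
    refine fn_ext fun x => ?_
    rw [fn_red, fn_red, fn_mul, fn_smul,
      res_sum _ _ fun t _ => mul_mem (hai t) (hei _),
      res_mul (natCast_mem_place _) (hei x), res_natCast]
    rw [Finset.sum_congr rfl fun t _ => show res M (fn a t * fn (blockElem b) (t⁻¹ * x)) =
      if t ∈ K' then res M (fn (blockElem b) x) else 0 by
        rw [res_mul (hai t) (hei _), hfa]
        split_ifs with ht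
        · rw [res_one, one_mul, hfix t x ht]
        · rw [res_zero, zero_mul], ← Finset.sum_filter, Finset.sum_const, nsmul_eq_mul, ← hcard,
      Nat.card_eq_fintype_card, Fintype.card_subtype]
  have h1 := res_omega_eq_of_red_eq hM θ (hac.mul hec) (hai.mul hei)
    (hec.smul (Nat.card K : ℂ)) (fun x => by rw [fn_smul]; exact mul_mem (natCast_mem_place _) (hei x))
    hred
  rw [omega_mul θ hac, omega_smul, omega_blockElem, if_pos hθ, mul_one, mul_one, res_natCast] at h1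
  have hne : omega (θ : H → ℂ) a ≠ 0 := fun h0 => hKp <| by
    rw [h0, res_zero] at h1
    exact (res_natCast_eq_zero_iff hM _).1 h1.symm
  have hsum : ∑ y : K', (θ : H → ℂ) y ≠ 0 := fun h0 => hne <| by
    simp only [omega, chiEval, hfa, ite_mul, one_mul, zero_mul]
    rw [← Finset.sum_filter, Finset.sum_subtype (p := (· ∈ K')) _ (fun x => by simp), h0, zero_div]
  have hc : classInner (fun n : K' => (θ : H → ℂ) n) (fun _ : K' => (1 : ℂ)) ≠ 0 := by
    rw [classInner_def]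
    simp only [map_one, mul_one]
    exact mul_ne_zero (inv_ne_zero (Nat.cast_ne_zero.2 Nat.card_pos.ne')) hsum
  have hcl := clifford K' θ.2 isIrrCharacter_one hc
  have horb : ∀ ψ ∈ conjOrbit K' (fun _ : K' => (1 : ℂ)), ψ = fun _ => (1 : ℂ) := fun ψ hψ => by
    obtain ⟨g, rfl⟩ := (mem_conjOrbit K').1 hψ
    rfl
  have h2 := congrFun hcl ⟨k, hk⟩
  have h3 := congrFun hcl 1
  simp only [Pi.smul_apply, Finset.sum_apply] at h2 h3
  rw [Finset.sum_congr rfl fun ψ hψ => congrFun (horb ψ hψ) _] at h2 h3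
  exact h2.trans (by simpa using h3.symm)

/-! ### Propagation -/

lemma br_single_mul (R : Subgroup G) {k : G} (hk : k ∈ C⟨R⟩) (x : MonoidAlgebra (Res M) G) :
    br R (MonoidAlgebra.single k 1 * x) = MonoidAlgebra.single k 1 * br R x := by
  classical
  refine fn_ext fun g => ?_
  rw [fn_single_mul, one_mul, br, br]
  by_cases hg : g ∈ C⟨R⟩
  · rw [fn_trunc_mem _ hg, fn_trunc_mem _ ((C⟨R⟩).mul_mem ((C⟨R⟩).inv_mem hk) hg), fn_single_mul,
      one_mul]
  · rw [fn_trunc_not_mem _ hg, fn_trunc_not_mem _ fun h => hg (by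
      simpa using (C⟨R⟩).mul_mem hk h)]

/-- Upwards. -/
lemma fixesElt_up {K R : Subgroup G} (hK : K ≤ C⟨R⟩) {x y : MonoidAlgebra (Res M) G}
    (h : FixesElt K x) (hxy : br R x * y = y) : FixesElt K y := fun k hk => by
  rw [← hxy, ← mul_assoc, ← br_single_mul R (hK hk), h k hk]

lemma FixesElt.mono {K L : Subgroup G} {x : MonoidAlgebra (Res M) G} (h : FixesElt K x)
    (hle : L ≤ K) : FixesElt L x := fun k hk => h k (hle hk)

/-- Downwards. -/
theorem fixesElt_down [Fact p.Prime] (hM : IsPModular p M) {H R K : Subgroup G} [Fintype H]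
    (hKH : K ≤ H) (hHK : ∀ h ∈ H, ∀ k ∈ K, h * k * h⁻¹ ∈ K)
    (hRK : ∀ r ∈ R, ∀ k ∈ K, r * k * r⁻¹ ∈ K) (hRp : IsPGroup p R) (hKp : ¬ p ∣ Nat.card K)
    {b : Set (IrrCharacter H)} (hb : IsPBlock M b) (hR : ∀ r ∈ R, cj r (bi M H b) = bi M H b)
    {e : Set (IrrCharacter C⟨R⟩)} (he : IsPBlock M e)
    (hbr : br R (bi M H b) * bi M C⟨R⟩ e = bi M C⟨R⟩ e)
    (h : FixesElt (K ⊓ C⟨R⟩) (bi M C⟨R⟩ e)) : FixesElt K (bi M H b) := by
  classical
  haveI := charP_res hM
  set a : MonoidAlgebra (Res M) G := ofFn fun x => if x ∈ K then 1 else 0 with ha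
  have hfa : ∀ x, fn a x = if x ∈ K then 1 else 0 := fun x => by rw [ha, fn_ofFn]
  have hinv : ∀ S : Subgroup G, (∀ s ∈ S, ∀ k ∈ K, s * k * s⁻¹ ∈ K) → InvOn S a := by
    intro S hS s hs g
    rw [hfa, hfa]
    refine if_congr ⟨fun h' => ?_, fun h' => hS s hs g h'⟩ rfl rfl
    simpa [mul_assoc] using hS s⁻¹ (S.inv_mem hs) _ h'
  have hka : ∀ k ∈ K, MonoidAlgebra.single k 1 * a = a := fun k hk => fn_ext fun g => by
    rw [fn_single_mul, one_mul, hfa, hfa]
    exact if_congr (K.mul_mem_cancel_left (K.inv_mem hk)) rfl rfl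
  have hsum : a = ∑ k ∈ Finset.univ.filter (· ∈ K), MonoidAlgebra.single k 1 := fn_ext fun g => by
    rw [hfa, fn_sum]
    simp only [fn_single, Finset.sum_ite_eq', Finset.mem_filter, Finset.mem_univ, true_and]
  have hKcard : (Finset.univ.filter (· ∈ K)).card = Nat.card K := by
    rw [Nat.card_eq_fintype_card, Fintype.card_subtype]
  have hn0 : (Nat.card K : Res M) ≠ 0 := fun h0 => hKp ((res_natCast_eq_zero_iff hM _).1 h0)
  have haa : a * a = (Nat.card K : Res M) • a := by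
    conv_lhs => arg 1; rw [hsum]
    rw [Finset.sum_mul, Finset.sum_congr rfl fun k hk => hka k (Finset.mem_filter.1 hk).2,
      Finset.sum_const, hKcard, Nat.cast_smul_eq_nsmul]
  set β := (Nat.card K : Res M)⁻¹ • a with hβ
  have hβs : SuppOn H β := fun g hg => by
    rw [hβ, fn_smul, hfa, if_neg fun h' => hg (hKH h'), mul_zero]
  have hβi : InvOn H β := fun x hx g => by
    rw [hβ, fn_smul, fn_smul, hinv H hHK x hx g]
  have hββ : β * β = β := by
    rw [hβ, smul_mul_smul_comm, haa, smul_smul]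
    congr 1
    field_simp
  rcases mul_bi_eq_or hM hβs hβi hββ hb with h1 | h1
  · intro k hk
    conv_lhs => rw [← h1, ← mul_assoc, hβ, Algebra.mul_smul_comm, hka k hk, ← hβ, h1]
  exfalso
  have h2 : a * bi M H b = 0 := by
    rw [hβ, smul_mul_assoc] at h1
    exact (smul_eq_zero.1 h1).resolve_left (inv_ne_zero hn0)
  have h3 : br R a * bi M C⟨R⟩ e = 0 := by
    have h4 := congrArg (fun z => br R z * bi M C⟨R⟩ e) h2
    simp only [br_mul hRp (hinv R hRK) (invOn_iff.2 hR)] at h4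
    rw [mul_assoc, hbr] at h4
    rw [h4]
    simp [br, trunc_eq_self (show SuppOn C⟨R⟩ (0 : MonoidAlgebra (Res M) G) from fun g _ => fn_zero g)]
  set S := Finset.univ.filter (fun k : G => k ∈ K ⊓ C⟨R⟩) with hS
  have h5 : br R a = ∑ k ∈ S, MonoidAlgebra.single k 1 := fn_ext fun g => by
    rw [fn_sum]
    simp only [fn_single, Finset.sum_ite_eq', hS, Finset.mem_filter, Finset.mem_univ, true_and,
      Subgroup.mem_inf]
    by_cases hg : g ∈ C⟨R⟩
    · rw [br, fn_trunc_mem _ hg, hfa]; simp [hg]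
    · rw [br, fn_trunc_not_mem _ hg]; simp [hg]
  rw [h5, Finset.sum_mul, Finset.sum_congr rfl fun k hk => h k (Finset.mem_filter.1 hk).2,
    Finset.sum_const, ← Nat.cast_smul_eq_nsmul (Res M), smul_eq_zero] at h3
  refine hKp (dvd_trans ?_ (Subgroup.card_dvd_of_le (inf_le_left : K ⊓ C⟨R⟩ ≤ K)))
  have h6 : S.card = Nat.card ↥(K ⊓ C⟨R⟩) := by
    rw [Nat.card_eq_fintype_card, Fintype.card_subtype]
  rw [← h6]
  exact (res_natCast_eq_zero_iff hM _).1 (h3.resolve_right (bi_ne_zero hM he))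

/-! ### The largest normal `π'`-subgroup -/

variable (π : Set ℕ)

/-- The largest normal `π'`-subgroup of a subgroup. -/
abbrev coPiCore (X : Subgroup G) : Subgroup G := Cfsg.piCoreOf {q | q ∉ π} X

variable {π}

lemma coPiCore_le (X : Subgroup G) : coPiCore π X ≤ X := Subgroup.map_subtype_le _

lemma mem_coPiCore_iff {X : Subgroup G} {x : X} :
    (x : G) ∈ coPiCore π X ↔ x ∈ piCore {q | q ∉ π} X :=
  Subgroup.mem_map_iff_mem X.subtype_injective

lemma coPiCore_isPi (X : Subgroup G) : IsPiNat {q | q ∉ π} (Nat.card (coPiCore π X)) := by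
  rw [coPiCore, Cfsg.piCoreOf, Subgroup.card_map_of_injective X.subtype_injective]
  exact piCore_isPi _

lemma coPiCore_not_dvd (hp : p.Prime) (hpπ : p ∈ π) (X : Subgroup G) :
    ¬ p ∣ Nat.card (coPiCore π X) :=
  fun h => coPiCore_isPi X p hp h hpπ

lemma conj_mem_coPiCore {X : Subgroup G} {x k : G} (hx : x ∈ X) (hk : k ∈ coPiCore π X) :
    x * k * x⁻¹ ∈ coPiCore π X := by
  obtain ⟨y, hy, rfl⟩ := hk
  exact ⟨(⟨x, hx⟩ : X) * y * (⟨x, hx⟩ : X)⁻¹, (piCore_normal _ X).conj_mem y hy _, rfl⟩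

lemma le_coPiCore {X L : Subgroup G} (hLX : L ≤ X) (hn : ∀ x ∈ X, ∀ l ∈ L, x * l * x⁻¹ ∈ L)
    (hpi : IsPiNat {q | q ∉ π} (Nat.card L)) : L ≤ coPiCore π X := by
  haveI : (L.subgroupOf X).Normal := ⟨fun y hy x => hn x x.2 y hy⟩
  intro l hl
  have h2 : L.subgroupOf X ≤ piCore {q | q ∉ π} X := le_piCore (by
    rwa [Nat.card_congr (Subgroup.subgroupOfEquivOfLe hLX).toEquiv])
  exact ⟨⟨l, hLX hl⟩, h2 hl, rfl⟩

lemma conj_mem_coPiCore_of_normalizer {X : Subgroup G} {x k : G}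
    (hx : x ∈ Subgroup.normalizer (X : Set G)) (hk : k ∈ coPiCore π X) :
    x * k * x⁻¹ ∈ coPiCore π X := by
  have h1 : (coPiCore π X).map (MulAut.conj x).toMonoidHom ≤ coPiCore π X := by
    refine le_coPiCore ?_ ?_ ?_
    · rintro _ ⟨y, hy, rfl⟩
      exact (Subgroup.mem_normalizer_iff.1 hx y).1 (coPiCore_le X hy)
    · rintro z hz _ ⟨y, hy, rfl⟩
      refine ⟨(x⁻¹ * z * x) * y * (x⁻¹ * z * x)⁻¹, conj_mem_coPiCore ?_ hy, ?_⟩
      · refine (Subgroup.mem_normalizer_iff.1 hx _).2 ?_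
        rwa [show x * (x⁻¹ * z * x) * x⁻¹ = z by group]
      · show x * _ * x⁻¹ = z * (x * y * x⁻¹) * z⁻¹
        group
    · rw [card_map_conj]; exact coPiCore_isPi X
  exact h1 ⟨k, hk, rfl⟩

lemma coPiCore_inf_centralizer_le {X : Subgroup G} {R : Subgroup G}
    (hCX : C⟨R⟩ ≤ Subgroup.normalizer (X : Set G)) :
    coPiCore π X ⊓ C⟨R⟩ ≤ coPiCore π C⟨R⟩ := by
  refine le_coPiCore inf_le_right (fun x hx l hl => ?_) ?_
  · exact ⟨conj_mem_coPiCore_of_normalizer (hCX hx) hl.1,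
      (C⟨R⟩).mul_mem ((C⟨R⟩).mul_mem hx hl.2) ((C⟨R⟩).inv_mem hx)⟩
  · exact fun q hq hd => coPiCore_isPi X q hq (hd.trans (Subgroup.card_dvd_of_le inf_le_left))

/-- At the normaliser of `D` the core is that of the centralizer. -/
lemma coPiCore_normalizer_eq (hp : p.Prime) (hpπ : p ∈ π) {D : Subgroup G} (hD : IsPGroup p D) :
    coPiCore π (Subgroup.normalizer (D : Set G)) = coPiCore π C⟨D⟩ := by
  haveI := Fact.mk hp
  refine le_antisymm (le_coPiCore ?_ ?_ (coPiCore_isPi _))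
    (le_coPiCore ((coPiCore_le _).trans (Subgroup.centralizer_le_normalizer _)) ?_
      (coPiCore_isPi _))
  · intro k hk
    rw [Subgroup.mem_centralizer_iff]
    intro y hy
    have h1 : y * k * y⁻¹ * k⁻¹ ∈ coPiCore π (Subgroup.normalizer (D : Set G)) :=
      mul_mem (conj_mem_coPiCore (Subgroup.le_normalizer hy) hk) (inv_mem hk)
    have h2 : y * k * y⁻¹ * k⁻¹ ∈ D := by
      rw [show y * k * y⁻¹ * k⁻¹ = y * (k * y⁻¹ * k⁻¹) by group]
      exact mul_mem hy ((Subgroup.mem_normalizer_iff.1 (coPiCore_le _ hk) _).1 (inv_mem hy))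
    obtain ⟨j, hj⟩ := hD.exists_card_eq
    have h3 : orderOf (y * k * y⁻¹ * k⁻¹) = 1 := by
      refine Nat.eq_one_of_dvd_coprimes ?_ (hj ▸ Subgroup.orderOf_dvd_natCard _ h2)
        (Subgroup.orderOf_dvd_natCard _ h1)
      exact (Nat.Coprime.pow_left _ ((hp.coprime_iff_not_dvd).2 (coPiCore_not_dvd hp hpπ _)))
    rw [orderOf_eq_one_iff, mul_inv_eq_one, mul_inv_eq_iff_eq_mul] at h3
    exact h3
  · exact fun x hx l hl => conj_mem_coPiCore (Subgroup.centralizer_le_normalizer _ hx) hl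
  · exact fun x hx l hl => conj_mem_coPiCore_of_normalizer
      (centralizer_le_normalizer_centralizer hx le_rfl) hl

/-- A normal Hall `π'`-subgroup. -/
def HallCore (π : Set ℕ) (X : Subgroup G) : Prop :=
  ∀ x ∈ X, (∀ q : ℕ, q.Prime → q ∣ orderOf x → q ∉ π) → x ∈ coPiCore π X

lemma orderOf_primes_coPiCore {X : Subgroup G} {x : G} (hx : x ∈ coPiCore π X) (q : ℕ)
    (hq : q.Prime) (hd : q ∣ orderOf x) : q ∉ π :=
  coPiCore_isPi X q hq (hd.trans (Subgroup.orderOf_dvd_natCard _ hx))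

variable [Fact p.Prime] {B : Set (IrrCharacter G)}

/-- The kernel property descends along inclusions of pairs. -/
theorem fixesElt_of_subpairLE (hM : IsPModular p M) (hpπ : p ∈ π) (a b : BrauerPairIdx G)
    (h : Relation.ReflTransGen (NormalSubpairRel p M) a b)
    (hb : FixesElt (coPiCore π C⟨b.1⟩) (bi M C⟨b.1⟩ b.2)) :
    FixesElt (coPiCore π C⟨a.1⟩) (bi M C⟨a.1⟩ a.2) := by
  induction h using Relation.ReflTransGen.head_induction_on with
  | refl => exact hb
  | @head x y hxy _ ih =>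
    classical
    obtain ⟨Q, f⟩ := x
    obtain ⟨R, e⟩ := y
    letI := Fintype.ofFinite C⟨Q⟩
    obtain ⟨hQ, hR, hle, hnorm, hfix, hbr⟩ := (isNormalSubpair_iff hM Q f R e).1 hxy
    refine fixesElt_down hM (coPiCore_le _) (fun h hh k hk => conj_mem_coPiCore hh hk)
      (fun r hr k hk => conj_mem_coPiCore_of_normalizer
        (centralizer_le_normalizer_centralizer (hnorm hr) le_rfl) hk) hR.1
      (coPiCore_not_dvd Fact.out hpπ _) hQ.2 hfix hR.2 hbr (ih.mono ?_)
    exact coPiCore_inf_centralizer_le ((le_centralizer_of_le hle).trans Subgroup.le_normalizer)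

/-- It ascends from normal Hall subgroups. -/
theorem fixesElt_up_of_subpairLE (hM : IsPModular p M) (a b : BrauerPairIdx G)
    (h : Relation.ReflTransGen (NormalSubpairRel p M) a b)
    (ha : HallCore π C⟨a.1⟩ ∧ FixesElt (coPiCore π C⟨a.1⟩) (bi M C⟨a.1⟩ a.2)) :
    HallCore π C⟨b.1⟩ ∧ FixesElt (coPiCore π C⟨b.1⟩) (bi M C⟨b.1⟩ b.2) := by
  induction h with
  | refl => exact ha
  | @tail x y _ hxy ih =>
    obtain ⟨Q, f⟩ := x
    obtain ⟨R, e⟩ := y
    obtain ⟨hQ, hR, hle, hnorm, hfix, hbr⟩ := (isNormalSubpair_iff hM Q f R e).1 hxy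
    obtain ⟨hH, hF⟩ := ih
    have hle' : coPiCore π C⟨R⟩ ≤ coPiCore π C⟨Q⟩ := fun k hk =>
      hH k (le_centralizer_of_le hle (coPiCore_le _ hk)) (orderOf_primes_coPiCore hk)
    exact ⟨fun k hk hord => coPiCore_inf_centralizer_le
      ((le_centralizer_of_le hle).trans Subgroup.le_normalizer)
      ⟨hH k (le_centralizer_of_le hle hk) hord, hk⟩,
      fixesElt_up (coPiCore_le _) (hF.mono hle') hbr⟩

lemma fixesElt_conjBlock {Q : Subgroup G} {f : Set (IrrCharacter C⟨Q⟩)} (x : G) :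
    FixesElt (coPiCore π C⟨Q.map (MulAut.conj x).toMonoidHom⟩)
        (bi M C⟨Q.map (MulAut.conj x).toMonoidHom⟩ (conjBlock Q x f)) ↔
      FixesElt (coPiCore π C⟨Q⟩) (bi M C⟨Q⟩ f) := by
  classical
  set Q' := Q.map (MulAut.conj x).toMonoidHom with hQ'
  have hiso := isConjSub_centralizer Q x
  have hmem : ∀ k : G, k ∈ coPiCore π C⟨Q'⟩ ↔ x⁻¹ * k * x ∈ coPiCore π C⟨Q⟩ := by
    intro k
    have h1 : coPiCore π C⟨Q'⟩ = (coPiCore π C⟨Q⟩).map (MulAut.conj x).toMonoidHom := by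
      refine le_antisymm ?_ (le_coPiCore ?_ ?_ ?_)
      · rw [← Subgroup.map_le_map_iff_of_injective
          (f := (MulAut.conj x⁻¹).toMonoidHom) (MulAut.conj x⁻¹).injective, map_conj_map,
          inv_mul_cancel, map_conj_one]
        refine le_coPiCore ?_ ?_ ?_
        · rintro _ ⟨y, hy, rfl⟩
          show x⁻¹ * y * x⁻¹⁻¹ ∈ _
          rw [inv_inv]
          exact (hiso y).1 (coPiCore_le _ hy)
        · rintro z hz _ ⟨y, hy, rfl⟩
          refine ⟨(x * z * x⁻¹) * y * (x * z * x⁻¹)⁻¹, conj_mem_coPiCore ?_ hy, ?_⟩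
          · exact (hiso _).2 (by rwa [show x⁻¹ * (x * z * x⁻¹) * x = z by group])
          · show x⁻¹ * _ * x⁻¹⁻¹ = z * (x⁻¹ * y * x⁻¹⁻¹) * z⁻¹
            group
        · rw [card_map_conj]; exact coPiCore_isPi _
      · rintro _ ⟨y, hy, rfl⟩
        refine (hiso _).2 ?_
        show x⁻¹ * (x * y * x⁻¹) * x ∈ _
        rw [show x⁻¹ * (x * y * x⁻¹) * x = y by group]
        exact coPiCore_le _ hy
      · rintro z hz _ ⟨y, hy, rfl⟩
        refine ⟨(x⁻¹ * z * x) * y * (x⁻¹ * z * x)⁻¹, conj_mem_coPiCore ((hiso z).1 hz) hy, ?_⟩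
        show x * _ * x⁻¹ = z * (x * y * x⁻¹) * z⁻¹
        group
      · rw [card_map_conj]; exact coPiCore_isPi _
    rw [h1]
    constructor
    · rintro ⟨y, hy, rfl⟩
      show x⁻¹ * (x * y * x⁻¹) * x ∈ _
      rwa [show x⁻¹ * (x * y * x⁻¹) * x = y by group]
    · exact fun h => ⟨_, h, by simp [mul_assoc]⟩
  have hkey : ∀ k : G, MonoidAlgebra.single k 1 * bi M C⟨Q'⟩ (conjBlock Q x f) =
      cj x (MonoidAlgebra.single (x⁻¹ * k * x) 1 * bi M C⟨Q⟩ f) := fun k => fn_ext fun g => by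
    rw [bi_conjBlock, fn_cj, fn_single_mul, fn_single_mul, fn_cj]
    congr 2
    group
  constructor
  · intro h k hk
    have h1 := h (x * k * x⁻¹) ((hmem _).2 (by rwa [show x⁻¹ * (x * k * x⁻¹) * x = k by group]))
    rw [hkey, bi_conjBlock, show x⁻¹ * (x * k * x⁻¹) * x = k by group] at h1
    exact cj_injective x h1
  · intro h k hk
    rw [hkey, h _ ((hmem k).1 hk), bi_conjBlock]

/-- All pairs inherit the property from a maximal one. -/
theorem fixesElt_of_maximal (hM : IsPModular p M) (hpπ : p ∈ π) {P : Subgroup G}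
    {e : Set (IrrCharacter C⟨P⟩)} (hmax : IsMaximalBrauerPair p M B P e)
    (he : FixesElt (coPiCore π C⟨P⟩) (bi M C⟨P⟩ e)) {Q : Subgroup G}
    {f : Set (IrrCharacter C⟨Q⟩)} (hQ : IsBrauerPairOf p M B Q f) :
    FixesElt (coPiCore π C⟨Q⟩) (bi M C⟨Q⟩ f) := by
  obtain ⟨x, hx⟩ := exists_conj_subpairLE hM hmax hQ
  have h1 := fixesElt_of_subpairLE (π := π) hM hpπ _ _ hx
  have h2 : FixesElt (coPiCore π C⟨Q.map (MulAut.conj x).toMonoidHom⟩)
      (bi M C⟨Q.map (MulAut.conj x).toMonoidHom⟩ (conjBlock Q x f)) := h1 he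
  exact (fixesElt_conjBlock (M := M) (Q := Q) (f := f) x).1 h2

/-- The Brauer correspondent determines a maximal pair with the same kernel condition. -/
theorem exists_maximal_correspondent (hM : IsPModular p M) (hpπ : p ∈ π) {D : Subgroup G}
    (hD : IsDefectGroup p M B D) [Fintype ↥(Subgroup.normalizer (D : Set G))]
    {B₁ : Set (IrrCharacter (Subgroup.normalizer (D : Set G)))}
    (hB₁ : IsInducedBlock M (Subgroup.normalizer (D : Set G)) B₁ B) :
    ∃ e : Set (IrrCharacter C⟨D⟩), IsMaximalBrauerPair p M B D e ∧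
      ((∀ n : ↥(Subgroup.normalizer (D : Set G)),
          n ∈ piCore {q | q ∉ π} ↥(Subgroup.normalizer (D : Set G)) → n ∈ blockKer B₁) ↔
        FixesElt (coPiCore π C⟨D⟩) (bi M C⟨D⟩ e)) := by
  classical
  have hp : p.Prime := Fact.out
  have hDp := IsDefectGroup.isPGroup hD
  have hDN : D ≤ (Subgroup.normalizer (D : Set G)) := Subgroup.le_normalizer
  have hCN : C⟨D⟩ ≤ (Subgroup.normalizer (D : Set G)) := Subgroup.centralizer_le_normalizer _
  obtain ⟨e, he, hbr⟩ := exists_local_pair hM hDp hDN hCN le_rfl hB₁.1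
  have hpair := pair_of_isInducedBlock hM hDN hCN hB₁.1 he hbr hB₁
  have heq := coPiCore_normalizer_eq (π := π) hp hpπ hDp
  refine ⟨e, isMaximal_of_isDefectGroup hM hpair hD, fun h => ?_, fun h n hn => ?_⟩
  · refine fixesElt_up (coPiCore_le _) (fun k hk => ?_) hbr
    have hkN : k ∈ coPiCore π (Subgroup.normalizer (D : Set G)) := heq.ge hk
    exact single_mul_bi_of_ker (coPiCore_le _ hkN)
      fun θ hθ => h ⟨k, coPiCore_le _ hkN⟩ (mem_coPiCore_iff.1 hkN) θ hθ
  · intro θ hθ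
    refine ker_of_fixesElt hM hB₁.1 (K := coPiCore π (Subgroup.normalizer (D : Set G))) (fun x hx k hk => conj_mem_coPiCore hx hk)
      (coPiCore_not_dvd hp hpπ _) (coPiCore_le _) ?_ (mem_coPiCore_iff.2 hn) hθ
    have h1 : coPiCore π (Subgroup.normalizer (D : Set G)) ⊓ C⟨D⟩ ≤ coPiCore π C⟨D⟩ := by
      rw [heq]
      exact inf_le_left
    have hfix : ∀ r ∈ D, cj r (bi M (Subgroup.normalizer (D : Set G)) B₁) = bi M (Subgroup.normalizer (D : Set G)) B₁ := fun r hr =>
      invOn_iff.1 (invOn_bi (M := M) (H := Subgroup.normalizer (D : Set G)) B₁) r (hDN hr)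
    exact fixesElt_down (K := coPiCore π (Subgroup.normalizer (D : Set G))) (R := D) (H := Subgroup.normalizer (D : Set G)) hM (coPiCore_le (Subgroup.normalizer (D : Set G)))
      (fun x hx k hk => conj_mem_coPiCore hx hk)
      (fun r hr k hk => conj_mem_coPiCore (hDN hr) hk) hDp (coPiCore_not_dvd hp hpπ (Subgroup.normalizer (D : Set G))) hB₁.1
      hfix he.2 hbr (h.mono h1)

end Cfsg.Lib.Blocks
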