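import Cfsg.Agent.Blocks.SectionRanks
import Cfsg.Agent.Blocks.Orth2
import Cfsg.Agent.Blocks.IBr.Lift
import Cfsg.Agent.Chars.Galois

/-!
# Characters of a block fixed by a Galois automorphism

Let `k` be prime to the order of the group and congruent to `1` modulo the `p'`-part. The number of
characters of a block fixed by `χ ↦ χ (· ^ k)` is at least the number of Brauer characters of the block:
on the regular elements the trace counts them, and on each other section it is a natural number, since
an automorphism maps a Brauer character to a combination with natural coefficients.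
-/

set_option autoImplicit false
set_option linter.unusedSectionVars false
set_option linter.style.haveILetI false

namespace Cfsg.Lib.Blocks.RationalCount

open Cfsg.Lib.Chars Cfsg.Lib.Blocks Cfsg.Lib.Blocks.IBr
open scoped ComplexConjugate Classical

universe u

variable {G : Type u} [Group G] [Fintype G] {M : Ideal AlgInt} {p : ℕ}

/-- The twisted regular diagonal of a block kernel is a natural number. -/
theorem sum_colKer_auto (hM : IsPModular p M) {b : Set (IrrCharacter G)} (hb : IsPBlock M b)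
    (τ : G ≃* G) : ∃ r : ℕ, ∑ w ∈ Finset.univ.filter (fun w : G => ¬ p ∣ orderOf w), colKer b (τ w) w =
      (Nat.card G : ℂ) * r := by
  classical
  choose r hr using fun i : Ix M G => exists_phi_comp hM τ.toMonoidHom τ.injective i
  refine ⟨∑ i ∈ Finset.univ.filter (InBlk M b), r i i, ?_⟩
  have hphi : ∀ (j : Ix M G) (χ : IrrCharacter G),
      ∑ w ∈ Finset.univ.filter (fun w : G => ¬ p ∣ orderOf w), phi p M j w * conj ((χ : G → ℂ) w) =
        (Nat.card G : ℂ) * classInner (phi p M j) (χ : G → ℂ) := fun j χ => by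
    rw [classInner_def, mul_inv_cancel_left₀ (Nat.cast_ne_zero.2 Nat.card_pos.ne'), Finset.sum_filter]
    refine Finset.sum_congr rfl fun w _ => ?_
    by_cases hw : p ∣ orderOf w
    · rw [if_neg (not_not.2 hw), phi_singular _ hw, zero_mul]
    · rw [if_pos hw]
  have hexp : ∀ (j : Ix M G), ∀ g : G, ¬ p ∣ orderOf g →
      phi p M j g = ∑ χ : IrrCharacter G, classInner (phi p M j) (χ : G → ℂ) * (χ : G → ℂ) g :=
    fun j g _ => classFunction_expand_apply (isClassFunction_phi hM j) g
  have hstep : ∀ w ∈ Finset.univ.filter (fun w : G => ¬ p ∣ orderOf w), colKer b (τ w) w =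
      ∑ χ ∈ Finset.univ.filter (· ∈ b), ∑ i, ∑ j,
        (dec M χ i : ℂ) * (r i j : ℂ) * (phi p M j w * conj ((χ : G → ℂ) w)) := by
    intro w hw
    have hw' := (Finset.mem_filter.1 hw).2
    have hτw : ¬ p ∣ orderOf (τ w) := by rwa [MulEquiv.orderOf_eq]
    rw [colKer_eq]
    refine Finset.sum_congr rfl fun χ _ => ?_
    rw [apply_eq_sum_dec hM χ hτw, Finset.sum_mul]
    refine Finset.sum_congr rfl fun i _ => ?_
    rw [show phi p M i (τ w) = _ from hr i w hw', Finset.mul_sum, Finset.sum_mul]
    exact Finset.sum_congr rfl fun j _ => by ring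
  rw [Finset.sum_congr rfl hstep, Finset.sum_comm]
  simp_rw [Finset.sum_comm (s := Finset.univ.filter (fun w : G => ¬ p ∣ orderOf w)), ← Finset.mul_sum, hphi]
  rw [Finset.sum_comm, Nat.cast_sum, Finset.mul_sum, Finset.sum_filter]
  refine Finset.sum_congr rfl fun i _ => ?_
  rw [Finset.sum_comm]
  have hdelta : ∀ j, InBlk M b i → ∑ χ ∈ Finset.univ.filter (· ∈ b),
      classInner (phi p M j) (χ : G → ℂ) * (dec M χ i : ℂ) = if i = j then 1 else 0 := fun j hi => by
    rw [← coeff_of_eq hM (hexp j) i]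
    exact Finset.sum_subset (Finset.subset_univ _) fun χ _ hχ => by
      rw [dec_eq_zero_of_inBlk hM hb hi (by simpa using hχ), Nat.cast_zero, mul_zero]
  split_ifs with hi
  · rw [Finset.sum_eq_single i]
    · rw [Finset.sum_congr rfl fun (χ : IrrCharacter G) _ => show (dec M χ i : ℂ) * (r i i : ℂ) *
        ((Nat.card G : ℂ) * classInner (phi p M i) (χ : G → ℂ)) =
        ((r i i : ℂ) * (Nat.card G : ℂ)) * (classInner (phi p M i) (χ : G → ℂ) * (dec M χ i : ℂ)) by ring,
        ← Finset.mul_sum, hdelta i hi, if_pos rfl]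
      ring
    · intro j _ hj
      rw [Finset.sum_congr rfl fun (χ : IrrCharacter G) _ => show (dec M χ i : ℂ) * (r i j : ℂ) *
        ((Nat.card G : ℂ) * classInner (phi p M j) (χ : G → ℂ)) =
        ((r i j : ℂ) * (Nat.card G : ℂ)) * (classInner (phi p M j) (χ : G → ℂ) * (dec M χ i : ℂ)) by ring,
        ← Finset.mul_sum, hdelta j hi, if_neg (Ne.symm hj), mul_zero]
    · exact fun h => absurd (Finset.mem_univ i) h
  · refine Finset.sum_eq_zero fun j _ => Finset.sum_eq_zero fun χ hχ => ?_
    have h0 : dec M χ i = 0 := by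
      by_contra h
      exact hi (inBlk_of_dec hM hb (Finset.mem_filter.1 hχ).2 h)
    rw [h0, Nat.cast_zero, zero_mul, zero_mul]

/-- **Fixed characters.** -/
theorem blockRank_le_fixed (hM : IsPModular p M) {B : Set (IrrCharacter G)} (hB : IsPBlock M B) (k : ℕ)
    (hk : k.Coprime (Nat.card G)) (hreg : ∀ g : G, ¬ p ∣ orderOf g → g ^ k = g) :
    blockRank p B ≤ Nat.card {χ : IrrCharacter G // χ ∈ B ∧ ∀ g : G, (χ : G → ℂ) (g ^ k) = (χ : G → ℂ) g} := by
  classical
  haveI : NeZero (Nat.card G) := ⟨Nat.card_pos.ne'⟩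
  obtain ⟨σ, hσ⟩ := exists_galConj_auto hk
  have hirr : ∀ χ : IrrCharacter G, IsIrrCharacter G (fun g => (χ : G → ℂ) (g ^ k)) := fun χ => by
    have := IsIrrCharacter.map_auto χ.2 σ
    rwa [show (fun g => σ ((χ : G → ℂ) g)) = fun g => (χ : G → ℂ) (g ^ k) from
      funext fun g => hσ.apply_character (isCharacter_of_irr χ.2) (orderOf_dvd_natCard g)] at this
  let f : IrrCharacter G → IrrCharacter G := fun χ => ⟨fun g => (χ : G → ℂ) (g ^ k), hirr χ⟩
  set N := Nat.card {χ : IrrCharacter G // χ ∈ B ∧ ∀ g : G, (χ : G → ℂ) (g ^ k) = (χ : G → ℂ) g}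
  have htot : ∑ g : G, colKer B (g ^ k) g = (Nat.card G : ℂ) * (N : ℂ) := by
    have h1 : ∀ χ : IrrCharacter G, ∑ g : G, (χ : G → ℂ) (g ^ k) * conj ((χ : G → ℂ) g) =
        (Nat.card G : ℂ) * (if f χ = χ then 1 else 0) := fun χ => by
      rw [← classInner_irrCharacter (f χ) χ, classInner_def, mul_inv_cancel_left₀ (Nat.cast_ne_zero.2 Nat.card_pos.ne')]
    simp only [colKer_eq]
    rw [Finset.sum_comm, Finset.sum_congr rfl fun χ _ => h1 χ, ← Finset.mul_sum, Finset.sum_boole,
      Finset.filter_filter]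
    congr 2
    rw [show N = Nat.card _ from rfl, Nat.card_eq_fintype_card, Fintype.card_subtype]
    congr 1
    ext χ
    simp only [Finset.mem_filter, Finset.mem_univ, true_and, f, Subtype.ext_iff, funext_iff]
  -- a section
  have hsect : ∀ x ∈ pElements p G, ∃ r : ℕ,
      ∑ w ∈ Finset.univ.filter (fun w : Subgroup.centralizer ({x} : Set G) => ¬ p ∣ orderOf w),
        colKer B ((x * (w : G)) ^ k) (x * (w : G)) = (r : ℂ) := by
    intro x hx
    obtain ⟨-, hxk⟩ := mem_pElements.1 hx
    set C := Subgroup.centralizer ({x} : Set G) with hC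
    have hH : C = Subgroup.centralizer (Subgroup.zpowers x : Set G) := (centralizer_zpowers x).symm
    have hmem : ∀ a : G, a ∈ C ↔ Commute x a := fun a => by
      rw [hC, Subgroup.mem_centralizer_singleton_iff]; exact ⟨fun h => h.symm, fun h => h.eq.symm⟩
    have hpow : ∀ w : C, ¬ p ∣ orderOf w → (x * (w : G)) ^ k = x ^ k * (w : G) := fun w hw => by
      rw [((hmem _).1 w.2).mul_pow, hreg (w : G) (by rwa [Subgroup.orderOf_coe])]
    have hck : k.Coprime (orderOf x) := hk.coprime_dvd_right (orderOf_dvd_natCard x)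
    obtain ⟨e, he⟩ := exists_pow_eq_self_of_coprime hck
    by_cases hconj : IsConj x (x ^ k)
    swap
    · refine ⟨0, ?_⟩
      rw [Nat.cast_zero]
      refine Finset.sum_eq_zero fun w hw => ?_
      have hw' := (Finset.mem_filter.1 hw).2
      rw [hpow w hw', colKer_eq]
      rw [← Subgroup.orderOf_coe] at hw'
      obtain ⟨j, hj⟩ := hxk
      refine block_orthogonality_conj hM hB (isPPart_mul (((hmem _).1 w.2).pow_left k) ⟨j, ?_⟩ hw')
        (isPPart_mul ((hmem _).1 w.2) ⟨j, hj⟩ hw') fun h => hconj h.symm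
      rw [Nat.Coprime.orderOf_pow hck.symm, hj]
    obtain ⟨t, ht⟩ := isConj_iff.1 hconj
    have hτ1 : ∀ a : G, Commute x a → Commute x (t⁻¹ * a * t) := fun a ha => by
      have h := ((ha.pow_left k).map (MulAut.conj t⁻¹).toMonoidHom)
      simp only [MulEquiv.coe_toMonoidHom, MulAut.conj_apply, inv_inv] at h
      rwa [← ht, show t⁻¹ * (t * x * t⁻¹) * t = x by group] at h
    have hτ2 : ∀ a : G, Commute x a → Commute x (t * a * t⁻¹) := fun a ha => by
      have h := (ha.map (MulAut.conj t).toMonoidHom)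
      simp only [MulEquiv.coe_toMonoidHom, MulAut.conj_apply, ht] at h
      have h' := h.pow_left e
      rwa [he] at h'
    let τ : C ≃* C :=
      { toFun := fun w => ⟨t⁻¹ * (w : G) * t, (hmem _).2 (hτ1 _ ((hmem _).1 w.2))⟩
        invFun := fun w => ⟨t * (w : G) * t⁻¹, (hmem _).2 (hτ2 _ ((hmem _).1 w.2))⟩
        left_inv := fun w => Subtype.ext (by group)
        right_inv := fun w => Subtype.ext (by group)
        map_mul' := fun w v => Subtype.ext (by
          show t⁻¹ * ((w : G) * v) * t = t⁻¹ * (w : G) * t * (t⁻¹ * (v : G) * t)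
          group) }
    have hsec : ∀ w ∈ Finset.univ.filter (fun w : C => ¬ p ∣ orderOf w),
        colKer B ((x * (w : G)) ^ k) (x * (w : G)) =
          ∑ b ∈ (blocksFinset M C).filter (fun b => IsInducedBlock M C b B), colKer b (τ w) w := by
      intro w hw
      have hw' := (Finset.mem_filter.1 hw).2
      have hτw : ¬ p ∣ orderOf (τ w) := by rwa [MulEquiv.orderOf_eq]
      rw [hpow w hw', ← colKer_section hM hxk hH hB hτw hw', colKer_eq, colKer_eq]
      refine Finset.sum_congr rfl fun χ _ => ?_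
      congr 1
      rw [← ht, show t * x * t⁻¹ * (w : G) = t * (x * (t⁻¹ * (w : G) * t)) * t⁻¹ by group]
      exact isClassFunction_irr χ _ _
    rw [Finset.sum_congr rfl hsec, Finset.sum_comm]
    choose r hr using fun b : {b // b ∈ (blocksFinset M C).filter (fun b => IsInducedBlock M C b B)} =>
      sum_colKer_auto hM (b := b.1) (Finset.mem_filter.1 b.2).2.1 τ
    refine ⟨Nat.card C * ∑ b, r b, ?_⟩
    rw [← Finset.sum_attach, Nat.cast_mul, Nat.cast_sum, Finset.mul_sum]
    exact Finset.sum_congr rfl fun b _ => hr b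
  choose pp hpp using fun g : G => exists_isPPart' hM.1 g
  have hsing : ∃ r : ℕ, ∑ g ∈ Finset.univ.filter (fun g : G => p ∣ orderOf g), colKer B (g ^ k) g = (r : ℂ) := by
    choose r hr using hsect
    refine ⟨∑ x ∈ (pElements p G).attach, r x.1 x.2, ?_⟩
    rw [← Finset.sum_fiberwise_of_maps_to (g := pp) (t := pElements p G) (fun g hg => ?_), Nat.cast_sum,
      ← Finset.sum_attach]
    swap
    · rw [mem_pElements]
      obtain ⟨y, hy, hc, hk', hny⟩ := hpp g
      refine ⟨fun h1 => ?_, hk'⟩
      rw [h1, one_mul] at hy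
      exact hny (hy ▸ (Finset.mem_filter.1 hg).2)
    refine Finset.sum_congr rfl fun x _ => ?_
    rw [← hr x.1 x.2]
    obtain ⟨hx1, hxk⟩ := mem_pElements.1 x.2
    have hH : Subgroup.centralizer ({x.1} : Set G) = Subgroup.centralizer (Subgroup.zpowers x.1 : Set G) :=
      (centralizer_zpowers x.1).symm
    symm
    refine Finset.sum_nbij (fun w : Subgroup.centralizer ({x.1} : Set G) => x.1 * (w : G)) (fun w hw => ?_)
      (fun w _ w' _ h => Subtype.ext (mul_left_cancel h)) (fun g hg => ?_) fun w _ => rfl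
    · have hw' := (Finset.mem_filter.1 hw).2
      rw [← Subgroup.orderOf_coe] at hw'
      have hpart := isPPart_mul (commute_of_mem_centralizer hH w.2) hxk hw'
      refine Finset.mem_filter.2 ⟨Finset.mem_filter.2 ⟨Finset.mem_univ _, ?_⟩,
        IsPPart.eq hM.1 (hpp _) hpart⟩
      by_contra hd
      exact hx1 (IsPPart.eq hM.1 hpart ((isPPart_one_iff hM.1).2 hd))
    · rw [Finset.mem_coe, Finset.mem_filter] at hg
      obtain ⟨y, hy, hc, -, hny⟩ := hpp g
      rw [hg.2] at hy hc
      refine ⟨⟨y, ?_⟩, ?_, hy⟩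
      · rw [Subgroup.mem_centralizer_singleton_iff]; exact hc.symm.eq
      · rw [Finset.mem_coe, Finset.mem_filter, ← Subgroup.orderOf_coe]
        exact ⟨Finset.mem_univ _, hny⟩
  obtain ⟨r, hr⟩ := hsing
  have h := Finset.sum_filter_add_sum_filter_not Finset.univ (fun g : G => p ∣ orderOf g)
    (fun g => colKer B (g ^ k) g)
  rw [hr, Finset.sum_congr rfl (g := fun g => colKer B g g) (fun g hg => by rw [hreg g (Finset.mem_filter.1 hg).2]),
    sum_colKer_regular hM hB, htot] at h
  have h' : r + Nat.card G * blockRank p B = Nat.card G * N := by exact_mod_cast h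
  exact Nat.le_of_mul_le_mul_left (h' ▸ Nat.le_add_left _ _) Nat.card_pos

end Cfsg.Lib.Blocks.RationalCount
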