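/-
Real characters: invariant forms and realisability over the real numbers.
-/
import Cfsg.Agent.Chars.Indicator
import Cfsg.Agent.Chars.Equivalence
import Cfsg.Agent.Chars.Induced
import Mathlib

set_option linter.unusedSectionVars false

namespace Cfsg.Lib.Blocks

open scoped Matrix ComplexConjugate ComplexOrder
open Cfsg.Lib.Chars

variable {G : Type*} [Group G] {d : ℕ}

lemma mat_schur (ρ : Representation ℂ G (Fin d → ℂ)) [ρ.IsIrreducible]
    {T : Matrix (Fin d) (Fin d) ℂ} (hT : ∀ g, matRep ρ g * T = T * matRep ρ g) :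
    ∃ c : ℂ, T = c • (1 : Matrix (Fin d) (Fin d) ℂ) := by
  obtain ⟨c, hc⟩ := schur_scalar ρ (Matrix.toLin' T) fun g v => by
    rw [Matrix.toLin'_apply, Matrix.toLin'_apply, ← matRep_mulVec ρ g v, ← matRep_mulVec ρ g,
      Matrix.mulVec_mulVec, Matrix.mulVec_mulVec, hT g]
  refine ⟨c, Matrix.toLin'.injective ?_⟩
  rw [hc, map_smul, Matrix.toLin'_one]

variable [Fintype G]

/-- The invariant forms of an irreducible representation transpose by the indicator. -/
theorem transpose_eq_indicator (ρ : Representation ℂ G (Fin d → ℂ)) [ρ.IsIrreducible]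
    {M : Matrix (Fin d) (Fin d) ℂ} (hM : IsInvForm ρ M) :
    Mᵀ = ((Nat.card G : ℂ)⁻¹ * ∑ s, ρ.character (s * s)) • M := by
  by_cases hM0 : M = 0
  · simp [hM0]
  have hT : IsInvForm ρ Mᵀ := fun s => by
    have := congrArg Matrix.transpose (hM s)
    rwa [Matrix.transpose_mul, Matrix.transpose_mul, Matrix.transpose_transpose, ← mul_assoc] at this
  choose c hc using fun i j : Fin d => hM.eq_smul hM0 (isInvForm_avg ρ (Matrix.single i j 1))
  ext x y
  conv_lhs => rw [← avgForm_of_inv hT]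
  rw [Matrix.smul_apply, smul_eq_mul, indicator_eq, avgForm_eq_sum, Finset.sum_comm, Finset.sum_mul]
  refine Finset.sum_congr rfl fun i _ => ?_
  rw [Finset.sum_mul]
  refine Finset.sum_congr rfl fun j _ => ?_
  rw [hc, Matrix.smul_apply, Matrix.smul_apply, smul_eq_mul, smul_eq_mul, Matrix.transpose_apply]
  ring

/-- A real irreducible character carries a nondegenerate invariant form. -/
theorem exists_form_of_real (ρ : Representation ℂ G (Fin d → ℂ)) [ρ.IsIrreducible]
    (hreal : ∀ g, (ρ.character g).im = 0) : ∃ N, IsInvForm ρ N ∧ IsUnit N.det ∧ N ≠ 0 := by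
  have := nontrivial_of_irreducible ρ
  suffices h : ∃ N, IsInvForm ρ N ∧ N ≠ 0 by
    obtain ⟨N, h1, h2⟩ := h
    exact ⟨N, h1, (Matrix.isUnit_iff_isUnit_det N).1
      (Matrix.mulVec_injective_iff_isUnit.1 (h1.injective h2)), h2⟩
  by_contra h
  push Not at h
  have h0 : (Nat.card G : ℂ)⁻¹ * ∑ s, ρ.character s * ρ.character s = 0 := by
    rw [sq_eq]; simp [fun X => h _ (isInvForm_avg ρ X)]
  have h1 := classInner_self_irr (isIrrCharacter_character ρ)
  rw [classInner_def, Finset.sum_congr rfl fun s _ => by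
    rw [Complex.conj_eq_iff_im.2 (hreal s)], h0] at h1
  exact zero_ne_one h1

lemma isUnit_det_matRep (ρ : Representation ℂ G (Fin d → ℂ)) (g : G) : IsUnit (matRep ρ g).det :=
  (Matrix.isUnit_iff_isUnit_det _).1 ((Group.isUnit g).map (matRep ρ))

lemma exists_det_ne_zero (S : Matrix (Fin d) (Fin d) ℂ) :
    ∃ a : ℂ, (a • (1 : Matrix (Fin d) (Fin d) ℂ) + conj a • S).det ≠ 0 := by
  let q : ℕ → ℂ := fun t => -(1 + (t : ℂ) * Complex.I) / (1 - (t : ℂ) * Complex.I)
  have hd : ∀ t : ℕ, (1 : ℂ) - (t : ℂ) * Complex.I ≠ 0 := fun t h => by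
    simpa using congrArg Complex.re h
  have hinj : Function.Injective q := fun s t h => by
    simp only [q, div_eq_div_iff (hd s) (hd t)] at h
    have h2 : (s : ℂ) * Complex.I = (t : ℂ) * Complex.I := by linear_combination (-1 / 2) * h
    exact_mod_cast mul_right_cancel₀ Complex.I_ne_zero h2
  obtain ⟨z, ⟨t, rfl⟩, hz⟩ := (Set.infinite_range_of_injective hinj).exists_notMem_finset
    S.charpoly.roots.toFinset
  refine ⟨1 + (t : ℂ) * Complex.I, fun h => hz ?_⟩
  rw [Multiset.mem_toFinset, Polynomial.mem_roots (S.charpoly_monic.ne_zero), Polynomial.IsRoot,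
    Matrix.eval_charpoly]
  have hc : conj (1 + (t : ℂ) * Complex.I) = 1 - (t : ℂ) * Complex.I := by simp [sub_eq_add_neg]
  rw [hc] at h
  have e : Matrix.scalar (Fin d) (q t) - S = (-(1 - (t : ℂ) * Complex.I)⁻¹) •
      ((1 + (t : ℂ) * Complex.I) • (1 : Matrix (Fin d) (Fin d) ℂ) + (1 - (t : ℂ) * Complex.I) • S) := by
    rw [Matrix.scalar_apply, ← Matrix.smul_one_eq_diagonal, smul_add, smul_smul, smul_smul,
      neg_mul, neg_mul, inv_mul_cancel₀ (hd t), neg_one_smul, ← sub_eq_add_neg]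
    congr 2
    simp only [q]
    ring
  rw [e, Matrix.det_smul, h, mul_zero]

/-- An irreducible character of indicator one is afforded by real matrices. -/
theorem exists_real_matrices (ρ : Representation ℂ G (Fin d → ℂ)) [ρ.IsIrreducible]
    (hν : (Nat.card G : ℂ)⁻¹ * ∑ s, ρ.character (s * s) = 1) :
    ∃ R : G →* Matrix (Fin d) (Fin d) ℝ, ∀ g, ((R g).trace : ℂ) = ρ.character g := by
  classical
  have := nontrivial_of_irreducible ρ
  haveI : Nonempty (Fin d) := by
    by_contra hcon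
    rw [not_nonempty_iff] at hcon
    exact not_subsingleton (Fin d → ℂ) inferInstance
  have hreal : ∀ g, (ρ.character g).im = 0 := by
    rcases indicator_irr (isIrrCharacter_character ρ) with ⟨-, h⟩ | ⟨h, -⟩
    · rw [hν] at h; exact absurd h one_ne_zero
    · exact h
  obtain ⟨N, hN, hNu, -⟩ := exists_form_of_real ρ hreal
  have hNsymm : Nᵀ = N := by rw [transpose_eq_indicator ρ hN, hν, one_smul]
  set A := matRep ρ
  let cj : Matrix (Fin d) (Fin d) ℂ →+* Matrix (Fin d) (Fin d) ℂ := (starRingEnd ℂ).mapMatrix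
  have hcc : ∀ X, cj (cj X) = X := fun X => Matrix.ext fun i j => Complex.conj_conj _
  have hcT : ∀ X, (cj X)ᵀ = Xᴴ := fun X => rfl
  have hA : ∀ g, IsUnit (A g).det := fun g => isUnit_det_matRep ρ g
  set H : Matrix (Fin d) (Fin d) ℂ := ∑ g, A g * (A g)ᴴ with hH
  have hHpos : H.PosDef := Matrix.posDef_sum Finset.univ_nonempty fun g _ =>
    Matrix.PosDef.mul_conjTranspose_self _ (Matrix.vecMul_injective_iff_isUnit.2
      ((Matrix.isUnit_iff_isUnit_det _).2 (hA g)))
  have hHinv : ∀ g, A g * H * (A g)ᴴ = H := fun g => by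
    rw [hH, Finset.mul_sum, Finset.sum_mul]
    refine Fintype.sum_equiv (Equiv.mulLeft g) _ _ fun h => ?_
    rw [Equiv.coe_mulLeft, map_mul, Matrix.conjTranspose_mul]
    simp only [mul_assoc]
  set K := Hᵀ with hK
  have hKu : IsUnit K.det := (Matrix.isUnit_iff_isUnit_det _).1 hHpos.transpose.isUnit
  have hKinv : ∀ g, cj (A g) * K * (A g)ᵀ = K := fun g => by
    conv_rhs => rw [hK, ← hHinv g]
    rw [Matrix.transpose_mul, Matrix.transpose_mul, ← mul_assoc, hK]
    rfl
  set S₀ := N * K⁻¹ with hS₀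
  have hAS : ∀ g, A g * S₀ = S₀ * cj (A g) := fun g => by
    have hAt : IsUnit (A g)ᵀ.det := by rw [Matrix.det_transpose]; exact hA g
    have h1 : A g * N = N * ((A g)ᵀ)⁻¹ := by
      conv_rhs => rw [← hN g]
      rw [mul_assoc, Matrix.mul_nonsing_inv _ hAt, mul_one]
    have h2 : cj (A g) = K * ((A g)ᵀ)⁻¹ * K⁻¹ := by
      calc cj (A g) = cj (A g) * K * (A g)ᵀ * (((A g)ᵀ)⁻¹ * K⁻¹) := by
            rw [mul_assoc, ← mul_assoc ((A g)ᵀ), Matrix.mul_nonsing_inv _ hAt, one_mul, mul_assoc,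
              Matrix.mul_nonsing_inv _ hKu, mul_one]
        _ = _ := by rw [hKinv g, mul_assoc]
    rw [hS₀, ← mul_assoc, h1, h2, ← mul_assoc, ← mul_assoc, mul_assoc N K⁻¹ K,
      Matrix.nonsing_inv_mul _ hKu, mul_one]
  obtain ⟨c, hc⟩ := mat_schur ρ (T := S₀ * cj S₀) fun g => by
    show A g * _ = _ * A g
    rw [← mul_assoc, hAS, mul_assoc S₀ (cj (A g)), ← map_mul cj, hAS, map_mul cj, hcc, ← mul_assoc]
  have hcK : cj K = H := by
    rw [hK, show cj Hᵀ = Hᴴ from rfl, hHpos.isHermitian.eq]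
  have hcH : N * K⁻¹ * Nᴴ = c • H := by
    have h3 : cj K⁻¹ * H = 1 := by rw [← hcK, ← map_mul, Matrix.nonsing_inv_mul _ hKu, map_one]
    have h4 : cj N = Nᴴ := (congrArg cj hNsymm.symm).trans rfl
    calc N * K⁻¹ * Nᴴ = S₀ * (cj N * (cj K⁻¹ * H)) := by rw [h3, mul_one, h4]
      _ = S₀ * cj S₀ * H := by rw [hS₀, map_mul, mul_assoc (N * K⁻¹), mul_assoc (cj N)]
      _ = c • H := by rw [hc, Matrix.smul_mul, one_mul]
  obtain ⟨r, hr, rfl⟩ : ∃ r : ℝ, 0 < r ∧ c = r := by
    have hpos : (N * K⁻¹ * Nᴴ).PosDef := hHpos.transpose.inv.mul_mul_conjTranspose_same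
      (Matrix.vecMul_injective_iff_isUnit.2 ((Matrix.isUnit_iff_isUnit_det _).2 hNu))
    obtain ⟨i⟩ := (inferInstance : Nonempty (Fin d))
    have h1 := hpos.diag_pos (i := i)
    rw [hcH, Matrix.smul_apply, smul_eq_mul] at h1
    obtain ⟨ha, ha'⟩ := Complex.pos_iff.1 h1
    obtain ⟨hb, hb'⟩ := Complex.pos_iff.1 (hHpos.diag_pos (i := i))
    have him : c.im = 0 := by
      have h2 : c.re * (H i i).im + c.im * (H i i).re = 0 := by rw [← Complex.mul_im]; exact ha'.symm
      rw [← hb', mul_zero, zero_add] at h2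
      exact (mul_eq_zero.1 h2).resolve_right hb.ne'
    refine ⟨c.re, ?_, Complex.ext rfl (by simpa using him)⟩
    rw [Complex.mul_re, him, zero_mul, sub_zero] at ha
    exact (pos_iff_pos_of_mul_pos ha).2 hb
  set S : Matrix (Fin d) (Fin d) ℂ := ((Real.sqrt r)⁻¹ : ℂ) • S₀ with hS
  have hcjsmul : ∀ (a : ℂ) X, cj (a • X) = conj a • cj X := fun a X =>
    Matrix.ext fun i j => map_mul (starRingEnd ℂ) a (X i j)
  have hS1 : S * cj S = 1 := by
    have hsq : ((Real.sqrt r : ℂ))⁻¹ * ((Real.sqrt r : ℂ))⁻¹ * (r : ℂ) = 1 := by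
      rw [← mul_inv, ← Complex.ofReal_mul, Real.mul_self_sqrt hr.le,
        inv_mul_cancel₀ (Complex.ofReal_ne_zero.2 hr.ne')]
    rw [hS, hcjsmul, map_inv₀, Complex.conj_ofReal, Matrix.smul_mul, Matrix.mul_smul, hc, smul_smul,
      smul_smul, hsq, one_smul]
  have hAS' : ∀ g, A g * S = S * cj (A g) := fun g => by
    rw [hS, Matrix.mul_smul, hAS, Matrix.smul_mul]
  obtain ⟨a, ha⟩ := exists_det_ne_zero S
  set P : Matrix (Fin d) (Fin d) ℂ := a • (1 : Matrix (Fin d) (Fin d) ℂ) + conj a • S with hP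
  have hPu : IsUnit P.det := isUnit_iff_ne_zero.2 ha
  have hSP : S * cj P = P := by
    rw [hP, map_add, hcjsmul, hcjsmul, map_one, Complex.conj_conj, mul_add, Matrix.mul_smul,
      Matrix.mul_smul, mul_one, hS1, add_comm]
  let X : G → Matrix (Fin d) (Fin d) ℂ := fun g => P⁻¹ * A g * P
  have hPX : ∀ g, P * X g = A g * P := fun g => by
    simp only [X]
    rw [← mul_assoc, ← mul_assoc, Matrix.mul_nonsing_inv _ hPu, one_mul]
  have hXreal : ∀ g, cj (X g) = X g := fun g => by
    have h1 : P * cj (X g) = P * X g := by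
      rw [hPX]
      calc P * cj (X g) = S * cj P * cj (X g) := by rw [hSP]
        _ = S * cj (P * X g) := by rw [mul_assoc, ← map_mul cj P (X g)]
        _ = A g * P := by rw [hPX, map_mul, ← mul_assoc, ← hAS', mul_assoc, hSP]
    have := congrArg (P⁻¹ * ·) h1
    simpa [← mul_assoc, Matrix.nonsing_inv_mul _ hPu] using this
  let e : Matrix (Fin d) (Fin d) ℝ →+* Matrix (Fin d) (Fin d) ℂ := Complex.ofRealHom.mapMatrix
  have he : Function.Injective e := fun U V h => Matrix.ext fun i j =>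
    Complex.ofReal_injective (congrFun (congrFun h i) j)
  have hXe : ∀ g, e ((X g).map Complex.re) = X g := fun g => Matrix.ext fun i j =>
    Complex.conj_eq_iff_re.1 (congrFun (congrFun (hXreal g) i) j)
  refine ⟨{ toFun := fun g => (X g).map Complex.re
            map_one' := he (by rw [hXe, map_one]; simp [X, Matrix.nonsing_inv_mul _ hPu])
            map_mul' := fun g h => he (by
              rw [map_mul, hXe, hXe, hXe]
              simp only [X]
              rw [show P⁻¹ * A g * P * (P⁻¹ * A h * P) = P⁻¹ * A g * (P * P⁻¹) * A h * P by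
                simp only [mul_assoc], Matrix.mul_nonsing_inv _ hPu, mul_one, map_mul, ← mul_assoc]) },
    fun g => ?_⟩
  have h1 : (((X g).map Complex.re).trace : ℂ) = (e ((X g).map Complex.re)).trace := by
    simp [Matrix.trace, e]
  show (((X g).map Complex.re).trace : ℂ) = _
  rw [h1, hXe, character_matRep, Matrix.trace_mul_cycle, Matrix.mul_nonsing_inv _ hPu, one_mul]

/-- Conversely, a real representation with irreducible character has indicator one. -/
theorem indicator_eq_one_of_real {χ : G → ℂ} (hχ : Cfsg.IsIrrCharacter G χ)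
    (R : G →* Matrix (Fin d) (Fin d) ℝ) (hR : ∀ g, ((R g).trace : ℂ) = χ g) :
    (Nat.card G : ℂ)⁻¹ * ∑ s, χ (s * s) = 1 := by
  classical
  obtain ⟨m, ρ, hρ, hρχ⟩ := hχ
  let σ : Representation ℂ G (Fin d → ℂ) :=
    ((Matrix.toLinAlgEquiv' (R := ℂ) (n := Fin d)).toAlgHom.toMonoidHom).comp
      ((Complex.ofRealHom.mapMatrix : Matrix (Fin d) (Fin d) ℝ →+* Matrix (Fin d) (Fin d) ℂ).toMonoidHom.comp R)
  have hmat : ∀ g, matRep σ g = (R g).map Complex.ofReal := fun g => by
    show LinearMap.toMatrixAlgEquiv' (Matrix.toLinAlgEquiv' _) = _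
    exact LinearMap.toMatrixAlgEquiv'_toLinAlgEquiv' _
  have hσχ : σ.character = χ := funext fun g => by
    rw [character_matRep, hmat, ← hR g]
    simp [Matrix.trace]
  obtain ⟨e⟩ := nonempty_equiv_of_character_eq _ _ ρ σ (hρχ.trans hσχ.symm)
  haveI := isIrreducible_of_equiv e
  haveI := nontrivial_of_irreducible σ
  set M₀ : Matrix (Fin d) (Fin d) ℝ := ∑ g, R g * (R g)ᵀ with hM₀
  have hM : IsInvForm σ (M₀.map Complex.ofReal) := fun s => by
    rw [hmat, ← Matrix.transpose_map]
    show Complex.ofRealHom.mapMatrix (R s) * Complex.ofRealHom.mapMatrix M₀ *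
      Complex.ofRealHom.mapMatrix (R s)ᵀ = Complex.ofRealHom.mapMatrix M₀
    rw [← map_mul, ← map_mul]
    congr 1
    rw [hM₀, Finset.mul_sum, Finset.sum_mul]
    refine Fintype.sum_equiv (Equiv.mulLeft s) _ _ fun h => ?_
    rw [Equiv.coe_mulLeft, map_mul, Matrix.transpose_mul]
    simp only [mul_assoc]
  have hsymm : M₀ᵀ = M₀ := by simp [hM₀, Matrix.transpose_sum]
  have h1 := transpose_eq_indicator σ hM
  rw [← Matrix.transpose_map, hsymm, hσχ] at h1
  obtain ⟨i⟩ : Nonempty (Fin d) := by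
    by_contra hcon
    rw [not_nonempty_iff] at hcon
    exact not_subsingleton (Fin d → ℂ) inferInstance
  have hpos : 0 < M₀ i i := by
    rw [hM₀, Matrix.sum_apply]
    refine Finset.sum_pos' (fun g _ => ?_) ⟨1, Finset.mem_univ _, by simp⟩
    rw [Matrix.mul_apply]
    exact Finset.sum_nonneg fun j _ => mul_self_nonneg _
  have h2 := congrFun (congrFun h1 i) i
  simp only [Matrix.map_apply, Matrix.smul_apply, smul_eq_mul] at h2
  exact mul_right_cancel₀ (Complex.ofReal_ne_zero.2 hpos.ne') (h2.symm.trans (one_mul _).symm)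

/-- Induction preserves indicator one. -/
theorem indicator_indFun_eq_one (I : Subgroup G) [Fintype I] {θ : I → ℂ}
    (hθ : Cfsg.IsIrrCharacter I θ) (hν : (Nat.card I : ℂ)⁻¹ * ∑ s, θ (s * s) = 1)
    (hirr : Cfsg.IsIrrCharacter G (Cfsg.indFun I θ)) :
    (Nat.card G : ℂ)⁻¹ * ∑ s, Cfsg.indFun I θ (s * s) = 1 := by
  classical
  have hcl := isClassFunction_isChar (isCharacter_of_irr hθ)
  obtain ⟨k, ρ, hρ, rfl⟩ := hθ
  haveI := hρ
  obtain ⟨R, hR⟩ := exists_real_matrices ρ hν
  let R₀ : G → Matrix (Fin k) (Fin k) ℝ := fun g => if h : g ∈ I then R ⟨g, h⟩ else 0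
  haveI := Fintype.ofFinite (G ⧸ I)
  have hmk : ∀ (g : G) (c b : G ⧸ I), c.out⁻¹ * g * b.out ∈ I ↔ c = g • b := by
    intro g c b
    conv_rhs => rw [← QuotientGroup.out_eq' c, ← QuotientGroup.out_eq' b]
    rw [MulAction.Quotient.smul_mk, QuotientGroup.eq, smul_eq_mul, mul_assoc]
  let T : G →* Matrix ((G ⧸ I) × Fin k) ((G ⧸ I) × Fin k) ℝ :=
    { toFun := fun g => Matrix.of fun a b => R₀ (a.1.out⁻¹ * g * b.1.out) a.2 b.2
      map_one' := by
        ext ⟨a, i⟩ ⟨b, j⟩
        simp only [Matrix.of_apply]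
        by_cases h : a = b
        · subst h
          rw [mul_one, inv_mul_cancel, show R₀ 1 = 1 by
            simp only [R₀]; rw [dif_pos I.one_mem]; exact map_one R]
          simp [Matrix.one_apply, Prod.ext_iff]
        · rw [show R₀ (a.out⁻¹ * 1 * b.out) = 0 by
            simp only [R₀]; rw [dif_neg]; rw [hmk, one_smul]; exact h]
          simp [Matrix.one_apply, Prod.ext_iff, h]
      map_mul' := fun g h => by
        ext ⟨a, i⟩ ⟨b, j⟩
        simp only [Matrix.mul_apply, Matrix.of_apply, Fintype.sum_prod_type]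
        rw [Finset.sum_eq_single (h • b) ?_ (by simp)]
        · have hin : (h • b).out⁻¹ * h * b.out ∈ I := (hmk h _ b).2 rfl
          rw [← Matrix.mul_apply]
          congr 2
          by_cases hin2 : a.out⁻¹ * g * (h • b).out ∈ I
          · have he : a.out⁻¹ * (g * h) * b.out =
              (a.out⁻¹ * g * (h • b).out) * ((h • b).out⁻¹ * h * b.out) := by group
            simp only [R₀]
            rw [dif_pos hin2, dif_pos hin, ← map_mul, dif_pos (show a.out⁻¹ * (g * h) * b.out ∈ I by rw [he]; exact mul_mem hin2 hin)]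
            exact Eq.symm (congrFun (congrFun (congrArg R (show (⟨_, hin2⟩ : I) * ⟨_, hin⟩ = ⟨a.out⁻¹ * (g * h) * b.out, he ▸ mul_mem hin2 hin⟩ from Subtype.ext he.symm)) i) j)
          · simp only [R₀]
            rw [dif_neg hin2, zero_mul, dif_neg]
            rw [hmk] at hin2 ⊢
            rwa [mul_smul]
        · intro c _ hc
          refine Finset.sum_eq_zero fun l _ => ?_
          rw [show R₀ (c.out⁻¹ * h * b.out) = 0 by
            simp only [R₀]; rw [dif_neg]; rwa [hmk], Matrix.zero_apply, mul_zero] }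
  let e := Fintype.equivFin ((G ⧸ I) × Fin k)
  refine indicator_eq_one_of_real hirr ((Matrix.reindexAlgEquiv ℝ ℝ e).toAlgHom.toMonoidHom.comp T) fun g => ?_
  show (((Matrix.reindex e e) (T g)).trace : ℂ) = _
  rw [show ((Matrix.reindex e e) (T g)).trace = (T g).trace from Fintype.sum_equiv e.symm _ _ fun _ => rfl]
  rw [indFun_apply, ← Finset.sum_fiberwise_of_maps_to (g := fun x : G => (x : G ⧸ I)) (fun x _ => Finset.mem_univ _)]
  have hext : ∀ y : G, ((R₀ y).trace : ℂ) = Cfsg.extendByZero I ρ.character y := fun y => by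
    by_cases hy : y ∈ I
    · simp only [R₀]; rw [dif_pos hy, extendByZero_mem _ hy, hR]
    · simp only [R₀]; rw [dif_neg hy, extendByZero_not_mem _ hy]; simp
  have hconst : ∀ (b : G ⧸ I) (x : G), (x : G ⧸ I) = b →
      Cfsg.extendByZero I ρ.character (x⁻¹ * g * x) = ((R₀ (b.out⁻¹ * g * b.out)).trace : ℂ) := by
    intro b x hx
    have hi : b.out⁻¹ * x ∈ I := QuotientGroup.eq.1 ((QuotientGroup.out_eq' b).trans hx.symm)
    have hconj : x⁻¹ * g * x = (b.out⁻¹ * x)⁻¹ * (b.out⁻¹ * g * b.out) * (b.out⁻¹ * x) := by group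
    rw [hext, hconj]
    by_cases hy : b.out⁻¹ * g * b.out ∈ I
    · rw [extendByZero_mem _ (mul_mem (mul_mem (inv_mem hi) hy) hi), extendByZero_mem _ hy]
      exact classFunction_eq_of_isConj hcl
        (isConj_iff.2 ⟨⟨_, hi⟩, Subtype.ext (by simp [mul_assoc])⟩)
    · rw [extendByZero_not_mem _ hy, extendByZero_not_mem]
      intro hmem
      exact hy (by simpa [mul_assoc] using mul_mem (mul_mem hi hmem) (inv_mem hi))
  rw [Finset.sum_congr rfl fun b _ => Finset.sum_congr rfl fun x hx => hconst b x (Finset.mem_filter.1 hx).2]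
  have hfib : ∀ b : G ⧸ I, (Finset.univ.filter fun x : G => (x : G ⧸ I) = b).card = Nat.card I := by
    intro b
    rw [← Fintype.card_subtype, ← Nat.card_eq_fintype_card]
    exact Nat.card_congr
      { toFun := fun x => ⟨b.out⁻¹ * x.1, QuotientGroup.eq.1 ((QuotientGroup.out_eq' b).trans x.2.symm)⟩
        invFun := fun i => ⟨b.out * i.1, by
          conv_rhs => rw [← QuotientGroup.out_eq' b]
          rw [QuotientGroup.eq]; simp⟩
        left_inv := fun x => Subtype.ext (by simp)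
        right_inv := fun i => Subtype.ext (by simp) }
  simp only [Finset.sum_const, hfib, nsmul_eq_mul, ← Finset.mul_sum]
  rw [inv_mul_cancel_left₀ (by exact_mod_cast Nat.card_pos.ne'), ← Complex.ofReal_sum]
  congr 1
  simp [Matrix.trace, T, Fintype.sum_prod_type]

end Cfsg.Lib.Blocks
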