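import Mathlib
import Cfsg.Agent.Blocks.PrincipalColumn
import Cfsg.Agent.Blocks.Regular
import Cfsg.Agent.Blocks.Orth2
import Cfsg.Agent.Chars.Indicator

/-!
# Real characters of a principal block for an odd prime

The indicators of the real members, weighted by their sums over the regular elements, cancel. So
the non-principal real members are not all Galois conjugates of one of them.
-/

set_option autoImplicit false
set_option linter.unusedSectionVars false
set_option linter.style.haveILetI false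

namespace Cfsg.Lib.Blocks.RealPair

open Cfsg.Lib.Chars Cfsg.Lib.Blocks
open scoped ComplexConjugate

universe u

variable {G : Type u} [Group G] [Fintype G] {M : Ideal AlgInt} {p : ℕ} [hp : Fact p.Prime]

/-- Squaring preserves singularity for an odd prime. -/
lemma dvd_orderOf_sq (hp2 : p ≠ 2) (g : G) : p ∣ orderOf (g * g) ↔ p ∣ orderOf g := by
  rw [← pow_two]
  refine ⟨fun h => h.trans (orderOf_pow_dvd 2), fun h => ?_⟩
  by_contra hc
  have h3 : orderOf g ∣ orderOf (g ^ 2) * 2 :=
    orderOf_dvd_of_pow_eq_one (by rw [mul_comm, pow_mul, pow_orderOf_eq_one])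
  rcases (hp.out.dvd_mul).1 (h.trans h3) with h4 | h4
  · exact hc h4
  · exact hp2 ((Nat.prime_dvd_prime_iff_eq hp.out Nat.prime_two).1 h4)

/-- There are two real non-principal members which are not Galois conjugate. -/
theorem second_real (hM : IsPModular p M) (hp2 : p ≠ 2) (α : IrrCharacter G)
    (hα : α ∈ principalBlock M G) (hα1 : ¬ ((α : G → ℂ) = fun _ => (1 : ℂ)))
    (hαr : ∀ g : G, ((α : G → ℂ) g).im = 0) :
    ∃ β : IrrCharacter G, β ∈ principalBlock M G ∧ ¬ ((β : G → ℂ) = fun _ => (1 : ℂ)) ∧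
      (∀ g : G, ((β : G → ℂ) g).im = 0) ∧ β ≠ α ∧
      ∀ σ : ℂ ≃+* ℂ, (β : G → ℂ) ≠ (σ : ℂ → ℂ) ∘ (α : G → ℂ) := by
  classical
  by_contra hc
  push Not at hc
  -- the sums over the regular elements
  obtain ⟨W, hW⟩ : ∃ W : IrrCharacter G → ℂ,
      ∀ χ, W χ = conj (∑ g : G, if p ∣ orderOf g then 0 else (χ : G → ℂ) g) := ⟨_, fun χ => rfl⟩
  obtain ⟨ν, hν⟩ : ∃ ν : IrrCharacter G → ℂ,
      ∀ χ, ν χ = (Nat.card G : ℂ)⁻¹ * ∑ s, (χ : G → ℂ) (s * s) := ⟨_, fun χ => rfl⟩
  have hG : (Nat.card G : ℂ) ≠ 0 := Nat.cast_ne_zero.2 Nat.card_pos.ne'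
  set R : G → ℂ := fun g => if p ∣ orderOf g then 0 else 1 with hR
  have hRcf : IsClassFunction G R := fun g h => by
    simp only [hR, show h * g * h⁻¹ = MulAut.conj h g by simp, MulEquiv.orderOf_eq]
  have hcoef : ∀ χ : IrrCharacter G, classInner R (χ : G → ℂ) = (Nat.card G : ℂ)⁻¹ * W χ := by
    intro χ
    rw [classInner_def, hW, map_sum]
    congr 1
    refine Finset.sum_congr rfl fun g _ => ?_
    by_cases hg : p ∣ orderOf g <;> simp [hR, hg]
  -- summing the expansion at the squares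
  have hsum : (Nat.card G : ℂ)⁻¹ * W (principal G) =
      ∑ χ : IrrCharacter G, (Nat.card G : ℂ)⁻¹ * W χ * ν χ := by
    have h1 : (Nat.card G : ℂ)⁻¹ * W (principal G) = (Nat.card G : ℂ)⁻¹ * ∑ s, R (s * s) := by
      rw [← hcoef, classInner_def]
      congr 1
      refine Finset.sum_congr rfl fun g _ => ?_
      simp only [hR, dvd_orderOf_sq hp2]
      rw [show (principal G : G → ℂ) g = 1 from rfl, map_one, mul_one]
    rw [h1]
    simp only [classFunction_expand_apply hRcf, hcoef, Finset.mul_sum, hν]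
    rw [Finset.sum_comm]
    refine Finset.sum_congr rfl fun χ _ => Finset.sum_congr rfl fun s _ => ?_
    ring
  have hν1 : ν (principal G) = 1 := by
    rw [hν]
    simp [show ∀ g : G, (principal G : G → ℂ) g = 1 from fun g => rfl, hG]
  rw [← Finset.add_sum_erase _ _ (Finset.mem_univ (principal G)), hν1, mul_one,
    left_eq_add] at hsum
  -- all non-zero terms agree with the term of `α`
  have hαne : α ≠ principal G := fun h => hα1 (by rw [h]; rfl)
  have hWα : W α ≠ 0 := by
    rw [hW, Ne, map_eq_zero]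
    exact (mem_principal_iff_sum hM α).1 hα
  have hνα : ν α = 1 ∨ ν α = -1 := by
    rw [hν]
    rcases indicator_irr α.2 with ⟨⟨s, hs⟩, -⟩ | ⟨-, h | h⟩
    · exact absurd (hαr s) hs
    · exact Or.inl h
    · exact Or.inr h.1
  set S : Finset (IrrCharacter G) := Finset.univ.filter fun χ =>
    χ ∈ principalBlock M G ∧ χ ≠ principal G ∧ ∀ g : G, ((χ : G → ℂ) g).im = 0 with hS
  have hzero : ∀ χ ∈ (Finset.univ : Finset (IrrCharacter G)).erase (principal G), χ ∉ S →
      (Nat.card G : ℂ)⁻¹ * W χ * ν χ = 0 := by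
    intro χ hχ hχS
    by_cases hB : χ ∈ principalBlock M G
    · have hnr : ¬ ∀ g : G, ((χ : G → ℂ) g).im = 0 := fun h =>
        hχS (Finset.mem_filter.2 ⟨Finset.mem_univ _, hB, (Finset.mem_erase.1 hχ).1, h⟩)
      have h0 : ν χ = 0 := by
        rw [hν]
        rcases indicator_irr χ.2 with ⟨-, h⟩ | ⟨h, -⟩
        · exact h
        · exact absurd h hnr
      rw [h0, mul_zero]
    · have h0 : W χ = 0 := by
        rw [hW, map_eq_zero]
        by_contra h
        exact hB ((mem_principal_iff_sum hM χ).2 h)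
      rw [h0, mul_zero, zero_mul]
  have hterm : ∀ χ ∈ S, (Nat.card G : ℂ)⁻¹ * W χ * ν χ = (Nat.card G : ℂ)⁻¹ * W α * ν α := by
    intro χ hχ
    obtain ⟨-, hB, hne, hr⟩ := Finset.mem_filter.1 hχ
    by_cases he : χ = α
    · rw [he]
    obtain ⟨σ, hσ⟩ := hc χ hB (fun h => hne (Subtype.ext h)) hr he
    have hval : ∀ g, (χ : G → ℂ) g = σ ((α : G → ℂ) g) := fun g => congrFun hσ g
    have hWr : ∀ ξ : IrrCharacter G, (∀ g : G, ((ξ : G → ℂ) g).im = 0) →
        W ξ = ∑ g : G, if p ∣ orderOf g then 0 else (ξ : G → ℂ) g := fun ξ hξ => by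
      rw [hW, map_sum]
      refine Finset.sum_congr rfl fun g _ => ?_
      by_cases hg : p ∣ orderOf g <;> simp [hg, Complex.conj_eq_iff_im.2 (hξ g)]
    have hWq : ∃ c : ℚ, W α = (c : ℂ) := by
      obtain ⟨z, hz⟩ := IsGeneralizedCharacter.exists_mult (isGeneralized_regular hp.out) α.2
      refine ⟨(Nat.card G : ℚ) * z / (p : ℚ) ^ (Nat.card G).factorization p, ?_⟩
      have hq : (p : ℂ) ^ (Nat.card G).factorization p ≠ 0 :=
        pow_ne_zero _ (Nat.cast_ne_zero.2 hp.out.ne_zero)
      have h1 : classInner (regularFun p) (α : G → ℂ) =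
          (p : ℂ) ^ (Nat.card G).factorization p * ((Nat.card G : ℂ)⁻¹ * W α) := by
        rw [← hcoef, ← classInner_smul_left]
        congr 1
        funext g
        rw [regularFun_apply, Pi.smul_apply, smul_eq_mul]
        by_cases hg : p ∣ orderOf g <;> simp [hR, hg]
      rw [hz] at h1
      push_cast
      rw [h1]
      field_simp
    have hWχ : W χ = W α := by
      obtain ⟨c, hcq⟩ := hWq
      rw [hWr χ hr]
      have h2 : (∑ g : G, if p ∣ orderOf g then 0 else (χ : G → ℂ) g) =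
          σ (∑ g : G, if p ∣ orderOf g then 0 else (α : G → ℂ) g) := by
        rw [map_sum]
        refine Finset.sum_congr rfl fun g _ => ?_
        by_cases hg : p ∣ orderOf g <;> simp [hg, hval]
      rw [h2, ← hWr α hαr, hcq, map_ratCast]
    have hνχ : ν χ = ν α := by
      rw [hν χ, Finset.sum_congr rfl fun s _ => hval (s * s), ← map_sum]
      have h3 : ∑ s, (α : G → ℂ) (s * s) = (Nat.card G : ℂ) * ν α := by
        rw [hν, mul_inv_cancel_left₀ hG]
      rw [h3, map_mul, map_natCast, inv_mul_cancel_left₀ hG]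
      rcases hνα with h | h <;> rw [h] <;> simp
    rw [hWχ, hνχ]
  rw [← Finset.sum_subset (s₁ := S) (fun χ hχ => Finset.mem_erase.2
    ⟨(Finset.mem_filter.1 hχ).2.2.1, Finset.mem_univ _⟩) hzero, Finset.sum_congr rfl hterm,
    Finset.sum_const, nsmul_eq_mul, eq_comm] at hsum
  have hαS : α ∈ S := Finset.mem_filter.2 ⟨Finset.mem_univ _, hα, hαne, hαr⟩
  have hne : (Nat.card G : ℂ)⁻¹ * W α * ν α ≠ 0 :=
    mul_ne_zero (mul_ne_zero (inv_ne_zero hG) hWα) (by rcases hνα with h | h <;> rw [h] <;> norm_num)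
  rcases mul_eq_zero.1 hsum.symm with h | h
  · exact (Finset.card_pos.2 ⟨α, hαS⟩).ne' (Nat.cast_eq_zero.1 h)
  · exact hne h

end Cfsg.Lib.Blocks.RealPair
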