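/-
The regular-part weights of the principal block on the linear characters of a Sylow subgroup.

The class function `p^a · 1_{G_{p'}}` is an integral combination of the principal block whose
restriction to a Sylow `p`-subgroup is the regular character, so every linear character of the
Sylow subgroup occurs with total weight one; modulo `p` only the Galois fixed characters of degree
prime to `p` contribute.
-/
import Cfsg.Agent.Blocks.PrincipalColumn
import Cfsg.Agent.Blocks.Defect
import Cfsg.Agent.Transfer.Tate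
import Cfsg.Agent.SolvStruct.SplitResidual
import Cfsg.Agent.Blocks.PResidualChars
import Cfsg.Agent.OddChar.Dual
import Cfsg.Agent.Chars.Galois
import Cfsg.Agent.InvolutionCount.Basic
import Cfsg.Agent.Chars.Gallagher
import Mathlib

set_option autoImplicit false
set_option linter.unusedSectionVars false

namespace Cfsg.Lib.RegularWeight

open Cfsg Cfsg.Lib.Chars Cfsg.Lib.Blocks
open scoped ComplexConjugate

universe u

variable {G : Type u} [Group G] [Fintype G] {p : ℕ} [hp : Fact p.Prime] {M : Ideal AlgInt}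

/-- A `p`-power order permutation: an invariant function with nonzero sum modulo `p` is nonzero at
some fixed point. -/
lemma exists_fixed {α : Type*} [Fintype α] [DecidableEq α] (e : Equiv.Perm α) {m : ℕ}
    (he : e ^ p ^ m = 1) (f : α → ZMod p) (hf : ∀ x, f (e x) = f x) (h : ∑ x, f x ≠ 0) :
    ∃ x, e x = x ∧ f x ≠ 0 := by
  classical
  by_contra hc
  push Not at hc
  refine h ?_
  rw [← Finset.sum_fiberwise Finset.univ f f]
  refine Finset.sum_eq_zero fun c _ => ?_
  rw [Finset.sum_congr rfl (g := fun _ => c) (fun x hx => (Finset.mem_filter.1 hx).2),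
    Finset.sum_const, nsmul_eq_mul]
  by_cases hc0 : c = 0
  · rw [hc0, mul_zero]
  refine mul_eq_zero_of_left ?_ _
  let q : α → Prop := fun x => f x = c
  let τ : Equiv.Perm {x // q x} := e.subtypePerm (fun x => by simp only [q, hf x])
  have hτ : τ ^ p ^ m = 1 := by
    rw [show τ ^ p ^ m = (e ^ p ^ m).subtypePerm (fun x => by simp only [q, he]; rfl) from
      Equiv.Perm.subtypePerm_pow _ _ _]
    exact Equiv.ext fun x => Subtype.ext (by simp [Equiv.Perm.subtypePerm_apply, he])
  have hmod := Equiv.Perm.card_compl_support_modEq hτ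
  have hempty : τ.supportᶜ = ∅ := by
    refine Finset.eq_empty_iff_forall_notMem.2 fun x hx => ?_
    rw [Finset.mem_compl, Equiv.Perm.mem_support, not_not] at hx
    exact hc0 (x.2.symm.trans (hc x.1 (congrArg Subtype.val hx)))
  rw [hempty, Finset.card_empty, Fintype.card_subtype] at hmod
  exact (ZMod.natCast_eq_zero_iff _ _).2 (Nat.modEq_zero_iff_dvd.1 hmod.symm)

/-- Iterating the exponent `k`, a power of `p` many times, gives the identity. -/
lemma pow_iterate_eq_self {k : ℕ}
    (hk₁ : ∀ g : G, (∃ j : ℕ, orderOf g = p ^ j) → g ^ k = g ^ (1 + p))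
    (hk₂ : ∀ g : G, Nat.Coprime (orderOf g) p → g ^ k = g) (g : G) :
    g ^ k ^ p ^ (Nat.card G).factorization p = g := by
  set a := (Nat.card G).factorization p
  -- the p-part and the p'-part of g
  obtain ⟨j, n', hn', hord⟩ := Nat.exists_eq_pow_mul_and_not_dvd (orderOf_pos g).ne' p hp.out.ne_one
  have hcop : Nat.Coprime (p ^ j) n' := Nat.Coprime.pow_left j (hp.out.coprime_iff_not_dvd.2 hn')
  have hja : j ≤ a := (hp.out.pow_dvd_iff_le_factorization Nat.card_pos.ne').1
    ((Dvd.intro n' hord.symm).trans (orderOf_dvd_natCard g))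
  -- k acts as 1+p modulo p^j and as 1 modulo n'
  have e1 : k ≡ 1 + p [MOD p ^ j] := by
    have hx : orderOf (g ^ n') = p ^ j := by
      rw [orderOf_pow, hord, Nat.gcd_mul_left_left, Nat.mul_div_cancel _
        (Nat.pos_of_ne_zero fun h => hn' (by rw [h]; exact dvd_zero p))]
    exact hx ▸ pow_eq_pow_iff_modEq.1 (hk₁ _ ⟨j, hx⟩)
  have e2 : k ≡ 1 [MOD n'] := by
    have hy : orderOf (g ^ p ^ j) = n' := by
      rw [orderOf_pow, hord, Nat.gcd_mul_right_left, Nat.mul_div_cancel_left _
        (pow_pos hp.out.pos j)]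
    refine hy ▸ pow_eq_pow_iff_modEq.1 ((hk₂ _ ?_).trans (pow_one _).symm)
    rw [hy]
    exact (hp.out.coprime_iff_not_dvd.2 hn').symm
  have h1p : (1 + p) ^ p ^ a ≡ 1 [MOD p ^ j] := by
    have h : ((p : ℤ)) ∣ ((1 + p : ℕ) : ℤ) - 1 := ⟨1, by push_cast; ring⟩
    have h2 := dvd_sub_pow_of_dvd_sub h a
    rw [one_pow] at h2
    have h3 : ((p ^ j : ℕ) : ℤ) ∣ ((1 + p : ℕ) : ℤ) ^ p ^ a - 1 := by
      push_cast at h2 ⊢
      exact (pow_dvd_pow _ (hja.trans (Nat.le_succ a))).trans h2
    refine (Nat.modEq_iff_dvd.2 ?_).symm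
    push_cast at h3 ⊢
    exact h3
  have hK : k ^ p ^ a ≡ 1 [MOD orderOf g] := by
    rw [hord]
    exact (Nat.modEq_and_modEq_iff_modEq_mul hcop).1
      ⟨(e1.pow _).trans h1p, (e2.pow _).trans (by rw [one_pow])⟩
  exact (pow_eq_pow_iff_modEq.2 hK).trans (pow_one g)

/-- The exponent is prime to the order of the group. -/
lemma coprime_card {k : ℕ}
    (hk₁ : ∀ g : G, (∃ j : ℕ, orderOf g = p ^ j) → g ^ k = g ^ (1 + p))
    (hk₂ : ∀ g : G, Nat.Coprime (orderOf g) p → g ^ k = g) :
    k.Coprime (Nat.card G) := by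
  refine Nat.coprime_of_dvd fun q hq hqk hqn => ?_
  haveI := Fact.mk hq
  obtain ⟨g, hg⟩ := exists_prime_orderOf_dvd_card' (G := G) q hqn
  have h1 : g ^ k = 1 := orderOf_dvd_iff_pow_eq_one.1 (hg ▸ hqk)
  have h := pow_iterate_eq_self hk₁ hk₂ g
  obtain ⟨c, hc⟩ : k ∣ k ^ p ^ (Nat.card G).factorization p := dvd_pow_self k (pow_ne_zero _ hp.out.ne_zero)
  rw [hc, pow_mul, h1, one_pow] at h
  rw [← h, orderOf_one] at hg
  exact hq.ne_one hg.symm

/-- The weight of a character: `p^a` times its inner product with the trivial character over the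
`p`-regular elements. -/
lemma regInt_principal_map_auto (σ : ℂ ≃+* ℂ) (χ : IrrCharacter G) :
    regInt p (principal G) (⟨fun g => σ ((χ : G → ℂ) g), IsIrrCharacter.map_auto χ.2 σ⟩ :
      IrrCharacter G) = regInt p (principal G) χ := by
  classical
  apply Int.cast_injective (α := ℂ)
  rw [regInt_symm hp.out (principal G) _, regInt_symm hp.out (principal G) χ,
    ← map_intCast σ (regInt p χ (principal G)), regInt_spec hp.out, regInt_spec hp.out, map_mul,
    map_pow, map_natCast]
  congr 1
  simp only [classInner_def, pRegularPart_apply, principal, map_one, mul_one]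
  rw [map_mul, map_inv₀, map_natCast, map_sum]
  congr 1
  exact Finset.sum_congr rfl fun g _ => by rw [apply_ite σ, map_zero]

/-- **Weights.** Every linear character of a Sylow subgroup fixed by the Galois conjugation occurs
in a fixed character of degree prime to `p` of the principal block. -/
theorem exists_fixed_over (hM : IsPModular p M) (P : Sylow p G) {k : ℕ}
    (hk₁ : ∀ g : G, (∃ j : ℕ, orderOf g = p ^ j) → g ^ k = g ^ (1 + p))
    (hk₂ : ∀ g : G, Nat.Coprime (orderOf g) p → g ^ k = g)
    (l : ↥(P : Subgroup G) →* ℂˣ) (hl : ∀ u, l (u ^ k) = l u)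
    [Fintype ↥(P : Subgroup G)] :
    ∃ χ : IrrCharacter G, χ ∈ principalBlock M G ∧ ¬ p ∣ charDegree (χ : G → ℂ) ∧
      (∀ g : G, (χ : G → ℂ) (g ^ k) = (χ : G → ℂ) g) ∧
      classInner (fun u : ↥(P : Subgroup G) => (χ : G → ℂ) u) (fun u => (l u : ℂ)) ≠ 0 := by
  classical
  set a := (Nat.card G).factorization p with ha
  have hB : IsPBlock M (principalBlock M G) := isPBlock_blockOf (principal G)
  have h1B : principal G ∈ principalBlock M G := mem_blockOf_self hM (principal G)
  obtain ⟨σ, hσ⟩ := exists_galConj_auto (m := Nat.card G) (coprime_card hk₁ hk₂)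
  have hσv : ∀ (χ : IrrCharacter G) (g : G), σ ((χ : G → ℂ) g) = (χ : G → ℂ) (g ^ k) :=
    fun χ g => hσ.apply_character (isCharacter_of_irr χ.2) (orderOf_dvd_natCard g)
  let φ : IrrCharacter G → IrrCharacter G := fun χ =>
    ⟨fun g => σ ((χ : G → ℂ) g), IsIrrCharacter.map_auto χ.2 σ⟩
  have hφinj : Function.Injective φ := fun χ χ' h =>
    Subtype.ext (funext fun g => σ.injective (congrFun (congrArg Subtype.val h) g))
  let e : Equiv.Perm (IrrCharacter G) := Equiv.ofBijective φ (Finite.injective_iff_bijective.1 hφinj)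
  have hev : ∀ (i : ℕ) (χ : IrrCharacter G) (g : G),
      ((e ^ i) χ : G → ℂ) g = (χ : G → ℂ) (g ^ k ^ i) := by
    intro i
    induction i with
    | zero => intro χ g; rw [pow_zero, pow_zero, pow_one]; rfl
    | succ i ih =>
      intro χ g
      rw [pow_succ', Equiv.Perm.mul_apply]
      show σ (((e ^ i) χ : G → ℂ) g) = _
      rw [hσv, ih, ← pow_mul, ← pow_succ']
  have he : e ^ p ^ a = 1 := Equiv.ext fun χ => Subtype.ext (funext fun g => by
    rw [hev, pow_iterate_eq_self hk₁ hk₂ g]; rfl)
  have hll : IsIrrCharacter ↥(P : Subgroup G) (fun u => (l u : ℂ)) := isIrrCharacter_linear l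
  choose n hn using fun χ : IrrCharacter G =>
    IsCharacter.exists_mult (IsCharacter.restrict (isCharacter_of_irr χ.2) (P : Subgroup G)) hll
  let f : IrrCharacter G → ZMod p := fun χ =>
    if χ ∈ principalBlock M G then ((regInt p (principal G) χ : ZMod p)) * (n χ : ZMod p) else 0
  -- the sum of the weights is one
  have hsum : ∑ χ, f χ = 1 := by
    have key : ∑ χ ∈ Finset.univ.filter (· ∈ principalBlock M G),
        regInt p (principal G) χ * (n χ : ℤ) = 1 := by
      apply Int.cast_injective (α := ℂ)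
      push_cast
      have h0 : ∑ χ ∈ Finset.univ.filter (· ∈ principalBlock M G),
            (regInt p (principal G) χ : ℂ) * (n χ : ℂ) =
          classInner (fun u : ↥(P : Subgroup G) =>
            (p : ℂ) ^ a * pRegularPart p ((principal G : IrrCharacter G) : G → ℂ) (u : G))
            (fun u => (l u : ℂ)) := by
        simp only [ha, pow_mul_pRegularPart_eq_sum hM hB h1B, classInner_def, Finset.sum_mul,
          Finset.mul_sum]
        rw [Finset.sum_comm]
        refine Finset.sum_congr rfl fun χ _ => ?_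
        rw [← hn χ, classInner_def, Finset.mul_sum, Finset.mul_sum]
        exact Finset.sum_congr rfl fun u _ => by ring
      rw [h0, classInner_def, Finset.sum_eq_single (1 : ↥(P : Subgroup G))]
      · rw [OneMemClass.coe_one, pRegularPart_apply, if_neg (by simpa using hp.out.ne_one),
          map_one, Units.val_one, map_one, mul_one,
          show ((principal G : IrrCharacter G) : G → ℂ) 1 = 1 from rfl, mul_one,
          Sylow.card_eq_multiplicity P, Nat.cast_pow, ← ha,
          inv_mul_cancel₀ (pow_ne_zero _ (Nat.cast_ne_zero.2 hp.out.ne_zero))]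
      · intro u _ hu
        rw [pRegularPart_apply, if_pos, mul_zero, zero_mul]
        obtain ⟨i, hi⟩ := IsPGroup.iff_orderOf.1 P.2 u
        rw [Subgroup.orderOf_coe, hi]
        refine dvd_pow_self p ?_
        rintro rfl
        exact hu (orderOf_eq_one_iff.1 (by rw [hi, pow_zero]))
      · exact fun h => absurd (Finset.mem_univ _) h
    have key' := congrArg (Int.cast : ℤ → ZMod p) key
    push_cast at key'
    rw [← key', Finset.sum_filter]
  -- invariance
  have hfinv : ∀ χ, f (e χ) = f χ := by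
    intro χ
    have hmem : ∀ χ : IrrCharacter G, χ ∈ principalBlock M G → φ χ ∈ principalBlock M G :=
      fun χ h => map_auto_mem_principal hM σ h
    have hiff : e χ ∈ principalBlock M G ↔ χ ∈ principalBlock M G := by
      refine ⟨fun h => ?_, hmem χ⟩
      obtain ⟨q, hq⟩ : ∃ q, p ^ a = q + 1 := ⟨p ^ a - 1, by
        have := pow_pos hp.out.pos a
        omega⟩
      have hh : ∀ i, (e ^ i) (e χ) ∈ principalBlock M G := by
        intro i
        induction i with
        | zero => rwa [pow_zero]
        | succ i ih => rw [pow_succ', Equiv.Perm.mul_apply]; exact hmem _ ih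
      have := hh q
      rwa [← Equiv.Perm.mul_apply, ← pow_succ, ← hq, he] at this
    have hn' : n (e χ) = n χ := by
      apply Nat.cast_injective (R := ℂ)
      rw [← map_natCast σ (n χ), ← hn χ, ← hn (e χ), classInner_def, classInner_def, map_mul,
        map_inv₀, map_natCast, map_sum]
      congr 1
      refine Finset.sum_congr rfl fun u _ => ?_
      rw [← IsCharacter.conj_inv (isCharacter_of_irr hll) u, map_mul]
      show σ ((χ : G → ℂ) u) * _ = _
      congr 1
      have hu := hσ.apply_character (isCharacter_of_irr hll) (g := u⁻¹)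
        ((orderOf_dvd_natCard _).trans (Subgroup.card_subgroup_dvd_card _))
      rw [hu, hl]
    simp only [f, hiff, hn']
    rw [show regInt p (principal G) (e χ) = regInt p (principal G) χ from
      regInt_principal_map_auto σ χ]
  obtain ⟨χ, hfix, hne⟩ := exists_fixed (p := p) e he f hfinv (by rw [hsum]; exact one_ne_zero)
  have hχB : χ ∈ principalBlock M G := by
    by_contra h; exact hne (if_neg h)
  simp only [f, if_pos hχB, mul_ne_zero_iff] at hne
  refine ⟨χ, hχB, ?_, fun g => ?_, ?_⟩
  · intro hd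
    refine hne.1 ((ZMod.intCast_zmod_eq_zero_iff_dvd _ _).2 ?_)
    obtain ⟨h0, hf'⟩ := regInt_height_zero hM hB h1B (blockHeight_one _) hχB
    have hd0 : deg (χ : G → ℂ) ≠ 0 := fun h =>
      IsIrrCharacter.apply_one_ne_zero χ.2 (by rw [irr_apply_one_eq_deg χ, h, Nat.cast_zero])
    rw [charDegree_eq_deg] at hd
    have hpos : 0 < (regInt p (principal G) χ).natAbs.factorization p := by
      rw [hf']; exact hp.out.factorization_pos_of_dvd hd0 hd
    exact Int.natCast_dvd.2 (Nat.dvd_of_factorization_pos hpos.ne')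
  · rw [← hσv]
    exact congrFun (congrArg Subtype.val hfix) g
  · rw [hn χ, Nat.cast_ne_zero]
    intro h
    rw [h, Nat.cast_zero] at hne
    exact hne.2 rfl

/-- **Linearity of the fixed characters forces a normal `p`-complement.** -/
theorem hasNormalPComplement_of_fixed_linear (hM : IsPModular p M) {k : ℕ}
    (hk₁ : ∀ g : G, (∃ j : ℕ, orderOf g = p ^ j) → g ^ k = g ^ (1 + p))
    (hk₂ : ∀ g : G, Nat.Coprime (orderOf g) p → g ^ k = g)
    (h : ∀ χ ∈ principalBlock M G, ¬ p ∣ charDegree (χ : G → ℂ) →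
      (∀ g : G, (χ : G → ℂ) (g ^ k) = (χ : G → ℂ) g) → charDegree (χ : G → ℂ) = 1) :
    HasNormalPComplement p G := by
  classical
  obtain ⟨P⟩ : Nonempty (Sylow p G) := inferInstance
  letI := Fintype.ofFinite ↥(P : Subgroup G)
  set N := pResidual p G with hN
  haveI : N.Normal := Cfsg.Lib.Transfer.pResidual_normal'
  have hle : N ⊓ (P : Subgroup G) ≤
      (frattini ↥(P : Subgroup G)).map (P : Subgroup G).subtype := by
    rintro x ⟨hxN, hxP⟩
    refine ⟨⟨x, hxP⟩, ?_, rfl⟩
    by_contra hxF
    haveI : IsMulCommutative (↥(P : Subgroup G) ⧸ frattini ↥(P : Subgroup G)) :=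
      Cfsg.Lib.PGroups.isMulCommutative_quotient_frattini P.2
    obtain ⟨l₀, hl₀⟩ := Cfsg.Lib.Dual.exists_hom_ne_one
      (A := ↥(P : Subgroup G) ⧸ frattini ↥(P : Subgroup G)) (fun a b => mul_comm' a b)
      (a := QuotientGroup.mk ⟨x, hxP⟩) (by rwa [Ne, QuotientGroup.eq_one_iff])
    let l : ↥(P : Subgroup G) →* ℂˣ := l₀.comp (QuotientGroup.mk' _)
    have hlp : ∀ u, l u ^ p = 1 := fun u => by
      rw [← map_pow]
      show l₀ (QuotientGroup.mk' _ (u ^ p)) = 1
      rw [map_pow, Cfsg.Lib.PGroups.pow_prime_quotient_frattini P.2, map_one]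
    have hl : ∀ u, l (u ^ k) = l u := fun u => by
      obtain ⟨i, hi⟩ := IsPGroup.iff_orderOf.1 P.2 u
      have hu : u ^ k = u ^ (1 + p) := Subtype.ext (by
        simpa using hk₁ (u : G) ⟨i, by rw [Subgroup.orderOf_coe]; exact hi⟩)
      rw [hu, map_pow, pow_add, pow_one, hlp, mul_one]
    obtain ⟨χ, hB, hd, hfix, hc⟩ := exists_fixed_over hM P hk₁ hk₂ l hl
    have h1 : (χ : G → ℂ) 1 = 1 := by
      rw [irr_apply_one_eq_deg χ, ← charDegree_eq_deg, h χ hB hd hfix, Nat.cast_one]
    obtain ⟨f, hf⟩ := exists_hom_of_deg_one (isCharacter_of_irr χ.2) h1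
    -- the restriction is the given character
    have hres : ∀ u : ↥(P : Subgroup G), f u = l u := by
      intro u
      have h1' : IsIrrCharacter ↥(P : Subgroup G) (fun u => (f u : ℂ)) :=
        isIrrCharacter_linear (f.comp (P : Subgroup G).subtype)
      rw [hf, classInner_irrChar h1' (isIrrCharacter_linear l)] at hc
      by_contra hne
      rw [if_neg fun h => hne (Units.ext (congrFun h u))] at hc
      exact hc rfl
    -- its p-part kills the p-residual
    obtain ⟨b, m', hm', hcard⟩ := Nat.exists_eq_pow_mul_and_not_dvd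
      (Nat.card_pos (α := G)).ne' p hp.out.ne_one
    have hpart : ((f ^ m').comp N.subtype) ^ p ^ b = 1 := by
      ext n : 1
      rw [MonoidHom.pow_apply, MonoidHom.comp_apply, MonoidHom.pow_apply, ← pow_mul, mul_comm,
        ← hcard, ← map_pow, pow_card_eq_one', map_one, MonoidHom.one_apply]
    have hker : (f ^ m').comp N.subtype = 1 := linear_eq_one_of_pow p _ hpart
    have hx' : l ⟨x, hxP⟩ ^ m' = 1 := by
      rw [← hres ⟨x, hxP⟩]
      exact DFunLike.congr_fun hker ⟨x, hxN⟩
    have hx1 : l ⟨x, hxP⟩ = 1 := by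
      have h3 := (pow_gcd_eq_one (m := p) (n := m')).mpr ⟨hlp ⟨x, hxP⟩, hx'⟩
      rwa [(hp.out.coprime_iff_not_dvd.2 hm').gcd_eq_one, pow_one] at h3
    exact hl₀ hx1
  have hc : Cfsg.HasNormalPComplement p N :=
    Cfsg.Lib.Transfer.hasNormalPComplement_of_le_frattini P N hle
  obtain ⟨i, hi⟩ := Cfsg.Lib.Transfer.exists_index_pResidual (p := p) (G := G)
  rw [Cfsg.Lib.Transfer.hasNormalPComplement_iff_pResidual] at hc ⊢
  have heq : pResidual p N = ⊤ := Cfsg.Lib.SolvStruct.pResidual_pResidual_eq_top
  rwa [heq, Subgroup.card_top] at hc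

end Cfsg.Lib.RegularWeight

namespace Cfsg.Lib.RegularWeight

open Cfsg Cfsg.Lib.Chars Cfsg.Lib.Blocks

universe v

variable {G : Type v} [Group G] [Fintype G] {p : ℕ} [hp : Fact p.Prime] {M : Ideal AlgInt}

/-- With a normal `p`-complement the characters of degree prime to `p` of the principal block are
linear. -/
lemma charDegree_eq_one_of_complement (hM : IsPModular p M) (hC : HasNormalPComplement p G)
    {χ : IrrCharacter G} (hχ : χ ∈ principalBlock M G) (hd : ¬ p ∣ charDegree (χ : G → ℂ)) :
    charDegree (χ : G → ℂ) = 1 := by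
  classical
  obtain ⟨N, hN, hc, i, hi⟩ := Cfsg.Lib.Transfer.hasNormalPComplement_iff.1 hC
  have hNp : ¬ p ∣ Nat.card N := hp.out.coprime_iff_not_dvd.1 hc.symm
  letI := Fintype.ofFinite (G ⧸ N)
  rw [← image_inflate_principal hM N hNp] at hχ
  obtain ⟨φ, -, rfl⟩ := hχ
  have hdeg : charDegree ((inflate N φ : IrrCharacter G) : G → ℂ) = deg (φ : G ⧸ N → ℂ) := by
    rw [charDegree_eq_deg]
    apply Nat.cast_injective (R := ℂ)
    rw [← irr_apply_one_eq_deg, ← irr_apply_one_eq_deg, inflate_val]
    rfl
  rw [hdeg] at hd ⊢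
  have hdv := Cfsg.Lib.InvolutionCount.deg_dvd_card φ
  rw [← Subgroup.index_eq_card, hi] at hdv
  obtain ⟨j, -, hj⟩ := (Nat.dvd_prime_pow hp.out).1 hdv
  rcases Nat.eq_zero_or_pos j with rfl | hj0
  · rw [hj, pow_zero]
  · exact absurd (hj ▸ dvd_pow_self p hj0.ne') hd

end Cfsg.Lib.RegularWeight
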