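import Mathlib
import Cfsg.Agent.Blocks.GlaubermanApi
import Cfsg.Agent.Chars.Gallagher
import Cfsg.Agent.Chars.Constituent
import Cfsg.Agent.Chars.IrrTools

/-!
# The correspondence of invariant characters relative to a normal Sylow subgroup

A `p`-group `A` acts on `K`, `Q` is an invariant normal Sylow `p`-subgroup and `ι : C → K`
identifies `C` with the elements fixed modulo `Q`.
-/

set_option autoImplicit false
set_option linter.unusedSectionVars false

namespace Cfsg.Lib.RelGlauberman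

open Cfsg Cfsg.Lib.Chars Cfsg.Lib.Blocks Cfsg.Lib.Glauberman
open scoped ComplexConjugate

universe u v w

attribute [local instance high] Fintype.ofFinite

/-- Composition with an automorphism does not change the determinantal order. -/
lemma detOrder_comp_equiv {G : Type u} [Group G] [Finite G] {χ : G → ℂ} (hχ : IsCharacter G χ)
    (e : G ≃* G) : detOrder (fun g => χ (e g)) = detOrder χ := by
  obtain ⟨n, ρ, rfl⟩ := hχ
  have h1 : detChar (fun g => ρ.character (e g)) = fun g => detChar ρ.character (e g) := by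
    funext g
    rw [detChar_character ρ (e g)]
    exact detChar_character (MonoidHom.comp ρ e.toMonoidHom) g
  rw [detOrder, detOrder, h1]
  exact orderOf_injective
    ({ toFun := fun f g => f (e g), map_one' := rfl, map_mul' := fun _ _ => rfl } :
      (G → ℂ) →* (G → ℂ))
    (fun a b h => funext fun g => by simpa using congrFun h (e.symm g)) _

section Gallagher

variable {G : Type u} [Group G] [Fintype G] (N : Subgroup G) [N.Normal]

/-- The character inflated from the quotient times the fixed one. -/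
noncomputable def infMul (η : G → ℂ) (β : G ⧸ N → ℂ) : G → ℂ := fun g => β (g : G ⧸ N) * η g

variable {η : G → ℂ} (hη : IsIrrCharacter G η) (hηN : IsIrrCharacter N (fun n : N => η n))
include hη hηN

lemma infMul_irr {β : G ⧸ N → ℂ} (hβ : IsIrrCharacter (G ⧸ N) β) :
    IsIrrCharacter G (infMul N η β) ∧
      classInner (fun n : N => infMul N η β n) (fun n : N => η n) ≠ 0 := by
  classical
  have hb : IsIrrCharacter G (fun g : G => β (g : G ⧸ N)) :=
    IsIrrCharacter.comp_surjective hβ (QuotientGroup.mk' N) (QuotientGroup.mk'_surjective N)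
  have hbN : ∀ n : N, β ((n : G) : G ⧸ N) = β ((1 : G) : G ⧸ N) := fun n => by
    rw [(QuotientGroup.eq_one_iff _).2 n.2, QuotientGroup.mk_one]
  refine ⟨(gallagher_trivial N hη hηN hb hb hbN hbN).1, ?_⟩
  rw [show (fun n : N => infMul N η β n) = β ((1 : G) : G ⧸ N) • fun n : N => η n from
    funext fun n => by simp [infMul, hbN n], classInner_smul_left, classInner_self_irr hηN, mul_one]
  exact IsIrrCharacter.apply_one_ne_zero hb

lemma infMul_inj {β β' : G ⧸ N → ℂ} (hβ : IsIrrCharacter (G ⧸ N) β)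
    (hβ' : IsIrrCharacter (G ⧸ N) β') (h : infMul N η β = infMul N η β') : β = β' := by
  have hb : ∀ {b : G ⧸ N → ℂ}, IsIrrCharacter (G ⧸ N) b →
      IsIrrCharacter G (fun g : G => b (g : G ⧸ N)) := fun hb =>
    IsIrrCharacter.comp_surjective hb (QuotientGroup.mk' N) (QuotientGroup.mk'_surjective N)
  have hbN : ∀ (b : G ⧸ N → ℂ) (n : N), b ((n : G) : G ⧸ N) = b ((1 : G) : G ⧸ N) := fun b n => by
    rw [(QuotientGroup.eq_one_iff _).2 n.2, QuotientGroup.mk_one]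
  have h2 := (gallagher_trivial N hη hηN (hb hβ) (hb hβ') (hbN β) (hbN β')).2 h
  funext q
  obtain ⟨g, rfl⟩ := QuotientGroup.mk'_surjective N q
  exact congrFun h2 g

lemma exists_infMul (hinv : ∀ g : G, conjN N g (fun n : N => η n) = fun n : N => η n)
    {χ : G → ℂ} (hχ : IsIrrCharacter G χ)
    (hover : classInner (fun n : N => χ n) (fun n : N => η n) ≠ 0) :
    ∃ β : IrrCharacter (G ⧸ N), χ = infMul N η (β : G ⧸ N → ℂ) := by
  classical
  obtain ⟨e, -, he⟩ := restrict_eq_mult_of_invariant N hχ hηN hinv hover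
  obtain ⟨b, hb, hχb, hbN⟩ := exists_factor_extension N hη hηN hχ (e := e) fun n => congrFun he n
  obtain ⟨b', hb'c, hbb'⟩ := exists_factor (QuotientGroup.mk' N) (QuotientGroup.mk'_surjective N)
    (isCharacter_of_irr hb) fun k hk => hbN ⟨k, by rwa [QuotientGroup.ker_mk'] at hk⟩
  refine ⟨⟨b', irr_of_comp_irr hb'c (QuotientGroup.mk' N) (by rw [← hbb']; exact hb)⟩, ?_⟩
  rw [hχb]
  funext g
  show b g * η g = b' (g : G ⧸ N) * η g
  rw [congrFun hbb' g]
  rfl

end Gallagher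

/-- The data of the situation. -/
structure Setup (p : ℕ) {K : Type u} [Group K] {A : Type v} [Group A] {C : Type w} [Group C]
    (φ : A →* MulAut K) (Q : Subgroup K) (ι : C →* K) : Prop where
  pA : IsPGroup p A
  pQ : IsPGroup p Q
  idx : ¬ p ∣ Q.index
  inv : ∀ a : A, ∀ q ∈ Q, φ a q ∈ Q
  inj : Function.Injective ι
  mem_iff : ∀ k : K, (∀ a : A, φ a k * k⁻¹ ∈ Q) ↔ ∃ c : C, ι c = k

variable {K : Type u} [Group K] [Fintype K] {A : Type v} [Group A] [Finite A] {C : Type w}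
  [Group C] [Fintype C] {p : ℕ} [Fact p.Prime]
  {φ : A →* MulAut K} {Q : Subgroup K} [Q.Normal] {ι : C →* K}

/-- Invariance of a function on `C`. -/
def InvC (φ : A →* MulAut K) (ι : C →* K) (ξ : C → ℂ) : Prop :=
  ∀ (a : A) (c c' : C), ι c' = φ a (ι c) → ξ c' = ξ c

/-- Invariance of a function on `Q`. -/
def InvQ (φ : A →* MulAut K) (Q : Subgroup K) (θ : Q → ℂ) : Prop :=
  ∀ (a : A) (q q' : Q), (q' : K) = φ a q → θ q' = θ q

variable (Q ι) in
/-- Restriction to the preimage of `Q`. -/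
def rN : Q.comap ι →* Q where
  toFun n := ⟨ι n, n.2⟩
  map_one' := Subtype.ext (map_one ι)
  map_mul' _ _ := Subtype.ext (map_mul ι _ _)

variable (h : Setup p φ Q ι)
include h

lemma le_range {q : K} (hq : q ∈ Q) : ∃ c : C, ι c = q :=
  (h.mem_iff q).1 fun a => Q.mul_mem (h.inv a q hq) (Q.inv_mem hq)

lemma rN_bij : Function.Bijective (rN Q ι) := by
  refine ⟨fun m n hmn => Subtype.ext (h.inj (congrArg Subtype.val hmn)), fun q => ?_⟩
  obtain ⟨c, hc⟩ := le_range h q.2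
  exact ⟨⟨c, show ι c ∈ Q by rw [hc]; exact q.2⟩, Subtype.ext hc⟩

lemma classInner_rN (f g : Q → ℂ) :
    classInner (fun n => f (rN Q ι n)) (fun n => g (rN Q ι n)) = classInner f g :=
  classInner_comp_equiv (Equiv.ofBijective _ (rN_bij h)) f g

lemma irr_rN {θ : Q → ℂ} (hθ : IsIrrCharacter Q θ) :
    IsIrrCharacter (Q.comap ι) (fun n => θ (rN Q ι n)) :=
  IsIrrCharacter.comp_surjective hθ _ (rN_bij h).2

lemma fix_mod (c : C) (a : A) : φ a (ι c) * (ι c)⁻¹ ∈ Q := (h.mem_iff _).2 ⟨c, rfl⟩ a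

lemma exists_image (c : C) (a : A) : ∃ c' : C, ι c' = φ a (ι c) := by
  obtain ⟨d, hd⟩ := le_range h (fix_mod h c a)
  exact ⟨d * c, by rw [map_mul, hd]; group⟩

lemma not_dvd_index_comap : ¬ p ∣ (Q.comap ι).index := fun hd => by
  rw [Subgroup.index_comap] at hd
  exact h.idx (hd.trans (Q.relIndex_dvd_index_of_normal ι.range))

/-- An invariant coset of a subgroup containing `Q` contains an element fixed modulo `Q`. -/
lemma exists_fixed_in_coset (T : Subgroup K) (hQT : Q ≤ T) (k : K)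
    (hinv : ∀ a : A, ∀ t ∈ T, φ a (t * k) * k⁻¹ ∈ T) : ∃ c : C, ι c * k⁻¹ ∈ T := by
  classical
  let π := QuotientGroup.mk' Q
  let φq : A → MulAut (K ⧸ Q) := fun a => QuotientGroup.congr Q Q (φ a) (by
    refine Subgroup.eq_of_le_of_card_ge ?_ ?_
    · rintro x ⟨q, hq, rfl⟩
      exact h.inv a q hq
    · rw [← Nat.card_congr ((φ a).subgroupMap Q).toEquiv])
  have hφq : ∀ a (x : K), φq a (x : K ⧸ Q) = ((φ a x : K) : K ⧸ Q) := fun a x => rfl
  let S : Set (K ⧸ Q) := {x | x * (π k)⁻¹ ∈ T.map π}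
  have hS : ∀ a, ∀ x ∈ S, φq a x ∈ S := by
    rintro a x ⟨t, ht, htx⟩
    obtain rfl : x = π (t * k) := by rw [map_mul, htx, inv_mul_cancel_right]
    exact ⟨_, hinv a t ht, by rw [map_mul, map_inv]; rfl⟩
  letI : MulAction A S :=
    { smul := fun a x => ⟨φq a x.1, hS a x.1 x.2⟩
      one_smul := fun x => Subtype.ext (by
        obtain ⟨⟨y⟩, hy⟩ := x
        show φq 1 (y : K ⧸ Q) = (y : K ⧸ Q)
        rw [hφq, map_one]; rfl)
      mul_smul := fun a b x => Subtype.ext (by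
        obtain ⟨⟨y⟩, hy⟩ := x
        show φq (a * b) (y : K ⧸ Q) = φq a (φq b (y : K ⧸ Q))
        rw [hφq, hφq, hφq, map_mul]; rfl) }
  have hcard : Nat.card S = Nat.card (T.map π) :=
    Nat.card_congr ((Equiv.mulRight (π k)⁻¹).subtypeEquiv fun x => Iff.rfl)
  have hnd : ¬ p ∣ Nat.card S := fun hd =>
    h.idx ((hd.trans (hcard ▸ (T.map π).card_subgroup_dvd_card)).trans (dvd_of_eq rfl))
  obtain ⟨⟨x, hx⟩, hfix⟩ := h.pA.nonempty_fixed_point_of_prime_not_dvd_card S hnd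
  obtain ⟨y, rfl⟩ := QuotientGroup.mk'_surjective Q x
  obtain ⟨c, rfl⟩ := (h.mem_iff y).1 fun a => by
    have h1 : ((φ a y : K) : K ⧸ Q) = (y : K ⧸ Q) := congrArg Subtype.val (hfix a)
    have h2 := QuotientGroup.eq.1 h1.symm
    exact (‹Q.Normal›).mem_comm h2
  obtain ⟨t, ht, htc⟩ := hx
  refine ⟨c, ?_⟩
  have h3 : t⁻¹ * (ι c * k⁻¹) ∈ Q := by
    refine QuotientGroup.eq.1 ?_
    show π t = π (ι c * k⁻¹)
    rw [htc, map_mul, map_inv]
  have h4 := T.mul_mem ht (hQT h3)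
  rwa [mul_inv_cancel_left] at h4

section InvariantTheta

variable {θ : Q → ℂ} (hθ : IsIrrCharacter Q θ) (hθQ : InvQ φ Q θ)
  (hθK : ∀ g : K, conjN Q g θ = θ)
include hθ hθQ hθK

/-- The extension of an invariant character, invariant under the operators. -/
lemma exists_invariant_extension : ∃ η : K → ℂ, IsIrrCharacter K η ∧
    (∀ q : Q, η q = θ q) ∧ ∀ a g, η (φ a g) = η g := by
  classical
  have hcop : ∀ n, n ∣ Nat.card Q → Q.index.Coprime n := fun n hn => by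
    obtain ⟨k, hk⟩ := IsPGroup.iff_card.1 h.pQ
    exact Nat.Coprime.coprime_dvd_right (hn.trans (dvd_of_eq hk))
      (Nat.Coprime.pow_right k ((Nat.Prime.coprime_iff_not_dvd (Fact.out : p.Prime)).2 h.idx).symm)
  have hdet : detOrder θ ∣ Nat.card Q := by
    obtain ⟨f, hf⟩ := detChar_is_hom (isCharacter_of_irr hθ)
    rw [detOrder, hf]
    refine orderOf_dvd_of_pow_eq_one (funext fun g => ?_)
    rw [Pi.pow_apply, ← Units.val_pow_eq_pow_val, ← map_pow, pow_card_eq_one', map_one]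
    rfl
  obtain ⟨η, ⟨hη, hηQ, hηo⟩, huniq⟩ := exists_canonical_extension Q hθ hθK
    (irr_apply_one_eq_deg ⟨θ, hθ⟩)
    (Nat.Coprime.mul_right (hcop _ hdet) (hcop _ (IsIrrCharacter.deg_dvd hθ)))
  refine ⟨η, hη, hηQ, fun a g => congrFun (huniq (fun g => η (φ a g))
    (IsIrrCharacter.comp_surjective hη (φ a).toMonoidHom (φ a).surjective) (fun q => ?_) ?_) g⟩
  · show η (φ a q) = θ q
    exact (hηQ ⟨φ a q, h.inv a q q.2⟩).trans (hθQ a q _ rfl)
  · rw [detOrder_comp_equiv (isCharacter_of_irr hη) (φ a), hηo]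
    exact hcop _ hdet

/-- All characters of `C` over an invariant `θ` are invariant. -/
lemma invC_of_over {ξ : C → ℂ} (hξ : IsIrrCharacter C ξ)
    (hover : classInner (fun n : Q.comap ι => ξ n) (fun n => θ (rN Q ι n)) ≠ 0) :
    InvC φ ι ξ := by
  classical
  obtain ⟨η, hη, hηQ, hηinv⟩ := exists_invariant_extension h hθ hθQ hθK
  let η' : C → ℂ := fun c => η (ι c)
  have hres : (fun n : Q.comap ι => η' n) = fun n => θ (rN Q ι n) :=
    funext fun n => hηQ (rN Q ι n)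
  have hη'N : IsIrrCharacter (Q.comap ι) (fun n => η' n) := hres ▸ irr_rN h hθ
  have hη' : IsIrrCharacter C η' :=
    irr_of_comp_irr (IsCharacter.comp_hom (isCharacter_of_irr hη) ι) (Q.comap ι).subtype hη'N
  obtain ⟨γ, rfl⟩ := exists_infMul (Q.comap ι) hη' hη'N
    (fun g => conjN_restrict (isClassFunction_isChar (isCharacter_of_irr hη')) g) hξ
    (by rw [hres]; exact hover)
  intro a c c' hc
  show (γ : C ⧸ Q.comap ι → ℂ) c' * η (ι c') = (γ : C ⧸ Q.comap ι → ℂ) c * η (ι c)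
  rw [hc, hηinv]
  congr 1
  refine congrArg _ (QuotientGroup.eq.2 ?_)
  show ι (c'⁻¹ * c) ∈ Q
  rw [map_mul, map_inv, hc]
  have h1 := Q.inv_mem (fix_mod h c a)
  rw [mul_inv_rev, inv_inv] at h1
  exact (‹Q.Normal›).mem_comm h1

/-- The correspondence over an invariant character of `Q`. -/
theorem corr_invariant :
    (∀ χ : IrrCharacter K, Inv φ (χ : K → ℂ) → classInner (fun q : Q => (χ : K → ℂ) q) θ ≠ 0 →
      ∃ ξ : IrrCharacter C,
        classInner (fun n : Q.comap ι => (ξ : C → ℂ) n) (fun n => θ (rN Q ι n)) ≠ 0 ∧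
        (∃ m : ℕ, classInner (fun c => (χ : K → ℂ) (ι c)) (ξ : C → ℂ) = (m : ℂ) ∧
          ((m : ZMod p) = 1 ∨ (m : ZMod p) = -1)) ∧
        (∀ ξ' : IrrCharacter C,
          classInner (fun n : Q.comap ι => (ξ' : C → ℂ) n) (fun n => θ (rN Q ι n)) ≠ 0 →
          Corr p ι χ ξ' → ξ' = ξ) ∧
        ((deg (ξ : C → ℂ) : ZMod p) = deg (χ : K → ℂ) ∨
          (deg (ξ : C → ℂ) : ZMod p) = -(deg (χ : K → ℂ) : ZMod p))) ∧
    (∀ χ χ' : IrrCharacter K, Inv φ (χ : K → ℂ) → Inv φ (χ' : K → ℂ) →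
      classInner (fun q : Q => (χ : K → ℂ) q) θ ≠ 0 →
      classInner (fun q : Q => (χ' : K → ℂ) q) θ ≠ 0 →
      ∀ ξ : IrrCharacter C,
        classInner (fun n : Q.comap ι => (ξ : C → ℂ) n) (fun n => θ (rN Q ι n)) ≠ 0 →
        Corr p ι χ ξ → Corr p ι χ' ξ → χ = χ') ∧
    (∀ ξ : IrrCharacter C,
      classInner (fun n : Q.comap ι => (ξ : C → ℂ) n) (fun n => θ (rN Q ι n)) ≠ 0 →
      ∃ χ : IrrCharacter K, Inv φ (χ : K → ℂ) ∧
        classInner (fun q : Q => (χ : K → ℂ) q) θ ≠ 0 ∧ Corr p ι χ ξ) := by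
  classical
  obtain ⟨η, hη, hηQ, hηinv⟩ := exists_invariant_extension h hθ hθQ hθK
  obtain rfl : θ = fun q : Q => η q := funext fun q => (hηQ q).symm
  let N := Q.comap ι
  let η' : C → ℂ := fun c => η (ι c)
  have hη'N : IsIrrCharacter N (fun n => η' n) := irr_rN h hθ
  have hη' : IsIrrCharacter C η' :=
    irr_of_comp_irr (IsCharacter.comp_hom (isCharacter_of_irr hη) ι) N.subtype hη'N
  let ιb : C ⧸ N →* K ⧸ Q := QuotientGroup.map N Q ι le_rfl
  let φb : A →* MulAut (K ⧸ Q) :=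
    { toFun := fun a => QuotientGroup.congr Q Q (φ a) (by
        refine Subgroup.eq_of_le_of_card_ge ?_ ?_
        · rintro x ⟨q, hq, rfl⟩
          exact h.inv a q hq
        · rw [← Nat.card_congr ((φ a).subgroupMap Q).toEquiv])
      map_one' := MulEquiv.ext fun x => by
        obtain ⟨y, rfl⟩ := QuotientGroup.mk'_surjective Q x
        show ((φ 1 y : K) : K ⧸ Q) = _
        rw [map_one]; rfl
      map_mul' := fun a b => MulEquiv.ext fun x => by
        obtain ⟨y, rfl⟩ := QuotientGroup.mk'_surjective Q x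
        show ((φ (a * b) y : K) : K ⧸ Q) = ((φ a (φ b y) : K) : K ⧸ Q)
        rw [map_mul]; rfl }
  have hG : ¬ p ∣ Nat.card (K ⧸ Q) := h.idx
  have hfix : IsFixed φb ιb := by
    refine ⟨?_, fun g => ⟨fun hg => ?_, ?_⟩⟩
    · rw [injective_iff_map_eq_one]
      intro x hx
      obtain ⟨c, rfl⟩ := QuotientGroup.mk'_surjective N x
      exact (QuotientGroup.eq_one_iff c).2 ((QuotientGroup.eq_one_iff (N := Q) (ι c)).1 hx)
    · obtain ⟨y, rfl⟩ := QuotientGroup.mk'_surjective Q g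
      obtain ⟨c, rfl⟩ := (h.mem_iff y).1 fun a => by
        have h1 : ((φ a y : K) : K ⧸ Q) = (y : K ⧸ Q) := hg a
        exact (‹Q.Normal›).mem_comm (QuotientGroup.eq.1 h1.symm)
      exact ⟨(c : C ⧸ N), rfl⟩
    · rintro ⟨x, rfl⟩ a
      obtain ⟨c, rfl⟩ := QuotientGroup.mk'_surjective N x
      show ((φ a (ι c) : K) : K ⧸ Q) = ((ι c : K) : K ⧸ Q)
      exact (QuotientGroup.eq.2 ((‹Q.Normal›).mem_comm (fix_mod h c a))).symm
  have hA := h.pA
  -- characters over `θ`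
  let up : IrrCharacter (K ⧸ Q) → IrrCharacter K := fun β =>
    ⟨infMul Q η (β : K ⧸ Q → ℂ), (infMul_irr Q hη hθ β.2).1⟩
  let upC : IrrCharacter (C ⧸ N) → IrrCharacter C := fun γ =>
    ⟨infMul N η' (γ : C ⧸ N → ℂ), (infMul_irr N hη' hη'N γ.2).1⟩
  have hupC : ∀ γ γ', upC γ = upC γ' → γ = γ' := fun γ γ' hh =>
    Subtype.ext (infMul_inj N hη' hη'N γ.2 γ'.2 (congrArg Subtype.val hh))
  have hK : ∀ χ : IrrCharacter K, Inv φ (χ : K → ℂ) →
      classInner (fun q : Q => (χ : K → ℂ) q) (fun q : Q => η q) ≠ 0 →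
      ∃ β : IrrCharacter (K ⧸ Q), Inv φb (β : K ⧸ Q → ℂ) ∧ up β = χ := by
    intro χ hinv hover
    obtain ⟨β, hβ⟩ := exists_infMul Q hη hθ hθK χ.2 hover
    refine ⟨β, fun a x => ?_, Subtype.ext hβ.symm⟩
    refine congrFun (infMul_inj Q hη hθ (twist (φb a) β).2 β.2 (funext fun g => ?_)) x
    show (β : K ⧸ Q → ℂ) ((φ a g : K) : K ⧸ Q) * η g = infMul Q η (β : K ⧸ Q → ℂ) g
    have h1 := hinv a g
    rw [hβ] at h1
    rw [← h1]
    show _ = (β : K ⧸ Q → ℂ) ((φ a g : K) : K ⧸ Q) * η (φ a g)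
    rw [hηinv]
  have hC : ∀ ξ : IrrCharacter C,
      classInner (fun n : N => (ξ : C → ℂ) n) (fun n => η' n) ≠ 0 → ∃ γ, upC γ = ξ := by
    intro ξ hover
    obtain ⟨γ, hγ⟩ := exists_infMul N hη' hη'N
      (fun g => conjN_restrict (isClassFunction_isChar (isCharacter_of_irr hη')) g) ξ.2 hover
    exact ⟨γ, Subtype.ext hγ.symm⟩
  have hmult : ∀ β γ, classInner (fun c => (up β : K → ℂ) (ι c)) (upC γ : C → ℂ) =
      classInner (fun x => (β : K ⧸ Q → ℂ) (ιb x)) (γ : C ⧸ N → ℂ) := by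
    intro β γ
    obtain ⟨m, hm⟩ := IsCharacter.exists_decomp (IsCharacter.comp_hom (isCharacter_of_irr β.2) ιb)
    simp only [← Nat.cast_smul_eq_nsmul ℂ] at hm
    have h1 : (fun c => (up β : K → ℂ) (ι c)) =
        ∑ δ : IrrCharacter (C ⧸ N), (m δ : ℂ) • (upC δ : C → ℂ) := by
      funext c
      show (β : K ⧸ Q → ℂ) (ιb (c : C ⧸ N)) * η' c = _
      rw [show (β : K ⧸ Q → ℂ) (ιb (c : C ⧸ N)) = _ from congrFun hm (c : C ⧸ N)]
      simp [Finset.sum_apply, Finset.sum_mul, upC, infMul, mul_assoc]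
    rw [h1, hm, classInner_irrSum (fun δ => (m δ : ℂ)) γ, classInner_sum_left]
    simp only [classInner_smul_left, classInner_irrCharacter]
    rw [Finset.sum_eq_single γ (fun δ _ hne => ?_) (fun hh => absurd (Finset.mem_univ _) hh)]
    · simp
    · rw [if_neg (fun hh => hne (hupC _ _ hh)), mul_zero]
  have hCorr : ∀ β γ, Corr p ι (up β) (upC γ) ↔ Corr p ιb β γ := fun β γ => by
    simp only [Corr, hmult]
  refine ⟨fun χ hinv hover => ?_, fun χ χ' hinv hinv' hover hover' ξ hξ hc hc' => ?_,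
    fun ξ hξ => ?_⟩
  · obtain ⟨β, hβ, rfl⟩ := hK χ hinv hover
    obtain ⟨γ, hγ, hγu⟩ := existsUnique_corr hA hG hfix hβ
    obtain ⟨n, hn, hnd⟩ := hγ
    have hn1 : (n : ZMod p) = 1 ∨ (n : ZMod p) = -1 := by
      rcases corr_mult hA hG hfix hβ hn hnd with h1 | h1 <;>
        have h2 := (ZMod.intCast_eq_intCast_iff _ _ _).2 h1 <;> push_cast at h2
      · exact Or.inl h2
      · exact Or.inr h2
    refine ⟨upC γ, (infMul_irr N hη' hη'N γ.2).2, ⟨n, (hmult β γ).trans hn, hn1⟩,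
      fun ξ' hξ' hc => ?_, ?_⟩
    · obtain ⟨γ', rfl⟩ := hC ξ' hξ'
      rw [hγu γ' ((hCorr β γ').1 hc)]
    · obtain ⟨m, hm⟩ := IsCharacter.exists_decomp (IsCharacter.comp_hom (isCharacter_of_irr β.2) ιb)
      have hmγ : ∀ δ : IrrCharacter (C ⧸ N),
          classInner (fun x => (β : K ⧸ Q → ℂ) (ιb x)) (δ : C ⧸ N → ℂ) = (m δ : ℂ) := fun δ => by
        rw [hm]
        simp only [← Nat.cast_smul_eq_nsmul ℂ]
        exact classInner_irrSum (fun δ => (m δ : ℂ)) δ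
      have hdeg : deg (β : K ⧸ Q → ℂ) =
          ∑ δ : IrrCharacter (C ⧸ N), m δ * deg (δ : C ⧸ N → ℂ) := by
        apply Nat.cast_injective (R := ℂ)
        have h1 := congrFun hm 1
        rw [Finset.sum_apply] at h1
        simp only [map_one, Pi.smul_apply] at h1
        simp only [irr_apply_one_eq_deg, nsmul_eq_mul] at h1
        push_cast
        exact h1
      have hmod : (deg (β : K ⧸ Q → ℂ) : ZMod p) = (n : ZMod p) * deg (γ : C ⧸ N → ℂ) := by
        rw [hdeg, Nat.cast_sum, Finset.sum_eq_single γ (fun δ _ hne => ?_)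
          (fun hh => absurd (Finset.mem_univ _) hh), Nat.cast_mul,
          show m γ = n from Nat.cast_injective (R := ℂ) ((hmγ γ).symm.trans hn)]
        have h0 : p ∣ m δ := by
          by_contra hd
          exact hne (hγu δ ⟨m δ, hmγ δ, hd⟩)
        rw [Nat.cast_mul, (ZMod.natCast_eq_zero_iff _ _).2 h0, zero_mul]
      have hd1 : deg (up β : K → ℂ) = deg (β : K ⧸ Q → ℂ) * deg η := by
        apply Nat.cast_injective (R := ℂ)
        rw [Nat.cast_mul, ← irr_apply_one_eq_deg, ← irr_apply_one_eq_deg,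
          ← irr_apply_one_eq_deg ⟨η, hη⟩]
        rfl
      have hd2 : deg (upC γ : C → ℂ) = deg (γ : C ⧸ N → ℂ) * deg η := by
        apply Nat.cast_injective (R := ℂ)
        rw [Nat.cast_mul, ← irr_apply_one_eq_deg, ← irr_apply_one_eq_deg,
          ← irr_apply_one_eq_deg ⟨η, hη⟩]
        show infMul N η' (γ : C ⧸ N → ℂ) 1 = _
        simp [infMul, η']
      rw [hd1, hd2]
      push_cast
      rw [hmod]
      rcases hn1 with h1 | h1 <;> rw [h1]
      · left; ring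
      · right; ring
  · obtain ⟨β, hβ, rfl⟩ := hK χ hinv hover
    obtain ⟨β', hβ', rfl⟩ := hK χ' hinv' hover'
    obtain ⟨γ, rfl⟩ := hC ξ hξ
    rw [corr_injective hA hG hfix hβ hβ' ((hCorr β γ).1 hc) ((hCorr β' γ).1 hc')]
  · obtain ⟨γ, rfl⟩ := hC ξ hξ
    obtain ⟨β, hβ, hc⟩ := corr_surjective hA hG hfix γ
    refine ⟨up β, fun a g => ?_, (infMul_irr Q hη hθ β.2).2, (hCorr β γ).2 hc⟩
    show (β : K ⧸ Q → ℂ) (φb a (g : K ⧸ Q)) * η (φ a g) = (β : K ⧸ Q → ℂ) (g : K ⧸ Q) * η g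
    rw [hβ a, hηinv]

end InvariantTheta

omit [Fintype K] [Fintype C] h in
/-- A family of functions on a normal subgroup, of size prime to `p` and stable under the
operators, has an invariant member. -/
lemma exists_invQ (hA : IsPGroup p A) (hinv : ∀ a : A, ∀ q ∈ Q, φ a q ∈ Q) (O : Finset (Q → ℂ))
    (hnd : ¬ p ∣ O.card)
    (hO : ∀ a : A, ∀ ψ ∈ O, (fun q : Q => ψ ⟨φ a q, hinv a q q.2⟩) ∈ O) :
    ∃ ψ ∈ O, InvQ φ Q ψ := by
  classical
  letI : MulAction A O :=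
    { smul := fun a ψ => ⟨_, hO a⁻¹ ψ.1 ψ.2⟩
      one_smul := fun ψ => Subtype.ext (funext fun q => by
        show ψ.1 ⟨φ (1 : A)⁻¹ q, _⟩ = ψ.1 q
        exact congrArg ψ.1 (Subtype.ext (by simp)))
      mul_smul := fun a b ψ => Subtype.ext (funext fun q => by
        show ψ.1 ⟨φ (a * b)⁻¹ q, _⟩ = ψ.1 ⟨φ b⁻¹ (φ a⁻¹ q), _⟩
        exact congrArg ψ.1 (Subtype.ext (by simp [mul_inv_rev]))) }
  have hnd' : ¬ p ∣ Nat.card O := by rwa [Nat.card_eq_fintype_card, Fintype.card_coe]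
  obtain ⟨ψ, hψ⟩ := hA.nonempty_fixed_point_of_prime_not_dvd_card O hnd'
  refine ⟨ψ.1, ψ.2, fun a q q' hq => ?_⟩
  have h1 := congrFun (congrArg Subtype.val (hψ a⁻¹)) q
  change ψ.1 ⟨φ a⁻¹⁻¹ q, _⟩ = ψ.1 q at h1
  rw [← h1]
  exact congrArg ψ.1 (Subtype.ext (by simp [hq]))

section General

lemma card_conjOrbit_not_dvd {G : Type*} [Group G] [Fintype G] (N : Subgroup G) [N.Normal]
    {θ : N → ℂ} (hθ : IsClassFunction N θ) (hN : ¬ p ∣ N.index) :
    ¬ p ∣ (conjOrbit N θ).card := fun hd => by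
  have h1 := card_conjOrbit N θ
  rw [← (inertia N θ).index_mul_card] at h1
  rw [Nat.eq_of_mul_eq_mul_right Nat.card_pos h1] at hd
  exact hN (hd.trans (Subgroup.index_dvd_of_le (le_inertia hθ)))

/-- An invariant character of `K` has an invariant constituent on `Q`. -/
lemma exists_invQ_constituent {χ : IrrCharacter K} (hχ : Inv φ (χ : K → ℂ)) :
    ∃ θ : Q → ℂ, IsIrrCharacter Q θ ∧ InvQ φ Q θ ∧
      classInner (fun q : Q => (χ : K → ℂ) q) θ ≠ 0 := by
  classical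
  obtain ⟨θ₀, hθ₀, hθ₀c⟩ := exists_constituent Q (isCharacter_of_irr χ.2)
    (IsIrrCharacter.apply_one_ne_zero χ.2)
  have hmem : ∀ ψ ∈ conjOrbit Q θ₀, IsIrrCharacter Q ψ ∧
      classInner (fun q : Q => (χ : K → ℂ) q) ψ ≠ 0 := fun ψ hψ => by
    obtain ⟨g, rfl⟩ := (mem_conjOrbit Q).1 hψ
    exact ⟨IsIrrCharacter.conjN hθ₀ g,
      by rw [classInner_restrict_conjN Q (isClassFunction_irr χ)]; exact hθ₀c⟩
  obtain ⟨θ, hθ, hθi⟩ := exists_invQ h.pA h.inv (conjOrbit Q θ₀)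
    (card_conjOrbit_not_dvd h Q (isClassFunction_irr ⟨θ₀, hθ₀⟩) h.idx) fun a ψ hψ => by
      obtain ⟨hψi, hψc⟩ := hmem ψ hψ
      let f : Q →* Q :=
        { toFun := fun q => ⟨φ a q, h.inv a q q.2⟩
          map_one' := Subtype.ext (map_one (φ a))
          map_mul' := fun x y => Subtype.ext (map_mul (φ a) _ _) }
      have hf : Function.Bijective f := by
        refine ⟨fun x y hxy => Subtype.ext ((φ a).injective (congrArg Subtype.val hxy)),
          fun q => ⟨⟨φ a⁻¹ q, h.inv a⁻¹ q q.2⟩, Subtype.ext (by simp [f])⟩⟩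
      have h1 : IsIrrCharacter Q (fun q => ψ (f q)) :=
        IsIrrCharacter.comp_surjective hψi f hf.2
      have h2 : classInner (fun q : Q => (χ : K → ℂ) q) (fun q => ψ (f q)) ≠ 0 := by
        rw [show (fun q : Q => (χ : K → ℂ) q) = fun q => (fun q : Q => (χ : K → ℂ) q) (f q) from
          funext fun q => (hχ a q).symm]
        exact fun h0 => hψc (by rw [← classInner_comp_surjective f hf.2]; exact h0)
      obtain ⟨g, hg⟩ := exists_conjN_of_constituents Q χ.2 hθ₀ h1 hθ₀c h2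
      exact (mem_conjOrbit Q).2 ⟨g, hg.symm⟩
  exact ⟨θ, (hmem θ hθ).1, hθi, (hmem θ hθ).2⟩

lemma conjN_rN (θ : Q → ℂ) (c : C) :
    conjN (Q.comap ι) c (fun n => θ (rN Q ι n)) = fun n => conjN Q (ι c) θ (rN Q ι n) :=
  funext fun n => congrArg θ (Subtype.ext (by simp [rN]))

lemma comap_inertia (θ : Q → ℂ) :
    (inertia Q θ).comap ι = inertia (Q.comap ι) (fun n => θ (rN Q ι n)) := by
  ext c
  rw [Subgroup.mem_comap, mem_inertia, mem_inertia, conjN_rN h]
  refine ⟨fun hc => by rw [hc], fun hc => funext fun q => ?_⟩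
  obtain ⟨n, rfl⟩ := (rN_bij h).2 q
  exact congrFun hc n

/-- An invariant character of `C` has an invariant constituent on `Q`. -/
lemma exists_invQ_constituent_C {ξ : IrrCharacter C} (hξ : InvC φ ι (ξ : C → ℂ)) :
    ∃ θ : Q → ℂ, IsIrrCharacter Q θ ∧ InvQ φ Q θ ∧
      classInner (fun n : Q.comap ι => (ξ : C → ℂ) n) (fun n => θ (rN Q ι n)) ≠ 0 := by
  classical
  let e : Q ≃* Q.comap ι := (MulEquiv.ofBijective _ (rN_bij h)).symm
  have her : ∀ n, e (rN Q ι n) = n := fun n =>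
    (MulEquiv.ofBijective _ (rN_bij h)).symm_apply_apply n
  obtain ⟨ν, hν, hνc⟩ := exists_constituent (Q.comap ι) (isCharacter_of_irr ξ.2)
    (IsIrrCharacter.apply_one_ne_zero ξ.2)
  let θ₀ : Q → ℂ := fun q => ν (e q)
  have hθ₀ : IsIrrCharacter Q θ₀ := IsIrrCharacter.comp_mulEquiv hν e
  have hν' : (fun n => θ₀ (rN Q ι n)) = ν := funext fun n => by simp [θ₀, her]
  let O : Finset (Q → ℂ) := (conjOrbit (Q.comap ι) ν).image fun ψ q => ψ (e q)
  have hcard : O.card = (conjOrbit (Q.comap ι) ν).card :=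
    Finset.card_image_of_injective _ fun ψ ψ' hh => funext fun n => by
      simpa [her] using congrFun hh (rN Q ι n)
  have hmem : ∀ ψ ∈ O, IsIrrCharacter Q ψ ∧
      classInner (fun n : Q.comap ι => (ξ : C → ℂ) n) (fun n => ψ (rN Q ι n)) ≠ 0 := fun ψ hψ => by
    obtain ⟨χ, hχ, rfl⟩ := Finset.mem_image.1 hψ
    obtain ⟨g, rfl⟩ := (mem_conjOrbit (Q.comap ι)).1 hχ
    refine ⟨IsIrrCharacter.comp_mulEquiv (IsIrrCharacter.conjN hν g) e, ?_⟩
    simp only [her]
    rw [classInner_restrict_conjN _ (isClassFunction_irr ξ)]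
    exact hνc
  obtain ⟨θ, hθ, hθi⟩ := exists_invQ h.pA h.inv O
    (hcard ▸ card_conjOrbit_not_dvd h (Q.comap ι) (isClassFunction_irr ⟨ν, hν⟩)
      (not_dvd_index_comap h)) fun a ψ hψ => by
      obtain ⟨hψi, hψc⟩ := hmem ψ hψ
      let f : Q.comap ι → Q.comap ι := fun n => e ⟨φ a (ι n), h.inv a _ n.2⟩
      let fm : Q.comap ι →* Q.comap ι :=
        { toFun := f
          map_one' := by
            show e _ = 1
            rw [MulEquiv.map_eq_one_iff]
            exact Subtype.ext (by simp)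
          map_mul' := fun x y => by
            show e _ = e _ * e _
            rw [← map_mul]
            exact congrArg e (Subtype.ext (by simp)) }
      have hf : Function.Surjective fm := fun n => by
        refine ⟨e ⟨φ a⁻¹ (ι n), h.inv a⁻¹ _ n.2⟩, ?_⟩
        have h1 : rN Q ι (e ⟨φ a⁻¹ (ι n), h.inv a⁻¹ _ n.2⟩) = ⟨φ a⁻¹ (ι n), h.inv a⁻¹ _ n.2⟩ :=
          (MulEquiv.ofBijective _ (rN_bij h)).apply_symm_apply _
        show e _ = n
        conv_rhs => rw [← her n]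
        refine congrArg e (Subtype.ext ?_)
        show φ a _ = ι n
        rw [show ι (e ⟨φ a⁻¹ (ι n), h.inv a⁻¹ _ n.2⟩ : C) = φ a⁻¹ (ι n) from congrArg Subtype.val h1]
        simp
      have hr : ∀ n, rN Q ι (fm n) = ⟨φ a (ι n), h.inv a _ n.2⟩ := fun n =>
        (MulEquiv.ofBijective _ (rN_bij h)).apply_symm_apply _
      have h1 : IsIrrCharacter (Q.comap ι) (fun n => ψ (rN Q ι (fm n))) :=
        IsIrrCharacter.comp_surjective (irr_rN h hψi) fm hf
      have h2 : classInner (fun n : Q.comap ι => (ξ : C → ℂ) n)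
          (fun n => ψ (rN Q ι (fm n))) ≠ 0 := by
        rw [show (fun n : Q.comap ι => (ξ : C → ℂ) n) =
          fun n => (fun n : Q.comap ι => (ξ : C → ℂ) n) (fm n) from
          funext fun n => (hξ a n (fm n) (congrArg Subtype.val (hr n))).symm]
        exact fun h0 => hψc (by rw [← classInner_comp_surjective fm hf]; exact h0)
      obtain ⟨g, hg⟩ := exists_conjN_of_constituents (Q.comap ι) ξ.2 hν h1 hνc h2
      refine Finset.mem_image.2 ⟨_, (mem_conjOrbit (Q.comap ι)).2 ⟨g, hg.symm⟩, funext fun q => ?_⟩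
      obtain ⟨n, rfl⟩ := (rN_bij h).2 q
      simp only [her, hr]
      rfl
  exact ⟨θ, (hmem θ hθ).1, hθi, (hmem θ hθ).2⟩

section Theta

variable {θ : Q → ℂ} (hθ : IsIrrCharacter Q θ) (hθQ : InvQ φ Q θ)
include hθ hθQ

lemma inertia_inv (a : A) {t : K} (ht : t ∈ inertia Q θ) : φ a t ∈ inertia Q θ := by
  rw [mem_inertia] at ht ⊢
  funext q
  have h1 := hθQ a ⟨φ a⁻¹ q, h.inv a⁻¹ q q.2⟩ q (by simp)
  rw [h1]
  have h2 : ∀ r : Q, conjN Q t θ r = θ r := congrFun ht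
  have h3 := h2 ⟨φ a⁻¹ q, h.inv a⁻¹ q q.2⟩
  rw [← h3]
  exact hθQ a _ _ (by simp [conjN])

/-- Invariant constituents of an invariant character form one orbit under `C`. -/
lemma exists_conjN_fixed {g : K} (hg : InvQ φ Q (conjN Q g θ)) :
    ∃ c : C, conjN Q (ι c) θ = conjN Q g θ := by
  obtain ⟨c, hc⟩ := exists_fixed_in_coset h (inertia Q θ) (le_inertia (isClassFunction_irr ⟨θ, hθ⟩))
    g fun a t ht => by
      have hk : φ a g * g⁻¹ ∈ inertia Q θ := by
        rw [mem_inertia, conjN_mul]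
        have h1 : conjN Q (φ a g) θ = conjN Q g θ := funext fun q => by
          rw [hg a ⟨φ a⁻¹ q, h.inv a⁻¹ q q.2⟩ q (by simp)]
          exact hθQ a _ _ (by simp [conjN])
        rw [h1, ← conjN_mul, mul_inv_cancel, conjN_one]
      have h2 := (inertia Q θ).mul_mem (inertia_inv h hθ hθQ a ht) hk
      rwa [← mul_assoc, ← map_mul] at h2
  refine ⟨c, ?_⟩
  rw [mem_inertia] at hc
  conv_lhs => rw [show ι c = ι c * g⁻¹ * g by group, conjN_mul, hc]

lemma index_congr :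
    (((inertia Q θ).index : ℕ) : ZMod p) = (((inertia Q θ).comap ι).index : ZMod p) := by
  classical
  let O := conjOrbit Q θ
  let Of := O.filter fun ψ => InvQ φ Q ψ
  have hO : ∀ a, ∀ ψ ∈ O, (fun q : Q => ψ ⟨φ a q, h.inv a q q.2⟩) ∈ O := fun a ψ hψ => by
    obtain ⟨g, rfl⟩ := (mem_conjOrbit Q).1 hψ
    refine (mem_conjOrbit Q).2 ⟨φ a⁻¹ g, funext fun q => ?_⟩
    exact (hθQ a _ _ (by simp [conjN])).symm
  letI : MulAction A O :=
    { smul := fun a ψ => ⟨_, hO a⁻¹ ψ.1 ψ.2⟩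
      one_smul := fun ψ => Subtype.ext (funext fun q => by
        show ψ.1 ⟨φ (1 : A)⁻¹ q, _⟩ = ψ.1 q
        exact congrArg ψ.1 (Subtype.ext (by simp)))
      mul_smul := fun a b ψ => Subtype.ext (funext fun q => by
        show ψ.1 ⟨φ (a * b)⁻¹ q, _⟩ = ψ.1 ⟨φ b⁻¹ (φ a⁻¹ q), _⟩
        exact congrArg ψ.1 (Subtype.ext (by simp [mul_inv_rev]))) }
  have h1 := h.pA.card_modEq_card_fixedPoints O
  have h2 : Nat.card (MulAction.fixedPoints A O) = Of.card := by
    rw [← Fintype.card_coe, ← Nat.card_eq_fintype_card]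
    refine Nat.card_congr
      { toFun := fun x => ⟨x.1.1, Finset.mem_filter.2 ⟨x.1.2, fun a q q' hq => ?_⟩⟩
        invFun := fun y => ⟨⟨y.1, (Finset.mem_filter.1 y.2).1⟩, fun a => Subtype.ext (funext fun q =>
          (Finset.mem_filter.1 y.2).2 a⁻¹ q _ rfl)⟩
        left_inv := fun x => rfl
        right_inv := fun y => rfl }
    have h3 := congrFun (congrArg Subtype.val (x.2 a⁻¹)) q
    change x.1.1 ⟨φ a⁻¹⁻¹ q, _⟩ = x.1.1 q at h3
    rw [← h3]
    exact congrArg x.1.1 (Subtype.ext (by simp [hq]))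
  have h3 : Of.card = (conjOrbit (Q.comap ι) fun n => θ (rN Q ι n)).card := by
    refine Finset.card_bij (fun ψ _ n => ψ (rN Q ι n)) (fun ψ hψ => ?_) (fun ψ _ ψ' _ hh => ?_)
      fun ν hν => ?_
    · obtain ⟨hψO, hψi⟩ := Finset.mem_filter.1 hψ
      obtain ⟨g, rfl⟩ := (mem_conjOrbit Q).1 hψO
      obtain ⟨c, hc⟩ := exists_conjN_fixed h hθ hθQ hψi
      exact (mem_conjOrbit _).2 ⟨c, by rw [conjN_rN h, hc]⟩
    · funext q
      obtain ⟨n, rfl⟩ := (rN_bij h).2 q
      exact congrFun hh n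
    · obtain ⟨c, rfl⟩ := (mem_conjOrbit _).1 hν
      refine ⟨conjN Q (ι c) θ,
        Finset.mem_filter.2 ⟨(mem_conjOrbit Q).2 ⟨_, rfl⟩, fun a q q' hq => ?_⟩, (conjN_rN h θ c).symm⟩
      obtain ⟨d, hd, hde⟩ : ∃ d ∈ Q, φ a (ι c) = d * ι c :=
        ⟨_, fix_mod h c a, (inv_mul_cancel_right _ _).symm⟩
      have e1 : conjN Q (φ a (ι c)) θ = conjN Q (ι c) θ := by
        rw [hde, conjN_mul, conjN_of_mem (isClassFunction_irr ⟨θ, hθ⟩) ⟨d, hd⟩]
      conv_lhs => rw [← e1]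
      exact hθQ a _ _ (by simp [conjN, hq])
  have h4 := card_conjOrbit Q θ
  rw [← (inertia Q θ).index_mul_card] at h4
  have h5 := card_conjOrbit (Q.comap ι) fun n => θ (rN Q ι n)
  rw [← comap_inertia h, ← ((inertia Q θ).comap ι).index_mul_card] at h5
  rw [← Nat.eq_of_mul_eq_mul_right Nat.card_pos h4, ← Nat.eq_of_mul_eq_mul_right Nat.card_pos h5,
    ← h3, ← h2, ← Fintype.card_coe, ← Nat.card_eq_fintype_card]
  exact (ZMod.natCast_eq_natCast_iff _ _ _).2 h1

/-- The correspondence over an invariant constituent. -/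
theorem corr_over :
    (∀ χ : IrrCharacter K, Inv φ (χ : K → ℂ) → classInner (fun q : Q => (χ : K → ℂ) q) θ ≠ 0 →
      ∃ ξ : IrrCharacter C, InvC φ ι (ξ : C → ℂ) ∧
        (∃ m : ℕ, classInner (fun c => (χ : K → ℂ) (ι c)) (ξ : C → ℂ) = (m : ℂ) ∧
          ((m : ZMod p) = 1 ∨ (m : ZMod p) = -1)) ∧
        (∀ ξ' : IrrCharacter C, InvC φ ι (ξ' : C → ℂ) → Corr p ι χ ξ' → ξ' = ξ) ∧
        ((deg (ξ : C → ℂ) : ZMod p) = deg (χ : K → ℂ) ∨
          (deg (ξ : C → ℂ) : ZMod p) = -(deg (χ : K → ℂ) : ZMod p))) ∧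
    (∀ χ χ' : IrrCharacter K, Inv φ (χ : K → ℂ) → Inv φ (χ' : K → ℂ) →
      ∀ ξ : IrrCharacter C,
        classInner (fun n : Q.comap ι => (ξ : C → ℂ) n) (fun n => θ (rN Q ι n)) ≠ 0 →
        Corr p ι χ ξ → Corr p ι χ' ξ → χ = χ') ∧
    (∀ ξ : IrrCharacter C,
      classInner (fun n : Q.comap ι => (ξ : C → ℂ) n) (fun n => θ (rN Q ι n)) ≠ 0 →
      ∃ χ : IrrCharacter K, Inv φ (χ : K → ℂ) ∧ Corr p ι χ ξ) := by
  classical
  let T := inertia Q θ
  let D := T.comap ι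
  let θC : Q.comap ι → ℂ := fun n => θ (rN Q ι n)
  have hθC : IsIrrCharacter (Q.comap ι) θC := irr_rN h hθ
  have hQT : Q ≤ T := le_inertia (isClassFunction_irr ⟨θ, hθ⟩)
  have hND : Q.comap ι ≤ D := Subgroup.comap_mono hQT
  have hD : D = inertia (Q.comap ι) θC := comap_inertia h θ
  let φT : A →* MulAut T :=
    { toFun := fun a =>
        { toFun := fun t => ⟨φ a t, inertia_inv h hθ hθQ a t.2⟩
          invFun := fun t => ⟨φ a⁻¹ t, inertia_inv h hθ hθQ a⁻¹ t.2⟩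
          left_inv := fun t => Subtype.ext (by simp)
          right_inv := fun t => Subtype.ext (by simp)
          map_mul' := fun s t => Subtype.ext (map_mul (φ a) _ _) }
      map_one' := MulEquiv.ext fun t => Subtype.ext (by simp)
      map_mul' := fun a b => MulEquiv.ext fun t => Subtype.ext (by simp) }
  let ιT : D →* T :=
    { toFun := fun d => ⟨ι d, d.2⟩
      map_one' := Subtype.ext (map_one ι)
      map_mul' := fun _ _ => Subtype.ext (map_mul ι _ _) }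
  have hS : Setup p φT (Q.subgroupOf T) ιT := by
    refine ⟨h.pA, ?_, ?_, fun a q hq => h.inv a _ hq,
      fun x y hxy => Subtype.ext (h.inj (congrArg Subtype.val hxy)), fun k => ⟨fun hk => ?_, ?_⟩⟩
    · exact h.pQ.of_equiv (Subgroup.subgroupOfEquivOfLe hQT).symm
    · exact fun hd => h.idx (hd.trans (Q.relIndex_dvd_index_of_normal T))
    · obtain ⟨c, hc⟩ := (h.mem_iff k.1).1 fun a => hk a
      exact ⟨⟨c, show ι c ∈ T by rw [hc]; exact k.2⟩, Subtype.ext hc⟩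
    · rintro ⟨d, rfl⟩ a
      exact fix_mod h (d : C) a
  let θT : Q.subgroupOf T → ℂ := fun x => θ (Subgroup.subgroupOfEquivOfLe hQT x)
  have hθT : IsIrrCharacter (Q.subgroupOf T) θT := IsIrrCharacter.comp_mulEquiv hθ _
  have hθTQ : InvQ φT (Q.subgroupOf T) θT := fun a q q' hq =>
    hθQ a _ _ (congrArg Subtype.val hq)
  have hθTK : ∀ t : T, conjN (Q.subgroupOf T) t θT = θT := fun t => funext fun x =>
    congrFun (mem_inertia.1 t.2) (Subgroup.subgroupOfEquivOfLe hQT x)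
  -- the two ways to lie over `θ`
  have hoverT : ∀ ψ : T → ℂ, classInner (fun x : Q.subgroupOf T => ψ x) θT =
      classInner (fun q : Q => ψ ⟨q, hQT q.2⟩) θ := fun ψ => by
    rw [← classInner_comp_equiv (Subgroup.subgroupOfEquivOfLe hQT).toEquiv
      (fun q : Q => ψ ⟨q, hQT q.2⟩) θ]
    rfl
  have hoverD : ∀ η : D → ℂ,
      classInner (fun x : (Q.subgroupOf T).comap ιT => η x)
        (fun x => θT (rN (Q.subgroupOf T) ιT x)) =
      classInner (fun n : Q.comap ι => η ⟨n, hND n.2⟩) θC := fun η => by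
    let e : (Q.subgroupOf T).comap ιT ≃ Q.comap ι :=
      { toFun := fun x => ⟨(x : D), x.2⟩
        invFun := fun n => ⟨⟨n, hND n.2⟩, n.2⟩
        left_inv := fun x => rfl
        right_inv := fun n => rfl }
    rw [← classInner_comp_equiv e (fun n : Q.comap ι => η ⟨n, hND n.2⟩) θC]
    rfl
  obtain ⟨core1, core2, core3⟩ := corr_invariant hS hθT hθTQ hθTK
  have hDinv := fun (η : IrrCharacter D)
    (hη : classInner (fun n : Q.comap ι => (η : D → ℂ) ⟨n, hND n.2⟩) θC ≠ 0) =>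
    invC_of_over hS hθT hθTQ hθTK η.2 (by rw [hoverD]; exact hη)
  -- Clifford correspondent of an invariant character
  have hψ : ∀ χ : IrrCharacter K, Inv φ (χ : K → ℂ) →
      classInner (fun q : Q => (χ : K → ℂ) q) θ ≠ 0 →
      ∃ ψ : IrrCharacter T, indFun T (ψ : T → ℂ) = (χ : K → ℂ) ∧
        classInner (fun t : T => (χ : K → ℂ) t) (ψ : T → ℂ) ≠ 0 ∧
        classInner (fun x : Q.subgroupOf T => (ψ : T → ℂ) x) θT ≠ 0 ∧
        Inv φT (ψ : T → ℂ) ∧
        ∀ ψ' : T → ℂ, IsIrrCharacter T ψ' →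
          classInner (fun t : T => (χ : K → ℂ) t) ψ' ≠ 0 →
          classInner (fun q : Q => ψ' ⟨q, hQT q.2⟩) θ ≠ 0 → ψ' = (ψ : T → ℂ) := by
    intro χ hχ hover
    obtain ⟨ψ, hψi, hψχ, hψθ⟩ := exists_constituent_over T hQT (isCharacter_of_irr χ.2) hover
    obtain ⟨hind, -, huniq⟩ := clifford_correspondence hθ T rfl hQT χ.2 hψi hψχ hψθ
    refine ⟨⟨ψ, hψi⟩, hind, hψχ, by rw [hoverT]; exact hψθ, fun a t => congrFun (huniq
      (fun t => ψ (φT a t)) (twist (φT a) ⟨ψ, hψi⟩).2 ?_ ?_) t, huniq⟩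
    · rw [show (fun t : T => (χ : K → ℂ) t) = fun t => (fun t : T => (χ : K → ℂ) t) (φT a t) from
        funext fun t => (hχ a t).symm]
      exact fun h0 => hψχ (by
        rw [← classInner_comp_equiv (φT a).toEquiv]; exact h0)
    · intro h0
      apply hψθ
      let sQ : Q ≃ Q :=
        { toFun := fun q => ⟨φ a q, h.inv a q q.2⟩
          invFun := fun q => ⟨φ a⁻¹ q, h.inv a⁻¹ q q.2⟩
          left_inv := fun q => Subtype.ext (by simp)
          right_inv := fun q => Subtype.ext (by simp) }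
      rw [← classInner_comp_equiv sQ]
      rw [show (fun q : Q => θ (sQ q)) = θ from funext fun q => hθQ a q _ rfl]
      exact h0
  -- Clifford correspondent below
  have hη : ∀ ξ : IrrCharacter C,
      classInner (fun n : Q.comap ι => (ξ : C → ℂ) n) θC ≠ 0 →
      ∃ η : IrrCharacter D, indFun D (η : D → ℂ) = (ξ : C → ℂ) ∧
        classInner (fun n : Q.comap ι => (η : D → ℂ) ⟨n, hND n.2⟩) θC ≠ 0 := fun ξ hover => by
    obtain ⟨η, hηi, hηξ, hηθ⟩ := exists_constituent_over D hND (isCharacter_of_irr ξ.2) hover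
    exact ⟨⟨η, hηi⟩, (clifford_correspondence hθC D hD hND ξ.2 hηi hηξ hηθ).1, hηθ⟩
  have hind_over : ∀ η : IrrCharacter D,
      classInner (fun n : Q.comap ι => (η : D → ℂ) ⟨n, hND n.2⟩) θC ≠ 0 →
      ∃ ξ : IrrCharacter C, indFun D (η : D → ℂ) = (ξ : C → ℂ) ∧
        classInner (fun n : Q.comap ι => (ξ : C → ℂ) n) θC ≠ 0 := fun η hηθ => by
    obtain ⟨ξ, hξc⟩ : ∃ ξ : IrrCharacter C,
        classInner (fun d : D => (ξ : C → ℂ) d) (η : D → ℂ) ≠ 0 := by
      by_contra hno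
      push Not at hno
      have h0 := eq_zero_of_classInner_eq_zero (isClassFunction_indFun (G := C) D (η : D → ℂ))
        fun ξ => by rw [frobenius_reciprocity D _ (isClassFunction_irr ξ), ← classInner_conj_symm,
          hno ξ, map_zero]
      have h1 := congrFun h0 1
      rw [indFun_one, Pi.zero_apply, mul_eq_zero, Nat.cast_eq_zero] at h1
      exact h1.elim D.index_ne_zero_of_finite (IsIrrCharacter.apply_one_ne_zero η.2)
    exact ⟨ξ, (clifford_correspondence hθC D hD hND ξ.2 η.2 hξc hηθ).1,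
      classInner_pullback_ne_zero (Subgroup.inclusion hND)
        (IsCharacter.restrict (isCharacter_of_irr ξ.2) D) η.2 hξc hθC hηθ⟩
  -- multiplicities
  have hmult : ∀ (χ : IrrCharacter K) (ψ : IrrCharacter T) (ξ : IrrCharacter C)
      (η : IrrCharacter D), indFun T (ψ : T → ℂ) = (χ : K → ℂ) →
      (∀ ψ' : T → ℂ, IsIrrCharacter T ψ' →
        classInner (fun t : T => (χ : K → ℂ) t) ψ' ≠ 0 →
        classInner (fun q : Q => ψ' ⟨q, hQT q.2⟩) θ ≠ 0 → ψ' = (ψ : T → ℂ)) →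
      indFun D (η : D → ℂ) = (ξ : C → ℂ) →
      classInner (fun n : Q.comap ι => (η : D → ℂ) ⟨n, hND n.2⟩) θC ≠ 0 →
      classInner (fun c => (χ : K → ℂ) (ι c)) (ξ : C → ℂ) =
        classInner (fun d => (ψ : T → ℂ) (ιT d)) (η : D → ℂ) := by
    intro χ ψ ξ η hχ huniq hξ hηθ
    have h1 : classInner (fun c => (χ : K → ℂ) (ι c)) (ξ : C → ℂ) =
        classInner (fun d : D => (χ : K → ℂ) (ι d)) (η : D → ℂ) := by
      rw [← hξ, frobenius_reciprocity' D _
        (isClassFunction_isChar (IsCharacter.comp_hom (isCharacter_of_irr χ.2) ι))]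
    obtain ⟨m, hm⟩ := IsCharacter.exists_decomp (IsCharacter.restrict (isCharacter_of_irr χ.2) T)
    simp only [← Nat.cast_smul_eq_nsmul ℂ] at hm
    have hmval : ∀ δ : IrrCharacter T,
        classInner (fun t : T => (χ : K → ℂ) t) (δ : T → ℂ) = (m δ : ℂ) := fun δ => by
      rw [hm]; exact classInner_irrSum (fun δ => (m δ : ℂ)) δ
    have hmψ : (m ψ : ℂ) = 1 := by
      rw [← hmval, ← frobenius_reciprocity' T _ (isClassFunction_irr χ), hχ,
        classInner_self_irr χ.2]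
    have h2 : (fun d : D => (χ : K → ℂ) (ι d)) =
        ∑ δ : IrrCharacter T, (m δ : ℂ) • fun d => (δ : T → ℂ) (ιT d) := by
      funext d
      rw [show (χ : K → ℂ) (ι d) = (fun t : T => (χ : K → ℂ) t) (ιT d) from rfl, hm]
      simp [Finset.sum_apply]
    rw [h1, h2, classInner_sum_left]
    simp only [classInner_smul_left]
    rw [Finset.sum_eq_single ψ (fun δ _ hne => ?_) (fun hh => absurd (Finset.mem_univ _) hh),
      hmψ, one_mul]
    by_contra h0
    rw [mul_eq_zero, not_or] at h0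
    refine hne (Subtype.ext (huniq δ δ.2 (by rw [hmval]; exact h0.1) ?_))
    rw [← classInner_rN h]
    exact classInner_pullback_ne_zero (Subgroup.inclusion hND)
      (IsCharacter.comp_hom (isCharacter_of_irr δ.2) ιT) η.2 h0.2 hθC hηθ
  -- characters of `C` corresponding to an invariant character lie over `θ`
  have hover_of : ∀ (χ : IrrCharacter K) (ξ : IrrCharacter C) (ν : Q → ℂ), IsIrrCharacter Q ν →
      classInner (fun n : Q.comap ι => (ξ : C → ℂ) n) (fun n => ν (rN Q ι n)) ≠ 0 →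
      Corr p ι χ ξ → classInner (fun q : Q => (χ : K → ℂ) q) ν ≠ 0 := by
    rintro χ ξ ν hν hξν ⟨m, hm, hmd⟩
    rw [← classInner_rN h]
    refine classInner_pullback_ne_zero (Q.comap ι).subtype
      (IsCharacter.comp_hom (isCharacter_of_irr χ.2) ι) ξ.2 ?_ (irr_rN h hν) hξν
    rw [hm, Nat.cast_ne_zero]
    rintro rfl
    exact hmd (dvd_zero p)
  have hCinv : ∀ η : IrrCharacter D, ∀ ξ : IrrCharacter C, indFun D (η : D → ℂ) = (ξ : C → ℂ) →
      InvC φT ιT (η : D → ℂ) → InvC φ ι (ξ : C → ℂ) := by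
    intro η ξ hξ hinv a c c' hc
    let σ : C → C := fun x => (exists_image h x a).choose
    have hσ : ∀ x, ι (σ x) = φ a (ι x) := fun x => (exists_image h x a).choose_spec
    have hσb : Function.Bijective σ := Finite.injective_iff_bijective.1 fun x y hxy =>
      h.inj ((φ a).injective (by rw [← hσ, ← hσ, hxy]))
    have hσD : ∀ x, σ x ∈ D ↔ x ∈ D := fun x => by
      show ι (σ x) ∈ T ↔ ι x ∈ T
      rw [hσ]
      exact ⟨fun hx => by simpa using inertia_inv h hθ hθQ a⁻¹ hx, inertia_inv h hθ hθQ a⟩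
    have hσm : ∀ x y, σ (x * y) = σ x * σ y := fun x y =>
      h.inj (by rw [map_mul, hσ, hσ, hσ, map_mul, map_mul])
    have hσi : ∀ x, σ x⁻¹ = (σ x)⁻¹ := fun x => h.inj (by rw [map_inv, hσ, hσ, map_inv, map_inv])
    obtain rfl : c' = σ c := h.inj (by rw [hc, hσ])
    rw [← hξ, indFun_apply, indFun_apply]
    congr 1
    refine (Fintype.sum_equiv (Equiv.ofBijective σ hσb) _ _ fun x => ?_).symm
    have hx : (σ x)⁻¹ * σ c * σ x = σ (x⁻¹ * c * x) := by rw [hσm, hσm, hσi]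
    show _ = extendByZero D (η : D → ℂ) ((σ x)⁻¹ * σ c * σ x)
    rw [hx]
    by_cases hm : x⁻¹ * c * x ∈ D
    · rw [extendByZero_mem _ hm, extendByZero_mem _ ((hσD _).2 hm)]
      exact (hinv a ⟨_, hm⟩ ⟨_, (hσD _).2 hm⟩ (Subtype.ext (hσ _))).symm
    · rw [extendByZero_not_mem _ hm, extendByZero_not_mem _ (fun hh => hm ((hσD _).1 hh))]
  refine ⟨fun χ hχ hover => ?_, fun χ χ' hχ hχ' ξ hξ hc hc' => ?_, fun ξ hξ => ?_⟩
  · obtain ⟨ψ, hind, -, hψθ, hψinv, huniq⟩ := hψ χ hχ hover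
    obtain ⟨η, hηθ, ⟨m, hm, hm1⟩, hηu, hdeg⟩ := core1 ψ hψinv hψθ
    rw [hoverD] at hηθ
    obtain ⟨ξ, hξη, hξθ⟩ := hind_over η hηθ
    refine ⟨ξ, hCinv η ξ hξη (hDinv η hηθ), ⟨m, (hmult χ ψ ξ η hind huniq hξη hηθ).trans hm, hm1⟩,
      fun ξ' hξ'inv hc => ?_, ?_⟩
    · obtain ⟨ν, hν, hνQ, hνc⟩ := exists_invQ_constituent_C h hξ'inv
      obtain ⟨g, hg⟩ := exists_conjN_of_constituents Q χ.2 hθ hν hover (hover_of χ ξ' ν hν hνc hc)
      obtain ⟨c, hcg⟩ := exists_conjN_fixed h hθ hθQ (g := g) (hg ▸ hνQ)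
      rw [hg, ← hcg, ← conjN_rN h, classInner_restrict_conjN _ (isClassFunction_irr ξ')] at hνc
      obtain ⟨η', hξ'η, hη'θ⟩ := hη ξ' hνc
      have h1 : η' = η := hηu η' (by rw [hoverD]; exact hη'θ) (by
        obtain ⟨k, hk, hkd⟩ := hc
        exact ⟨k, (hmult χ ψ ξ' η' hind huniq hξ'η hη'θ).symm.trans hk, hkd⟩)
      exact Subtype.ext (by rw [← hξ'η, ← hξη, h1])
    · have hd1 : deg (χ : K → ℂ) = T.index * deg (ψ : T → ℂ) := by
        apply Nat.cast_injective (R := ℂ)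
        rw [Nat.cast_mul, ← irr_apply_one_eq_deg, ← irr_apply_one_eq_deg, ← hind, indFun_one]
      have hd2 : deg (ξ : C → ℂ) = D.index * deg (η : D → ℂ) := by
        apply Nat.cast_injective (R := ℂ)
        rw [Nat.cast_mul, ← irr_apply_one_eq_deg, ← irr_apply_one_eq_deg, ← hξη, indFun_one]
      rw [hd1, hd2, Nat.cast_mul, Nat.cast_mul,
        show (T.index : ZMod p) = (D.index : ZMod p) from index_congr h hθ hθQ]
      rcases hdeg with h1 | h1 <;> rw [h1]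
      · exact Or.inl rfl
      · exact Or.inr (mul_neg _ _)
  · have hover := hover_of χ ξ θ hθ hξ hc
    have hover' := hover_of χ' ξ θ hθ hξ hc'
    obtain ⟨ψ, hind, -, hψθ, hψinv, huniq⟩ := hψ χ hχ hover
    obtain ⟨ψ', hind', -, hψ'θ, hψ'inv, huniq'⟩ := hψ χ' hχ' hover'
    obtain ⟨η, hξη, hηθ⟩ := hη ξ hξ
    obtain ⟨k, hk, hkd⟩ := hc
    obtain ⟨k', hk', hkd'⟩ := hc'
    have h1 := core2 ψ ψ' hψinv hψ'inv hψθ hψ'θ η (by rw [hoverD]; exact hηθ)
      ⟨k, (hmult χ ψ ξ η hind huniq hξη hηθ).symm.trans hk, hkd⟩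
      ⟨k', (hmult χ' ψ' ξ η hind' huniq' hξη hηθ).symm.trans hk', hkd'⟩
    exact Subtype.ext (by rw [← hind, ← hind', h1])
  · obtain ⟨η, hξη, hηθ⟩ := hη ξ hξ
    obtain ⟨ψ, hψinv, hψθ, hc⟩ := core3 η (by rw [hoverD]; exact hηθ)
    rw [hoverT] at hψθ
    obtain ⟨χ, hχc⟩ : ∃ χ : IrrCharacter K,
        classInner (fun t : T => (χ : K → ℂ) t) (ψ : T → ℂ) ≠ 0 := by
      by_contra hno
      push Not at hno
      have h0 := eq_zero_of_classInner_eq_zero (isClassFunction_indFun (G := K) T (ψ : T → ℂ))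
        fun χ => by rw [frobenius_reciprocity T _ (isClassFunction_irr χ), ← classInner_conj_symm,
          hno χ, map_zero]
      have h1 := congrFun h0 1
      rw [indFun_one, Pi.zero_apply, mul_eq_zero, Nat.cast_eq_zero] at h1
      exact h1.elim T.index_ne_zero_of_finite (IsIrrCharacter.apply_one_ne_zero ψ.2)
    obtain ⟨hind, -, huniq⟩ := clifford_correspondence hθ T rfl hQT χ.2 ψ.2 hχc hψθ
    refine ⟨χ, fun a g => ?_, ?_⟩
    · rw [← hind, indFun_apply, indFun_apply]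
      congr 1
      refine (Fintype.sum_equiv (φ a).toEquiv _ _ fun x => ?_).symm
      show _ = extendByZero T (ψ : T → ℂ) ((φ a x)⁻¹ * φ a g * φ a x)
      rw [← map_inv, ← map_mul, ← map_mul]
      by_cases hm : x⁻¹ * g * x ∈ T
      · rw [extendByZero_mem _ hm, extendByZero_mem _ (inertia_inv h hθ hθQ a hm)]
        exact (hψinv a ⟨_, hm⟩).symm
      · rw [extendByZero_not_mem _ hm, extendByZero_not_mem _
          (fun hh => hm (by simpa using inertia_inv h hθ hθQ a⁻¹ hh))]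
    · obtain ⟨k, hk, hkd⟩ := hc
      exact ⟨k, (hmult χ ψ ξ η hind huniq hξη hηθ).trans hk, hkd⟩

end Theta

/-- **The relative correspondence.** -/
theorem exists_corr : ∃ f : {χ : IrrCharacter K // Inv φ (χ : K → ℂ)} →
      {ξ : IrrCharacter C // InvC φ ι (ξ : C → ℂ)},
    Function.Bijective f ∧ ∀ χ,
      (∀ ξ : {ξ : IrrCharacter C // InvC φ ι (ξ : C → ℂ)}, ∃ m : ℕ,
        classInner (fun c => (χ.1 : K → ℂ) (ι c)) (ξ.1 : C → ℂ) = (m : ℂ) ∧
        (ξ = f χ → ((m : ZMod p) = 1 ∨ (m : ZMod p) = -1)) ∧ (ξ ≠ f χ → p ∣ m)) ∧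
      ((deg ((f χ).1 : C → ℂ) : ZMod p) = deg (χ.1 : K → ℂ) ∨
        (deg ((f χ).1 : C → ℂ) : ZMod p) = -(deg (χ.1 : K → ℂ) : ZMod p)) := by
  classical
  have key : ∀ χ : {χ : IrrCharacter K // Inv φ (χ : K → ℂ)},
      ∃ ξ : {ξ : IrrCharacter C // InvC φ ι (ξ : C → ℂ)},
        (∃ m : ℕ, classInner (fun c => (χ.1 : K → ℂ) (ι c)) (ξ.1 : C → ℂ) = (m : ℂ) ∧
          ((m : ZMod p) = 1 ∨ (m : ZMod p) = -1)) ∧
        (∀ ξ' : {ξ : IrrCharacter C // InvC φ ι (ξ : C → ℂ)}, Corr p ι χ.1 ξ'.1 → ξ' = ξ) ∧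
        ((deg (ξ.1 : C → ℂ) : ZMod p) = deg (χ.1 : K → ℂ) ∨
          (deg (ξ.1 : C → ℂ) : ZMod p) = -(deg (χ.1 : K → ℂ) : ZMod p)) := fun χ => by
    obtain ⟨θ, hθ, hθQ, hθc⟩ := exists_invQ_constituent h χ.2
    obtain ⟨ξ, hξ, hm, hu, hd⟩ := (corr_over h hθ hθQ).1 χ.1 χ.2 hθc
    exact ⟨⟨ξ, hξ⟩, hm, fun ξ' hc => Subtype.ext (hu ξ'.1 ξ'.2 hc), hd⟩
  choose f hm hu hd using key
  have hcorr : ∀ χ, Corr p ι χ.1 (f χ).1 := fun χ => by
    obtain ⟨m, h1, h2⟩ := hm χ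
    refine ⟨m, h1, fun hd => ?_⟩
    rw [(ZMod.natCast_eq_zero_iff _ _).2 hd] at h2
    rcases h2 with h2 | h2
    · exact zero_ne_one h2
    · exact one_ne_zero (neg_eq_zero.1 h2.symm)
  refine ⟨f, ⟨fun χ χ' hh => ?_, fun ξ => ?_⟩, fun χ => ⟨fun ξ => ?_, hd χ⟩⟩
  · obtain ⟨θ, hθ, hθQ, hθc⟩ := exists_invQ_constituent_C h (f χ).2
    exact Subtype.ext ((corr_over h hθ hθQ).2.1 χ.1 χ'.1 χ.2 χ'.2 _ hθc (hcorr χ)
      (by rw [hh]; exact hcorr χ'))
  · obtain ⟨θ, hθ, hθQ, hθc⟩ := exists_invQ_constituent_C h ξ.2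
    obtain ⟨χ, hχ, hc⟩ := (corr_over h hθ hθQ).2.2 ξ.1 hθc
    exact ⟨⟨χ, hχ⟩, (hu ⟨χ, hχ⟩ ξ hc).symm⟩
  · by_cases he : ξ = f χ
    · obtain ⟨m, h1, h2⟩ := hm χ
      exact ⟨m, by rw [he]; exact h1, fun _ => h2, fun hne => absurd he hne⟩
    · obtain ⟨m, h1⟩ := classInner_char_nat
        (IsCharacter.comp_hom (isCharacter_of_irr χ.1.2) ι) (isCharacter_of_irr ξ.1.2)
      exact ⟨m, h1, fun hh => absurd hh he,
        fun _ => by_contra fun hdv => he (hu χ ξ ⟨m, h1, hdv⟩)⟩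

end General

end Cfsg.Lib.RelGlauberman
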