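/-
Counting the characters of `p'`-degree in the principal block over a normal subgroup with
cyclic `p`-power quotient, fixed by a Galois conjugation.
-/
import Cfsg.Agent.Blocks.Covering
import Cfsg.Agent.Blocks.PResidualChars
import Cfsg.Agent.Blocks.RationalExtension
import Cfsg.Agent.Blocks.Defect
import Cfsg.Agent.Chars.Galois
import Mathlib

set_option autoImplicit false
set_option linter.unusedSectionVars false

namespace Cfsg.Lib.ResidualCyclicCount

open Cfsg Cfsg.Lib.Chars Cfsg.Lib.Blocks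

universe u

variable {G : Type u} [Group G] [Fintype G]

/-- An exponent acting as `1+p` on `p`-elements and trivially on `p'`-elements is prime to the
order of the group. -/
lemma coprime_card {p : ℕ} (hp : p.Prime) {k : ℕ}
    (hk₁ : ∀ g : G, (∃ j : ℕ, orderOf g = p ^ j) → g ^ k = g ^ (1 + p))
    (hk₂ : ∀ g : G, Nat.Coprime (orderOf g) p → g ^ k = g) :
    k.Coprime (Nat.card G) := by
  refine Nat.coprime_of_dvd fun q hq hqk hqn => ?_
  haveI := Fact.mk hq
  obtain ⟨g, hg⟩ := exists_prime_orderOf_dvd_card' (G := G) q hqn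
  have h1 : g ^ k = 1 := orderOf_dvd_iff_pow_eq_one.1 (hg ▸ hqk)
  have hg1 : g = 1 := by
    by_cases hqp : q = p
    · subst hqp
      have h2 := hk₁ g ⟨1, by rw [pow_one, hg]⟩
      rw [h1, pow_add, pow_one] at h2
      have h3 : g ^ q = 1 := orderOf_dvd_iff_pow_eq_one.1 (by rw [hg])
      rw [h3, mul_one] at h2
      exact h2.symm
    · have h2 := hk₂ g (by rw [hg]; exact (Nat.coprime_primes hq hp).2 hqp)
      rw [h1] at h2
      exact h2.symm
  rw [hg1, orderOf_one] at hg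
  exact hq.ne_one hg.symm

/-- An irreducible character of degree prime to `p` restricts irreducibly to a normal subgroup of
`p`-power index. -/
lemma exists_restriction {p : ℕ} (hp : p.Prime) (N : Subgroup G) [N.Normal] [Fintype N] {a : ℕ}
    (hidx : N.index = p ^ a) (χ : IrrCharacter G) (hχ : ¬ p ∣ deg (χ : G → ℂ)) :
    ∃ θ : IrrCharacter N, (∀ g : G, conjN N g (θ : N → ℂ) = (θ : N → ℂ)) ∧
      (∀ n : N, (χ : G → ℂ) n = (θ : N → ℂ) n) ∧
      deg (θ : N → ℂ) = deg (χ : G → ℂ) := by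
  classical
  haveI := Fact.mk hp
  have hdvd1 : ∀ m : ℕ, m ∣ N.index → ¬ p ∣ m → m = 1 := fun m h1 h2 =>
    Nat.eq_one_of_dvd_coprimes
      (show Nat.Coprime N.index m by rw [hidx]; exact Nat.Coprime.pow_left a (hp.coprime_iff_not_dvd.2 h2))
      h1 dvd_rfl
  obtain ⟨θ, hθ, hc⟩ := exists_constituent N (isCharacter_of_irr χ.2)
    (IsIrrCharacter.apply_one_ne_zero χ.2)
  obtain ⟨e, he⟩ := IsCharacter.exists_mult (IsCharacter.restrict (isCharacter_of_irr χ.2) N) hθ
  have hcl := clifford N χ.2 hθ hc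
  rw [he] at hcl
  have h1 : deg (χ : G → ℂ) = e * ((conjOrbit N θ).card * deg θ) := by
    apply Nat.cast_injective (R := ℂ)
    rw [← irr_apply_one_eq_deg χ]
    have h2 := congrFun hcl 1
    simp only [OneMemClass.coe_one, Pi.smul_apply, Finset.sum_apply, smul_eq_mul] at h2
    rw [h2, Finset.sum_congr rfl (g := fun _ => θ 1) fun ψ hψ => ?_, Finset.sum_const, nsmul_eq_mul,
      show θ 1 = (deg θ : ℂ) from irr_apply_one_eq_deg ⟨θ, hθ⟩]
    · push_cast; ring
    · obtain ⟨g, rfl⟩ := (mem_conjOrbit N).1 hψ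
      simp [conjN]; rfl
  have horb : (conjOrbit N θ).card = 1 := by
    refine hdvd1 _ ?_ fun h => hχ (h1 ▸ dvd_mul_of_dvd_right (dvd_mul_of_dvd_left h _) e)
    have h2 := card_conjOrbit N θ
    have h3 : Nat.card N ∣ Nat.card (inertia N θ) :=
      Subgroup.card_dvd_of_le (le_inertia (isClassFunction_isChar (isCharacter_of_irr hθ)))
    obtain ⟨c, hc'⟩ := h3
    rw [hc', ← Subgroup.index_mul_card N] at h2
    exact ⟨c, Nat.eq_of_mul_eq_mul_right (Nat.card_pos (α := N)) (by rw [← h2]; ring)⟩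
  have hinv : ∀ g : G, conjN N g θ = θ := fun g =>
    (Finset.card_le_one.1 horb.le) _ ((mem_conjOrbit N).2 ⟨g, rfl⟩) _
      ((mem_conjOrbit N).2 ⟨1, conjN_one N θ⟩)
  have hsum : ∑ ψ ∈ conjOrbit N θ, ψ = θ := by
    rw [Finset.sum_eq_single_of_mem θ ((mem_conjOrbit N).2 ⟨1, conjN_one N θ⟩)]
    intro ψ hψ hne
    obtain ⟨g, rfl⟩ := (mem_conjOrbit N).1 hψ
    exact absurd (hinv g) hne
  rw [hsum] at hcl
  have he1 : e = 1 := by
    refine hdvd1 e ?_ fun h => hχ (h1 ▸ dvd_mul_of_dvd_left h _)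
    obtain ⟨m, ρ, hρ, rfl⟩ := hθ
    obtain ⟨m', σ, hσ, hσχ⟩ := χ.2
    haveI := hρ
    haveI := hσ
    refine finrank_dvd_of_invariant N ρ σ hinv ?_
    rw [hσχ]; exact hcl
  rw [he1, Nat.cast_one, one_smul] at hcl
  refine ⟨⟨θ, hθ⟩, hinv, congrFun hcl, ?_⟩
  show deg θ = _
  rw [h1, he1, horb]; ring

/-- A restriction which is irreducible is a constituent. -/
lemma constituent_of_restrict (N : Subgroup G) [N.Normal] [Fintype N] {χ : G → ℂ}
    {θ : IrrCharacter N} (h : ∀ n : N, χ n = (θ : N → ℂ) n) :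
    classInner (fun n : N => χ n) (θ : N → ℂ) ≠ 0 := by
  rw [show (fun n : N => χ n) = (θ : N → ℂ) from funext h, classInner_self_irr θ.2]
  exact one_ne_zero

/-- The extensions fixed by the Galois conjugation: there are `p` of them. -/
lemma card_fixed_extensions {p : ℕ} [Fact p.Prime] (P : Sylow p G) (N : Subgroup G) [N.Normal]
    [Fintype N] {a : ℕ} (hidx : N.index = p ^ a) (ha : a ≠ 0) (hcyc : IsCyclic (G ⧸ N))
    {k : ℕ} (hkG : k.Coprime (Nat.card G))
    (hk₁ : ∀ g : G, (∃ j : ℕ, orderOf g = p ^ j) → g ^ k = g ^ (1 + p))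
    (θ : IrrCharacter N) (hinv : ∀ g : G, conjN N g (θ : N → ℂ) = (θ : N → ℂ))
    (hd : ¬ p ∣ deg (θ : N → ℂ)) (ho : ¬ p ∣ detOrder (θ : N → ℂ))
    (hfix : ∀ n : N, (θ : N → ℂ) (n ^ k) = (θ : N → ℂ) n) :
    Nat.card {χ : IrrCharacter G // (∀ n : N, (χ : G → ℂ) n = (θ : N → ℂ) n) ∧
      ∀ g : G, (χ : G → ℂ) (g ^ k) = (χ : G → ℂ) g} = p := by
  classical
  have hp : p.Prime := Fact.out
  obtain ⟨σ, hσ⟩ := exists_galConj_auto (m := Nat.card G) hkG
  have hdet : Nat.Coprime N.index (detOrder (θ : N → ℂ) * deg (θ : N → ℂ)) := by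
    rw [hidx]
    exact Nat.Coprime.pow_left a
      (Nat.Coprime.mul_right (hp.coprime_iff_not_dvd.2 ho) (hp.coprime_iff_not_dvd.2 hd))
  obtain ⟨η, ⟨hη, hηN, hηo⟩, huniq⟩ :=
    exists_canonical_extension N θ.2 hinv (irr_apply_one_eq_deg θ) hdet
  have hηc := isCharacter_of_irr hη
  have hσG : ∀ g : G, σ (η g) = η (g ^ k) := fun g =>
    hσ.apply_character hηc (orderOf_dvd_natCard g)
  have hηfix : ∀ g : G, η (g ^ k) = η g := by
    have h := huniq (fun g => σ (η g)) (IsIrrCharacter.map_auto hη σ)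
      (fun n => by
        show σ (η n) = _
        rw [hσG, ← SubgroupClass.coe_pow, hηN, hfix])
      (by rw [detOrder_map_auto' hηc, hηo]; exact Nat.Coprime.coprime_mul_right_right hdet)
    intro g
    rw [← hσG]
    exact congrFun h g
  -- linear characters of the quotient
  have hpow : ∀ f : G →* ℂˣ, (∀ n : N, f n = 1) → ∀ g : G, f (g ^ k) = f g * f g ^ p := by
    intro f hf g
    have hg : g ∈ N ⊔ (P : Subgroup G) := by
      rw [Cfsg.Lib.Transfer.sup_sylow_eq_top hidx P]; exact Subgroup.mem_top g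
    obtain ⟨n, hn, x, hx, rfl⟩ := Subgroup.mem_sup_of_normal_left.1 hg
    have hfx : f (n * x) = f x := by rw [map_mul, hf ⟨n, hn⟩, one_mul]
    obtain ⟨j, hj⟩ := P.2 ⟨x, hx⟩
    have hxo : ∃ j : ℕ, orderOf x = p ^ j := by
      obtain ⟨i, -, hi⟩ := (Nat.dvd_prime_pow hp).1
        (orderOf_dvd_of_pow_eq_one (x := x) (n := p ^ j) (by
          have := congrArg Subtype.val hj
          simpa using this))
      exact ⟨i, hi⟩
    rw [map_pow, hfx, ← map_pow, hk₁ x hxo, map_pow, pow_add, pow_one]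
  -- a generator of the quotient
  obtain ⟨c, hc⟩ := hcyc.exists_generator
  obtain ⟨g₀, rfl⟩ := QuotientGroup.mk_surjective c
  have hinj : ∀ f f' : G →* ℂˣ, (∀ n : N, f n = 1) → (∀ n : N, f' n = 1) → f g₀ = f' g₀ →
      f = f' := by
    intro f f' hf hf' h
    ext g : 1
    obtain ⟨i, hi⟩ := Subgroup.mem_zpowers_iff.1 (hc (QuotientGroup.mk g))
    have hi' : (g₀ ^ i)⁻¹ * g ∈ N := QuotientGroup.eq.1 (by rw [← hi]; rfl)
    have e1 : f ((g₀ ^ i)⁻¹ * g) = 1 := hf ⟨_, hi'⟩
    have e2 : f' ((g₀ ^ i)⁻¹ * g) = 1 := hf' ⟨_, hi'⟩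
    rw [show g = g₀ ^ i * ((g₀ ^ i)⁻¹ * g) by group, map_mul f (g₀ ^ i), map_mul f' (g₀ ^ i), e1,
      e2, map_zpow, map_zpow, h]
  have hord : orderOf (QuotientGroup.mk g₀ : G ⧸ N) = p ^ a := by
    rw [orderOf_eq_card_of_forall_mem_zpowers hc, ← Subgroup.index_eq_card, hidx]
  let L := {f : G →* ℂˣ // (∀ n : N, f n = 1) ∧ f ^ p = 1}
  have hmuleq : ∀ f f' : G →* ℂˣ, (∀ n : N, f n = 1) → (∀ n : N, f' n = 1) →
      ((fun g => (f g : ℂ)) * η = (fun g => (f' g : ℂ)) * η) → f = f' := by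
    intro f f' hf hf' h
    have hone : IsIrrCharacter N (fun _ => 1) := isIrrCharacter_one
    have hres : ((fun _ => 1) * fun n : N => η n) = (θ : N → ℂ) := funext fun n => by simp [hηN]
    have hbij := gallagher N hone (fun g => funext fun n => rfl) hη (by rw [hres]; exact θ.2)
    have hmem : ∀ f : G →* ℂˣ, (∀ n : N, f n = 1) →
        IsIrrCharacter G (fun g => (f g : ℂ)) ∧
          classInner (indFun N fun _ => 1) (fun g => (f g : ℂ)) ≠ 0 := by
      intro f hf
      refine ⟨isIrrCharacter_linear f, ?_⟩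
      rw [frobenius_reciprocity N _
          (isClassFunction_isChar (isCharacter_of_irr (isIrrCharacter_linear f))),
        show (fun n : N => (f n : ℂ)) = fun _ => 1 from funext fun n => by rw [hf]; rfl,
        classInner_self_irr hone]
      exact one_ne_zero
    exact MonoidHom.ext fun g => Units.ext (congrFun (hbij.injOn (hmem f hf) (hmem f' hf') h) g)
  let Φ : L → {χ : IrrCharacter G // (∀ n : N, (χ : G → ℂ) n = (θ : N → ℂ) n) ∧
      ∀ g : G, (χ : G → ℂ) (g ^ k) = (χ : G → ℂ) g} := fun f =>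
    ⟨⟨(fun g => (f.1 g : ℂ)) * η, IsIrrCharacter.mul_linear hη f.1⟩,
      fun n => by
        show (f.1 n : ℂ) * η n = _
        rw [f.2.1, Units.val_one, one_mul, hηN],
      fun g => by
        show (f.1 (g ^ k) : ℂ) * η (g ^ k) = (f.1 g : ℂ) * η g
        rw [hpow f.1 f.2.1, hηfix, ← MonoidHom.pow_apply f.1 p, f.2.2, MonoidHom.one_apply,
          mul_one]⟩
  have hΦ : Function.Bijective Φ := by
    refine ⟨fun f f' h => Subtype.ext (hmuleq _ _ f.2.1 f'.2.1
      (congrArg (fun x => ((x.1 : IrrCharacter G) : G → ℂ)) h)), ?_⟩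
    rintro ⟨χ, hχN, hχk⟩
    obtain ⟨f, hf, hχ⟩ := exists_linear_of_extensions N θ.2 hη χ.2 hηN hχN
    have hfp : f ^ p = 1 := by
      let f' : G →* ℂˣ := f * f ^ p
      have hf' : ∀ n : N, f' n = 1 := fun n => by simp [f', hf]
      have h : f' = f := hmuleq _ _ hf' hf (funext fun g => by
        have h1 := hχk g
        rw [hχ] at h1
        simp only [Pi.mul_apply] at h1 ⊢
        rw [hηfix, hpow f hf] at h1
        simpa [f'] using h1)
      exact MonoidHom.ext fun x => mul_eq_left.1 (DFunLike.congr_fun h x)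
    exact ⟨⟨f, hf, hfp⟩, Subtype.ext (Subtype.ext hχ.symm)⟩
  rw [← Nat.card_eq_of_bijective Φ hΦ]
  -- evaluation at the generator
  let Ψ : L → rootsOfUnity p ℂ := fun f => ⟨f.1 g₀, by
    rw [mem_rootsOfUnity, ← MonoidHom.pow_apply, f.2.2, MonoidHom.one_apply]⟩
  have hΨ : Function.Bijective Ψ := by
    refine ⟨fun f f' h => Subtype.ext (hinj _ _ f.2.1 f'.2.1 (congrArg Subtype.val h)), ?_⟩
    rintro ⟨ω, hω⟩
    rw [mem_rootsOfUnity] at hω
    have hdvd : orderOf ω ∣ orderOf (QuotientGroup.mk g₀ : G ⧸ N) :=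
      (orderOf_dvd_of_pow_eq_one hω).trans (hord ▸ dvd_pow_self p ha)
    let f₀ : G ⧸ N →* ℂˣ := monoidHomOfForallMemZpowers hc hdvd
    have h0 : ∀ n : N, f₀.comp (QuotientGroup.mk' N) n = 1 := fun n => by
      show f₀ (QuotientGroup.mk (n : G)) = 1
      rw [(QuotientGroup.eq_one_iff _).2 n.2, map_one]
    have hg₀ : f₀.comp (QuotientGroup.mk' N) g₀ = ω :=
      monoidHomOfForallMemZpowers_apply_gen hc hdvd
    have hp' : (f₀.comp (QuotientGroup.mk' N)) ^ p = 1 := hinj _ _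
      (fun n => by rw [MonoidHom.pow_apply, h0, one_pow]) (fun n => rfl)
      (by rw [MonoidHom.pow_apply, hg₀, hω, MonoidHom.one_apply])
    exact ⟨⟨_, h0, hp'⟩, Subtype.ext hg₀⟩
  rw [Nat.card_eq_of_bijective Ψ hΨ, HasEnoughRootsOfUnity.natCard_rootsOfUnity ℂ p]

/-- The count. -/
theorem card_eq {p : ℕ} [Fact p.Prime] (M : Ideal AlgInt) (hM : IsPModular p M) (P : Sylow p G)
    (N : Subgroup G) [hN : N.Normal] [Fintype N] (hNres : N = pResidual p G)
    (hcyc : IsCyclic (G ⧸ N)) (hnt : N ≠ ⊤) {k : ℕ}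
    (hk₁ : ∀ g : G, (∃ j : ℕ, orderOf g = p ^ j) → g ^ k = g ^ (1 + p))
    (hk₂ : ∀ g : G, Nat.Coprime (orderOf g) p → g ^ k = g) :
    Nat.card {χ : IrrCharacter G // χ ∈ principalBlock M G ∧
        ¬ p ∣ charDegree (χ : G → ℂ) ∧ ∀ g : G, (χ : G → ℂ) (g ^ k) = (χ : G → ℂ) g} =
      p * Nat.card {θ : IrrCharacter N // θ ∈ principalBlock M N ∧
        ¬ p ∣ charDegree (θ : N → ℂ) ∧
        (∀ x ∈ (P : Subgroup G), ∀ n : N,
          (θ : N → ℂ) ⟨x * n * x⁻¹, hN.conj_mem n n.2 x⟩ = (θ : N → ℂ) n) ∧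
        ∀ n : N, (θ : N → ℂ) (n ^ k) = (θ : N → ℂ) n} := by
  classical
  have hp : p.Prime := Fact.out
  obtain ⟨a, hidx⟩ : ∃ a, N.index = p ^ a := by
    rw [hNres]; exact Cfsg.Lib.Transfer.exists_index_pResidual
  have ha : a ≠ 0 := by
    rintro rfl
    exact hnt (Subgroup.index_eq_one.1 (by rw [hidx, pow_zero]))
  have hkG : k.Coprime (Nat.card G) := coprime_card hp hk₁ hk₂
  have hbN : IsPBlock M (principalBlock M N) := isPBlock_blockOf (principal N)
  have hbG : IsPBlock M (principalBlock M G) := isPBlock_blockOf (principal G)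
  have hprinN : (principal N : IrrCharacter N) ∈ principalBlock M N :=
    mem_blockOf_self hM (principal N)
  have hprinG : (principal G : IrrCharacter G) ∈ principalBlock M G :=
    mem_blockOf_self hM (principal G)
  have hprin : classInner (fun n : N => ((principal G : IrrCharacter G) : G → ℂ) n)
      ((principal N : IrrCharacter N) : N → ℂ) ≠ 0 :=
    constituent_of_restrict N fun _ => rfl
  let A := {χ : IrrCharacter G // χ ∈ principalBlock M G ∧
    ¬ p ∣ charDegree (χ : G → ℂ) ∧ ∀ g : G, (χ : G → ℂ) (g ^ k) = (χ : G → ℂ) g}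
  let T := {θ : IrrCharacter N // θ ∈ principalBlock M N ∧
    ¬ p ∣ charDegree (θ : N → ℂ) ∧
    (∀ x ∈ (P : Subgroup G), ∀ n : N,
      (θ : N → ℂ) ⟨x * n * x⁻¹, hN.conj_mem n n.2 x⟩ = (θ : N → ℂ) n) ∧
    ∀ n : N, (θ : N → ℂ) (n ^ k) = (θ : N → ℂ) n}
  have hA : ∀ χ : A, ∃ t : T, ∀ n : N, ((χ.1 : IrrCharacter G) : G → ℂ) n =
      ((t.1 : IrrCharacter N) : N → ℂ) n := by
    rintro ⟨χ, hχB, hχd, hχk⟩
    obtain ⟨θ, hinv, hres, hdeg⟩ := exists_restriction hp N hidx χ hχd
    obtain ⟨g, θ', hθ', he⟩ := constituent_mem_orb hM hbG hbN hprinG hχB hprinN hprin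
      (constituent_of_restrict N hres)
    have h1 : θ' = θ := by
      have h2 : cjIrr N g⁻¹ θ = θ' := by rw [he, ← cjIrr_mul, mul_inv_cancel, cjIrr_one]
      rw [← h2]
      exact Subtype.ext (by rw [cjIrr_val, hinv])
    refine ⟨⟨θ, h1 ▸ hθ', ?_, fun x _ n => congrFun (hinv x) n, fun n => ?_⟩, hres⟩
    · rw [charDegree_eq_deg, hdeg]; exact hχd
    · rw [← hres, ← hres, SubgroupClass.coe_pow, hχk]
  choose R hR using hA
  have hfib : ∀ t : T, Nat.card {χ : A // R χ = t} = p := by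
    intro t
    obtain ⟨θ, hθB, hθd, hθP, hθk⟩ := t
    have hinv : ∀ g : G, conjN N g (θ : N → ℂ) = (θ : N → ℂ) := by
      intro g
      have hle : N ⊔ (P : Subgroup G) ≤ inertia N (θ : N → ℂ) :=
        sup_le (le_inertia (isClassFunction_irr θ)) fun x hx =>
          mem_inertia.2 (funext fun n => hθP x hx n)
      rw [Cfsg.Lib.Transfer.sup_sylow_eq_top hidx P] at hle
      exact mem_inertia.1 (hle (Subgroup.mem_top g))
    have ho : ¬ p ∣ detOrder (θ : N → ℂ) := by
      subst hNres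
      exact not_dvd_detOrder p θ.2
    refine Eq.trans (Nat.card_congr ?_) (card_fixed_extensions P N hidx ha hcyc hkG hk₁ θ hinv hθd ho hθk)
    refine
      { toFun := fun x => ⟨x.1.1, fun n => by
          have h := hR x.1 n
          rw [x.2] at h
          exact h, x.1.2.2.2⟩
        invFun := fun y => ⟨⟨y.1, ?_, ?_, y.2.2⟩, ?_⟩
        left_inv := fun x => rfl
        right_inv := fun y => rfl }
    · -- the block is covering
      have hcov := existsUnique_covering hM N hidx hbN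
      have h1 : principalBlock M G = blockOf M (y.1 : G → ℂ) :=
        hcov.unique ⟨hbG, principal G, hprinG, principal N, hprinN, hprin⟩
          ⟨isPBlock_blockOf y.1, y.1, mem_blockOf_self hM y.1, θ, hθB,
            constituent_of_restrict N y.2.1⟩
      rw [h1]
      exact mem_blockOf_self hM y.1
    · have e : deg (y.1 : G → ℂ) = deg (θ : N → ℂ) := Nat.cast_injective (R := ℂ) (by
        rw [← irr_apply_one_eq_deg y.1, ← irr_apply_one_eq_deg θ]; exact y.2.1 1)
      rw [charDegree_eq_deg, e]; exact hθd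
    · exact Subtype.ext (Subtype.ext (funext fun n => (hR _ n).symm.trans (y.2.1 n)))
  haveI : Fintype T := Fintype.ofFinite _
  calc Nat.card A = Nat.card (Σ t : T, {χ : A // R χ = t}) :=
        Nat.card_congr (Equiv.sigmaFiberEquiv R).symm
    _ = ∑ _t : T, p := by rw [Nat.card_sigma]; exact Finset.sum_congr rfl fun t _ => hfib t
    _ = p * Nat.card T := by
      rw [Finset.sum_const, Finset.card_univ, smul_eq_mul, Nat.card_eq_fintype_card, mul_comm]

end Cfsg.Lib.ResidualCyclicCount
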