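/-
Groups with a self-centralising subgroup of prime order.
-/
import Cfsg.Agent.Components.Cores
import Mathlib

namespace Cfsg.Lib.Blocks

open Subgroup

variable {G : Type*} [Group G] [Finite G] {p : ℕ} {x : G}

lemma exists_sylow_zpowers (hp : p.Prime) (hx : orderOf x = p)
    (hC : Subgroup.centralizer ({x} : Set G) = Subgroup.zpowers x) :
    ∃ P : Sylow p G, (P : Subgroup G) = Subgroup.zpowers x := by
  classical
  haveI := Fact.mk hp
  set X := Subgroup.zpowers x with hX
  have hXc : Nat.card X = p := by rw [hX, Nat.card_zpowers, hx]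
  have hXp : IsPGroup p X := IsPGroup.of_card (n := 1) (by rw [hXc, pow_one])
  obtain ⟨P, hP⟩ := hXp.exists_le_sylow
  have hPX : (P : Subgroup G) = X := by
    refine le_antisymm (fun y hy => ?_) hP
    haveI : Nontrivial (P : Subgroup G) := ⟨⟨⟨x, hP (Subgroup.mem_zpowers x)⟩, 1, fun h => by
      have h1 : x = 1 := congrArg Subtype.val h
      rw [h1, orderOf_one] at hx
      exact hp.one_lt.ne hx⟩⟩
    have hcn := IsPGroup.center_nontrivial (p := p) (G := (P : Subgroup G)) P.2
    obtain ⟨z, hz⟩ := exists_ne (1 : Subgroup.center (P : Subgroup G))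
    have hzC : ((z : (P : Subgroup G)) : G) ∈ X := by
      rw [← hC, Subgroup.mem_centralizer_singleton_iff]
      exact (congrArg Subtype.val
        ((Subgroup.mem_center_iff.1 z.2) ⟨x, hP (Subgroup.mem_zpowers x)⟩)).symm
    have hz1 : ((z : (P : Subgroup G)) : G) ≠ 1 := fun h => hz (Subtype.ext (Subtype.ext h))
    have hzX : Subgroup.zpowers ((z : (P : Subgroup G)) : G) = X := by
      refine Subgroup.eq_of_le_of_card_ge (Subgroup.zpowers_le.2 hzC) ?_
      rw [hXc]
      rcases (Nat.dvd_prime hp).1 (hXc ▸ Subgroup.card_dvd_of_le (Subgroup.zpowers_le.2 hzC)) with h | h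
      · exact absurd (orderOf_eq_one_iff.1 ((Nat.card_zpowers _).symm.trans h)) hz1
      · exact h.ge
    have hx' : x ∈ Subgroup.zpowers ((z : (P : Subgroup G)) : G) := hzX ▸ Subgroup.mem_zpowers x
    obtain ⟨k, hk⟩ := hx'
    rw [← hC, Subgroup.mem_centralizer_singleton_iff, ← hk]
    have h1 : Commute y ((z : (P : Subgroup G)) : G) :=
      congrArg Subtype.val ((Subgroup.mem_center_iff.1 z.2) ⟨y, hy⟩)
    exact (h1.zpow_right k).eq
  exact ⟨P, hPX⟩

/-- `t · |N_G(X)| = p (p - 1)` for the number `t` of classes of elements of order `p`. -/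
lemma class_count_mul (hp : p.Prime) (hx : orderOf x = p)
    (hC : Subgroup.centralizer ({x} : Set G) = Subgroup.zpowers x) :
    Nat.card {C : ConjClasses G // ∃ g ∈ C.carrier, orderOf g = p} *
      Nat.card (normalizer ((zpowers x : Subgroup G) : Set G)) = p * (p - 1) := by
  classical
  haveI := Fact.mk hp
  haveI := Fintype.ofFinite G
  obtain ⟨P, hP⟩ := exists_sylow_zpowers hp hx hC
  have hXc : Nat.card (zpowers x) = p := by rw [Nat.card_zpowers, hx]
  have hSc : ∀ Q : Sylow p G, Nat.card Q = p := fun Q => by
    rw [Sylow.card_eq_multiplicity, ← Sylow.card_eq_multiplicity P]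
    exact (congrArg (fun H : Subgroup G => Nat.card H) hP).trans hXc
  -- centralisers of elements of order `p`
  have hcent : ∀ y : G, orderOf y = p → Nat.card (centralizer ({y} : Set G)) = p := by
    intro y hy
    obtain ⟨Q, hQ⟩ := (IsPGroup.of_card (p := p) (n := 1)
      (show Nat.card (zpowers y) = p ^ 1 by rw [Nat.card_zpowers, hy, pow_one])).exists_le_sylow
    obtain ⟨g, hg⟩ := MulAction.exists_smul_eq G Q P
    have hyX : g * y * g⁻¹ ∈ zpowers x := by
      have h1 : MulAut.conj g y ∈ ((g • Q : Sylow p G) : Subgroup G) := by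
        rw [Sylow.coe_subgroup_smul]
        exact Subgroup.smul_mem_pointwise_smul _ _ _ (hQ (mem_zpowers y))
      rw [hg, hP] at h1
      exact h1
    have hgen : zpowers (g * y * g⁻¹) = zpowers x := by
      refine Subgroup.eq_of_le_of_card_ge (zpowers_le.2 hyX) ?_
      rw [hXc, Nat.card_zpowers]
      exact ((orderOf_injective (MulAut.conj g).toMonoidHom (MulAut.conj g).injective y).trans hy).ge
    have hc : centralizer ({g * y * g⁻¹} : Set G) = zpowers x := by
      rw [← hC]
      refine le_antisymm ?_ ?_
      · intro w hw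
        obtain ⟨k, hk⟩ : x ∈ zpowers (g * y * g⁻¹) := hgen ▸ mem_zpowers x
        refine mem_centralizer_singleton_iff.2 ?_
        rw [← hk]
        exact ((show Commute w (g * y * g⁻¹) from mem_centralizer_singleton_iff.1 hw).zpow_right k).eq
      · intro w hw
        obtain ⟨k, hk⟩ := hyX
        refine mem_centralizer_singleton_iff.2 ?_
        rw [← hk]
        exact ((show Commute w x from mem_centralizer_singleton_iff.1 hw).zpow_right k).eq
    have hmap : (centralizer ({y} : Set G)).map (MulAut.conj g).toMonoidHom = centralizer ({g * y * g⁻¹} : Set G) := by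
      ext w
      rw [mem_map]
      constructor
      · rintro ⟨v, hv, rfl⟩
        refine mem_centralizer_singleton_iff.2 ?_
        have h1 := congrArg (fun u => g * u * g⁻¹) (mem_centralizer_singleton_iff.1 hv)
        simpa [mul_assoc] using h1
      · intro hw
        refine ⟨g⁻¹ * w * g, mem_centralizer_singleton_iff.2 ?_, by simp [mul_assoc]⟩
        have h1 := congrArg (fun u => g⁻¹ * u * g) (mem_centralizer_singleton_iff.1 hw)
        simpa [mul_assoc] using h1
    rw [← Subgroup.card_map_of_injective (f := (MulAut.conj g).toMonoidHom) (MulAut.conj g).injective,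
      hmap, hc, hXc]
  set A := Finset.univ.filter (fun y : G => orderOf y = p) with hA
  set k := Nat.card {C : ConjClasses G // ∃ g ∈ C.carrier, orderOf g = p} with hk
  have h1 : A.card * p = k * Nat.card G := by
    have hkc : k = (A.image ConjClasses.mk).card := by
      rw [hk, Nat.card_eq_fintype_card, Fintype.card_subtype]
      congr 1
      ext C
      simp only [Finset.mem_filter, Finset.mem_univ, true_and, Finset.mem_image, hA,
        ConjClasses.mem_carrier_iff_mk_eq]
      exact ⟨fun ⟨g, h1, h2⟩ => ⟨g, h2, h1⟩, fun ⟨g, h1, h2⟩ => ⟨g, h2, h1⟩⟩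
    rw [hkc, Finset.card_eq_sum_card_image ConjClasses.mk A, Finset.sum_mul,
      Finset.sum_congr rfl (g := fun _ => Nat.card G) fun C hC => ?_, Finset.sum_const, smul_eq_mul]
    obtain ⟨y, hy, rfl⟩ := Finset.mem_image.1 hC
    have hy' : orderOf y = p := (Finset.mem_filter.1 hy).2
    have hcls : (A.filter fun z => ConjClasses.mk z = ConjClasses.mk y).card =
        (centralizer ({y} : Set G)).index := by
      have h2 : Nat.card {z : G // IsConj y z} = (centralizer ({y} : Set G)).index := by
        have h1 : MulAction.orbit (ConjAct G) y = {z : G | IsConj y z} := by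
          ext z
          rw [ConjAct.mem_orbit_conjAct]
          exact isConj_comm
        have h2 := MulAction.index_stabilizer (ConjAct G) y
        rw [h1, ← Nat.card_coe_set_eq] at h2
        rw [Subgroup.centralizer_eq_comap_stabilizer]
        refine h2.symm.trans ?_
        exact (Subgroup.index_comap_of_surjective (G := ConjAct G) (G' := G)
          (MulAction.stabilizer (ConjAct G) y) (f := ConjAct.toConjAct.toMonoidHom)
          ConjAct.toConjAct.surjective).symm
      rw [← h2, Nat.card_eq_fintype_card, Fintype.card_subtype]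
      congr 1
      ext z
      simp only [Finset.mem_filter, hA, Finset.mem_univ, true_and, ConjClasses.mk_eq_mk_iff_isConj]
      refine ⟨fun h => h.2.symm, fun h => ⟨?_, h.symm⟩⟩
      obtain ⟨c, rfl⟩ := isConj_iff.1 h
      exact (orderOf_injective (MulAut.conj c).toMonoidHom (MulAut.conj c).injective y).trans hy'
    have h3 := (centralizer ({y} : Set G)).index_mul_card
    rw [hcent y hy'] at h3
    rw [hcls, h3]
  have h2 : A.card = Nat.card (Sylow p G) * (p - 1) := by
    let f : {y : G // orderOf y = p} → Sylow p G := fun y => Sylow.ofCard (zpowers y.1) (by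
      rw [Nat.card_zpowers, y.2]; exact (hSc P).symm.trans P.card_eq_multiplicity)
    have hfib : ∀ Q : Sylow p G, Nat.card {y : {y : G // orderOf y = p} // f y = Q} = p - 1 := by
      intro Q
      let e : {y : {y : G // orderOf y = p} // f y = Q} ≃ {y : (Q : Subgroup G) // y ≠ 1} :=
        { toFun := fun y => ⟨⟨y.1.1, (congrArg (fun R : Sylow p G => (R : Subgroup G)) y.2).le (mem_zpowers _)⟩, fun h => by
            have h1 : y.1.1 = 1 := congrArg Subtype.val h
            have := y.1.2
            rw [h1, orderOf_one] at this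
            exact hp.one_lt.ne this⟩
          invFun := fun y => ⟨⟨y.1, by
            have h1 : orderOf ((y.1 : (Q : Subgroup G)) : G) ∣ p := by
              rw [Subgroup.orderOf_coe]; exact (_root_.orderOf_dvd_natCard _).trans (hSc Q).dvd
            exact ((Nat.dvd_prime hp).1 h1).resolve_left fun h =>
              y.2 (Subtype.ext (orderOf_eq_one_iff.1 h))⟩, by
            refine Sylow.ext (Subgroup.eq_of_le_of_card_ge (zpowers_le.2 y.1.2) ?_)
            show Nat.card (Q : Subgroup G) ≤ Nat.card (zpowers ((y.1 : (Q : Subgroup G)) : G))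
            rw [hSc Q, Nat.card_zpowers]
            have h1 : orderOf ((y.1 : (Q : Subgroup G)) : G) ∣ p := by
              rw [Subgroup.orderOf_coe]; exact (_root_.orderOf_dvd_natCard _).trans (hSc Q).dvd
            exact (((Nat.dvd_prime hp).1 h1).resolve_left fun h =>
              y.2 (Subtype.ext (orderOf_eq_one_iff.1 h))).ge⟩
          left_inv := fun y => rfl
          right_inv := fun y => rfl }
      rw [Nat.card_congr e, Nat.card_eq_fintype_card, Fintype.card_subtype,
        Finset.filter_ne', Finset.card_erase_of_mem (Finset.mem_univ _), Finset.card_univ,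
        ← Nat.card_eq_fintype_card, hSc Q]
    haveI := Fintype.ofFinite (Sylow p G)
    rw [show A.card = Nat.card {y : G // orderOf y = p} by
      rw [Nat.card_eq_fintype_card, Fintype.card_subtype], ← Nat.card_congr (Equiv.sigmaFiberEquiv f),
      Nat.card_sigma, Finset.sum_congr rfl fun Q _ => hfib Q, Finset.sum_const, Finset.card_univ,
      smul_eq_mul, Nat.card_eq_fintype_card]
  have h3 : Nat.card (Sylow p G) * Nat.card (normalizer ((zpowers x : Subgroup G) : Set G)) = Nat.card G := by
    rw [Sylow.card_eq_index_normalizer P]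
    show (normalizer ((P : Subgroup G) : Set G)).index * _ = _
    rw [hP, Subgroup.index_mul_card]
  refine Nat.eq_of_mul_eq_mul_left (Nat.card_pos (α := Sylow p G)) ?_
  rw [show Nat.card (Sylow p G) * (k * Nat.card (normalizer ((zpowers x : Subgroup G) : Set G))) =
    k * Nat.card G by rw [← h3]; ring, ← h1, h2]
  ring

/-- Elements of a normal `p'`-subgroup are commutators with `x`. -/
lemma exists_commutator_eq (hp : p.Prime) (hx : orderOf x = p)
    (hC : Subgroup.centralizer ({x} : Set G) = Subgroup.zpowers x) (S : Subgroup G) [hS : S.Normal]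
    (hndvd : ¬ p ∣ Nat.card S) : ∀ y ∈ S, ∃ s ∈ S, s * x * s⁻¹ * x⁻¹ = y := by
  let f : S → S := fun s => ⟨(s : G) * x * (s : G)⁻¹ * x⁻¹,
    by simpa [mul_assoc] using mul_mem s.2 (hS.conj_mem _ (inv_mem s.2) x)⟩
  have hf : Function.Injective f := fun s t h => by
    have h' : (s : G) * x * (s : G)⁻¹ = t * x * (t : G)⁻¹ := mul_right_cancel (congrArg Subtype.val h)
    have hmem : (t : G)⁻¹ * s ∈ zpowers x := hC.le (mem_centralizer_singleton_iff.2 (by
      calc (t : G)⁻¹ * s * x = (t : G)⁻¹ * ((s : G) * x * (s : G)⁻¹) * s := by group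
        _ = (t : G)⁻¹ * ((t : G) * x * (t : G)⁻¹) * s := by rw [h']
        _ = _ := by group))
    have h1 : orderOf ((t : G)⁻¹ * s) ∣ p := by
      have := Subgroup.orderOf_dvd_natCard _ hmem
      rwa [Nat.card_zpowers, hx] at this
    rcases (Nat.dvd_prime hp).1 h1 with h2 | h2
    · exact Subtype.ext (inv_mul_eq_one.1 (orderOf_eq_one_iff.1 h2)).symm
    · exact absurd (h2 ▸ Subgroup.orderOf_dvd_natCard S (mul_mem (inv_mem t.2) s.2)) hndvd
  intro y hy
  obtain ⟨s, hs⟩ := (Finite.injective_iff_surjective.1 hf) ⟨y, hy⟩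
  exact ⟨s, s.2, congrArg Subtype.val hs⟩

lemma le_commutator_of_coprime (hp : p.Prime) (hx : orderOf x = p)
    (hC : Subgroup.centralizer ({x} : Set G) = Subgroup.zpowers x) (S : Subgroup G) [S.Normal]
    (hndvd : ¬ p ∣ Nat.card S) : S ≤ commutator G := by
  intro y hy
  obtain ⟨s, -, rfl⟩ := exists_commutator_eq hp hx hC S hndvd y hy
  rw [← commutatorElement_def]
  exact Subgroup.commutator_mem_commutator (Subgroup.mem_top _) (Subgroup.mem_top _)

lemma card_subgroups_prime (hp : p.Prime) (hx : orderOf x = p)
    (hC : Subgroup.centralizer ({x} : Set G) = Subgroup.zpowers x) :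
    Nat.card {H : Subgroup G // Nat.card H = p} =
      (normalizer ((zpowers x : Subgroup G) : Set G)).index := by
  haveI := Fact.mk hp
  obtain ⟨P, hP⟩ := exists_sylow_zpowers hp hx hC
  have hPc : Nat.card (P : Subgroup G) = p := by rw [hP, Nat.card_zpowers, hx]
  have hmult : p ^ (Nat.card G).factorization p = p := P.card_eq_multiplicity.symm.trans hPc
  rw [← hP]
  refine Eq.trans ?_ (Sylow.card_eq_index_normalizer P)
  exact Nat.card_congr
    { toFun := fun H => Sylow.ofCard H.1 (H.2.trans hmult.symm)
      invFun := fun Q => ⟨Q, Q.card_eq_multiplicity.trans hmult⟩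
      left_inv := fun H => Subtype.ext rfl
      right_inv := fun Q => Sylow.ext rfl }

lemma normalizer_inf_eq_bot (hp : p.Prime) (hx : orderOf x = p)
    (hC : Subgroup.centralizer ({x} : Set G) = Subgroup.zpowers x) (S : Subgroup G) [hS : S.Normal]
    (hndvd : ¬ p ∣ Nat.card S) : normalizer ((zpowers x : Subgroup G) : Set G) ⊓ S = ⊥ := by
  have hXS : ∀ z ∈ zpowers x, z ∈ S → z = 1 := fun z hz hzS => by
    have h1 : orderOf z ∣ p := by
      have := Subgroup.orderOf_dvd_natCard _ hz
      rwa [Nat.card_zpowers, hx] at this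
    rcases (Nat.dvd_prime hp).1 h1 with h2 | h2
    · exact orderOf_eq_one_iff.1 h2
    · exact absurd (h2 ▸ Subgroup.orderOf_dvd_natCard S hzS) hndvd
  rw [eq_bot_iff]
  rintro y ⟨hyN, hyS⟩
  have h1 : y * x * y⁻¹ * x⁻¹ = 1 := by
    refine hXS _ (mul_mem ((Subgroup.mem_normalizer_iff.1 hyN x).1 (mem_zpowers x))
      (inv_mem (mem_zpowers x))) ?_
    simpa [mul_assoc] using mul_mem hyS (hS.conj_mem _ (inv_mem hyS) x)
  exact hXS y (hC.le (mem_centralizer_singleton_iff.2
    (mul_inv_eq_iff_eq_mul.1 (mul_inv_eq_one.1 h1)))) hyS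

lemma isSolvable_normalizer
    (hC : Subgroup.centralizer ({x} : Set G) = Subgroup.zpowers x) :
    Group.IsSolvable (normalizer ((zpowers x : Subgroup G) : Set G)) := by
  set X := zpowers x
  haveI : IsCyclic X := by infer_instance
  letI : CommGroup X := IsCyclic.commGroup
  letI : CommGroup (MulAut X) := { (inferInstance : Group (MulAut X)) with
    mul_comm := fun a b => (IsCyclic.mulAutMulEquiv X).injective (by rw [map_mul, map_mul, mul_comm]) }
  let f : normalizer (X : Set G) →* MulAut X :=
    { toFun := fun n =>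
        { toFun := fun z => ⟨n * z * (n : G)⁻¹, (Subgroup.mem_normalizer_iff.1 n.2 _).1 z.2⟩
          invFun := fun z => ⟨(n : G)⁻¹ * z * n,
            (Subgroup.mem_normalizer_iff.1 n.2 _).2 (by simp [mul_assoc])⟩
          left_inv := fun z => by simp [mul_assoc]
          right_inv := fun z => by simp [mul_assoc]
          map_mul' := fun a b => by simp [mul_assoc] }
      map_one' := by ext z; simp
      map_mul' := fun a b => by ext z; simp [mul_assoc] }
  have hker : f.ker ≤ X.subgroupOf (normalizer (X : Set G)) := fun n hn => by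
    have h1 : (n : G) * x * (n : G)⁻¹ = x :=
      congrArg (fun z : X => (z : G)) (DFunLike.congr_fun (MonoidHom.mem_ker.1 hn) ⟨x, mem_zpowers x⟩)
    exact Subgroup.mem_subgroupOf.2
      (hC.le (mem_centralizer_singleton_iff.2 (mul_inv_eq_iff_eq_mul.1 h1)))
  haveI := Group.isSolvable_of_comm (G := X) mul_comm
  haveI := Group.isSolvable_of_comm (G := MulAut X) mul_comm
  refine Group.isSolvable_of_ker_le_range
    (Subgroup.inclusion (Subgroup.le_normalizer : X ≤ normalizer (X : Set G))) f ?_
  rwa [Subgroup.inclusion_range]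

open scoped commutatorElement in
/-- The two cases for the commutator subgroup. -/
lemma commutator_cases (hp : p.Prime) (hx : orderOf x = p)
    (hC : Subgroup.centralizer ({x} : Set G) = Subgroup.zpowers x) :
    (Nat.card {C : ConjClasses G // ∃ g ∈ C.carrier, orderOf g = p} = p - 1 →
      (commutator G).index = p ∧ (Nat.card (commutator G)).Coprime p) ∧
    (Nat.card {C : ConjClasses G // ∃ g ∈ C.carrier, orderOf g = p} ≠ p - 1 →
      zpowers x ≤ commutator G ∧
      normalizer ((zpowers x : Subgroup G) : Set G) ⊔ commutator G = ⊤) := by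
  classical
  haveI := Fact.mk hp
  obtain ⟨P, hP⟩ := exists_sylow_zpowers hp hx hC
  have hcount := class_count_mul hp hx hC
  set t := Nat.card {C : ConjClasses G // ∃ g ∈ C.carrier, orderOf g = p}
  set X := zpowers x with hXdef
  have hXc : Nat.card X = p := by rw [hXdef, Nat.card_zpowers, hx]
  constructor
  · intro ht
    rw [ht] at hcount
    have hN : Nat.card (normalizer (X : Set G)) = p :=
      Nat.eq_of_mul_eq_mul_left (show 0 < p - 1 by have := hp.two_le; omega) (hcount.trans (mul_comm _ _))
    have hNX : normalizer (X : Set G) = X :=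
      (Subgroup.eq_of_le_of_card_ge Subgroup.le_normalizer (hN.trans hXc.symm).le).symm
    have hle : normalizer ((P : Subgroup G) : Set G) ≤ centralizer ((P : Subgroup G) : Set G) := by
      rw [hP, hNX]
      intro y hy z hz
      obtain ⟨i, rfl⟩ := hy
      obtain ⟨j, rfl⟩ := hz
      exact zpow_mul_comm x j i
    have hcompl := MonoidHom.ker_transferSylow_isComplement' P hle
    set K := (MonoidHom.transferSylow P hle).ker
    have hKi : K.index = p := by
      rw [hcompl.symm.index_eq_card]
      show Nat.card (P : Subgroup G) = p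
      rw [hP, hXc]
    have hKc : ¬ p ∣ Nat.card K := by
      rw [← hcompl.index_eq_card]; exact P.not_dvd_index
    haveI : IsCyclic (G ⧸ K) := isCyclic_of_prime_card (p := p) (by rw [← Subgroup.index_eq_card, hKi])
    have heq : commutator G = K := le_antisymm
      (Subgroup.Normal.quotient_commutative_iff_commutator_le.1 inferInstance)
      (le_commutator_of_coprime hp hx hC K hKc)
    rw [heq]
    exact ⟨hKi, (hp.coprime_iff_not_dvd.2 hKc).symm⟩
  · intro ht
    obtain ⟨n, hn, hnX⟩ : ∃ n ∈ normalizer (X : Set G), n ∉ X := by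
      by_contra hcon
      push Not at hcon
      have hNX : normalizer (X : Set G) = X := le_antisymm hcon Subgroup.le_normalizer
      rw [hNX, hXc] at hcount
      exact ht (Nat.eq_of_mul_eq_mul_right hp.pos (hcount.trans (mul_comm _ _)))
    have hxn : n * x * n⁻¹ * x⁻¹ ∈ X :=
      mul_mem ((Subgroup.mem_normalizer_iff.1 hn x).1 (mem_zpowers x)) (inv_mem (mem_zpowers x))
    have hne : n * x * n⁻¹ * x⁻¹ ≠ 1 := fun h => hnX
      (hC.le (mem_centralizer_singleton_iff.2 (mul_inv_eq_iff_eq_mul.1 (mul_inv_eq_one.1 h))))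
    have hXle : X ≤ commutator G := by
      have hgen : zpowers (n * x * n⁻¹ * x⁻¹) = X := by
        refine Subgroup.eq_of_le_of_card_ge (zpowers_le.2 hxn) ?_
        rw [hXc, Nat.card_zpowers]
        have h1 : orderOf (n * x * n⁻¹ * x⁻¹) ∣ p := hXc ▸ Subgroup.orderOf_dvd_natCard _ hxn
        exact (((Nat.dvd_prime hp).1 h1).resolve_left fun h => hne (orderOf_eq_one_iff.1 h)).ge
      rw [← hgen, zpowers_le, ← commutatorElement_def]
      exact Subgroup.commutator_mem_commutator (Subgroup.mem_top _) (Subgroup.mem_top _)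
    refine ⟨hXle, ?_⟩
    have := Sylow.normalizer_sup_eq_top (P.subtype (hP.le.trans hXle))
    rwa [Sylow.coe_subtype, Subgroup.subgroupOf_map_subtype, inf_eq_left.2 (hP.le.trans hXle), hP] at this

end Cfsg.Lib.Blocks
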