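import Mathlib
import Cfsg.Agent.Blocks.ItoDegrees
import Cfsg.Agent.Blocks.SylowNormalize
import Cfsg.Agent.Blocks.CyclicGlauberman
import Cfsg.Agent.Chars.Frob
import Cfsg.Agent.Components.BalanceDelta
import Cfsg.Agent.FFModule.Model

/-!
# Degrees with a full prime part when two primes share no centraliser

If no non-trivial `p`-element commutes with a non-trivial `q`-element in a `p`-solvable group, some
degree has full `p`-part or some degree has full `q`-part.
-/

set_option autoImplicit false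
set_option linter.unusedSectionVars false
set_option linter.style.haveILetI false

namespace Cfsg.Lib.Blocks.Separated

open Cfsg.Lib.Chars Cfsg.Lib.CyclicGlauberman

universe u

variable {G : Type u} [Group G] [Finite G] {p q : ℕ}

/-- Some degree has the full `r`-part of the order. -/
def HasFull (r : ℕ) (G : Type u) [Group G] : Prop :=
  ∃ χ : Cfsg.IrrCharacter G, (Cfsg.charDegree (χ : G → ℂ)).factorization r = (Nat.card G).factorization r

/-- A character of a normal subgroup fixed by no element of order `r`. -/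
theorem hasFull_of_moved [Fact q.Prime] (N : Subgroup G) [N.Normal] (θ : Cfsg.IrrCharacter N)
    (hmv : ∀ g : G, orderOf g = q → conjN N g (θ : N → ℂ) ≠ θ) : HasFull q G := by
  classical
  haveI := Fintype.ofFinite G
  haveI := Fintype.ofFinite N
  obtain ⟨χ, hχ, hc⟩ := exists_over N θ.2
  obtain ⟨e, he⟩ := deg_eq_mult_orbit N hχ θ.2 hc
  have horb := card_conjOrbit N (θ : N → ℂ)
  have hT : ¬ q ∣ Nat.card (inertia N (θ : N → ℂ)) := fun h => by
    obtain ⟨g, hg⟩ := exists_prime_orderOf_dvd_card' q h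
    exact hmv g (by rwa [Subgroup.orderOf_coe]) g.2
  refine ⟨⟨χ, hχ⟩, le_antisymm ?_ ?_⟩
  · exact (Nat.factorization_le_iff_dvd (deg_irr_pos ⟨χ, hχ⟩).ne' Nat.card_pos.ne').2
      (IsIrrCharacter.deg_dvd hχ) q
  · show _ ≤ (deg χ).factorization q
    have hd0 : deg χ ≠ 0 := (deg_irr_pos ⟨χ, hχ⟩).ne'
    have hdvd : (conjOrbit N (θ : N → ℂ)).card ∣ deg χ :=
      he ▸ dvd_mul_of_dvd_right (dvd_mul_right _ _) e
    have ho : (conjOrbit N (θ : N → ℂ)).card ≠ 0 := fun h0 => by
      rw [h0, zero_mul] at horb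
      exact Nat.card_pos.ne' horb.symm
    calc (Nat.card G).factorization q = (conjOrbit N (θ : N → ℂ)).card.factorization q := by
          rw [← horb, Nat.factorization_mul ho Nat.card_pos.ne', Finsupp.add_apply,
            Nat.factorization_eq_zero_of_not_dvd hT, add_zero]
      _ ≤ (deg χ).factorization q := (Nat.factorization_le_iff_dvd ho hd0).2 hdvd q

/-- Full parts lift along a normal subgroup of order prime to `r`. -/
theorem HasFull.of_quotient [Fact q.Prime] (L : Subgroup G) [L.Normal] (hL : ¬ q ∣ Nat.card L)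
    (h : HasFull q (G ⧸ L)) : HasFull q G := by
  obtain ⟨χ, hχ⟩ := h
  have h1 := IsIrrCharacter.comp_surjective χ.2 (QuotientGroup.mk' L) (QuotientGroup.mk'_surjective L)
  refine ⟨⟨_, h1⟩, ?_⟩
  have h2 : Cfsg.charDegree (fun g => (χ : G ⧸ L → ℂ) (QuotientGroup.mk' L g)) =
      Cfsg.charDegree (χ : G ⧸ L → ℂ) := by
    show ⌊(_ : ℂ).re⌋₊ = ⌊(_ : ℂ).re⌋₊
    simp only [map_one]
  rw [h2, hχ, ← Subgroup.index_eq_card, ← L.card_mul_index,
    Nat.factorization_mul Nat.card_pos.ne' L.index_ne_zero_of_finite, Finsupp.add_apply,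
    Nat.factorization_eq_zero_of_not_dvd hL, zero_add]

/-- No non-trivial `p`-element is centralised by a `q`-element. -/
def Sep (p q : ℕ) (G : Type u) [Group G] : Prop :=
  ∀ g : G, g ≠ 1 → (∃ k : ℕ, orderOf g = p ^ k) → ¬ q ∣ Nat.card (Subgroup.centralizer ({g} : Set G))

theorem Sep.not_commute [Fact p.Prime] [Fact q.Prime] (h : Sep p q G) {x y : G}
    (hx : ∃ k : ℕ, orderOf x = p ^ k) (hy : ∃ k : ℕ, orderOf y = q ^ k) (hc : Commute x y) (hy1 : y ≠ 1) :
    x = 1 := by
  by_contra hx1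
  obtain ⟨k, hk⟩ := hy
  have hk0 : k ≠ 0 := by rintro rfl; exact hy1 (orderOf_eq_one_iff.1 (by rw [hk, pow_zero]))
  refine h x hx1 hx (dvd_trans (hk ▸ dvd_pow_self q hk0) ?_)
  have hmem : y ∈ Subgroup.centralizer ({x} : Set G) := Subgroup.mem_centralizer_singleton_iff.2 hc.eq.symm
  have := orderOf_dvd_natCard (⟨y, hmem⟩ : Subgroup.centralizer ({x} : Set G))
  rwa [Subgroup.orderOf_mk] at this

theorem Sep.symm [Fact p.Prime] [Fact q.Prime] (h : Sep p q G) : Sep q p G := by
  intro g hg hgq hd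
  obtain ⟨z, hz⟩ := exists_prime_orderOf_dvd_card' p hd
  have hz' : orderOf (z : G) = p := by rwa [Subgroup.orderOf_coe]
  have hz1 : (z : G) ≠ 1 := fun e => by
    rw [e, orderOf_one] at hz'
    exact (Fact.out : p.Prime).one_lt.ne hz'
  exact hz1 (h.not_commute ⟨1, by rw [hz', pow_one]⟩ hgq
    (Subgroup.mem_centralizer_singleton_iff.1 z.2) hg)

/-- The case of a non-trivial normal `p`-subgroup. -/
theorem hasFull_of_pCore [Fact p.Prime] [Fact q.Prime] (h : Sep p q G) (V : Subgroup G) [V.Normal]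
    (hV : IsPGroup p V) (hV1 : V ≠ ⊥) : HasFull q G := by
  classical
  haveI : Nontrivial V := (Subgroup.nontrivial_iff_ne_bot V).2 hV1
  haveI := hV.center_nontrivial
  set A := (Subgroup.center V).map V.subtype with hA
  have hAV : A ≤ V := Subgroup.map_subtype_le _
  haveI : A.Normal := by rw [hA]; infer_instance
  have hAc : ∀ a b : A, a * b = b * a := by
    rintro ⟨_, a, ha, rfl⟩ ⟨_, b, hb, rfl⟩
    refine Subtype.ext ?_
    show V.subtype a * V.subtype b = V.subtype b * V.subtype a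
    rw [← map_mul, ← map_mul, Subgroup.mem_center_iff.1 ha b]
  have hA1 : ∃ a : A, a ≠ 1 := by
    obtain ⟨⟨z, hz⟩, hz1⟩ := exists_ne (1 : Subgroup.center V)
    exact ⟨⟨V.subtype z, z, hz, rfl⟩, fun e => hz1 (Subtype.ext (V.subtype_injective (congrArg Subtype.val e)))⟩
  obtain ⟨a₀, ha₀⟩ := hA1
  letI : CommGroup A := { (inferInstance : Group A) with mul_comm := hAc }
  obtain ⟨φ, hφ⟩ := CommGroup.exists_apply_ne_one_of_hasEnoughRootsOfUnity A ℂ ha₀
  let θ : Cfsg.IrrCharacter A := ⟨fun a => (φ a : ℂ), isIrrCharacter_linear φ⟩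
  refine hasFull_of_moved A θ fun y hy hfix => hφ ?_
  have hy1 : y ≠ 1 := fun e => by
    rw [e, orderOf_one] at hy
    exact (Fact.out : q.Prime).one_lt.ne hy
  set f : A → A := fun a => ⟨y * a * y⁻¹, ‹A.Normal›.conj_mem a a.2 y⟩ * a⁻¹ with hf
  have hinj : Function.Injective f := by
    intro a b hab
    have e : y * (a : G) * y⁻¹ * (a : G)⁻¹ = y * b * y⁻¹ * (b : G)⁻¹ := congrArg Subtype.val hab
    have hc : Commute ((b : G)⁻¹ * a) y := by
      refine (mul_inv_eq_iff_eq_mul.1 ?_).symm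
      calc y * ((b : G)⁻¹ * a) * y⁻¹ = (y * b * y⁻¹ * (b : G)⁻¹ * b)⁻¹ * (y * a * y⁻¹ * (a : G)⁻¹ * a) := by group
        _ = (b : G)⁻¹ * a := by rw [e]; group
    obtain ⟨k, hk⟩ := IsPGroup.iff_orderOf.1 hV ⟨(b : G)⁻¹ * a, mul_mem (inv_mem (hAV b.2)) (hAV a.2)⟩
    have := h.not_commute ⟨k, by rwa [Subgroup.orderOf_mk] at hk⟩ ⟨1, by rw [hy, pow_one]⟩ hc hy1
    exact Subtype.ext (inv_mul_eq_one.1 this).symm
  obtain ⟨a, ha⟩ := (Finite.injective_iff_surjective.1 hinj) a₀
  rw [← ha, hf, map_mul]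
  have e : φ ⟨y * a * y⁻¹, ‹A.Normal›.conj_mem a a.2 y⟩ = φ a := Units.ext (congrFun hfix a)
  show φ _ * φ a⁻¹ = 1
  rw [e, map_inv, mul_inv_cancel]

/-- Two commuting operators of order `p` on an abelian group without fixed points are dependent. -/
theorem pow_eq_one_of_fpf {A : Type*} [CommGroup A] {P : Type*} [Group P] (ψ : P →* MulAut A)
    {x y : P} (hp : p.Prime) (hxy : Commute x y) (hxp : x ^ p = 1) (hyp : y ^ p = 1)
    (hfix : ∀ z : P, z ^ p = 1 → z ≠ 1 → ∀ a : A, ψ z a = a → a = 1)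
    (hy : ∀ k : ℕ, x ^ k * y ≠ 1) (hx : x ≠ 1) (a : A) : a ^ p = 1 := by
  set F : P → A → A := fun z b => ∏ i ∈ Finset.range p, ψ (z ^ i) b with hF
  have hF1 : ∀ z : P, z ^ p = 1 → z ≠ 1 → ∀ b, F z b = 1 := by
    intro z hz hz1 b
    refine hfix z hz hz1 _ ?_
    simp only [hF, map_prod]
    have h1 : ∀ i, ψ z (ψ (z ^ i) b) = ψ (z ^ (i + 1)) b := fun i => by
      rw [pow_succ', map_mul]; rfl
    simp only [h1]
    have h2 := Finset.prod_range_succ' (fun i => ψ (z ^ i) b) p
    rw [Finset.prod_range_succ, hz, pow_zero] at h2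
    exact (mul_right_cancel h2).symm
  have hzp : ∀ j : ℕ, (x ^ j * y) ^ p = 1 := fun j => by
    rw [(hxy.pow_left j).mul_pow, ← pow_mul, mul_comm, pow_mul, hxp, one_pow, hyp, one_mul]
  have htot : ∏ j ∈ Finset.range p, F (x ^ j * y) a = 1 :=
    Finset.prod_eq_one fun j _ => hF1 _ (hzp j) (hy j) a
  simp only [hF] at htot
  rw [Finset.prod_comm, Finset.prod_eq_single_of_mem 0 (Finset.mem_range.2 hp.pos)] at htot
  · simpa using htot
  · intro i hi hi0
    have h1 : ∀ j : ℕ, ψ ((x ^ j * y) ^ i) a = ψ ((x ^ i) ^ j) (ψ (y ^ i) a) := fun j => by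
      rw [(hxy.pow_left j).mul_pow, ← pow_mul, mul_comm j, pow_mul, map_mul]; rfl
    simp only [h1]
    refine hF1 (x ^ i) (by rw [← pow_mul, mul_comm, pow_mul, hxp, one_pow]) (fun e => ?_) _
    have ho : orderOf x = p := orderOf_eq_prime (hp := ⟨hp⟩) hxp hx
    have := orderOf_dvd_of_pow_eq_one e
    rw [ho] at this
    exact absurd (Nat.le_of_dvd (Nat.pos_of_ne_zero hi0) this) (not_le.2 (Finset.mem_range.1 hi))

/-- A `p`-group normalising a `q`-group without fixed points has one subgroup of order `p`. -/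
theorem exists_unique_order [Fact p.Prime] [Fact q.Prime] (hpq : p ≠ q) (h : Sep p q G)
    (P Q : Subgroup G) (hP : IsPGroup p P) (hP1 : P ≠ ⊥) (hQ : IsPGroup q Q) (hQ1 : Q ≠ ⊥)
    (hPQ : P ≤ Subgroup.normalizer (Q : Set G)) :
    ∃ x ∈ P, orderOf x = p ∧ ∀ y ∈ P, orderOf y = p → y ∈ Subgroup.zpowers x := by
  classical
  haveI : Nontrivial P := (Subgroup.nontrivial_iff_ne_bot P).2 hP1
  haveI := hP.center_nontrivial
  obtain ⟨x₀, hx₀⟩ : ∃ x₀ : Subgroup.center P, orderOf x₀ = p := by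
    refine exists_prime_orderOf_dvd_card' p ?_
    obtain ⟨k, hk⟩ := IsPGroup.iff_card.1 (hP.to_subgroup (Subgroup.center P))
    rw [hk]
    refine dvd_pow_self p fun e => ?_
    rw [e, pow_zero] at hk
    exact absurd hk Finite.one_lt_card.ne'
  set x : P := (x₀ : P) with hxdef
  have hxo : orderOf (x : G) = p := by rw [Subgroup.orderOf_coe, hxdef, Subgroup.orderOf_coe, hx₀]
  refine ⟨x, x.2, hxo, fun y hyP hy => ?_⟩
  by_contra hyx
  haveI : Nontrivial Q := (Subgroup.nontrivial_iff_ne_bot Q).2 hQ1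
  haveI := hQ.center_nontrivial
  set Z := Subgroup.center Q
  letI : CommGroup Z := { (inferInstance : Group Z) with
    mul_comm := fun a b => Subtype.ext (Subgroup.mem_center_iff.1 a.2 b).symm }
  let ψ : P →* MulAut Z :=
    { toFun := fun u =>
        { toFun := fun z => ⟨⟨(u : G) * ((z : Q) : G) * (u : G)⁻¹,
              ((Subgroup.mem_normalizer_iff.1 (hPQ u.2)) _).1 (z : Q).2⟩, Subgroup.mem_center_iff.2 fun w => by
            apply Subtype.ext
            have hw : (u : G)⁻¹ * (w : G) * u ∈ Q := by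
              have := ((Subgroup.mem_normalizer_iff.1 (hPQ (inv_mem u.2))) _).1 w.2
              simpa using this
            have e : (u : G)⁻¹ * (w : G) * u * ((z : Q) : G) = ((z : Q) : G) * ((u : G)⁻¹ * (w : G) * u) :=
              congrArg Subtype.val (Subgroup.mem_center_iff.1 z.2 ⟨_, hw⟩)
            show (w : G) * ((u : G) * ((z : Q) : G) * (u : G)⁻¹) = (u : G) * ((z : Q) : G) * (u : G)⁻¹ * w
            calc (w : G) * ((u : G) * ((z : Q) : G) * (u : G)⁻¹)
                = u * ((u : G)⁻¹ * w * u * ((z : Q) : G)) * (u : G)⁻¹ := by group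
              _ = _ := by rw [e]; group⟩
          invFun := fun z => ⟨⟨(u : G)⁻¹ * ((z : Q) : G) * u, by
              have := ((Subgroup.mem_normalizer_iff.1 (hPQ (inv_mem u.2))) _).1 (z : Q).2
              simpa using this⟩, Subgroup.mem_center_iff.2 fun w => by
            apply Subtype.ext
            have hw : (u : G) * (w : G) * (u : G)⁻¹ ∈ Q := ((Subgroup.mem_normalizer_iff.1 (hPQ u.2)) _).1 w.2
            have e : (u : G) * (w : G) * (u : G)⁻¹ * ((z : Q) : G) =
                ((z : Q) : G) * ((u : G) * (w : G) * (u : G)⁻¹) :=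
              congrArg Subtype.val (Subgroup.mem_center_iff.1 z.2 ⟨_, hw⟩)
            show (w : G) * ((u : G)⁻¹ * ((z : Q) : G) * u) = (u : G)⁻¹ * ((z : Q) : G) * u * w
            calc (w : G) * ((u : G)⁻¹ * ((z : Q) : G) * u)
                = (u : G)⁻¹ * ((u : G) * w * (u : G)⁻¹ * ((z : Q) : G)) * u := by group
              _ = _ := by rw [e]; group⟩
          left_inv := fun z => Subtype.ext (Subtype.ext (by simp only; group))
          right_inv := fun z => Subtype.ext (Subtype.ext (by simp only; group))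
          map_mul' := fun a b => Subtype.ext (Subtype.ext (by
            simp only [Subgroup.coe_mul, MulMemClass.coe_mul]; group)) }
      map_one' := MulEquiv.ext fun z => Subtype.ext (Subtype.ext (by simp))
      map_mul' := fun u v => MulEquiv.ext fun z => Subtype.ext (Subtype.ext (by
        simp only [MulAut.mul_apply, MulEquiv.coe_mk, Equiv.coe_fn_mk, Subgroup.coe_mul]; group)) }
  set y' : P := ⟨y, hyP⟩ with hy'
  have hxy : Commute x y' := (Subgroup.mem_center_iff.1 x₀.2 y').symm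
  have hxp : x ^ p = 1 := Subtype.ext (by rw [SubmonoidClass.coe_pow, ← hxo, pow_orderOf_eq_one]; rfl)
  have hyp : y' ^ p = 1 := Subtype.ext (by
    rw [SubmonoidClass.coe_pow]; show y ^ p = _; rw [← hy, pow_orderOf_eq_one]; rfl)
  have hfix : ∀ z : P, z ^ p = 1 → z ≠ 1 → ∀ a : Z, ψ z a = a → a = 1 := by
    intro z hz hz1 a ha
    have e : (z : G) * ((a : Q) : G) * (z : G)⁻¹ = ((a : Q) : G) :=
      congrArg (fun w : Z => ((w : Q) : G)) ha
    by_contra ha1
    obtain ⟨k, hk⟩ := IsPGroup.iff_orderOf.1 hQ (a : Q)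
    have ho : orderOf (z : G) = p := by
      rw [Subgroup.orderOf_coe]; exact orderOf_eq_prime hz hz1
    refine (fun e' : (z : G) = 1 => hz1 (Subtype.ext e')) (h.not_commute ⟨1, by rw [ho, pow_one]⟩
      ⟨k, by rw [Subgroup.orderOf_coe]; exact hk⟩ (mul_inv_eq_iff_eq_mul.1 e) fun e' => ha1 ?_)
    exact Subtype.ext (Subtype.ext e')
  have hyne : ∀ k : ℕ, x ^ k * y' ≠ 1 := fun k e => hyx (by
    have e' : (x : G) ^ k * y = 1 := congrArg Subtype.val e
    rw [eq_inv_of_mul_eq_one_right e']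
    exact inv_mem (pow_mem (Subgroup.mem_zpowers _) k))
  have hx1 : x ≠ 1 := fun e => by
    rw [e, Subgroup.coe_one, orderOf_one] at hxo
    exact (Fact.out : p.Prime).one_lt.ne hxo
  obtain ⟨a, ha1⟩ := exists_ne (1 : Z)
  refine ha1 ?_
  have hap := pow_eq_one_of_fpf (A := Z) ψ (Fact.out : p.Prime) hxy hxp hyp hfix hyne hx1 a
  obtain ⟨k, hk⟩ := IsPGroup.iff_orderOf.1 hQ (a : Q)
  have hk' : orderOf a = q ^ k := by rw [← hk, Subgroup.orderOf_coe]
  rw [← orderOf_eq_one_iff]
  refine Nat.eq_one_of_dvd_coprimes (Nat.Coprime.pow_left k ((Nat.coprime_primes Fact.out Fact.out).2 hpq.symm))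
    (hk' ▸ dvd_rfl) (orderOf_dvd_of_pow_eq_one hap)

/-- Every element of prime order in the quotient by a subgroup of order prime to it lifts. -/
theorem exists_lift_pElement [Fact p.Prime] (L : Subgroup G) [L.Normal] (y : G ⧸ L)
    (hy : ∃ k : ℕ, orderOf y = p ^ k) :
    ∃ x : G, (∃ k : ℕ, orderOf x = p ^ k) ∧ QuotientGroup.mk' L x = y := by
  obtain ⟨k, hk⟩ := hy
  have hyP : IsPGroup p (Subgroup.zpowers y) := IsPGroup.of_card ((Nat.card_zpowers y).trans hk)
  obtain ⟨R, hR⟩ := hyP.exists_le_sylow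
  obtain ⟨S, rfl⟩ := Sylow.mapSurjective_surjective (QuotientGroup.mk'_surjective L) p R
  obtain ⟨x, hx, hxy⟩ := Subgroup.mem_map.1 (hR (Subgroup.mem_zpowers y))
  obtain ⟨j, hj⟩ := IsPGroup.iff_orderOf.1 S.isPGroup' ⟨x, hx⟩
  exact ⟨x, ⟨j, by rwa [Subgroup.orderOf_mk] at hj⟩, hxy⟩

/-- The `p`-solvable case. -/
theorem hasFull_or [Fact p.Prime] [Fact q.Prime] (hpq : p ≠ q) (hpG : p ∣ Nat.card G)
    (h : Sep p q G) (hsol : Cfsg.IsPSolvable p G) : HasFull p G ∨ HasFull q G := by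
  classical
  haveI hpn : (Cfsg.pCore p G).Normal := Cfsg.Lib.Components.pCore_normal' p
  by_cases hO : Cfsg.pCore p G = ⊥
  swap
  · exact Or.inr (hasFull_of_pCore h _ (Cfsg.Lib.Components.isPGroup_pCore p) hO)
  haveI hLn : (Cfsg.pPrimeCore p G).Normal := Cfsg.Lib.Components.pPrimeCore_normal' p
  set L := Cfsg.pPrimeCore p G with hL
  have hLp : (Nat.card L).Coprime p := Cfsg.Lib.Components.coprime_card_pPrimeCore p
  have hCL := Cfsg.Lib.FF.centralizer_pPrimeCore_le p hsol hO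
  -- the quotient has a `p`-core
  have hbot : Cfsg.pPrimeCore p (G ⧸ L) = ⊥ := Cfsg.Lib.Coprime.pPrimeCore_quotient_eq_bot
  have hCb := centralizer_pCore_le_of_isPSolvable p (GaschutzYen.isPSolvable_quotient L hsol) hbot
  haveI : (Cfsg.pCore p (G ⧸ L)).Normal := Cfsg.Lib.Components.pCore_normal' p
  have hdvd : p ∣ Nat.card (G ⧸ L) := by
    rw [← L.card_mul_index] at hpG
    rw [← Subgroup.index_eq_card]
    exact (Nat.Coprime.dvd_of_dvd_mul_left hLp.symm hpG)
  have hOb : Cfsg.pCore p (G ⧸ L) ≠ ⊥ := by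
    intro e
    rw [e] at hCb
    have htop : (⊤ : Subgroup (G ⧸ L)) ≤ ⊥ :=
      le_trans (fun x _ => Subgroup.mem_centralizer_iff.2 fun y hy => by
        rw [SetLike.mem_coe, Subgroup.mem_bot] at hy; rw [hy, one_mul, mul_one]) hCb
    have : Nat.card (G ⧸ L) = 1 := by
      rw [← Subgroup.card_top, le_bot_iff.1 htop, Subgroup.card_bot]
    rw [this] at hdvd
    exact (Fact.out : p.Prime).one_lt.ne' (Nat.dvd_one.1 hdvd)
  by_cases hqL : q ∣ Nat.card L
  swap
  · right
    refine HasFull.of_quotient L hqL (hasFull_of_pCore (p := p) ?_ _ (Cfsg.Lib.Components.isPGroup_pCore p) hOb)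
    intro y hy1 hy hd
    obtain ⟨x, hx, rfl⟩ := exists_lift_pElement L y hy
    refine h x (fun e => hy1 (by rw [e, map_one])) hx (dvd_trans hd ?_)
    obtain ⟨k, hk⟩ := hx
    rw [← Cfsg.Lib.Components.centralizer_map_of_coprime_ker (p := p) (QuotientGroup.mk'_surjective L)
      (by rwa [QuotientGroup.ker_mk']) (IsPGroup.of_card ((Nat.card_zpowers x).trans hk))]
    exact Subgroup.card_map_dvd _ _
  left
  obtain ⟨P⟩ := (inferInstance : Nonempty (Sylow p G))
  have hPcop : (Nat.card (P : Subgroup G)).Coprime (Nat.card L) := by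
    obtain ⟨k, hk⟩ := IsPGroup.iff_card.1 P.isPGroup'
    rw [hk]
    exact hLp.symm.pow_left k
  obtain ⟨Q0, hQ0⟩ := Cfsg.Lib.Coprime.exists_invariant_sylow (K := L) Subgroup.le_normalizer_of_normal
    hPcop (Or.inl (by haveI := P.isPGroup'.isNilpotent; infer_instance)) q
  have hQ1 : (Q0 : Subgroup L).map L.subtype ≠ ⊥ := fun e => by
    have := congrArg (fun S : Subgroup G => Nat.card S) e
    simp only [Subgroup.card_map_of_injective L.subtype_injective, Subgroup.card_bot, Sylow.card_eq_multiplicity] at this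
    exact absurd this (Nat.one_lt_pow (Nat.Prime.factorization_pos_of_dvd Fact.out Nat.card_pos.ne' hqL).ne'
      (Fact.out : q.Prime).one_lt).ne'
  obtain ⟨x, hxP, hxo, huniq⟩ := exists_unique_order hpq h (P : Subgroup G) _ P.isPGroup'
    (P.ne_bot_of_dvd_card hpG) (Q0.isPGroup'.map L.subtype) hQ1 hQ0
  -- `L⟨x⟩` is normal
  set Pb := P.mapSurjective (QuotientGroup.mk'_surjective L) with hPb
  have hPL : ∀ w ∈ (P : Subgroup G), w ∈ L → w = 1 := fun w hw hwL => by
    have hd := Nat.eq_one_of_dvd_coprimes hPcop ((P : Subgroup G).orderOf_dvd_natCard hw)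
      (L.orderOf_dvd_natCard hwL)
    exact orderOf_eq_one_iff.1 hd
  have horder : ∀ y : G ⧸ L, y ∈ (Pb : Subgroup (G ⧸ L)) → orderOf y = p →
      y ∈ Subgroup.zpowers (QuotientGroup.mk' L x) := by
    intro y hy hyo
    obtain ⟨w, hw, rfl⟩ := Subgroup.mem_map.1 (by rwa [hPb, Sylow.coe_mapSurjective] at hy)
    have hwp : w ^ p = 1 := hPL _ (pow_mem hw p) ((QuotientGroup.eq_one_iff _).1 (by
      show QuotientGroup.mk' L (w ^ p) = 1
      rw [map_pow, ← hyo, pow_orderOf_eq_one]))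
    have hw1 : w ≠ 1 := fun e => by
      rw [e, map_one, orderOf_one] at hyo
      exact (Fact.out : p.Prime).one_lt.ne hyo
    rw [← MonoidHom.map_zpowers]
    exact Subgroup.mem_map_of_mem _ (huniq w hw (orderOf_eq_prime hwp hw1))
  have hRP : Cfsg.pCore p (G ⧸ L) ≤ (Pb : Subgroup (G ⧸ L)) := by
    obtain ⟨R, hR⟩ := (Cfsg.Lib.Components.isPGroup_pCore (G := G ⧸ L) p).exists_le_sylow
    obtain ⟨g, hg⟩ := MulAction.exists_smul_eq (G ⧸ L) R Pb
    intro z hz
    rw [← hg]
    exact ⟨g⁻¹ * z * g, hR (by simpa using Subgroup.Normal.conj_mem inferInstance z hz g⁻¹),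
      by simp [MulAut.smul_def, mul_assoc]⟩
  have hxb : QuotientGroup.mk' L x ∈ Cfsg.pCore p (G ⧸ L) := by
    haveI : Nontrivial (Cfsg.pCore p (G ⧸ L)) := (Subgroup.nontrivial_iff_ne_bot _).2 hOb
    obtain ⟨k, hk⟩ := IsPGroup.iff_card.1 (Cfsg.Lib.Components.isPGroup_pCore (G := G ⧸ L) p)
    obtain ⟨z, hz⟩ := exists_prime_orderOf_dvd_card' (G := Cfsg.pCore p (G ⧸ L)) p (hk ▸ dvd_pow_self p (fun e => by
      rw [e, pow_zero] at hk
      exact absurd hk Finite.one_lt_card.ne'))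
    have hz' : orderOf (z : G ⧸ L) = p := by rwa [Subgroup.orderOf_coe]
    have h2 : Subgroup.zpowers (z : G ⧸ L) = Subgroup.zpowers (QuotientGroup.mk' L x) := by
      refine Subgroup.eq_of_le_of_card_ge (Subgroup.zpowers_le.2 (horder _ (hRP z.2) hz')) ?_
      rw [Nat.card_zpowers, Nat.card_zpowers, hz']
      exact Nat.le_of_dvd (Fact.out : p.Prime).pos (hxo ▸ orderOf_map_dvd _ x)
    exact Subgroup.zpowers_le.1 (h2 ▸ Subgroup.zpowers_le.2 z.2)
  have hcof : CoFix L (L ⊓ Subgroup.centralizer (Subgroup.zpowers x : Set G)) x :=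
    ⟨by rw [hxo]; exact hLp, rfl⟩
  -- elements of order `p` are `L`-conjugate into `⟨x⟩`
  have hconj : ∀ g : G, orderOf g = p → ∃ l ∈ L, l * g * l⁻¹ ∈ Subgroup.zpowers x := by
    intro g hg
    have hgb : QuotientGroup.mk' L g ∈ Subgroup.zpowers (QuotientGroup.mk' L x) := by
      have hd : orderOf (QuotientGroup.mk' L g) ∣ p := hg ▸ orderOf_map_dvd _ g
      rcases (Nat.dvd_prime (Fact.out : p.Prime)).1 hd with e | e
      · rw [orderOf_eq_one_iff.1 e]; exact one_mem _
      · obtain ⟨R, hR⟩ := (IsPGroup.of_card (n := 1) (by rw [Nat.card_zpowers, e, pow_one]) :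
          IsPGroup p (Subgroup.zpowers (QuotientGroup.mk' L g))).exists_le_sylow
        obtain ⟨c, hc⟩ := MulAction.exists_smul_eq (G ⧸ L) R Pb
        have h1 : c * QuotientGroup.mk' L g * c⁻¹ ∈ Subgroup.zpowers (QuotientGroup.mk' L x) := by
          refine horder _ ?_ (by rw [← MulAut.conj_apply, MulEquiv.orderOf_eq, e])
          rw [← hc, Sylow.coe_subgroup_smul]
          exact Subgroup.smul_mem_pointwise_smul _ (MulAut.conj c) _ (hR (Subgroup.mem_zpowers _))
        have h2 : QuotientGroup.mk' L g ∈ Cfsg.pCore p (G ⧸ L) := by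
          have h3 := Subgroup.Normal.conj_mem inferInstance _ (Subgroup.zpowers_le.2 hxb h1) c⁻¹
          simpa [mul_assoc] using h3
        exact horder _ (hRP h2) e
    obtain ⟨i, hi⟩ := Subgroup.mem_zpowers_iff.1 hgb
    have hle : Subgroup.zpowers g ≤ L ⊔ Subgroup.zpowers x := by
      rw [Subgroup.zpowers_le, show g = (g * (x ^ i)⁻¹) * x ^ i by group]
      refine mul_mem (Subgroup.mem_sup_left ((QuotientGroup.eq_one_iff _).1 ?_))
        (Subgroup.mem_sup_right (Subgroup.zpow_mem_zpowers x i))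
      show QuotientGroup.mk' L (g * (x ^ i)⁻¹) = 1
      rw [map_mul, map_inv, map_zpow, hi, mul_inv_cancel]
    obtain ⟨l, hl, hle'⟩ := Cfsg.Lib.Coprime.exists_conj_le_of_coprime (N := L) (H := Subgroup.zpowers x)
      Subgroup.le_normalizer_of_normal (by rw [Nat.card_zpowers, hxo]; exact hLp) (Or.inr inferInstance) hle
      (by rw [Nat.card_zpowers, hg]; exact hLp)
    exact ⟨l⁻¹, inv_mem hl, by simpa using Cfsg.Lib.Coprime.mem_conjMap.1 (hle' (Subgroup.mem_zpowers g))⟩
  -- a character moved by `x`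
  haveI := Fintype.ofFinite G
  obtain ⟨θ, hθ⟩ : ∃ θ : Cfsg.IrrCharacter L, conjN L x (θ : L → ℂ) ≠ θ := by
    by_contra hall
    push Not at hall
    have hcards := card_fixed_irr_conjN L x
    rw [Nat.card_congr (Equiv.subtypeUnivEquiv fun θ => hall θ), card_irrCharacter] at hcards
    have hfixC : ∀ C : ConjClasses L,
        ConjClasses.map (MulEquiv.toMonoidHom (MulAut.conjNormal x : MulAut L)) C = C := by
      intro C
      by_contra hC
      exact (Finite.card_subtype_lt (p := fun C' : ConjClasses L =>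
        ConjClasses.map (MulEquiv.toMonoidHom (MulAut.conjNormal x : MulAut L)) C' = C') hC).ne hcards.symm
    have hmeet : ∀ a : L, ∃ c : L, c⁻¹ * a * c ∈ (Subgroup.centralizer ({x} : Set G)).subgroupOf L := by
      intro a
      obtain ⟨c, hc⟩ := isConj_iff.1 (ConjClasses.mk_eq_mk_iff_isConj.1 (hfixC (ConjClasses.mk a)))
      have hc' : (c : G) * (x * a * x⁻¹) * (c : G)⁻¹ = a := by
        simpa [MulAut.conjNormal_apply] using congrArg Subtype.val hc
      have hz : Commute ((c : G) * x) (a : G) := by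
        refine mul_inv_eq_iff_eq_mul.1 ?_
        calc (c : G) * x * a * ((c : G) * x)⁻¹ = (c : G) * (x * a * x⁻¹) * (c : G)⁻¹ := by group
          _ = a := hc'
      obtain ⟨k, hk, b, hb, hbs, hkb⟩ := hcof.exists_conj_fix le_rfl Subgroup.le_normalizer_of_normal c.2
      obtain ⟨e, hen, hes⟩ := hcof.exists_exp
      have h1 : k * ((c : G) * x) ^ e * k⁻¹ = x := by
        rw [← conj_pow, hkb, (show Commute b x from hbs).mul_pow, hcof.pow_card_eq_one hb hen, one_mul, hes]
      refine ⟨⟨k⁻¹, inv_mem hk⟩, ?_⟩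
      rw [Subgroup.mem_subgroupOf]
      show k⁻¹⁻¹ * (a : G) * k⁻¹ ∈ _
      rw [inv_inv, Subgroup.mem_centralizer_singleton_iff]
      nth_rw 1 [← h1]
      nth_rw 2 [← h1]
      calc k * (a : G) * k⁻¹ * (k * ((c : G) * x) ^ e * k⁻¹) = k * ((a : G) * ((c : G) * x) ^ e) * k⁻¹ := by group
        _ = k * (((c : G) * x) ^ e * a) * k⁻¹ := by rw [(hz.pow_left e).eq]
        _ = _ := by group
    have htop := eq_top_of_meets _ hmeet
    have hxL : x ∈ L := hCL (Subgroup.mem_centralizer_iff.2 fun a ha => by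
      have h1 : (⟨a, ha⟩ : L) ∈ (Subgroup.centralizer ({x} : Set G)).subgroupOf L := htop ▸ Subgroup.mem_top _
      exact Subgroup.mem_centralizer_singleton_iff.1 (Subgroup.mem_subgroupOf.1 h1))
    have := hPL x hxP hxL
    rw [this, orderOf_one] at hxo
    exact (Fact.out : p.Prime).one_lt.ne hxo
  refine hasFull_of_moved L θ fun g hg hfix => hθ ?_
  obtain ⟨l, hl, hlx⟩ := hconj g hg
  have hl' : l ∈ inertia L (θ : L → ℂ) := le_inertia (isClassFunction_irr θ) hl
  have hg' : l * g * l⁻¹ ∈ inertia L (θ : L → ℂ) := mul_mem (mul_mem hl' hfix) (inv_mem hl')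
  have hgo : orderOf (l * g * l⁻¹) = p := by rw [← MulAut.conj_apply, MulEquiv.orderOf_eq, hg]
  have heq : Subgroup.zpowers (l * g * l⁻¹) = Subgroup.zpowers x :=
    Subgroup.eq_of_le_of_card_ge (Subgroup.zpowers_le.2 hlx) (by rw [Nat.card_zpowers, Nat.card_zpowers, hgo, hxo])
  exact Subgroup.zpowers_le.2 hg' (heq ▸ Subgroup.mem_zpowers x)

end Cfsg.Lib.Blocks.Separated
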