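import Cfsg.Agent.Blocks.RankOneSmall.BlockBound
import Cfsg.Agent.Blocks.PrincipalRank

/-!
# A principal block whose sum of squared degrees is the order of a Sylow subgroup

The reduction of the block is free of rank one over the Sylow subgroup, so every group element acts on it as a
unipotent element; the block then has regular rank one and the group a normal `p`-complement.
-/

set_option autoImplicit false
set_option linter.unusedSectionVars false

namespace Cfsg.Lib.Blocks.SinglePart

open Module Cfsg.Lib.Chars Cfsg.Lib.Blocks.TwoMember Cfsg.Lib.Blocks.RankOneSmall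
open scoped ComplexConjugate

universe u

section Field

variable {k : Type*} [Field k] {p : ℕ} [Fact p.Prime] [CharP k p] {G : Type u} [Group G] [Fintype G]

/-- A power identity in a finite-dimensional algebra. -/
theorem exists_pow_eq {A : Type*} [Ring A] [Algebra k A] [FiniteDimensional k A] (x : A) :
    ∃ (n : ℕ) (y : A), Commute x y ∧ x ^ (n + 1) = x ^ (n + 2) * y := by
  have hint : IsIntegral k x := Algebra.IsIntegral.isIntegral x
  obtain ⟨q, hq, hndvd⟩ := (minpoly k x).exists_eq_pow_rootMultiplicity_mul_and_not_dvd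
    (minpoly.ne_zero hint) 0
  set n := (minpoly k x).rootMultiplicity 0
  rw [map_zero, sub_zero] at hq hndvd
  have hc : q.coeff 0 ≠ 0 := fun h => hndvd (Polynomial.X_dvd_iff.2 h)
  obtain ⟨t, ht⟩ := Polynomial.X_dvd_sub_C (p := q)
  have h0 : x ^ n * (x * Polynomial.aeval x t + algebraMap k A (q.coeff 0)) = 0 := by
    have h := minpoly.aeval k x
    rw [hq, map_mul, map_pow, Polynomial.aeval_X, ← sub_add_cancel q (Polynomial.C (q.coeff 0)), ht, map_add,
      map_mul, Polynomial.aeval_X, Polynomial.aeval_C] at h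
    exact h
  refine ⟨n, (-(q.coeff 0)⁻¹) • Polynomial.aeval x t, ?_, ?_⟩
  · refine Commute.smul_right ?_ _
    have := congrArg (Polynomial.aeval x) (mul_comm Polynomial.X t)
    rwa [map_mul, map_mul, Polynomial.aeval_X] at this
  · have h1 : x ^ n * algebraMap k A (q.coeff 0) = -(x ^ (n + 1) * Polynomial.aeval x t) := by
      rw [mul_add, ← mul_assoc, ← pow_succ, add_comm] at h0
      exact eq_neg_of_add_eq_zero_left h0
    rw [Algebra.algebraMap_eq_smul_one, mul_smul_comm, mul_one] at h1
    have h2 : x ^ (n + 1) = x * (-(q.coeff 0)⁻¹) • (x ^ (n + 1) * Polynomial.aeval x t) := by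
      conv_lhs => rw [pow_succ', ← inv_smul_smul₀ hc (x ^ n), h1, smul_neg, ← neg_smul]
    rw [h2, mul_smul_comm, mul_smul_comm, ← mul_assoc, ← pow_succ']

/-- An element whose coefficient sum is read by the augmentation. -/
noncomputable def aug (k : Type*) [Field k] (G : Type u) [Group G] : MonoidAlgebra k G →ₐ[k] k :=
  MonoidAlgebra.lift k k G 1

theorem aug_single (g : G) : aug k G (MonoidAlgebra.single g (1 : k)) = 1 := by simp [aug]

/-- A block of dimension `|P|` with the trivial module fixes every `p`-regular element. -/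
theorem single_mul_eq {P : Subgroup G} (hP : IsPGroup p P) {e : MonoidAlgebra k G} (hee : e * e = e)
    (hc : ∀ a, e * a = a * e) (haug : aug k G e = 1) (hdim : finrank k (corner k e) = Nat.card P)
    {g : G} (hg : ¬ p ∣ orderOf g) : MonoidAlgebra.single g (1 : k) * e = e := by
  classical
  haveI : FiniteDimensional k (MonoidAlgebra k G) := Module.Finite.equiv (fnEquiv k G).symm
  have hPpos : 0 < Nat.card P := Nat.card_pos
  set V₁ := corner k e
  set V₂ := corner k (1 - e)
  have hst : ∀ (d : MonoidAlgebra k G), ∀ x ∈ corner k d, ∀ q ∈ P,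
      x * MonoidAlgebra.single q (1 : k) ∈ corner k d := fun d x hx q _ => by
    rw [mem_corner] at hx ⊢
    rw [← mul_assoc, hx]
  have h1 := finrank_le_mul_fixR (k := k) hP V₁ (hst e)
  have h2 := finrank_le_mul_fixR (k := k) hP V₂ (hst (1 - e))
  have hdisj : V₁ ⊓ V₂ = ⊥ := (Submodule.eq_bot_iff _).2 fun x hx => by
    have a : e * x = x := hx.1
    have b : (1 - e) * x = x := hx.2
    rw [sub_mul, one_mul, a, sub_self] at b
    exact b.symm
  have hsup : V₁ ⊔ V₂ = ⊤ := eq_top_iff.2 fun x _ => Submodule.mem_sup.2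
    ⟨e * x, show e * (e * x) = e * x by rw [← mul_assoc, hee],
      (1 - e) * x, show (1 - e) * ((1 - e) * x) = (1 - e) * x by
        rw [← mul_assoc, sub_mul, one_mul, mul_sub, mul_one, hee, sub_self, sub_zero],
      by rw [sub_mul, one_mul, add_sub_cancel]⟩
  have h3 := Submodule.finrank_sup_add_finrank_inf_eq V₁ V₂
  rw [hdisj, hsup, finrank_bot, finrank_top, (fnEquiv k G).finrank_eq,
    Module.finrank_fintype_fun_eq_card, ← Nat.card_eq_fintype_card, ← P.card_mul_index, hdim] at h3
  have h4 := Submodule.finrank_sup_add_finrank_inf_eq (V₁ ⊓ fixR k P) (V₂ ⊓ fixR k P)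
  rw [show V₁ ⊓ fixR k P ⊓ (V₂ ⊓ fixR k P) = ⊥ from
    le_bot_iff.1 (hdisj ▸ inf_le_inf inf_le_left inf_le_left), finrank_bot] at h4
  have h5 := (Submodule.finrank_mono (sup_le inf_le_right inf_le_right :
    V₁ ⊓ fixR k P ⊔ V₂ ⊓ fixR k P ≤ fixR k P)).trans (finrank_fixR_le (k := k) P)
  have hR : finrank k (V₁ ⊓ fixR k P : Submodule k (MonoidAlgebra k G)) = 1 := by
    rw [hdim] at h1
    have ha : 1 ≤ finrank k (V₁ ⊓ fixR k P : Submodule k (MonoidAlgebra k G)) :=
      Nat.pos_of_mul_pos_left (lt_of_lt_of_le hPpos h1)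
    by_contra hne
    have hb : Nat.card P * (finrank k (V₂ ⊓ fixR k P : Submodule k (MonoidAlgebra k G)) + 2) ≤
        Nat.card P * P.index := Nat.mul_le_mul_left _ (by omega)
    rw [mul_add] at hb
    omega
  obtain ⟨⟨w, hwV, hwfix⟩, hw0, hwspan⟩ := finrank_eq_one_iff'.1 hR
  replace hw0 : w ≠ 0 := fun h => hw0 (Subtype.ext h)
  have hline : ∀ y ∈ V₁, (∀ q ∈ P, y * MonoidAlgebra.single q (1 : k) = y) → ∃ c : k, c • w = y := by
    intro y hy hy'
    obtain ⟨c, hc'⟩ := hwspan ⟨y, hy, hy'⟩
    exact ⟨c, congrArg Subtype.val hc'⟩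
  have hlam : ∀ x : MonoidAlgebra k G, ∃ c : k, c • w = x * w := fun x =>
    hline _ (show e * (x * w) = x * w by rw [← mul_assoc, hc, mul_assoc, show e * w = w from hwV])
      fun q hq => by rw [mul_assoc, hwfix q hq]
  have hnil : ∀ x : MonoidAlgebra k G, e * x = x → x * w = 0 → ∃ n, x ^ (n + 1) = 0 := by
    intro x hx hxw
    obtain ⟨n, y, hxy, hn⟩ := exists_pow_eq (k := k) x
    refine ⟨n, ?_⟩
    have hiter : ∀ i, x ^ (n + 1) = x ^ (n + 1 + i) * y ^ i := by
      intro i
      induction i with
      | zero => simp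
      | succ i ih =>
        rw [ih, show n + 1 + (i + 1) = i + (n + 2) by omega, show n + 1 + i = i + (n + 1) by omega,
          pow_add x i (n + 2), pow_succ' y i, ← mul_assoc, mul_assoc (x ^ i) _ y, ← hn, ← pow_add]
    set f := x ^ (n + 1) * y ^ (n + 1) with hf
    have hxf : x ^ (n + 1) = x ^ (n + 1) * f := by
      rw [hf, ← mul_assoc, ← pow_add]
      exact hiter (n + 1)
    have hcom : Commute (x ^ (n + 1)) (y ^ (n + 1)) := (hxy.pow_left _).pow_right _
    have hff : f * f = f := by
      calc f * f = y ^ (n + 1) * (x ^ (n + 1) * f) := by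
            conv_lhs => arg 1; rw [hf, hcom.eq]
            rw [mul_assoc]
        _ = y ^ (n + 1) * x ^ (n + 1) := by rw [← hxf]
        _ = f := by rw [hf, hcom.eq]
    have hfw : f * w = 0 := by
      rw [hf, hcom.eq, mul_assoc, pow_succ x n, mul_assoc, hxw, mul_zero, mul_zero]
    have hef : e * f = f := by
      rw [hf, ← mul_assoc, pow_succ', ← mul_assoc, hx]
    by_contra hne
    have hf0 : f ≠ 0 := fun h => hne (by rw [hxf, h, mul_zero])
    obtain ⟨w', hw', hw'0, hw'fix⟩ := exists_fixed_right (k := k) hP hf0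
    have hsub : Submodule.span k (Set.range fun q : P => f * MonoidAlgebra.single (q : G) (1 : k)) ≤
        corner k e ⊓ corner k f := Submodule.span_le.2 <| by
      rintro _ ⟨q, rfl⟩
      exact ⟨show e * _ = _ by rw [← mul_assoc, hef], show f * _ = _ by rw [← mul_assoc, hff]⟩
    obtain ⟨hw'e, hw'f⟩ := hsub hw'
    obtain ⟨c, rfl⟩ := hline w' hw'e hw'fix
    have : f * (c • w) = c • w := hw'f
    rw [mul_smul_comm, hfw, smul_zero] at this
    exact hw'0 this.symm
  set s := MonoidAlgebra.single g (1 : k) with hs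
  obtain ⟨c, hcw⟩ := hlam s
  set x := (s - algebraMap k _ c) * e with hx
  have hxe : e * x = x := by rw [hx, ← mul_assoc, hc, mul_assoc, hee]
  have hxw : x * w = 0 := by
    rw [hx, mul_assoc, show e * w = w from hwV, sub_mul, ← Algebra.smul_def, hcw, sub_self]
  obtain ⟨n, hn⟩ := hnil x hxe hxw
  have hc1 : c = 1 := by
    have h6 : (1 - c) ^ (n + 1) = 0 := by
      have h := congrArg (aug k G) hn
      rw [map_pow, map_zero, hx, map_mul, map_sub, hs, aug_single, AlgHom.commutes, haug, mul_one] at h
      simpa using h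
    exact (sub_eq_zero.1 (pow_eq_zero_iff (Nat.succ_ne_zero n) |>.1 h6)).symm
  rw [hc1, map_one] at hx
  haveI : CharP (MonoidAlgebra k G) p :=
    charP_of_injective_algebraMap (FaithfulSMul.algebraMap_injective k _) p
  have hpow : (s ^ p ^ (n + 1) - 1) * e = 0 := by
    have hle : n + 1 ≤ p ^ (n + 1) := (Nat.lt_pow_self (Fact.out : p.Prime).one_lt).le
    have h := pow_eq_zero_of_le hle hn
    rw [hx, Commute.mul_pow (hc (s - 1)).symm,
      IsIdempotentElem.pow_eq (hee : IsIdempotentElem e) (pow_ne_zero _ (Fact.out : p.Prime).ne_zero),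
      sub_pow_char_pow_of_commute p _ (Commute.one_right s), one_pow] at h
    exact h
  rw [sub_mul, one_mul, sub_eq_zero] at hpow
  obtain ⟨j, hj⟩ := exists_pow_eq_self_of_coprime
    (((Fact.out : p.Prime).coprime_iff_not_dvd.2 hg).pow_left (n + 1))
  have hfix : ∀ i, (s ^ p ^ (n + 1)) ^ i * e = e := by
    intro i
    induction i with
    | zero => simp
    | succ i ih => rw [pow_succ, mul_assoc, hpow, ih]
  have h7 := hfix j
  rw [hs, MonoidAlgebra.single_pow, one_pow, MonoidAlgebra.single_pow, one_pow, hj] at h7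
  exact h7

end Field

section Block

variable {G : Type u} [Group G] [Fintype G] {M : Ideal AlgInt} {p : ℕ}

theorem red_single (x : G) : red M (MonoidAlgebra.single x (1 : ℂ)) = MonoidAlgebra.single x (1 : Res M) :=
  fn_ext fun g => by
    classical
    rw [fn_red, fn_single, fn_single]; split_ifs <;> simp

/-- The regular rank is one. -/
theorem blockRank_eq_one [Fact p.Prime] (hM : IsPModular p M) (P : Sylow p G)
    [DecidablePred (· ∈ principalBlock M G)]
    (hsum : ∑ χ ∈ Finset.univ.filter (· ∈ principalBlock M G), deg (χ : G → ℂ) ^ 2 = Nat.card P) :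
    blockRank p (principalBlock M G) = 1 := by
  classical
  haveI := charP_res (M := M) hM
  set B := principalBlock M G with hBdef
  have hB : IsPBlock M B := isPBlock_blockOf (principal G)
  have h1B : principal G ∈ B := mem_blockOf_self hM (principal G)
  set E := blockElem B with hE
  have hEc : IsCentralFn E := isCentralFn_blockElem B
  have hEi : Integral M E := integral_blockElem hM hB
  have hEE : E * E = E := blockElem_mul_self B
  set e := red M E with he
  have hee : e * e = e := by rw [he, ← red_mul hEi hEi, hEE]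
  have hc : ∀ a, e * a = a * e := fun a => (IsCentralFn.red hEc).comm a
  have hdim : finrank (Res M) (corner (Res M) e) = Nat.card P := by
    have h := finrank_corner_red hM hB
    have h' := Nat.cast_injective (R := ℂ) h
    rw [h', ← hsum]
    exact Finset.sum_congr (by ext; simp [hBdef]) fun _ _ => rfl
  have haug : aug (Res M) G e = 1 := by
    have h1 : ∀ a : MonoidAlgebra (Res M) G, aug (Res M) G a = ∑ g, fn a g := fun a => by
      conv_lhs => rw [eq_sum_single a, map_sum]
      refine Finset.sum_congr rfl fun g _ => ?_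
      simp [aug]
    have h2 : omega ((principal G : IrrCharacter G) : G → ℂ) E = 1 := by rw [omega_blockElem, if_pos h1B]
    rw [h1, ← res_one (M := M), ← h2]
    simp only [omega, chiEval, principal, mul_one, div_one, he, fn_red]
    rw [res_sum _ _ fun g _ => hEi g]
  have hker : ∀ χ ∈ B, ∀ g : G, ¬ p ∣ orderOf g → (χ : G → ℂ) g = (χ : G → ℂ) 1 := by
    intro χ hχ g hg
    set σ := MonoidAlgebra.single g (1 : ℂ) with hσ
    set m := orderOf g with hm
    have hmunit : ¬ Small M (m : ℂ) := fun h => hg ((small_natCast_iff hM m).1 h)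
    set D := σ * E - E with hD
    set T := ∑ i ∈ Finset.range m, (σ ^ i * E - E) with hT
    have hσi : ∀ i, Integral M (σ ^ i * E) := fun i => by
      rw [hσ, MonoidAlgebra.single_pow, one_pow]
      exact (integral_single (one_mem _)).mul hEi
    have hsmallT : ∀ h, Small M (fn T h) := by
      intro h
      rw [hT, fn_sum]
      refine small_sum _ _ fun i _ => ?_
      refine (red_eq_zero_iff ((hσi i).sub hEi)).1 ?_ h
      have h8 : red M (σ ^ i * E) = e := by
        rw [hσ, MonoidAlgebra.single_pow, one_pow, red_mul (integral_single (one_mem _)) hEi, red_single, ← he]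
        exact single_mul_eq P.2 hee hc haug hdim fun hd => hg (hd.trans (orderOf_pow_dvd i))
      rw [red_sub (hσi i) hEi, h8, ← he, sub_self]
    have hDT : (m : ℂ) • D = -(D * T) := by
      have hgeom : D * ∑ i ∈ Finset.range m, σ ^ i * E = 0 := by
        rw [← Finset.sum_mul, hD, ← sub_one_mul, show (σ - 1) * E * ((∑ i ∈ Finset.range m, σ ^ i) * E) =
          (σ - 1) * (E * (∑ i ∈ Finset.range m, σ ^ i)) * E by simp only [mul_assoc], hEc.comm,
          ← mul_assoc, mul_geom_sum, hσ, MonoidAlgebra.single_pow, one_pow, hm, pow_orderOf_eq_one,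
          ← MonoidAlgebra.one_def, sub_self, zero_mul, zero_mul]
      have hDE : D * E = D := by rw [hD, sub_mul, mul_assoc, hEE]
      rw [hT, Finset.sum_sub_distrib, mul_sub, hgeom, zero_sub, neg_neg, Finset.sum_const, Finset.card_range,
        mul_smul_comm, hDE, Nat.cast_smul_eq_nsmul]
    have hD0 : ∀ h, fn D h = 0 := by
      obtain ⟨h₀, -, hmax⟩ := Finset.exists_max_image Finset.univ
        (fun h => (place M).valuation (fn D h)) Finset.univ_nonempty
      suffices fn D h₀ = 0 by
        intro h
        have h9 := hmax h (Finset.mem_univ _)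
        rw [this, map_zero] at h9
        exact (map_eq_zero _).1 (le_antisymm h9 zero_le')
      by_contra hne
      have hpos : 0 < (place M).valuation (fn D h₀) := zero_lt_iff.2 ((map_ne_zero _).2 hne)
      have hlt : (place M).valuation (fn (D * T) h₀) < (place M).valuation (fn D h₀) := by
        rw [fn_mul]
        refine Valuation.map_sum_lt _ hpos.ne' fun a _ => ?_
        rw [map_mul]
        calc _ ≤ (place M).valuation (fn D h₀) * (place M).valuation (fn T (a⁻¹ * h₀)) :=
              mul_le_mul' (hmax a (Finset.mem_univ _)) le_rfl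
          _ < _ := mul_lt_of_lt_one_right hpos (small_iff.1 (hsmallT _))
      have hval : (place M).valuation (m : ℂ) = 1 := by
        refine le_antisymm ((ValuationSubring.valuation_le_one_iff _ _).2 (natCast_mem_place m)) ?_
        exact not_lt.1 fun h => hmunit (small_iff.2 h)
      have h10 := congrArg (fun a => (place M).valuation (fn a h₀)) hDT
      simp only [fn_smul, fn_neg, map_mul, Valuation.map_neg, hval, one_mul] at h10
      exact hlt.ne h10.symm
    have hσE : E * σ = E := by
      rw [hEc.comm, ← sub_eq_zero]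
      exact fn_ext fun h => by rw [fn_zero]; exact hD0 h
    have h11 : ∀ b : MonoidAlgebra ℂ G, chiEval (χ : G → ℂ) (E * b) = chiEval (χ : G → ℂ) b := fun b => by
      rw [chiEval_central_mul χ hEc, omega_blockElem, if_pos hχ, one_mul]
    have h12 := h11 σ
    rw [hσE] at h12
    have h13 := h11 1
    rw [mul_one] at h13
    rw [h13, chiEval_one] at h12
    rw [h12, hσ]
    simp [chiEval, fn_single]
  set v := pRegularPart p ((principal G : IrrCharacter G) : G → ℂ) with hv
  have hv0 : v ≠ 0 := fun h0 => by
    have h1 := congrFun h0 1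
    rw [hv, pRegularPart_apply, if_neg (by rw [orderOf_one]; exact hM.1.not_dvd_one), Pi.zero_apply] at h1
    exact IsIrrCharacter.apply_one_ne_zero (principal G).2 h1
  have hspan : Submodule.span ℂ ((fun χ : IrrCharacter G => pRegularPart p (χ : G → ℂ)) '' B) = ℂ ∙ v := by
    refine le_antisymm (Submodule.span_le.2 ?_) (Submodule.span_mono (Set.singleton_subset_iff.2
      ⟨principal G, h1B, rfl⟩))
    rintro _ ⟨χ, hχ, rfl⟩
    refine Submodule.mem_span_singleton.2 ⟨(χ : G → ℂ) 1, funext fun g => ?_⟩
    rw [Pi.smul_apply, smul_eq_mul, hv]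
    simp only [pRegularPart_apply]
    split_ifs with hg
    · rw [mul_zero]
    · rw [hker χ hχ g hg]
      simp [principal]
  rw [blockRank, hspan]
  exact finrank_span_singleton hv0

end Block

end Cfsg.Lib.Blocks.SinglePart
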