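/-
Commutator subgroups of groups with a normal subgroup of prime index (Kazarin/Blackburn counting),
and groups of order p^4.
-/
import Mathlib

namespace Cfsg.Lib.Blocks

open Subgroup
open scoped commutatorElement

variable {P : Type*} [Group P] [Finite P] {p : ℕ} [Fact p.Prime]

lemma eq_mul_zpow_of_index_prime (N : Subgroup P) [N.Normal] (hN : N.index = p) {x : P}
    (hx : x ∉ N) (g : P) : ∃ n ∈ N, ∃ k : ℤ, g = n * x ^ k := by
  have htop : N ⊔ zpowers x = ⊤ := by
    have hle : N ≤ N ⊔ zpowers x := le_sup_left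
    rcases (Nat.dvd_prime (Fact.out : p.Prime)).1 (hN ▸ Subgroup.index_dvd_of_le hle) with h | h
    · exact Subgroup.index_eq_one.1 h
    · exfalso
      have h2 : Nat.card ↥(N ⊔ zpowers x) = Nat.card N := by
        refine Nat.eq_of_mul_eq_mul_right (Fact.out : p.Prime).pos ?_
        conv_lhs => rw [← h, Subgroup.card_mul_index]
        rw [← hN, Subgroup.card_mul_index]
      have h3 := Subgroup.eq_of_le_of_card_ge hle h2.le
      exact hx (h3 ▸ mem_sup_right (mem_zpowers x))
  have hg : g ∈ ((N ⊔ zpowers x : Subgroup P) : Set P) := by rw [htop]; trivial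
  rw [Subgroup.normal_mul] at hg
  obtain ⟨n, hn, y, hy, rfl⟩ := hg
  obtain ⟨k, rfl⟩ := hy
  exact ⟨n, hn, k, rfl⟩

/-- If `N` is an abelian normal subgroup of prime index and `x ∉ N` then
`|P'| · |C_N(x)| = |N|`. -/
lemma card_commutator_mul_card_centralizer (N : Subgroup P) [N.Normal] (hN : N.index = p)
    (hA : ∀ a ∈ N, ∀ b ∈ N, a * b = b * a) {x : P} (hx : x ∉ N) :
    Nat.card (commutator P) * Nat.card {n : N // x * n * x⁻¹ * (n : P)⁻¹ = 1} = Nat.card N := by
  have hnorm : N.Normal := inferInstance
  have hmem : ∀ n : N, x * n * x⁻¹ * (n : P)⁻¹ ∈ N := fun n =>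
    mul_mem (hnorm.conj_mem n n.2 x) (inv_mem n.2)
  let f : N →* P :=
    { toFun := fun n => x * n * x⁻¹ * (n : P)⁻¹
      map_one' := by simp
      map_mul' := fun n m => by
        have h1 := hA _ (hmem m) _ (inv_mem n.2)
        calc x * ((n * m : N) : P) * x⁻¹ * ((n * m : N) : P)⁻¹
            = (x * n * x⁻¹) * ((x * m * x⁻¹ * (m : P)⁻¹) * (n : P)⁻¹) := by
              simp [mul_assoc]
          _ = (x * n * x⁻¹) * ((n : P)⁻¹ * (x * m * x⁻¹ * (m : P)⁻¹)) := by rw [h1]
          _ = _ := by simp [mul_assoc] }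
  have hle : f.range ≤ N := by rintro _ ⟨n, rfl⟩; exact hmem n
  have hconj : ∀ g : P, ∀ r ∈ f.range, g * r * g⁻¹ ∈ f.range := by
    have hx' : ∀ r ∈ f.range, x * r * x⁻¹ ∈ f.range := by
      rintro _ ⟨n, rfl⟩
      exact ⟨⟨x * n * x⁻¹, hnorm.conj_mem n n.2 x⟩, by simp [f, mul_assoc]⟩
    have hN' : ∀ n ∈ N, n ∈ normalizer (f.range : Set P) := by
      intro n hn
      rw [Subgroup.mem_normalizer_iff]
      intro r
      constructor
      · intro hr
        have := hA _ hn _ (hle hr)
        rwa [this, mul_inv_cancel_right]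
      · intro hr
        have := hA _ (inv_mem hn) _ (hle hr)
        have h2 : r = n * r * n⁻¹ := by
          calc r = n⁻¹ * (n * r * n⁻¹) * n := by group
            _ = (n * r * n⁻¹) * n⁻¹ * n := by rw [this]
            _ = _ := by group
        rwa [h2]
    have hxN : x ∈ normalizer (f.range : Set P) := by
      have hmap : f.range.map (MulAut.conj x).toMonoidHom = f.range := by
        refine Subgroup.eq_of_le_of_card_ge ?_
          (Subgroup.card_map_of_injective (MulAut.conj x).injective).ge
        rintro _ ⟨r, hr, rfl⟩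
        exact hx' r hr
      rw [Subgroup.mem_normalizer_iff]
      intro r
      constructor
      · exact hx' r
      · intro hr
        rw [← hmap] at hr
        obtain ⟨s, hs, he⟩ := hr
        have : s = r := by simpa [mul_assoc] using he
        exact this ▸ hs
    intro g r hr
    obtain ⟨n, hn, k, rfl⟩ := eq_mul_zpow_of_index_prime N hN hx g
    exact (Subgroup.mem_normalizer_iff.1 (mul_mem (hN' n hn) (zpow_mem hxN k)) r).1 hr
  haveI : f.range.Normal := ⟨fun r hr g => hconj g r hr⟩
  have hcomm : commutator P = f.range := by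
    refine le_antisymm ?_ ?_
    · refine Subgroup.Normal.quotient_commutative_iff_commutator_le.1 ⟨⟨fun a b => ?_⟩⟩
      obtain ⟨a, rfl⟩ := QuotientGroup.mk'_surjective f.range a
      obtain ⟨b, rfl⟩ := QuotientGroup.mk'_surjective f.range b
      set π := QuotientGroup.mk' f.range
      have hxn : ∀ n ∈ N, Commute (π x) (π n) := by
        intro n hn
        have h1 : π (x * n * x⁻¹ * n⁻¹) = 1 := (QuotientGroup.eq_one_iff _).2 ⟨⟨n, hn⟩, rfl⟩
        simp only [map_mul, map_inv] at h1
        exact commutatorElement_eq_one_iff_mul_comm.1 (by rwa [commutatorElement_def])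
      obtain ⟨n, hn, k, rfl⟩ := eq_mul_zpow_of_index_prime N hN hx a
      obtain ⟨m, hm, l, rfl⟩ := eq_mul_zpow_of_index_prime N hN hx b
      rw [map_mul π n, map_mul π m, map_zpow, map_zpow]
      refine (Commute.mul_left (Commute.mul_right ?_ ?_) (Commute.mul_right ?_ ?_)).eq
      · exact (show Commute n m from hA n hn m hm).map π
      · exact ((hxn n hn).symm.zpow_right l)
      · exact (hxn m hm).zpow_left k
      · exact ((Commute.refl (π x)).zpow_left k).zpow_right l
    · rintro _ ⟨n, rfl⟩
      have := Subgroup.commutator_mem_commutator (Subgroup.mem_top x) (Subgroup.mem_top (n : P))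
      rw [commutatorElement_def] at this
      exact this
  rw [hcomm, ← f.ker.index_mul_card, Subgroup.index_ker]
  rfl

omit [Finite P] in
lemma mul_comm_of_index_center_dvd_prime (h : (center P).index ∣ p) (a b : P) : a * b = b * a := by
  haveI : IsCyclic (P ⧸ center P) := by
    rcases (Nat.dvd_prime (Fact.out : p.Prime)).1 h with h | h
    · haveI : Subsingleton (P ⧸ center P) := (Nat.card_eq_one_iff_unique.1 (by rw [← Subgroup.index_eq_card]; exact h)).1
      exact isCyclic_of_subsingleton
    · exact isCyclic_of_prime_card (p := p) (by rw [← Subgroup.index_eq_card]; exact h)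
  exact (isMulCommutative_of_isCyclic_quotient_center_self (G := P)).is_comm.comm a b

/-- In a nonabelian group of order `p^4`, a centralizer of order `p^3` with centre of order at
least `p^2` gives `|P'| · |Z(P)| = p^3`. -/
lemma card_commutator_mul_card_center (hP : Nat.card P = p ^ 4) {a : P} (ha : a ∉ center P)
    (hC : (centralizer ({a} : Set P)).index = p) (hz : p ∣ Nat.card (center P)) :
    Nat.card (commutator P) * Nat.card (center P) = p ^ 3 := by
  have hp : p.Prime := Fact.out
  have hPp : IsPGroup p P := IsPGroup.of_card hP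
  haveI : (centralizer ({a} : Set P)).Normal := by
    obtain ⟨k, hk⟩ := hPp.exists_card_eq
    exact Subgroup.normal_of_index_eq_minFac_card (by rw [hC, hP, Nat.pow_minFac (by norm_num), hp.minFac_eq])
  set C := centralizer ({a} : Set P) with hCdef
  have hZC : center P ≤ C := Subgroup.center_le_centralizer _
  have hCcard : Nat.card C = p ^ 3 := by
    refine Nat.eq_of_mul_eq_mul_right hp.pos ?_
    conv_lhs => rw [← hC, Subgroup.card_mul_index, hP]
    ring
  have haC : a ∈ C := Subgroup.mem_centralizer_singleton_iff.2 rfl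
  -- `C` is abelian
  have hA : ∀ u ∈ C, ∀ v ∈ C, u * v = v * u := by
    have hbig : p * p ∣ Nat.card (center C) := by
      have hle : ((center P) ⊔ zpowers a).subgroupOf C ≤ center C := by
        intro c hc
        rw [Subgroup.mem_subgroupOf] at hc
        rw [Subgroup.mem_center_iff]
        intro d
        apply Subtype.ext
        have hle2 : (center P) ⊔ zpowers a ≤ centralizer ({(d : P)} : Set P) :=
          sup_le (Subgroup.center_le_centralizer _)
            (Subgroup.zpowers_le.2 (Subgroup.mem_centralizer_singleton_iff.2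
              (Subgroup.mem_centralizer_singleton_iff.1 d.2).symm))
        exact (Subgroup.mem_centralizer_singleton_iff.1 (hle2 hc)).symm
      have hsub : (center P) ⊔ zpowers a ≤ C := sup_le hZC (Subgroup.zpowers_le.2 haC)
      refine dvd_trans ?_ (Subgroup.card_dvd_of_le hle)
      rw [Nat.card_congr (Subgroup.subgroupOfEquivOfLe hsub).toEquiv]
      obtain ⟨i, hi⟩ := (hPp.to_subgroup (center P)).exists_card_eq
      obtain ⟨j, hj⟩ := (hPp.to_subgroup ((center P) ⊔ zpowers a)).exists_card_eq
      have hi1 : 1 ≤ i := by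
        rcases Nat.eq_zero_or_pos i with rfl | h
        · rw [hi, pow_zero] at hz; exact absurd hz hp.not_dvd_one
        · exact h
      have hlt : i < j := by
        by_contra hcon
        have : Nat.card ↥((center P) ⊔ zpowers a) ≤ Nat.card (center P) := by
          rw [hi, hj]; exact Nat.pow_le_pow_right hp.pos (not_lt.1 hcon)
        have heq := Subgroup.eq_of_le_of_card_ge le_sup_left this
        exact ha (heq ▸ mem_sup_right (mem_zpowers a))
      rw [hj, ← pow_two]
      exact pow_dvd_pow p (by omega)
    intro u hu v hv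
    refine congrArg Subtype.val (mul_comm_of_index_center_dvd_prime (P := C) (p := p) ?_ ⟨u, hu⟩ ⟨v, hv⟩)
    obtain ⟨w, hw⟩ := hbig
    have := (center C).card_mul_index
    rw [hw, hCcard] at this
    refine ⟨w, Nat.eq_of_mul_eq_mul_left (Nat.mul_pos hp.pos hp.pos) ?_⟩
    calc p * p * p = p ^ 3 := by ring
      _ = _ := this.symm
      _ = _ := by ring
  obtain ⟨x, hx⟩ : ∃ x, x ∉ C := by
    by_contra hcon
    push Not at hcon
    rw [(Subgroup.eq_top_iff' C).2 hcon, Subgroup.index_top] at hC
    exact hp.one_lt.ne hC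
  rw [← hCcard, ← card_commutator_mul_card_centralizer C hC hA hx]
  congr 1
  refine Nat.card_congr (Equiv.symm ?_)
  refine
    { toFun := fun n => ⟨((n : C) : P), ?_⟩
      invFun := fun z => ⟨⟨z, hZC z.2⟩, ?_⟩
      left_inv := fun n => rfl
      right_inv := fun z => rfl }
  · have h1 : x * ((n : C) : P) = ((n : C) : P) * x := mul_inv_eq_iff_eq_mul.1 (mul_inv_eq_one.1 n.2)
    rw [Subgroup.mem_center_iff]
    intro g
    obtain ⟨m, hm, k, rfl⟩ := eq_mul_zpow_of_index_prime C hC hx g
    exact (Commute.mul_left (hA m hm _ (n : C).2) ((show Commute x _ from h1).zpow_left k)).eq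
  · show x * (z : P) * x⁻¹ * (z : P)⁻¹ = 1
    rw [(Subgroup.mem_center_iff.1 z.2) x]
    simp

/-- A group of order `p^4` with commutator subgroup in the centre of order `p`: some centralizer
has index `p`. -/
lemma exists_index_centralizer_of_commutator (h : Nat.card (commutator P) = p)
    (hle : commutator P ≤ center P) :
    ∃ a : P, a ∉ center P ∧ (centralizer ({a} : Set P)).index = p := by
  have hp : p.Prime := Fact.out
  obtain ⟨a, ha⟩ : ∃ a, a ∉ center P := by
    by_contra hcon
    push Not at hcon
    have hb : commutator P = ⊥ := by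
      rw [commutator_def, eq_bot_iff, Subgroup.commutator_le]
      intro u _ v _
      rw [Subgroup.mem_bot, commutatorElement_eq_one_iff_mul_comm]
      exact (Subgroup.mem_center_iff.1 (hcon v)) u
    rw [hb, Subgroup.card_bot] at h
    exact hp.one_lt.ne h
  refine ⟨a, ha, ?_⟩
  have hmem : ∀ g : P, ⁅a, g⁆ ∈ commutator P := fun g =>
    Subgroup.commutator_mem_commutator (Subgroup.mem_top a) (Subgroup.mem_top g)
  let f : P →* commutator P :=
    { toFun := fun g => ⟨⁅a, g⁆, hmem g⟩
      map_one' := Subtype.ext (by simp)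
      map_mul' := fun g k => Subtype.ext (by
        show ⁅a, g * k⁆ = ⁅a, g⁆ * ⁅a, k⁆
        have hc := (Subgroup.mem_center_iff.1 (hle (hmem k))) g
        calc ⁅a, g * k⁆ = ⁅a, g⁆ * (g * ⁅a, k⁆ * g⁻¹) := by simp [commutatorElement_def, mul_assoc]
          _ = _ := by rw [hc, mul_inv_cancel_right]) }
  have hker : f.ker = centralizer ({a} : Set P) := by
    ext g
    rw [MonoidHom.mem_ker, Subgroup.mem_centralizer_singleton_iff]
    show (⟨⁅a, g⁆, hmem g⟩ : commutator P) = 1 ↔ _
    rw [Subtype.ext_iff, Subgroup.coe_one, commutatorElement_eq_one_iff_mul_comm]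
    exact eq_comm
  rw [← hker, Subgroup.index_ker]
  rcases (Nat.dvd_prime hp).1 (h ▸ Subgroup.card_subgroup_dvd_card f.range) with h1 | h1
  · exfalso
    apply ha
    rw [Subgroup.mem_center_iff]
    intro g
    have := (Subgroup.eq_bot_iff_forall _).1 (Subgroup.eq_bot_of_card_eq _ h1) (f g) ⟨g, rfl⟩
    exact (commutatorElement_eq_one_iff_mul_comm.1 (congrArg Subtype.val this)).symm
  · exact h1

/-- If the centre of a group of order `p^4` has order at least `p^2`, then a noncentral element
has centralizer of index `p`. -/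
lemma exists_index_centralizer_of_center (hP : Nat.card P = p ^ 4) (hna : center P ≠ ⊤)
    (hz : p ^ 2 ∣ Nat.card (center P)) :
    ∃ a : P, a ∉ center P ∧ (centralizer ({a} : Set P)).index = p := by
  have hp : p.Prime := Fact.out
  have hPp : IsPGroup p P := IsPGroup.of_card hP
  obtain ⟨a, -, ha⟩ := SetLike.exists_of_lt (lt_top_iff_ne_top.2 hna)
  refine ⟨a, ha, ?_⟩
  set C := centralizer ({a} : Set P) with hC
  have hlt : center P < C := lt_of_le_of_ne (Subgroup.center_le_centralizer _) fun h =>
    ha (h ▸ Subgroup.mem_centralizer_singleton_iff.2 rfl)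
  obtain ⟨i, hi⟩ := (hPp.to_subgroup (center P)).exists_card_eq
  obtain ⟨j, hj⟩ := (hPp.to_subgroup C).exists_card_eq
  have hi2 : 2 ≤ i := (Nat.pow_dvd_pow_iff_le_right hp.one_lt).1 (hi ▸ hz)
  have hij : i < j := by
    by_contra hcon
    have : Nat.card C ≤ Nat.card (center P) := by
      rw [hi, hj]; exact Nat.pow_le_pow_right hp.pos (not_lt.1 hcon)
    exact hlt.ne (Subgroup.eq_of_le_of_card_ge hlt.le this)
  have hj4 : j < 4 := by
    by_contra hcon
    have : Nat.card P ≤ Nat.card C := by
      rw [hP, hj]; exact Nat.pow_le_pow_right hp.pos (not_lt.1 hcon)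
    have htop : C = ⊤ := Subgroup.eq_top_of_le_card C this
    refine ha (Subgroup.mem_center_iff.2 fun g => ?_)
    exact Subgroup.mem_centralizer_singleton_iff.1 (htop ▸ Subgroup.mem_top g : g ∈ C)
  have hj3 : j = 3 := by omega
  subst hj3
  refine Nat.eq_of_mul_eq_mul_left (pow_pos hp.pos 3) ?_
  conv_lhs => rw [← hj, Subgroup.card_mul_index, hP]
  ring

end Cfsg.Lib.Blocks
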