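import Mathlib
import Cfsg.Agent.Chars.DegreeTools
import Cfsg.Agent.Blocks.Palfy.Dual
import Cfsg.Agent.Coprime.Fitting
import Cfsg.Agent.Coprime.Sylow
import Cfsg.Agent.Coprime.Generation

/-!
# Solvable groups with squarefree degrees

The Fitting quotient is metabelian, the Fitting subgroup is metabelian.
-/

set_option autoImplicit false
set_option linter.unusedSectionVars false

namespace Cfsg.Lib.SquarefreeDeg

open Cfsg.Lib.Chars Cfsg.Lib.Components
open Subgroup

universe u v

/-- All degrees are squarefree. -/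
def SF (G : Type u) [Group G] : Prop :=
  ∀ χ : Cfsg.IrrCharacter G, Squarefree (deg (χ : G → ℂ))

/-- If all orbit lengths of a coprime action of a `p`-group on an abelian group divide `p`, the
kernel has index dividing `p`. -/
theorem exists_small_kernel {p : ℕ} [hp : Fact p.Prime] {H : Type u} [Group H] [Finite H]
    (hH : IsPGroup p H) {V : Type v} [CommGroup V] [Finite V] (act : H →* MulAut V)
    (hV : ¬ p ∣ Nat.card V) (hs : ∀ v : V, (Palfy.stab act v).index ∣ p) :
    ∃ K : Subgroup H, K.index ∣ p ∧ ∀ x ∈ K, ∀ v : V, act x v = v := by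
  haveI : Group.IsNilpotent H := hH.isNilpotent
  by_cases hall : ∀ v : V, (Palfy.stab act v).index = 1
  · refine ⟨⊤, by simp, fun x _ v => ?_⟩
    exact Palfy.mem_stab act |>.1 (Subgroup.index_eq_one.1 (hall v) ▸ Subgroup.mem_top x)
  push Not at hall
  obtain ⟨v, hv⟩ := hall
  set S := Palfy.stab act v with hS
  have hSi : S.index = p := ((Nat.dvd_prime hp.out).1 (hs v)).resolve_left hv
  have hmax : ∀ T : Subgroup H, T.index = p → IsCoatom T := by
    intro T hT
    refine ⟨fun h => ?_, fun J hJ => ?_⟩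
    · rw [h, Subgroup.index_top] at hT
      exact hp.out.one_lt.ne hT
    · rcases (Nat.dvd_prime hp.out).1 (hT ▸ Subgroup.index_dvd_of_le hJ.le) with h | h
      · exact Subgroup.index_eq_one.1 h
      · have h1 := Subgroup.relIndex_mul_index hJ.le
        rw [h, hT] at h1
        exact absurd (Subgroup.relIndex_eq_one.1
          (Nat.eq_of_mul_eq_mul_right hp.out.pos (h1.trans (one_mul p).symm))) hJ.not_ge
  have hnorm : ∀ T : Subgroup H, T.index = p → T.Normal := fun T hT =>
    Subgroup.NormalizerCondition.normal_of_coatom T Group.normalizerCondition_of_isNilpotent (hmax T hT)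
  refine ⟨S, dvd_of_eq hSi, fun x hx w => ?_⟩
  by_contra hxw
  set S' := Palfy.stab act w with hS'
  have hne : S ≠ S' := fun h => hxw ((Palfy.mem_stab act).1 (show x ∈ S' from h ▸ hx))
  have hS'i : S'.index = p := ((Nat.dvd_prime hp.out).1 (hs w)).resolve_left fun h =>
    hxw ((Palfy.mem_stab act).1 (show x ∈ S' by rw [show S' = ⊤ from Subgroup.index_eq_one.1 h]; exact Subgroup.mem_top x))
  have hsup : S ⊔ S' = ⊤ := by
    refine (hmax S hSi).2 _ (lt_of_le_of_ne le_sup_left fun h => hne ?_)
    have hle : S' ≤ S := h.symm ▸ le_sup_right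
    by_contra hne'
    exact (hmax S hSi).1 ((hmax S' hS'i).2 S (lt_of_le_of_ne hle fun e => hne' e.symm))
  obtain ⟨h, hh, hnot⟩ : ∃ h ∈ Palfy.stab act (v * w), ¬ (h ∈ S ∧ h ∈ S') := by
    by_contra hcon
    push Not at hcon
    set U := Palfy.stab act (v * w)
    have hle : U ≤ S := fun y hy => (hcon y hy).1
    have hle' : U ≤ S' := fun y hy => (hcon y hy).2
    have hUi : U.index = p := by
      rcases (Nat.dvd_prime hp.out).1 (hs (v * w)) with h | h
      · exact absurd (top_le_iff.1 ((Subgroup.index_eq_one.1 h).symm ▸ hle)) (hmax S hSi).1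
      · exact h
    refine hne ?_
    have e1 : U = S := by
      rcases hle.lt_or_eq with h | h
      · exact absurd ((hmax U hUi).2 S h) (hmax S hSi).1
      · exact h
    have e2 : U = S' := by
      rcases hle'.lt_or_eq with h | h
      · exact absurd ((hmax U hUi).2 S' h) (hmax S' hS'i).1
      · exact h
    exact e1.symm.trans e2
  set d := act h v * v⁻¹ with hd
  have hvw : act h v * act h w = v * w := by
    rw [← map_mul]
    exact (Palfy.mem_stab act).1 hh
  have hd' : d = w * (act h w)⁻¹ := by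
    rw [hd, eq_mul_inv_of_mul_eq hvw, mul_comm v w]
    rw [mul_right_comm, mul_inv_cancel_right]
  have hconj : ∀ (u : V) (s : H), s ∈ Palfy.stab act u → (Palfy.stab act u).Normal →
      act s (act h u) = act h u := by
    intro u s hs' hn
    have h1 : h⁻¹ * s * h⁻¹⁻¹ ∈ Palfy.stab act u := hn.conj_mem s hs' h⁻¹
    rw [inv_inv, Palfy.mem_stab] at h1
    rw [← MulAut.mul_apply, ← map_mul, show s * h = h * (h⁻¹ * s * h) by group, map_mul,
      MulAut.mul_apply, h1]
  have hfix : ∀ y : H, act y d = d := by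
    intro y
    have : y ∈ Palfy.stab act d := by
      refine (show S ⊔ S' ≤ Palfy.stab act d from sup_le (fun s hs' => ?_) fun s hs' => ?_)
        (hsup ▸ Subgroup.mem_top y)
      · rw [Palfy.mem_stab, hd, map_mul, map_inv, hconj v s hs' (hnorm S hSi),
          (Palfy.mem_stab act).1 hs']
      · rw [Palfy.mem_stab, hd', map_mul, map_inv, hconj w s hs' (hnorm S' hS'i),
          (Palfy.mem_stab act).1 hs']
    exact (Palfy.mem_stab act).1 this
  have hpow : ∀ n : ℕ, act (h ^ n) v = d ^ n * v := by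
    intro n
    induction n with
    | zero => simp
    | succ n ih =>
      rw [pow_succ', map_mul, MulAut.mul_apply, ih, map_mul, map_pow, hfix, pow_succ, mul_assoc]
      rw [show act h v = d * v by rw [hd, inv_mul_cancel_right]]
  have hp' : h ^ p ∈ S := by
    haveI := hnorm S hSi
    exact hSi ▸ Subgroup.pow_index_mem S h
  have hd1 : d = 1 := by
    have h1 := hpow p
    rw [(Palfy.mem_stab act).1 hp'] at h1
    have h2 : d ^ p = 1 := mul_eq_right.1 h1.symm
    exact orderOf_eq_one_iff.1 (Nat.eq_one_of_dvd_coprimes (hp.out.coprime_iff_not_dvd.2 hV)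
      (orderOf_dvd_of_pow_eq_one h2) (orderOf_dvd_natCard d))
  refine hnot ⟨?_, ?_⟩
  · rw [Palfy.mem_stab]
    exact mul_inv_eq_one.1 (hd.symm.trans hd1)
  · rw [Palfy.mem_stab]
    exact (mul_inv_eq_one.1 (hd'.symm.trans hd1)).symm

variable {G : Type u} [Group G] [Finite G]

theorem SF.of_normal (h : SF G) (N : Subgroup G) [N.Normal] : SF N := by
  classical
  intro θ
  letI := Fintype.ofFinite G
  letI := Fintype.ofFinite N
  obtain ⟨χ, hχ, hc⟩ := exists_over N θ.2
  obtain ⟨m, hm, -⟩ := deg_over N hχ θ.2 hc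
  exact (h ⟨χ, hχ⟩).squarefree_of_dvd ⟨m, hm.trans (mul_comm _ _)⟩

theorem SF.of_surjective (h : SF G) {X : Type u} [Group X] [Finite X] (f : G →* X)
    (hf : Function.Surjective f) : SF X := fun χ => by
  have := h ⟨_, IsIrrCharacter.comp_surjective χ.2 f hf⟩
  rwa [Palfy.deg_comp χ f hf] at this

/-- The inertia index of a linear character of a normal subgroup is squarefree. -/
theorem SF.index_inertia (h : SF G) (A : Subgroup G) [A.Normal] [Fintype A] (lam : A →* ℂˣ) :
    Squarefree (inertia A (fun a : A => (lam a : ℂ))).index := by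
  classical
  letI := Fintype.ofFinite G
  have hlam : Cfsg.IsIrrCharacter A (fun a : A => (lam a : ℂ)) := isIrrCharacter_linear lam
  set T := inertia A (fun a : A => (lam a : ℂ)) with hT
  have hAT : A ≤ T := le_inertia (isClassFunction_irr ⟨_, hlam⟩)
  letI := Fintype.ofFinite T
  obtain ⟨χ, hχ, hχc⟩ := exists_over A hlam
  obtain ⟨ψ, hψ, hχψ, hψc⟩ := exists_constituent_over T hAT (isCharacter_of_irr hχ) hχc
  obtain ⟨he, -, -⟩ := clifford_correspondence hlam T hT hAT hχ hψ hχψ hψc
  have hd : deg χ = T.index * deg ψ := by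
    apply Nat.cast_injective (R := ℂ)
    rw [Nat.cast_mul, ← IsCharacter.apply_one_eq_deg (isCharacter_of_irr hχ),
      ← IsCharacter.apply_one_eq_deg (isCharacter_of_irr hψ), ← he]
    exact indFun_one T ψ
  exact (h ⟨χ, hχ⟩).squarefree_of_dvd ⟨_, hd⟩

theorem card_linear_dvd (A : Type u) [Group A] [Finite A] : Nat.card (A →* ℂˣ) ∣ Nat.card A := by
  rw [Nat.card_congr Abelianization.lift, CommGroup.card_monoidHom_of_hasEnoughRootsOfUnity]
  exact Subgroup.card_quotient_dvd_card _

/-- A complementing `p`-group has a subgroup of index dividing `p` centralising the nilpotent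
`p'`-subgroup. -/
theorem SF.small_kernel (h : SF G) {p : ℕ} [hp : Fact p.Prime] (A P : Subgroup G) [A.Normal]
    [Group.IsNilpotent A] (hA : ¬ p ∣ Nat.card A) (hP : IsPGroup p P) (hAP : A ⊔ P = ⊤) :
    ∃ K : Subgroup G, K ≤ P ∧ K.relIndex P ∣ p ∧ K ≤ centralizer (A : Set G) := by
  classical
  letI := Fintype.ofFinite A
  have hV : ¬ p ∣ Nat.card (A →* ℂˣ) := fun hd => hA (hd.trans (card_linear_dvd A))
  set act : P →* MulAut (A →* ℂˣ) := (Palfy.dualAct A).comp P.subtype with hact
  have hs : ∀ μ : A →* ℂˣ, (Palfy.stab act μ).index ∣ p := by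
    intro μ
    set T := inertia A (fun a : A => (μ a : ℂ)) with hT
    have hAT : A ≤ T := le_inertia (isClassFunction_irr ⟨_, isIrrCharacter_linear μ⟩)
    have h1 : Palfy.stab act μ = T.subgroupOf P := by
      ext x
      rw [Palfy.mem_stab, Subgroup.mem_subgroupOf, hT, Palfy.mem_inertia_iff_dual]
      rfl
    rw [h1]
    show T.relIndex P ∣ p
    obtain ⟨k, hk⟩ : ∃ k, T.relIndex P = p ^ k := by
      obtain ⟨n, hn⟩ := IsPGroup.iff_card.1 hP
      obtain ⟨k, -, hk⟩ := (Nat.dvd_prime_pow hp.out).1 (hn ▸ Subgroup.index_dvd_card (T.subgroupOf P))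
      exact ⟨k, hk⟩
    have h2 : T.relIndex P = T.index := by
      have e1 : T = (T.map (QuotientGroup.mk' A)).comap (QuotientGroup.mk' A) := by
        rw [Subgroup.comap_map_eq, QuotientGroup.ker_mk', sup_eq_left.2 hAT]
      have e2 : (⊤ : Subgroup G).map (QuotientGroup.mk' A) = P.map (QuotientGroup.mk' A) := by
        rw [← hAP, Subgroup.map_sup, QuotientGroup.map_mk'_self, bot_sup_eq]
      rw [e1, ← Subgroup.relIndex_top_right, Subgroup.relIndex_comap, Subgroup.relIndex_comap, e2]
    have h3 : Squarefree (p ^ k) := hk ▸ h2 ▸ h.index_inertia A μ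
    rw [hk]
    rcases k with _ | k
    · simp
    · rw [(h3.eq_zero_or_one_of_pow_of_not_isUnit hp.out.not_isUnit).resolve_left k.succ_ne_zero,
        pow_one]
  have h0 := @exists_small_kernel p hp P _ _ hP (A →* ℂˣ)
  have h1 := h0 act
  have h2 := h1 hV
  obtain ⟨K, hKi, hK⟩ := h2 hs
  refine ⟨K.map P.subtype, map_subtype_le K, ?_, ?_⟩
  · rw [Subgroup.relIndex, Subgroup.subgroupOf, Subgroup.comap_map_eq_self_of_injective P.subtype_injective]
    exact hKi
  have hKn : K.map P.subtype ≤ normalizer (A : Set G) := by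
    rw [normalizer_eq_top_iff.2 inferInstance]
    exact le_top
  refine Cfsg.Lib.Coprime.le_centralizer_of_frattini hKn ?_ ?_
  · obtain ⟨n, hn⟩ := IsPGroup.iff_card.1 ((hP.to_subgroup K).map P.subtype)
    rw [hn]
    exact ((hp.out.coprime_iff_not_dvd.2 hA).pow_left n).coprime_dvd_right
      (Subgroup.card_subgroup_dvd_card _)
  have hfr : _root_.commutator A ≤ frattini A := by
    rw [frattini, Order.radical]
    refine le_iInf₂ fun M hM => ?_
    haveI := Subgroup.NormalizerCondition.normal_of_coatom M Group.normalizerCondition_of_isNilpotent hM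
    exact Cfsg.Lib.Coprime.commutator_le_of_normal_coatom hM
  rintro _ ⟨x, hx, rfl⟩ a ha
  refine Subgroup.map_mono hfr ⟨MulAut.conjNormal (x : G) (⟨a, ha⟩ : A) * ⟨a, ha⟩⁻¹, ?_, ?_⟩
  · refine Palfy.mem_commutator_of_forall fun μ => ?_
    have h1 : act x⁻¹ μ = μ := hK x⁻¹ (inv_mem hx) μ
    have h2 := DFunLike.congr_fun h1 (⟨a, ha⟩ : A)
    rw [hact, MonoidHom.comp_apply, Palfy.dualAct_apply] at h2
    simp only [Subgroup.coe_subtype, InvMemClass.coe_inv, inv_inv] at h2
    rw [map_mul, map_inv, h2, mul_inv_cancel]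
  · simp [mul_assoc]

variable (G)

/-- The Fitting subgroup is generated by `O_p` and its `p'`-part. -/
theorem fitting_le_sup (p : ℕ) [hp : Fact p.Prime] :
    Cfsg.fittingSubgroup G ≤ Cfsg.pCore p G ⊔ (Cfsg.pPrimeCore p G ⊓ Cfsg.fittingSubgroup G) := by
  rw [fitting_eq_iSup_pCore]
  refine iSup_le fun q => ?_
  by_cases hq : q.1 = p
  · rw [hq]
    exact le_sup_left
  · haveI := Fact.mk q.2
    exact le_trans (le_inf (Cfsg.Lib.Coprime.pCore_le_pPrimeCore hp.out hq)
      (le_iSup (fun r : {r : ℕ // r.Prime} => Cfsg.pCore r.1 G) q)) le_sup_right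

variable {G}

/-- `O_p` of the Fitting quotient has order dividing `p`. -/
theorem SF.card_pCore_dvd (h : SF G) [Group.IsSolvable G]
    [(Cfsg.fittingSubgroup G).Normal] (p : ℕ) [hp : Fact p.Prime] :
    Nat.card (Cfsg.pCore p (G ⧸ Cfsg.fittingSubgroup G)) ∣ p := by
  classical
  set F := Cfsg.fittingSubgroup G with hF
  set π := QuotientGroup.mk' F with hπ
  haveI : (Cfsg.pPrimeCore p G).Normal := Cfsg.Lib.Components.pPrimeCore_normal' (G := G) p
  haveI : (Cfsg.pCore p G).Normal := Cfsg.Lib.Components.pCore_normal' (G := G) p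
  haveI : (Cfsg.pCore p (G ⧸ F)).Normal := Cfsg.Lib.Components.pCore_normal' (G := G ⧸ F) p
  set Q := Cfsg.pCore p (G ⧸ F) with hQ
  set M := Q.comap π with hM
  set A := Cfsg.pPrimeCore p G ⊓ F with hA
  have hAM : A ≤ M := fun a ha => by
    rw [hM, mem_comap, show π a = 1 from (QuotientGroup.eq_one_iff a).2 ha.2]
    exact one_mem _
  set A' := A.subgroupOf M with hA'
  obtain ⟨S⟩ := (inferInstance : Nonempty (Sylow p M))
  haveI hAn : Group.IsNilpotent A := by
    haveI := isNilpotent_fitting (G := G)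
    exact Group.nilpotent_of_mulEquiv (Subgroup.subgroupOfEquivOfLe (inf_le_right : A ≤ F))
  have hAcard : ¬ p ∣ Nat.card A := fun hd => hp.out.coprime_iff_not_dvd.1
    (Nat.Coprime.symm (Cfsg.Lib.Components.coprime_card_pPrimeCore p))
    (hd.trans (Subgroup.card_dvd_of_le inf_le_left))
  haveI : Group.IsNilpotent A' :=
    Group.nilpotent_of_mulEquiv (Subgroup.subgroupOfEquivOfLe hAM).symm
  have hA'card : ¬ p ∣ Nat.card A' := by
    rwa [Nat.card_congr (Subgroup.subgroupOfEquivOfLe hAM).toEquiv]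
  -- the map onto `O_p` of the quotient
  set f : M →* Q := (π.comp M.subtype).codRestrict Q (fun m => m.2) with hf
  have hfs : Function.Surjective f := fun y => by
    obtain ⟨g, hg⟩ := QuotientGroup.mk_surjective (y : G ⧸ F)
    exact ⟨⟨g, by rw [hM, mem_comap]; show π g ∈ Q; rw [show π g = (y : G ⧸ F) from hg]; exact y.2⟩,
      Subtype.ext hg⟩
  have hQp : IsPGroup p Q := isPGroup_pCore p
  have hSf : (S : Subgroup M).map f = ⊤ := by
    rw [← Sylow.coe_mapSurjective (P := S) hfs]
    exact le_antisymm le_top fun y _ => by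
      have := (S.mapSurjective hfs).3 (Q := ⊤) (hQp.to_subgroup _) le_top
      rw [← this]; exact Subgroup.mem_top y
  have hfker : ∀ m : M, f m = 1 ↔ (m : G) ∈ F := fun m => by
    rw [← QuotientGroup.eq_one_iff (N := F) (m : G)]
    exact ⟨fun e => congrArg Subtype.val e, fun e => Subtype.ext e⟩
  have hOS : ∀ x : M, (x : G) ∈ Cfsg.pCore p G → x ∈ (S : Subgroup M) := by
    intro x hx
    haveI : ((Cfsg.pCore p G).subgroupOf M).Normal := Subgroup.normal_subgroupOf
    have hle : (Cfsg.pCore p G).subgroupOf M ≤ (S : Subgroup M) :=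
      IsPGroup.le_sylow_of_normal ((isPGroup_pCore p).comap_subtype) S
    exact hle hx
  have hsup : A' ⊔ (S : Subgroup M) = ⊤ := by
    refine eq_top_iff.2 fun m _ => ?_
    obtain ⟨s, hs, hsm⟩ : f m ∈ (S : Subgroup M).map f := hSf ▸ Subgroup.mem_top _
    have h1 : ((m * s⁻¹ : M) : G) ∈ F := (hfker _).1 (by rw [map_mul, map_inv, hsm, mul_inv_cancel])
    have h2 := fitting_le_sup G p h1
    haveI : A.Normal := inferInstance
    obtain ⟨o, ho, a, ha, hoa⟩ := Subgroup.mem_sup_of_normal_right.1 h2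
    have hoM : o ∈ M := by
      rw [show o = ((m * s⁻¹ : M) : G) * a⁻¹ by rw [← hoa]; group]
      exact M.mul_mem (m * s⁻¹).2 (M.inv_mem (hAM ha))
    rw [show m = ⟨o, hoM⟩ * ⟨a, hAM ha⟩ * s from by
      rw [show (⟨o, hoM⟩ : M) * ⟨a, hAM ha⟩ = m * s⁻¹ from Subtype.ext hoa, inv_mul_cancel_right]]
    exact mul_mem (mul_mem (Subgroup.mem_sup_right (hOS _ ho)) (Subgroup.mem_sup_left ha))
      (Subgroup.mem_sup_right hs)
  haveI : M.Normal := Subgroup.Normal.comap inferInstance _
  obtain ⟨K, hKS, hKi, hKc⟩ := (h.of_normal M).small_kernel A' (S : Subgroup M) hA'card S.2 hsup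
  -- the centraliser of the `p'`-part lies in the Fitting subgroup
  set R := M ⊓ centralizer (A : Set G) with hR
  haveI : A.Normal := inferInstance
  haveI : R.Normal := inferInstance
  have hRF : R ≤ F := by
    refine le_sSup ⟨inferInstance, ?_⟩
    set g : R →* G ⧸ A := (QuotientGroup.mk' A).comp R.subtype with hg
    have hgp : IsPGroup p g.range := by
      refine ((S.2.map M.subtype).map (QuotientGroup.mk' A)).to_le ?_
      rintro _ ⟨r, rfl⟩
      have hr : (⟨(r : G), r.2.1⟩ : M) ∈ A' ⊔ (S : Subgroup M) := hsup ▸ Subgroup.mem_top _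
      obtain ⟨a, ha, s, hs, has⟩ := Subgroup.mem_sup_of_normal_left.1 hr
      refine ⟨(s : G), ⟨s, hs, rfl⟩, ?_⟩
      have e := congrArg (fun z : M => (QuotientGroup.mk' A) (z : G)) has
      simp only [Subgroup.coe_mul, map_mul] at e
      rw [show QuotientGroup.mk' A (a : G) = 1 from (QuotientGroup.eq_one_iff _).2 ha, one_mul] at e
      exact e
    haveI := hgp.isNilpotent
    refine Subgroup.isNilpotent_of_ker_le_center g.rangeRestrict (fun x hx => ?_)
    rw [MonoidHom.ker_rangeRestrict, MonoidHom.mem_ker] at hx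
    rw [Subgroup.mem_center_iff]
    exact fun y => Subtype.ext ((mem_centralizer_iff.1 y.2.2 (x : G) ((QuotientGroup.eq_one_iff _).1 hx)).symm)
  have hKf : ∀ k ∈ K, f k = 1 := fun k hk => (hfker k).2 (hRF ⟨k.2, mem_centralizer_iff.2 fun a ha =>
    congrArg Subtype.val (mem_centralizer_iff.1 (hKc hk) ⟨a, hAM ha⟩ ha)⟩)
  set fS : (S : Subgroup M) →* Q := f.comp (S : Subgroup M).subtype with hfS
  have hfSs : Function.Surjective fS := fun y => by
    obtain ⟨s, hs, hsy⟩ : y ∈ (S : Subgroup M).map f := hSf ▸ Subgroup.mem_top _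
    exact ⟨⟨s, hs⟩, hsy⟩
  refine (Dvd.dvd.trans ?_ hKi)
  have hle : K.subgroupOf (S : Subgroup M) ≤ fS.ker := fun x hx => hKf _ hx
  have : fS.ker.index = Nat.card Q := by
    rw [Subgroup.index_ker, MonoidHom.range_eq_top.2 hfSs, Subgroup.card_top]
  rw [← this]
  exact Subgroup.index_dvd_of_le hle

/-- A nilpotent group with squarefree degrees is metabelian. -/
theorem SF.nilpotent_metabelian (h : SF G) [Group.IsNilpotent G] : derivedSeries G 2 = ⊥ := by
  classical
  have hall : ∀ (p : ℕ), p.Prime → derivedSeries G 2 ≤ Cfsg.pPrimeCore p G := by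
    intro p hp
    haveI := Fact.mk hp
    haveI : (Cfsg.pPrimeCore p G).Normal := Cfsg.Lib.Components.pPrimeCore_normal' (G := G) p
    set π := QuotientGroup.mk' (Cfsg.pPrimeCore p G) with hπ
    have hX : IsPGroup p (G ⧸ Cfsg.pPrimeCore p G) := by
      intro y
      obtain ⟨x, rfl⟩ := QuotientGroup.mk_surjective y
      have hxF : x ∈ Cfsg.pCore p G ⊔ Cfsg.pPrimeCore p G :=
        (sup_le le_sup_left (inf_le_left.trans le_sup_right) : _ ≤ Cfsg.pCore p G ⊔ Cfsg.pPrimeCore p G) (fitting_le_sup G p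
          ((show (⊤ : Subgroup G) ≤ Cfsg.fittingSubgroup G from
              le_sSup ⟨inferInstance, Group.nilpotent_of_mulEquiv Subgroup.topEquiv.symm⟩)
            (Subgroup.mem_top x)))
      obtain ⟨o, ho, a, ha, rfl⟩ := Subgroup.mem_sup_of_normal_right.1 hxF
      obtain ⟨k, hk⟩ := (isPGroup_pCore (G := G) p) ⟨o, ho⟩
      refine ⟨k, ?_⟩
      show (π (o * a)) ^ p ^ k = 1
      rw [map_mul, show π a = 1 from (QuotientGroup.eq_one_iff a).2 ha, mul_one, ← map_pow]
      rw [show o ^ p ^ k = 1 from congrArg Subtype.val hk, map_one]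
    letI := Fintype.ofFinite (G ⧸ Cfsg.pPrimeCore p G)
    obtain ⟨m, hm⟩ := IsPGroup.iff_card.1 hX
    have hsf := h.of_surjective π (QuotientGroup.mk'_surjective _)
    have h2 : derivedSeries (G ⧸ Cfsg.pPrimeCore p G) 2 = ⊥ := derived_two p fun χ hχ => by
      obtain ⟨j, -, hj⟩ := (Nat.dvd_prime_pow hp).1 (hm ▸ IsIrrCharacter.deg_dvd hχ)
      have := hsf ⟨χ, hχ⟩
      simp only [hj] at this
      rcases this.eq_zero_or_one_of_pow_of_not_isUnit hp.not_isUnit with h0 | h0
      · exact Or.inl (by rw [hj, h0, pow_zero])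
      · exact Or.inr (by rw [hj, h0, pow_one])
    intro x hx
    rw [← QuotientGroup.eq_one_iff, ← Subgroup.mem_bot, ← h2]
    exact map_derivedSeries_le_derivedSeries π 2 (Subgroup.mem_map_of_mem _ hx)
  refine eq_bot_iff.2 fun x hx => Subgroup.mem_bot.2 ?_
  by_contra hne
  set p := (orderOf x).minFac with hp
  have hpp : p.Prime := Nat.minFac_prime fun e => hne (orderOf_eq_one_iff.1 e)
  haveI := Fact.mk hpp
  refine hpp.coprime_iff_not_dvd.1 (Cfsg.Lib.Components.coprime_card_pPrimeCore (G := G) p).symm ?_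
  refine (Nat.minFac_dvd _).trans ?_
  have := orderOf_dvd_natCard (⟨x, hall p hpp hx⟩ : Cfsg.pPrimeCore p G)
  rwa [Subgroup.orderOf_mk] at this

/-- Solvable groups with squarefree degrees have derived length at most four. -/
theorem SF.derived_four (h : SF G) [Group.IsSolvable G] : derivedSeries G 4 = ⊥ := by
  classical
  letI := Fintype.ofFinite G
  set F := Cfsg.fittingSubgroup G with hF
  haveI : F.Normal := inferInstance
  haveI := isNilpotent_fitting (G := G)
  have hF2 : derivedSeries F 2 = ⊥ := (h.of_normal F).nilpotent_metabelian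
  haveI : Group.IsSolvable (G ⧸ F) :=
    Group.isSolvable_of_surjective (QuotientGroup.mk'_surjective F)
  set X := G ⧸ F
  have hcent : _root_.commutator X ≤ centralizer (Cfsg.fittingSubgroup X : Set X) := by
    rw [Subgroup.le_centralizer_iff, fitting_eq_iSup_pCore]
    refine iSup_le fun q => ?_
    haveI := Fact.mk q.2
    haveI : (Cfsg.pCore q.1 X).Normal := Cfsg.Lib.Components.pCore_normal' (G := X) q.1
    haveI : IsCyclic (Cfsg.pCore q.1 X) := by
      rcases (Nat.dvd_prime q.2).1 (h.card_pCore_dvd q.1) with hc | hc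
      · haveI := (Nat.card_eq_one_iff_unique.1 hc).1
        infer_instance
      · exact isCyclic_of_prime_card hc
    set c : X →* MulAut (Cfsg.pCore q.1 X) := MulAut.conjNormal
    intro y hy
    rw [mem_centralizer_iff]
    intro x hx
    have h1 : c x = 1 := by
      have h2 : ((IsCyclic.mulAutMulEquiv (Cfsg.pCore q.1 X)).toMonoidHom.comp c) x = 1 :=
        MonoidHom.mem_ker.1 (Abelianization.commutator_subset_ker _ hx)
      rw [MonoidHom.comp_apply] at h2
      exact (MulEquiv.map_eq_one_iff _).1 h2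
    have h3 := congrArg (fun e : MulAut (Cfsg.pCore q.1 X) => ((e ⟨y, hy⟩ : Cfsg.pCore q.1 X) : X)) h1
    simp only [c, MulAut.conjNormal_apply, MulAut.one_apply] at h3
    calc x * y = x * y * x⁻¹ * x := by group
      _ = y * x := by rw [h3]
  have hX2 : derivedSeries X 2 = ⊥ := by
    rw [derivedSeries_succ, derivedSeries_one, Subgroup.commutator_eq_bot_iff_le_centralizer]
    exact hcent.trans (centralizer_le
      (SetLike.coe_subset_coe.2 (hcent.trans Cfsg.Lib.Coprime.centralizer_fitting_le)))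
  have h1 : derivedSeries G 2 ≤ F := by
    intro x hx
    rw [← QuotientGroup.eq_one_iff, ← Subgroup.mem_bot, ← hX2]
    exact map_derivedSeries_le_derivedSeries (QuotientGroup.mk' F) 2 (Subgroup.mem_map_of_mem _ hx)
  have h2 := derivedSeries_le_map F h1 2
  rw [hF2, Subgroup.map_bot] at h2
  exact le_bot_iff.1 h2

end Cfsg.Lib.SquarefreeDeg
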