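import Mathlib
import Cfsg.Agent.Blocks.CoveringDefect
import Cfsg.Agent.Blocks.ItoDegrees

/-!
# A height zero character of an invariant block with inertia index prime to `p`
-/

set_option autoImplicit false
set_option linter.unusedSectionVars false
set_option linter.style.haveILetI false

namespace Cfsg.Lib.Blocks

open Cfsg.Lib.Chars
open scoped ComplexConjugate

universe u

variable {G : Type u} [Group G] [Fintype G] {p : ℕ} [hp : Fact p.Prime] {M : Ideal AlgInt}

theorem deg_ne_zero' {H : Type*} [Group H] {χ : H → ℂ} (h : Cfsg.IsIrrCharacter H χ) : deg χ ≠ 0 := by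
  intro h0
  refine IsIrrCharacter.apply_one_ne_zero h ?_
  rw [IsCharacter.apply_one_eq_deg (isCharacter_of_irr h), h0, Nat.cast_zero]

/-- An invariant block has a character of least `p`-part of the degree whose inertia group has
index prime to `p`. -/
theorem exists_height_zero_inertia (hM : IsPModular p M) {N : Subgroup G} [N.Normal] [Fintype N]
    {b : Set (IrrCharacter N)} (hb : IsPBlock M b) (hinv : ∀ g : G, cjIrr N g '' b = b) :
    ∃ θ ∈ b, (charDegree (θ : N → ℂ)).factorization p =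
        sInf ((fun ψ : IrrCharacter N => (charDegree (ψ : N → ℂ)).factorization p) '' b) ∧
      ¬ p ∣ (inertia N (θ : N → ℂ)).index := by
  classical
  obtain ⟨B, hB, hcov, hdef⟩ := exists_covering_large hM hb hinv
  set fG := fun χ : IrrCharacter G => (charDegree (χ : G → ℂ)).factorization p
  set fN := fun ψ : IrrCharacter N => (charDegree (ψ : N → ℂ)).factorization p
  obtain ⟨χ, hχ, hχmin⟩ := Nat.sInf_mem ((IsPBlock.nonempty hM hB).image fG)
  obtain ⟨θ, hθb, hθ⟩ := exists_constituent_mem hM hB hb hcov hχ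
  refine ⟨θ, hθb, ?_⟩
  obtain ⟨ψ₀, hψ₀, hψmin⟩ := Nat.sInf_mem ((IsPBlock.nonempty hM hb).image fN)
  have hleG : fG χ ≤ (Nat.card G).factorization p :=
    (Nat.factorization_le_iff_dvd (charDegree_eq_deg (χ : G → ℂ) ▸
      (deg_ne_zero' χ.2)) Nat.card_pos.ne').2
      (charDegree_eq_deg (χ : G → ℂ) ▸ IsIrrCharacter.deg_dvd χ.2) p
  have hleN : fN ψ₀ ≤ (Nat.card N).factorization p :=
    (Nat.factorization_le_iff_dvd (charDegree_eq_deg (ψ₀ : N → ℂ) ▸
      (deg_ne_zero' ψ₀.2)) Nat.card_pos.ne').2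
      (charDegree_eq_deg (ψ₀ : N → ℂ) ▸ IsIrrCharacter.deg_dvd ψ₀.2) p
  have hmin : sInf (fN '' b) ≤ fN θ := Nat.sInf_le ⟨θ, hθb, rfl⟩
  have hcard := congrArg (fun n : ℕ => n.factorization p) (Subgroup.card_mul_index N)
  simp only [Nat.factorization_mul Nat.card_pos.ne' Subgroup.index_ne_zero_of_finite,
    Finsupp.add_apply] at hcard
  simp only [blockDefect] at hdef
  rw [← hχmin, ← hψmin] at hdef
  have hχθ : fG χ = fN ψ₀ := by
    simp only [fG, fN] at hleG hleN hdef hcard ⊢
    omega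
  obtain ⟨e, he⟩ := deg_eq_mult_orbit N χ.2 θ.2 hθ
  have hd0 : deg (χ : G → ℂ) ≠ 0 := (deg_ne_zero' χ.2)
  have horb := card_conjOrbit N (θ : N → ℂ)
  have hidx : (conjOrbit N (θ : N → ℂ)).card = (inertia N (θ : N → ℂ)).index := by
    rw [← (inertia N (θ : N → ℂ)).index_mul_card] at horb
    exact Nat.eq_of_mul_eq_mul_right Nat.card_pos horb
  rw [he] at hd0
  have he0 : e ≠ 0 := left_ne_zero_of_mul hd0
  have ho0 : (conjOrbit N (θ : N → ℂ)).card ≠ 0 := left_ne_zero_of_mul (right_ne_zero_of_mul hd0)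
  have hθ0 : deg (θ : N → ℂ) ≠ 0 := (deg_ne_zero' θ.2)
  have hfG : fG χ = e.factorization p +
      ((inertia N (θ : N → ℂ)).index.factorization p + fN θ) := by
    simp only [fG, fN, charDegree_eq_deg]
    rw [he, Nat.factorization_mul he0 (Nat.mul_ne_zero ho0 hθ0), Finsupp.add_apply,
      Nat.factorization_mul ho0 hθ0, Finsupp.add_apply, hidx]
  refine ⟨by rw [← hψmin] at hmin ⊢; show fN θ = fN ψ₀; omega, fun hd => ?_⟩
  have := hp.out.factorization_pos_of_dvd Subgroup.index_ne_zero_of_finite hd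
  rw [← hψmin] at hmin
  omega

end Cfsg.Lib.Blocks
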