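import Cfsg.Agent.Chars.Count
import Cfsg.Agent.Chars.Construct
import Cfsg.Agent.Chars.Degree
import Cfsg.Agent.Chars.DegreeTools
import Cfsg.Agent.S0169
import Cfsg.Agent.Transfer.Tate
import Cfsg.Agent.Blocks.SylowNormalize
import Cfsg.Agent.Blocks.RegularWeight

/-!
# Extending the characters of a Sylow normalizer

If every irreducible character of `N = N_G(P)` of degree prime to `p` extends to `G`, then `G` has a
normal subgroup `K` with `G = KN` and `K ∩ N = 1`: the common kernel of the extensions of the characters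
trivial on `P` meets `N` in `P`, and Burnside and Tate give it a normal `p`-complement.
-/

set_option autoImplicit false
set_option linter.style.haveILetI false

namespace Cfsg.Lib.SylowExtend

open Subgroup Cfsg Cfsg.Lib.Chars

universe u

variable {p : ℕ} [Fact p.Prime]

/-- The common kernel of the irreducible characters that are constant on `R`. -/
noncomputable def closureKer {G : Type u} [Group G] [Finite G] (R : Subgroup G) : Subgroup G :=
  ⨅ χ : {χ : IrrCharacter G // ∀ x ∈ R, (χ : G → ℂ) x = (χ : G → ℂ) 1},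
    kerSubgroup ((χ : IrrCharacter G) : G → ℂ) (isCharacter_of_irr χ.1.2)

theorem mem_closureKer {G : Type u} [Group G] [Finite G] (R : Subgroup G) (g : G) :
    g ∈ closureKer R ↔ ∀ χ : IrrCharacter G, (∀ x ∈ R, (χ : G → ℂ) x = (χ : G → ℂ) 1) →
      (χ : G → ℂ) g = (χ : G → ℂ) 1 := by
  simp only [closureKer, Subgroup.mem_iInf, mem_kerSubgroup, Subtype.forall]

theorem closureKer_normal {G : Type u} [Group G] [Finite G] (R : Subgroup G) :
    (closureKer R).Normal :=
  normal_iInf_normal fun _ => kerSubgroup_normal _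

theorem le_closureKer {G : Type u} [Group G] [Finite G] (R : Subgroup G) : R ≤ closureKer R :=
  fun _ hx => (mem_closureKer R _).2 fun _ hχ => hχ _ hx

theorem closureKer_mono {G : Type u} [Group G] [Finite G] {R S : Subgroup G} (h : R ≤ S) :
    closureKer R ≤ closureKer S :=
  fun _ hx => (mem_closureKer S _).2 fun χ hχ => (mem_closureKer R _).1 hx χ fun y hy => hχ y (h hy)

/-- Separation by characters of degree prime to `p`. -/
theorem exists_separating {N : Type u} [Group N] [Finite N] (Q R : Subgroup N) [Q.Normal] [R.Normal]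
    (hQ : ¬ p ∣ Q.index) (hcomm : ∀ a ∈ Q, ∀ b ∈ Q, a * b * a⁻¹ * b⁻¹ ∈ R) {x : N} (hx : x ∉ R) :
    ∃ θ : IrrCharacter N, ¬ p ∣ charDegree (θ : N → ℂ) ∧
      (∀ r ∈ R, (θ : N → ℂ) r = (θ : N → ℂ) 1) ∧ (θ : N → ℂ) x ≠ (θ : N → ℂ) 1 := by
  classical
  set f := QuotientGroup.mk' R with hf
  have hfs : Function.Surjective f := QuotientGroup.mk'_surjective R
  have hne : f x ≠ 1 := fun h => hx ((QuotientGroup.eq_one_iff x).1 h)
  obtain ⟨η, hη⟩ : ∃ η : IrrCharacter (N ⧸ R), (η : N ⧸ R → ℂ) (f x) ≠ (η : N ⧸ R → ℂ) 1 := by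
    by_contra h
    push Not at h
    exact hne (isConj_one_left.mp ((isConj_iff_forall_irr (f x) 1).2 h))
  refine ⟨⟨_, IsIrrCharacter.comp_surjective η.2 f hfs⟩, ?_, ?_, ?_⟩
  · obtain ⟨m, ρ, hρ, hρη⟩ := η.2
    haveI := hρ
    haveI : (Q.map f).Normal := Subgroup.Normal.map inferInstance f hfs
    have hab : ∀ a ∈ Q.map f, ∀ b ∈ Q.map f, a * b = b * a := by
      rintro _ ⟨a, ha, rfl⟩ _ ⟨b, hb, rfl⟩
      have h1 : f (a * b * a⁻¹ * b⁻¹) = 1 := (QuotientGroup.eq_one_iff _).2 (hcomm a ha b hb)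
      simp only [map_mul, map_inv] at h1
      exact commutatorElement_eq_one_iff_mul_comm.1 h1
    have hd := Cfsg.Agent.S0169.result ρ (Q.map f) hab
    have hdvd : (Q.map f).index ∣ Q.index := Subgroup.index_map_dvd Q hfs
    have hdeg : charDegree (fun y : N => (η : N ⧸ R → ℂ) (f y)) = Module.finrank ℂ (Fin m → ℂ) := by
      rw [charDegree_eq_deg (IsIrrCharacter.comp_surjective η.2 f hfs)]
      apply Nat.cast_injective (R := ℂ)
      rw [← IsCharacter.apply_one_eq_deg
        (isCharacter_of_irr (IsIrrCharacter.comp_surjective η.2 f hfs)), map_one, ← hρη, ρ.char_one]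
    rw [hdeg]
    exact fun h => hQ ((h.trans hd).trans hdvd)
  · intro r hr
    show (η : N ⧸ R → ℂ) (f r) = (η : N ⧸ R → ℂ) (f 1)
    rw [show f r = 1 from (QuotientGroup.eq_one_iff r).2 hr, map_one]
  · show (η : N ⧸ R → ℂ) (f x) ≠ (η : N ⧸ R → ℂ) (f 1)
    rwa [map_one]

/-- `P'` as a subgroup of `G`. -/
abbrev derivedIn {G : Type u} [Group G] (P : Subgroup G) : Subgroup G :=
  (commutator ↥P).map P.subtype

/-- A normal subgroup is `p`-nilpotent if it has abelian self-normalizing Sylow modulo a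
normal subgroup meeting the Sylow subgroup inside its Frattini subgroup. -/
theorem hasNormalPComplement_of_quotient_burnside {H : Type u} [Group H] [Finite H]
    (S : Sylow p H) (L : Subgroup H) [L.Normal]
    (hLS : L ⊓ (S : Subgroup H) ≤ (frattini ↥(S : Subgroup H)).map (S : Subgroup H).subtype)
    (hab : ∀ a ∈ (S : Subgroup H), ∀ b ∈ (S : Subgroup H), a * b * a⁻¹ * b⁻¹ ∈ L)
    (hself : normalizer ((S : Subgroup H) : Set H) ≤ (S : Subgroup H)) :
    HasNormalPComplement p H := by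
  classical
  set f := QuotientGroup.mk' L with hf
  set T : Sylow p (H ⧸ L) := S.mapSurjective (QuotientGroup.mk'_surjective L) with hT
  have hTc : (T : Subgroup (H ⧸ L)) = (S : Subgroup H).map f := Sylow.coe_mapSurjective _ _
  have habT : ∀ a ∈ (T : Subgroup (H ⧸ L)), ∀ b ∈ (T : Subgroup (H ⧸ L)), a * b = b * a := by
    rw [hTc]
    rintro _ ⟨a, ha, rfl⟩ _ ⟨b, hb, rfl⟩
    have h1 : f (a * b * a⁻¹ * b⁻¹) = 1 := (QuotientGroup.eq_one_iff _).2 (hab a ha b hb)
    simp only [map_mul, map_inv] at h1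
    exact commutatorElement_eq_one_iff_mul_comm.1 h1
  have hle : normalizer ((T : Subgroup (H ⧸ L)) : Set (H ⧸ L)) ≤
      centralizer ((T : Subgroup (H ⧸ L)) : Set (H ⧸ L)) := by
    intro y hy
    rw [hTc, ← Cfsg.Lib.Blocks.SylowNorm.map_normalizer_sylow L S] at hy
    obtain ⟨z, hz, rfl⟩ := hy
    exact fun t ht => habT t ht _ (hTc ▸ mem_map_of_mem f (hself hz))
  set R := pResidual p H with hR
  haveI : R.Normal := Cfsg.Lib.Transfer.pResidual_normal'
  have hRS : R ⊓ (S : Subgroup H) ≤ (frattini ↥(S : Subgroup H)).map (S : Subgroup H).subtype := by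
    rintro x ⟨hxR, hxS⟩
    refine hLS ⟨?_, hxS⟩
    have hker : R ≤ ((MonoidHom.transferSylow T hle).comp f).ker := by
      refine Cfsg.Lib.Transfer.pResidual_le (IsPGroup.of_injective T.2
        (QuotientGroup.kerLift _) (QuotientGroup.kerLift_injective _))
    have h1 : f x ∈ (MonoidHom.transferSylow T hle).ker := hker hxR
    have h2 : f x ∈ (T : Subgroup (H ⧸ L)) := hTc ▸ mem_map_of_mem f hxS
    have h3 := (MonoidHom.ker_transferSylow_disjoint T hle _ T.2).le_bot ⟨h1, h2⟩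
    exact (QuotientGroup.eq_one_iff x).1 (mem_bot.1 h3)
  have hc : HasNormalPComplement p R :=
    Cfsg.Lib.Transfer.hasNormalPComplement_of_le_frattini S R hRS
  rw [Cfsg.Lib.Transfer.hasNormalPComplement_iff_pResidual] at hc ⊢
  have heq : pResidual p R = ⊤ := Cfsg.Lib.SolvStruct.pResidual_pResidual_eq_top
  rwa [heq, Subgroup.card_top] at hc

/-- The extension criterion. -/
theorem exists_complement {G : Type u} [Group G] [Finite G] (P : Sylow p G)
    (hext : ∀ θ : IrrCharacter ↥(normalizer ((P : Subgroup G) : Set G)),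
      ¬ p ∣ charDegree (θ : ↥(normalizer ((P : Subgroup G) : Set G)) → ℂ) →
        ∃ χ : IrrCharacter G, ∀ x : ↥(normalizer ((P : Subgroup G) : Set G)),
          (χ : G → ℂ) x = (θ : ↥(normalizer ((P : Subgroup G) : Set G)) → ℂ) x) :
    ∃ K : Subgroup G, K.Normal ∧ K ⊔ normalizer ((P : Subgroup G) : Set G) = ⊤ ∧
      K ⊓ normalizer ((P : Subgroup G) : Set G) = ⊥ := by
  classical
  set N := normalizer ((P : Subgroup G) : Set G) with hN
  have hPN : (P : Subgroup G) ≤ N := le_normalizer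
  -- the intersections with the normalizer
  have hidx : ¬ p ∣ ((P : Subgroup G).subgroupOf N).index := fun h =>
    P.not_dvd_index (h.trans (relIndex_dvd_index_of_le hPN))
  haveI hQn : ((P : Subgroup G).subgroupOf N).Normal := normal_in_normalizer
  have hinter : ∀ R : Subgroup G, R ≤ N → (∀ g ∈ N, ∀ r ∈ R, g * r * g⁻¹ ∈ R) →
      (∀ a ∈ (P : Subgroup G), ∀ b ∈ (P : Subgroup G), a * b * a⁻¹ * b⁻¹ ∈ R) →
      ∀ x ∈ closureKer R, x ∈ N → x ∈ R := by
    intro R hRN hRn hRc x hx hxN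
    by_contra hxR
    haveI : (R.subgroupOf N).Normal := ⟨fun r hr g => hRn g g.2 r hr⟩
    obtain ⟨θ, hd, hθR, hθx⟩ := exists_separating (p := p) ((P : Subgroup G).subgroupOf N)
      (R.subgroupOf N) hidx (fun a ha b hb => hRc a ha b hb) (x := ⟨x, hxN⟩) hxR
    obtain ⟨χ, hχ⟩ := hext θ hd
    refine hθx ?_
    have h1 : (χ : G → ℂ) 1 = (θ : N → ℂ) 1 := hχ 1
    rw [← hχ ⟨x, hxN⟩, ← h1]
    refine (mem_closureKer R x).1 hx χ fun y hy => ?_
    rw [h1, ← hθR ⟨y, hRN hy⟩ hy, ← hχ ⟨y, hRN hy⟩]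
  have hD : derivedIn (P : Subgroup G) ≤ P := map_subtype_le _
  have hDc : ∀ a ∈ (P : Subgroup G), ∀ b ∈ (P : Subgroup G),
      a * b * a⁻¹ * b⁻¹ ∈ derivedIn (P : Subgroup G) := fun a ha b hb =>
    ⟨_, commutator_mem_commutator (mem_top (⟨a, ha⟩ : (P : Subgroup G))) (mem_top ⟨b, hb⟩), rfl⟩
  have hDn : ∀ g ∈ N, ∀ r ∈ derivedIn (P : Subgroup G), g * r * g⁻¹ ∈ derivedIn (P : Subgroup G) := by
    intro g hg r hr
    rw [derivedIn, map_subtype_commutator] at hr ⊢
    have hg' : (P : Subgroup G).map (MulAut.conj g).toMonoidHom = (P : Subgroup G) :=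
      Cfsg.Lib.Transfer.map_conj_eq_self_iff.2 hg
    have h := mem_map_of_mem (MulAut.conj g).toMonoidHom hr
    rwa [map_commutator, hg'] at h
  set K₂ := closureKer (P : Subgroup G) with hK₂
  set K₀ := closureKer (derivedIn (P : Subgroup G)) with hK₀
  haveI : K₂.Normal := closureKer_normal _
  haveI : K₀.Normal := closureKer_normal _
  have hP2 : (P : Subgroup G) ≤ K₂ := le_closureKer _
  have h2 : ∀ x ∈ K₂, x ∈ N → x ∈ (P : Subgroup G) := hinter _ hPN
    (fun g hg r hr => (mem_normalizer_iff.1 hg r).1 hr)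
    fun a ha b hb => mul_mem (mul_mem (mul_mem ha hb) (inv_mem ha)) (inv_mem hb)
  have h0 : ∀ x ∈ K₀, x ∈ N → x ∈ derivedIn (P : Subgroup G) :=
    hinter _ (hD.trans hPN) hDn hDc
  set S : Sylow p ↥K₂ := P.subtype hP2 with hS
  have hSmem : ∀ x : ↥K₂, x ∈ (S : Subgroup ↥K₂) ↔ (x : G) ∈ (P : Subgroup G) := fun x => by
    rw [hS, Sylow.coe_subtype, mem_subgroupOf]
  have hpc : HasNormalPComplement p ↥K₂ := by
    refine hasNormalPComplement_of_quotient_burnside S (K₀.subgroupOf K₂) ?_ ?_ ?_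
    · rintro x ⟨hx0, hxS⟩
      refine ⟨⟨x, hxS⟩, Cfsg.Lib.PGroups.commutator_le_frattini S.2 ?_, rfl⟩
      have hxD := h0 _ hx0 (hPN ((hSmem x).1 hxS))
      let e : ↥(P : Subgroup G) →* ↥(S : Subgroup ↥K₂) :=
        { toFun := fun y => ⟨⟨y, hP2 y.2⟩, (hSmem _).2 y.2⟩
          map_one' := rfl
          map_mul' := fun _ _ => rfl }
      obtain ⟨y, hy, hyx⟩ := hxD
      have hex : e y = ⟨x, hxS⟩ := Subtype.ext (Subtype.ext hyx)
      rw [← hex]
      have h := mem_map_of_mem e hy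
      rw [commutator_def, map_commutator] at h
      exact commutator_mono le_top le_top h
    · intro a ha b hb
      rw [mem_subgroupOf]
      exact le_closureKer _ (hDc _ ((hSmem a).1 ha) _ ((hSmem b).1 hb))
    · intro z hz
      refine (hSmem z).2 (h2 z z.2 (mem_normalizer_iff.2 fun y => ?_))
      constructor
      · intro hy
        exact (hSmem _).1 ((mem_normalizer_iff.1 hz ⟨y, hP2 hy⟩).1 ((hSmem _).2 hy))
      · intro hy
        have hy2 : y ∈ K₂ := by
          have h := ‹K₂.Normal›.conj_mem _ (hP2 hy) (z : G)⁻¹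
          simpa [mul_assoc] using h
        exact (hSmem ⟨y, hy2⟩).1 ((mem_normalizer_iff.1 hz ⟨y, hy2⟩).2 ((hSmem _).2 hy))
  rw [Cfsg.Lib.Transfer.hasNormalPComplement_iff_pResidual] at hpc
  refine ⟨(pResidual p ↥K₂).map K₂.subtype, ?_, ?_, ?_⟩
  · haveI : (pResidual p ↥K₂).Characteristic := inferInstance
    exact ConjAct.normal_of_characteristic_of_normal
  · refine top_le_iff.1 (le_of_eq_of_le (Sylow.normalizer_sup_eq_top' P hP2).symm ?_)
    refine sup_le le_sup_right ?_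
    have h := Cfsg.Lib.Transfer.pResidual_sup_sylow S
    intro x hx
    have hx' : (⟨x, hx⟩ : ↥K₂) ∈ pResidual p ↥K₂ ⊔ (S : Subgroup ↥K₂) := h ▸ mem_top _
    have hx'' := mem_map_of_mem K₂.subtype hx'
    rw [Subgroup.map_sup] at hx''
    refine (sup_le_sup_left ?_ ((pResidual p ↥K₂).map K₂.subtype) : _ ≤ _) hx''
    rw [hS, Sylow.coe_subtype, subgroupOf_map_subtype]
    exact inf_le_left.trans hPN
  · rw [eq_bot_iff]
    rintro _ ⟨⟨y, hy, rfl⟩, hyN⟩
    have hyP : y ∈ (S : Subgroup ↥K₂) := (hSmem y).2 (h2 y y.2 hyN)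
    obtain ⟨i, hi⟩ := IsPGroup.iff_orderOf.1 S.2 ⟨y, hyP⟩
    rw [Subgroup.orderOf_mk] at hi
    have h1 : orderOf y ∣ Nat.card ↥(pResidual p ↥K₂) := by
      rw [← Subgroup.orderOf_mk y hy]
      exact orderOf_dvd_natCard _
    have hy1 : orderOf y = 1 :=
      Nat.eq_one_of_dvd_coprimes ((Nat.Coprime.pow_right i hpc)) h1 (hi ▸ dvd_rfl)
    rw [orderOf_eq_one_iff] at hy1
    simp [hy1]

end Cfsg.Lib.SylowExtend
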