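import Mathlib
import Cfsg.Agent.Blocks.Local

/-!
# Fixed vectors over the normaliser of a trivial intersection Sylow subgroup

A vector of a complex representation which is fixed by a subgroup `H`, has zero trace to `G`, and
for which a `p`-subgroup `P ≤ H` acts freely on the nontrivial cosets of `H`, is `P`-induced in an
ultrametrically bounded way; so its translates span a regular module of `P`.
-/

set_option autoImplicit false
set_option linter.unusedSectionVars false

namespace Cfsg.Lib.Blocks

open Module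

universe u w

/-- In a group algebra of a `p`-group in characteristic `p`, every nonzero element has the norm
element among its left multiples. -/
theorem exists_mul_eq_norm {p : ℕ} [Fact p.Prime] {k : Type*} [Field k] [CharP k p] {P : Type u}
    [Group P] [Fintype P] (hP : IsPGroup p P) (c : P → k) (hc : c ≠ 0) :
    ∃ d : P → k, ∀ u : P, ∑ t : P, d t * c (t⁻¹ * u) = 1 := by
  classical
  let φ : (P → ZMod p) →+ (P → k) :=
    { toFun := fun a u => ∑ t : P, ZMod.castHom dvd_rfl k (a t) * c (t⁻¹ * u)
      map_zero' := funext fun u => by simp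
      map_add' := fun a b => funext fun u => by
        simp only [Pi.add_apply, map_add, add_mul, Finset.sum_add_distrib] }
  have hφ : ∀ (a : P → ZMod p) (u : P),
      φ a u = ∑ t : P, ZMod.castHom dvd_rfl k (a t) * c (t⁻¹ * u) := fun _ _ => rfl
  have htr : ∀ (s : P) (a : P → ZMod p),
      (fun u => φ a (s⁻¹ * u)) = φ (fun t => a (s⁻¹ * t)) := fun s a => funext fun u => by
    rw [hφ, hφ]
    refine Fintype.sum_equiv (Equiv.mulLeft s) _ _ fun t => ?_
    simp [mul_assoc]
  let act : MulAction P φ.range :=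
    { smul := fun s f => ⟨fun u => (f : P → k) (s⁻¹ * u), by
        obtain ⟨_, a, rfl⟩ := f
        exact ⟨_, (htr s a).symm⟩⟩
      one_smul := fun f => Subtype.ext (funext fun u => by
        show (f : P → k) ((1 : P)⁻¹ * u) = _
        rw [inv_one, one_mul])
      mul_smul := fun s t f => Subtype.ext (funext fun u => by
        show (f : P → k) ((s * t)⁻¹ * u) = (f : P → k) (t⁻¹ * (s⁻¹ * u))
        rw [mul_inv_rev, mul_assoc]) }
  have h0 : (0 : φ.range) ∈ MulAction.fixedPoints P φ.range := fun s => Subtype.ext rfl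
  have hc' : c ∈ φ.range := by
    refine ⟨Pi.single 1 1, funext fun u => ?_⟩
    rw [hφ, Finset.sum_eq_single (1 : P)]
    · rw [Pi.single_eq_same, map_one, one_mul, inv_one, one_mul]
    · intro t _ ht
      rw [Pi.single_eq_of_ne ht, map_zero, zero_mul]
    · exact fun h => absurd (Finset.mem_univ _) h
  have hdvd : p ∣ Nat.card φ.range := by
    have h1 : Nat.card φ.range ∣ Nat.card (P → ZMod p) := AddSubgroup.card_range_dvd φ
    rw [Nat.card_pi, Finset.prod_const, Nat.card_zmod] at h1
    obtain ⟨j, -, hj⟩ := (Nat.dvd_prime_pow Fact.out).1 h1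
    rcases j with _ | j
    · exfalso
      rw [pow_zero, Nat.card_eq_one_iff_unique] at hj
      exact hc (congrArg Subtype.val (hj.1.allEq ⟨c, hc'⟩ 0))
    · exact hj ▸ dvd_pow_self p j.succ_ne_zero
  haveI : Finite φ.range := Finite.of_surjective φ.rangeRestrict φ.rangeRestrict_surjective
  obtain ⟨⟨f, a, hfa⟩, hfix, hne⟩ :=
    hP.exists_fixed_point_of_prime_dvd_card_of_fixed_point (α := φ.range) hdvd h0
  have hconst : ∀ u, f u = f 1 := fun u => by
    have h := congrFun (congrArg Subtype.val (hfix u)) u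
    show f u = f 1
    change f (u⁻¹ * u) = f u at h
    rw [inv_mul_cancel] at h
    exact h.symm
  have hl : f 1 ≠ 0 := fun h => hne (Subtype.ext (funext fun u => by
    show (0 : k) = f u
    rw [hconst u, h]))
  refine ⟨fun t => (f 1)⁻¹ * ZMod.castHom dvd_rfl k (a t), fun u => ?_⟩
  simp only [mul_assoc]
  rw [← Finset.mul_sum, ← hφ, hfa, hconst u, inv_mul_cancel₀ hl]

/-- A free action with transversal: sums split. -/
theorem exists_transversal_sum {P X : Type*} [Group P] [Fintype P] [Fintype X] [MulAction P X]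
    (hfree : ∀ (u : P) (x : X), u • x = x → u = 1) :
    ∃ R : Finset X, ∀ {V : Type w} [AddCommMonoid V] (f : X → V),
      ∑ x, f x = ∑ u : P, ∑ r ∈ R, f (u • r) := by
  classical
  letI : Fintype (MulAction.orbitRel.Quotient P X) := Fintype.ofFinite _
  set out : MulAction.orbitRel.Quotient P X → X := Quotient.out with hout
  refine ⟨Finset.univ.image out, fun {V} _ f => ?_⟩
  have hinj : Function.Injective out := Quotient.out_injective
  simp only [Finset.sum_image hinj.injOn]
  rw [← Fintype.sum_prod_type' (fun (u : P) ω => f (u • out ω))]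
  symm
  have key : ∀ x : X, ∃ u : P, u • out (Quotient.mk'' x) = x := fun x => by
    have h : out (Quotient.mk'' x) ∈ MulAction.orbit P x :=
      MulAction.orbitRel_apply.1 (Quotient.exact' (Quotient.out_eq' _))
    obtain ⟨u, hu⟩ := h
    exact ⟨u⁻¹, by rw [← hu]; exact inv_smul_smul u x⟩
  refine Fintype.sum_bijective (fun y : P × _ => y.1 • out y.2) ⟨?_, ?_⟩ _ _ fun y => rfl
  · rintro ⟨u, ω⟩ ⟨u', ω'⟩ (h : u • out ω = u' • out ω')
    have hω : ω = ω' := by
      rw [← Quotient.out_eq' ω, ← Quotient.out_eq' ω']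
      refine Quotient.sound' (MulAction.orbitRel_apply.2 ⟨u⁻¹ * u', ?_⟩)
      show (u⁻¹ * u') • out ω' = out ω
      rw [mul_smul, ← h, inv_smul_smul]
    subst hω
    have : u'⁻¹ * u = 1 := hfree _ (out ω) (by rw [mul_smul, h, inv_smul_smul])
    rw [inv_mul_eq_one.1 this]
  · intro x
    obtain ⟨u, hu⟩ := key x
    exact ⟨(u, _), hu⟩

variable {G : Type u} [Group G] [Fintype G] {p : ℕ} [Fact p.Prime] {M : Ideal AlgInt}

/-- **A fixed vector of trace zero spans at least a regular module.** -/
theorem finrank_ker_ge_of_free (hM : IsPModular p M) {V : Type w} [AddCommGroup V] [Module ℂ V]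
    [FiniteDimensional ℂ V] (σ : Representation ℂ G V) (P H : Subgroup G) [Fintype P]
    (hP : IsPGroup p P) (hPH : P ≤ H)
    (hfree : ∀ (u : P) (g : G), g ∉ H → g⁻¹ * (u : G) * g ∈ H → u = 1)
    {v : V} (hv : v ≠ 0) (hHv : ∀ h ∈ H, σ h v = v) (hsum : ∑ g : G, σ g v = 0) :
    Fintype.card P ≤ finrank ℂ (LinearMap.ker (∑ g : G, σ g)) := by
  classical
  letI : Fintype (G ⧸ H) := Fintype.ofFinite _
  letI : Fintype H := Fintype.ofFinite _
  haveI := charP_res hM
  set b := Module.finBasis ℂ V with hb
  set val := (place M).valuation with hval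
  set N : V → (place M).ValueGroup := fun x =>
    (Finset.univ : Finset (G × Fin (finrank ℂ V))).sup' (by
      haveI : Nonempty (Fin (finrank ℂ V)) := by
        by_contra h
        rw [not_nonempty_iff] at h
        exact hv (b.repr.injective (Finsupp.ext fun i => h.elim i))
      exact Finset.univ_nonempty) (fun gi => val (b.repr (σ gi.1 x) gi.2)) with hN
  have hNle : ∀ {x : V} {r}, N x ≤ r ↔ ∀ g i, val (b.repr (σ g x) i) ≤ r := fun {x r} => by
    simp only [hN, Finset.sup'_le_iff, Finset.mem_univ, true_implies, Prod.forall]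
  have hle : ∀ (x : V) g i, val (b.repr (σ g x) i) ≤ N x := fun x => hNle.1 le_rfl
  have hsumN : ∀ {ι : Type u} (s : Finset ι) (x : ι → V) (r), (∀ i ∈ s, N (x i) ≤ r) →
      N (∑ i ∈ s, x i) ≤ r := by
    intro ι s x r h
    rw [hNle]
    intro g i
    rw [map_sum, map_sum, Finsupp.coe_finset_sum, Finset.sum_apply]
    exact Valuation.map_sum_le _ fun j hj => (hle _ g i).trans (h j hj)
  have hsmulN : ∀ (z : ℂ) (x : V), N (z • x) ≤ val z * N x := fun z x => by
    rw [hNle]
    intro g i
    rw [map_smul, map_smul, Finsupp.smul_apply, smul_eq_mul, map_mul]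
    exact mul_le_mul' le_rfl (hle x g i)
  have hmulN : ∀ (h : G) (x : V), N (σ h x) ≤ N x := fun h x => by
    rw [hNle]
    intro g i
    rw [← Module.End.mul_apply, ← map_mul]
    exact hle x _ i
  have hNv : N v ≠ 0 := by
    intro h0
    refine hv (b.repr.injective (Finsupp.ext fun i => ?_))
    have := hle v 1 i
    rw [h0, map_one, Module.End.one_apply, le_zero_iff, map_eq_zero] at this
    rw [this, map_zero, Finsupp.zero_apply]
  -- the nontrivial cosets
  let X := {q : G ⧸ H // q ≠ ((1 : G) : G ⧸ H)}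
  have hfix1 : ∀ u : P, (u : G) • ((1 : G) : G ⧸ H) = ((1 : G) : G ⧸ H) := fun u => by
    rw [MulAction.Quotient.smul_coe, smul_eq_mul, mul_one, QuotientGroup.eq, mul_one]
    exact H.inv_mem (hPH u.2)
  letI : MulAction P X :=
    { smul := fun u x => ⟨(u : G) • x.1, fun h => x.2 (by
        have := congrArg (fun q => ((u⁻¹ : P) : G) • q) h
        simp only [hfix1, Subgroup.coe_inv, inv_smul_smul] at this
        have h2 := hfix1 u⁻¹
        rw [Subgroup.coe_inv] at h2
        exact this.trans h2)⟩
      one_smul := fun x => Subtype.ext (one_smul G x.1)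
      mul_smul := fun u u' x => Subtype.ext (mul_smul (u : G) (u' : G) x.1) }
  have hfreeX : ∀ (u : P) (x : X), u • x = x → u = 1 := by
    rintro u ⟨q, hq⟩ h
    obtain ⟨g, rfl⟩ := QuotientGroup.mk_surjective q
    have h1 : (u : G) • (g : G ⧸ H) = (g : G ⧸ H) := congrArg Subtype.val h
    rw [MulAction.Quotient.smul_coe, smul_eq_mul, QuotientGroup.eq] at h1
    have hg : g ∉ H := fun hg => hq (by rw [QuotientGroup.eq, mul_one]; exact H.inv_mem hg)
    refine hfree u g hg ?_
    have := H.inv_mem h1
    rwa [mul_inv_rev, inv_inv, ← mul_assoc] at this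
  obtain ⟨R, hR⟩ := exists_transversal_sum.{w} hfreeX
  let fq : G ⧸ H → V := fun q => σ q.out v
  have hfq : ∀ g : G, fq (g : G ⧸ H) = σ g v := fun g => by
    obtain ⟨h, hh⟩ := QuotientGroup.mk_out_eq_mul H g
    show σ _ v = _
    rw [hh, map_mul, Module.End.mul_apply, hHv _ h.2]
  have hfqs : ∀ (g : G) (q : G ⧸ H), fq (g • q) = σ g (fq q) := fun g q => by
    obtain ⟨g', rfl⟩ := QuotientGroup.mk_surjective q
    rw [MulAction.Quotient.smul_coe, smul_eq_mul, hfq, hfq, map_mul, Module.End.mul_apply]
  have htot : ∑ q : G ⧸ H, fq q = 0 := by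
    have h1 : (Fintype.card H : ℂ) • ∑ q : G ⧸ H, fq q = 0 := by
      rw [← hsum, Finset.smul_sum, ← Finset.sum_fiberwise Finset.univ (fun g : G => (g : G ⧸ H))]
      refine Finset.sum_congr rfl fun q _ => ?_
      rw [Finset.sum_congr rfl (g := fun _ => fq q) (fun g hg => by
          rw [← (Finset.mem_filter.1 hg).2, hfq]), Finset.sum_const, Nat.cast_smul_eq_nsmul]
      congr 1
      obtain ⟨g₀, rfl⟩ := QuotientGroup.mk_surjective q
      rw [← Fintype.card_subtype]
      exact Fintype.card_congr
        { toFun := fun h => ⟨g₀ * h, (QuotientGroup.eq.2 (by simpa using H.inv_mem h.2))⟩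
          invFun := fun x => ⟨g₀⁻¹ * x.1, QuotientGroup.eq.1 x.2.symm⟩
          left_inv := fun h => Subtype.ext (by simp)
          right_inv := fun x => Subtype.ext (by simp) }
    exact (smul_eq_zero.1 h1).resolve_left (Nat.cast_ne_zero.2 Fintype.card_ne_zero)
  set w : V := -∑ r ∈ R, fq r.1 with hw
  have hvw : v = ∑ u : P, σ (u : G) w := by
    have h1 := hR (fun x : X => fq x.1)
    have h2 : fq ((1 : G) : G ⧸ H) + ∑ x : X, fq x.1 = 0 := by
      rw [← Finset.sum_subtype (p := fun q => q ≠ ((1 : G) : G ⧸ H))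
        (Finset.univ.erase ((1 : G) : G ⧸ H)) (fun q => by simp) fq,
        Finset.add_sum_erase _ _ (Finset.mem_univ _), htot]
    rw [hfq, map_one, Module.End.one_apply, h1] at h2
    rw [eq_neg_of_add_eq_zero_left h2, ← Finset.sum_neg_distrib]
    refine Finset.sum_congr rfl fun u _ => ?_
    rw [hw, map_neg, map_sum]
    congr 1
    exact Finset.sum_congr rfl fun r _ => hfqs (u : G) r.1
  have hwN : N w ≤ N v := by
    rw [hw, ← Finset.sum_neg_distrib]
    refine hsumN _ _ _ fun r _ => ?_
    rw [← neg_one_smul ℂ]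
    refine (hsmulN (-1) _).trans ?_
    rw [Valuation.map_neg, map_one, one_mul]
    exact hmulN _ v
  have hker : ∀ u : P, σ (u : G) w ∈ LinearMap.ker (∑ g : G, σ g) := fun u => by
    have hg : ∀ g : G, (∑ x : G, σ x) (σ g v) = 0 := fun g => by
      rw [LinearMap.sum_apply, ← hsum]
      exact Fintype.sum_equiv (Equiv.mulRight g) _ _ fun x => by
        rw [Equiv.coe_mulRight, map_mul, Module.End.mul_apply]
    rw [LinearMap.mem_ker, hw, map_neg, map_neg, map_sum, map_sum, neg_eq_zero]
    refine Finset.sum_eq_zero fun r _ => ?_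
    rw [← hfqs]
    obtain ⟨g, hgq⟩ := QuotientGroup.mk_surjective ((u : G) • r.1)
    rw [← hgq, hfq, hg]
  have hli : LinearIndependent ℂ fun u : P => (⟨σ (u : G) w, hker u⟩ :
      LinearMap.ker (∑ g : G, σ g)) := by
    refine LinearIndependent.of_comp (LinearMap.ker (∑ g : G, σ g)).subtype ?_
    rw [Fintype.linearIndependent_iff]
    intro c hc
    by_contra hne
    push Not at hne
    obtain ⟨u₁, hu₁⟩ := hne
    obtain ⟨u₀, -, hu₀⟩ := Finset.exists_max_image Finset.univ (fun u => val (c u)) ⟨1, Finset.mem_univ _⟩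
    have hc0 : c u₀ ≠ 0 := fun h => hu₁ (by
      have := hu₀ u₁ (Finset.mem_univ _)
      rw [h, map_zero, le_zero_iff, map_eq_zero] at this
      exact this)
    set e : P → ℂ := fun u => (c u₀)⁻¹ * c u with he
    have hei : ∀ u, e u ∈ place M := fun u => by
      rw [← ValuationSubring.valuation_le_one_iff, he, map_mul, map_inv₀]
      exact inv_mul_le_one_of_le₀ (hu₀ u (Finset.mem_univ _)) zero_le
    have hc'0 : ∑ u : P, e u • σ (u : G) w = 0 := by
      simp only [he, mul_smul]
      rw [← Finset.smul_sum]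
      simp only [Function.comp_apply, Submodule.coe_subtype] at hc
      rw [hc, smul_zero]
    have hres : (fun u => res M (e u)) ≠ 0 := fun h => by
      have := congrFun h u₀
      simp only [he, inv_mul_cancel₀ hc0, res_one, Pi.zero_apply] at this
      exact one_ne_zero this
    obtain ⟨d, hd⟩ := exists_mul_eq_norm hP (fun u => res M (e u)) hres
    choose d' hd'i hd' using fun t => exists_res_eq (M := M) (d t)
    set z : P → ℂ := fun u => ∑ t : P, d' t * e (t⁻¹ * u) with hz
    have hzi : ∀ u, z u ∈ place M := fun u => sum_mem fun t _ => mul_mem (hd'i t) (hei _)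
    have hsmall : ∀ u, val (z u - 1) < 1 := fun u => by
      rw [hval, ← small_iff, ← res_eq_iff (hzi u) (one_mem _), res_one, hz,
        res_sum _ _ fun t _ => mul_mem (hd'i t) (hei _), ← hd u]
      exact Finset.sum_congr rfl fun t _ => by rw [res_mul (hd'i t) (hei _), hd']
    have hz0 : ∑ u : P, z u • σ (u : G) w = 0 := by
      simp only [hz, Finset.sum_smul]
      rw [Finset.sum_comm]
      refine Finset.sum_eq_zero fun t _ => ?_
      calc ∑ u : P, (d' t * e (t⁻¹ * u)) • σ (u : G) w
          = ∑ u : P, (d' t * e u) • σ ((t * u : P) : G) w := by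
            refine Fintype.sum_equiv (Equiv.mulLeft t⁻¹) _ _ fun u => ?_
            simp
        _ = d' t • σ (t : G) (∑ u : P, e u • σ (u : G) w) := by
            rw [map_sum, Finset.smul_sum]
            refine Finset.sum_congr rfl fun u _ => ?_
            rw [map_smul, smul_smul, Subgroup.coe_mul, map_mul, Module.End.mul_apply]
        _ = 0 := by rw [hc'0, map_zero, smul_zero]
    obtain ⟨u₂, -, hu₂⟩ := Finset.exists_max_image Finset.univ (fun u => val (z u - 1)) ⟨1, Finset.mem_univ _⟩
    have hbound : N v ≤ val (z u₂ - 1) * N v := by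
      have : v = ∑ u : P, (-(z u - 1)) • σ (u : G) w := by
        simp only [neg_sub, sub_smul, one_smul, Finset.sum_sub_distrib, hz0, sub_zero]
        exact hvw
      conv_lhs => rw [this]
      refine hsumN _ _ _ fun u _ => (hsmulN _ _).trans ?_
      rw [Valuation.map_neg]
      exact mul_le_mul' (hu₂ u (Finset.mem_univ _)) ((hmulN _ w).trans hwN)
    have hlt : val (z u₂ - 1) * N v < 1 * N v :=
      mul_lt_mul_of_pos_right (hsmall u₂) (pos_of_ne_zero hNv)
    rw [one_mul] at hlt
    exact absurd hbound (not_le.2 hlt)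
  exact hli.fintype_card_le_finrank

end Cfsg.Lib.Blocks
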