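import Mathlib
import Cfsg.Prelude.Def_Blocks
import Cfsg.Agent.Blocks.Defect
import Cfsg.Agent.Blocks.Feit3
import Cfsg.Agent.Chars.Sums

/-!
# Elements of order three and characters of 2-defect zero

If `g` has order 3 and normalizes no nontrivial 2-subgroup, the number of solutions of `a * b = g`
in a class `K` is odd exactly when `g⁻¹ ∈ K`. Modulo 2 only the characters of defect zero
contribute to this number.
-/

set_option autoImplicit false
set_option linter.unusedSectionVars false

namespace Cfsg.Lib.Blocks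

open Cfsg.Lib.Chars
open scoped ComplexConjugate

universe u

variable {G : Type u} [Group G] [Fintype G]

/-- `g` has order 3 and normalizes no nontrivial 2-subgroup. -/
def FreeThree (g : G) : Prop :=
  orderOf g = 3 ∧ ∀ Q : Subgroup G, IsPGroup 2 Q → g ∈ Subgroup.normalizer (Q : Set G) → Q = ⊥

lemma FreeThree.pow_three {g : G} (h : FreeThree g) : g ^ 3 = 1 := h.1 ▸ pow_orderOf_eq_one g

lemma FreeThree.inv {g : G} (h : FreeThree g) : FreeThree g⁻¹ :=
  ⟨by rw [orderOf_inv, h.1], fun Q hQ hg => h.2 Q hQ (by simpa using inv_mem hg)⟩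

lemma FreeThree.odd_centralizer {g : G} (h : FreeThree g) :
    ¬ 2 ∣ Nat.card (Subgroup.centralizer ({g} : Set G)) := by
  intro h2
  haveI : Fact (Nat.Prime 2) := ⟨Nat.prime_two⟩
  obtain ⟨t, ht⟩ := exists_prime_orderOf_dvd_card' 2 h2
  have hto : orderOf (t : G) = 2 := by rw [Subgroup.orderOf_coe, ht]
  have hc : (t : G) * g = g * t := Subgroup.mem_centralizer_singleton_iff.1 t.2
  have hQ := h.2 (Subgroup.zpowers (t : G))
    (IsPGroup.of_card (n := 1) (by rw [Nat.card_zpowers, hto, pow_one])) ?_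
  · rw [Subgroup.zpowers_eq_bot.1 hQ, orderOf_one] at hto
    omega
  · refine Subgroup.centralizer_le_normalizer _ (Subgroup.mem_centralizer_iff.2 fun y hy => ?_)
    obtain ⟨i, rfl⟩ := hy
    exact (show Commute (t : G) g from hc).zpow_left i

/-- The only twisted solution of `a * g * a * g = 1` with `a ^ 3 = 1` is `a = g⁻¹`. -/
lemma FreeThree.eq_inv {g a : G} (h : FreeThree g) (ha : a ^ 3 = 1) (ht : (a * g) * (a * g) = 1) :
    a * g = 1 := by
  by_contra hne
  set t := a * g with htdef
  set t2 := g * t * g⁻¹ with ht2def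
  set t3 := g * t2 * g⁻¹ with ht3def
  have hg3 : g ^ 3 = 1 := h.pow_three
  have hg3' : g * g * g = 1 := by rw [← hg3, pow_three']
  have h22 : t2 * t2 = 1 := by
    calc t2 * t2 = g * (t * t) * g⁻¹ := by rw [ht2def]; group
      _ = 1 := by rw [ht]; group
  have h33 : t3 * t3 = 1 := by
    calc t3 * t3 = g * (t2 * t2) * g⁻¹ := by rw [ht3def]; group
      _ = 1 := by rw [h22]; group
  have hprod : t * t3 * t2 = 1 := by
    have hgi : g⁻¹ = g * g := inv_eq_of_mul_eq_one_right (by rw [← mul_assoc, hg3'])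
    have e1 : a = t * g⁻¹ := by rw [htdef]; group
    have e2 : t * t3 * t2 = (t * g⁻¹) ^ 3 * (g * g * g) := by
      rw [ht3def, ht2def]
      calc t * (g * (g * t * g⁻¹) * g⁻¹) * (g * t * g⁻¹)
          = t * (g * g) * t * g⁻¹ * t * g⁻¹ := by group
        _ = t * g⁻¹ * t * g⁻¹ * t * g⁻¹ := by rw [hgi]
        _ = (t * g⁻¹) ^ 3 * (g * g * g) := by
            rw [hg3', mul_one, pow_three']; generalize t = u; simp only [mul_assoc]
    rw [e2, hg3', mul_one, ← e1, ha]
  have ht3 : t3 = t * t2 := by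
    calc t3 = (t * t) * t3 * (t2 * t2) := by rw [ht, h22, one_mul, mul_one]
      _ = t * (t * t3 * t2) * t2 := by group
      _ = t * t2 := by rw [hprod, mul_one]
  have hinv : ∀ {x : G}, x * x = 1 → x⁻¹ = x := fun hx => inv_eq_of_mul_eq_one_right hx
  have hcomm : t2 * t = t * t2 := by
    have := hinv (show (t * t2) * (t * t2) = 1 by rw [← ht3, h33])
    rwa [mul_inv_rev, hinv h22, hinv ht] at this
  let Q : Subgroup G :=
    { carrier := {x | x = 1 ∨ x = t ∨ x = t2 ∨ x = t * t2}
      one_mem' := Or.inl rfl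
      inv_mem' := by
        rintro x (rfl | rfl | rfl | rfl)
        · exact Or.inl inv_one
        · exact Or.inr (Or.inl (hinv ht))
        · exact Or.inr (Or.inr (Or.inl (hinv h22)))
        · exact Or.inr (Or.inr (Or.inr (hinv (by rw [← ht3, h33]))))
      mul_mem' := by
        have e1 : t * (t * t2) = t2 := by rw [← mul_assoc, ht, one_mul]
        have e2 : t2 * (t * t2) = t := by rw [← mul_assoc, hcomm, mul_assoc, h22, mul_one]
        have e3 : t * t2 * t = t2 := by rw [mul_assoc, hcomm, e1]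
        have e4 : t * t2 * t2 = t := by rw [mul_assoc, h22, mul_one]
        have e5 : t * t2 * (t * t2) = 1 := by rw [mul_assoc, e2, ht]
        rintro x y (rfl | rfl | rfl | rfl) (rfl | rfl | rfl | rfl) <;>
          simp only [Set.mem_setOf_eq, one_mul, mul_one, ht, h22, hcomm, e1, e2, e3, e4, e5,
            true_or, or_true] }
  have hQ2 : IsPGroup 2 Q := by
    rintro ⟨x, hx⟩
    refine ⟨1, Subtype.ext ?_⟩
    rw [pow_one, SubgroupClass.coe_pow, pow_two]
    show x * x = 1
    rcases hx with hx | hx | hx | hx <;> subst hx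
    · exact one_mul 1
    · exact ht
    · exact h22
    · rw [← ht3]; exact h33
  have hfwd : ∀ x ∈ Q, g * x * g⁻¹ ∈ Q := by
    rintro x (hx | hx | hx | hx) <;> rw [hx]
    · exact Or.inl (by group)
    · exact Or.inr (Or.inr (Or.inl ht2def.symm))
    · exact Or.inr (Or.inr (Or.inr (ht3def.symm.trans ht3)))
    · refine Or.inr (Or.inl ?_)
      calc g * (t * t2) * g⁻¹ = g * (g * (g * t * g⁻¹) * g⁻¹) * g⁻¹ := by
            rw [← ht3, ht3def, ht2def]
        _ = (g * g * g) * t * (g * g * g)⁻¹ := by group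
        _ = t := by rw [hg3']; group
  have hbot := h.2 Q hQ2 (Subgroup.mem_normalizer_iff.2 fun x => ⟨hfwd x, fun hx => by
    have := hfwd _ (hfwd _ hx)
    rwa [show g * (g * (g * x * g⁻¹) * g⁻¹) * g⁻¹ = (g * g * g) * x * (g * g * g)⁻¹ by group,
      hg3', inv_one, one_mul, mul_one] at this⟩)
  have hmem : t ∈ Q := Or.inr (Or.inl rfl)
  rw [hbot] at hmem
  exact hne (Subgroup.mem_bot.1 hmem)

/-- The parity of the number of solutions of `a * b = g` inside a class of elements of order 3. -/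
lemma FreeThree.card_pairs {g x : G} (h : FreeThree g) (hx : x ^ 3 = 1)
    [Decidable (IsConj x g⁻¹)] :
    ((Nat.card {q : G × G // IsConj x q.1 ∧ IsConj x q.2 ∧ q.1 * q.2 = g} : ℕ) : ZMod 2) =
      if IsConj x g⁻¹ then 1 else 0 := by
  classical
  haveI : Fact (Nat.Prime 2) := ⟨Nat.prime_two⟩
  let T := {q : G × G // IsConj x q.1 ∧ IsConj x q.2 ∧ q.1 * q.2 = g}
  have hg3' : g * g * g = 1 := by rw [← h.pow_three, pow_three']
  let f : T → T := fun q => ⟨(g⁻¹ * q.1.2 * g, g⁻¹ * (g⁻¹ * q.1.1 * g) * g),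
    q.2.2.1.trans (isConj_iff.2 ⟨g⁻¹, by group⟩),
    q.2.1.trans (isConj_iff.2 ⟨g⁻¹ * g⁻¹, by rw [mul_inv_rev, inv_inv]; simp only [mul_assoc]⟩), by
      show g⁻¹ * q.1.2 * g * (g⁻¹ * (g⁻¹ * q.1.1 * g) * g) = g
      calc g⁻¹ * q.1.2 * g * (g⁻¹ * (g⁻¹ * q.1.1 * g) * g)
          = g⁻¹ * ((q.1.1⁻¹ * (q.1.1 * q.1.2)) * g⁻¹ * q.1.1) * g * g := by group
        _ = g := by rw [q.2.2.2]; group⟩
  have hff : ∀ q, f (f q) = q := fun q => by
    apply Subtype.ext
    refine Prod.ext ?_ ?_
    · show g⁻¹ * (g⁻¹ * (g⁻¹ * q.1.1 * g) * g) * g = q.1.1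
      calc g⁻¹ * (g⁻¹ * (g⁻¹ * q.1.1 * g) * g) * g
          = (g * g * g)⁻¹ * q.1.1 * (g * g * g) := by group
        _ = _ := by rw [hg3']; group
    · show g⁻¹ * (g⁻¹ * (g⁻¹ * q.1.2 * g) * g) * g = q.1.2
      calc g⁻¹ * (g⁻¹ * (g⁻¹ * q.1.2 * g) * g) * g
          = (g * g * g)⁻¹ * q.1.2 * (g * g * g) := by group
        _ = _ := by rw [hg3']; group
  let σ : Equiv.Perm T := ⟨f, f, hff, hff⟩
  have hσ : σ ^ 2 ^ 1 = 1 := by
    rw [pow_one, pow_two]; exact Equiv.ext hff
  have hfix : ∀ q : T, σ q = q → q.1 = (g⁻¹, g⁻¹) := by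
    rintro ⟨⟨a, b⟩, ha, hb, hab⟩ hq
    have e1 : g⁻¹ * b * g = a := congrArg (fun q : T => q.1.1) hq
    have e2 : b = g * a * g⁻¹ := by rw [← e1]; group
    have hab' : a * (g * a * g⁻¹) = g := e2 ▸ hab
    have ht : (a * g) * (a * g) = 1 := by
      calc (a * g) * (a * g) = a * (g * a * g⁻¹) * g * g := by group
        _ = g * g * g := by rw [hab']
        _ = 1 := hg3'
    have ha3 : a ^ 3 = 1 := by
      obtain ⟨c, rfl⟩ := isConj_iff.1 ha
      rw [conj_pow, hx, mul_one, mul_inv_cancel]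
    have hag : a = g⁻¹ := eq_inv_of_mul_eq_one_left (h.eq_inv ha3 ht)
    refine Prod.ext hag ?_
    show b = g⁻¹
    rw [e2, hag]; group
  have hmod := Equiv.Perm.card_compl_support_modEq hσ
  rw [show Nat.card {q : G × G // IsConj x q.1 ∧ IsConj x q.2 ∧ q.1 * q.2 = g} = Fintype.card T from
    Nat.card_eq_fintype_card, ← (ZMod.natCast_eq_natCast_iff _ _ _).2 hmod]
  split_ifs with hc
  · have hprod : g⁻¹ * g⁻¹ = g := by rw [← mul_inv_rev, inv_eq_of_mul_eq_one_left]; rw [← mul_assoc, hg3']
    have : σ.supportᶜ = {⟨(g⁻¹, g⁻¹), hc, hc, hprod⟩} := by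
      ext q
      simp only [Finset.mem_compl, Equiv.Perm.mem_support, ne_eq, not_not, Finset.mem_singleton]
      refine ⟨fun hq => Subtype.ext (hfix q hq), fun hq => ?_⟩
      subst hq
      apply Subtype.ext
      refine Prod.ext ?_ ?_
      · show g⁻¹ * g⁻¹ * g = g⁻¹
        group
      · show g⁻¹ * (g⁻¹ * g⁻¹ * g) * g = g⁻¹
        group
    rw [this, Finset.card_singleton, Nat.cast_one]
  · have : σ.supportᶜ = ∅ := by
      refine Finset.eq_empty_of_forall_notMem fun q hq => hc ?_
      simp only [Finset.mem_compl, Equiv.Perm.mem_support, ne_eq, not_not] at hq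
      have := q.2.1
      rwa [hfix q hq] at this
    rw [this, Finset.card_empty, Nat.cast_zero]

/-- **Defect zero characters and elements of order three.** -/
theorem card_freeThree_classes_le :
    Nat.card {C : ConjClasses G // ∃ g ∈ C.carrier, FreeThree g} ≤
      Nat.card {χ : IrrCharacter G //
        (deg (χ : G → ℂ)).factorization 2 = (Nat.card G).factorization 2} := by
  classical
  haveI : Fact (Nat.Prime 2) := ⟨Nat.prime_two⟩
  obtain ⟨M, hM⟩ := exists_isPModular Nat.prime_two
  haveI := charP_res hM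
  let I := {C : ConjClasses G // ∃ g ∈ C.carrier, FreeThree g}
  let Z := {χ : IrrCharacter G //
    (deg (χ : G → ℂ)).factorization 2 = (Nat.card G).factorization 2}
  letI : Fintype I := Fintype.ofFinite I
  letI : Fintype Z := Fintype.ofFinite Z
  choose x hxC hx using fun i : I => i.2
  have hinj : ∀ i j, IsConj (x i) (x j) → i = j := fun i j hij => Subtype.ext (by
    rw [← ConjClasses.mem_carrier_iff_mk_eq.1 (hxC i), ← ConjClasses.mem_carrier_iff_mk_eq.1 (hxC j),
      ConjClasses.mk_eq_mk_iff_isConj.2 hij])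
  have hu : ∀ i, IsUnitAt M (Nat.card (Subgroup.centralizer ({x i} : Set G)) : ℂ) := fun i =>
    isUnitAt_natCast hM (hx i).odd_centralizer
  let c : IrrCharacter G → I → ℂ := fun χ i => centralChar (χ : G → ℂ) (x i) * (χ : G → ℂ) (x i) *
    (Nat.card (Subgroup.centralizer ({x i} : Set G)) : ℂ)⁻¹
  let b : IrrCharacter G → I → ℂ := fun χ j => conj ((χ : G → ℂ) (x j)⁻¹)
  have hint : ∀ (χ : IrrCharacter G) (y : G), (χ : G → ℂ) y ∈ place M := fun χ y =>
    isIntegral_mem_place hM (IsCharacter.isIntegral (isCharacter_of_irr χ.2) _)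
  have hc : ∀ χ i, c χ i ∈ place M := fun χ i =>
    mul_mem (mul_mem (centralChar_mem_place hM χ _) (hint χ _)) (hu i).inv.mem_place
  have hb : ∀ χ j, b χ j ∈ place M := fun χ j =>
    isIntegral_mem_place hM ((IsCharacter.isIntegral (isCharacter_of_irr χ.2) _).map
      (starRingEnd ℂ).toIntAlgHom)
  have hsmall : ∀ (χ : IrrCharacter G) i, (deg (χ : G → ℂ)).factorization 2 ≠
      (Nat.card G).factorization 2 → Small M (c χ i) := by
    intro χ i hne
    set a := (Nat.card G).factorization 2 with ha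
    set e := (deg (χ : G → ℂ)).factorization 2 with he
    have hle : e ≤ a := (Nat.factorization_le_iff_dvd (deg_irr_pos χ).ne' Nat.card_pos.ne').2
      (IsIrrCharacter.deg_dvd χ.2) 2
    set C := Subgroup.centralizer ({x i} : Set G)
    have hci : C.index.factorization 2 = a := by
      have h2 := congrArg (fun n : ℕ => n.factorization 2) (Subgroup.card_mul_index C)
      simp only [Nat.factorization_mul Nat.card_pos.ne' Subgroup.index_ne_zero_of_finite,
        Finsupp.add_apply] at h2
      rw [Nat.factorization_eq_zero_of_not_dvd (n := Nat.card C) (hx i).odd_centralizer, zero_add] at h2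
      exact h2
    obtain ⟨r, hr⟩ : 2 ^ (e + 1) ∣ C.index :=
      (Nat.prime_two.pow_dvd_iff_le_factorization Subgroup.index_ne_zero_of_finite).2 (by omega)
    set d' := deg (χ : G → ℂ) / 2 ^ e with hd'
    have hd : deg (χ : G → ℂ) = 2 ^ e * d' := (Nat.ordProj_mul_ordCompl_eq_self _ 2).symm
    have hd'u : IsUnitAt M (d' : ℂ) :=
      isUnitAt_natCast hM (Nat.not_dvd_ordCompl Nat.prime_two (deg_irr_pos χ).ne')
    have hω : centralChar (χ : G → ℂ) (x i) =
        (2 : ℕ) * ((r : ℂ) * (χ : G → ℂ) (x i) * (d' : ℂ)⁻¹) := by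
      rw [centralChar, show Subgroup.centralizer ({x i} : Set G) = C from rfl, hr,
        irr_apply_one_eq_deg, hd]
      have := hd'u.ne_zero
      push_cast
      field_simp
      ring
    show Small M (centralChar (χ : G → ℂ) (x i) * _ * _)
    rw [hω]
    exact ((((small_prime hM).mul_mem (mul_mem (mul_mem (natCast_mem_place _) (hint χ _))
      hd'u.inv.mem_place))).mul_mem (hint χ _)).mul_mem (hu i).inv.mem_place
  have hentry : ∀ i j, (if i = j then (1 : Res M) else 0) =
      ∑ χ : Z, res M (c χ.1 i) * res M (b χ.1 j) := by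
    intro i j
    set N := Nat.card {q : G × G // IsConj (x i) q.1 ∧ IsConj (x i) q.2 ∧ q.1 * q.2 = (x j)⁻¹}
      with hN
    have hN2 : (N : Res M) = if i = j then 1 else 0 := by
      have h1 := congrArg (ZMod.castHom (dvd_refl 2) (Res M))
        ((hx j).inv.card_pairs (x := x i) (hx i).pow_three)
      rw [map_natCast, apply_ite (ZMod.castHom (dvd_refl 2) (Res M)), map_one, map_zero] at h1
      refine h1.trans (if_congr ?_ rfl rfl)
      rw [inv_inv]
      exact ⟨hinj i j, fun h => h ▸ IsConj.refl _⟩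
    have hNC : (N : ℂ) = ∑ χ : IrrCharacter G, c χ i * b χ j := by
      rw [hN, class_mult_formula, Finset.mul_sum]
      refine Finset.sum_congr rfl fun χ _ => ?_
      have h1 := card_isConj_mul (x i)
      have hcz : (Nat.card (Subgroup.centralizer ({x i} : Set G)) : ℂ) ≠ 0 := (hu i).ne_zero
      have hdz : (χ : G → ℂ) 1 ≠ 0 := IsIrrCharacter.apply_one_ne_zero χ.2
      simp only [c, b, centralChar, ← card_isConj]
      rw [← h1, Nat.cast_mul]
      have hk : (Nat.card {y : G // IsConj (x i) y} : ℂ) ≠ 0 :=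
        Nat.cast_ne_zero.2 (card_isConj_pos _).ne'
      field_simp
    rw [← hN2, ← res_natCast (M := M), hNC, res_sum _ _ fun χ _ => mul_mem (hc χ i) (hb χ j)]
    rw [← Finset.sum_subset (Finset.subset_univ
      (Finset.univ.filter fun χ : IrrCharacter G => (deg (χ : G → ℂ)).factorization 2 =
        (Nat.card G).factorization 2))
      (fun χ _ hχ => (res_eq_zero_iff (mul_mem (hc χ i) (hb χ j))).2
        ((hsmall χ i (fun h => hχ (Finset.mem_filter.2 ⟨Finset.mem_univ _, h⟩))).mul_mem (hb χ j))),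
      Finset.sum_subtype (p := fun χ : IrrCharacter G => (deg (χ : G → ℂ)).factorization 2 =
        (Nat.card G).factorization 2) _ (fun χ => by simp)]
    exact Finset.sum_congr rfl fun χ _ => res_mul (hc χ.1 i) (hb χ.1 j)
  let A : Matrix I Z (Res M) := Matrix.of fun i χ => res M (c χ.1 i)
  let A' : Matrix Z I (Res M) := Matrix.of fun χ j => res M (b χ.1 j)
  have h1 : (1 : Matrix I I (Res M)) = A * A' := by
    ext i j
    rw [Matrix.one_apply, hentry i j, Matrix.mul_apply]
    rfl
  have h2 : Fintype.card I ≤ Fintype.card Z := by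
    rw [← Matrix.rank_one (R := Res M) (n := I), h1]
    exact (Matrix.rank_mul_le_left A A').trans A.rank_le_card_width
  rwa [← Nat.card_eq_fintype_card, ← Nat.card_eq_fintype_card] at h2

end Cfsg.Lib.Blocks
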