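import Mathlib
import Cfsg.Agent.Blocks.PrincipalColumn
import Cfsg.Agent.Blocks.PrincipalRank
import Cfsg.Agent.Blocks.Regular
import Cfsg.Agent.Blocks.Orth2
import Cfsg.Agent.Chars.Indicator

/-!
# A principal block with three characters

If the principal block has three members, then the Sylow subgroups have order three. With regular
rank one the group has a normal complement. Otherwise the relation vectors of the regular parts
are proportional, so the values on singular elements are constant integers, and the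
Frobenius–Schur indicators give the result.
-/

set_option autoImplicit false
set_option linter.unusedSectionVars false
set_option linter.style.haveILetI false

namespace Cfsg.Lib.Blocks.ThreeMember

open Cfsg.Lib.Chars Cfsg.Lib.Blocks
open scoped ComplexConjugate

universe u

variable {G : Type u} [Group G] [Fintype G] {M : Ideal AlgInt} {p : ℕ} [hp : Fact p.Prime]

/-- A power of two is not two more than a square. -/
lemma two_pow_ne {k d : ℕ} (hd : 0 < d) : 2 ^ k ≠ 2 + d * d := by
  intro h
  match k with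
  | 0 => rw [pow_zero] at h; omega
  | 1 => nlinarith
  | (j + 2) =>
    have h4 : 4 ∣ 2 + d * d := h ▸ ⟨2 ^ j, by ring⟩
    rcases Nat.even_or_odd d with ⟨e, rfl⟩ | ⟨e, rfl⟩
    · obtain ⟨c, hc⟩ := h4
      have : (e + e) * (e + e) = 4 * (e * e) := by ring
      omega
    · obtain ⟨c, hc⟩ := h4
      have : (2 * e + 1) * (2 * e + 1) = 4 * (e * e + e) + 1 := by ring
      omega

/-- With a normal complement and three members, the Sylow subgroups have order three. -/
theorem card_eq_three_of_complement (hM : IsPModular p M)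
    (hk : Nat.card (principalBlock M G) = 3) (h : HasNormalPComplement p G) (D : Sylow p G) :
    Nat.card (D : Subgroup G) = 3 := by
  classical
  obtain ⟨K, hKn, hKc, k, hidx⟩ := Cfsg.Lib.Transfer.hasNormalPComplement_iff.1 h
  have hK : ¬ p ∣ Nat.card K := hM.1.coprime_iff_not_dvd.1 hKc.symm
  have hD : Nat.card (D : Subgroup G) = p ^ k := by
    rw [Sylow.card_eq_multiplicity, ← K.card_mul_index, hidx,
      Nat.factorization_mul Nat.card_pos.ne' (pow_ne_zero _ hp.out.ne_zero), Finsupp.add_apply,
      Nat.factorization_eq_zero_of_not_dvd hK, zero_add, hp.out.factorization_pow,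
      Finsupp.single_eq_same]
  set S := Finset.univ.filter
    (fun χ : IrrCharacter G => ∀ n ∈ K, (χ : G → ℂ) n = (χ : G → ℂ) 1) with hS
  have hScard : S.card = 3 := by
    rw [← hk, Nat.card_eq_fintype_card]
    refine (Fintype.card_of_subtype S fun χ => ?_).symm
    rw [hS, Finset.mem_filter, mem_principalBlock_iff hM K hK hidx χ]
    simp
  have hsum := sum_sq_trivial_on K
  rw [hidx, ← hS] at hsum
  have hk0 : k ≠ 0 := by
    rintro rfl
    have h3 : ∑ χ ∈ S, ((deg (χ : G → ℂ) * deg (χ : G → ℂ) : ℕ) : ℂ) = 1 := by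
      rw [← Nat.cast_one, ← pow_zero p, ← hsum]
      exact Finset.sum_congr rfl fun χ _ => by rw [irr_apply_one_eq_deg]; push_cast; rfl
    rw [← Nat.cast_sum, ← Nat.cast_one, Nat.cast_inj] at h3
    have := Finset.card_nsmul_le_sum S (fun χ => deg (χ : G → ℂ) * deg (χ : G → ℂ)) 1
      fun χ _ => Nat.mul_pos (deg_irr_pos χ) (deg_irr_pos χ)
    rw [h3, hScard] at this
    simp at this
  -- a linear character trivial on `K`
  have hQ : IsPGroup p (G ⧸ K) := IsPGroup.of_card (n := k) (by rw [← Subgroup.index_eq_card, hidx])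
  haveI : Nontrivial (G ⧸ K) := by
    rw [← Finite.one_lt_card_iff_nontrivial, ← Subgroup.index_eq_card, hidx]
    exact Nat.one_lt_pow hk0 hp.out.one_lt
  haveI := hQ.isNilpotent
  haveI : Nontrivial (Abelianization (G ⧸ K)) := by
    change Nontrivial ((G ⧸ K) ⧸ commutator (G ⧸ K))
    exact QuotientGroup.nontrivial_iff.2 ((IsSolvable.commutator_lt_top_of_nontrivial (G ⧸ K)).ne)
  obtain ⟨a, ha⟩ := exists_ne (1 : Abelianization (G ⧸ K))
  obtain ⟨φ, hφ⟩ := CommGroup.exists_apply_ne_one_of_hasEnoughRootsOfUnity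
    (Abelianization (G ⧸ K)) ℂ ha
  set f : G →* ℂˣ := (φ.comp Abelianization.of).comp (QuotientGroup.mk' K) with hf
  have hfK : ∀ n ∈ K, f n = 1 := fun n hn => by
    rw [hf, MonoidHom.comp_apply, MonoidHom.comp_apply, QuotientGroup.mk'_apply,
      (QuotientGroup.eq_one_iff n).2 hn, map_one, map_one]
  obtain ⟨g, hg⟩ : ∃ g : G, f g ≠ 1 := by
    obtain ⟨q, rfl⟩ := QuotientGroup.mk_surjective a
    obtain ⟨g, rfl⟩ := QuotientGroup.mk'_surjective K q
    exact ⟨g, hφ⟩
  let L : ℕ → IrrCharacter G := fun j =>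
    ⟨fun x => ((f x ^ j : ℂˣ) : ℂ), isIrrCharacter_linear (MonoidHom.mk' (fun x => f x ^ j)
      fun x y => by rw [map_mul, mul_pow])⟩
  have hL : ∀ j, L j ∈ S := fun j => by
    rw [hS, Finset.mem_filter]
    refine ⟨Finset.mem_univ _, fun n hn => ?_⟩
    show ((f n ^ j : ℂˣ) : ℂ) = ((f 1 ^ j : ℂˣ) : ℂ)
    rw [hfK n hn, map_one]
  have hval : ∀ i j, L i = L j → f g ^ i = f g ^ j := fun i j h =>
    Units.ext (congrFun (congrArg Subtype.val h) g)
  have h01 : L 0 ≠ L 1 := fun h => hg (by simpa using (hval 0 1 h).symm)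
  have hL1 : ∀ j, (L j : G → ℂ) 1 = 1 := fun j => by
    show ((f 1 ^ j : ℂˣ) : ℂ) = 1
    rw [map_one, one_pow, Units.val_one]
  by_cases h02 : f g ^ 2 = 1
  · -- only possible for the prime two, and then impossible
    have hp2 : p = 2 := by
      obtain ⟨j, hj⟩ := IsPGroup.iff_orderOf.1 hQ (QuotientGroup.mk' K g)
      have h1 : orderOf (f g) ∣ p ^ j := by
        rw [← hj]
        exact orderOf_map_dvd (φ.comp Abelianization.of) (QuotientGroup.mk' K g)
      rw [orderOf_eq_prime h02 hg] at h1
      exact ((Nat.prime_dvd_prime_iff_eq Nat.prime_two hp.out).1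
        (Nat.prime_two.dvd_of_dvd_pow h1)).symm
    subst hp2
    obtain ⟨η, hη, hη0, hη1⟩ : ∃ η ∈ S, η ≠ L 0 ∧ η ≠ L 1 := by
      by_contra hc
      push Not at hc
      have : S ⊆ {L 0, L 1} := fun η hη => by
        simp only [Finset.mem_insert, Finset.mem_singleton]
        by_cases e : η = L 0
        · exact Or.inl e
        · exact Or.inr (hc η hη e)
      have := Finset.card_le_card this
      rw [Finset.card_pair h01] at this
      omega
    have hSe : S = {L 0, L 1, η} := by
      refine (Finset.eq_of_subset_of_card_le ?_ ?_).symm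
      · simp [Finset.insert_subset_iff, hL, hη]
      · rw [hScard, Finset.card_insert_of_notMem (by simp [h01, Ne.symm hη0]),
          Finset.card_pair (Ne.symm hη1)]
    rw [hSe, Finset.sum_insert (by simp [h01, Ne.symm hη0]), Finset.sum_pair (Ne.symm hη1),
      hL1, hL1, irr_apply_one_eq_deg η] at hsum
    have h3 : 2 + deg (η : G → ℂ) * deg (η : G → ℂ) = 2 ^ k := by
      apply Nat.cast_injective (R := ℂ)
      push_cast at hsum ⊢
      linear_combination hsum
    exact absurd h3.symm (two_pow_ne (deg_irr_pos η))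
  · have h12 : L 1 ≠ L 2 := fun h => hg (by
      have e := hval 1 2 h
      rw [pow_one, pow_two] at e
      exact mul_left_cancel (e.symm.trans (mul_one _).symm))
    have h02' : L 0 ≠ L 2 := fun h => h02 (by simpa using (hval 0 2 h).symm)
    have hSe : S = {L 0, L 1, L 2} := by
      refine (Finset.eq_of_subset_of_card_le ?_ ?_).symm
      · simp [Finset.insert_subset_iff, hL]
      · rw [hScard, Finset.card_insert_of_notMem (by simp [h01, h02']), Finset.card_pair h12]
    rw [hSe, Finset.sum_insert (by simp [h01, h02']), Finset.sum_pair h12, hL1, hL1, hL1] at hsum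
    rw [hD]
    apply Nat.cast_injective (R := ℂ)
    rw [← hsum]
    norm_num

/-- The arithmetic. -/
lemma arith {q : ℕ} {u w : ℤ} {d e : ℕ} (hu : u ≠ 0) (hw : w ≠ 0) (hq : 1 < q)
    (hdiv : (q : ℤ) ∣ 1 + u * u + w * w) (hdeg : 1 + u * d + w * e = 0) (hsign : u = w ∨ u = -w) :
    q = 3 := by
  have h1 : u ∣ 1 := by
    rcases hsign with h | h
    · exact ⟨-((d : ℤ) + e), by rw [← h] at hdeg; linear_combination hdeg⟩
    · exact ⟨-((d : ℤ) - e), by rw [show w = -u by rw [h, neg_neg]] at hdeg
                                linear_combination hdeg⟩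
  have hu1 : u * u = 1 := by
    rcases Int.isUnit_iff.1 (isUnit_of_dvd_one h1) with h | h <;> rw [h] <;> norm_num
  have hw1 : w * w = 1 := by
    rcases hsign with h | h
    · rw [← h, hu1]
    · rw [show w = -u by rw [h, neg_neg]]; linear_combination hu1
  rw [hu1, hw1] at hdiv
  have h3 : q ∣ 3 := by exact_mod_cast hdiv
  rcases (Nat.dvd_prime Nat.prime_three).1 h3 with h | h
  · omega
  · exact h

/-- A principal block with three members belongs to a Sylow subgroup of order three. -/
theorem card_eq_three (hM : IsPModular p M) (hk : Nat.card (principalBlock M G) = 3)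
    (D : Sylow p G) : Nat.card (D : Subgroup G) = 3 := by
  classical
  by_cases hl : blockRank p (principalBlock M G) = 1
  · exact card_eq_three_of_complement hM hk (hasNormalPComplement_of_blockRank hM hl) D
  obtain ⟨B, hBdef⟩ : ∃ B : Finset (IrrCharacter G),
      B = Finset.univ.filter (· ∈ principalBlock M G) := ⟨_, rfl⟩
  have hmemB : ∀ χ, χ ∈ B ↔ χ ∈ principalBlock M G := fun χ => by simp [hBdef]
  have hB : IsPBlock M (principalBlock M G) := isPBlock_blockOf (principal G)
  have hBcard : B.card = 3 := by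
    rw [← hk, Nat.card_eq_fintype_card]
    exact (Fintype.card_of_subtype B fun χ => hmemB χ).symm
  have hpB : principal G ∈ B := (hmemB _).2 (mem_blockOf_self hM (principal G))
  obtain ⟨η, θ, hne, hpair⟩ := Finset.card_eq_two.1
    (show (B.erase (principal G)).card = 2 by rw [Finset.card_erase_of_mem hpB, hBcard])
  have hη := Finset.mem_erase.1 (show η ∈ B.erase (principal G) by simp [hpair])
  have hθ := Finset.mem_erase.1 (show θ ∈ B.erase (principal G) by simp [hpair])
  have hBsum : ∀ f : IrrCharacter G → ℂ, ∑ χ ∈ B, f χ = f (principal G) + (f η + f θ) := fun f => by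
    rw [← Finset.add_sum_erase _ _ hpB, hpair, Finset.sum_pair hne]
  set e := (Nat.card G).factorization p with he
  set q := p ^ e with hq
  have hDq : Nat.card (D : Subgroup G) = q := Sylow.card_eq_multiplicity D
  rw [hDq]
  have hone : ∀ g : G, (principal G : G → ℂ) g = 1 := fun g => rfl
  have h1r : ¬ p ∣ orderOf (1 : G) := by simpa using hp.out.ne_one
  have hG0 : (Nat.card G : ℂ)⁻¹ ≠ 0 := inv_ne_zero (Nat.cast_ne_zero.2 Nat.card_pos.ne')
  -- the singular indicator
  set F : G → ℂ := fun g => if p ∣ orderOf g then (q : ℂ) else 0 with hF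
  have hFval : ∀ g, F g = (q : ℂ) - regularFun p g := fun g => by
    rw [regularFun_apply, hF]
    by_cases hg : p ∣ orderOf g <;> simp [hg, hq, he]
  have hFgen : IsGeneralizedCharacter G F := by
    rw [show F = ((q : ℤ) • fun _ : G => (1 : ℂ)) - regularFun p from funext fun g => by
      rw [hFval, Pi.sub_apply, Pi.smul_apply, zsmul_one, Int.cast_natCast]]
    exact IsGeneralizedCharacter.sub
      (IsGeneralizedCharacter.zsmul (IsCharacter.isGeneralized isCharacter_one) _)
      (isGeneralized_regular hp.out)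
  obtain ⟨a, ha⟩ := exists_int_decomp hFgen
  have hacoef : ∀ χ : IrrCharacter G, classInner F (χ : G → ℂ) = a χ := fun χ => by
    rw [ha, classInner_irrSum]
  have hsplit : ∀ χ : IrrCharacter G, χ ≠ principal G → (a χ : ℂ) =
      -((q : ℂ) * ((Nat.card G : ℂ)⁻¹ *
        conj (∑ g : G, if p ∣ orderOf g then 0 else (χ : G → ℂ) g))) := fun χ hχ => by
    rw [← hacoef χ, classInner_def, map_sum]
    have h0 : (Nat.card G : ℂ)⁻¹ * ∑ g : G, conj ((χ : G → ℂ) g) = 0 := by
      have h := classInner_irr_ne (Ne.symm hχ)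
      rw [classInner_def] at h
      simpa [hone] using h
    have h : ∀ g : G, F g * conj ((χ : G → ℂ) g) = (q : ℂ) * conj ((χ : G → ℂ) g) -
        (q : ℂ) * conj (if p ∣ orderOf g then 0 else (χ : G → ℂ) g) := fun g => by
      rw [hF]
      by_cases hg : p ∣ orderOf g <;> simp [hg]
    rw [Finset.sum_congr rfl fun g _ => h g, Finset.sum_sub_distrib, ← Finset.mul_sum,
      ← Finset.mul_sum, mul_sub]
    linear_combination (q : ℂ) * h0
  have hq0 : (q : ℂ) ≠ 0 := Nat.cast_ne_zero.2 (pow_ne_zero _ hp.out.ne_zero)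
  have ha0 : ∀ χ : IrrCharacter G, χ ∉ B → a χ = 0 := fun χ hχ => by
    have hχ1 : χ ≠ principal G := fun h => hχ (h ▸ hpB)
    have hs : ∑ g : G, (if p ∣ orderOf g then 0 else (χ : G → ℂ) g) = 0 := by
      by_contra hc
      exact hχ ((hmemB χ).2 ((mem_principal_iff_sum hM χ).2 hc))
    have h := hsplit χ hχ1
    rw [hs, map_zero, mul_zero, mul_zero, neg_zero, Int.cast_eq_zero] at h
    exact h
  have hane : ∀ χ ∈ B, χ ≠ principal G → a χ ≠ 0 := fun χ hχ hχ1 h0 => by
    have hs := (mem_principal_iff_sum hM χ).1 ((hmemB χ).1 hχ)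
    have h := hsplit χ hχ1
    rw [h0, Int.cast_zero, eq_comm, neg_eq_zero] at h
    rcases mul_eq_zero.1 h with h' | h'
    · exact hq0 h'
    rcases mul_eq_zero.1 h' with h'' | h''
    · exact hG0 h''
    · exact hs ((map_eq_zero conj).1 h'')
  set S := a (principal G) with hS
  have hexp : ∀ g : G, F g = (S : ℂ) + ((a η : ℂ) * (η : G → ℂ) g + (a θ : ℂ) * (θ : G → ℂ) g) := by
    intro g
    have h := hBsum fun χ => (a χ : ℂ) * (χ : G → ℂ) g
    rw [hone, mul_one] at h
    rw [← h, ha, Finset.sum_apply]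
    simp only [Pi.smul_apply, smul_eq_mul]
    exact (Finset.sum_subset (Finset.subset_univ B) fun χ _ hχ => by simp [ha0 χ hχ]).symm
  -- singular elements exist
  obtain ⟨g₀, hg₀⟩ : ∃ g : G, p ∣ orderOf g := by
    by_contra hc
    push Not at hc
    have : η ∉ B := fun h => (mem_principal_iff_sum hM η).1 ((hmemB η).1 h) (by
      rw [Finset.sum_congr rfl fun g _ => if_neg (hc g)]
      have h0 := classInner_irr_ne hη.1
      rw [classInner_def, mul_eq_zero, or_iff_right hG0] at h0
      simpa [hone] using h0)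
    exact this hη.2
  have he0 : e ≠ 0 := fun h0 => by
    have hd : p ∣ Nat.card G := hg₀.trans (orderOf_dvd_natCard g₀)
    have := hp.out.factorization_pos_of_dvd Nat.card_pos.ne' hd
    omega
  have hq1 : 1 < q := Nat.one_lt_pow he0 hp.out.one_lt
  have hS0 : 0 < (S : ℝ) := by
    have h := hacoef (principal G)
    rw [classInner_def] at h
    have h2 : ((S : ℝ) : ℂ) = (((Nat.card G : ℝ)⁻¹ *
        ∑ g : G, (if p ∣ orderOf g then (q : ℝ) else 0) : ℝ) : ℂ) := by
      push_cast
      rw [← h]
      congr 1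
      refine Finset.sum_congr rfl fun g _ => ?_
      rw [hone, map_one, mul_one, hF]
      by_cases hg : p ∣ orderOf g <;> simp [hg]
    rw [Complex.ofReal_inj.1 h2]
    refine mul_pos (inv_pos.2 (Nat.cast_pos.2 Nat.card_pos)) (Finset.sum_pos' (fun g _ => ?_)
      ⟨g₀, Finset.mem_univ _, ?_⟩)
    · split_ifs <;> positivity
    · rw [if_pos hg₀]; positivity
  have hSne : (S : ℂ) ≠ 0 := Int.cast_ne_zero.2 fun h => by simp [h] at hS0
  -- the values on singular elements
  have hprop : ∀ g : G, p ∣ orderOf g → (S : ℂ) * (η : G → ℂ) g = a η ∧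
      (S : ℂ) * (θ : G → ℂ) g = a θ := by
    intro g hg
    set r₁ : ℂ := (a η : ℂ) - (S : ℂ) * conj ((η : G → ℂ) g) with hr₁
    set r₂ : ℂ := (a θ : ℂ) - (S : ℂ) * conj ((θ : G → ℂ) g) with hr₂
    have hrel : ∀ v : G, ¬ p ∣ orderOf v → r₁ * (η : G → ℂ) v + r₂ * (θ : G → ℂ) v = 0 := by
      intro v hv
      have e1 : (S : ℂ) + ((a η : ℂ) * (η : G → ℂ) v + (a θ : ℂ) * (θ : G → ℂ) v) = 0 := by
        rw [← hexp, hF]; simp [hv]
      have e2 := block_orthogonality_regular hM hB hv hg
      rw [← hBdef, hBsum fun χ => (χ : G → ℂ) v * conj ((χ : G → ℂ) g), hone, hone, map_one] at e2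
      rw [hr₁, hr₂]
      linear_combination e1 - (S : ℂ) * e2
    by_contra hc
    have hr : r₁ ≠ 0 ∨ r₂ ≠ 0 := by
      by_contra h
      push Not at h
      apply hc
      constructor
      · have := congrArg conj (sub_eq_zero.1 h.1)
        rw [map_mul, Complex.conj_conj, map_intCast, map_intCast] at this
        exact this.symm
      · have := congrArg conj (sub_eq_zero.1 h.2)
        rw [map_mul, Complex.conj_conj, map_intCast, map_intCast] at this
        exact this.symm
    apply hl
    -- all regular parts lie on one line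
    obtain ⟨ξ, c₁, c₂, h1, h2⟩ : ∃ (ξ : G → ℂ) (c₁ c₂ : ℂ),
        pRegularPart p (η : G → ℂ) = c₁ • ξ ∧ pRegularPart p (θ : G → ℂ) = c₂ • ξ := by
      rcases hr with h | h
      · refine ⟨pRegularPart p (θ : G → ℂ), -r₂ / r₁, 1, funext fun v => ?_, (one_smul _ _).symm⟩
        simp only [Pi.smul_apply, smul_eq_mul, pRegularPart_apply]
        split_ifs with hv
        · simp
        · field_simp
          linear_combination hrel v hv
      · refine ⟨pRegularPart p (η : G → ℂ), 1, -r₁ / r₂, (one_smul _ _).symm, funext fun v => ?_⟩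
        simp only [Pi.smul_apply, smul_eq_mul, pRegularPart_apply]
        split_ifs with hv
        · simp
        · field_simp
          linear_combination hrel v hv
    set c₀ : ℂ := -((a η : ℂ) * c₁ + (a θ : ℂ) * c₂) / S with hc₀
    have h0 : pRegularPart p (principal G : G → ℂ) = c₀ • ξ := funext fun v => by
      have e1 := congrFun h1 v
      have e2 := congrFun h2 v
      simp only [Pi.smul_apply, smul_eq_mul, pRegularPart_apply] at e1 e2 ⊢
      have e3 := hexp v
      by_cases hv : p ∣ orderOf v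
      · simp only [if_pos hv] at e1 e2 ⊢
        rw [hc₀]
        field_simp
        linear_combination (a η : ℂ) * e1.symm + (a θ : ℂ) * e2.symm
      · rw [hF] at e3
        simp only [if_neg hv] at e1 e2 e3 ⊢
        rw [hone, hc₀]
        field_simp
        linear_combination -(a η : ℂ) * e1 - (a θ : ℂ) * e2 - e3
    have hpne : pRegularPart p (principal G : G → ℂ) ≠ 0 := fun h => by
      have := congrFun h 1
      rw [pRegularPart_apply, if_neg h1r, hone] at this
      exact one_ne_zero this
    have hξ0 : ξ ≠ 0 := fun h => hpne (by rw [h0, h, smul_zero])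
    have hc0 : c₀ ≠ 0 := fun h => hpne (by rw [h0, h, zero_smul])
    rw [blockRank, show Submodule.span ℂ ((fun χ : IrrCharacter G => pRegularPart p (χ : G → ℂ)) ''
      principalBlock M G) = ℂ ∙ ξ from ?_, finrank_span_singleton hξ0]
    refine le_antisymm (Submodule.span_le.2 ?_) (Submodule.span_le.2 ?_)
    · rintro _ ⟨χ, hχ, rfl⟩
      refine Submodule.mem_span_singleton.2 ?_
      by_cases hχ1 : χ = principal G
      · exact ⟨c₀, hχ1 ▸ h0.symm⟩
      · have : χ ∈ B.erase (principal G) := Finset.mem_erase.2 ⟨hχ1, (hmemB χ).2 hχ⟩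
        rw [hpair, Finset.mem_insert, Finset.mem_singleton] at this
        rcases this with rfl | rfl
        · exact ⟨c₁, h1.symm⟩
        · exact ⟨c₂, h2.symm⟩
    · intro x hx
      rw [Set.mem_singleton_iff.1 hx, show ξ = c₀⁻¹ • pRegularPart p (principal G : G → ℂ) by
        rw [h0, smul_smul, inv_mul_cancel₀ hc0, one_smul]]
      exact Submodule.smul_mem _ _ (Submodule.subset_span ⟨_, (hmemB _).1 hpB, rfl⟩)
  -- the constants are integers
  have hint : ∀ χ ∈ B, χ ≠ principal G → ∃ u : ℤ, u ≠ 0 ∧ a χ = u * S ∧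
      ∀ g : G, p ∣ orderOf g → (χ : G → ℂ) g = u := by
    intro χ hχ hχ1
    have hval : ∀ g : G, p ∣ orderOf g → (χ : G → ℂ) g = (((a χ : ℚ) / S : ℚ) : ℂ) := by
      intro g hg
      have hm : χ ∈ B.erase (principal G) := Finset.mem_erase.2 ⟨hχ1, hχ⟩
      rw [hpair, Finset.mem_insert, Finset.mem_singleton] at hm
      push_cast
      rw [eq_div_iff hSne, mul_comm]
      rcases hm with rfl | rfl
      · exact (hprop g hg).1
      · exact (hprop g hg).2
    have hi : IsIntegral ℤ (((a χ : ℚ) / S : ℚ) : ℂ) := hval g₀ hg₀ ▸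
      IsGeneralizedCharacter.isIntegral (IsCharacter.isGeneralized (isCharacter_of_irr χ.2)) g₀
    obtain ⟨u, hu⟩ := IsIntegrallyClosed.algebraMap_eq_of_integral
      (show IsIntegral ℤ ((a χ : ℚ) / S) from
        (isIntegral_algebraMap_iff (R := ℤ) (A := ℚ) (B := ℂ) (algebraMap ℚ ℂ).injective).1
          (by rwa [eq_ratCast]))
    have hu' : ((u : ℚ)) = (a χ : ℚ) / S := by simpa using hu
    have hSQ : (S : ℚ) ≠ 0 := Int.cast_ne_zero.2 fun h => by simp [h] at hS0
    have hau : a χ = u * S := by
      apply Int.cast_injective (α := ℚ)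
      push_cast
      rw [hu', div_mul_cancel₀ _ hSQ]
    refine ⟨u, fun h => hane χ hχ hχ1 (by rw [hau, h, zero_mul]), hau, fun g hg => ?_⟩
    rw [hval g hg, ← hu']
    norm_cast
  obtain ⟨u, hu0, hau, huv⟩ := hint η hη.2 hη.1
  obtain ⟨w, hw0, haw, hwv⟩ := hint θ hθ.2 hθ.1
  obtain ⟨d, hd, hηd⟩ := IsIrrCharacter.apply_one η.2
  obtain ⟨f, hf, hθf⟩ := IsIrrCharacter.apply_one θ.2
  have hdeg : 1 + u * (d : ℤ) + w * (f : ℤ) = 0 := by
    have h := hexp 1
    rw [hau, haw, hηd, hθf, hF] at h
    simp only [if_neg h1r] at h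
    push_cast at h
    have h' : (S : ℂ) * ((1 + u * (d : ℤ) + w * (f : ℤ) : ℤ) : ℂ) = 0 := by
      push_cast; linear_combination -h
    exact_mod_cast (mul_eq_zero.1 h').resolve_left hSne
  -- restriction to the Sylow subgroup
  have hdvd : ∀ (χ : IrrCharacter G) (v : ℤ) (n : ℕ), (χ : G → ℂ) 1 = n →
      (∀ g : G, p ∣ orderOf g → (χ : G → ℂ) g = v) → (q : ℤ) ∣ (n : ℤ) - v := by
    intro χ v n hn hv
    letI : Fintype (D : Subgroup G) := Fintype.ofFinite _
    obtain ⟨m, hm⟩ := IsCharacter.exists_mult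
      (IsCharacter.restrict (isCharacter_of_irr χ.2) (D : Subgroup G))
      (isIrrCharacter_one (G := (D : Subgroup G)))
    rw [classInner_def, hDq] at hm
    have hsum : ∑ x : (D : Subgroup G), (χ : G → ℂ) x * conj (1 : ℂ) =
        (n : ℂ) + ((q : ℂ) - 1) * v := by
      rw [← Finset.add_sum_erase _ _ (Finset.mem_univ (1 : (D : Subgroup G))),
        Finset.sum_congr rfl fun x hx => by
          rw [hv (x : G) ?_, map_one, mul_one]
          obtain ⟨j, hj⟩ := IsPGroup.iff_orderOf.1 D.2 x
          rw [Subgroup.orderOf_coe, hj]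
          refine dvd_pow_self p fun h0 => (Finset.mem_erase.1 hx).1 ?_
          rw [h0, pow_zero] at hj
          exact orderOf_eq_one_iff.1 hj,
        Finset.sum_const, Finset.card_erase_of_mem (Finset.mem_univ _), Finset.card_univ,
        ← Nat.card_eq_fintype_card, hDq, nsmul_eq_mul, Nat.cast_sub hq1.le, Nat.cast_one,
        OneMemClass.coe_one, hn, map_one, mul_one]
    change (q : ℂ)⁻¹ * ∑ x : (D : Subgroup G), (χ : G → ℂ) x * conj (1 : ℂ) = m at hm
    rw [hsum, inv_mul_eq_iff_eq_mul₀ hq0] at hm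
    refine ⟨(m : ℤ) - v, ?_⟩
    apply Int.cast_injective (α := ℂ)
    push_cast
    linear_combination hm
  have hmod : (q : ℤ) ∣ 1 + u * u + w * w := by
    obtain ⟨c₁, hc₁⟩ := hdvd η u d hηd huv
    obtain ⟨c₂, hc₂⟩ := hdvd θ w f hθf hwv
    exact ⟨-u * c₁ - w * c₂, by linear_combination hdeg - u * hc₁ - w * hc₂⟩
  by_cases hp2 : p = 2
  · subst hp2
    exfalso
    -- `q` is a power of two, at most `2` by a congruence modulo four, and then the count fails
    have h2 : (q : ℂ) = (S : ℂ) * ((1 + u * u + w * w : ℤ) : ℂ) := by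
      have h := hexp g₀
      rw [hau, haw, huv g₀ hg₀, hwv g₀ hg₀, hF] at h
      simp only [if_pos hg₀] at h
      push_cast at h ⊢
      linear_combination h
    have h2' : (q : ℤ) = S * (1 + u * u + w * w) := by exact_mod_cast h2
    have hu1 : 1 ≤ u * u := by
      have := mul_self_pos.2 hu0; omega
    have hw1 : 1 ≤ w * w := by
      have := mul_self_pos.2 hw0; omega
    have hSpos : (1 : ℤ) ≤ S := by exact_mod_cast hS0
    have he2 : 2 ≤ e := by
      by_contra hlt
      have : e = 1 := by omega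
      rw [hq, this] at h2'
      push_cast at h2'
      nlinarith
    have h4 : (4 : ℤ) ∣ 1 + u * u + w * w := by
      refine Dvd.dvd.trans ?_ hmod
      rw [hq]
      exact_mod_cast pow_dvd_pow 2 he2
    have key : ∀ z : ℤ, z * z % 4 = 0 ∨ z * z % 4 = 1 := fun z => by
      have : z % 4 = 0 ∨ z % 4 = 1 ∨ z % 4 = 2 ∨ z % 4 = 3 := by omega
      rw [Int.mul_emod]
      rcases this with h | h | h | h <;> rw [h] <;> norm_num
    have := Int.emod_eq_zero_of_dvd h4
    rcases key u with h | h <;> rcases key w with h' | h' <;> omega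
  -- the indicators
  have hFsq : ∀ g : G, F (g * g) = F g := fun g => by
    have : p ∣ orderOf (g * g) ↔ p ∣ orderOf g := by
      rw [← pow_two]
      refine ⟨fun h => h.trans (orderOf_pow_dvd 2), fun h => ?_⟩
      by_contra hc
      have h3 : orderOf g ∣ orderOf (g ^ 2) * 2 :=
        orderOf_dvd_of_pow_eq_one (by rw [mul_comm, pow_mul, pow_orderOf_eq_one])
      rcases (hp.out.dvd_mul).1 (h.trans h3) with h4 | h4
      · exact hc h4
      · exact hp2 ((Nat.prime_dvd_prime_iff_eq hp.out Nat.prime_two).1 h4)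
    simp only [hF, this]
  obtain ⟨ν, hν⟩ : ∃ ν : IrrCharacter G → ℂ,
      ∀ χ, ν χ = (Nat.card G : ℂ)⁻¹ * ∑ s, (χ : G → ℂ) (s * s) := ⟨_, fun χ => rfl⟩
  have hνeq : (u : ℂ) * ν η + (w : ℂ) * ν θ = 0 := by
    have h0 : (Nat.card G : ℂ)⁻¹ * ∑ s, F (s * s) = (S : ℂ) := by
      simp only [hFsq]
      rw [← hacoef (principal G), classInner_def]
      simp [hone]
    simp only [hexp, Finset.sum_add_distrib, mul_add, ← Finset.mul_sum] at h0
    rw [Finset.sum_const, Finset.card_univ, nsmul_eq_mul, ← mul_assoc,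
      Nat.card_eq_fintype_card, inv_mul_cancel₀ (Nat.cast_ne_zero.2 Fintype.card_ne_zero),
      one_mul, ← Nat.card_eq_fintype_card, mul_left_comm, ← hν, mul_left_comm, ← hν, hau, haw]
      at h0
    push_cast at h0
    refine (mul_eq_zero.1 (show (S : ℂ) * ((u : ℂ) * ν η + (w : ℂ) * ν θ) = 0 by
      linear_combination h0)).resolve_left hSne
  have htri : ∀ χ : IrrCharacter G, ((∃ s, ((χ : G → ℂ) s).im ≠ 0) ∧ ν χ = 0) ∨
      (ν χ = 1 ∨ ν χ = -1) := fun χ => by
    rw [hν]
    rcases indicator_irr χ.2 with h | ⟨-, h | h⟩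
    · exact Or.inl h
    · exact Or.inr (Or.inl h)
    · exact Or.inr (Or.inr h.1)
  have huwC : (u : ℂ) ≠ 0 ∧ (w : ℂ) ≠ 0 := ⟨Int.cast_ne_zero.2 hu0, Int.cast_ne_zero.2 hw0⟩
  rcases htri η with ⟨⟨s, hs⟩, h1⟩ | h1
  · -- complex conjugate pair
    exfalso
    have hcm : (⟨fun g => conj ((η : G → ℂ) g), IsIrrCharacter.conjugate η.2⟩ : IrrCharacter G) ∈
        B.erase (principal G) := by
      refine Finset.mem_erase.2 ⟨fun h => ?_, (hmemB _).2
        (map_auto_mem_principal hM (starRingAut (R := ℂ)) ((hmemB η).1 hη.2))⟩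
      refine hη.1 (Subtype.ext (funext fun g => ?_))
      have := congrArg conj (congrFun (congrArg Subtype.val h) g)
      simp only [Complex.conj_conj] at this
      rw [this, hone, map_one]
    rw [hpair, Finset.mem_insert, Finset.mem_singleton] at hcm
    have hc : ∀ g, (θ : G → ℂ) g = conj ((η : G → ℂ) g) := by
      rcases hcm with h | h
      · exact absurd (Complex.conj_eq_iff_im.1 (congrFun (congrArg Subtype.val h) s)) hs
      · exact fun g => (congrFun (congrArg Subtype.val h) g).symm
    have huw : u = w := by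
      have := hc g₀
      rw [huv g₀ hg₀, hwv g₀ hg₀, map_intCast] at this
      exact_mod_cast this.symm
    have hdf : d = f := by
      have := hc 1
      rw [hηd, hθf, Complex.conj_natCast] at this
      exact_mod_cast this.symm
    rw [huw, hdf] at hdeg
    have : (2 : ℤ) ∣ 1 := ⟨-(w * (f : ℤ)), by linear_combination hdeg⟩
    norm_num at this
  · rcases htri θ with ⟨-, h2⟩ | h2
    · exfalso
      rw [h2, mul_zero, add_zero] at hνeq
      rcases h1 with h | h <;> rw [h] at hνeq <;> simp [huwC.1] at hνeq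
    · refine arith hu0 hw0 hq1 hmod hdeg ?_
      rcases h1 with h | h <;> rcases h2 with h' | h' <;> rw [h, h'] at hνeq
      · refine Or.inr (Int.cast_injective (α := ℂ) ?_)
        push_cast; linear_combination hνeq
      · refine Or.inl (Int.cast_injective (α := ℂ) ?_)
        linear_combination hνeq
      · refine Or.inl (Int.cast_injective (α := ℂ) ?_)
        linear_combination -hνeq
      · refine Or.inr (Int.cast_injective (α := ℂ) ?_)
        push_cast; linear_combination -hνeq

end Cfsg.Lib.Blocks.ThreeMember
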