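import Cfsg.Agent.Blocks.InvertedSylow
import Cfsg.Agent.Chars.Clifford
import Cfsg.Agent.Coprime.Hall
import Cfsg.Agent.OddChar.PF.OddOrder
import Cfsg.Agent.S0215
import Cfsg.Agent.Fusion.TerminatingSeries
import Cfsg.Agent.Blocks.ItoDegrees

/-!
# Transitive groups of odd prime power degree with odd centralizers of `p`-elements

Without a character of `p`-defect zero every involution fixes exactly one point, two involutions with
different fixed points never agree at a point, so commuting involutions coincide and the group is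
`p`-solvable by the `Z*`-theorem.
-/

set_option autoImplicit false
set_option linter.unusedSectionVars false
set_option linter.style.haveILetI false

namespace Cfsg.Lib.Blocks.TransP

open Cfsg.Lib.Chars Cfsg.Lib.Blocks
open scoped ComplexConjugate commutatorElement

universe u

variable {G : Type u} [Group G] [Fintype G] {p : ℕ} [Fact p.Prime]

/-- Without characters of defect zero, structure constants of two classes of defect zero vanish
mod `p`. -/
theorem dvd_count (hno : ∀ χ : IrrCharacter G,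
    (deg (χ : G → ℂ)).factorization p ≠ (Nat.card G).factorization p) {x y : G}
    (hx : ¬ p ∣ Nat.card (Subgroup.centralizer ({x} : Set G)))
    (hy : ¬ p ∣ Nat.card (Subgroup.centralizer ({y} : Set G))) (g : G) :
    p ∣ Nat.card {q : G × G // IsConj x q.1 ∧ IsConj y q.2 ∧ q.1 * q.2 = g} := by
  classical
  have hp : p.Prime := Fact.out
  set N := Nat.card {q : G × G // IsConj x q.1 ∧ IsConj y q.2 ∧ q.1 * q.2 = g} with hN
  set cx := Nat.card (Subgroup.centralizer ({x} : Set G))
  set cy := Nat.card (Subgroup.centralizer ({y} : Set G))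
  have hm : ∀ χ : IrrCharacter G, ∃ m : ℕ, Nat.card G = deg (χ : G → ℂ) * (p * m) := by
    intro χ
    obtain ⟨d, hd⟩ := IsIrrCharacter.deg_dvd χ.2
    have hd0 : d ≠ 0 := by
      rintro rfl
      exact Nat.card_pos.ne' (by simpa using hd : Nat.card G = 0)
    have hpd : p ∣ d := by
      by_contra h
      apply hno χ
      rw [hd, Nat.factorization_mul (deg_irr_pos χ).ne' hd0]
      simp [Nat.factorization_eq_zero_of_not_dvd h]
    obtain ⟨m, rfl⟩ := hpd
    exact ⟨m, hd⟩
  choose m hm using hm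
  have key : (((N * (cx * cy) : ℕ)) : ℂ) / ((p : ℕ) : ℂ) =
      ∑ χ : IrrCharacter G,
        (m χ : ℂ) * ((χ : G → ℂ) x * (χ : G → ℂ) y * (χ : G → ℂ) g⁻¹) := by
    rw [div_eq_iff (Nat.cast_ne_zero.2 hp.ne_zero), Nat.cast_mul, Nat.cast_mul, hN,
      class_mult_formula x y g]
    have hKx : (Nat.card {z : G // IsConj x z} : ℂ) * (cx : ℂ) = (Nat.card G : ℂ) := by
      exact_mod_cast card_isConj_mul x
    have hKy : (Nat.card {z : G // IsConj y z} : ℂ) * (cy : ℂ) = (Nat.card G : ℂ) := by
      exact_mod_cast card_isConj_mul y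
    have hG : (Nat.card G : ℂ) ≠ 0 := Nat.cast_ne_zero.2 Nat.card_pos.ne'
    calc _ = ((Nat.card {z : G // IsConj x z} : ℂ) * (cx : ℂ)) *
          ((Nat.card {z : G // IsConj y z} : ℂ) * (cy : ℂ)) / (Nat.card G : ℂ) *
          ∑ χ : IrrCharacter G,
            (χ : G → ℂ) x * (χ : G → ℂ) y * conj ((χ : G → ℂ) g) / (χ : G → ℂ) 1 := by ring
      _ = _ := by
          rw [hKx, hKy, mul_div_assoc, div_self hG, mul_one, Finset.mul_sum, Finset.sum_mul]
          refine Finset.sum_congr rfl fun χ _ => ?_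
          rw [irr_apply_one_eq_deg, ← IsCharacter.conj_inv (isCharacter_of_irr χ.2)]
          have h1 : (deg (χ : G → ℂ) : ℂ) ≠ 0 := Nat.cast_ne_zero.2 (deg_irr_pos χ).ne'
          rw [show (Nat.card G : ℂ) = (deg (χ : G → ℂ) : ℂ) * ((p : ℂ) * (m χ : ℂ)) by
            rw [hm χ]; push_cast; ring]
          field_simp
  have hint : IsIntegral ℤ ((((N * (cx * cy) : ℕ)) : ℂ) / ((p : ℕ) : ℂ)) := by
    rw [key]
    refine IsIntegral.sum _ fun χ _ => ?_
    have hi := fun w : G => IsCharacter.isIntegral (isCharacter_of_irr χ.2) w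
    have hn : IsIntegral ℤ ((m χ : ℕ) : ℂ) := by
      have := isIntegral_algebraMap (R := ℤ) (A := ℂ) (x := ((m χ : ℕ) : ℤ))
      simpa using this
    exact hn.mul (((hi x).mul (hi y)).mul (hi g⁻¹))
  rcases (Nat.Prime.dvd_mul hp).1 (dvd_of_isIntegral_div hp.ne_zero hint) with h | h
  · exact h
  · rcases (Nat.Prime.dvd_mul hp).1 h with h | h
    · exact absurd h hx
    · exact absurd h hy

variable {Ω : Type*} [MulAction G Ω] [FaithfulSMul G Ω] [Fintype Ω] [MulAction.IsPretransitive G Ω]
  {r : ℕ}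

/-- A Sylow subgroup is transitive on a set of prime power size. -/
theorem sylow_transitive (hΩ : Fintype.card Ω = p ^ r) (P : Sylow p G) (a b : Ω) :
    ∃ u ∈ (P : Subgroup G), u • a = b := by
  classical
  have hp : p.Prime := Fact.out
  set Ga := MulAction.stabilizer G a
  set Pa := MulAction.stabilizer (P : Subgroup G) a
  have h1 : Ga.index = p ^ r := by
    rw [MulAction.index_stabilizer_of_transitive, Nat.card_eq_fintype_card, hΩ]
  have h2 : Nat.card Pa ∣ Nat.card Ga := by
    rw [← Subgroup.card_map_of_injective (K := Pa) (P : Subgroup G).subtype_injective]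
    refine Subgroup.card_dvd_of_le ?_
    rintro _ ⟨u, hu, rfl⟩
    exact hu
  obtain ⟨k, hk⟩ := (IsPGroup.iff_card.1 (P.2.to_subgroup Pa))
  have h3 : k ≤ (Nat.card Ga).factorization p := by
    rw [hk] at h2
    exact (hp.pow_dvd_iff_le_factorization Nat.card_pos.ne').1 h2
  have h4 : (Nat.card G).factorization p = (Nat.card Ga).factorization p + r := by
    rw [← Ga.card_mul_index, h1, Nat.factorization_mul Nat.card_pos.ne' (pow_ne_zero _ hp.ne_zero),
      Finsupp.add_apply, Nat.Prime.factorization_pow hp, Finsupp.single_eq_same]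
  have h5 : Pa.index = (MulAction.orbit (P : Subgroup G) a).ncard := MulAction.index_stabilizer _ a
  have h6 := Pa.card_mul_index
  rw [P.card_eq_multiplicity, hk, h5] at h6
  have hle : (MulAction.orbit (P : Subgroup G) a).ncard ≤ p ^ r := by
    rw [← hΩ, ← Nat.card_eq_fintype_card]
    exact Set.ncard_le_card _
  have heq : (MulAction.orbit (P : Subgroup G) a).ncard = p ^ r := by
    refine le_antisymm hle ?_
    by_contra hlt
    push Not at hlt
    have := Nat.mul_lt_mul_of_pos_left hlt (show 0 < p ^ k from pow_pos hp.pos k)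
    rw [h6, ← pow_add] at this
    exact absurd ((Nat.pow_lt_pow_iff_right hp.one_lt).1 this) (by omega)
  have huniv : MulAction.orbit (P : Subgroup G) a = Set.univ := by
    refine Set.eq_of_subset_of_ncard_le (Set.subset_univ _) ?_
    rw [Set.ncard_univ, Nat.card_eq_fintype_card, hΩ, heq]
  obtain ⟨⟨u, hu⟩, e⟩ := (huniv ▸ Set.mem_univ b : b ∈ MulAction.orbit (P : Subgroup G) a)
  exact ⟨u, hu, e⟩

variable (hC : ∀ g : G, g ≠ 1 → (∃ k : ℕ, orderOf g = p ^ k) →
    Odd (Nat.card (Subgroup.centralizer ({g} : Set G))))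
  (hno : ∀ χ : IrrCharacter G, (deg (χ : G → ℂ)).factorization p ≠ (Nat.card G).factorization p)
  (h2 : 2 ∣ Nat.card G) (hΩ : Fintype.card Ω = p ^ r)

include hC hno h2 hΩ

/-- Nontrivial `p`-elements have no fixed points. -/
theorem pElement_free {z : G} (hz : ∃ k : ℕ, orderOf z = p ^ k) {a : Ω} (ha : z • a = a) :
    z = 1 := by
  obtain ⟨k, hk⟩ := hz
  obtain ⟨S, hS⟩ := (IsPGroup.of_card (n := k) (G := Subgroup.zpowers z)
    (by rw [Nat.card_zpowers, hk])).exists_le_sylow
  have hzS : z ∈ (S : Subgroup G) := hS (Subgroup.mem_zpowers z)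
  have hab := (sylow_abelian_even hC hno h2 S).2
  refine FaithfulSMul.eq_of_smul_eq_smul (α := Ω) fun b => ?_
  rw [one_smul]
  obtain ⟨u, hu, rfl⟩ := sylow_transitive hΩ S a b
  have hcomm : z * u = u * z := congrArg Subtype.val (mul_comm' (⟨z, hzS⟩ : S) ⟨u, hu⟩)
  rw [← mul_smul, hcomm, mul_smul, ha]

/-- An involution fixes a unique point. -/
theorem involution_unique_fixed (hp2 : p ≠ 2) {x : G} (hx : orderOf x = 2) :
    (∃ a : Ω, x • a = a) ∧ ∀ a b : Ω, x • a = a → x • b = b → a = b := by
  classical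
  have hp : p.Prime := Fact.out
  haveI : Fact (Nat.Prime 2) := ⟨Nat.prime_two⟩
  have hxx : x * x = 1 := by rw [← pow_two, ← hx, pow_orderOf_eq_one]
  refine ⟨?_, fun a b ha hb => ?_⟩
  · have h2Ω : ¬ 2 ∣ Fintype.card Ω := by
      rw [hΩ]
      exact fun h => hp2 ((Nat.prime_dvd_prime_iff_eq Nat.prime_two hp).1
        (Nat.prime_two.dvd_of_dvd_pow h)).symm
    obtain ⟨a, ha⟩ := Equiv.Perm.exists_fixed_point_of_prime (p := 2) (n := 1) h2Ω
      (σ := MulAction.toPerm x) (by
        ext c
        rw [pow_one, pow_two]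
        show x • x • c = c
        rw [← mul_smul, hxx, one_smul])
    exact ⟨a, ha⟩
  · obtain ⟨P, hP⟩ := exists_inverted_sylow hC hno hx
    obtain ⟨u, hu, rfl⟩ := sylow_transitive hΩ P a b
    have h1 : u⁻¹ • a = u • a := by
      calc u⁻¹ • a = (x * u * x) • a := by rw [hP u hu]
        _ = x • u • a := by rw [mul_smul, mul_smul, ha]
        _ = u • a := hb
    have h3 : (u * u) • a = a := by
      rw [mul_smul, ← h1, smul_inv_smul]
    obtain ⟨k, hk⟩ := (IsPGroup.iff_orderOf.1 P.2) ⟨u * u, mul_mem hu hu⟩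
    have h4 := pElement_free hC hno h2 hΩ ⟨k, by rw [← hk, Subgroup.orderOf_mk]⟩ h3
    have h5 : orderOf u ∣ 2 := orderOf_dvd_of_pow_eq_one (by rw [pow_two, h4])
    obtain ⟨j, hj⟩ := (IsPGroup.iff_orderOf.1 P.2) ⟨u, hu⟩
    rw [Subgroup.orderOf_mk] at hj
    have h6 : orderOf u = 1 := by
      rcases (Nat.dvd_prime Nat.prime_two).1 h5 with h | h
      · exact h
      · exfalso
        rw [hj] at h
        exact hp2 ((Nat.prime_dvd_prime_iff_eq Nat.prime_two hp).1
          (Nat.prime_two.dvd_of_dvd_pow (dvd_of_eq h.symm))).symm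
    rw [orderOf_eq_one_iff.1 h6, one_smul]

/-- Involutions with different fixed points do not agree at any point. -/
theorem same_fixed (hp2 : p ≠ 2) {s t : G} (hs : orderOf s = 2) (ht : orderOf t = 2) {a c d : Ω}
    (hsc : s • c = c) (htd : t • d = d) (heq : s • a = t • a) : c = d := by
  classical
  have hp : p.Prime := Fact.out
  haveI : Fact (Nat.Prime 2) := ⟨Nat.prime_two⟩
  by_contra hcd
  have uniq := fun {w : G} (hw : orderOf w = 2) =>
    (involution_unique_fixed hC hno h2 hΩ hp2 hw).2
  have hss : s * s = 1 := by rw [← pow_two, ← hs, pow_orderOf_eq_one]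
  have htt : t * t = 1 := by rw [← pow_two, ← ht, pow_orderOf_eq_one]
  -- no involution commutes with both
  have hnocom : ∀ w : G, orderOf w = 2 → w * s = s * w → w * t = t * w → False := by
    intro w hw h1 h3
    have e1 : w • c = c := uniq hs _ _ (by rw [← mul_smul, ← h1, mul_smul, hsc]) hsc
    have e2 : w • d = d := uniq ht _ _ (by rw [← mul_smul, ← h3, mul_smul, htd]) htd
    exact hcd (uniq hw _ _ e1 e2)
  set j := s * t with hj
  have hsj : s * j * s = j⁻¹ := by
    rw [hj, mul_inv_rev, inv_eq_of_mul_eq_one_right hss, inv_eq_of_mul_eq_one_right htt,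
      ← mul_assoc s s t, hss, one_mul]
  have hts : t = s * j := by rw [hj, ← mul_assoc, hss, one_mul]
  have hja : j • a = a := by
    rw [hj, mul_smul, ← heq, ← mul_smul, hss, one_smul]
  have hj1 : j ≠ 1 := fun h => hcd (uniq hs _ _ hsc (by rw [hts, h, mul_one] at htd; exact htd))
  have hcomm_t : ∀ w : G, w * s = s * w → w * j = j * w → w * t = t * w := by
    intro w h1 h3
    rw [hts]
    exact (Commute.mul_right (show Commute w s from h1) (show Commute w j from h3))
  set C := Subgroup.centralizer ({j} : Set G) with hCdef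
  have hCs : ∀ w ∈ C, s * w * s ∈ C := by
    intro w hw
    rw [hCdef, Subgroup.mem_centralizer_singleton_iff] at hw ⊢
    have hw' : w * j⁻¹ = j⁻¹ * w := ((show Commute w j from hw).inv_right)
    have hjs : s * j⁻¹ * s = j := by
      rw [← hsj]
      calc s * (s * j * s) * s = (s * s) * j * (s * s) := by group
        _ = j := by rw [hss, one_mul, mul_one]
    calc s * w * s * j = s * w * s * (s * j⁻¹ * s) := by rw [hjs]
      _ = s * (w * j⁻¹) * s := by
          calc _ = s * w * (s * s) * j⁻¹ * s := by group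
            _ = _ := by rw [hss]; group
      _ = s * (j⁻¹ * w) * s := by rw [hw']
      _ = (s * j⁻¹ * s) * (s * w * s) := by
          calc _ = s * j⁻¹ * (s * s) * w * s := by rw [hss]; group
            _ = _ := by group
      _ = j * (s * w * s) := by rw [hjs]
  have hconjs : ∀ w : G, orderOf w = 2 → s * w * s = w → w * s = s * w := by
    intro w hw e
    calc w * s = s * w * s * s := by rw [e]
      _ = s * w := by rw [mul_assoc, hss, mul_one]
  -- the centraliser of j is odd
  have hodd : Odd (Nat.card C) := by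
    by_contra hev
    rw [Nat.not_odd_iff_even, even_iff_two_dvd, Nat.card_eq_fintype_card] at hev
    let τ : Equiv.Perm C := ⟨fun w => w⁻¹, fun w => w⁻¹, inv_inv, inv_inv⟩
    have hτ := Equiv.Perm.card_compl_support_modEq (p := 2) (n := 1) (σ := τ)
      (by rw [pow_one, pow_two]; exact Equiv.ext inv_inv)
    set I : Finset C := τ.supportᶜ with hI
    have hImem : ∀ w : C, w ∈ I ↔ w⁻¹ = w := fun w => by
      rw [hI, Finset.mem_compl, Equiv.Perm.mem_support, not_not]; rfl
    have hIeven : 2 ∣ Fintype.card {w : C // w ∈ I} := by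
      rw [Fintype.card_coe]
      exact Nat.modEq_zero_iff_dvd.1 (hτ.trans (Nat.modEq_zero_iff_dvd.2 hev))
    have hmem : ∀ w : {w : C // w ∈ I}, (⟨s * w.1 * s, hCs _ w.1.2⟩ : C) ∈ I := fun w => by
      rw [hImem]
      apply Subtype.ext
      have h1 : ((w.1 : G))⁻¹ = w.1 := congrArg Subtype.val ((hImem w.1).1 w.2)
      show (s * (w.1 : G) * s)⁻¹ = s * w.1 * s
      rw [mul_inv_rev, mul_inv_rev, inv_eq_of_mul_eq_one_right hss, h1, mul_assoc]
    let f : {w : C // w ∈ I} → {w : C // w ∈ I} := fun w => ⟨_, hmem w⟩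
    have hff : ∀ w, f (f w) = w := fun w => Subtype.ext (Subtype.ext (by
      show s * (s * (w.1 : G) * s) * s = w.1
      calc _ = (s * s) * (w.1 : G) * (s * s) := by group
        _ = _ := by rw [hss, one_mul, mul_one]))
    obtain ⟨w, hw, hw1⟩ := Equiv.Perm.exists_fixed_point_of_prime' (p := 2) (n := 1) hIeven
      (σ := ⟨f, f, hff, hff⟩) (by rw [pow_one, pow_two]; exact Equiv.ext hff)
      (a := ⟨1, by rw [hImem, inv_one]⟩) (Subtype.ext (Subtype.ext (by
        show s * 1 * s = 1
        rw [mul_one, hss])))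
    have hwinv : ((w.1 : G))⁻¹ = w.1 := congrArg Subtype.val ((hImem w.1).1 w.2)
    have hwne : (w.1 : G) ≠ 1 := fun h => hw1 (Subtype.ext (Subtype.ext h))
    have hwo : orderOf (w.1 : G) = 2 := orderOf_eq_prime
      (by rw [pow_two]; nth_rw 1 [← hwinv]; exact inv_mul_cancel _) hwne
    have hws := hconjs _ hwo (congrArg (fun q : {w : C // w ∈ I} => ((q.1 : C) : G)) hw)
    exact hnocom _ hwo hws (hcomm_t _ hws (Subgroup.mem_centralizer_singleton_iff.1 w.1.2))
  have hjodd : Odd (orderOf j) := by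
    refine hodd.of_dvd_nat ?_
    have h := orderOf_dvd_natCard (⟨j, Subgroup.mem_centralizer_singleton_iff.2 rfl⟩ : C)
    rwa [Subgroup.orderOf_mk] at h
  -- p divides the order of the centraliser
  have hsC : s ∉ C := fun h => by
    have := hodd.of_dvd_nat (orderOf_dvd_natCard (⟨s, h⟩ : C))
    rw [Subgroup.orderOf_mk, hs] at this
    exact absurd this (by decide)
  have hpC : p ∣ Nat.card C := by
    by_contra hpC
    have hcs : ¬ p ∣ Nat.card (Subgroup.centralizer ({s} : Set G)) := by
      intro h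
      obtain ⟨g, hg⟩ := exists_prime_orderOf_dvd_card' p h
      have hgo : orderOf (g : G) = p := by rw [Subgroup.orderOf_coe, hg]
      have := eq_one_of_comm hC hs ⟨1, by rw [hgo, pow_one]⟩
        (Subgroup.mem_centralizer_singleton_iff.1 g.2).symm
      rw [this, orderOf_one] at hgo
      exact hp.one_lt.ne hgo
    have hcnt := dvd_count hno hcs hcs j
    -- the quotient of the centraliser by the fixed points of s
    set F := C ⊓ Subgroup.centralizer ({s} : Set G) with hF
    let ψ : G → G := fun w => w * (s * w⁻¹ * s)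
    have hψ : ∀ v w : C, (QuotientGroup.leftRel (F.subgroupOf C)).r v w ↔ ψ v = ψ w := by
      intro v w
      rw [QuotientGroup.leftRel_apply, Subgroup.mem_subgroupOf, hF, Subgroup.mem_inf]
      simp only [Subgroup.coe_mul, Subgroup.coe_inv, (mul_mem (inv_mem v.2) w.2 : _ ∈ C), true_and,
        Subgroup.mem_centralizer_singleton_iff, ψ]
      constructor
      · intro h
        calc (v : G) * (s * (v : G)⁻¹ * s) = v * (s * ((v : G)⁻¹ * w) * (w : G)⁻¹ * s) := by group
          _ = v * (((v : G)⁻¹ * w) * s * (w : G)⁻¹ * s) := by rw [h]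
          _ = _ := by group
      · intro h
        calc (v : G)⁻¹ * w * s = (v : G)⁻¹ * (w * (s * (w : G)⁻¹ * s)) * s⁻¹ * w := by
              have : s⁻¹ = s := inv_eq_of_mul_eq_one_right hss
              rw [this]
              calc (v : G)⁻¹ * w * s = (v : G)⁻¹ * w * s * ((w : G)⁻¹ * (s * s) * w) := by
                    rw [hss]; group
                _ = _ := by group
          _ = (v : G)⁻¹ * (v * (s * (v : G)⁻¹ * s)) * s⁻¹ * w := by rw [h]
          _ = _ := by group
    let T := {q : G × G // IsConj s q.1 ∧ IsConj s q.2 ∧ q.1 * q.2 = j}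
    have hconj : ∀ y : G, y * y = 1 → y ≠ 1 → IsConj s y := fun y hy hy1 =>
      involutions_conj_of_no_defectZero hC hno hs (orderOf_eq_prime (by rw [pow_two, hy]) hy1)
    let tau : C → T := fun w =>
      ⟨(s * ψ w, s * ψ w * j), by
        have hinv : s * ψ w * s = (ψ w)⁻¹ := by
          show s * ((w : G) * (s * (w : G)⁻¹ * s)) * s = ((w : G) * (s * (w : G)⁻¹ * s))⁻¹
          rw [mul_inv_rev, mul_inv_rev, mul_inv_rev, inv_inv, inv_eq_of_mul_eq_one_right hss]
          calc _ = s * w * s * (w : G)⁻¹ * (s * s) := by group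
            _ = _ := by rw [hss]; group
        have hψC : ψ w ∈ C := mul_mem w.2 (hCs _ (inv_mem w.2))
        have hA : (s * ψ w) * (s * ψ w) = 1 := by
          rw [← mul_assoc, hinv, inv_mul_cancel]
        have hA1 : s * ψ w ≠ 1 := fun h => hsC (by rw [eq_inv_of_mul_eq_one_left h]; exact inv_mem hψC)
        have hBj : (s * ψ w) * j * (s * ψ w) = j⁻¹ := by
          have hcm : ψ w * j = j * ψ w := Subgroup.mem_centralizer_singleton_iff.1 hψC
          calc (s * ψ w) * j * (s * ψ w) = s * (ψ w * j) * s * ψ w := by group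
            _ = (s * j * s) * (s * ψ w * s) * ψ w := by
                rw [hcm]
                calc s * (j * ψ w) * s * ψ w = s * j * (s * s) * ψ w * s * ψ w := by rw [hss]; group
                  _ = _ := by group
            _ = _ := by rw [hsj, hinv, mul_assoc, inv_mul_cancel, mul_one]
        have hB : (s * ψ w * j) * (s * ψ w * j) = 1 := by
          calc _ = ((s * ψ w) * j * (s * ψ w)) * j := by group
            _ = 1 := by rw [hBj, inv_mul_cancel]
        refine ⟨hconj _ hA hA1, hconj _ hB fun h => ?_, ?_⟩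
        · have h1 : s * ψ w = j⁻¹ := eq_inv_of_mul_eq_one_left h
          have h3 := orderOf_eq_prime (p := 2) (by rw [pow_two, hA]) hA1
          rw [h1, orderOf_inv] at h3
          rw [h3] at hjodd
          exact absurd hjodd (by decide)
        · show s * ψ w * (s * ψ w * j) = j
          rw [← mul_assoc, hA, one_mul]⟩
    let tau' : C ⧸ F.subgroupOf C → T := Quotient.lift tau fun v w h => Subtype.ext (by
      show (s * ψ v, s * ψ v * j) = (s * ψ w, s * ψ w * j)
      rw [(hψ v w).1 h])
    have hbij : Function.Bijective tau' := by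
      constructor
      · intro v w
        induction v using Quotient.inductionOn with
        | h v =>
        induction w using Quotient.inductionOn with
        | h w =>
          intro h
          exact Quotient.sound ((hψ v w).2 (mul_left_cancel
            (congrArg (fun q : T => q.1.1) h : s * ψ v = s * ψ w)))
      · rintro ⟨⟨A, B⟩, hA, hB, hAB⟩
        change IsConj s A at hA
        change IsConj s B at hB
        change A * B = j at hAB
        obtain ⟨gA, hgA⟩ := isConj_iff.1 hA
        obtain ⟨gB, hgB⟩ := isConj_iff.1 hB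
        have hA2 : A * A = 1 := by
          rw [← hgA]
          calc gA * s * gA⁻¹ * (gA * s * gA⁻¹) = gA * (s * s) * gA⁻¹ := by group
            _ = 1 := by rw [hss]; group
        have hB2 : B * B = 1 := by
          rw [← hgB]
          calc gB * s * gB⁻¹ * (gB * s * gB⁻¹) = gB * (s * s) * gB⁻¹ := by group
            _ = 1 := by rw [hss]; group
        have hBA : B = A * j := by rw [← hAB, ← mul_assoc, hA2, one_mul]
        set e := s * A with he
        have hAjA : A * j * A = j⁻¹ := by
          refine eq_inv_of_mul_eq_one_left ?_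
          calc A * j * A * j = B * B := by rw [hBA]; group
            _ = 1 := hB2
        have heC : e ∈ C := by
          rw [hCdef, Subgroup.mem_centralizer_singleton_iff]
          calc s * A * j = s * (A * j * A) * A⁻¹ := by group
            _ = s * j⁻¹ * s * (s * A⁻¹) := by
                rw [hAjA]
                calc s * j⁻¹ * A⁻¹ = s * j⁻¹ * (s * s) * A⁻¹ := by rw [hss, mul_one]
                  _ = _ := by group
            _ = _ := by
                rw [inv_eq_of_mul_eq_one_right hA2, ← hsj]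
                calc s * (s * j * s) * s * (s * A) = (s * s) * j * (s * s) * (s * A) := by group
                  _ = _ := by rw [hss, he]; group
        have heinv : s * e * s = e⁻¹ := by
          rw [he, mul_inv_rev, inv_eq_of_mul_eq_one_right hss, inv_eq_of_mul_eq_one_right hA2,
            ← mul_assoc s s A, hss, one_mul]
        have hpow : ∀ n : ℕ, s * e ^ n * s = (e ^ n)⁻¹ := by
          intro n
          induction n with
          | zero => rw [pow_zero, mul_one, hss, inv_one]
          | succ n ih =>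
            calc s * e ^ (n + 1) * s = (s * e ^ n * s) * (s * e * s) := by
                  calc s * e ^ (n + 1) * s = s * e ^ n * (s * s) * e * s := by
                        rw [pow_succ, hss]; group
                    _ = _ := by group
              _ = (e ^ n)⁻¹ * e⁻¹ := by rw [ih, heinv]
              _ = _ := by rw [← mul_inv_rev, ← pow_succ']
        obtain ⟨m, hm⟩ := hodd.of_dvd_nat (Subgroup.orderOf_mk e heC ▸ orderOf_dvd_natCard (⟨e, heC⟩ : C))
        refine ⟨Quotient.mk _ (⟨e ^ (m + 1), pow_mem heC _⟩ : C), ?_⟩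
        have hval : ψ (e ^ (m + 1)) = e := by
          show e ^ (m + 1) * (s * (e ^ (m + 1))⁻¹ * s) = e
          have h1 : s * (e ^ (m + 1))⁻¹ * s = e ^ (m + 1) := by
            rw [← hpow (m + 1)]
            calc s * (s * e ^ (m + 1) * s) * s = (s * s) * e ^ (m + 1) * (s * s) := by group
              _ = _ := by rw [hss, one_mul, mul_one]
          rw [h1, ← pow_add, show m + 1 + (m + 1) = orderOf e + 1 by omega, pow_succ,
            pow_orderOf_eq_one, one_mul]
        refine Subtype.ext ?_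
        show (s * ψ (e ^ (m + 1)), s * ψ (e ^ (m + 1)) * j) = (A, B)
        rw [hval, he, ← mul_assoc, hss, one_mul, hBA]
    exact hpC (hcnt.trans (by
      rw [← Nat.card_eq_of_bijective _ hbij]
      exact Subgroup.index_dvd_card (F.subgroupOf C)))
  -- an inverted p-element in the centraliser
  obtain ⟨R, hR⟩ := exists_invariant_sylow (p := p) hss hodd hCs
  have hRinv := inverts_of_fixedPointFree hss (x := s)
    (R := (R : Subgroup C).map C.subtype)
    (by rw [Subgroup.card_map_of_injective C.subtype_injective]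
        exact hodd.of_dvd_nat (Subgroup.card_subgroup_dvd_card _))
    hR (fun q hq hc => by
      obtain ⟨q', hq', rfl⟩ := hq
      refine eq_one_of_comm hC hs ?_ hc
      obtain ⟨k, hk⟩ := (IsPGroup.iff_orderOf.1 R.2) ⟨q', hq'⟩
      exact ⟨k, by rw [Subgroup.coe_subtype, Subgroup.orderOf_coe, ← hk]; exact (Subgroup.orderOf_mk _ _).symm⟩)
  obtain ⟨z', hz'⟩ := exists_prime_orderOf_dvd_card' p (R.dvd_card_of_dvd_card hpC)
  set z : G := ((z' : C) : G) with hzdef
  have hzinv : s * z * s = z⁻¹ := hRinv _ ⟨_, z'.2, rfl⟩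
  have hzo : orderOf z = p := by rw [hzdef, Subgroup.orderOf_coe, Subgroup.orderOf_coe, hz']
  have hz1 : z ≠ 1 := fun h => by rw [h, orderOf_one] at hzo; exact hp.one_lt.ne hzo
  have hzj : j * z = z * j := (Subgroup.mem_centralizer_singleton_iff.1 (z' : C).2).symm
  -- the extended centraliser of z
  let E : Subgroup G :=
    { carrier := {g | g * z * g⁻¹ = z ∨ g * z * g⁻¹ = z⁻¹}
      mul_mem' := fun {g h} hg hh => by
        have e : g * h * z * (g * h)⁻¹ = g * (h * z * h⁻¹) * g⁻¹ := by group
        show _ ∨ _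
        rw [e]
        rcases hh with hh | hh <;> rw [hh]
        · exact hg
        · rw [← conj_inv]
          rcases hg with hg | hg <;> rw [hg]
          · exact Or.inr rfl
          · exact Or.inl (inv_inv z)
      one_mem' := Or.inl (by group)
      inv_mem' := fun {g} hg => by
        show _ ∨ _
        rcases hg with hg | hg
        · refine Or.inl ?_
          rw [inv_inv]
          calc g⁻¹ * z * g = g⁻¹ * (g * z * g⁻¹) * g := by rw [hg]
            _ = z := by group
        · refine Or.inr ?_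
          rw [inv_inv]
          have e : g * z⁻¹ * g⁻¹ = z := by rw [← conj_inv, hg, inv_inv]
          calc g⁻¹ * z * g = g⁻¹ * (g * z⁻¹ * g⁻¹) * g := by rw [e]
            _ = z⁻¹ := by group }
  have hsE : s ∈ E := Or.inr (by rw [inv_eq_of_mul_eq_one_right hss, hzinv])
  have hjE : j ∈ E := Or.inl (by rw [hzj, mul_inv_cancel_right])
  let Cz := (Subgroup.centralizer ({z} : Set G)).subgroupOf E
  haveI : Group.IsSolvable Cz := by
    refine Cfsg.Agent.PF.isSolvable_of_odd _ ?_
    rw [Nat.card_congr (Subgroup.subgroupOfEquivOfLe (fun g hg => Or.inl (by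
      rw [Subgroup.mem_centralizer_singleton_iff.1 hg, mul_inv_cancel_right]))).toEquiv]
    exact hC z hz1 ⟨1, by rw [hzo, pow_one]⟩
  haveI : Group.IsSolvable E := by
    have hcomm : ∀ g h : E, ⁅g, h⁆ ∈ Cz := by
      rintro ⟨g, hg⟩ ⟨h, hh⟩
      rw [Subgroup.mem_subgroupOf, Subgroup.mem_centralizer_singleton_iff]
      refine mul_inv_eq_iff_eq_mul.1 ?_
      show (g * h * g⁻¹ * h⁻¹) * z * (g * h * g⁻¹ * h⁻¹)⁻¹ = z
      have e1 : ∀ {q : G}, q ∈ E → q⁻¹ * z * q = z ∧ q * z * q⁻¹ = z ∨
          q⁻¹ * z * q = z⁻¹ ∧ q * z * q⁻¹ = z⁻¹ := by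
        rintro q (hq | hq)
        · refine Or.inl ⟨?_, hq⟩
          calc q⁻¹ * z * q = q⁻¹ * (q * z * q⁻¹) * q := by rw [hq]
            _ = z := by group
        · refine Or.inr ⟨?_, hq⟩
          have e : q * z⁻¹ * q⁻¹ = z := by rw [← conj_inv, hq, inv_inv]
          calc q⁻¹ * z * q = q⁻¹ * (q * z⁻¹ * q⁻¹) * q := by rw [e]
            _ = z⁻¹ := by group
      have e2 : (g * h * g⁻¹ * h⁻¹) * z * (g * h * g⁻¹ * h⁻¹)⁻¹ =
          g * (h * (g⁻¹ * (h⁻¹ * z * h) * g) * h⁻¹) * g⁻¹ := by group
      rw [e2]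
      rcases e1 hh with ⟨a1, a2⟩ | ⟨a1, a2⟩ <;> rcases e1 hg with ⟨b1, b2⟩ | ⟨b1, b2⟩ <;>
        simp only [a1, a2, b1, b2, inv_inv, (conj_inv).symm, show g⁻¹ * z⁻¹ * g = (g⁻¹ * z * g)⁻¹ by group]
    haveI : Cz.Normal := ⟨fun c hc g => by
      rw [show g * c * g⁻¹ = ⁅g, c⁆ * c by rw [commutatorElement_def]; group]
      exact mul_mem (hcomm g c) hc⟩
    haveI : Group.IsSolvable (E ⧸ Cz) := Group.isSolvable_of_comm fun a b => by
      induction a using QuotientGroup.induction_on with
      | H a =>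
      induction b using QuotientGroup.induction_on with
      | H b =>
        rw [← QuotientGroup.mk_mul, ← QuotientGroup.mk_mul, QuotientGroup.eq]
        have := hcomm b⁻¹ a⁻¹
        rw [commutatorElement_def, inv_inv, inv_inv] at this
        simpa [mul_assoc] using this
    exact solvable_of_ker_le_range Cz.subtype (QuotientGroup.mk' Cz)
      (by rw [QuotientGroup.ker_mk', Subgroup.range_subtype])
  -- E is transitive and its stabiliser is a Hall subgroup
  haveI : MulAction.IsPretransitive E Ω := by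
    obtain ⟨S, hS⟩ := (IsPGroup.of_card (n := 1) (G := Subgroup.zpowers z)
      (by rw [Nat.card_zpowers, hzo, pow_one])).exists_le_sylow
    refine ⟨fun v w => ?_⟩
    obtain ⟨u, hu, e⟩ := sylow_transitive hΩ S v w
    have hab := (sylow_abelian_even hC hno h2 S).2
    have hcomm : u * z = z * u :=
      congrArg Subtype.val (mul_comm' (⟨u, hu⟩ : S) ⟨z, hS (Subgroup.mem_zpowers z)⟩)
    exact ⟨⟨u, Or.inl (by rw [hcomm, mul_inv_cancel_right])⟩, e⟩
  set H := MulAction.stabilizer E c with hH
  have hHall : Cfsg.IsPiHall {q : ℕ | q ≠ p} H := by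
    refine ⟨fun q hq hqH => fun hqp => ?_, fun q hq hne hdvd => ?_⟩
    · subst hqp
      obtain ⟨g, hg⟩ := exists_prime_orderOf_dvd_card' q hqH
      have hgo : orderOf ((g : E) : G) = q := by rw [Subgroup.orderOf_coe, Subgroup.orderOf_coe, hg]
      have := pElement_free hC hno h2 hΩ ⟨1, by rw [hgo, pow_one]⟩ (a := c) (g.2 : _)
      rw [this, orderOf_one] at hgo
      exact hq.one_lt.ne hgo
    · rw [hH, MulAction.index_stabilizer_of_transitive, Nat.card_eq_fintype_card, hΩ] at hdvd
      exact hne ((Nat.prime_dvd_prime_iff_eq hq hp).1 (hq.dvd_of_dvd_pow hdvd))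
  -- the dihedral group of s and j
  let J : Subgroup E := Subgroup.zpowers ⟨j, hjE⟩
  let K : Subgroup E :=
    { carrier := {g | g ∈ J ∨ (⟨s, hsE⟩ : E) * g ∈ J}
      mul_mem' := fun {g h} hg hh => by
        set σ : E := ⟨s, hsE⟩
        have hσσ : σ * σ = 1 := Subtype.ext hss
        have hswap : ∀ q ∈ J, σ * q * σ ∈ J := by
          rintro q ⟨n, rfl⟩
          have e : σ * ⟨j, hjE⟩ * σ⁻¹ = (⟨j, hjE⟩ : E)⁻¹ :=
            Subtype.ext (by show s * j * s⁻¹ = j⁻¹; rw [inv_eq_of_mul_eq_one_right hss, hsj])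
          show σ * (⟨j, hjE⟩ : E) ^ n * σ ∈ J
          nth_rw 2 [← inv_eq_of_mul_eq_one_right hσσ]
          rw [← conj_zpow, e]
          exact zpow_mem (inv_mem (Subgroup.mem_zpowers _)) n
        show _ ∨ _
        rcases hg with hg | hg <;> rcases hh with hh | hh
        · exact Or.inl (mul_mem hg hh)
        · refine Or.inr ?_
          rw [show σ * (g * h) = (σ * g * σ) * (σ * h) by
            calc σ * (g * h) = σ * g * (σ * σ) * h := by rw [hσσ]; group
              _ = _ := by group]
          exact mul_mem (hswap _ hg) hh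
        · refine Or.inr ?_
          rw [← mul_assoc]
          exact mul_mem hg hh
        · refine Or.inl ?_
          rw [show g * h = (σ * (σ * g) * σ) * (σ * h) by
            calc g * h = (σ * σ) * g * (σ * σ) * h := by rw [hσσ]; group
              _ = _ := by group]
          exact mul_mem (hswap _ hg) hh
      one_mem' := Or.inl J.one_mem
      inv_mem' := fun {g} hg => by
        set σ : E := ⟨s, hsE⟩
        have hσσ : σ * σ = 1 := Subtype.ext hss
        rcases hg with hg | hg
        · exact Or.inl (inv_mem hg)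
        · refine Or.inr ?_
          have e : σ * ⟨j, hjE⟩ * σ⁻¹ = (⟨j, hjE⟩ : E)⁻¹ :=
            Subtype.ext (by show s * j * s⁻¹ = j⁻¹; rw [inv_eq_of_mul_eq_one_right hss, hsj])
          obtain ⟨n, hn⟩ := inv_mem hg
          have e1 : σ * g⁻¹ = σ * (σ * g)⁻¹ * σ⁻¹ * (σ * σ) := by group
          show σ * g⁻¹ ∈ J
          rw [e1, hσσ, mul_one, ← hn, show (fun k : ℤ => (⟨j, hjE⟩ : E) ^ k) n = _ from rfl,
            ← conj_zpow, e]
          exact zpow_mem (inv_mem (Subgroup.mem_zpowers _)) n }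
  have hK : ∀ q : ℕ, q.Prime → q ∣ Nat.card K → q ∈ {q : ℕ | q ≠ p} := by
    intro q hq hqK hqp
    subst hqp
    obtain ⟨g, hg⟩ := exists_prime_orderOf_dvd_card' q hqK
    have hgo : orderOf (g : E) = q := by rw [Subgroup.orderOf_coe, hg]
    rcases g.2 with hgJ | hgJ
    · have h1 := orderOf_dvd_of_mem_zpowers hgJ
      rw [hgo, Subgroup.orderOf_mk] at h1
      have h3 : orderOf j = orderOf j := rfl
      obtain ⟨n, hn⟩ := h1
      have hjp : (j ^ n) • a = a := by
        clear hn h3
        induction n with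
        | zero => rw [pow_zero, one_smul]
        | succ n ih => rw [pow_succ, mul_smul, hja, ih]
      have hn0 : n ≠ 0 := fun h => by rw [h, mul_zero] at hn; exact (orderOf_pos j).ne' hn
      have := pElement_free hC hno h2 hΩ ⟨1, by
        rw [pow_one, orderOf_pow_of_dvd hn0 ⟨q, by rw [hn, mul_comm]⟩, hn,
          Nat.mul_div_cancel _ (Nat.pos_of_ne_zero hn0)]⟩ hjp
      have h4 := orderOf_dvd_of_pow_eq_one this
      rw [hn] at h4
      exact absurd (Nat.le_of_dvd (Nat.pos_of_ne_zero hn0) h4)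
        (by have := hq.two_le; nlinarith [Nat.pos_of_ne_zero hn0])
    · set σ : E := ⟨s, hsE⟩
      obtain ⟨n, hn⟩ := hgJ
      have hσσ : σ * σ = 1 := Subtype.ext hss
      have e : σ * ⟨j, hjE⟩ * σ⁻¹ = (⟨j, hjE⟩ : E)⁻¹ :=
        Subtype.ext (by show s * j * s⁻¹ = j⁻¹; rw [inv_eq_of_mul_eq_one_right hss, hsj])
      have hg2 : (g : E) * (g : E) = 1 := by
        have e1 : (g : E) = σ⁻¹ * (⟨j, hjE⟩ : E) ^ n := by
          rw [show (⟨j, hjE⟩ : E) ^ n = σ * (g : E) from hn]; group
        rw [e1, inv_eq_of_mul_eq_one_right hσσ, ← mul_assoc]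
        nth_rw 2 [← inv_eq_of_mul_eq_one_right hσσ]
        rw [← conj_zpow, e, inv_zpow, inv_mul_cancel]
      have := orderOf_dvd_of_pow_eq_one (by rw [pow_two, hg2] : (g : E) ^ 2 = 1)
      rw [hgo] at this
      exact hp2 ((Nat.prime_dvd_prime_iff_eq hq Nat.prime_two).1 this)
  obtain ⟨g, hg⟩ := Cfsg.Lib.Coprime.le_conj_piHall hHall hK
  have hfix : ∀ q ∈ K, (q : G) • ((g : G) • c) = (g : G) • c := by
    intro q hq
    have h1 := Cfsg.Lib.Coprime.mem_conjMap.1 (hg hq)
    rw [hH, MulAction.mem_stabilizer_iff] at h1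
    have h3 : ((g : G)⁻¹ * (q : G) * (g : G)) • c = c := h1
    rw [mul_smul, mul_smul, inv_smul_eq_iff] at h3
    exact h3
  have hsK : (⟨s, hsE⟩ : E) ∈ K := Or.inr (by
    rw [show (⟨s, hsE⟩ : E) * ⟨s, hsE⟩ = 1 from Subtype.ext hss]; exact J.one_mem)
  have hjK : (⟨j, hjE⟩ : E) ∈ K := Or.inl (Subgroup.mem_zpowers _)
  have hgc : (g : G) • c = c := uniq hs _ _ (hfix _ hsK) hsc
  have hjc : j • c = c := by
    have := hfix _ hjK
    rwa [hgc] at this
  exact hcd (uniq ht _ _ (by rw [hts, mul_smul, hjc, hsc]) htd)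

/-- Commuting involutions are equal. -/
theorem eq_of_commute (hp2 : p ≠ 2) (hr : 1 ≤ r) {s t : G} (hs : orderOf s = 2)
    (ht : orderOf t = 2) (hst : s * t = t * s) : s = t := by
  classical
  have hp : p.Prime := Fact.out
  by_contra hne
  have fx := fun {w : G} (hw : orderOf w = 2) => involution_unique_fixed hC hno h2 hΩ hp2 hw
  obtain ⟨⟨c, hc⟩, huc⟩ := fx hs
  have htc : t • c = c := huc _ _ (by rw [← mul_smul, hst, mul_smul, hc]) hc
  have hone : 1 < Fintype.card Ω := by rw [hΩ]; exact Nat.one_lt_pow (by omega) hp.one_lt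
  obtain ⟨a, hac⟩ := Fintype.exists_ne_of_one_lt_card hone c
  have hex : ∀ d : Ω, ∃ x : G, orderOf x = 2 ∧ x • d = d := fun d => by
    obtain ⟨g, hg⟩ := MulAction.exists_smul_eq G c d
    refine ⟨g * s * g⁻¹, by rw [show g * s * g⁻¹ = MulAut.conj g s from rfl, MulEquiv.orderOf_eq, hs], ?_⟩
    rw [mul_smul, mul_smul, ← hg, inv_smul_smul, hc]
  choose x hx hxd using hex
  have hmove : ∀ {w : G} {d : Ω}, orderOf w = 2 → w • d = d → d ≠ a → w • a ≠ a :=
    fun hw hwd hda h => hda ((fx hw).2 _ _ hwd h)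
  let f : {d : Ω // d ≠ a} → {d : Ω // d ≠ a} := fun d =>
    ⟨x d.1 • a, hmove (hx _) (hxd _) d.2⟩
  have hinj : Function.Injective f := fun d e h => Subtype.ext
    (same_fixed hC hno h2 hΩ hp2 (hx _) (hx _) (hxd _) (hxd _) (congrArg Subtype.val h))
  have hsurj := Finite.injective_iff_surjective.1 hinj
  have key : ∀ w : G, orderOf w = 2 → w • c = c → w • a = x c • a := by
    intro w hw hwc
    obtain ⟨d, hd⟩ := hsurj ⟨w • a, hmove hw hwc (Ne.symm hac)⟩
    have hd' : x d.1 • a = w • a := congrArg Subtype.val hd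
    rw [← hd', ← same_fixed hC hno h2 hΩ hp2 hw (hx _) hwc (hxd _) hd'.symm]
  have heq : s • a = t • a := (key s hs hc).trans (key t ht htc).symm
  have hss : s * s = 1 := by rw [← pow_two, ← hs, pow_orderOf_eq_one]
  have htt : t * t = 1 := by rw [← pow_two, ← ht, pow_orderOf_eq_one]
  have hw : orderOf (s * t) = 2 := by
    refine orderOf_eq_prime ?_ fun h => hne ?_
    · rw [pow_two]
      calc s * t * (s * t) = s * (t * s) * t := by group
        _ = (s * s) * (t * t) := by rw [← hst]; group
        _ = 1 := by rw [hss, htt, one_mul]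
    · rw [← inv_eq_of_mul_eq_one_right htt]; exact eq_inv_of_mul_eq_one_left h
  exact hac ((fx hw).2 _ _ (by rw [mul_smul, ← heq, ← mul_smul, hss, one_smul])
    (by rw [mul_smul, htc, hc]))

/-- The group is `p`-solvable with a character of 2-defect zero. -/
theorem main (hp2 : p ≠ 2) (hr : 1 ≤ r) : Cfsg.IsPSolvable p G ∧
    ∃ χ : IrrCharacter G, (deg (χ : G → ℂ)).factorization 2 = (Nat.card G).factorization 2 := by
  classical
  have hp : p.Prime := Fact.out
  haveI : Fact (Nat.Prime 2) := ⟨Nat.prime_two⟩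
  obtain ⟨x₀, hx₀⟩ := exists_prime_orderOf_dvd_card' 2 h2
  obtain ⟨S, hS⟩ := (IsPGroup.of_card (n := 1) (G := Subgroup.zpowers x₀)
    (by rw [Nat.card_zpowers, hx₀, pow_one])).exists_le_sylow
  haveI : Nontrivial (S : Subgroup G) :=
    ⟨⟨⟨x₀, hS (Subgroup.mem_zpowers _)⟩, 1, fun h => by
      rw [show x₀ = 1 from congrArg Subtype.val h, orderOf_one] at hx₀; omega⟩⟩
  haveI := S.2.center_nontrivial
  have h2Z : 2 ∣ Nat.card (Subgroup.center (S : Subgroup G)) := by
    obtain ⟨k, hk⟩ := IsPGroup.iff_card.1 (S.2.to_subgroup (Subgroup.center (S : Subgroup G)))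
    rw [hk]
    refine dvd_pow_self 2 fun h0 => ?_
    rw [h0, pow_zero] at hk
    exact Finite.one_lt_card.ne' hk
  obtain ⟨w, hw⟩ := exists_prime_orderOf_dvd_card' 2 h2Z
  set u : G := ((w : (S : Subgroup G)) : G) with hudef
  have hu : orderOf u = 2 := by rw [hudef, Subgroup.orderOf_coe, Subgroup.orderOf_coe, hw]
  obtain ⟨N, hNn, hNo, hNu⟩ := Cfsg.Agent.S0215.result S u hu (w : (S : Subgroup G)).2 (fun g hg => by
    refine (eq_of_commute hC hno h2 hΩ hp2 hr ?_ hu ?_)
    · rw [show g * u * g⁻¹ = MulAut.conj g u from rfl, MulEquiv.orderOf_eq, hu]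
    · exact congrArg Subtype.val (Subgroup.mem_center_iff.1 w.2 ⟨_, hg⟩))
  haveI := hNn
  have huu : u * u = 1 := by rw [← pow_two, ← hu, pow_orderOf_eq_one]
  -- p-elements inverted by u lie in N
  obtain ⟨P, hP⟩ := exists_inverted_sylow hC hno hu
  have hPN : (P : Subgroup G) ≤ N := by
    intro z hz
    have h1 := hNu z
    rw [inv_eq_of_mul_eq_one_right huu, hP z hz, ← pow_two, inv_pow] at h1
    have h3 : z ^ 2 ∈ N := inv_mem_iff.1 h1
    obtain ⟨k, hk⟩ := (IsPGroup.iff_orderOf.1 P.2) ⟨z, hz⟩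
    rw [Subgroup.orderOf_mk] at hk
    obtain ⟨m, hm⟩ : Odd (orderOf z) := hk ▸ (hp.odd_of_ne_two hp2).pow
    rw [show z = (z ^ 2) ^ (m + 1) by
      rw [← pow_mul, show 2 * (m + 1) = orderOf z + 1 by omega, pow_succ, pow_orderOf_eq_one, one_mul]]
    exact pow_mem h3 _
  have hidx : N.index.Coprime p := by
    refine (Nat.Coprime.symm (hp.coprime_iff_not_dvd.2 fun h => ?_))
    exact P.not_dvd_index (h.trans (Subgroup.index_dvd_of_le hPN))
  haveI : Group.IsSolvable N := Cfsg.Agent.PF.isSolvable_of_odd _ hNo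
  refine ⟨Cfsg.Lib.Fusion.isPSolvable_of_normal_step N
    (isPSolvable_of_solvable inferInstance) (Or.inr hidx), ?_⟩
  -- a character of N moved by u
  letI : Fintype N := Fintype.ofFinite N
  obtain ⟨z, hz, hzp, hzinv⟩ := exists_inverted hC hno hu
  have hzN : z ∈ N := by
    have h1 := hNu z
    rw [inv_eq_of_mul_eq_one_right huu, hzinv, ← pow_two, inv_pow] at h1
    have h3 : z ^ 2 ∈ N := inv_mem_iff.1 h1
    obtain ⟨k, hk⟩ := hzp
    obtain ⟨m, hm⟩ : Odd (orderOf z) := hk ▸ (hp.odd_of_ne_two hp2).pow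
    rw [show z = (z ^ 2) ^ (m + 1) by
      rw [← pow_mul, show 2 * (m + 1) = orderOf z + 1 by omega, pow_succ, pow_orderOf_eq_one, one_mul]]
    exact pow_mem h3 _
  obtain ⟨θ, hθ⟩ : ∃ θ : IrrCharacter N, conjN N u (θ : N → ℂ) ≠ (θ : N → ℂ) := by
    by_contra hall
    push Not at hall
    set z' : N := ⟨z, hzN⟩
    have hval : ∀ θ : IrrCharacter N, (θ : N → ℂ) z'⁻¹ = (θ : N → ℂ) z' := fun θ => by
      conv_rhs => rw [← hall θ]
      show _ = (θ : N → ℂ) ⟨u * z * u⁻¹, _⟩
      refine congrArg _ (Subtype.ext ?_)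
      show z⁻¹ = u * z * u⁻¹
      rw [inv_eq_of_mul_eq_one_right huu]
      exact hzinv.symm
    have hnc : ¬ IsConj z' z'⁻¹ := by
      intro h
      obtain ⟨n, hn⟩ := isConj_iff.1 h
      obtain ⟨m, hm⟩ := hNo.of_dvd_nat (orderOf_dvd_natCard n)
      have h2' : n ^ 2 * z' * (n ^ 2)⁻¹ = z' := by
        rw [pow_two, show n * n * z' * (n * n)⁻¹ = n * (n * z' * n⁻¹) * n⁻¹ by group, hn,
          ← conj_inv, hn, inv_inv]
      have hc : Commute ((n ^ 2) ^ (m + 1)) z' :=
        Commute.pow_left (show Commute (n ^ 2) z' from mul_inv_eq_iff_eq_mul.1 h2') _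
      rw [← pow_mul, show 2 * (m + 1) = orderOf n + 1 by omega, pow_succ, pow_orderOf_eq_one,
        one_mul] at hc
      rw [hc.eq, mul_inv_cancel_right] at hn
      have hz2 : z ^ 2 = 1 := by
        have : z = z⁻¹ := congrArg Subtype.val hn
        rw [pow_two]; nth_rw 2 [this]; exact mul_inv_cancel z
      obtain ⟨k, hk⟩ := hzp
      obtain ⟨m', hm'⟩ : Odd (orderOf z) := hk ▸ (hp.odd_of_ne_two hp2).pow
      apply hz
      have := pow_orderOf_eq_one z
      rwa [hm', pow_succ, pow_mul, hz2, one_pow, one_mul] at this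
    have h0 := second_orthogonality z' z'⁻¹
    rw [if_neg hnc] at h0
    simp only [hval] at h0
    have h1 := second_orthogonality z' z'
    rw [if_pos (IsConj.refl _), h0] at h1
    exact Nat.card_pos.ne' (Nat.cast_eq_zero.1 h1.symm)
  obtain ⟨χ, hχ, hc⟩ := exists_over N θ.2
  refine ⟨⟨χ, hχ⟩, le_antisymm ((Nat.factorization_le_iff_dvd (deg_irr_pos ⟨χ, hχ⟩).ne'
    Nat.card_pos.ne').2 (IsIrrCharacter.deg_dvd hχ) 2) ?_⟩
  let T : Subgroup G :=
    { carrier := {g | conjN N g (θ : N → ℂ) = θ}
      mul_mem' := fun {g h} hg hh => by show _ = _; rw [conjN_mul, hg, hh]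
      one_mem' := conjN_one N _
      inv_mem' := fun {g} hg => by
        show _ = _
        nth_rw 1 [← hg]
        rw [← conjN_mul, mul_inv_cancel, conjN_one] }
  have hTodd : ¬ 2 ∣ Nat.card T := by
    intro h
    obtain ⟨y, hy⟩ := exists_prime_orderOf_dvd_card' 2 h
    obtain ⟨g, hg⟩ := isConj_iff.1 (involutions_conj_of_no_defectZero hC hno hu (show orderOf (y : G) = 2 by
      rw [Subgroup.orderOf_coe, hy]))
    have hn : u * (y : G)⁻¹ ∈ N := by
      rw [← hg, show u * (g * u * g⁻¹)⁻¹ = u * g * u⁻¹ * g⁻¹ by group]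
      exact hNu g
    apply hθ
    rw [show u = ((⟨_, hn⟩ : N) : G) * y by rw [inv_mul_cancel_right], conjN_mul,
      conjN_of_mem (isClassFunction_irr θ), y.2]
  have hcount : Nat.card G = (conjOrbit N (θ : N → ℂ)).card * Nat.card T := by
    rw [Nat.card_eq_fintype_card, ← Finset.card_univ, Finset.card_eq_sum_card_fiberwise
      (t := conjOrbit N (θ : N → ℂ)) (f := fun g : G => conjN N g (θ : N → ℂ))
      (fun g _ => (mem_conjOrbit N).2 ⟨g, rfl⟩), Finset.sum_const_nat (m := Nat.card T)]
    intro φ hφ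
    obtain ⟨g, rfl⟩ := (mem_conjOrbit N).1 hφ
    rw [Nat.card_eq_fintype_card, ← Fintype.card_coe]
    refine Fintype.card_congr
      { toFun := fun q => ⟨q.1 * g⁻¹, ?_⟩
        invFun := fun t => ⟨t.1 * g, ?_⟩
        left_inv := fun q => Subtype.ext (by simp)
        right_inv := fun t => Subtype.ext (by simp) }
    · have hq := (Finset.mem_filter.1 q.2).2
      show _ = _
      rw [conjN_mul, hq, ← conjN_mul, mul_inv_cancel, conjN_one]
    · refine Finset.mem_filter.2 ⟨Finset.mem_univ _, ?_⟩
      rw [conjN_mul, t.2]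
  obtain ⟨e, he⟩ := IsCharacter.exists_mult (IsCharacter.restrict (isCharacter_of_irr hχ) N) θ.2
  have hdeg : (conjOrbit N (θ : N → ℂ)).card ∣ deg χ := by
    have h := congrFun (clifford N hχ θ.2 hc) 1
    simp only [OneMemClass.coe_one, Pi.smul_apply, Finset.sum_apply, smul_eq_mul] at h
    rw [he, Finset.sum_congr rfl (g := fun _ => (deg (θ : N → ℂ) : ℂ)) (fun ψ hψ => by
      obtain ⟨g, rfl⟩ := (mem_conjOrbit N).1 hψ
      simp only [conjN_eq_comp, map_one]
      exact IsCharacter.apply_one_eq_deg (isCharacter_of_irr θ.2)),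
      Finset.sum_const, nsmul_eq_mul, IsCharacter.apply_one_eq_deg (isCharacter_of_irr hχ)] at h
    exact ⟨e * deg (θ : N → ℂ), Nat.cast_injective (R := ℂ) (by rw [h]; push_cast; ring)⟩
  have hcard0 : (conjOrbit N (θ : N → ℂ)).card ≠ 0 := fun h => by
    rw [h, zero_mul] at hcount; exact Nat.card_pos.ne' hcount
  rw [hcount, Nat.factorization_mul hcard0 Nat.card_pos.ne', Finsupp.add_apply,
    Nat.factorization_eq_zero_of_not_dvd hTodd, add_zero]
  exact (Nat.factorization_le_iff_dvd hcard0 (deg_irr_pos ⟨χ, hχ⟩).ne').2 hdeg 2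

end Cfsg.Lib.Blocks.TransP
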