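/-
Irreducible characters nonzero on exactly two conjugacy classes (Gagola).
-/
import Cfsg.Agent.Blocks.NormalAverage
import Cfsg.Agent.Blocks.Codegree
import Cfsg.Agent.Chars.Construct

namespace Cfsg.Lib.Blocks

open Cfsg Cfsg.Lib.Chars

universe u

variable {G : Type u} [Group G] [Finite G]

/-- The basic structure attached to a character nonzero on exactly two classes. -/
lemma two_class (hG : 2 < Nat.card G) (χ : IrrCharacter G)
    (hχ : Nat.card {C : ConjClasses G // ∃ g ∈ C.carrier, (χ : G → ℂ) g ≠ 0} = 2) :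
    ∃ (M : Subgroup G) (_ : M.Normal) (x₀ : G), x₀ ∈ M ∧ x₀ ≠ 1 ∧
      (∀ g, (χ : G → ℂ) g ≠ 0 ↔ g ∈ M) ∧
      (∀ y ∈ M, y ≠ 1 → IsConj x₀ y) ∧
      (∀ ψ : IrrCharacter G, ψ ≠ χ → ∀ y ∈ M, (ψ : G → ℂ) y = (ψ : G → ℂ) 1) ∧
      (∀ K : Subgroup G, K.Normal → K ≠ ⊥ → M ≤ K) ∧
      (χ : G → ℂ) 1 + ((Nat.card M : ℂ) - 1) * (χ : G → ℂ) x₀ = 0 ∧
      (χ : G → ℂ) x₀ ≠ (χ : G → ℂ) 1 ∧
      deg (χ : G → ℂ) ^ 2 * Nat.card M + Nat.card G = Nat.card G * Nat.card M := by
  classical
  have := Fintype.ofFinite G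
  set d : ℂ := (χ : G → ℂ) 1 with hd
  have hd0 : d ≠ 0 := IsIrrCharacter.apply_one_ne_zero χ.2
  let S := {C : ConjClasses G // ∃ g ∈ C.carrier, (χ : G → ℂ) g ≠ 0}
  let one' : S := ⟨ConjClasses.mk 1, 1, ConjClasses.mem_carrier_mk, hd0⟩
  haveI : Fintype S := Fintype.ofFinite S
  obtain ⟨C', hC'⟩ : ∃ C' : S, C' ≠ one' := by
    by_contra hcon
    push Not at hcon
    haveI : Subsingleton S := ⟨fun a b => (hcon a).trans (hcon b).symm⟩
    rw [Nat.card_of_subsingleton (⟨one'.1, one'.2⟩ : {C : ConjClasses G // ∃ g ∈ C.carrier, (χ : G → ℂ) g ≠ 0})] at hχ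
    omega
  obtain ⟨x₀, hx₀C, hx₀⟩ := C'.2
  rw [ConjClasses.mem_carrier_iff_mk_eq] at hx₀C
  have hx1 : x₀ ≠ 1 := fun h => hC' (Subtype.ext (by rw [← hx₀C, h]))
  have hsupp : ∀ g : G, (χ : G → ℂ) g ≠ 0 ↔ g = 1 ∨ IsConj x₀ g := by
    intro g
    constructor
    · intro hg
      by_contra hcon
      push Not at hcon
      have h3 : ({one', C', ⟨ConjClasses.mk g, g, ConjClasses.mem_carrier_mk, hg⟩} : Finset S).card = 3 := by
        rw [Finset.card_insert_of_notMem, Finset.card_insert_of_notMem, Finset.card_singleton]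
        · simp only [Finset.mem_singleton]
          intro h
          exact hcon.2 (ConjClasses.mk_eq_mk_iff_isConj.1 (hx₀C.trans (congrArg Subtype.val h)))
        · simp only [Finset.mem_insert, Finset.mem_singleton]
          rintro (h | h)
          · exact hC' h.symm
          · exact hcon.1 (isConj_one_right.1 (ConjClasses.mk_eq_mk_iff_isConj.1 (congrArg Subtype.val h)))
      have := Finset.card_le_univ ({one', C', ⟨ConjClasses.mk g, g, ConjClasses.mem_carrier_mk, hg⟩} : Finset S)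
      rw [h3, ← Nat.card_eq_fintype_card, hχ] at this
      omega
    · rintro (rfl | h)
      · exact hd0
      · rwa [← classFunction_eq_of_isConj (isClassFunction_irr χ) h]
  -- `χ` is not principal
  have hne : χ ≠ principal G := by
    intro he
    have hall : ∀ g : G, g ≠ 1 → IsConj x₀ g := fun g hg =>
      ((hsupp g).1 (by rw [he]; exact one_ne_zero)).resolve_left hg
    have hcard : Nat.card {g : G // IsConj x₀ g} + 1 = Nat.card G := by
      rw [Nat.card_eq_fintype_card (α := G), ← Finset.card_univ, ← Finset.insert_erase (Finset.mem_univ (1 : G)),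
        Finset.card_insert_of_notMem (Finset.notMem_erase _ _), Nat.card_eq_fintype_card, Fintype.card_subtype]
      congr 2
      ext g
      simp only [Finset.mem_filter, Finset.mem_univ, true_and, Finset.mem_erase, and_true]
      exact ⟨fun h h1 => hx1 (by rw [h1] at h; exact isConj_one_left.1 h), hall g⟩
    have hdvd : Nat.card {g : G // IsConj x₀ g} ∣ Nat.card G := by
      rw [card_isConj]; exact Subgroup.index_dvd_card _
    have h1 : Nat.card {g : G // IsConj x₀ g} ∣ 1 := (Nat.dvd_add_right dvd_rfl).1 (hcard ▸ hdvd)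
    rw [Nat.dvd_one] at h1
    omega
  -- the kernel of the other characters
  let M : Subgroup G :=
    { carrier := {g | ∀ ψ : IrrCharacter G, ψ ≠ χ → (ψ : G → ℂ) g = (ψ : G → ℂ) 1}
      one_mem' := fun _ _ => rfl
      mul_mem' := fun {a b} ha hb ψ hψ => by
        obtain ⟨K, hK, _, hmem, -⟩ := exists_kernel_faithful ψ
        exact (hmem _).1 (mul_mem ((hmem a).2 (ha ψ hψ)) ((hmem b).2 (hb ψ hψ)))
      inv_mem' := fun {a} ha ψ hψ => by
        obtain ⟨K, hK, _, hmem, -⟩ := exists_kernel_faithful ψ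
        exact (hmem _).1 (inv_mem ((hmem a).2 (ha ψ hψ))) }
  have hMn : M.Normal := ⟨fun a ha g ψ hψ => by rw [isClassFunction_irr ψ a g]; exact ha ψ hψ⟩
  -- orthogonality with the principal character
  set s := (Finset.univ.filter fun g : G => IsConj x₀ g).card with hs
  have hs0 : 0 < s := Finset.card_pos.2 ⟨x₀, Finset.mem_filter.2 ⟨Finset.mem_univ _, IsConj.refl x₀⟩⟩
  have hsum : ∀ f : G → ℂ, IsClassFunction G f →
      ∑ g, (χ : G → ℂ) g * f g = d * f 1 + (s : ℂ) * ((χ : G → ℂ) x₀ * f x₀) := by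
    intro f hf
    rw [← Finset.add_sum_erase _ _ (Finset.mem_univ (1 : G)),
      ← Finset.sum_subset (s₁ := Finset.univ.filter fun g : G => IsConj x₀ g) (s₂ := Finset.univ.erase 1)]
    · rw [Finset.sum_congr rfl (g := fun _ => (χ : G → ℂ) x₀ * f x₀) fun g hg => by
        rw [classFunction_eq_of_isConj (isClassFunction_irr χ) (Finset.mem_filter.1 hg).2,
          classFunction_eq_of_isConj hf (Finset.mem_filter.1 hg).2]]
      rw [Finset.sum_const, nsmul_eq_mul]
    · intro g hg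
      refine Finset.mem_erase.2 ⟨fun h1 => hx1 ?_, Finset.mem_univ _⟩
      have := (Finset.mem_filter.1 hg).2
      rw [h1] at this
      exact isConj_one_left.1 this
    · intro g hg hgn
      have : (χ : G → ℂ) g = 0 := by
        by_contra h0
        rcases (hsupp g).1 h0 with h | h
        · exact (Finset.mem_erase.1 hg).1 h
        · exact hgn (Finset.mem_filter.2 ⟨Finset.mem_univ _, h⟩)
      rw [this, zero_mul]
  have horth0 : d + (s : ℂ) * (χ : G → ℂ) x₀ = 0 := by
    have h1 := classInner_irr_ne hne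
    rw [classInner_def, mul_eq_zero] at h1
    have h2 := h1.resolve_left (inv_ne_zero (Nat.cast_ne_zero.2 Nat.card_pos.ne'))
    rw [hsum _ (fun g h => by simp only [isClassFunction_irr (principal G) g h])] at h2
    simpa [principal] using h2
  have hcd : (χ : G → ℂ) x₀ ≠ d := fun h => by
    rw [h] at horth0
    have h1 : ((s + 1 : ℕ) : ℂ) * d = 0 := by push_cast; linear_combination horth0
    exact (mul_ne_zero (Nat.cast_ne_zero.2 (Nat.succ_ne_zero s)) hd0) h1
  have hx₀M : x₀ ∈ M := by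
    intro ψ hψ
    have h1 := classInner_irr_ne (Ne.symm hψ)
    rw [classInner_def, mul_eq_zero] at h1
    have h2 := h1.resolve_left (inv_ne_zero (Nat.cast_ne_zero.2 Nat.card_pos.ne'))
    rw [hsum _ (fun g h => by simp only [isClassFunction_irr ψ g h])] at h2
    have hc0 : (s : ℂ) * (χ : G → ℂ) x₀ = -d := by linear_combination horth0
    rw [← mul_assoc, hc0, irr_apply_one_eq_deg ψ, map_natCast] at h2
    have h3 : (starRingEnd ℂ) ((ψ : G → ℂ) x₀) = (deg (ψ : G → ℂ) : ℂ) :=
      mul_left_cancel₀ hd0 (by linear_combination (-1 : ℂ) * h2)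
    have h4 := congrArg (starRingEnd ℂ) h3
    rw [Complex.conj_conj, map_natCast] at h4
    rw [h4, irr_apply_one_eq_deg]
  have hMsub : ∀ y ∈ M, y ≠ 1 → IsConj x₀ y := by
    intro y hy hy1
    by_contra hn
    have hχy : (χ : G → ℂ) y = 0 := by
      by_contra h0
      exact hn (((hsupp y).1 h0).resolve_left hy1)
    have h1 := sum_deg_mul y
    rw [if_neg hy1, ← Finset.add_sum_erase _ _ (Finset.mem_univ χ), hχy, mul_zero, zero_add] at h1
    have h2 : ((∑ ψ ∈ Finset.univ.erase χ, deg (ψ : G → ℂ) ^ 2 : ℕ) : ℂ) = 0 := by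
      rw [← h1]
      push_cast
      refine Finset.sum_congr rfl fun ψ hψ => ?_
      rw [hy ψ (Finset.ne_of_mem_erase hψ), irr_apply_one_eq_deg]; ring
    rw [Nat.cast_eq_zero, Finset.sum_eq_zero_iff] at h2
    exact (pow_pos (deg_irr_pos (principal G)) 2).ne' (h2 (principal G) (Finset.mem_erase.2 ⟨hne.symm, Finset.mem_univ _⟩))
  have hMmem : ∀ g, (χ : G → ℂ) g ≠ 0 ↔ g ∈ M := by
    intro g
    rw [hsupp]
    constructor
    · rintro (rfl | h)
      · exact one_mem _
      · obtain ⟨c, rfl⟩ := isConj_iff.1 h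
        exact hMn.conj_mem x₀ hx₀M c
    · intro hg
      by_cases h1 : g = 1
      · exact Or.inl h1
      · exact Or.inr (hMsub g hg h1)
  have hscard : Nat.card M = s + 1 := by
    rw [Nat.card_eq_fintype_card, ← Finset.card_insert_of_notMem (a := (1 : G))
      (s := Finset.univ.filter fun g : G => IsConj x₀ g) (fun h => hx1 (isConj_one_left.1 (Finset.mem_filter.1 h).2)),
      Fintype.card_subtype]
    congr 1
    ext g
    simp only [Finset.mem_filter, Finset.mem_univ, true_and, Finset.mem_insert]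
    rw [← hMmem g, hsupp g]
  refine ⟨M, hMn, x₀, hx₀M, hx1, hMmem, hMsub, fun ψ hψ y hy => hy ψ hψ, ?_, ?_, hcd, ?_⟩
  · intro K hK hK1
    haveI := hK
    obtain ⟨k, hk, hk1⟩ : ∃ k ∈ K, k ≠ 1 := by
      by_contra hcon
      push Not at hcon
      exact hK1 ((Subgroup.eq_bot_iff_forall K).2 hcon)
    have hxK : x₀ ∈ K := by
      by_contra hxK
      have hzero : ∀ k : K, (k : G) ≠ 1 → (χ : G → ℂ) k = 0 := by
        intro k hk1
        by_contra h0
        obtain ⟨c, hc⟩ := isConj_iff.1 (((hsupp k).1 h0).resolve_left hk1)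
        refine hxK ?_
        have := hK.conj_mem _ (hc ▸ k.2 : c * x₀ * c⁻¹ ∈ K) c⁻¹
        simpa [mul_assoc] using this
      rcases average_dichotomy K χ with h | h
      · exact hd0 ((h ⟨k, hk⟩).symm.trans (hzero ⟨k, hk⟩ hk1))
      · have h1 := h 1
        rw [Finset.sum_eq_single (1 : K) (fun k _ hk => by
          rw [mul_one]; exact hzero k (fun h2 => hk (Subtype.ext h2))) (by simp)] at h1
        exact hd0 (by simpa using h1)
    intro y hy
    by_cases hy1 : y = 1
    · rw [hy1]; exact one_mem _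
    · obtain ⟨c, rfl⟩ := isConj_iff.1 (hMsub y hy hy1)
      exact hK.conj_mem x₀ hxK c
  · rw [hscard]; push_cast; linear_combination horth0
  · have h1 := sum_deg_mul x₀
    rw [if_neg hx1, ← Finset.add_sum_erase _ _ (Finset.mem_univ χ),
      Finset.sum_congr rfl (g := fun ψ : IrrCharacter G => ((deg (ψ : G → ℂ) ^ 2 : ℕ) : ℂ)) fun ψ hψ => by
        rw [hx₀M ψ (Finset.ne_of_mem_erase hψ), irr_apply_one_eq_deg]; push_cast; ring] at h1
    have h2 := sum_deg_sq_nat (G := G)
    rw [← Finset.add_sum_erase _ _ (Finset.mem_univ χ)] at h2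
    have h3 : ((Nat.card G : ℕ) : ℂ) = (deg (χ : G → ℂ) : ℂ) ^ 2 +
        ((∑ ψ ∈ Finset.univ.erase χ, deg (ψ : G → ℂ) ^ 2 : ℕ) : ℂ) := by
      rw [← h2]; push_cast; ring
    rw [← Nat.cast_sum] at h1
    have hdd : d = (deg (χ : G → ℂ) : ℂ) := irr_apply_one_eq_deg χ
    rw [hscard]
    apply Nat.cast_injective (R := ℂ)
    push_cast
    rw [hdd] at horth0
    rw [irr_apply_one_eq_deg χ] at h1
    linear_combination (deg (χ : G → ℂ) : ℂ) * horth0 - (s : ℂ) * h1 - (s : ℂ) * h3


omit [Finite G] in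
/-- A finite normal subgroup whose nonidentity elements are conjugate in `G` is elementary abelian. -/
lemma elementary_of_transitive [Finite G] (M : Subgroup G) [M.Normal] {x₀ : G} (hx₀ : x₀ ∈ M)
    (hx1 : x₀ ≠ 1) (h : ∀ y ∈ M, y ≠ 1 → IsConj x₀ y) :
    ∃ p : ℕ, p.Prime ∧ IsPGroup p M ∧ (∀ a ∈ M, ∀ b ∈ M, a * b = b * a) ∧ ∀ a ∈ M, a ^ p = 1 := by
  set p := (orderOf x₀).minFac
  have hp : p.Prime := Nat.minFac_prime (fun h1 => hx1 (orderOf_eq_one_iff.1 h1))
  haveI := Fact.mk hp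
  have hord : ∀ y ∈ M, y ≠ 1 → orderOf y = p := by
    intro y hy hy1
    have hz := pow_mem hx₀ (orderOf x₀ / p)
    have hzo : orderOf (x₀ ^ (orderOf x₀ / p)) = p :=
      orderOf_pow_orderOf_div (orderOf_pos x₀).ne' (Nat.minFac_dvd _)
    have hz1 : x₀ ^ (orderOf x₀ / p) ≠ 1 := fun h1 => by
      rw [h1, orderOf_one] at hzo; exact hp.one_lt.ne hzo
    obtain ⟨c, hc⟩ := isConj_iff.1 ((h y hy hy1).symm.trans (h _ hz hz1))
    rw [← hzo, ← hc]
    exact (orderOf_injective (MulAut.conj c).toMonoidHom (MulAut.conj c).injective y).symm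
  have hexp : ∀ a ∈ M, a ^ p = 1 := fun a ha => by
    rcases eq_or_ne a 1 with rfl | h1
    · simp
    · rw [← hord a ha h1, pow_orderOf_eq_one]
  have hM : IsPGroup p M := fun a => ⟨1, Subtype.ext (by simpa using hexp a a.2)⟩
  refine ⟨p, hp, hM, ?_, hexp⟩
  haveI : Nontrivial M := ⟨⟨⟨x₀, hx₀⟩, 1, fun he => hx1 (congrArg Subtype.val he)⟩⟩
  haveI := IsPGroup.center_nontrivial (p := p) (G := M) hM
  obtain ⟨z, hz⟩ := exists_ne (1 : Subgroup.center M)
  have hz1 : ((z : M) : G) ≠ 1 := fun he => hz (Subtype.ext (Subtype.ext he))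
  haveI hZ : ((Subgroup.center M).map M.subtype).Normal := inferInstance
  have hall : ∀ a ∈ M, a ∈ (Subgroup.center M).map M.subtype := by
    intro a ha
    rcases eq_or_ne a 1 with rfl | h1
    · exact one_mem _
    · obtain ⟨c, hc⟩ := isConj_iff.1 ((h _ (z : M).2 hz1).symm.trans (h a ha h1))
      exact hc ▸ hZ.conj_mem _ ⟨_, z.2, rfl⟩ c
  intro a ha b hb
  obtain ⟨a', ha', rfl⟩ := hall a ha
  exact (congrArg Subtype.val ((Subgroup.mem_center_iff.1 ha') ⟨b, hb⟩)).symm

/-- A coset sum over a subgroup normalised by the representative is divisible by its order. -/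
lemma isIntegral_coset_average [Fintype G] {χ : G → ℂ} (hχ : IsCharacter G χ) (R : Subgroup G) [Fintype R]
    {x : G} (hx : x ∈ Subgroup.normalizer (R : Set G)) :
    IsIntegral ℤ ((∑ u : R, χ ((u : G) * x)) / (Nat.card R : ℂ)) := by
  classical
  obtain ⟨N, hN⟩ : ∃ N, N = Subgroup.normalizer (R : Set G) := ⟨_, rfl⟩
  rw [← hN] at hx
  have hRN : R ≤ N := hN ▸ Subgroup.le_normalizer
  haveI : Fintype N := Fintype.ofFinite N
  haveI : (R.subgroupOf N).Normal := Subgroup.normal_subgroupOf_iff_le_normalizer hRN |>.2 hN.le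
  haveI : Fintype (R.subgroupOf N) := Fintype.ofFinite _
  obtain ⟨m, hm⟩ := IsCharacter.exists_decomp (IsCharacter.restrict hχ N)
  have hres : ∀ v : R.subgroupOf N, χ (((v : N) * ⟨x, hx⟩ : N) : G) =
      ∑ η : IrrCharacter N, (m η : ℂ) * (η : N → ℂ) ((v : N) * ⟨x, hx⟩) := fun v => by
    have := congrFun hm ((v : N) * ⟨x, hx⟩)
    simpa [Finset.sum_apply] using this
  have hsum : ∑ u : R, χ ((u : G) * x) = ∑ η : IrrCharacter N, (m η : ℂ) *
      ∑ v : R.subgroupOf N, (η : N → ℂ) ((v : N) * ⟨x, hx⟩) := by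
    simp only [Finset.mul_sum]
    rw [Finset.sum_comm]
    refine Fintype.sum_equiv (Subgroup.subgroupOfEquivOfLe hRN).symm.toEquiv _ _ fun u => ?_
    exact hres ((Subgroup.subgroupOfEquivOfLe hRN).symm u)
  rw [hsum, Finset.sum_div]
  refine IsIntegral.sum _ fun η _ => ?_
  rw [mul_div_assoc]
  refine IsIntegral.mul (natCast_mem (integralClosure ℤ ℂ) _) ?_
  rcases average_dichotomy (R.subgroupOf N) η with h | h
  · have heq : ∀ v : R.subgroupOf N, (η : N → ℂ) ((v : N) * ⟨x, hx⟩) = (η : N → ℂ) ⟨x, hx⟩ := by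
      intro v
      obtain ⟨n, ρ, hρ, hη⟩ := η.2
      have hv : ρ (v : N) = 1 := (eq_id_of_character_eq_finrank ρ (v : N)).1 (by
        rw [hη, h v, ← hη, ρ.char_one])
      rw [← hη]
      show LinearMap.trace ℂ _ (ρ ((v : N) * ⟨x, hx⟩)) = LinearMap.trace ℂ _ (ρ ⟨x, hx⟩)
      rw [map_mul, hv, one_mul]
    rw [Finset.sum_congr rfl fun v _ => heq v, Finset.sum_const, Finset.card_univ, nsmul_eq_mul,
      ← Nat.card_eq_fintype_card, Nat.card_congr (Subgroup.subgroupOfEquivOfLe hRN).toEquiv,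
      mul_div_cancel_left₀ _ (Nat.cast_ne_zero.2 Nat.card_pos.ne')]
    exact IsCharacter.isIntegral (isCharacter_of_irr η.2) _
  · rw [h, zero_div]; exact isIntegral_zero

end Cfsg.Lib.Blocks
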