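import Mathlib
import Cfsg.Agent.S0200
import Cfsg.Agent.Components.Cores

/-!
# When the support of a character nonzero on two classes is the whole `p`-core

`N` is an elementary abelian normal `p`-subgroup with all nonidentity elements conjugate and
`p`-groups as their centralizers, the centralizers outside `N` have the order of those in the
quotient, and `N` is the `p`-core. Then `p` does not divide the index of `N`.
-/

set_option autoImplicit false
set_option linter.unusedSectionVars false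

namespace Cfsg.Lib.Blocks.TwoClassFrobenius

open scoped Classical

universe u

variable {G : Type u} [Group G] [Finite G] {p : ℕ} [Fact p.Prime] (N : Subgroup G) [N.Normal]

/-- An element with no fixed point on an abelian normal subgroup is conjugate to its whole coset. -/
lemma exists_conj_of_coset (_hab : ∀ a ∈ N, ∀ b ∈ N, a * b = b * a) {z : G}
    (hfix : ∀ a ∈ N, Commute z a → a = 1) {v : G} (hv : v ∈ N) :
    ∃ w ∈ N, w * z * w⁻¹ = v * z := by
  have hN : N.Normal := inferInstance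
  let f : N → N := fun w => ⟨(w : G) * (z * (w : G)⁻¹ * z⁻¹),
    N.mul_mem w.2 (hN.conj_mem _ (N.inv_mem w.2) z)⟩
  have hinj : Function.Injective f := fun a b e => by
    have e1 : (a : G) * (z * (a : G)⁻¹ * z⁻¹) = (b : G) * (z * (b : G)⁻¹ * z⁻¹) :=
      congrArg Subtype.val e
    have e2 : (b : G)⁻¹ * (a : G) * z * ((b : G)⁻¹ * (a : G))⁻¹ = z := by
      calc (b : G)⁻¹ * (a : G) * z * ((b : G)⁻¹ * (a : G))⁻¹
          = (b : G)⁻¹ * ((a : G) * (z * (a : G)⁻¹ * z⁻¹)) * z * (b : G) := by group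
        _ = (b : G)⁻¹ * ((b : G) * (z * (b : G)⁻¹ * z⁻¹)) * z * (b : G) := by rw [e1]
        _ = z := by group
    have e3 := hfix _ (N.mul_mem (N.inv_mem b.2) a.2) (mul_inv_eq_iff_eq_mul.1 e2).symm
    exact Subtype.ext (inv_mul_eq_one.1 e3).symm
  obtain ⟨w, hw⟩ := (Finite.injective_iff_surjective.1 hinj) ⟨v, hv⟩
  refine ⟨w, w.2, ?_⟩
  rw [← show (w : G) * (z * (w : G)⁻¹ * z⁻¹) = v from congrArg Subtype.val hw]
  group

/-- A `p`-element fixes a nonidentity element of a normal `p`-subgroup. -/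
lemma exists_fixed (hN1 : N ≠ ⊥) (hNp : IsPGroup p N) {x : G} (hx : ∃ k : ℕ, x ^ p ^ k = 1) :
    ∃ a ∈ N, a ≠ 1 ∧ Commute x a := by
  have hN : N.Normal := inferInstance
  obtain ⟨k, hk⟩ := hx
  have hX : IsPGroup p (Subgroup.zpowers x) := fun y => by
    obtain ⟨i, hi⟩ := y.2
    refine ⟨k, Subtype.ext ?_⟩
    show (y : G) ^ p ^ k = 1
    rw [← hi]
    show (x ^ i) ^ p ^ k = 1
    rw [← zpow_natCast, ← zpow_mul, mul_comm i, zpow_mul, zpow_natCast, hk, one_zpow]
  let act : MulAction (Subgroup.zpowers x) N :=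
    MulAction.compHom N ((MulAut.conjNormal (H := N)).comp (Subgroup.zpowers x).subtype)
  have hdvd : p ∣ Nat.card N := by
    obtain ⟨a, ha⟩ := hNp.exists_card_eq
    rcases a with _ | a
    · rw [pow_zero] at ha
      exact absurd (Subgroup.eq_bot_of_card_eq N ha) hN1
    · exact ha ▸ dvd_pow_self p a.succ_ne_zero
  obtain ⟨b, hb, hb1⟩ := hX.exists_fixed_point_of_prime_dvd_card_of_fixed_point N hdvd
    (a := (1 : N)) (fun g => map_one (MulAut.conjNormal (g : G)))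
  refine ⟨b, b.2, fun e => hb1 (Subtype.ext e.symm), ?_⟩
  have h1 : x * (b : G) * x⁻¹ = b := by
    have := congrArg Subtype.val (hb ⟨x, Subgroup.mem_zpowers x⟩)
    exact this
  exact mul_inv_eq_iff_eq_mul.1 h1

/-- The centralizer of a `p`-element outside `N` does not cover the centralizer in the quotient. -/
lemma false_of_all_lift (hN1 : N ≠ ⊥) (hNp : IsPGroup p N) {x : G}
    (hxk : ∃ k : ℕ, x ^ p ^ k = 1)
    (hA : Nat.card (Subgroup.centralizer ({x} : Set G)) =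
      Nat.card (Subgroup.centralizer ({(x : G ⧸ N)} : Set (G ⧸ N))))
    (hlift : ∀ g : G, g * x * g⁻¹ * x⁻¹ ∈ N → ∃ w ∈ N, Commute (w * g) x) : False := by
  let f : Subgroup.centralizer ({x} : Set G) → Subgroup.centralizer ({(x : G ⧸ N)} : Set (G ⧸ N)) :=
    fun c => ⟨((c : G) : G ⧸ N), Subgroup.mem_centralizer_singleton_iff.2 (by
      rw [← QuotientGroup.mk_mul, ← QuotientGroup.mk_mul,
        Subgroup.mem_centralizer_singleton_iff.1 c.2])⟩
  have hsurj : Function.Surjective f := by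
    rintro ⟨q, hq⟩
    obtain ⟨g, rfl⟩ := QuotientGroup.mk_surjective q
    have h1 := Subgroup.mem_centralizer_singleton_iff.1 hq
    obtain ⟨w, hw, hc⟩ := hlift g (by
      rw [← QuotientGroup.eq_one_iff, QuotientGroup.mk_mul, QuotientGroup.mk_mul,
        QuotientGroup.mk_mul, QuotientGroup.mk_inv, QuotientGroup.mk_inv, h1, mul_inv_cancel_right,
        mul_inv_cancel])
    refine ⟨⟨w * g, Subgroup.mem_centralizer_singleton_iff.2 hc.eq⟩, Subtype.ext ?_⟩
    show ((w * g : G) : G ⧸ N) = g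
    rw [QuotientGroup.mk_mul, (QuotientGroup.eq_one_iff w).2 hw, one_mul]
  have hbij := (Nat.bijective_iff_surjective_and_card f).2 ⟨hsurj, hA⟩
  obtain ⟨a, ha, ha1, hc⟩ := exists_fixed N hN1 hNp hxk
  refine ha1 ?_
  have h2 : (⟨a, Subgroup.mem_centralizer_singleton_iff.2 hc.symm.eq⟩ :
      Subgroup.centralizer ({x} : Set G)) = ⟨1, one_mem _⟩ := hbij.1 (Subtype.ext (by
    show ((a : G) : G ⧸ N) = ((1 : G) : G ⧸ N)
    rw [(QuotientGroup.eq_one_iff a).2 ha, QuotientGroup.mk_one]))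
  exact congrArg Subtype.val h2

variable (hN1 : N ≠ ⊥) (hNp : IsPGroup p N) (hab : ∀ a ∈ N, ∀ b ∈ N, a * b = b * a)
  (hexp : ∀ a ∈ N, a ^ p = 1)
  (hconj : ∀ a ∈ N, ∀ b ∈ N, a ≠ 1 → b ≠ 1 → IsConj a b)
  (hcent : ∀ a ∈ N, a ≠ 1 → IsPGroup p (Subgroup.centralizer ({a} : Set G)))
  (hcore : ∀ K : Subgroup G, K.Normal → IsPGroup p K → K ≤ N)
  (hA : ∀ x : G, x ∉ N → Nat.card (Subgroup.centralizer ({x} : Set G)) =
    Nat.card (Subgroup.centralizer ({(x : G ⧸ N)} : Set (G ⧸ N))))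

include hcent in
lemma eq_one_of_commute {r : G} (hr : ¬ p ∣ orderOf r) (hr1 : r ≠ 1) :
    ∀ a ∈ N, Commute r a → a = 1 := by
  intro a ha hc
  by_contra ha1
  obtain ⟨k, hk⟩ := hcent a ha ha1 ⟨r, Subgroup.mem_centralizer_singleton_iff.2 hc.eq⟩
  obtain ⟨i, -, hi⟩ := (Nat.dvd_prime_pow (Fact.out : p.Prime)).1
    (orderOf_dvd_of_pow_eq_one (show r ^ p ^ k = 1 from congrArg Subtype.val hk))
  rcases Nat.eq_zero_or_pos i with rfl | hi0
  · exact hr1 (orderOf_eq_one_iff.1 (by rw [hi, pow_zero]))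
  · exact hr (hi ▸ dvd_pow_self p hi0.ne')

include hN1 hNp hab hexp hconj hcent hcore hA in
lemma not_dvd_index_odd (hp2 : p ≠ 2) : ¬ p ∣ N.index := by
  have hN : N.Normal := inferInstance
  have hp := (Fact.out : p.Prime)
  obtain ⟨a₀, ha₀, ha₀1⟩ : ∃ a ∈ N, a ≠ 1 := by
    by_contra h
    push Not at h
    exact hN1 ((Subgroup.eq_bot_iff_forall N).2 h)
  -- an involution
  obtain ⟨t, ht⟩ : ∃ t : G, orderOf t = 2 := by
    refine exists_prime_orderOf_dvd_card' 2 ?_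
    by_contra hodd
    obtain ⟨g, hg⟩ := isConj_iff.1 (hconj a₀ ha₀ a₀⁻¹ (N.inv_mem ha₀) ha₀1
      (inv_ne_one.2 ha₀1))
    obtain ⟨i, hi⟩ : ∃ i : ℕ, (g ^ 2) ^ i = g := exists_pow_eq_self_of_coprime
      ((Nat.prime_two.coprime_iff_not_dvd).2 fun h => hodd (h.trans (orderOf_dvd_natCard g)))
    have h2 : Commute (g ^ 2) a₀ := mul_inv_eq_iff_eq_mul.1 (by
      calc g ^ 2 * a₀ * (g ^ 2)⁻¹ = g * (g * a₀ * g⁻¹) * g⁻¹ := by simp only [pow_two, mul_inv_rev, mul_assoc]
        _ = (g * a₀ * g⁻¹)⁻¹ := by rw [hg, ← conj_inv, hg]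
        _ = a₀ := by rw [hg, inv_inv])
    have h3 : g * a₀ * g⁻¹ = a₀ := by
      have := h2.pow_left i
      rw [hi] at this
      rw [this.eq, mul_inv_cancel_right]
    rw [h3] at hg
    have h4 : a₀ ^ 2 = 1 := by rw [pow_two]; nth_rewrite 1 [hg]; rw [inv_mul_cancel]
    exact ha₀1 (orderOf_eq_one_iff.1 (Nat.eq_one_of_dvd_coprimes
      ((Nat.coprime_primes hp Nat.prime_two).2 hp2) (orderOf_dvd_of_pow_eq_one (hexp a₀ ha₀))
      (orderOf_dvd_of_pow_eq_one h4)))
  have htfix : ∀ a ∈ N, Commute t a → a = 1 := eq_one_of_commute N hcent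
    (by rw [ht]; exact fun h => hp2 ((Nat.prime_dvd_prime_iff_eq hp Nat.prime_two).1 h))
    (fun h => by rw [h, orderOf_one] at ht; omega)
  have htt : t * t = 1 := by rw [← pow_two, ← ht, pow_orderOf_eq_one]
  have hti : t⁻¹ = t := inv_eq_of_mul_eq_one_right htt
  have hinv : ∀ a ∈ N, t * a * t⁻¹ = a⁻¹ := fun a ha => by
    have h1 : a * (t * a * t⁻¹) = 1 := by
      refine htfix _ (N.mul_mem ha (hN.conj_mem a ha t)) (mul_inv_eq_iff_eq_mul.1 ?_)
      calc t * (a * (t * a * t⁻¹)) * t⁻¹ = (t * a * t⁻¹) * ((t * t) * a * (t * t)⁻¹) := by group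
        _ = (t * a * t⁻¹) * a := by rw [htt]; group
        _ = a * (t * a * t⁻¹) := hab _ (hN.conj_mem a ha t) a ha
    exact (inv_eq_of_mul_eq_one_right h1).symm
  -- the centralizer of `N`
  have hCN : ∀ g : G, (∀ a ∈ N, g * a * g⁻¹ = a) → g ∈ N := fun g hg => by
    have : (Subgroup.centralizer (N : Set G)).Normal := by infer_instance
    refine hcore (Subgroup.centralizer (N : Set G)) this ?_ ?_
    · exact (hcent a₀ ha₀ ha₀1).to_le (Subgroup.centralizer_le (by simpa using ha₀))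
    · exact Subgroup.mem_centralizer_iff.2 fun a ha =>
        (mul_inv_eq_iff_eq_mul.1 (hg a ha)).symm
  -- every element is `N`-translate of one centralising `t`
  have hK : ∀ g : G, ∃ w ∈ N, Commute (w * g) t := by
    intro g
    have hu : g * t * g⁻¹ * t⁻¹ ∈ N := hCN _ fun a ha => by
      calc g * t * g⁻¹ * t⁻¹ * a * (g * t * g⁻¹ * t⁻¹)⁻¹
          = g * (t * (g⁻¹ * (t⁻¹ * a * t⁻¹⁻¹) * g) * t⁻¹) * g⁻¹ := by group
        _ = g * (g⁻¹ * (t⁻¹ * a * t⁻¹⁻¹) * g)⁻¹ * g⁻¹ := by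
            rw [hinv _ (by simpa using hN.conj_mem _ (hN.conj_mem a ha t⁻¹) g⁻¹)]
        _ = (t⁻¹ * a * t⁻¹⁻¹)⁻¹ := by group
        _ = a := by rw [hti, hinv a ha, inv_inv]
    obtain ⟨w, hw, e⟩ := exists_conj_of_coset N hab htfix hu
    rw [inv_mul_cancel_right] at e
    refine ⟨w⁻¹, N.inv_mem hw, mul_inv_eq_iff_eq_mul.1 ?_⟩
    rw [show w⁻¹ * g * t * (w⁻¹ * g)⁻¹ = w⁻¹ * (g * t * g⁻¹) * w by group, ← e]
    group
  intro hdvd
  have : Fintype (G ⧸ N) := Fintype.ofFinite _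
  obtain ⟨q, hq⟩ := exists_prime_orderOf_dvd_card' (G := G ⧸ N) p hdvd
  obtain ⟨g, rfl⟩ := QuotientGroup.mk_surjective q
  obtain ⟨w, hw, hc⟩ := hK g
  set x := w * g with hx
  have hxq : (x : G ⧸ N) = g := by
    rw [hx, QuotientGroup.mk_mul, (QuotientGroup.eq_one_iff w).2 hw, one_mul]
  rw [← hxq] at hq
  have hxp : x ^ p = 1 := by
    refine htfix _ ((QuotientGroup.eq_one_iff _).1 ?_) (hc.symm.pow_right p)
    rw [QuotientGroup.mk_pow, ← hq, pow_orderOf_eq_one]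
  have hxN : x ∉ N := fun h => hp.ne_one (by
    rw [← hq, (QuotientGroup.eq_one_iff x).2 h, orderOf_one])
  refine false_of_all_lift N hN1 hNp ⟨1, by rwa [pow_one]⟩ (hA x hxN) fun k hk => ?_
  obtain ⟨v, hv, hvc⟩ := hK k
  refine ⟨v, hv, ?_⟩
  have h1 : v * k * x * (v * k)⁻¹ * x⁻¹ ∈ N := by
    rw [show v * k * x * (v * k)⁻¹ * x⁻¹ =
      v * (k * x * k⁻¹ * x⁻¹) * (x * v⁻¹ * x⁻¹) by group]
    exact N.mul_mem (N.mul_mem hv hk) (hN.conj_mem _ (N.inv_mem hv) x)
  have h2 := htfix _ h1 ((((hvc.symm.mul_right hc.symm).mul_right hvc.symm.inv_right)).mul_right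
    hc.symm.inv_right)
  exact mul_inv_eq_iff_eq_mul.1 (mul_inv_eq_one.1 h2)

include hN1 hNp hab hexp hcent hcore hA in
lemma not_dvd_index_two (hp2 : p = 2) : ¬ p ∣ N.index := by
  subst hp2
  have hN : N.Normal := inferInstance
  intro hdvd
  have : Fintype (G ⧸ N) := Fintype.ofFinite _
  obtain ⟨q, hq⟩ := exists_prime_orderOf_dvd_card' (G := G ⧸ N) 2 hdvd
  have hinvN : ∀ a ∈ N, a⁻¹ = a := fun a ha =>
    inv_eq_of_mul_eq_one_right (by rw [← pow_two]; exact hexp a ha)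
  obtain ⟨h, hh1, hhodd, hhq⟩ := Cfsg.Agent.S0200.result q hq fun K hK hKp hqK => by
    have hle : K.comap (QuotientGroup.mk' N) ≤ N := hcore _ (hK.comap _)
      (hKp.comap_of_ker_isPGroup _ (by rwa [QuotientGroup.ker_mk']))
    obtain ⟨g, rfl⟩ := QuotientGroup.mk_surjective q
    rw [(QuotientGroup.eq_one_iff g).2 (hle hqK), orderOf_one] at hq
    omega
  obtain ⟨r₀, rfl⟩ := QuotientGroup.mk_surjective h
  obtain ⟨x₀, rfl⟩ := QuotientGroup.mk_surjective q
  -- a lift of odd order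
  obtain ⟨k, m, hm, hkm⟩ := Nat.exists_eq_pow_mul_and_not_dvd (orderOf_pos r₀).ne' 2 (by norm_num)
  set r := r₀ ^ 2 ^ k with hr
  have hro : orderOf r = m := by
    rw [hr, orderOf_pow_of_dvd (pow_ne_zero _ two_ne_zero) (hkm ▸ Dvd.intro m rfl), hkm,
      Nat.mul_div_cancel_left _ (pow_pos (by norm_num) k)]
  have hrN : r ∉ N := fun hrN => hh1 (orderOf_eq_one_iff.1 (Nat.eq_one_of_dvd_coprimes
    (Nat.Coprime.pow_right k hhodd.coprime_two_right) dvd_rfl
    (orderOf_dvd_of_pow_eq_one (by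
      rw [← QuotientGroup.mk_pow]; exact (QuotientGroup.eq_one_iff _).2 hrN))))
  have hr1 : r ≠ 1 := fun e => hrN (e ▸ N.one_mem)
  have hrinv : ∀ a ∈ N, Commute r⁻¹ a → a = 1 :=
    eq_one_of_commute N hcent (by rw [orderOf_inv, hro]; exact hm) (inv_ne_one.2 hr1)
  have hrfix : ∀ a ∈ N, Commute r a → a = 1 :=
    eq_one_of_commute N hcent (by rwa [hro]) hr1
  -- the lift of the involution inverting `r`
  have hc : x₀ * r * x₀⁻¹ * r ∈ N := by
    rw [← QuotientGroup.eq_one_iff, QuotientGroup.mk_mul, QuotientGroup.mk_mul,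
      QuotientGroup.mk_mul, QuotientGroup.mk_inv, hr, QuotientGroup.mk_pow, ← conj_pow, hhq,
      inv_pow, inv_mul_cancel]
  obtain ⟨w, hw, hwe⟩ := exists_conj_of_coset N hab hrinv hc
  rw [mul_inv_cancel_right] at hwe
  set x := w⁻¹ * x₀ with hx
  have hxr : x * r * x⁻¹ = r⁻¹ := by
    rw [hx, show w⁻¹ * x₀ * r * (w⁻¹ * x₀)⁻¹ = w⁻¹ * (x₀ * r * x₀⁻¹) * w by group, ← hwe]
    group
  have hxq : (x : G ⧸ N) = x₀ := by
    rw [hx, QuotientGroup.mk_mul, (QuotientGroup.eq_one_iff _).2 (N.inv_mem hw), one_mul]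
  rw [← hxq] at hq
  have hxN : x ∉ N := fun h => by
    rw [(QuotientGroup.eq_one_iff x).2 h, orderOf_one] at hq; omega
  have hxx : x * x = 1 := by
    refine hrfix _ ((QuotientGroup.eq_one_iff _).1 ?_) (mul_inv_eq_iff_eq_mul.1 ?_).symm
    · rw [QuotientGroup.mk_mul, ← pow_two, ← hq, pow_orderOf_eq_one]
    · rw [show x * x * r * (x * x)⁻¹ = x * (x * r * x⁻¹) * x⁻¹ by group, hxr, ← conj_inv, hxr,
        inv_inv]
  have hxi : x⁻¹ = x := inv_eq_of_mul_eq_one_right hxx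
  -- every fixed point of `x` is a commutator
  let _ : CommGroup N := { (inferInstance : Group N) with
    mul_comm := fun a b => Subtype.ext (hab a a.2 b b.2) }
  let σ : MulAut N := MulAut.conjNormal x
  let τ : MulAut N := MulAut.conjNormal r
  obtain ⟨l, hl⟩ : Odd m := Nat.not_even_iff_odd.1 fun he => hm (even_iff_two_dvd.1 he)
  have hτm : τ ^ m = 1 := by rw [← map_pow, ← hro, pow_orderOf_eq_one, map_one]
  have hnorm : ∀ v : N, ∏ i ∈ Finset.range m, (τ ^ i) v = 1 := by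
    intro v
    have h1 : τ (∏ i ∈ Finset.range m, (τ ^ i) v) = ∏ i ∈ Finset.range m, (τ ^ i) v := by
      rw [map_prod]
      have h2 := Finset.prod_range_succ' (fun i => (τ ^ i) v) m
      rw [Finset.prod_range_succ, hτm, pow_zero] at h2
      rw [Finset.prod_congr rfl fun i _ => show τ ((τ ^ i) v) = (τ ^ (i + 1)) v by
        rw [pow_succ', MulAut.mul_apply]]
      exact (mul_right_cancel h2).symm
    refine Subtype.ext (hrfix _ (∏ i ∈ Finset.range m, (τ ^ i) v).2 ?_)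
    exact mul_inv_eq_iff_eq_mul.1 (congrArg Subtype.val h1)
  have hsplit : ∀ v : N, σ v = v → ∃ w : N, v = w * σ w := by
    intro v hv
    refine ⟨∏ i ∈ Finset.range l, (τ ^ (i + 1)) v, ?_⟩
    have hst : ∀ i : ℕ, σ ((τ ^ i) v) = (τ⁻¹ ^ i) v := fun i => by
      conv_rhs => rw [← hv]
      rw [← MulAut.mul_apply, ← MulAut.mul_apply]
      congr 1
      simp only [σ, τ, ← map_pow, ← map_inv, ← map_mul]
      congr 1
      rw [inv_pow, ← inv_pow, ← hxr, conj_pow, inv_mul_cancel_right]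
    have h1 := hnorm v
    rw [hl, show 2 * l + 1 = l + l + 1 by ring, Finset.prod_range_succ', pow_zero,
      MulAut.one_apply, Finset.prod_range_add] at h1
    rw [map_prod]
    have h3 : ∏ i ∈ Finset.range l, σ ((τ ^ (i + 1)) v) =
        ∏ i ∈ Finset.range l, (τ ^ (l + i + 1)) v := by
      rw [← Finset.prod_range_reflect (fun i => (τ ^ (l + i + 1)) v) l]
      refine Finset.prod_congr rfl fun i hi => ?_
      rw [hst, inv_pow]
      congr 1
      refine inv_eq_of_mul_eq_one_left ?_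
      rw [Finset.mem_range] at hi
      rw [← pow_add, show l + (l - 1 - i) + 1 + (i + 1) = m by omega, hτm]
    rw [h3]
    have h4 := eq_inv_of_mul_eq_one_left h1
    rw [h4]
    exact (Subtype.ext (hinvN v v.2).symm)
  refine false_of_all_lift N hN1 hNp ⟨1, by rw [pow_one, pow_two, hxx]⟩ (hA x hxN) fun g hg => ?_
  rw [hxi] at hg
  set v := g * x * g⁻¹ * x with hv
  have hvx : x * v * x⁻¹ = v := by
    have h1 : v * (x * v * x⁻¹) = 1 := by
      rw [hv, hxi]
      calc g * x * g⁻¹ * x * (x * (g * x * g⁻¹ * x) * x)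
          = g * x * g⁻¹ * (x * x) * (g * x * g⁻¹) * (x * x) := by group
        _ = g * x * g⁻¹ * 1 * (g * x * g⁻¹) * 1 := by rw [hxx]
        _ = g * (x * x) * g⁻¹ := by group
        _ = 1 := by rw [hxx]; group
    exact (inv_eq_of_mul_eq_one_right h1).symm.trans (hinvN v hg)
  obtain ⟨u, hu⟩ := hsplit ⟨v, hg⟩ (Subtype.ext hvx)
  have hu' : v = (u : G) * (x * (u : G) * x⁻¹) := congrArg Subtype.val hu
  refine ⟨(u : G)⁻¹, N.inv_mem u.2, mul_inv_eq_iff_eq_mul.1 ?_⟩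
  have h5 : g * x * g⁻¹ = (u : G) * x * (u : G) := by
    calc g * x * g⁻¹ = v * x⁻¹ := by rw [hv]; group
      _ = (u : G) * x * (u : G) * (x * x)⁻¹ := by rw [hu']; group
      _ = (u : G) * x * (u : G) := by rw [hxx, inv_one, mul_one]
  calc (u : G)⁻¹ * g * x * ((u : G)⁻¹ * g)⁻¹ = (u : G)⁻¹ * (g * x * g⁻¹) * (u : G) := by group
    _ = x * ((u : G) * (u : G)) := by rw [h5]; group
    _ = x := by rw [← pow_two, hexp _ u.2, mul_one]

end Cfsg.Lib.Blocks.TwoClassFrobenius
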