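import Mathlib
import Cfsg.Prelude.Def_Local
import Cfsg.Agent.Blocks.Columns
import Cfsg.Agent.Components.Cores
import Cfsg.Agent.Chars.Sums
import Cfsg.Agent.Chars.Gallagher
import Cfsg.Agent.Chars.Values
import Cfsg.Agent.Chars.Count
import Cfsg.Agent.S0944

/-!
# Columns vanishing against an involution which inverts nothing
-/

set_option autoImplicit false
set_option linter.unusedSectionVars false

namespace Cfsg.Lib.Blocks

open Cfsg.Lib.Chars
open scoped ComplexConjugate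

universe u

variable {G : Type u} [Group G] [Fintype G] {M : Ideal AlgInt}

/-- The squared values at an involution weighted by the inverse degrees give, in the principal
block, zero at every 2-element inverted by no conjugate of the involution. -/
theorem sum_sq_div_mul_eq_zero (hM : IsPModular 2 M) {t y : G} (ht : orderOf t = 2)
    (hy : ∃ k : ℕ, orderOf y = 2 ^ k)
    (hinv : ∀ g : G, (g * t * g⁻¹) * y * (g * t * g⁻¹)⁻¹ ≠ y⁻¹)
    [DecidablePred (· ∈ principalBlock M G)] :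
    ∑ χ ∈ Finset.univ.filter (· ∈ principalBlock M G),
      ((χ : G → ℂ) t ^ 2 / (χ : G → ℂ) 1) * (χ : G → ℂ) y = 0 := by
  classical
  have hB : IsPBlock M (principalBlock M G) := isPBlock_blockOf (principal G)
  rw [← blockPart_irrSum]
  refine blockPart_eq_zero_on_section hM hB (isPPart_self Nat.prime_two hy) (IsConj.refl y)
    fun w z hz hc => ?_
  obtain ⟨a, ha⟩ := isConj_iff.1 hc.symm
  have h := class_mult_formula t t w⁻¹
  haveI : IsEmpty {p : G × G // IsConj t p.1 ∧ IsConj t p.2 ∧ p.1 * p.2 = w⁻¹} := by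
    refine ⟨fun ⟨⟨s, r⟩, h1, h2, h3⟩ => ?_⟩
    simp only at h1 h2 h3
    obtain ⟨g, hg⟩ := isConj_iff.1 h1
    obtain ⟨g', hg'⟩ := isConj_iff.1 h2
    have ht2 : t * t = 1 := by rw [← pow_two, ← ht, pow_orderOf_eq_one]
    have hs : s * s = 1 := by
      rw [← hg, show g * t * g⁻¹ * (g * t * g⁻¹) = g * (t * t) * g⁻¹ by group, ht2]; group
    have hr : r * r = 1 := by
      rw [← hg', show g' * t * g'⁻¹ * (g' * t * g'⁻¹) = g' * (t * t) * g'⁻¹ by group, ht2]; group
    have hw : s * w * s⁻¹ = w⁻¹ := by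
      rw [← inv_inv w, ← h3, inv_inv, mul_inv_rev, inv_eq_of_mul_eq_one_right hr,
        inv_eq_of_mul_eq_one_right hs, mul_assoc s (r * s) s, mul_assoc r s s, hs, mul_one]
    have hzi : IsPPart 2 w⁻¹ z⁻¹ := by
      obtain ⟨v, hv, hvc, ⟨k, hk⟩, hvn⟩ := hz
      exact ⟨v⁻¹, by rw [← hv, mul_inv_rev, hvc.inv_inv.eq], hvc.inv_inv,
        ⟨k, by rw [orderOf_inv, hk]⟩, by rwa [orderOf_inv]⟩
    have hzz : s * z * s⁻¹ = z⁻¹ :=
      IsPPart.eq Nat.prime_two (hw ▸ IsPPart.conj hz s) hzi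
    refine hinv (a * g) ?_
    rw [← ha, show a * g * t * (a * g)⁻¹ = a * (g * t * g⁻¹) * a⁻¹ by group, hg,
      show a * s * a⁻¹ * (a * z * a⁻¹) * (a * s * a⁻¹)⁻¹ = a * (s * z * s⁻¹) * a⁻¹ by group, hzz]
    group
  rw [Nat.card_of_isEmpty, Nat.cast_zero, eq_comm, mul_eq_zero] at h
  have hcard : (Nat.card {x : G // IsConj t x} : ℂ) * (Nat.card {x : G // IsConj t x} : ℂ) /
      (Nat.card G : ℂ) ≠ 0 :=
    div_ne_zero (mul_ne_zero (Nat.cast_ne_zero.2 (card_isConj_pos _).ne')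
      (Nat.cast_ne_zero.2 (card_isConj_pos _).ne')) (Nat.cast_ne_zero.2 Nat.card_pos.ne')
  rw [← h.resolve_left hcard]
  refine Finset.sum_congr rfl fun χ _ => ?_
  rw [IsCharacter.conj_inv (isCharacter_of_irr χ.2), Complex.conj_conj]
  ring

/-- One positive coefficient forces a constant ratio. -/
lemma ratio_eq_of_unique_pos {ι : Type*} (T : Finset ι) {b d y : ι → ℝ} (hd : ∀ i ∈ T, 0 < d i)
    (h1 : ∑ i ∈ T, b i * d i = 0) (h2 : ∑ i ∈ T, b i * y i = 0)
    (h3 : ∑ i ∈ T, b i * y i ^ 2 / d i = 0) {ψ : ι} (hψ : ψ ∈ T)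
    (hu : ∀ i ∈ T, 0 < b i → i = ψ) {i : ι} (hi : i ∈ T) (hb : b i ≠ 0) :
    y i * d ψ = y ψ * d i := by
  classical
  set r := y ψ / d ψ with hr
  have hdψ := (hd ψ hψ).ne'
  have hsum : ∑ j ∈ T, b j * ((y j - r * d j) ^ 2 / d j) = 0 := by
    rw [Finset.sum_congr rfl fun j hj => show b j * ((y j - r * d j) ^ 2 / d j) =
      b j * y j ^ 2 / d j - (2 * r) * (b j * y j) + r ^ 2 * (b j * d j) by
        have := (hd j hj).ne'
        field_simp
        ring, Finset.sum_add_distrib, Finset.sum_sub_distrib, ← Finset.mul_sum, ← Finset.mul_sum,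
      h1, h2, h3]
    ring
  have hle : ∀ j ∈ T, b j * ((y j - r * d j) ^ 2 / d j) ≤ 0 := by
    intro j hj
    by_cases hj0 : j = ψ
    · rw [hj0, hr, div_mul_cancel₀ _ hdψ, sub_self]
      simp
    · exact mul_nonpos_of_nonpos_of_nonneg (le_of_not_gt fun h => hj0 (hu j hj h))
        (div_nonneg (sq_nonneg _) (hd j hj).le)
  have h0 := (Finset.sum_eq_zero_iff_of_nonpos hle).1 hsum i hi
  rcases mul_eq_zero.1 h0 with h | h
  · exact absurd h hb
  rcases div_eq_zero_iff.1 h with h | h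
  · have := (pow_eq_zero_iff two_ne_zero).1 h
    rw [sub_eq_zero] at this
    rw [this, hr, mul_right_comm, div_mul_cancel₀ _ hdψ]
  · exact absurd h (hd i hi).ne'

/-- **The lemma on vanishing columns.** -/
theorem vanishing_columns (hM : IsPModular 2 M) (P : Subgroup G) [Fintype P] (hP : IsPGroup 2 P)
    (U : Set G) (t : G) (ht : orderOf t = 2)
    (hinv : ∀ u ∈ U, ∀ g : G, (g * t * g⁻¹) * u * (g * t * g⁻¹)⁻¹ ≠ u⁻¹)
    (θ : P → ℂ) (hθ : IsGeneralizedCharacter P θ) (hθU : ∀ y : P, (y : G) ∉ U → θ y = 0)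
    [DecidablePred (· ∈ principalBlock M G)] (a : IrrCharacter G → ℂ)
    (ha : ∀ χ : IrrCharacter G, a χ = (Nat.card P : ℂ)⁻¹ * ∑ y : P, (χ : G → ℂ) (y : G) * θ y⁻¹) :
    (∑ χ ∈ Finset.univ.filter (· ∈ principalBlock M G), a χ * (χ : G → ℂ) t ^ 2 / (χ : G → ℂ) 1 = 0) ∧
    (∑ χ ∈ Finset.univ.filter (· ∈ principalBlock M G), a χ * (χ : G → ℂ) 1 = 0) ∧
    (∑ χ ∈ Finset.univ.filter (· ∈ principalBlock M G), a χ * (χ : G → ℂ) t = 0) ∧
    ((Nat.card P : ℂ)⁻¹ * ∑ y : P, θ y ≠ 0 →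
      (2 ≤ Nat.card {χ : IrrCharacter G // χ ∈ principalBlock M G ∧ 0 < (a χ).re} ∧
        2 ≤ Nat.card {χ : IrrCharacter G // χ ∈ principalBlock M G ∧ (a χ).re < 0}) ∨
      ∃ K : Subgroup G, K.Normal ∧ K ≠ ⊤ ∧ pPrimeCore 2 G ≤ K ∧ t ∈ K) := by
  classical
  have hB : IsPBlock M (principalBlock M G) := isPBlock_blockOf (principal G)
  have h1B : principal G ∈ principalBlock M G := mem_blockOf_self hM (principal G)
  have ht2 : t * t = 1 := by rw [← pow_two, ← ht, pow_orderOf_eq_one]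
  set T := Finset.univ.filter (fun χ : IrrCharacter G => χ ∈ principalBlock M G) with hT
  have hsupp : ∀ y : P, θ y⁻¹ ≠ 0 → (∃ k : ℕ, orderOf (y : G) = 2 ^ k) ∧
      ∀ g : G, (g * t * g⁻¹) * (y : G) * (g * t * g⁻¹)⁻¹ ≠ (y : G)⁻¹ := by
    intro y hy
    have hU : ((y⁻¹ : P) : G) ∈ U := by
      by_contra h; exact hy (hθU _ h)
    refine ⟨?_, fun g h => hinv _ hU g ?_⟩
    · obtain ⟨k, hk⟩ := IsPGroup.iff_orderOf.1 hP y
      exact ⟨k, by rw [Subgroup.orderOf_coe, hk]⟩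
    · rw [Subgroup.coe_inv, ← conj_inv, h]
  have hswap : ∀ F : IrrCharacter G → ℂ,
      (∀ y : P, θ y⁻¹ ≠ 0 → ∑ χ ∈ T, F χ * (χ : G → ℂ) (y : G) = 0) →
      ∑ χ ∈ T, a χ * F χ = 0 := by
    intro F hF
    rw [Finset.sum_congr rfl fun (χ : IrrCharacter G) _ => show a χ * F χ =
      ∑ y : P, (Nat.card P : ℂ)⁻¹ * θ y⁻¹ * (F χ * (χ : G → ℂ) (y : G)) by
        rw [ha, Finset.mul_sum, Finset.sum_mul]
        exact Finset.sum_congr rfl fun y _ => by ring,
      Finset.sum_comm]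
    refine Finset.sum_eq_zero fun y _ => ?_
    rw [← Finset.mul_sum]
    by_cases hy : θ y⁻¹ = 0
    · rw [hy, mul_zero, zero_mul]
    · rw [hF y hy, mul_zero]
  have hint : ∀ χ : IrrCharacter G, ∃ n : ℤ, a χ = n := by
    intro χ
    obtain ⟨α, β, hα, hβ, hαβ⟩ := hθ
    obtain ⟨i, hi⟩ := classInner_char_nat (IsCharacter.restrict (isCharacter_of_irr χ.2) P) hα
    obtain ⟨j, hj⟩ := classInner_char_nat (IsCharacter.restrict (isCharacter_of_irr χ.2) P) hβ
    refine ⟨(i : ℤ) - j, ?_⟩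
    rw [classInner_def] at hi hj
    push_cast
    rw [← hi, ← hj, ← mul_sub, ← Finset.sum_sub_distrib, ha, hαβ]
    refine congrArg _ (Finset.sum_congr rfl fun y _ => ?_)
    rw [Pi.sub_apply, IsCharacter.conj_inv hα, IsCharacter.conj_inv hβ]
    ring
  choose n hn using hint
  choose τ hτ using fun χ : IrrCharacter G => Cfsg.Agent.S0944.result χ t ht
  have hsing : ∀ y : P, θ y⁻¹ ≠ 0 → 2 ∣ orderOf (y : G) := by
    intro y hy
    obtain ⟨⟨k, hk⟩, hni⟩ := hsupp y hy
    rcases k with _ | k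
    · exfalso
      rw [pow_zero, orderOf_eq_one_iff] at hk
      refine hni 1 ?_
      rw [hk]; group
    · rw [hk]; exact dvd_pow_self 2 k.succ_ne_zero
  have E1 : ∑ χ ∈ T, a χ * (χ : G → ℂ) t ^ 2 / (χ : G → ℂ) 1 = 0 := by
    rw [Finset.sum_congr rfl fun (χ : IrrCharacter G) _ => mul_div_assoc (a χ) _ _]
    exact hswap _ fun y hy => sum_sq_div_mul_eq_zero hM ht (hsupp y hy).1 (hsupp y hy).2
  have E2 : ∑ χ ∈ T, a χ * (χ : G → ℂ) 1 = 0 := hswap _ fun y hy => by
    rw [← block_orthogonality_regular' hM hB (hsing y hy)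
      (show ¬ 2 ∣ orderOf (1 : G) by rw [orderOf_one]; norm_num)]
    exact Finset.sum_congr rfl fun χ _ => by rw [irr_apply_one_eq_deg, Complex.conj_natCast, mul_comm]
  have E3 : ∑ χ ∈ T, a χ * (χ : G → ℂ) t = 0 := hswap _ fun y hy => by
    rw [← block_orthogonality_conj hM hB (isPPart_self Nat.prime_two (hsupp y hy).1)
      (isPPart_self Nat.prime_two ⟨1, by rw [ht, pow_one]⟩ : IsPPart 2 t t) fun hc => by
        obtain ⟨g, hg⟩ := isConj_iff.1 hc.symm
        refine (hsupp y hy).2 g ?_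
        rw [← hg, mul_inv_cancel_right, eq_comm, mul_inv_rev, mul_inv_rev, inv_inv,
          inv_eq_of_mul_eq_one_right ht2, mul_assoc]]
    exact Finset.sum_congr rfl fun χ _ => by rw [(hτ χ).1, map_intCast, mul_comm]
  refine ⟨E1, E2, E3, fun hmean => ?_⟩
  have hn1 : n (principal G) ≠ 0 := fun h => hmean (by
    have h' := hn (principal G)
    rw [h, Int.cast_zero, ha] at h'
    rw [← h']
    refine congrArg _ ((Equiv.sum_comp (Equiv.inv P) θ).symm.trans (Finset.sum_congr rfl fun y _ => ?_))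
    rw [show ((principal G : IrrCharacter G) : G → ℂ) (y : G) = 1 from rfl, one_mul]
    rfl)
  by_contra hcon
  rw [not_or] at hcon
  obtain ⟨hcount, hK⟩ := hcon
  -- real forms of the relations
  let d : IrrCharacter G → ℝ := fun χ => (deg (χ : G → ℂ) : ℝ)
  have hd : ∀ χ ∈ T, 0 < d χ := fun χ _ => Nat.cast_pos.2 (deg_irr_pos χ)
  have R2 : ∑ χ ∈ T, (n χ : ℝ) * d χ = 0 := by
    apply Complex.ofReal_injective
    push_cast
    rw [← E2]
    exact Finset.sum_congr rfl fun χ _ => by rw [hn, irr_apply_one_eq_deg]; simp [d]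
  have R3 : ∑ χ ∈ T, (n χ : ℝ) * (τ χ : ℝ) = 0 := by
    apply Complex.ofReal_injective
    push_cast
    rw [← E3]
    exact Finset.sum_congr rfl fun χ _ => by rw [hn, (hτ χ).1]
  have R1 : ∑ χ ∈ T, (n χ : ℝ) * (τ χ : ℝ) ^ 2 / d χ = 0 := by
    apply Complex.ofReal_injective
    push_cast
    rw [← E1]
    exact Finset.sum_congr rfl fun χ _ => by rw [hn, (hτ χ).1, irr_apply_one_eq_deg]; simp [d]
  have hpT : principal G ∈ T := Finset.mem_filter.2 ⟨Finset.mem_univ _, h1B⟩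
  -- some non-principal row
  obtain ⟨χ, hχ, hχne, hχ0⟩ : ∃ χ ∈ T, χ ≠ principal G ∧ n χ ≠ 0 := by
    by_contra h
    push Not at h
    rw [Finset.sum_eq_single (principal G) (fun χ hχ hne => by rw [h χ hχ hne]; simp)
      (fun h' => absurd hpT h')] at R2
    rcases mul_eq_zero.1 R2 with h' | h'
    · exact hn1 (by exact_mod_cast h')
    · exact (hd _ hpT).ne' h'
  suffices hval : (χ : G → ℂ) t = (χ : G → ℂ) 1 by
    refine hK ⟨kerSubgroup (χ : G → ℂ) (isCharacter_of_irr χ.2), kerSubgroup_normal _,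
      fun htop => hχne ?_, fun g hg => (mem_kerSubgroup _ g).2 ?_, (mem_kerSubgroup _ t).2 hval⟩
    · by_contra h
      have h0 := classInner_irr_ne h
      rw [classInner_def, Finset.sum_congr rfl fun (g : G) _ => show (χ : G → ℂ) g *
        conj (((principal G : IrrCharacter G) : G → ℂ) g) = (χ : G → ℂ) 1 by
          rw [show ((principal G : IrrCharacter G) : G → ℂ) g = 1 from rfl, map_one, mul_one]
          exact (mem_kerSubgroup (isCharacter_of_irr χ.2) g).1
            (show g ∈ kerSubgroup (χ : G → ℂ) (isCharacter_of_irr χ.2) from htop ▸ Subgroup.mem_top g),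
        Finset.sum_const, nsmul_eq_mul, Finset.card_univ, ← Nat.card_eq_fintype_card,
        inv_mul_cancel_left₀ (Nat.cast_ne_zero.2 Nat.card_pos.ne')] at h0
      exact IsIrrCharacter.apply_one_ne_zero χ.2 h0
    · refine apply_eq_of_mem_normal_pPrime hM (pPrimeCore 2 G) ?_ (Finset.mem_filter.1 hχ).2 hg
      exact (Nat.prime_two.coprime_iff_not_dvd).1 (Cfsg.Lib.Components.coprime_card_pPrimeCore 2).symm
  -- only one sign on one side
  have key : ∀ s : ℝ, s ≠ 0 →
      Nat.card {χ : IrrCharacter G // χ ∈ principalBlock M G ∧ 0 < s * (n χ : ℝ)} ≤ 1 →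
      (χ : G → ℂ) t = (χ : G → ℂ) 1 := by
    intro s hs hle
    have hpos : ∃ ψ ∈ T, 0 < s * (n ψ : ℝ) := by
      by_contra h
      push Not at h
      have hz : ∀ φ ∈ T, s * (n φ : ℝ) * d φ = 0 := (Finset.sum_eq_zero_iff_of_nonpos
        fun φ hφ => mul_nonpos_of_nonpos_of_nonneg (h φ hφ) (hd φ hφ).le).1
        (by simp only [mul_assoc]; rw [← Finset.mul_sum, R2, mul_zero])
      exact hn1 (by
        have := hz _ hpT
        rcases mul_eq_zero.1 this with h' | h'
        · exact_mod_cast (mul_eq_zero.1 h').resolve_left hs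
        · exact absurd h' (hd _ hpT).ne')
    obtain ⟨ψ, hψ, hψpos⟩ := hpos
    have hu : ∀ φ ∈ T, 0 < s * (n φ : ℝ) → φ = ψ := fun φ hφ h => by
      have hss : Subsingleton {χ : IrrCharacter G // χ ∈ principalBlock M G ∧ 0 < s * (n χ : ℝ)} :=
        Finite.card_le_one_iff_subsingleton.1 hle
      exact congrArg Subtype.val (hss.elim ⟨φ, (Finset.mem_filter.1 hφ).2, h⟩
        ⟨ψ, (Finset.mem_filter.1 hψ).2, hψpos⟩)
    have hrat : ∀ φ ∈ T, n φ ≠ 0 → (τ φ : ℝ) * d ψ = (τ ψ : ℝ) * d φ := fun φ hφ h =>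
      ratio_eq_of_unique_pos T (b := fun φ => s * (n φ : ℝ)) (y := fun φ => (τ φ : ℝ)) hd
        (by simp only [mul_assoc]; rw [← Finset.mul_sum, R2, mul_zero])
        (by simp only [mul_assoc]; rw [← Finset.mul_sum, R3, mul_zero])
        (by simp only [mul_assoc, mul_div_assoc]; rw [← Finset.mul_sum,
              Finset.sum_congr rfl fun φ _ => (mul_div_assoc (n φ : ℝ) _ _).symm, R1, mul_zero])
        hψ hu hφ (mul_ne_zero hs (Int.cast_ne_zero.2 h))
    have hp := hrat _ hpT hn1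
    have hτ1 : τ (principal G) = 1 := by
      have := (hτ (principal G)).1
      exact_mod_cast this.symm.trans (show ((principal G : IrrCharacter G) : G → ℂ) t = 1 from rfl)
    have hd1 : d (principal G) = 1 := by
      have h := irr_apply_one_eq_deg (principal G)
      simp only [d]
      exact_mod_cast h.symm.trans (show ((principal G : IrrCharacter G) : G → ℂ) 1 = 1 from rfl)
    rw [hτ1, hd1, Int.cast_one, one_mul, mul_one] at hp
    have h := hrat χ hχ hχ0
    rw [← hp, mul_comm (d ψ) (d χ)] at h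
    have hfin : (τ χ : ℝ) = d χ := mul_right_cancel₀ (hd ψ hψ).ne' h
    rw [(hτ χ).1, irr_apply_one_eq_deg]
    have : ((τ χ : ℝ) : ℂ) = ((d χ : ℝ) : ℂ) := congrArg _ hfin
    simpa [d] using this
  rw [not_and_or, not_le, not_le] at hcount
  rcases hcount with h | h
  · refine key 1 one_ne_zero (Nat.lt_succ_iff.1 (lt_of_le_of_lt (le_of_eq ?_) h))
    refine Nat.card_congr (Equiv.subtypeEquivRight fun φ => ?_)
    rw [hn, Complex.intCast_re, one_mul]
  · refine key (-1) (by norm_num) (Nat.lt_succ_iff.1 (lt_of_le_of_lt (le_of_eq ?_) h))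
    refine Nat.card_congr (Equiv.subtypeEquivRight fun φ => ?_)
    rw [hn, Complex.intCast_re, neg_one_mul, neg_pos]

end Cfsg.Lib.Blocks
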