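import Mathlib
import Cfsg.Agent.Blocks.Palfy.Dual
import Cfsg.Agent.Coprime.Hall
import Cfsg.Agent.Coprime.Generation
import Cfsg.Agent.HallHigman.Drop
import Cfsg.Agent.Components.Misc.NilSubnormal
import Cfsg.Agent.Components.Quasisimple
import Cfsg.Agent.SolvStruct.CyclicProduct

/-!
# Vanishing elements of order divisible by `p`

In a solvable group in which they all have the same order the Sylow `p`-subgroups have order at most
`p` modulo the `p`-core.
-/

set_option autoImplicit false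
set_option linter.unusedSectionVars false
set_option linter.style.haveILetI false

namespace Cfsg.Lib.VanOrder

open Cfsg.Lib.Chars Subgroup
open scoped commutatorElement
open Cfsg.Lib.Palfy (stab mem_stab dualAct mem_inertia_iff_dual commute_of_fixes)

universe u v

variable {p : ℕ} [hp : Fact p.Prime]

/-- Some irreducible character vanishes. -/
def Van {G : Type u} [Group G] (x : G) : Prop := ∃ χ : Cfsg.IrrCharacter G, (χ : G → ℂ) x = 0

theorem Van.lift {G X : Type u} [Group G] [Group X] [Finite G] [Finite X] (f : G →* X)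
    (hf : Function.Surjective f) {x : G} (h : Van (f x)) : Van x := by
  obtain ⟨χ, hχ⟩ := h
  exact ⟨⟨_, IsIrrCharacter.comp_surjective χ.2 f hf⟩, hχ⟩

/-- A faithful coprime action of an abelian group on an abelian group has a regular orbit. -/
theorem exists_regular {H : Type u} [Group H] [Finite H] (hH : ∀ a b : H, a * b = b * a)
    {V : Type v} [CommGroup V] [Finite V] (act : H →* MulAut V)
    (hcop : (Nat.card H).Coprime (Nat.card V)) (hfaith : ∀ h : H, (∀ v, act h v = v) → h = 1) :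
    ∃ v : V, stab act v = ⊥ := by
  classical
  obtain ⟨v, -, hv⟩ := Set.exists_min_image (Set.univ : Set V) (fun v => Nat.card (stab act v))
    Set.finite_univ ⟨1, trivial⟩
  refine ⟨v, ?_⟩
  by_contra hne
  obtain ⟨s, hs, hs1⟩ := (Subgroup.bot_or_exists_ne_one _).resolve_left hne
  obtain ⟨x, hx⟩ : ∃ x, act s x ≠ x := by
    by_contra hall
    push Not at hall
    exact hs1 (hfaith s hall)
  have hco : ∀ d : V, d ^ orderOf s = 1 → d = 1 := fun d hd =>
    orderOf_eq_one_iff.1 (Nat.eq_one_of_dvd_coprimes hcop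
      ((orderOf_dvd_of_pow_eq_one hd).trans (orderOf_dvd_natCard s)) (orderOf_dvd_natCard d))
  -- a fixed translate is trivial
  have key : ∀ d y : V, act s d = d → act s y = d * y → d = 1 := by
    intro d y hd hy
    refine hco d ?_
    have h1 : ∀ n : ℕ, act (s ^ n) y = d ^ n * y := by
      intro n
      induction n with
      | zero => simp
      | succ n ih => rw [pow_succ', map_mul, MulAut.mul_apply, ih, map_mul, map_pow, hd, hy,
          pow_succ, mul_assoc]
    have h2 := h1 (orderOf s)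
    rw [pow_orderOf_eq_one, map_one] at h2
    exact (mul_eq_right.1 h2.symm)
  set u := act s x * x⁻¹ with hu
  have hu1 : u ≠ 1 := fun h => hx (mul_inv_eq_one.1 h)
  have hsu : act s u ≠ u := fun h => hu1 (key u x h (by rw [hu, inv_mul_cancel_right]))
  have hsv : act s v = v := (mem_stab act).1 hs
  refine absurd (hv (v * u) trivial) (not_le_of_gt ?_)
  refine Set.Finite.card_lt_card (s := (stab act (v * u) : Set H)) (t := (stab act v : Set H))
    (Set.toFinite _) (Set.ssubset_iff_of_subset ?_ |>.2 ⟨s, hs, fun h => hsu ?_⟩)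
  · intro a ha
    have hc : act a (v * u) = v * u := (mem_stab act).1 ha
    have hcom : ∀ z, act s (act a z) = act a (act s z) := fun z => by
      rw [← MulAut.mul_apply, ← map_mul, hH, map_mul, MulAut.mul_apply]
    set d := act a v * v⁻¹ with hd
    have hd' : d = u * (act a u)⁻¹ := by
      rw [map_mul] at hc
      rw [hd, eq_mul_inv_of_mul_eq hc, mul_comm v u, mul_right_comm, mul_inv_cancel_right]
    have hdfix : act s d = d := by
      rw [hd, map_mul, map_inv, hcom, hsv]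
    have hy : act s (x * (act a x)⁻¹) = d * (x * (act a x)⁻¹) := by
      rw [map_mul, map_inv, hcom, hd', hu, map_mul, map_inv, mul_inv, inv_inv]
      rw [mul_mul_mul_comm (act s x * x⁻¹), mul_assoc (act s x) x⁻¹, mul_assoc]
      simp [mul_comm, mul_left_comm]
    have : d = 1 := key d _ hdfix hy
    exact (mem_stab act).2 (mul_inv_eq_one.1 (hd.symm.trans this))
  · have h2 : act s (v * u) = v * u := (mem_stab act).1 h
    rw [map_mul, hsv] at h2
    exact mul_left_cancel h2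

variable {G : Type u} [Group G] [Finite G]

/-- An operator sum over a normal subgroup outside the kernel vanishes. -/
theorem sum_eq_zero {n : ℕ} (ρ : Representation ℂ G (Fin n → ℂ)) [ρ.IsIrreducible] (A : Subgroup G)
    [A.Normal] [Fintype A] (hA : ∃ a : A, ρ (a : G) ≠ LinearMap.id) :
    ∑ a : A, ρ (a : G) = 0 := by
  classical
  set P := ∑ a : A, ρ (a : G) with hP
  have hmove : ∀ (g : G) v, P (ρ g v) = ρ g (P v) := by
    intro g v
    rw [hP, LinearMap.sum_apply, LinearMap.sum_apply, map_sum]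
    refine Fintype.sum_equiv (MulAut.conjNormal g⁻¹ : MulAut A).toEquiv _ _ fun a => ?_
    show ρ (a : G) (ρ g v) = ρ g (ρ ((MulAut.conjNormal g⁻¹ a : A) : G) v)
    rw [← Module.End.mul_apply, ← Module.End.mul_apply, ← map_mul, ← map_mul,
      MulAut.conjNormal_apply]
    congr 2
    group
  obtain ⟨c, hc⟩ := schur_scalar ρ P hmove
  obtain ⟨a, ha⟩ := hA
  have hfix : ρ (a : G) * P = P := by
    rw [hP, Finset.mul_sum]
    refine Fintype.sum_equiv (Equiv.mulLeft a) _ _ fun b => ?_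
    rw [Equiv.coe_mulLeft, Subgroup.coe_mul, map_mul]
  by_contra hne
  have hc0 : c ≠ 0 := fun h => hne (by rw [hc, h, zero_smul])
  rw [hc, show (LinearMap.id : (Fin n → ℂ) →ₗ[ℂ] _) = (1 : Module.End ℂ (Fin n → ℂ)) from rfl,
    mul_smul_comm, mul_one] at hfix
  exact ha (smul_right_injective _ hc0 hfix)

/-- A character vanishes at an element conjugate to all its translates by a central line. -/
theorem van_of_translates (A : Subgroup G) [A.Normal] [Fintype A] {a₀ : A} (ha₀ : (a₀ : G) ≠ 1)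
    {w : G} (h : ∀ a : A, IsConj w ((a : G) * w)) : Van w := by
  classical
  haveI := Fintype.ofFinite G
  obtain ⟨χ, hχ⟩ : ∃ χ : Cfsg.IrrCharacter G, (χ : G → ℂ) a₀ ≠ (χ : G → ℂ) 1 := by
    by_contra hall
    push Not at hall
    exact ha₀ (isConj_one_right.mp ((isConj_iff_forall_irr 1 (a₀ : G)).mpr fun χ => (hall χ).symm))
  refine ⟨χ, ?_⟩
  obtain ⟨n, ρ, hρ, hρχ⟩ := χ.2
  haveI := hρ
  have hne : ∃ a : A, ρ (a : G) ≠ LinearMap.id := ⟨a₀, fun he => hχ (by
    rw [← hρχ, Representation.character, he, LinearMap.trace_id, ρ.char_one])⟩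
  have h1 : ∀ a : A, (χ : G → ℂ) ((a : G) * w) = (χ : G → ℂ) w := fun a => by
    obtain ⟨g, hg⟩ := isConj_iff.1 (h a)
    rw [← hg]
    exact isClassFunction_irr χ w g
  have h2 : ∑ a : A, (χ : G → ℂ) ((a : G) * w) = 0 := by
    rw [← hρχ]
    show ∑ a : A, LinearMap.trace ℂ _ (ρ ((a : G) * w)) = 0
    rw [← map_sum, show (∑ a : A, ρ ((a : G) * w)) = (∑ a : A, ρ (a : G)) * ρ w by
      rw [Finset.sum_mul]; simp only [map_mul], sum_eq_zero ρ A hne, zero_mul, map_zero]
  rw [Finset.sum_congr rfl fun a _ => h1 a, Finset.sum_const, nsmul_eq_mul] at h2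
  exact (mul_eq_zero.1 h2).resolve_left (Nat.cast_ne_zero.2 (Finset.card_ne_zero.2 ⟨1, Finset.mem_univ _⟩))

section Setting

variable (U : Subgroup G) [U.Normal] (A : Subgroup (G ⧸ U)) [A.Normal]

set_option maxHeartbeats 1000000 in
/-- Elements with a power over an abelian normal `p`-subgroup acting faithfully vanish. -/
theorem van_of_power (hU : ∀ a ∈ U, ∀ b ∈ U, a * b = b * a) (hUp : ¬ p ∣ Nat.card U)
    (hO : Cfsg.pCore p G = ⊥) (hAab : ∀ a ∈ A, ∀ b ∈ A, a * b = b * a) (hAp : IsPGroup p A)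
    {g : G} {k : ℕ} (hk : QuotientGroup.mk' U (g ^ k) ∈ A) (hk1 : QuotientGroup.mk' U (g ^ k) ≠ 1) :
    Van g := by
  classical
  haveI := Fintype.ofFinite G
  haveI := Fintype.ofFinite U
  set π := QuotientGroup.mk' U with hπ
  set W := A.comap π with hW
  haveI : W.Normal := Subgroup.Normal.comap inferInstance _
  have hUW : U ≤ W := fun x hx => by
    rw [hW, mem_comap, show π x = 1 from (QuotientGroup.eq_one_iff x).2 hx]
    exact one_mem _
  obtain ⟨m, hm⟩ := IsPGroup.iff_card.1 hAp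
  have hWcard : Nat.card W = Nat.card U * p ^ m := by
    rw [hW, Cfsg.Lib.Coprime.card_comap_mk' A, hm]
  obtain ⟨S₀⟩ := (inferInstance : Nonempty (Sylow p W))
  set S := (S₀ : Subgroup W).map W.subtype with hS
  have hSW : S ≤ W := map_subtype_le _
  have hScard : Nat.card S = p ^ m := by
    rw [hS, Subgroup.card_map_of_injective W.subtype_injective, S₀.card_eq_multiplicity, hWcard,
      Nat.factorization_mul Nat.card_pos.ne' (pow_ne_zero _ hp.out.ne_zero), Finsupp.add_apply,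
      Nat.factorization_eq_zero_of_not_dvd hUp, zero_add, hp.out.factorization_pow,
      Finsupp.single_eq_same]
  have hcopUS : (Nat.card U).Coprime (Nat.card S) := by
    rw [hScard]
    exact ((hp.out.coprime_iff_not_dvd.2 hUp).symm).pow_right m
  have hinf : U ⊓ S = ⊥ := Cfsg.Lib.Coprime.inf_eq_bot_of_coprime hcopUS
  have hsup : U ⊔ S = W := by
    refine Subgroup.eq_of_le_of_card_ge (sup_le hUW hSW) ?_
    rw [Cfsg.Lib.Coprime.card_sup_coprime (by rw [normalizer_eq_top_iff.2 inferInstance]; exact le_top)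
      hcopUS, hWcard, hScard]
  have hSp : IsPGroup p S := IsPGroup.of_card hScard
  -- the Sylow subgroup is abelian
  have hSab : ∀ a b : S, a * b = b * a := by
    intro a b
    have h1 : π ((a : G) * b * (a : G)⁻¹ * (b : G)⁻¹) = 1 := by
      rw [map_mul, map_mul, map_mul, map_inv, map_inv,
        hAab (π a) (hSW a.2) (π b) (hSW b.2)]
      group
    have h2 : (a : G) * b * (a : G)⁻¹ * (b : G)⁻¹ ∈ U ⊓ S :=
      ⟨(QuotientGroup.eq_one_iff _).1 h1, S.mul_mem (S.mul_mem (S.mul_mem a.2 b.2) (S.inv_mem a.2)) (S.inv_mem b.2)⟩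
    rw [hinf, mem_bot, mul_inv_eq_one, mul_inv_eq_iff_eq_mul] at h2
    exact Subtype.ext h2
  set act : S →* MulAut (U →* ℂˣ) := (dualAct U).comp S.subtype with hact
  have hfaith : ∀ s : S, (∀ μ : U →* ℂˣ, act s μ = μ) → s = 1 := by
    intro s hs
    set R : Subgroup G := W ⊓ centralizer (U : Set G) with hR
    have hsR : (s : G) ∈ R := ⟨hSW s.2, mem_centralizer_iff.2 fun u hu =>
      (commute_of_fixes (fun a b => Subtype.ext (hU a a.2 b b.2)) hs hu).symm⟩
    -- the p-elements of the centraliser form a normal subgroup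
    haveI : (S ⊓ centralizer (U : Set G)).Normal := by
      refine ⟨fun t ht g => ?_⟩
      have hgt : g * t * g⁻¹ ∈ R :=
        (inferInstance : R.Normal).conj_mem t ⟨hSW ht.1, ht.2⟩ g
      obtain ⟨u, hu, t', ht', hut⟩ := Subgroup.mem_sup_of_normal_left.1 (hsup.symm ▸ hgt.1 : g * t * g⁻¹ ∈ U ⊔ S)
      have hucent : u ∈ centralizer (U : Set G) := mem_centralizer_iff.2 fun y hy => hU y hy u hu
      have ht'c : t' ∈ centralizer (U : Set G) := by
        rw [show t' = u⁻¹ * (g * t * g⁻¹) by rw [← hut]; group]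
        exact mul_mem (inv_mem hucent) hgt.2
      have hcomm : Commute u t' := mem_centralizer_iff.1 ht'c u hu
      obtain ⟨j, hj⟩ := hSp ⟨t, ht.1⟩
      have hpow : (g * t * g⁻¹) ^ p ^ (j + m) = 1 := by
        rw [conj_pow, pow_add, pow_mul, show t ^ p ^ j = 1 from congrArg Subtype.val hj, one_pow,
          mul_one, mul_inv_cancel]
      rw [← hut, hcomm.mul_pow] at hpow
      have ht'pow : t' ^ p ^ (j + m) = 1 := by
        rw [pow_add, pow_mul', ← hScard]
        have := congrArg Subtype.val (pow_card_eq_one' (x := (⟨t', ht'⟩ : S)))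
        rw [Subgroup.coe_pow, Subgroup.coe_one] at this
        rw [show t' ^ Nat.card S = 1 from this, one_pow]
      rw [ht'pow, mul_one] at hpow
      have hu1 : u = 1 := orderOf_eq_one_iff.1 (Nat.eq_one_of_dvd_coprimes
        ((hp.out.coprime_iff_not_dvd.2 hUp).pow_left (j + m)) (orderOf_dvd_of_pow_eq_one hpow)
        (by rw [← Subgroup.orderOf_mk u hu]; exact orderOf_dvd_natCard _))
      rw [← hut, hu1, one_mul]
      exact ⟨ht', ht'c⟩
    have h1 : S ⊓ centralizer (U : Set G) ≤ Cfsg.pCore p G :=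
      Cfsg.Lib.Components.le_pCore (hSp.to_le inf_le_left)
    rw [hO] at h1
    exact Subtype.ext (mem_bot.1 (h1 ⟨s.2, hsR.2⟩))
  have hcopD : (Nat.card S).Coprime (Nat.card (U →* ℂˣ)) := by
    rw [Cfsg.Lib.Palfy.card_dual fun a b : U => Subtype.ext (hU a a.2 b b.2)]
    exact hcopUS.symm
  have r1 := @exists_regular S _ _ hSab (U →* ℂˣ)
  have r2 := r1 act
  have r3 := r2 hcopD
  obtain ⟨μ, hμ⟩ := r3 hfaith
  have hlam : Cfsg.IsIrrCharacter U (fun u : U => (μ u : ℂ)) := isIrrCharacter_linear μ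
  set T := inertia U (fun u : U => (μ u : ℂ)) with hT
  have hUT : U ≤ T := le_inertia (isClassFunction_irr ⟨_, hlam⟩)
  letI := Fintype.ofFinite T
  obtain ⟨χ, hχ, hχc⟩ := exists_over U hlam
  obtain ⟨ψ, hψ, hχψ, hψc⟩ := exists_constituent_over T hUT (isCharacter_of_irr hχ) hχc
  obtain ⟨hind, -, -⟩ := clifford_correspondence hlam T hT hUT hχ hψ hχψ hψc
  refine ⟨⟨χ, hχ⟩, ?_⟩
  show χ g = 0
  rw [← hind, indFun_apply]
  refine mul_eq_zero_of_right _ (Finset.sum_eq_zero fun x _ => extendByZero_not_mem _ fun hx => hk1 ?_)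
  have hyT : x⁻¹ * g ^ k * x ∈ T := by
    have h := pow_mem hx k
    rwa [show (x⁻¹ * g * x) ^ k = x⁻¹ * g ^ k * x by
      simpa using conj_pow (a := x⁻¹) (b := g) (i := k)] at h
  have hyW : x⁻¹ * g ^ k * x ∈ W := by
    have h := (inferInstance : W.Normal).conj_mem (g ^ k) hk x⁻¹
    rwa [inv_inv] at h
  obtain ⟨u, hu, s, hs, hus⟩ := Subgroup.mem_sup_of_normal_left.1 (hsup.symm ▸ hyW : _ ∈ U ⊔ S)
  have hsT : s ∈ T := by
    rw [show s = u⁻¹ * (x⁻¹ * g ^ k * x) by rw [← hus]; group]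
    exact mul_mem (inv_mem (hUT hu)) hyT
  have he : act ⟨s, hs⟩ μ = μ := (mem_inertia_iff_dual s μ).1 hsT
  have hs1 : (⟨s, hs⟩ : S) ∈ stab act μ := he
  rw [hμ, mem_bot] at hs1
  have hs1' : s = 1 := congrArg Subtype.val hs1
  rw [hs1', mul_one] at hus
  have : g ^ k ∈ U := by
    rw [show g ^ k = x * u * x⁻¹ by rw [hus]; group]
    exact (inferInstance : U.Normal).conj_mem u hu x
  exact (QuotientGroup.eq_one_iff _).2 this

end Setting

/-- A `p`-element lift. -/
theorem exists_p_lift {X : Type u} [Group X] [Finite X] (f : G →* X) (hf : Function.Surjective f)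
    {y : X} {k : ℕ} (hy : y ^ p ^ k = 1) : ∃ x : G, f x = y ∧ ∃ j : ℕ, orderOf x = p ^ j := by
  obtain ⟨x₀, rfl⟩ := hf y
  obtain ⟨a, r, hr, har⟩ := Nat.exists_eq_pow_mul_and_not_dvd (orderOf_pos x₀).ne' p hp.out.ne_one
  obtain ⟨t, ht⟩ : ∃ t, r * t ≡ 1 [MOD p ^ (k + 1)] := by
    obtain ⟨t, -, ht⟩ := Nat.exists_mul_mod_eq_one_of_coprime (n := r) (k := p ^ (k + 1))
      (((hp.out.coprime_iff_not_dvd.2 hr).symm).pow_right _) (Nat.one_lt_pow k.succ_ne_zero hp.out.one_lt)
    exact ⟨t, by rw [Nat.ModEq, ht, Nat.mod_eq_of_lt (Nat.one_lt_pow k.succ_ne_zero hp.out.one_lt)]⟩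
  refine ⟨x₀ ^ (r * t), ?_, ?_⟩
  · rw [map_pow]
    conv_rhs => rw [← pow_one (f x₀)]
    exact pow_eq_pow_iff_modEq.2 (Nat.ModEq.of_dvd
      ((orderOf_dvd_of_pow_eq_one hy).trans (pow_dvd_pow p (Nat.le_succ k))) ht)
  · have h1 : (x₀ ^ (r * t)) ^ p ^ a = 1 := by
      rw [← pow_mul, show r * t * p ^ a = orderOf x₀ * t by rw [har]; ring, pow_mul,
        pow_orderOf_eq_one, one_pow]
    obtain ⟨j, -, hj⟩ := (Nat.dvd_prime_pow hp.out).1 (orderOf_dvd_of_pow_eq_one h1)
    exact ⟨j, hj⟩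

/-- The minimal normal subgroup and the centre above it. -/
theorem exists_setting (hsol : Group.IsSolvable G) (hO : Cfsg.pCore p G = ⊥) (hG : Nontrivial G) :
    ∃ U : Subgroup G, U.Normal ∧ U ≠ ⊥ ∧ (∀ a ∈ U, ∀ b ∈ U, a * b = b * a) ∧ ¬ p ∣ Nat.card U := by
  obtain ⟨U, -, hUn, hUb, hmin⟩ := Cfsg.Lib.Coprime.exists_minimal_normal (G := G) (K := ⊤)
    inferInstance (top_ne_bot)
  haveI := hUn
  haveI := hsol
  obtain ⟨hab, q, hq, hUq, -⟩ := Cfsg.Lib.Coprime.minimal_normal_solvable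
    (inferInstance : Group.IsSolvable U) hUb hmin
  refine ⟨U, hUn, hUb, fun a ha b hb => congrArg Subtype.val (hab.is_comm.comm ⟨a, ha⟩ ⟨b, hb⟩), fun h => hUb ?_⟩
  haveI := Fact.mk hq
  have hqp : q = p := by
    obtain ⟨j, hj⟩ := IsPGroup.iff_card.1 hUq
    rw [hj] at h
    exact ((Nat.prime_dvd_prime_iff_eq hp.out hq).1 (hp.out.dvd_of_dvd_pow h)).symm
  subst hqp
  exact le_bot_iff.1 (hO ▸ Cfsg.Lib.Components.le_pCore hUq)

/-- Some `p`-element vanishes. -/
theorem exists_van : ∀ (n : ℕ) (G : Type u) [Group G] [Finite G], Nat.card G = n →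
    Group.IsSolvable G → Cfsg.pCore p G = ⊥ → p ∣ Nat.card G →
    ∃ x : G, Van x ∧ ∃ k : ℕ, orderOf x = p ^ (k + 1) := by
  intro n
  induction n using Nat.strong_induction_on with
  | _ n ih =>
  intro G _ _ hn hsol hO hdvd
  haveI := hsol
  have hnt : Nontrivial G :=
    Finite.one_lt_card_iff_nontrivial.1 (lt_of_lt_of_le hp.out.one_lt (Nat.le_of_dvd Nat.card_pos hdvd))
  obtain ⟨U, hUn, hUb, hUab, hUp⟩ := exists_setting hsol hO hnt
  haveI := hUn
  set π := QuotientGroup.mk' U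
  have pos : ∀ {x : G}, π x ≠ 1 → (∃ j : ℕ, orderOf x = p ^ j) → ∃ k : ℕ, orderOf x = p ^ (k + 1) := by
    rintro x hx ⟨_ | j, hj⟩
    · exact absurd (by rw [orderOf_eq_one_iff.1 (hj.trans (pow_zero p)), map_one]) hx
    · exact ⟨j, hj⟩
  by_cases hQ : Cfsg.pCore p (G ⧸ U) = ⊥
  · obtain ⟨y, hy, k, hk⟩ := ih _ (hn ▸ Cfsg.Lib.Coprime.card_quotient_lt hUb) (G ⧸ U) rfl
      (Group.isSolvable_of_surjective (QuotientGroup.mk'_surjective U)) hQ (by
        rw [Subgroup.card_eq_card_quotient_mul_card_subgroup U] at hdvd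
        exact (hp.out.dvd_mul.1 hdvd).resolve_right hUp)
    obtain ⟨x, hx, hxo⟩ := exists_p_lift π (QuotientGroup.mk'_surjective U)
      (show y ^ p ^ (k + 1) = 1 by rw [← hk, pow_orderOf_eq_one])
    refine ⟨x, Van.lift π (QuotientGroup.mk'_surjective U) (hx.symm ▸ hy), pos ?_ hxo⟩
    rw [hx]
    intro h
    rw [h, orderOf_one] at hk
    exact (Nat.one_lt_pow k.succ_ne_zero hp.out.one_lt).ne hk
  · haveI : (Cfsg.pCore p (G ⧸ U)).Normal := Cfsg.Lib.Components.pCore_normal' (G := G ⧸ U) p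
    set Q := Cfsg.pCore p (G ⧸ U) with hQdef
    set A := (Subgroup.center Q).map Q.subtype with hA
    haveI : A.Normal := inferInstance
    have hQp : IsPGroup p Q := Cfsg.Lib.Components.isPGroup_pCore p
    haveI : Nontrivial Q := (Subgroup.nontrivial_iff_ne_bot Q).2 hQ
    haveI := hQp.center_nontrivial
    obtain ⟨⟨a, ha⟩, ha1⟩ := exists_ne (1 : Subgroup.center Q)
    obtain ⟨j, hj⟩ := hQp a
    obtain ⟨x, hx, hxo⟩ := exists_p_lift π (QuotientGroup.mk'_surjective U)
      (show (a : G ⧸ U) ^ p ^ j = 1 from congrArg Subtype.val hj)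
    have hxne : π x ≠ 1 := fun h => ha1 (Subtype.ext (Subtype.ext (hx.symm.trans h)))
    refine ⟨x, van_of_power (p := p) U A hUab hUp hO ?_ ((hQp.to_subgroup _).map _) (k := 1) ?_ ?_,
      pos hxne hxo⟩
    · rintro _ ⟨b, hb, rfl⟩ _ ⟨c, -, rfl⟩
      rw [← map_mul, ← map_mul, Subgroup.mem_center_iff.1 hb c]
    · rw [pow_one]; exact ⟨a, ha, hx.symm⟩
    · rw [pow_one]; exact hxne

/-- The hypothesis passed to quotients by the `p`-core. -/
def Good (p : ℕ) (G : Type u) [Group G] : Prop :=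
  ∀ x : G, Van x → p ∣ orderOf x → (∃ k : ℕ, orderOf x = p ^ k) ∧ (x ^ p ≠ 1 → ¬ Van (x ^ p))

theorem Good.of_surjective {X : Type u} [Group X] [Finite X] (h : Good p G) (f : G →* X)
    (hf : Function.Surjective f) : Good p X := by
  intro y hy hdvd
  obtain ⟨x, rfl⟩ := hf y
  obtain ⟨⟨k, hk⟩, h2⟩ := h x (hy.lift f hf) (hdvd.trans (orderOf_map_dvd f x))
  refine ⟨?_, fun hne hv => h2 (fun e => hne (by rw [← map_pow, e, map_one]))
    (Van.lift f hf (by rw [map_pow]; exact hv))⟩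
  obtain ⟨j, -, hj⟩ := (Nat.dvd_prime_pow hp.out).1 (hk ▸ orderOf_map_dvd f x)
  exact ⟨j, hj⟩

/-- A fixed-point-free non-cyclic coprime abelian group cannot act. -/
theorem false_of_plane {U E : Subgroup G} [U.Normal] [IsMulCommutative E] (hU : U ≠ ⊥)
    (hE : ¬ IsCyclic E) (hcop : (Nat.card E).Coprime (Nat.card U))
    (hfpf : ∀ e ∈ E, e ≠ 1 → ∀ u ∈ U, e * u = u * e → u = 1) : False := by
  refine hU (le_bot_iff.1 ?_)
  rw [← Cfsg.Lib.Coprime.centralizerJoin_eq hE
    (by rw [normalizer_eq_top_iff.2 inferInstance]; exact le_top) hcop]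
  refine iSup₂_le fun e he u hu => ?_
  exact mem_bot.2 (hfpf e he.1 he.2 u hu.1 (mem_centralizer_iff.1 hu.2 e rfl))

/-- **The core case.** -/
theorem factorization_le_one : ∀ (n : ℕ) (G : Type u) [Group G] [Finite G], Nat.card G = n →
    Group.IsSolvable G → Cfsg.pCore p G = ⊥ → Good p G → (Nat.card G).factorization p ≤ 1 := by
  intro n
  induction n using Nat.strong_induction_on with
  | _ n ih =>
  intro G _ _ hn hsol hO hgood
  haveI := hsol
  classical
  by_cases hdvd : p ∣ Nat.card G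
  swap
  · rw [Nat.factorization_eq_zero_of_not_dvd hdvd]; exact Nat.zero_le _
  have hnt : Nontrivial G :=
    Finite.one_lt_card_iff_nontrivial.1 (lt_of_lt_of_le hp.out.one_lt (Nat.le_of_dvd Nat.card_pos hdvd))
  obtain ⟨U, hUn, hUb, hUab, hUp⟩ := exists_setting hsol hO hnt
  haveI := hUn
  set π := QuotientGroup.mk' U with hπ
  have hπs := QuotientGroup.mk'_surjective U
  have hfac : (Nat.card G).factorization p = (Nat.card (G ⧸ U)).factorization p := by
    rw [Subgroup.card_eq_card_quotient_mul_card_subgroup U,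
      Nat.factorization_mul Nat.card_pos.ne' Nat.card_pos.ne', Finsupp.add_apply,
      Nat.factorization_eq_zero_of_not_dvd hUp, add_zero]
  rw [hfac]
  by_cases hQ : Cfsg.pCore p (G ⧸ U) = ⊥
  · exact ih _ (hn ▸ Cfsg.Lib.Coprime.card_quotient_lt hUb) (G ⧸ U) rfl
      (Group.isSolvable_of_surjective hπs) hQ (hgood.of_surjective π hπs)
  haveI : (Cfsg.pCore p (G ⧸ U)).Normal := Cfsg.Lib.Components.pCore_normal' (G := G ⧸ U) p
  set Q := Cfsg.pCore p (G ⧸ U) with hQdef
  set A := (Subgroup.center Q).map Q.subtype with hA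
  haveI : A.Normal := inferInstance
  letI := Fintype.ofFinite A
  have hQp : IsPGroup p Q := Cfsg.Lib.Components.isPGroup_pCore p
  haveI : Nontrivial Q := (Subgroup.nontrivial_iff_ne_bot Q).2 hQ
  haveI := hQp.center_nontrivial
  have hAp : IsPGroup p A := (hQp.to_subgroup _).map _
  have hAab : ∀ a ∈ A, ∀ b ∈ A, a * b = b * a := by
    rintro _ ⟨b, hb, rfl⟩ _ ⟨c, -, rfl⟩
    rw [← map_mul, ← map_mul, Subgroup.mem_center_iff.1 hb c]
  have hAQ : A ≤ Q := map_subtype_le _
  obtain ⟨a₀, ha₀, ha₀1⟩ : ∃ a ∈ A, a ≠ 1 := by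
    obtain ⟨⟨a, ha⟩, ha1⟩ := exists_ne (1 : Subgroup.center Q)
    exact ⟨a, ⟨a, ha, rfl⟩, fun h => ha1 (Subtype.ext (Subtype.ext h))⟩
  have van : ∀ (g : G) (k : ℕ), π (g ^ k) ∈ A → π (g ^ k) ≠ 1 → Van g := fun g k h1 h2 =>
    van_of_power (p := p) U A hUab hUp hO hAab hAp h1 h2
  have dvdp : ∀ {y : G ⧸ U}, y ∈ Q → y ≠ 1 → p ∣ orderOf y := by
    intro y hy hy1
    obtain ⟨j, hj⟩ := IsPGroup.iff_orderOf.1 hQp ⟨y, hy⟩
    rw [Subgroup.orderOf_mk] at hj
    rw [hj]
    exact dvd_pow_self p fun h => hy1 (orderOf_eq_one_iff.1 (by rw [hj, h, pow_zero]))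
  -- elements over `Q` that reach `A`
  have exp : ∀ y ∈ Q, y ^ p ∈ A → y ^ p = 1 := by
    intro y hy hyA
    by_contra hne
    obtain ⟨j, hj⟩ := hQp ⟨y, hy⟩
    obtain ⟨x, hx, -⟩ := exists_p_lift π hπs (show y ^ p ^ j = 1 from congrArg Subtype.val hj)
    have hy1 : y ≠ 1 := fun h => hne (by rw [h, one_pow])
    have hv : Van x := van x p (by rw [map_pow, hx]; exact hyA) (by rw [map_pow, hx]; exact hne)
    have hd : p ∣ orderOf x := (dvdp hy hy1).trans (hx ▸ orderOf_map_dvd π x)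
    refine (hgood x hv hd).2 (fun e => hne (by rw [← hx, ← map_pow, e, map_one]))
      (van (x ^ p) 1 (by rw [pow_one, map_pow, hx]; exact hyA) (by rw [pow_one, map_pow, hx]; exact hne))
  -- vanishing cosets act without fixed points
  have fpf : ∀ (x : G), π x ∈ Q → π x ≠ 1 → (∀ z : G, π z = π x → Van z) → ∀ u ∈ U, x * u = u * x →
      (∃ j, orderOf x = p ^ j) → u = 1 := by
    intro x hxQ hx1 hall u hu hcomm ⟨j, hj⟩
    have hπu : π u = 1 := (QuotientGroup.eq_one_iff u).2 hu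
    have hd : p ∣ orderOf (x * u) := by
      refine (dvdp hxQ hx1).trans ?_
      have := orderOf_map_dvd π (x * u)
      rwa [map_mul, hπu, mul_one] at this
    obtain ⟨⟨i, hi⟩, -⟩ := hgood (x * u) (hall _ (by rw [map_mul, hπu, mul_one])) hd
    have h1 : u ^ p ^ (i + j) = 1 := by
      have h2 : (x * u) ^ p ^ (i + j) = 1 := by
        rw [pow_add, pow_mul, ← hi, pow_orderOf_eq_one, one_pow]
      have h3 : x ^ p ^ (i + j) = 1 := by
        rw [pow_add, pow_mul', ← hj, pow_orderOf_eq_one, one_pow]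
      rwa [(show Commute x u from hcomm).mul_pow, h3, one_mul] at h2
    exact orderOf_eq_one_iff.1 (Nat.eq_one_of_dvd_coprimes
      ((hp.out.coprime_iff_not_dvd.2 hUp).pow_left (i + j)) (orderOf_dvd_of_pow_eq_one h1)
      (by rw [← Subgroup.orderOf_mk u hu]; exact orderOf_dvd_natCard _))
  -- a Sylow subgroup over `Q`
  set W := Q.comap π with hW
  obtain ⟨S₀⟩ := (inferInstance : Nonempty (Sylow p W))
  set S := (S₀ : Subgroup W).map W.subtype with hS
  have hSW : S ≤ W := map_subtype_le _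
  have hSp : IsPGroup p S := S₀.2.map _
  have hcopS : (Nat.card S).Coprime (Nat.card U) := by
    obtain ⟨m, hm⟩ := IsPGroup.iff_card.1 hSp
    rw [hm]
    exact (hp.out.coprime_iff_not_dvd.2 hUp).pow_left m
  have hinj : ∀ s ∈ S, π s = 1 → s = 1 := fun s hs h =>
    Cfsg.Lib.Coprime.eq_one_of_coprime hcopS hs ((QuotientGroup.eq_one_iff s).1 h)
  have hSsur : ∀ y ∈ Q, ∃ s ∈ S, π s = y := by
    intro y hy
    set f : W →* Q := (π.comp W.subtype).codRestrict Q (fun m => m.2)
    have hfs : Function.Surjective f := fun z => by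
      obtain ⟨g, hg⟩ := hπs (z : G ⧸ U)
      exact ⟨⟨g, show π g ∈ Q from hg ▸ z.2⟩, Subtype.ext hg⟩
    have h := (S₀.mapSurjective hfs).3 (Q := ⊤) (hQp.to_subgroup _) le_top
    have hy' : (⟨y, hy⟩ : Q) ∈ ((S₀.mapSurjective hfs : Sylow p Q) : Subgroup Q) := h ▸ mem_top _
    rw [Sylow.coe_mapSurjective] at hy'
    obtain ⟨s, hs, hsy⟩ := hy'
    exact ⟨s, ⟨s, hs, rfl⟩, congrArg Subtype.val hsy⟩
  have hord : ∀ s ∈ S, ∃ j, orderOf s = p ^ j := fun s hs => by
    obtain ⟨j, hj⟩ := IsPGroup.iff_orderOf.1 hSp ⟨s, hs⟩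
    exact ⟨j, by rwa [Subgroup.orderOf_mk] at hj⟩
  -- planes in `Q` with vanishing cosets are impossible
  have plane : ∀ (E : Subgroup (G ⧸ U)), E ≤ Q → (∀ a ∈ E, ∀ b ∈ E, a * b = b * a) →
      (∀ z : G, π z ∈ E → π z ≠ 1 → Van z) → IsCyclic E := by
    intro E hEQ hEab hvanE
    by_contra hnc
    set E' := E.comap π ⊓ S with hE'
    haveI : IsMulCommutative E' := ⟨⟨fun a b => Subtype.ext (by
      have h1 : π ((a : G) * b * (a : G)⁻¹ * (b : G)⁻¹) = 1 := by
        rw [map_mul, map_mul, map_mul, map_inv, map_inv, hEab (π a) a.2.1 (π b) b.2.1]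
        group
      have h2 := hinj _ (mul_mem (mul_mem (mul_mem a.2.2 b.2.2) (inv_mem a.2.2)) (inv_mem b.2.2)) h1
      rw [mul_inv_eq_one, mul_inv_eq_iff_eq_mul] at h2
      exact h2)⟩⟩
    refine false_of_plane hUb (E := E') (fun hc => hnc ?_) (hcopS.coprime_dvd_left
      (Subgroup.card_dvd_of_le inf_le_right)) fun e he he1 u hu hcomm => ?_
    · set f : E' →* E := (π.comp E'.subtype).codRestrict E (fun m => m.2.1)
      exact isCyclic_of_surjective f fun y => by
        obtain ⟨s, hs, hsy⟩ := hSsur y (hEQ y.2)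
        exact ⟨⟨s, show π s ∈ E from hsy ▸ y.2, hs⟩, Subtype.ext hsy⟩
    · have hne : π e ≠ 1 := fun h => he1 (hinj e he.2 h)
      exact fpf e (hEQ he.1) hne (fun z hz => hvanE z (hz ▸ he.1) (hz ▸ hne)) u hu hcomm (hord e he.2)
  haveI hAc : IsCyclic A := plane A hAQ hAab fun z hz hz1 => van z 1 (by rw [pow_one]; exact hz)
    (by rw [pow_one]; exact hz1)
  have hAcard : Nat.card A = p := by
    obtain ⟨c, hc⟩ := IsCyclic.exists_generator (α := A)
    have h1 : orderOf c = Nat.card A := orderOf_eq_card_of_forall_mem_zpowers hc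
    have h2 : orderOf c ∣ p := orderOf_dvd_of_pow_eq_one (Subtype.ext (exp (c : G ⧸ U) (hAQ c.2) (pow_mem c.2 p)))
    rcases (Nat.dvd_prime hp.out).1 (h1 ▸ h2) with h | h
    · exact absurd ((Subgroup.eq_bot_iff_forall A).1 (A.eq_bot_of_card_eq h) a₀ ha₀) ha₀1
    · exact h
  -- the centraliser of `A`
  set C := centralizer (A : Set (G ⧸ U)) with hC
  have hCp : IsPGroup p C := by
    obtain ⟨m, t, ht, hmt⟩ := Nat.exists_eq_pow_mul_and_not_dvd (Nat.card_pos (α := C)).ne' p hp.out.ne_one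
    refine IsPGroup.of_card (n := m) ?_
    suffices h : t = 1 by rw [hmt, h, mul_one]
    by_contra ht1
    obtain ⟨r, hr, hrt⟩ := Nat.exists_prime_and_dvd ht1
    haveI := Fact.mk hr
    have hrp : ¬ p ∣ r := fun h => ht (h.trans hrt)
    obtain ⟨c, hc⟩ := exists_prime_orderOf_dvd_card' r (hmt ▸ dvd_mul_of_dvd_right hrt _ : r ∣ Nat.card C)
    obtain ⟨g, hg⟩ := hπs (a₀ * (c : G ⧸ U))
    have hcomm : Commute a₀ (c : G ⧸ U) := mem_centralizer_iff.1 c.2 a₀ ha₀
    have ha₀p : a₀ ^ p = 1 := exp a₀ (hAQ ha₀) (pow_mem ha₀ p)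
    have hco : orderOf (c : G ⧸ U) = r := by rw [Subgroup.orderOf_coe]; exact hc
    have hao : orderOf a₀ = p := orderOf_eq_prime ha₀p ha₀1
    have hpow : π (g ^ r) = a₀ ^ r := by
      rw [map_pow, hg, hcomm.mul_pow, ← hco, pow_orderOf_eq_one, mul_one]
    have hne : a₀ ^ r ≠ 1 := fun h => hrp (hao ▸ orderOf_dvd_of_pow_eq_one h)
    have hord2 : orderOf (a₀ * (c : G ⧸ U)) = p * r := by
      rw [hcomm.orderOf_mul_eq_mul_orderOf_of_coprime (by
        rw [hao, hco]; exact hp.out.coprime_iff_not_dvd.2 hrp), hao, hco]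
    have hd : p * r ∣ orderOf g := hord2 ▸ hg ▸ orderOf_map_dvd π g
    obtain ⟨⟨k, hk⟩, -⟩ := hgood g (van g r (hpow ▸ pow_mem ha₀ r) (hpow ▸ hne))
      (dvd_of_mul_right_dvd hd)
    exact hrp (dvd_of_eq ((Nat.prime_dvd_prime_iff_eq hr hp.out).1
      (hr.dvd_of_dvd_pow (hk ▸ dvd_of_mul_left_dvd hd))).symm)
  haveI : C.Normal := inferInstance
  have hCQ : C = Q := by
    refine le_antisymm (Cfsg.Lib.Components.le_pCore hCp) fun y hy => mem_centralizer_iff.2 ?_
    rintro _ ⟨b, hb, rfl⟩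
    exact congrArg Subtype.val ((Subgroup.mem_center_iff.1 hb ⟨y, hy⟩).symm)
  -- the index of the centraliser divides `p - 1`
  have hidx : ¬ p ∣ Q.index := by
    intro h
    set c : G ⧸ U →* MulAut A := MulAut.conjNormal
    have hker : c.ker ≤ C := fun y hy => mem_centralizer_iff.2 fun b hb => by
      have h3 := congrArg (fun e : MulAut A => ((e ⟨b, hb⟩ : A) : G ⧸ U)) (MonoidHom.mem_ker.1 hy)
      simp only [c, MulAut.conjNormal_apply, MulAut.one_apply] at h3
      calc b * y = y * b * y⁻¹ * y := by rw [h3]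
        _ = y * b := by group
    have h1 : C.index ∣ Nat.card (MulAut A) := by
      refine (Subgroup.index_dvd_of_le hker).trans ?_
      rw [Subgroup.index_ker]
      exact Subgroup.card_subgroup_dvd_card _
    rw [IsCyclic.card_mulAut, hAcard, Nat.totient_prime hp.out] at h1
    rw [hCQ] at h1
    have h2 := Nat.le_of_dvd (Nat.sub_pos_of_lt hp.out.one_lt) (h.trans h1)
    exact absurd (lt_of_le_of_lt h2 (Nat.sub_lt hp.out.pos Nat.one_pos)) (lt_irrefl p)
  -- `Q` equals its centre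
  have hQA : Q ≤ A := by
    by_contra hne
    haveI : Nontrivial (Q ⧸ Subgroup.center Q) := by
      refine Finite.one_lt_card_iff_nontrivial.1 ?_
      rw [← Subgroup.index_eq_card]
      refine Subgroup.one_lt_index_of_ne_top fun h => hne fun y hy => ⟨⟨y, hy⟩, h ▸ mem_top _, rfl⟩
    have hQc : IsPGroup p (Q ⧸ Subgroup.center Q) := hQp.to_quotient _
    haveI := hQc.center_nontrivial
    obtain ⟨⟨z, hz⟩, hz1⟩ := exists_ne (1 : Subgroup.center (Q ⧸ Subgroup.center Q))
    obtain ⟨w₀, rfl⟩ := QuotientGroup.mk_surjective z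
    -- a power of order `p` modulo the centre
    obtain ⟨j, hj⟩ := IsPGroup.iff_orderOf.1 hQc (w₀ : Q ⧸ Subgroup.center Q)
    have hz1' : (w₀ : Q ⧸ Subgroup.center Q) ≠ 1 := fun h => hz1 (Subtype.ext h)
    obtain ⟨i, rfl⟩ : ∃ i, j = i + 1 := by
      rcases j with _ | i
      · exact absurd (orderOf_eq_one_iff.1 (hj.trans (pow_zero p))) hz1'
      · exact ⟨i, rfl⟩
    set w := w₀ ^ p ^ i with hw
    have hwc : w ∉ Subgroup.center Q := fun h => by
      rw [← QuotientGroup.eq_one_iff, hw, QuotientGroup.mk_pow] at h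
      have h2 := orderOf_dvd_of_pow_eq_one h
      rw [hj] at h2
      have := (Nat.pow_dvd_pow_iff_le_right hp.out.one_lt).1 h2
      omega
    have hwp : w ^ p ∈ Subgroup.center Q := by
      rw [← QuotientGroup.eq_one_iff, hw, ← pow_mul, ← pow_succ, QuotientGroup.mk_pow, ← hj,
        pow_orderOf_eq_one]
    have hwA : (w : G ⧸ U) ∉ A := fun ⟨b, hb, hbw⟩ => hwc (Subtype.ext hbw.symm ▸ hb)
    have hw1 : (w : G ⧸ U) ^ p = 1 := exp _ w.2 ⟨w ^ p, hwp, rfl⟩
    have hcom : ∀ q : Q, ⁅q, w⁆ ∈ Subgroup.center Q := fun q => by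
      rw [← QuotientGroup.eq_one_iff, ← QuotientGroup.mk'_apply, map_commutatorElement,
        commutatorElement_eq_one_iff_mul_comm, QuotientGroup.mk'_apply, QuotientGroup.mk'_apply, hw,
        QuotientGroup.mk_pow]
      exact Subgroup.mem_center_iff.1 (pow_mem hz _) _
    obtain ⟨q, hq⟩ : ∃ q : Q, ⁅q, w⁆ ≠ 1 := by
      by_contra hall
      push Not at hall
      exact hwc (Subgroup.mem_center_iff.2 fun q => commutatorElement_eq_one_iff_mul_comm.1 (hall q))
    -- every translate is conjugate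
    have htr : ∀ b : A, ∃ g ∈ Q, g * (w : G ⧸ U) * g⁻¹ = (b : G ⧸ U) * w := by
      intro b
      set c₁ : A := ⟨((⁅q, w⁆ : Q) : G ⧸ U), ⟨⁅q, w⁆, hcom q, rfl⟩⟩ with hc₁
      have hc₁1 : c₁ ≠ 1 := fun h => hq (Subtype.ext (congrArg (fun z : A => (z : G ⧸ U)) h))
      haveI : Fact (Nat.card A).Prime := ⟨hAcard.symm ▸ hp.out⟩
      obtain ⟨i, rfl⟩ := Submonoid.mem_powers_iff _ _ |>.1
        ((isOfFinOrder_of_finite c₁).mem_powers_iff_mem_zpowers.2
          (mem_zpowers_of_prime_card rfl hc₁1 : b ∈ zpowers c₁))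
      refine ⟨(q : G ⧸ U) ^ i, pow_mem q.2 i, ?_⟩
      induction i with
      | zero => simp
      | succ i ih =>
        have h1 : (q : G ⧸ U) * w * (q : G ⧸ U)⁻¹ = c₁ * w := by
          rw [hc₁]
          simp [commutatorElement_def, mul_assoc]
        have h2 : (q : G ⧸ U) * c₁ = c₁ * q :=
          congrArg Subtype.val (Subgroup.mem_center_iff.1 (hcom q) q)
        rw [pow_succ', pow_succ', mul_inv_rev, Subgroup.coe_mul,
          show (q : G ⧸ U) * q ^ i * w * ((q ^ i : G ⧸ U)⁻¹ * (q : G ⧸ U)⁻¹) =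
            q * ((q : G ⧸ U) ^ i * w * ((q : G ⧸ U) ^ i)⁻¹) * (q : G ⧸ U)⁻¹ by group, ih,
          Subgroup.coe_pow]
        calc (q : G ⧸ U) * ((c₁ : G ⧸ U) ^ i * w) * (q : G ⧸ U)⁻¹
            = ((q : G ⧸ U) * (c₁ : G ⧸ U) ^ i) * w * (q : G ⧸ U)⁻¹ := by group
          _ = ((c₁ : G ⧸ U) ^ i * q) * w * (q : G ⧸ U)⁻¹ := by
              rw [((show Commute (q : G ⧸ U) (c₁ : G ⧸ U) from h2).pow_right i).eq]
          _ = (c₁ : G ⧸ U) ^ i * (c₁ * w) := by rw [← h1]; group
          _ = (c₁ : G ⧸ U) * (c₁ : G ⧸ U) ^ i * w := by rw [← mul_assoc, ← pow_succ, pow_succ']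
    -- the plane
    set E : Subgroup (G ⧸ U) := A ⊔ zpowers (w : G ⧸ U) with hE
    have hEQ : E ≤ Q := sup_le hAQ (zpowers_le.2 w.2)
    have hwcomm : ∀ b ∈ A, Commute b (w : G ⧸ U) := by
      rintro _ ⟨b, hb, rfl⟩
      exact congrArg Subtype.val ((Subgroup.mem_center_iff.1 hb w).symm)
    have hform : ∀ y ∈ E, ∃ b ∈ A, ∃ k : ℕ, y = b * (w : G ⧸ U) ^ k := by
      intro y hy
      obtain ⟨b, hb, t, ht, rfl⟩ := Subgroup.mem_sup_of_normal_left.1 hy
      obtain ⟨k, rfl⟩ := (isOfFinOrder_of_finite _).mem_powers_iff_mem_zpowers.2 ht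
      exact ⟨b, hb, k, rfl⟩
    have hEab : ∀ y ∈ E, ∀ y' ∈ E, y * y' = y' * y := by
      intro y hy y' hy'
      obtain ⟨b, hb, k, rfl⟩ := hform y hy
      obtain ⟨b', hb', k', rfl⟩ := hform y' hy'
      have c1 : Commute b b' := hAab b hb b' hb'
      exact ((c1.mul_left ((hwcomm b' hb').symm.pow_left k)).mul_right
        (((hwcomm b hb).pow_right k').mul_left (Commute.pow_pow_self _ k k'))).eq
    have hcyc := plane E hEQ hEab fun z hz hz1 => by
      obtain ⟨b, hb, k, hzk⟩ := hform _ hz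
      by_cases hk : (w : G ⧸ U) ^ k ∈ A
      · exact van z 1 (by rw [pow_one, hzk]; exact mul_mem hb hk) (by rw [pow_one]; exact hz1)
      refine Van.lift π hπs ?_
      rw [hzk]
      refine van_of_translates A (a₀ := ⟨a₀, ha₀⟩) ha₀1 fun b' => ?_
      -- choose the conjugating element inside `Q`
      obtain ⟨t, ht⟩ : ∃ t : A, ((t : G ⧸ U)) ^ k = b' := by
        obtain ⟨t, ht⟩ := (powCoprime (G := A) (n := k) (by
          rw [hAcard]
          refine hp.out.coprime_iff_not_dvd.2 fun hd => hk ?_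
          obtain ⟨s, rfl⟩ := hd
          rw [pow_mul, hw1, one_pow]
          exact one_mem _)).surjective b'
        exact ⟨t, by rw [← Subgroup.coe_pow]; exact congrArg Subtype.val ht⟩
      obtain ⟨g, hgQ, hg⟩ := htr t
      refine isConj_iff.2 ⟨g, ?_⟩
      have hgb : g * b * g⁻¹ = b := by
        have hgC : g ∈ C := hCQ.symm ▸ hgQ
        rw [← mem_centralizer_iff.1 hgC b hb, mul_inv_cancel_right]
      rw [show g * (b * (w : G ⧸ U) ^ k) * g⁻¹ = (g * b * g⁻¹) * (g * w * g⁻¹) ^ k by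
        rw [conj_pow]; group, hgb, hg, (hwcomm _ t.2).mul_pow, ht, ← mul_assoc, ← mul_assoc,
        hAab b hb _ b'.2]
    -- a cyclic group has one subgroup of order `p`
    haveI := hcyc
    have hwo : Nat.card (zpowers (w : G ⧸ U)) = p := by
      rw [Nat.card_zpowers]
      exact orderOf_eq_prime hw1 fun h => hwA (h ▸ one_mem A)
    have heq : A = zpowers (w : G ⧸ U) := Cfsg.Lib.SolvStruct.CyclicProduct.eq_of_card_eq_of_isCyclic
      (A := E) le_sup_left le_sup_right (hAcard.trans hwo.symm)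
    exact hwA (heq.symm ▸ mem_zpowers _)
  have hQcard : Nat.card Q = p := by rw [le_antisymm hQA hAQ, hAcard]
  rw [← Q.card_mul_index, hQcard, Nat.factorization_mul hp.out.ne_zero Q.index_ne_zero_of_finite,
    Finsupp.add_apply, hp.out.factorization_self, Nat.factorization_eq_zero_of_not_dvd hidx]

/-- **All vanishing elements of order divisible by `p` have the same order.** -/
theorem card_sylow_le (hsol : Group.IsSolvable G) (b : ℕ)
    (hb : ∀ x : G, Van x → p ∣ orderOf x → orderOf x = b) (P : Sylow p G) :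
    Nat.card (P : Subgroup G) ≤ p * Nat.card (Cfsg.pCore p G) := by
  haveI := hsol
  haveI : (Cfsg.pCore p G).Normal := Cfsg.Lib.Components.pCore_normal' (G := G) p
  set O := Cfsg.pCore p G with hO
  set π := QuotientGroup.mk' O
  have hOq : Cfsg.pCore p (G ⧸ O) = ⊥ := Cfsg.Lib.HallHigman.pCore_quotient_pCore
  obtain ⟨m, hm⟩ := IsPGroup.iff_card.1 (Cfsg.Lib.Components.isPGroup_pCore (G := G) p)
  have hkey : (Nat.card (G ⧸ O)).factorization p ≤ 1 := by
    by_cases hdvd : p ∣ Nat.card (G ⧸ O)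
    swap
    · rw [Nat.factorization_eq_zero_of_not_dvd hdvd]; exact Nat.zero_le _
    have hsolq : Group.IsSolvable (G ⧸ O) :=
      Group.isSolvable_of_surjective (QuotientGroup.mk'_surjective O)
    obtain ⟨y, hy, k, hk⟩ := exists_van (p := p) _ (G ⧸ O) rfl hsolq hOq hdvd
    obtain ⟨x, hx, j, hj⟩ := exists_p_lift π (QuotientGroup.mk'_surjective O)
      (show y ^ p ^ (k + 1) = 1 by rw [← hk, pow_orderOf_eq_one])
    have hxd : p ∣ orderOf x := (hk ▸ dvd_pow_self p k.succ_ne_zero : p ∣ orderOf y).trans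
      (hx ▸ orderOf_map_dvd π x)
    have hbj : b = p ^ j := (hb x (hy |> fun h => Van.lift π (QuotientGroup.mk'_surjective O) (hx.symm ▸ h)) hxd).symm.trans hj
    have hgood : Good p G := fun z hz hzd => by
      refine ⟨⟨j, (hb z hz hzd).trans hbj⟩, fun hne hv => hne ?_⟩
      have ho : orderOf z = b := hb z hz hzd
      obtain ⟨i, hi⟩ : ∃ i, orderOf (z ^ p) = p ^ i := by
        obtain ⟨i, -, hi⟩ := (Nat.dvd_prime_pow hp.out).1 ((orderOf_pow_dvd p).trans (ho.trans hbj).dvd)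
        exact ⟨i, hi⟩
      rcases i with _ | i
      · exact orderOf_eq_one_iff.1 (hi.trans (pow_zero p))
      · have h1 : orderOf (z ^ p) = b := hb _ hv (hi ▸ dvd_pow_self p i.succ_ne_zero)
        have h2 : orderOf (z ^ p) = orderOf z / p := by
          rw [orderOf_pow' z hp.out.ne_zero, Nat.gcd_eq_right hzd]
        rw [h1, ← ho] at h2
        have h3 := Nat.div_lt_self (orderOf_pos z) hp.out.one_lt
        omega
    exact factorization_le_one (p := p) _ (G ⧸ O) rfl hsolq hOq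
      (hgood.of_surjective π (QuotientGroup.mk'_surjective O))
  rw [P.card_eq_multiplicity, Subgroup.card_eq_card_quotient_mul_card_subgroup O,
    Nat.factorization_mul Nat.card_pos.ne' Nat.card_pos.ne', Finsupp.add_apply, hm,
    hp.out.factorization_pow, Finsupp.single_eq_same, ← pow_succ']
  exact Nat.pow_le_pow_right hp.out.pos (by omega)

end Cfsg.Lib.VanOrder
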