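import Mathlib
import Cfsg.Agent.Blocks.FongFullDefect
import Cfsg.Agent.Blocks.Reynolds
import Cfsg.Agent.Blocks.RationalExtension
import Cfsg.Agent.Chars.Gallagher
import Cfsg.Agent.Chars.Inertia
import Cfsg.Agent.GaschutzYen.Basic
import Cfsg.Agent.SolvStruct.CoprimeOrbits
import Cfsg.Agent.PGroups.Basic
import Cfsg.Agent.Coprime.Sylow
import Cfsg.Agent.Coprime.Fitting

/-!
# Central idempotents supported on `p`-regular elements of a `p`-solvable group

Such an idempotent has integral coefficients, so it is a sum of block idempotents.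
-/

set_option autoImplicit false
set_option linter.unusedSectionVars false
set_option linter.style.haveILetI false

namespace Cfsg.Lib.Blocks

open Cfsg Cfsg.Lib.Chars
open scoped ComplexConjugate

universe u

variable {G : Type u} [Group G] [Fintype G]

/-- Coefficients at inverse elements are conjugate. -/
def SelfAdj (a : MonoidAlgebra ℂ G) : Prop := ∀ g : G, fn a g⁻¹ = conj (fn a g)

lemma SelfAdj.sub {a b : MonoidAlgebra ℂ G} (ha : SelfAdj a) (hb : SelfAdj b) : SelfAdj (a - b) :=
  fun g => by rw [fn_sub, fn_sub, map_sub, ha, hb]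

lemma SelfAdj.mul_of_comm {a b : MonoidAlgebra ℂ G} (ha : SelfAdj a) (hb : SelfAdj b)
    (h : a * b = b * a) : SelfAdj (a * b) := fun g => by
  conv_rhs => rw [h]
  rw [fn_mul', fn_mul, map_sum]
  refine Fintype.sum_equiv (Equiv.inv G) _ _ fun t => ?_
  rw [map_mul, ← hb, ← ha]
  simp [mul_comm]

lemma selfAdj_blockElem (B : Set (IrrCharacter G)) : SelfAdj (blockElem B) := fun g => by
  classical
  simp only [fn_blockElem, blockCoeff_eq_sum, map_mul, map_inv₀, Complex.conj_natCast, map_sum]
  congr 1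
  refine Finset.sum_congr rfl fun χ _ => ?_
  rw [IsCharacter.conj_inv (isCharacter_of_irr χ.2), irr_apply_one_eq_deg, Complex.conj_natCast]

lemma selfAdj_bx (H : Subgroup G) [Fintype H] (b : Set (IrrCharacter H)) : SelfAdj (bx H b) :=
  fun g => by
  simp only [fn_bx, subgroupBlockCoeff]
  by_cases hg : g ∈ H
  · rw [dif_pos hg, dif_pos (H.inv_mem hg)]
    have h := selfAdj_blockElem b (⟨g, hg⟩ : H)
    rw [fn_blockElem, fn_blockElem] at h
    exact h
  · rw [dif_neg hg, dif_neg fun h => hg (by simpa using H.inv_mem h), map_zero]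

/-- Parseval for a self-adjoint idempotent. -/
lemma apply_one_eq_sum_normSq {a : MonoidAlgebra ℂ G} (hs : SelfAdj a) (haa : a * a = a) :
    fn a 1 = ((∑ g : G, Complex.normSq (fn a g) : ℝ) : ℂ) := by
  conv_lhs => rw [← haa, fn_mul]
  rw [Complex.ofReal_sum]
  exact Finset.sum_congr rfl fun g _ => by rw [mul_one, hs, Complex.mul_conj]

lemma eq_zero_of_apply_one {a : MonoidAlgebra ℂ G} (hs : SelfAdj a) (haa : a * a = a)
    (h1 : fn a 1 = 0) : a = 0 := by
  have h := apply_one_eq_sum_normSq hs haa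
  rw [h1, eq_comm, Complex.ofReal_eq_zero,
    Finset.sum_eq_zero_iff_of_nonneg fun g _ => Complex.normSq_nonneg _] at h
  exact fn_ext fun g => by rw [Complex.normSq_eq_zero.1 (h g (Finset.mem_univ _)), fn_zero]

/-- A central idempotent is the idempotent of a set of characters. -/
lemma eq_blockElem_of_idem {a : MonoidAlgebra ℂ G} (hc : IsCentralFn a) (haa : a * a = a) :
    a = blockElem {χ : IrrCharacter G | omega (χ : G → ℂ) a = 1} := by
  classical
  refine eq_of_omega_eq hc (isCentralFn_blockElem _) fun χ => ?_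
  rw [omega_blockElem]
  have h : IsIdempotentElem (omega (χ : G → ℂ) a) := by
    show _ * _ = _
    rw [← omega_mul χ hc, haa]
  split_ifs with h'
  · exact h'
  · exact (IsIdempotentElem.iff_eq_zero_or_one.1 h).resolve_right h'

lemma selfAdj_of_central_idem {a : MonoidAlgebra ℂ G} (hc : IsCentralFn a) (haa : a * a = a) :
    SelfAdj a := by
  rw [eq_blockElem_of_idem hc haa]; exact selfAdj_blockElem _

/-- The product with a central idempotent. -/
lemma mul_idem_of_central {a e : MonoidAlgebra ℂ G} (hc : IsCentralFn a) (haa : a * a = a)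
    (hee : e * e = e) : a * e * (a * e) = a * e := by
  rw [mul_assoc, ← mul_assoc e a e, ← hc.comm e, mul_assoc a e e, hee, ← mul_assoc, haa]

/-- Distinct irreducible characters of a subgroup have orthogonal idempotents. -/
lemma bx_singleton_mul {H : Subgroup G} [Fintype H] {φ φ' : IrrCharacter H} (h : φ ≠ φ') :
    bx H ({φ} : Set (IrrCharacter H)) * bx H {φ'} = 0 := by
  classical
  have h0 : blockElem ({φ} : Set (IrrCharacter H)) * blockElem {φ'} = 0 :=
    eq_zero_of_omega_eq_zero ((isCentralFn_blockElem _).mul (isCentralFn_blockElem _)) fun χ => by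
      rw [omega_mul χ (isCentralFn_blockElem _), omega_blockElem, omega_blockElem]
      simp only [Set.mem_singleton_iff]
      by_cases hχ : χ = φ
      · rw [if_neg (hχ ▸ h : ¬ χ = φ'), mul_zero]
      · rw [if_neg hχ, zero_mul]
  rw [bx_eq_extElem, bx_eq_extElem, extElem_mul, h0]
  refine fn_ext fun g => ?_
  by_cases hg : g ∈ H
  · rw [fn_extElem_mem H _ hg, fn_zero, fn_zero]
  · rw [fn_extElem_not_mem H _ hg, fn_zero]

/-- A central element times an idempotent is supported on any subgroup outside which the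
idempotent is orthogonal to its conjugates. -/
lemma suppOn_of_orth {a e : MonoidAlgebra ℂ G} {H K : Subgroup G} (hc : IsCentralFn a)
    (hee : e * e = e) (hs : SuppOn H e) (hHK : H ≤ K) (horth : ∀ x ∉ K, e * cj x e = 0) :
    SuppOn K (a * e) := by
  classical
  have h : a * e = ∑ y : G, e * MonoidAlgebra.single y (fn a y) * e := by
    rw [← Finset.sum_mul, ← Finset.mul_sum, ← eq_sum_single, ← hc.comm e, mul_assoc, hee]
  rw [h]
  refine SuppOn.sum _ fun y _ => ?_
  by_cases hy : y ∈ K
  · refine ((hs.mono hHK).mul (fun g hg => ?_)).mul (hs.mono hHK)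
    rw [fn_single, if_neg fun hyg : y = g => hg (hyg ▸ hy)]
  · have hcomm : MonoidAlgebra.single y (fn a y) * e = cj y e * MonoidAlgebra.single y (fn a y) :=
      fn_ext fun g => by
        rw [fn_single_mul, fn_mul_single, fn_cj, mul_comm]
        congr 2
        group
    rw [mul_assoc, hcomm, ← mul_assoc, horth y hy, zero_mul]
    exact fun g _ => fn_zero g

lemma fn_bx_singleton {H : Subgroup G} (φ : IrrCharacter H) (l : H) :
    fn (bx H ({φ} : Set (IrrCharacter H))) (l : G) =
      (Nat.card H : ℂ)⁻¹ * ((φ : H → ℂ) 1 * conj ((φ : H → ℂ) l)) := by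
  rw [fn_bx, subgroupBlockCoeff, dif_pos l.2, blockCoeff, finsum_mem_singleton]

/-- Elements of a coset of a `p'`-subgroup are `p`-singular with their image. -/
lemma singular_of_mem_coset {p : ℕ} [hp : Fact p.Prime] (N : Subgroup G) [N.Normal]
    (hN : ¬ p ∣ Nat.card N) {g h : G} (hg : p ∣ orderOf g) (hh : h ∈ N) : p ∣ orderOf (g * h) := by
  have h1 : orderOf g ∣ orderOf (QuotientGroup.mk' N g) * Nat.card N := by
    refine orderOf_dvd_of_pow_eq_one ?_
    rw [pow_mul]
    have : g ^ orderOf (QuotientGroup.mk' N g) ∈ N := by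
      rw [← QuotientGroup.eq_one_iff]
      exact (map_pow (QuotientGroup.mk' N) g _).trans (pow_orderOf_eq_one _)
    exact congrArg Subtype.val (pow_card_eq_one' (x := (⟨_, this⟩ : N)))
  have h2 : p ∣ orderOf (QuotientGroup.mk' N g) :=
    (hp.out.dvd_mul.1 (hg.trans h1)).resolve_right hN
  refine (h2.trans ?_)
  have e : QuotientGroup.mk' N g = QuotientGroup.mk' N (g * h) := by
    rw [map_mul, show QuotientGroup.mk' N h = 1 from (QuotientGroup.eq_one_iff h).2 hh, mul_one]
  rw [e]
  exact orderOf_map_dvd _ _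

/-- Two `p`-regular elements of a coset of `L` differ by an element killed by an invariant linear
character of `p`-power order. -/
lemma linear_eq_one_of_regular {p : ℕ} [hp : Fact p.Prime] {L : Subgroup G} [L.Normal]
    (lam : L →* ℂˣ) {k : ℕ} (hpow : ∀ l : L, lam l ^ p ^ k = 1) {y : G}
    (hy : ∀ l : L, lam (MulAut.conjNormal y l) = lam l) (hyr : ¬ p ∣ orderOf y) {m : L}
    (hmr : ¬ p ∣ orderOf (y * (m : G))) : lam m = 1 := by
  have hy' : ∀ l : L, lam (MulAut.conjNormal y⁻¹ l) = lam l := fun l => by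
    conv_rhs => rw [show l = MulAut.conjNormal y (MulAut.conjNormal y⁻¹ l) from Subtype.ext (by
      simp only [MulAut.conjNormal_apply]; group)]
    rw [hy]
  have hind : ∀ n : ℕ, ∃ l : L, (y * (m : G)) ^ n = y ^ n * (l : G) ∧ lam l = lam m ^ n := by
    intro n
    induction n with
    | zero => exact ⟨1, by simp, by simp⟩
    | succ n ih =>
      obtain ⟨l, hl, hll⟩ := ih
      refine ⟨MulAut.conjNormal y⁻¹ l * m, ?_, ?_⟩
      · rw [pow_succ, hl, pow_succ, Subgroup.coe_mul, MulAut.conjNormal_apply]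
        group
      · rw [map_mul, hy', hll, pow_succ]
  obtain ⟨l, hl, hll⟩ := hind (orderOf y * orderOf (y * (m : G)))
  rw [pow_mul y, pow_orderOf_eq_one, one_pow, one_mul,
    mul_comm (orderOf y) (orderOf (y * (m : G))), pow_mul, pow_orderOf_eq_one, one_pow] at hl
  rw [show l = 1 from Subtype.ext hl.symm, map_one] at hll
  have hcop : Nat.Coprime (p ^ k) (orderOf (y * (m : G)) * orderOf y) :=
    Nat.Coprime.pow_left k ((hp.out.coprime_iff_not_dvd.2 hmr).mul_right
      (hp.out.coprime_iff_not_dvd.2 hyr))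
  have h := pow_gcd_eq_one (m := p ^ k) (n := orderOf (y * (m : G)) * orderOf y)
    |>.mpr ⟨hpow m, by rw [mul_comm]; exact hll.symm⟩
  rwa [show Nat.gcd (p ^ k) (orderOf (y * (m : G)) * orderOf y) = 1 from hcop, pow_one] at h

/-- The invariant extension of an invariant character of the `p'`-core. -/
lemma exists_invariant_extension {p : ℕ} [Fact p.Prime] (N L : Subgroup G) [N.Normal] [L.Normal]
    [Fintype L] [Fintype N] (hNL : N ≤ L) (hN : (Nat.card N).Coprime p) {k : ℕ}
    (hLN : (N.subgroupOf L).index = p ^ k) {θ : N → ℂ} (hθ : IsIrrCharacter N θ)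
    (hinv : ∀ g : G, conjN N g θ = θ) :
    ∃ φ : IrrCharacter L, (∀ n : N, (φ : L → ℂ) ⟨(n : G), hNL n.2⟩ = θ n) ∧
      ∀ g : G, cjIrr L g φ = φ := by
  classical
  set N' := N.subgroupOf L with hN'
  haveI : N'.Normal := Subgroup.normal_subgroupOf
  letI : Fintype N' := Fintype.ofFinite _
  let eN := Subgroup.subgroupOfEquivOfLe hNL
  have hθ' : IsIrrCharacter N' (fun x => θ (eN x)) := IsIrrCharacter.comp_mulEquiv hθ eN
  have hinv' : ∀ a : L, conjN N' a (fun x => θ (eN x)) = fun x => θ (eN x) := fun a => by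
    funext x
    exact congrFun (hinv (a : G)) (eN x)
  set ϑ : N' → ℂ := fun x => θ (eN x) with hϑ
  obtain ⟨δ, hδ⟩ := detChar_is_hom (isCharacter_of_irr hθ')
  have h1 : Cfsg.detOrder ϑ ∣ Nat.card N' := by
    rw [Cfsg.detOrder, hδ, orderOf_linear δ]
    refine orderOf_dvd_of_pow_eq_one ?_
    ext n
    rw [MonoidHom.pow_apply, ← map_pow, pow_card_eq_one', map_one, MonoidHom.one_apply]
  have h2 : deg ϑ ∣ Nat.card N' := IsIrrCharacter.deg_dvd hθ'
  have hc : (Nat.card N').Coprime N'.index := by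
    rw [hLN, Nat.card_congr eN.toEquiv]; exact hN.pow_right k
  have hcop : Nat.Coprime N'.index (Cfsg.detOrder ϑ * deg ϑ) :=
    Nat.Coprime.mul_right (hc.symm.coprime_dvd_right h1) (hc.symm.coprime_dvd_right h2)
  obtain ⟨η, ⟨hη, hres, hdet⟩, huniq⟩ := exists_canonical_extension N' hθ' hinv'
    (IsCharacter.apply_one_eq_deg (isCharacter_of_irr hθ')) hcop
  refine ⟨⟨η, hη⟩, fun n => hres ⟨⟨(n : G), hNL n.2⟩, n.2⟩, fun g => Subtype.ext ?_⟩
  rw [cjIrr_val, conjN_eq_comp]
  refine huniq _ (IsIrrCharacter.comp_mulEquiv hη (MulAut.conjNormal g)) (fun n => ?_) ?_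
  · have hmem : g * ((n : L) : G) * g⁻¹ ∈ N := Subgroup.Normal.conj_mem ‹N.Normal› _ n.2 g
    have e : (MulAut.conjNormal g) (n : L) = (⟨⟨_, hNL hmem⟩, hmem⟩ : N') :=
      Subtype.ext (MulAut.conjNormal_apply g (n : L))
    rw [e]
    exact (hres ⟨⟨_, hNL hmem⟩, hmem⟩).trans (congrFun (hinv g) (eN n))
  · rw [detOrder_comp_mulEquiv (isCharacter_of_irr hη), hdet]
    exact (Nat.coprime_mul_iff_right.1 hcop).1

/-- **The core case**: under an invariant character of the `p'`-core a central idempotent supported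
on `p`-regular elements is trivial. -/
theorem idem_regular_of_invariant {p : ℕ} [Fact p.Prime] (hsolv : Cfsg.IsPSolvable p G)
    (N : Subgroup G) [N.Normal] [Fintype N] (hN : N = Cfsg.pPrimeCore p G) (θ : IrrCharacter N)
    (hinv : ∀ g : G, cjIrr N g θ = θ) {a : MonoidAlgebra ℂ G} (hc : IsCentralFn a) (haa : a * a = a)
    (hreg : ∀ x : G, p ∣ orderOf x → fn a x = 0) (hae : a * bx N {θ} = a) :
    a = 0 ∨ a = bx N {θ} := by
  classical
  have hp : p.Prime := Fact.out
  set π := QuotientGroup.mk' N with hπdef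
  have hπ : Function.Surjective π := QuotientGroup.mk'_surjective N
  have hNcop : (Nat.card N).Coprime p := by rw [hN]; exact Components.coprime_card_pPrimeCore p
  have hO : Cfsg.pPrimeCore p (G ⧸ N) = ⊥ := by
    rw [← Components.map_pPrimeCore_of_coprime_ker hπ (by rw [hπdef, QuotientGroup.ker_mk']; exact hNcop),
      ← hN, hπdef, Subgroup.map_eq_bot_iff, QuotientGroup.ker_mk']
  have hsolvQ : Cfsg.IsPSolvable p (G ⧸ N) := Cfsg.Lib.GaschutzYen.isPSolvable_quotient N hsolv
  set O := Cfsg.pCore p (G ⧸ N) with hOdef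
  haveI : O.Normal := Components.pCore_normal' p
  have hOp : IsPGroup p O := Components.isPGroup_pCore p
  have hCO := centralizer_pCore_le_of_isPSolvable p hsolvQ hO
  set L := O.comap π with hL
  haveI : L.Normal := Subgroup.Normal.comap inferInstance π
  letI : Fintype L := Fintype.ofFinite L
  have hNL : N ≤ L := fun n hn => by
    show π n ∈ O
    rw [show π n = 1 from (QuotientGroup.eq_one_iff n).2 hn]
    exact one_mem _
  obtain ⟨k, hk⟩ := IsPGroup.iff_card.1 hOp
  have hLN : (N.subgroupOf L).index = p ^ k := by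
    show N.relIndex L = p ^ k
    have e : (⊥ : Subgroup (G ⧸ N)).comap π = N := by
      rw [MonoidHom.comap_bot, hπdef, QuotientGroup.ker_mk']
    rw [← hk, congrArg (fun H => H.relIndex L) e.symm, Subgroup.relIndex_comap, hL,
      Subgroup.map_comap_eq_self_of_surjective hπ, Subgroup.relIndex_bot_left]
  haveI : (N.subgroupOf L).Normal := Subgroup.normal_subgroupOf
  have hregL : ∀ g ∈ L, ¬ p ∣ orderOf g → g ∈ N := fun g hg hgp =>
    mem_of_pRegular_of_index_eq_pow hp (N.subgroupOf L) hLN (g := ⟨g, hg⟩)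
      (by rwa [Subgroup.orderOf_mk])
  have hinv' : ∀ g : G, conjN N g (θ : N → ℂ) = θ := fun g => by
    rw [← cjIrr_val]; exact congrArg Subtype.val (hinv g)
  obtain ⟨φ, hφN, hφinv⟩ := exists_invariant_extension N L hNL hNcop hLN θ.2 hinv'
  set e := bx N ({θ} : Set (IrrCharacter N)) with he
  set e₀ := bx L ({φ} : Set (IrrCharacter L)) with he₀
  set f₀ := a * e₀ with hf₀
  have hae₀c : IsCentralFn e₀ := isCentralFn_bx fun x => by rw [Set.image_singleton, hφinv]
  have haS : SelfAdj a := selfAdj_of_central_idem hc haa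
  have hf₀S : SelfAdj f₀ := haS.mul_of_comm (selfAdj_bx L _) (hc.comm _)
  have hf₀i : f₀ * f₀ = f₀ := mul_idem_of_central hc haa (bx_mul_self _)
  have hasupp : ∀ l : L, fn a ((l : G))⁻¹ ≠ 0 → (l : G) ∈ N := fun l hl => by
    refine hregL _ l.2 fun hd => hl (hreg _ ?_)
    rwa [orderOf_inv]
  -- the support of `a e₀`
  have key : ∀ lam : L →* ℂˣ, (∀ l : L, (l : G) ∈ N → lam l = 1) → ∀ x : G,
      (∃ l : L, lam (MulAut.conjNormal x l) ≠ lam l) → fn f₀ x = 0 := by
    intro lam hlam x hx
    have hpow : ∀ l : L, lam l ^ p ^ k = 1 := fun l => by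
      rw [← map_pow, ← hLN]
      exact hlam _ (Subgroup.pow_index_mem (N.subgroupOf L) l)
    have hnorm : ∀ l : L, ‖(lam l : ℂ)‖ = 1 := fun l =>
      Complex.norm_eq_one_of_pow_eq_one (n := p ^ k)
        (by rw [← Units.val_pow_eq_pow_val, hpow, Units.val_one]) (pow_ne_zero _ hp.ne_zero)
    let K : Subgroup G :=
      { carrier := {y | ∀ l : L, lam (MulAut.conjNormal y l) = lam l}
        one_mem' := fun l => by rw [map_one]; rfl
        mul_mem' := fun {s t} hs ht l => by rw [map_mul, MulAut.mul_apply, hs, ht]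
        inv_mem' := fun {s} hs l => by
          rw [map_inv, ← hs ((MulAut.conjNormal s)⁻¹ l), MulAut.apply_inv_self] }
    have hxK : x ∉ K := fun h => hx.elim fun l hl => hl (h l)
    have hLK : L ≤ K := fun y hy l => by
      rw [show MulAut.conjNormal y l = ⟨y, hy⟩ * l * (⟨y, hy⟩ : L)⁻¹ from
        Subtype.ext (MulAut.conjNormal_apply y l), map_mul, map_mul, map_inv, mul_comm (lam ⟨y, hy⟩),
        mul_inv_cancel_right]
    set ψ : IrrCharacter L := ⟨(fun l => (lam l : ℂ)) * (φ : L → ℂ),
      IsIrrCharacter.mul_linear φ.2 lam⟩ with hψ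
    set eψ := bx L ({ψ} : Set (IrrCharacter L)) with heψ
    set fψ := a * eψ with hfψ
    have heψv : ∀ l : L, fn eψ (l : G) = conj (lam l : ℂ) * fn e₀ (l : G) := fun l => by
      rw [heψ, he₀, fn_bx_singleton, fn_bx_singleton]
      simp only [hψ, Pi.mul_apply, map_one, Units.val_one, one_mul, map_mul]
      ring
    have horth : ∀ y ∉ K, eψ * cj y eψ = 0 := fun y hy => by
      have e1 : cj y eψ = bx L ({cjIrr L y⁻¹ ψ} : Set (IrrCharacter L)) := by
        rw [← Set.image_singleton, bx_cjIrr, inv_inv]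
      rw [e1]
      refine bx_singleton_mul fun h => hy (K.inv_mem_iff.1 fun l => ?_)
      have h' : conjN L y⁻¹ (ψ : L → ℂ) = ψ := by rw [← cjIrr_val, ← h]
      have hφ' : ∀ l : L, (φ : L → ℂ) (MulAut.conjNormal y⁻¹ l) = (φ : L → ℂ) l := fun l => by
        have := congrFun (congrArg Subtype.val (hφinv y⁻¹)) l
        rwa [cjIrr_val, conjN_eq_comp] at this
      -- compare determinants
      set μ : L →* ℂˣ := lam.comp (MulAut.conjNormal y⁻¹ : L ≃* L).toMonoidHom with hμ
      have hfun : (fun l => (μ l : ℂ)) * (φ : L → ℂ) = (fun l => (lam l : ℂ)) * (φ : L → ℂ) := by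
        funext l
        have := congrFun h' l
        rw [conjN_eq_comp] at this
        simp only [hψ, Pi.mul_apply, hφ'] at this
        simpa [hμ] using this
      have hd := IsCharacter.apply_one_eq_deg (isCharacter_of_irr φ.2)
      obtain ⟨δ, hδ⟩ := detChar_is_hom (isCharacter_of_irr φ.2)
      have hdet := congrArg Cfsg.detChar hfun
      rw [detChar_linear_mul μ (isCharacter_of_irr φ.2) hd,
        detChar_linear_mul lam (isCharacter_of_irr φ.2) hd, hδ] at hdet
      have hd' : ∀ l : L, (μ l * (lam l)⁻¹) ^ deg (φ : L → ℂ) = 1 := fun l => by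
        have h3 := congrFun hdet l
        simp only [Pi.mul_apply, Pi.pow_apply] at h3
        rw [← Units.val_pow_eq_pow_val, ← Units.val_pow_eq_pow_val, ← Units.val_mul,
          ← Units.val_mul, Units.val_inj, mul_left_inj] at h3
        rw [mul_pow, inv_pow, h3, mul_inv_cancel]
      have hp' : ∀ l : L, (μ l * (lam l)⁻¹) ^ p ^ k = 1 := fun l => by
        rw [mul_pow, inv_pow, hpow, inv_one, mul_one]
        exact hpow _
      have hdN : deg (φ : L → ℂ) ∣ Nat.card N := by
        have e1 : deg (φ : L → ℂ) = deg (θ : N → ℂ) := by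
          apply Nat.cast_injective (R := ℂ)
          rw [← hd, ← IsCharacter.apply_one_eq_deg (isCharacter_of_irr θ.2), ← hφN 1]
          exact congrArg _ (Subtype.ext rfl)
        rw [e1]; exact IsIrrCharacter.deg_dvd θ.2
      have hcop : Nat.Coprime (p ^ k) (deg (φ : L → ℂ)) :=
        (Nat.Coprime.coprime_dvd_left hdN hNcop).symm.pow_left k
      have h4 := (pow_gcd_eq_one (m := p ^ k) (n := deg (φ : L → ℂ))).mpr ⟨hp' l, hd' l⟩
      rw [show Nat.gcd (p ^ k) (deg (φ : L → ℂ)) = 1 from hcop, pow_one, mul_inv_eq_one] at h4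
      exact h4
    have hsupp : SuppOn K fψ := suppOn_of_orth hc (bx_mul_self _) (suppOn_bx L _) hLK horth
    have hfS : SelfAdj fψ := haS.mul_of_comm (selfAdj_bx L _) (hc.comm _)
    have hfi : fψ * fψ = fψ := mul_idem_of_central hc haa (bx_mul_self _)
    have hrel : ∀ y ∈ K, ∀ l₀ : L, fn a (y * ((l₀ : G))⁻¹) ≠ 0 →
        fn fψ y = conj (lam l₀ : ℂ) * fn f₀ y := by
      intro y hy l₀ hl₀
      rw [hfψ, hf₀, fn_mul', fn_mul', Finset.mul_sum]
      refine Finset.sum_congr rfl fun l _ => ?_
      by_cases hlL : l ∈ L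
      · by_cases hal : fn a (y * l⁻¹) = 0
        · rw [hal, zero_mul, zero_mul, mul_zero]
        · rw [show fn eψ l = conj (lam ⟨l, hlL⟩ : ℂ) * fn e₀ l from heψv ⟨l, hlL⟩]
          have hm : lam (l₀ * (⟨l, hlL⟩ : L)⁻¹) = 1 := by
            refine linear_eq_one_of_regular lam hpow (y := y * (l₀ : G)⁻¹)
              (K.mul_mem hy (hLK (L.inv_mem l₀.2))) (fun h => hl₀ (hreg _ h)) fun h => hal (hreg _ ?_)
            simpa [mul_assoc] using h
          rw [map_mul, map_inv, mul_inv_eq_one] at hm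
          rw [hm]; ring
      · rw [suppOn_bx L _ l hlL, suppOn_bx L _ l hlL, mul_zero, mul_zero]
    have hzero : ∀ y : G, (∀ l : L, fn a (y * ((l : G))⁻¹) = 0) → fn f₀ y = 0 ∧ fn fψ y = 0 := by
      intro y hy
      constructor <;>
      · first | rw [hfψ, fn_mul'] | rw [hf₀, fn_mul']
        refine Finset.sum_eq_zero fun l _ => ?_
        by_cases hlL : l ∈ L
        · rw [hy ⟨l, hlL⟩, zero_mul]
        · first | rw [he₀, suppOn_bx L _ l hlL, mul_zero] | rw [heψ, suppOn_bx L _ l hlL, mul_zero]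
    have h1 : fn fψ 1 = fn f₀ 1 := by
      by_cases h : ∀ l : L, fn a (1 * ((l : G))⁻¹) = 0
      · rw [(hzero 1 h).1, (hzero 1 h).2]
      · push Not at h
        obtain ⟨l₀, hl₀⟩ := h
        rw [hrel 1 K.one_mem l₀ hl₀, hlam l₀ (hasupp l₀ (by simpa using hl₀))]
        simp
    have habs : ∀ y ∈ K, Complex.normSq (fn fψ y) = Complex.normSq (fn f₀ y) := by
      intro y hy
      by_cases h : ∀ l : L, fn a (y * ((l : G))⁻¹) = 0
      · rw [(hzero y h).1, (hzero y h).2]
      · push Not at h
        obtain ⟨l₀, hl₀⟩ := h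
        rw [hrel y hy l₀ hl₀, Complex.normSq_mul, Complex.normSq_conj, Complex.normSq_eq_norm_sq,
          hnorm, one_pow, one_mul]
    have hsum : ∑ y : G, Complex.normSq (fn fψ y) = ∑ y : G, Complex.normSq (fn f₀ y) := by
      rw [← Complex.ofReal_inj, ← apply_one_eq_sum_normSq hfS hfi,
        ← apply_one_eq_sum_normSq hf₀S hf₀i, h1]
    have hle : ∀ y ∈ (Finset.univ : Finset G),
        Complex.normSq (fn fψ y) ≤ Complex.normSq (fn f₀ y) := fun y _ => by
      by_cases hy : y ∈ K
      · exact (habs y hy).le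
      · rw [hsupp y hy, map_zero]; exact Complex.normSq_nonneg _
    have := (Finset.sum_eq_sum_iff_of_le hle).1 hsum x (Finset.mem_univ _)
    rw [hsupp x hxK, map_zero] at this
    exact Complex.normSq_eq_zero.1 this.symm
  -- the elements fixing every linear character lie in `L`
  let R : Subgroup G :=
    { carrier := {y | ∀ lam : L →* ℂˣ, (∀ l : L, (l : G) ∈ N → lam l = 1) →
        ∀ l : L, lam (MulAut.conjNormal y l) = lam l}
      one_mem' := fun lam _ l => by rw [map_one]; rfl
      mul_mem' := fun {s t} hs ht lam hl l => by rw [map_mul, MulAut.mul_apply, hs lam hl, ht lam hl]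
      inv_mem' := fun {s} hs lam hl l => by
        rw [map_inv, ← hs lam hl ((MulAut.conjNormal s)⁻¹ l), MulAut.apply_inv_self] }
  haveI hRn : R.Normal := ⟨fun r hr g lam hl l => by
    have h := hr (lam.comp (MulAut.conjNormal g : L ≃* L).toMonoidHom)
      (fun m hm => hl _ (by
        rw [MulEquiv.toMonoidHom_eq_coe, MonoidHom.coe_coe, MulAut.conjNormal_apply]
        exact Subgroup.Normal.conj_mem ‹N.Normal› _ hm g))
      ((MulAut.conjNormal g)⁻¹ l)
    simp only [MonoidHom.comp_apply, MulEquiv.toMonoidHom_eq_coe, MonoidHom.coe_coe] at h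
    rw [map_mul, map_mul, map_inv, MulAut.mul_apply, MulAut.mul_apply, h, MulAut.apply_inv_self]⟩
  have hRL : R ≤ L := by
    haveI : (R.map π).Normal := Subgroup.Normal.map hRn π hπ
    suffices hRp : IsPGroup p (R.map π) by
      intro r hr
      show π r ∈ O
      exact Components.le_pCore hRp ⟨r, hr, rfl⟩
    intro z
    obtain ⟨a', m, hm, horder⟩ := Nat.exists_eq_pow_mul_and_not_dvd (orderOf_pos z).ne' p hp.ne_one
    refine ⟨a', ?_⟩
    set w := z ^ p ^ a' with hw
    obtain ⟨r, hr, hrw⟩ := w.2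
    have hwm : (w : G ⧸ N) ^ m = 1 := by
      rw [hw, Subgroup.coe_pow, ← pow_mul, ← horder, ← Subgroup.coe_pow, pow_orderOf_eq_one,
        Subgroup.coe_one]
    set A := Subgroup.zpowers (w : G ⧸ N) with hA
    have hAcop : (Nat.card A).Coprime p := by
      rw [hA, Nat.card_zpowers]
      exact ((hp.coprime_iff_not_dvd.2 hm).symm).coprime_dvd_left (orderOf_dvd_of_pow_eq_one hwm)
    have hnorm : A ≤ Subgroup.normalizer (O : Set (G ⧸ N)) := by
      rw [Subgroup.normalizer_eq_top]; exact le_top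
    have hAO : (Nat.card A).Coprime (Nat.card (frattini O)) := by
      refine (hAcop.pow_right k).coprime_dvd_right ?_
      rw [← hk]; exact Subgroup.card_subgroup_dvd_card _
    have htriv : ∀ b ∈ A, ∀ o ∈ O, b * o * b⁻¹ * o⁻¹ ∈ (frattini O).map O.subtype := by
      intro b hb o ho
      have hbR : b ∈ R.map π := Subgroup.zpowers_le.2 w.2 hb
      obtain ⟨s, hs, rfl⟩ := hbR
      obtain ⟨t, rfl⟩ := hπ o
      have hcm : π s * π t * (π s)⁻¹ * (π t)⁻¹ ∈ O :=
        O.mul_mem (Subgroup.Normal.conj_mem ‹O.Normal› _ ho _) (O.inv_mem ho)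
      refine ⟨⟨_, hcm⟩, Cfsg.Lib.PGroups.commutator_le_frattini hOp ?_, rfl⟩
      by_contra hne
      have hne' : Abelianization.of (⟨_, hcm⟩ : O) ≠ 1 := by
        intro h; apply hne
        rw [← Abelianization.ker_of (G := O)]
        exact MonoidHom.mem_ker.2 h
      obtain ⟨μ, hμ⟩ := CommGroup.exists_apply_ne_one_of_hasEnoughRootsOfUnity (Abelianization O) ℂ hne'
      let q : L →* O := (π.comp L.subtype).codRestrict O fun l => l.2
      have hl1 : ∀ l : L, (l : G) ∈ N → (μ.comp (Abelianization.of.comp q)) l = 1 := fun l hl => by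
        have : q l = 1 := Subtype.ext ((QuotientGroup.eq_one_iff (l : G)).2 hl)
        rw [MonoidHom.comp_apply, MonoidHom.comp_apply, this, map_one, map_one]
      have h := hs _ hl1 ⟨t, ho⟩
      refine hμ ?_
      have hq : (⟨_, hcm⟩ : O) = q (MulAut.conjNormal s ⟨t, ho⟩) * (q ⟨t, ho⟩)⁻¹ :=
        Subtype.ext (by
          simp only [Subgroup.coe_mul, Subgroup.coe_inv, q]
          show π s * π t * (π s)⁻¹ * (π t)⁻¹ = π ↑(MulAut.conjNormal s (⟨t, ho⟩ : L)) * (π t)⁻¹
          rw [MulAut.conjNormal_apply, map_mul, map_mul, map_inv])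
      rw [hq, map_mul, map_inv, map_mul, map_inv, mul_inv_eq_one]
      exact h
    have hAC := Cfsg.Lib.Coprime.le_centralizer_of_frattini hnorm hAO htriv
    have hwO : (w : G ⧸ N) ∈ O := hCO (hAC (Subgroup.mem_zpowers _))
    exact Subtype.ext (Cfsg.Lib.Coprime.eq_one_of_coprime
      (N := O) (H := A) (by rw [hk]; exact (hAcop.pow_right k).symm) hwO (Subgroup.mem_zpowers _))
  have hf₀L : SuppOn L f₀ := fun x hx => by
    have hxR : x ∉ R := fun h => hx (hRL h)
    change ¬ (∀ lam : L →* ℂˣ, (∀ l : L, (l : G) ∈ N → lam l = 1) →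
        ∀ l : L, lam (MulAut.conjNormal x l) = lam l) at hxR
    push Not at hxR
    obtain ⟨lam, hlam, hl⟩ := hxR
    exact key lam hlam x hl
  -- `a e₀` is `0` or `e₀`
  set z := resElem L f₀ with hz
  have hzc : IsCentralFn z := (hc.mul hae₀c).resElem L
  have hzz : z * z = z := emb_injective L (by rw [emb_mul, emb_resElem L hf₀L, hf₀i])
  have hze : z * blockElem ({φ} : Set (IrrCharacter L)) = z := emb_injective L (by
    rw [emb_mul, emb_resElem L hf₀L, ← resElem_bx L ({φ} : Set (IrrCharacter L)),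
      emb_resElem L (suppOn_bx L _), hf₀, mul_assoc, bx_mul_self])
  have hf₀cases : f₀ = 0 ∨ f₀ = e₀ := by
    rw [← emb_resElem L hf₀L, ← hz]
    rcases IsIdempotentElem.iff_eq_zero_or_one.1
      (show IsIdempotentElem (omega (φ : L → ℂ) z) by show _ * _ = _; rw [← omega_mul φ hzc, hzz])
      with h | h
    · left
      rw [eq_zero_of_omega_eq_zero hzc fun χ => ?_, emb_zero]
      rw [← hze, omega_mul χ hzc, omega_blockElem]
      by_cases hχ : χ = φ
      · rw [hχ, h, zero_mul]
      · rw [if_neg (show χ ∉ ({φ} : Set (IrrCharacter L)) from hχ), mul_zero]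
    · right
      rw [eq_of_omega_eq hzc (isCentralFn_blockElem {φ}) fun χ => ?_,
        ← resElem_bx, emb_resElem L (suppOn_bx L _)]
      rw [← hze, omega_mul χ hzc]
      by_cases hχ : χ = φ
      · rw [hχ, h, one_mul]
      · rw [omega_blockElem, if_neg (show χ ∉ ({φ} : Set (IrrCharacter L)) from hχ), mul_zero]
  -- values at the identity
  set c : ℂ := ((N.subgroupOf L).index : ℂ) with hcdef
  have hNcard : (Nat.card L : ℂ) = (Nat.card N : ℂ) * c := by
    rw [hcdef, ← (N.subgroupOf L).card_mul_index,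
      Nat.card_congr (Subgroup.subgroupOfEquivOfLe hNL).toEquiv, Nat.cast_mul]
  have hc0 : c ≠ 0 := Nat.cast_ne_zero.2 Subgroup.index_ne_zero_of_finite
  have heN : ∀ n ∈ N, fn e n = c * fn e₀ n := fun n hn => by
    have hN0 : (Nat.card N : ℂ) ≠ 0 := Nat.cast_ne_zero.2 Nat.card_pos.ne'
    rw [show fn e n = _ from fn_bx_singleton θ ⟨n, hn⟩,
      show fn e₀ n = _ from fn_bx_singleton φ ⟨n, hNL hn⟩, hNcard, ← hφN ⟨n, hn⟩, ← hφN 1]
    rw [show (⟨((1 : N) : G), hNL (1 : N).2⟩ : L) = 1 from Subtype.ext rfl]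
    field_simp
  have ha1 : fn a 1 = c * fn f₀ 1 := by
    conv_lhs => rw [← hae]
    rw [hf₀, fn_mul', fn_mul', Finset.mul_sum]
    refine Finset.sum_congr rfl fun n _ => ?_
    by_cases hn : n ∈ N
    · rw [heN n hn]; ring
    · rw [he, suppOn_bx N _ n hn, mul_zero]
      by_cases hnL : n ∈ L
      · by_cases hz' : fn a (1 * n⁻¹) = 0
        · rw [hz', zero_mul, mul_zero]
        · exact absurd (hasupp ⟨n, hnL⟩ (by simpa using hz')) hn
      · rw [he₀, suppOn_bx L _ n hnL, mul_zero, mul_zero]
  rcases hf₀cases with h | h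
  · left
    exact eq_zero_of_apply_one haS haa (by rw [ha1, h, fn_zero, mul_zero])
  · right
    symm
    rw [← sub_eq_zero]
    refine eq_zero_of_apply_one ((selfAdj_bx N _).sub haS) ?_ ?_
    · rw [sub_mul, mul_sub, mul_sub, he, bx_mul_self, ← he, ← hc.comm e, hae, haa]
      abel
    · rw [fn_sub, ha1, h, heN 1 N.one_mem, sub_self]

variable {M : Ideal AlgInt}

/-- **A central idempotent supported on `p`-regular elements of a `p`-solvable group is
integral.** -/
theorem integral_of_idem_regular {p : ℕ} [Fact p.Prime] (hM : IsPModular p M) :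
    ∀ (n : ℕ) (G : Type u) [Group G] [Fintype G], Nat.card G = n → Cfsg.IsPSolvable p G →
      ∀ a : MonoidAlgebra ℂ G, IsCentralFn a → a * a = a →
        (∀ x : G, p ∣ orderOf x → fn a x = 0) → Integral M a := by
  intro n
  induction n using Nat.strong_induction_on with
  | _ n ih =>
  intro G _ _ hn hsolv a hc haa hreg
  classical
  haveI : (Cfsg.pPrimeCore p G).Normal := Components.pPrimeCore_normal' p
  set N := Cfsg.pPrimeCore p G with hN
  letI : Fintype N := Fintype.ofFinite N
  have hNp : ¬ p ∣ Nat.card N :=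
    (Fact.out : p.Prime).coprime_iff_not_dvd.1 (Components.coprime_card_pPrimeCore p).symm
  -- decompose along the characters of the core
  have h1 : (∑ θ : IrrCharacter N, blockElem ({θ} : Set (IrrCharacter N))) = 1 :=
    eq_of_omega_eq (IsCentralFn.sum _ _ fun θ _ => isCentralFn_blockElem _) isCentralFn_one
      fun χ => by
        rw [omega_sum, omega_one, Finset.sum_eq_single χ (fun θ _ hne => ?_)
          (fun h => absurd (Finset.mem_univ χ) h), omega_blockElem, if_pos (Set.mem_singleton χ)]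
        rw [omega_blockElem, if_neg]
        exact fun h => hne (Set.mem_singleton_iff.1 h).symm
  have hone : (∑ θ : IrrCharacter N, bx N ({θ} : Set (IrrCharacter N))) = 1 := fn_ext fun g => by
    rw [fn_sum, fn_one]
    by_cases hg : g ∈ N
    · have h := congrArg (fun z => fn z (⟨g, hg⟩ : N)) h1
      simp only [fn_sum, fn_one, fn_blockElem] at h
      rw [Finset.sum_congr rfl fun θ _ => show fn (bx N {θ}) g = blockCoeff {θ} (⟨g, hg⟩ : N) by
        rw [fn_bx, subgroupBlockCoeff, dif_pos hg], h]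
      exact if_congr ⟨fun e => congrArg Subtype.val e, fun e => Subtype.ext e⟩ rfl rfl
    · rw [Finset.sum_eq_zero fun θ _ => suppOn_bx N _ g hg, if_neg]
      exact fun e : (1 : G) = g => hg (e ▸ N.one_mem)
  have hsum : a = ∑ θ : IrrCharacter N, a * bx N ({θ} : Set (IrrCharacter N)) := by
    rw [← Finset.mul_sum, hone, mul_one]
  rw [hsum]
  intro g
  rw [fn_sum]
  refine sum_mem fun θ _ => ?_
  revert g
  set e := bx N ({θ} : Set (IrrCharacter N)) with he
  set f := a * e with hf
  have heint : Integral M e := integral_bx_of (integral_blockElem_pPrime hM hNp _)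
  have hfi : f * f = f := mul_idem_of_central hc haa (bx_mul_self _)
  have hfreg : ∀ x : G, p ∣ orderOf x → fn f x = 0 := fun x hx => by
    rw [hf, fn_mul']
    refine Finset.sum_eq_zero fun t _ => ?_
    by_cases ht : t ∈ N
    · rw [hreg _ (singular_of_mem_coset N hNp hx (N.inv_mem ht)), zero_mul]
    · rw [he, suppOn_bx N _ t ht, mul_zero]
  set T := inertia N (θ : N → ℂ) with hTd
  have hT : ∀ g, g ∈ T ↔ cjIrr N g θ = θ := fun g => by
    rw [hTd, mem_inertia, Subtype.ext_iff, cjIrr_val]
  by_cases hTtop : T = ⊤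
  · have hinv : ∀ g : G, cjIrr N g θ = θ := fun g => (hT g).1 (hTtop ▸ Subgroup.mem_top g)
    have hec : IsCentralFn e := isCentralFn_bx fun x => by rw [Set.image_singleton, hinv]
    have hfe : f * bx N {θ} = f := by rw [← he, hf, mul_assoc, he, bx_mul_self]
    rcases idem_regular_of_invariant hsolv N hN θ hinv (hc.mul hec) hfi hfreg hfe with h | h
    · rw [show f = 0 from h]; exact fun g => by rw [fn_zero]; exact zero_mem _
    · rw [show f = e from h]; exact heint
  · letI : Fintype T := Fintype.ofFinite T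
    have hNT : N ≤ T := le_inertia (isClassFunction_irr θ)
    have hfT : SuppOn T f := suppOn_of_orth hc (bx_mul_self _) (suppOn_bx N _) hNT fun x hx => by
      rw [show cj x e = bx N ({cjIrr N x⁻¹ θ} : Set (IrrCharacter N)) by
        rw [← Set.image_singleton, bx_cjIrr, inv_inv]]
      exact bx_singleton_mul fun h => hx (T.inv_mem_iff.1 ((hT _).2 h.symm))
    have hb : ∀ g, g ∈ T ↔ cjIrr N g '' ({θ} : Set (IrrCharacter N)) = {θ} := fun g => by
      rw [hT g, Set.image_singleton, Set.singleton_eq_singleton_iff]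
    have hfinv : InvOn T f := ((invOn_top_iff.2 hc).mono le_top).mul (invOn_bx_stab hb)
    set z := resElem T f with hz
    have hzc : IsCentralFn z := fun g h => by
      simp only [hz, fn_resElem, Subgroup.coe_mul, Subgroup.coe_inv]
      exact hfinv (h : G) h.2 g
    have hzz : z * z = z := emb_injective T (by rw [emb_mul, emb_resElem T hfT, hfi])
    have hlt : Nat.card T < n := by
      rw [← hn]
      exact lt_of_le_of_ne (Nat.le_of_dvd Nat.card_pos T.card_subgroup_dvd_card)
        fun h => hTtop (Subgroup.eq_top_of_card_eq _ h)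
    have hzint := ih _ hlt T rfl
      (Cfsg.Lib.SolvStruct.CoprimeOrbits.isPSolvable_subgroup hsolv Fact.out T) z hzc hzz
      fun x hx => by
        rw [hz, fn_resElem]
        exact hfreg _ (by rwa [Subgroup.orderOf_coe])
    intro g
    rw [← emb_resElem T hfT]
    by_cases hg : g ∈ T
    · rw [fn_emb_mem T _ hg]; exact hzint _
    · rw [fn_emb_not_mem T _ hg]; exact zero_mem _

/-- **Kiyota–Okuyama**: in a `p`-solvable group, a set of characters whose weighted sum vanishes
at `p`-singular elements is a union of blocks. -/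
theorem mem_of_sameBlock_of_vanishing {G : Type u} [Group G] [Fintype G] {p : ℕ} [Fact p.Prime]
    (hM : IsPModular p M) (hsolv : Cfsg.IsPSolvable p G) (U : Set (IrrCharacter G))
    (hU : ∀ x : G, p ∣ orderOf x → ∑ᶠ χ ∈ U, (χ : G → ℂ) 1 * (χ : G → ℂ) x = 0)
    {χ ψ : IrrCharacter G} (hχ : χ ∈ U) (h : SameBlock M (χ : G → ℂ) (ψ : G → ℂ)) : ψ ∈ U := by
  classical
  refine blockOf_subset_of_integral hM (integral_of_idem_regular hM _ G rfl hsolv (blockElem U)
    (isCentralFn_blockElem U) (blockElem_mul_self U) fun x hx => ?_) hχ h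
  rw [fn_blockElem, blockCoeff_eq_sum]
  have h0 := hU x⁻¹ (by rwa [orderOf_inv])
  rw [finsum_mem_eq_sum_of_inter_support_eq _
    (t := Finset.univ.filter (· ∈ U)) (by simp)] at h0
  rw [Finset.sum_congr rfl fun χ _ => by
    rw [show conj ((χ : G → ℂ) x) = (χ : G → ℂ) x⁻¹ from
      (IsCharacter.conj_inv (isCharacter_of_irr χ.2) x).symm], h0, mul_zero]

end Cfsg.Lib.Blocks
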